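import Cfsg.Agent.Lib.Char.Integrality

/-!
# Burnside's class size theorem
-/

set_option autoImplicit false
set_option linter.unusedSectionVars false

namespace CfsgLib.Char

open scoped ComplexConjugate
open Representation Module Cfsg

universe u v

variable {G : Type u} [Group G] [Finite G]

theorem irr_eq_one_of_trivial {V : Type v} [AddCommGroup V] [Module ℂ V] [FiniteDimensional ℂ V]
    (ρ : Representation ℂ G V) [hρ : ρ.IsIrreducible] (h : ∀ g, ρ g = LinearMap.id) :
    ρ.character = fun _ => 1 := by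
  have := nontrivial_of_irreducible ρ
  obtain ⟨v, hv⟩ := exists_ne (0 : V)
  let S : Subrepresentation ρ := ⟨ℂ ∙ v, fun g w hw => by rw [h g]; exact hw⟩
  rcases hρ.eq_bot_or_eq_top S with e | e
  · exact absurd (Submodule.span_singleton_eq_bot.mp (congrArg Subrepresentation.toSubmodule e)) hv
  · have hd : finrank ℂ V = 1 := by
      have e' : (ℂ ∙ v) = (⊤ : Submodule ℂ V) := congrArg Subrepresentation.toSubmodule e
      have := finrank_span_singleton (K := ℂ) hv
      rwa [e', finrank_top] at this
    funext g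
    rw [Representation.character, h g, LinearMap.trace_id, hd, Nat.cast_one]

/-- A finite group with a conjugacy class of prime power size is not non-abelian simple. -/
theorem comm_of_class_prime_pow [IsSimpleGroup G] {p k : ℕ} (hp : p.Prime) {g : G} (hg : g ≠ 1)
    (hclass : (Subgroup.centralizer ({g} : Set G)).index = p ^ k) (a b : G) : a * b = b * a := by
  classical
  have hzc : g ∈ Subgroup.center G → a * b = b * a := by
    intro hz
    rcases (Subgroup.center G).normal_of_characteristic.eq_bot_or_eq_top with e | e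
    · exact absurd (by rwa [e, Subgroup.mem_bot] at hz) hg
    · exact (Subgroup.mem_center_iff.mp (e ▸ Subgroup.mem_top b) a)
  rcases Nat.eq_zero_or_pos k with rfl | hk
  · refine hzc ?_
    rw [pow_zero, Subgroup.index_eq_one] at hclass
    exact Subgroup.mem_center_iff.mpr fun x =>
      (Subgroup.mem_centralizer_singleton_iff.mp (hclass ▸ Subgroup.mem_top x))
  have := Fintype.ofFinite (IrrCharacter G)
  have horth := sum_irr_mul_conj g (1 : G)
  rw [if_neg (fun h => hg (isConj_one_left.mp h))] at horth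
  have hex : ∃ χ : IrrCharacter G, (χ : G → ℂ) ≠ (fun _ => 1) ∧ (χ : G → ℂ) g ≠ 0 ∧
      ∀ d : ℕ, (χ : G → ℂ) 1 = d → ¬ p ∣ d := by
    by_contra hc
    push Not at hc
    let one : IrrCharacter G := ⟨fun _ => 1, isIrrCharacter_one⟩
    rw [← Finset.add_sum_erase _ _ (Finset.mem_univ one)] at horth
    simp only [one, map_one, mul_one] at horth
    have hterm : ∀ χ ∈ (Finset.univ : Finset (IrrCharacter G)).erase one,
        ∃ t : ℂ, IsIntegral ℤ t ∧ (χ : G → ℂ) g * conj ((χ : G → ℂ) 1) = p * t := by
      intro χ hχ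
      obtain ⟨d, _, hd⟩ := isIrrCharacter_degree χ.2
      rw [hd, map_natCast]
      by_cases h0 : (χ : G → ℂ) g = 0
      · exact ⟨0, isIntegral_zero, by rw [h0]; simp⟩
      obtain ⟨d', hd', ⟨c, hc'⟩⟩ := hc χ
        (fun e => (Finset.mem_erase.mp hχ).1 (Subtype.ext e)) h0
      have hdd : d = d' := by exact_mod_cast hd.symm.trans hd'
      refine ⟨(χ : G → ℂ) g * c, (isCharacter_isIntegral (isCharacter_irr χ) g).mul
        (isIntegral_algebraMap (R := ℤ) (x := (c : ℤ))), ?_⟩
      rw [hdd, hc', Nat.cast_mul]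
      ring
    choose t ht hte using hterm
    rw [← Finset.sum_attach _ (fun χ : IrrCharacter G => (χ : G → ℂ) g * conj ((χ : G → ℂ) 1)),
      Finset.sum_congr rfl (fun χ _ => hte χ.1 χ.2), ← Finset.mul_sum] at horth
    set T := ∑ χ ∈ ((Finset.univ : Finset (IrrCharacter G)).erase one).attach, t χ.1 χ.2 with hT
    have hTint : IsIntegral ℤ T := IsIntegral.sum _ fun χ _ => ht _ _
    have hTq : T = algebraMap ℚ ℂ (-1 / p) := by
      have hp0 : (p : ℂ) ≠ 0 := by exact_mod_cast hp.ne_zero
      rw [map_div₀, map_neg, map_one, map_natCast, eq_div_iff hp0]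
      linear_combination horth
    rw [hTq, isIntegral_algebraMap_iff (algebraMap ℚ ℂ).injective,
      IsIntegrallyClosed.isIntegral_iff] at hTint
    obtain ⟨z, hz⟩ := hTint
    rw [eq_intCast, eq_div_iff (by exact_mod_cast hp.ne_zero)] at hz
    have hz' : z * (p : ℤ) = -1 := by exact_mod_cast hz
    have hdvd : (p : ℤ) ∣ 1 := ⟨-z, by linear_combination hz'⟩
    exact hp.one_lt.ne' (Nat.dvd_one.mp (by exact_mod_cast hdvd))
  obtain ⟨⟨χ, n, ρ, hρ, rfl⟩, hne, hg0, hdeg⟩ := hex
  have hcop : Nat.Coprime (finrank ℂ (Fin n → ℂ)) (Subgroup.centralizer ({g} : Set G)).index := by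
    rw [hclass]
    exact ((hp.coprime_iff_not_dvd.mpr (hdeg _ (Representation.char_one ρ))).symm).pow_right k
  rcases char_zero_or_norm_eq_degree ρ g hcop with h | h
  · exact absurd h hg0
  obtain ⟨ω, hω⟩ := (norm_char_eq_iff ρ g).mp h
  have hker : (MonoidHom.ker ρ) = ⊥ := by
    rcases (MonoidHom.normal_ker ρ).eq_bot_or_eq_top with e | e
    · exact e
    · exact absurd (irr_eq_one_of_trivial ρ fun x => MonoidHom.mem_ker.mp (e ▸ Subgroup.mem_top x)) hne
  refine hzc (Subgroup.mem_center_iff.mpr fun x => ?_)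
  refine (MonoidHom.ker_eq_bot_iff ρ).mp hker ?_
  rw [map_mul, map_mul, hω]
  ext v
  simp [Module.End.mul_apply]

/-- Burnside's `p^a q^b` theorem. -/
theorem isSolvable_of_card_two_primes {p q : ℕ} (hp : p.Prime) (hq : q.Prime) :
    ∀ (H : Type u) [Group H] [Finite H] (a b : ℕ), Nat.card H = p ^ a * q ^ b →
      Group.IsSolvable H := by
  intro H _ _ a b hH
  induction hn : Nat.card H using Nat.strong_induction_on generalizing H a b with
  | _ n ih =>
    subst hn
    have key : ∀ c : ℕ, c ∣ Nat.card H → ∃ i j, c = p ^ i * q ^ j := by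
      intro c hc
      rw [hH] at hc
      obtain ⟨c1, c2, h1, h2, rfl⟩ := Nat.dvd_mul.mp hc
      obtain ⟨i, _, rfl⟩ := (Nat.dvd_prime_pow hp).mp h1
      obtain ⟨j, _, rfl⟩ := (Nat.dvd_prime_pow hq).mp h2
      exact ⟨i, j, rfl⟩
    by_cases hN : ∃ N : Subgroup H, N.Normal ∧ N ≠ ⊥ ∧ N ≠ ⊤
    · obtain ⟨N, hNn, hNb, hNt⟩ := hN
      have h1 : Nat.card N < Nat.card H := by
        rcases Nat.lt_or_ge (Nat.card N) (Nat.card H) with h | h
        · exact h
        · exact absurd (Subgroup.eq_top_of_card_eq N (le_antisymm (Subgroup.card_le_card_group N) h)) hNt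
      have h2 : Nat.card (H ⧸ N) < Nat.card H := by
        rw [Subgroup.card_eq_card_quotient_mul_card_subgroup N]
        refine lt_mul_of_one_lt_right Nat.card_pos ?_
        exact Subgroup.one_lt_card_iff_ne_bot N |>.mpr hNb
      obtain ⟨i, j, hij⟩ := key _ (Subgroup.card_subgroup_dvd_card N)
      obtain ⟨i', j', hij'⟩ := key _ (Subgroup.card_quotient_dvd_card N)
      have s1 := ih _ h1 N i j hij rfl
      have s2 := ih _ h2 (H ⧸ N) i' j' hij' rfl
      exact Group.isSolvable_of_ker_le_range N.subtype (QuotientGroup.mk' N) (by simp)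
    push Not at hN
    rcases subsingleton_or_nontrivial H with hs | hnt
    · infer_instance
    have : IsSimpleGroup H := ⟨fun N hNn => or_iff_not_imp_left.mpr (hN N hNn)⟩
    apply Group.isSolvable_of_comm
    obtain ⟨r, hr, hrdvd⟩ := Nat.exists_prime_and_dvd (Finite.one_lt_card (α := H)).ne'
    have : Fact r.Prime := ⟨hr⟩
    obtain ⟨R⟩ := (inferInstance : Nonempty (Sylow r H))
    have hRnt : Nontrivial R := by
      rw [← Finite.one_lt_card_iff_nontrivial, R.card_eq_multiplicity]
      exact Nat.one_lt_pow (Nat.pos_iff_ne_zero.mp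
        (hr.factorization_pos_of_dvd Nat.card_pos.ne' hrdvd)) hr.one_lt
    have hc := IsPGroup.center_nontrivial R.isPGroup'
    obtain ⟨z, hz⟩ := exists_ne (1 : Subgroup.center R)
    set g : H := ((z : R) : H) with hg
    have hg1 : g ≠ 1 := fun e => hz (Subtype.ext (Subtype.ext e))
    have hle : (R : Subgroup H) ≤ Subgroup.centralizer ({g} : Set H) := fun x hx =>
      Subgroup.mem_centralizer_singleton_iff.mpr
        (congrArg Subtype.val (Subgroup.mem_center_iff.mp z.2 ⟨x, hx⟩))
    have hidx : (Subgroup.centralizer ({g} : Set H)).index ∣ (R : Subgroup H).index :=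
      Subgroup.index_dvd_of_le hle
    have hnd := R.not_dvd_index
    obtain ⟨i, j, hij⟩ := key _ (R : Subgroup H).index_dvd_card
    rw [hij] at hidx hnd
    have hrpq : r = p ∨ r = q := by
      rcases hr.dvd_mul.mp (hH ▸ hrdvd) with h | h
      · exact Or.inl ((Nat.prime_dvd_prime_iff_eq hr hp).mp (hr.dvd_of_dvd_pow h))
      · exact Or.inr ((Nat.prime_dvd_prime_iff_eq hr hq).mp (hr.dvd_of_dvd_pow h))
    rcases hrpq with rfl | rfl
    · have hi : i = 0 := by
        by_contra hi
        exact hnd (dvd_mul_of_dvd_left (dvd_pow_self _ hi) _)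
      rw [hi, pow_zero, one_mul] at hidx
      obtain ⟨k, _, hk⟩ := (Nat.dvd_prime_pow hq).mp hidx
      exact comm_of_class_prime_pow hq hg1 hk
    · have hj : j = 0 := by
        by_contra hj
        exact hnd (dvd_mul_of_dvd_right (dvd_pow_self _ hj) _)
      rw [hj, pow_zero, mul_one] at hidx
      obtain ⟨k, _, hk⟩ := (Nat.dvd_prime_pow hp).mp hidx
      exact comm_of_class_prime_pow hp hg1 hk

end CfsgLib.Char
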