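import Cfsg.Agent.Lib.Char.Orthogonality

/-!
# Galois twists of characters

`Alg` is the field of algebraic numbers inside `ℂ`; its embeddings act on character values by
`χ g ↦ χ (g ^ m)` with `m` prime to the group order.
-/

set_option autoImplicit false

namespace CfsgLib.Char

open scoped ComplexConjugate
open Representation Module Cfsg

universe u v

/-- The field of algebraic numbers in `ℂ`. -/
noncomputable abbrev Alg : IntermediateField ℚ ℂ := algebraicClosure ℚ ℂ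

theorem mem_alg_of_isIntegral {a : ℂ} (h : IsIntegral ℤ a) : a ∈ Alg :=
  mem_algebraicClosure_iff'.mpr h.tower_top

theorem isAlgebraic_alg : Algebra.IsAlgebraic ℚ Alg := algebraicClosure.isAlgebraic ℚ ℂ

/-- An embedding of the algebraic numbers raises every `n`-th root of unity to a fixed power. -/
theorem exists_twist (φ : Alg →ₐ[ℚ] ℂ) (n : ℕ) (hn : n ≠ 0) :
    ∃ m : ℕ, m.Coprime n ∧ ∀ x : Alg, x ^ n = 1 → φ x = (x : ℂ) ^ m := by
  have : NeZero n := ⟨hn⟩
  have hζ := Complex.isPrimitiveRoot_exp n hn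
  set ζ := Complex.exp (2 * Real.pi * Complex.I / n)
  let ζK : Alg := ⟨ζ, mem_alg_of_isIntegral (hζ.isIntegral (Nat.pos_of_ne_zero hn))⟩
  have hK : IsPrimitiveRoot ζK n :=
    IsPrimitiveRoot.of_map_of_injective (f := algebraMap Alg ℂ) hζ (algebraMap Alg ℂ).injective
  have hφ : IsPrimitiveRoot (φ ζK) n := hK.map_of_injective φ.injective
  obtain ⟨m, hm, hmn, he⟩ := hζ.isPrimitiveRoot_iff.mp hφ
  refine ⟨m, hmn, fun x hx => ?_⟩
  obtain ⟨i, _, rfl⟩ := hK.eq_pow_of_pow_eq_one hx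
  rw [map_pow, ← he, IntermediateField.coe_pow, ← pow_mul, ← pow_mul, mul_comm]

/-- Every power map prime to `n` comes from an embedding. -/
theorem exists_embedding_of_coprime (n : ℕ) (hn : n ≠ 0) (m : ℕ) (hm : m.Coprime n) :
    ∃ φ : Alg →ₐ[ℚ] ℂ, ∀ x : Alg, x ^ n = 1 → φ x = (x : ℂ) ^ m := by
  have : NeZero n := ⟨hn⟩
  have := isAlgebraic_alg
  have hζ := Complex.isPrimitiveRoot_exp n hn
  set ζ := Complex.exp (2 * Real.pi * Complex.I / n)
  let ζK : Alg := ⟨ζ, mem_alg_of_isIntegral (hζ.isIntegral (Nat.pos_of_ne_zero hn))⟩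
  have hK : IsPrimitiveRoot ζK n :=
    IsPrimitiveRoot.of_map_of_injective (f := algebraMap Alg ℂ) hζ (algebraMap Alg ℂ).injective
  have hp := hζ.pow_of_coprime m hm
  have hroot : ζ ^ m ∈ (minpoly ℚ ζK).rootSet ℂ := by
    rw [← minpoly.algebraMap_eq (algebraMap Alg ℂ).injective ζK, Polynomial.mem_rootSet]
    refine ⟨minpoly.ne_zero ((hζ.isIntegral (Nat.pos_of_ne_zero hn)).tower_top), ?_⟩
    show Polynomial.aeval (ζ ^ m) (minpoly ℚ ζ) = 0
    rw [← Polynomial.cyclotomic_eq_minpoly_rat hζ (Nat.pos_of_ne_zero hn),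
      Polynomial.cyclotomic_eq_minpoly_rat hp (Nat.pos_of_ne_zero hn)]
    exact minpoly.aeval ℚ _
  rw [← Algebra.IsAlgebraic.range_eval_eq_rootSet_minpoly (A := ℂ) ζK] at hroot
  obtain ⟨φ, hφ⟩ := hroot
  refine ⟨φ, fun x hx => ?_⟩
  obtain ⟨i, _, rfl⟩ := hK.eq_pow_of_pow_eq_one hx
  have hφ' : φ ζK = ζ ^ m := hφ
  rw [map_pow, hφ', IntermediateField.coe_pow, ← pow_mul, ← pow_mul, mul_comm]

/-- An algebraic number fixed by all embeddings is rational. -/
theorem exists_rat_of_fixed (x : Alg) (h : ∀ φ : Alg →ₐ[ℚ] ℂ, φ x = (x : ℂ)) :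
    ∃ q : ℚ, (x : ℂ) = q := by
  have := isAlgebraic_alg
  have hint : IsIntegral ℚ x := Algebra.IsIntegral.isIntegral x
  have hsub : ((minpoly ℚ x).rootSet ℂ) ⊆ {(x : ℂ)} := by
    rw [← Algebra.IsAlgebraic.range_eval_eq_rootSet_minpoly (A := ℂ) x]
    rintro _ ⟨φ, rfl⟩
    exact h φ
  have hcard : (minpoly ℚ x).natDegree ≤ 1 := by
    rw [← Polynomial.card_rootSet_eq_natDegree (K := ℂ) (minpoly.irreducible hint).separable
      (IsAlgClosed.splits _)]
    rw [← Nat.card_eq_fintype_card]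
    exact (Nat.card_mono (Set.finite_singleton _) hsub).trans (by simp)
  have hdeg : (minpoly ℚ x).natDegree = 1 :=
    le_antisymm hcard (minpoly.natDegree_pos hint)
  obtain ⟨q, hq⟩ := minpoly.natDegree_eq_one_iff.mp hdeg
  exact ⟨q, by rw [← hq]; simp⟩

/-- An algebraic integer fixed by all embeddings is an integer. -/
theorem exists_int_of_fixed {a : ℂ} (ha : IsIntegral ℤ a)
    (h : ∀ φ : Alg →ₐ[ℚ] ℂ, φ ⟨a, mem_alg_of_isIntegral ha⟩ = a) : ∃ z : ℤ, a = z := by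
  obtain ⟨q, hq⟩ := exists_rat_of_fixed ⟨a, mem_alg_of_isIntegral ha⟩ h
  have hq' : a = algebraMap ℚ ℂ q := by simpa using hq
  have hint : IsIntegral ℤ q := (isIntegral_algebraMap_iff (algebraMap ℚ ℂ).injective).mp (hq' ▸ ha)
  obtain ⟨z, hz⟩ := IsIntegrallyClosed.isIntegral_iff.mp hint
  exact ⟨z, by rw [hq', ← hz]; simp⟩

variable {G : Type u} [Group G] [Finite G]

theorem char_apply_embedding {V : Type v} [AddCommGroup V] [Module ℂ V] [FiniteDimensional ℂ V]
    (ρ : Representation ℂ G V) (φ : Alg →ₐ[ℚ] ℂ) (m : ℕ)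
    (hpow : ∀ x : Alg, x ^ Nat.card G = 1 → φ x = (x : ℂ) ^ m) (g : G) (x : Alg)
    (hx : (x : ℂ) = ρ.character g) : φ x = ρ.character (g ^ m) := by
  obtain ⟨b, μ, h1, _, h3⟩ := exists_eigen_data ρ g
  let μK : Fin (finrank ℂ V) → Alg := fun i =>
    ⟨μ i, mem_alg_of_isIntegral (isIntegral_of_pow_eq_one (orderOf_pos g).ne' (h1 i))⟩
  have hμ : ∀ i, μK i ^ Nat.card G = 1 := fun i => by
    obtain ⟨k, hk⟩ := orderOf_dvd_natCard g
    apply Subtype.ext
    rw [IntermediateField.coe_pow, hk, pow_mul, h1]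
    simp
  have e := h3 1
  simp only [pow_one] at e
  have hxe : x = ∑ i, μK i := Subtype.ext (by simp [hx, e, μK])
  rw [hxe, map_sum, h3]
  exact Finset.sum_congr rfl fun i _ => hpow _ (hμ i)


/-- Character values are algebraic numbers, and an embedding acts on them as a power map of `G`. -/
theorem exists_char_twist (φ : Alg →ₐ[ℚ] ℂ) :
    ∃ m : ℕ, m.Coprime (Nat.card G) ∧ ∀ χ : G → ℂ, IsCharacter G χ → ∀ g : G, ∀ x : Alg,
      (x : ℂ) = χ g → φ x = χ (g ^ m) := by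
  obtain ⟨m, hm, hpow⟩ := exists_twist φ (Nat.card G) Nat.card_pos.ne'
  refine ⟨m, hm, ?_⟩
  rintro χ ⟨n, ρ, rfl⟩ g x hx
  exact char_apply_embedding ρ φ m hpow g x hx

end CfsgLib.Char
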