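import Cfsg.Agent.Lib.Char.Brauer

/-!
# Twisting characters by power maps prime to the group order
-/

set_option autoImplicit false
set_option linter.unusedSectionVars false

namespace CfsgLib.Char

open scoped ComplexConjugate
open Representation Module Cfsg

universe u

variable {G : Type u} [Group G] [Fintype G] {m : ℕ}

theorem indFun_powMap (hm : Nat.Coprime (Nat.card G) m) (H : Subgroup G) (θ : H → ℂ) (g : G) :
    indFun H θ (g ^ m) = indFun H (fun h : H => θ (h ^ m)) g := by
  classical
  simp only [indFun]
  congr 1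
  refine Finset.sum_congr rfl fun x _ => ?_
  have hp : x⁻¹ * g ^ m * x = (x⁻¹ * g * x) ^ m := by
    have := conj_pow (a := x⁻¹) (b := g) (i := m)
    rw [inv_inv] at this
    rw [this]
  rw [hp]
  by_cases hy : x⁻¹ * g * x ∈ H
  · rw [extendByZero_mem H _ hy, extendByZero_mem H _ (H.pow_mem hy m)]
    exact congrArg θ (Subtype.ext (by rw [SubgroupClass.coe_pow]))
  · have hy' : (x⁻¹ * g * x) ^ m ∉ H := fun h => hy (by
      have hcop : Nat.Coprime (Nat.card G) m := hm
      have h2 : ((powCoprime hcop).symm ((x⁻¹ * g * x) ^ m)) = x⁻¹ * g * x :=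
        (powCoprime hcop).symm_apply_apply _
      rw [← h2, powCoprime_symm_apply]
      exact H.zpow_mem h _)
    rw [extendByZero_not_mem H _ hy, extendByZero_not_mem H _ hy']

theorem isGeneralizedCharacter_powMap (hm : Nat.Coprime (Nat.card G) m) {χ : G → ℂ}
    (hχ : IsGeneralizedCharacter G χ) : IsGeneralizedCharacter G (fun g => χ (g ^ m)) := by
  obtain ⟨l, -, rfl⟩ := exists_monomial_list hχ
  clear hχ
  induction l with
  | nil => exact isGeneralizedCharacter_zero
  | cons t l ih =>
    simp only [List.map_cons, List.sum_cons, Pi.add_apply] at ih ⊢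
    refine isGeneralizedCharacter_add ?_ ih
    have h : (fun g => ((t.2.2 : ℂ) • indFun t.1 (fun e => (t.2.1 e : ℂ))) (g ^ m)) =
        (t.2.2 : ℂ) • indFun t.1 (fun e => ((t.2.1 ^ m) e : ℂ)) := by
      funext g
      rw [Pi.smul_apply, indFun_powMap hm, Pi.smul_apply]
      congr 2
      funext e
      rw [map_pow, MonoidHom.pow_apply]
    rw [h]
    exact isGeneralizedCharacter_zsmul (isGeneralizedCharacter_indFun _
      (isGeneralizedCharacter_of_isCharacter (isCharacter_of_isIrr (isIrrCharacter_lin _)))) _

theorem classInner_powMap (hm : Nat.Coprime (Nat.card G) m) (f h : G → ℂ) :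
    classInner (fun g => f (g ^ m)) (fun g => h (g ^ m)) = classInner f h := by
  simp only [classInner]
  congr 1
  exact Fintype.sum_bijective _ (powCoprime hm).bijective _ _ fun g => rfl

theorem isIrrCharacter_powMap (hm : Nat.Coprime (Nat.card G) m) (χ : IrrCharacter G) :
    IsIrrCharacter G (fun g => (χ : G → ℂ) (g ^ m)) := by
  refine isIrr_of_norm_one (isGeneralizedCharacter_powMap hm
    (isGeneralizedCharacter_of_isCharacter (isCharacter_irr χ))) ?_ ?_
  · rw [classInner_powMap hm, classInner_irr_self]
  · obtain ⟨d, hd, hd'⟩ := isIrrCharacter_degree χ.2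
    rw [one_pow, hd', Complex.natCast_re]
    exact_mod_cast hd

theorem isCharacter_powMap (hm : Nat.Coprime (Nat.card G) m) {χ : G → ℂ} (hχ : IsCharacter G χ) :
    IsCharacter G (fun g => χ (g ^ m)) := by
  obtain ⟨l, rfl⟩ := exists_list_irr hχ
  clear hχ
  induction l with
  | nil => exact isCharacter_zero
  | cons ψ l ih => exact isCharacter_add (isCharacter_of_isIrr (isIrrCharacter_powMap hm ψ)) ih

end CfsgLib.Char
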