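import Cfsg.Agent.Lib.Char.CyclicTIBasic
import Cfsg.Agent.Lib.Char.PowTwist
import Cfsg.Agent.Lib.Char.Galois

/-!
# Consequences of the cyclic trivial-intersection theorem
-/

set_option autoImplicit false
set_option linter.unusedSectionVars false

namespace CfsgLib.Char

open scoped ComplexConjugate
open Representation Module Cfsg

universe u

variable {G : Type u} [Group G] [Fintype G]

theorem signed_irr_data {f : G → ℂ} (hf : IsIrrCharacter G f ∨ IsIrrCharacter G (-f)) :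
    ∃ (k : IrrCharacter G) (s : ℂ), (s = 1 ∨ s = -1) ∧ f = s • (k : G → ℂ) := by
  rcases hf with h | h
  · exact ⟨⟨f, h⟩, 1, Or.inl rfl, (one_smul _ _).symm⟩
  · exact ⟨⟨-f, h⟩, -1, Or.inr rfl, by simp⟩

theorem signed_irr_inner_zero {f h : G → ℂ} (hf : IsIrrCharacter G f ∨ IsIrrCharacter G (-f))
    (hh : IsIrrCharacter G h ∨ IsIrrCharacter G (-h)) (hne : classInner f h ≠ 0) :
    ∃ s : ℂ, (s = 1 ∨ s = -1) ∧ f = s • h ∧ classInner f h = s := by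
  classical
  obtain ⟨k, s, hs, rfl⟩ := signed_irr_data hf
  obtain ⟨l, t, ht, rfl⟩ := signed_irr_data hh
  have hkl : k = l := by
    by_contra h
    simp [classInner_smul_left, classInner_smul_right, classInner_irr_ne h] at hne
  subst hkl
  refine ⟨s * t, ?_, ?_, ?_⟩
  · rcases hs with rfl | rfl <;> rcases ht with rfl | rfl <;> simp
  · rw [smul_smul]
    congr 1
    rcases ht with rfl | rfl <;> ring
  · rw [classInner_smul_left, classInner_smul_right, classInner_irr_self]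
    rcases ht with rfl | rfl <;> simp

theorem signed_irr_generalized {f : G → ℂ} (hf : IsIrrCharacter G f ∨ IsIrrCharacter G (-f)) :
    IsGeneralizedCharacter G f := by
  rcases hf with h | h
  · exact isGeneralizedCharacter_of_isCharacter (isCharacter_of_isIrr h)
  · rw [← neg_neg f]
    exact isGeneralizedCharacter_neg (isGeneralizedCharacter_of_isCharacter (isCharacter_of_isIrr h))

theorem signed_irr_powMap {m : ℕ} (hm : Nat.Coprime (Nat.card G) m) {f : G → ℂ}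
    (hf : IsIrrCharacter G f ∨ IsIrrCharacter G (-f)) :
    IsIrrCharacter G (fun g => f (g ^ m)) ∨ IsIrrCharacter G (-fun g => f (g ^ m)) := by
  rcases hf with h | h
  · exact Or.inl (isIrrCharacter_powMap hm ⟨f, h⟩)
  · exact Or.inr (isIrrCharacter_powMap hm ⟨-f, h⟩)

variable {W₁ W₂ : Subgroup G}

theorem exists_bij_trivOn (hW : IsSelfNormalizingCyclic W₁ W₂) :
    Function.Bijective (fun p : trivOn (W₁ ⊔ W₂) W₂ × trivOn (W₁ ⊔ W₂) W₁ =>
      (p.1 : ↥(W₁ ⊔ W₂) →* ℂˣ) * p.2) := by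
  refine ⟨fun p q h => ?_, fun ω => ?_⟩
  · obtain ⟨e1, e2⟩ := trivOn_mul_inj (snc_disj hW) (snc_comm hW) p.1.2 q.1.2 p.2.2 q.2.2 h
    exact Prod.ext (Subtype.ext e1) (Subtype.ext e2)
  · obtain ⟨φ, hφ, ψ, hψ, h⟩ := exists_trivOn_mul (snc_disj hW) (snc_comm hW) ω
    exact ⟨(⟨φ, hφ⟩, ⟨ψ, hψ⟩), h⟩

theorem card_coeff_support (hW : IsSelfNormalizingCyclic W₁ W₂) [Fintype (trivOn (W₁ ⊔ W₂) W₂)]
    [Fintype (trivOn (W₁ ⊔ W₂) W₁)] (b : (↥(W₁ ⊔ W₂) →* ℂˣ) → ℂ)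
    [DecidablePred fun p : trivOn (W₁ ⊔ W₂) W₂ × trivOn (W₁ ⊔ W₂) W₁ => b (↑p.1 * ↑p.2) ≠ 0] :
    Nat.card {ω // b ω ≠ 0} = (Finset.univ.filter fun p : trivOn (W₁ ⊔ W₂) W₂ ×
      trivOn (W₁ ⊔ W₂) W₁ => b (↑p.1 * ↑p.2) ≠ 0).card := by
  rw [← Fintype.card_subtype, ← Nat.card_eq_fintype_card]
  exact (Nat.card_congr ((Equiv.ofBijective _ (exists_bij_trivOn hW)).subtypeEquiv
    fun p => Iff.rfl)).symm

theorem coeff_trichotomy (hW : IsSelfNormalizingCyclic W₁ W₂) (hodd : Odd (Nat.card ↥(W₁ ⊔ W₂)))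
    (b : (↥(W₁ ⊔ W₂) →* ℂˣ) → ℂ)
    (hb : ∀ φ ∈ trivOn (W₁ ⊔ W₂) W₂, ∀ ψ ∈ trivOn (W₁ ⊔ W₂) W₁, b (φ * ψ) = b φ + b ψ - b 1)
    (hlt : Nat.card W₁ < Nat.card W₂) (hfew : Nat.card {ω // b ω ≠ 0} < 2 * Nat.card W₁) :
    (∀ ω, b ω = 0) ∨
      (∃ ψ₀ a, ∀ ω, (ω * ψ₀⁻¹ ∈ trivOn (W₁ ⊔ W₂) W₂ → b ω = a) ∧
        (ω * ψ₀⁻¹ ∉ trivOn (W₁ ⊔ W₂) W₂ → b ω = 0)) ∨
      (∃ φ₀ a, ∀ ω, (ω * φ₀⁻¹ ∈ trivOn (W₁ ⊔ W₂) W₁ → b ω = a) ∧
        (ω * φ₀⁻¹ ∉ trivOn (W₁ ⊔ W₂) W₁ → b ω = 0)) := by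
  classical
  let _ : CommGroup (↥(W₁ ⊔ W₂) →* ℂˣ) := inferInstance
  have := finite_dual (K := ↥(W₁ ⊔ W₂))
  let Φ := trivOn (W₁ ⊔ W₂) W₂
  let Ψ := trivOn (W₁ ⊔ W₂) W₁
  let _ : Fintype Φ := Fintype.ofFinite _
  let _ : Fintype Ψ := Fintype.ofFinite _
  have cΦ : Fintype.card Φ = Nat.card W₁ := by
    rw [← Nat.card_eq_fintype_card, card_trivOn_snd (snc_disj hW) (snc_comm hW) (snc_mul_comm_fst hW)]
  have cΨ : Fintype.card Ψ = Nat.card W₂ := by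
    rw [← Nat.card_eq_fintype_card, card_trivOn_fst (snc_disj hW) (snc_comm hW) (snc_mul_comm_snd hW)]
  rw [snc_card hW, Nat.odd_mul] at hodd
  obtain ⟨k, hk⟩ := hodd.1
  obtain ⟨l, hl⟩ := hodd.2
  let N : Φ → Finset Ψ := fun φ => Finset.univ.filter fun ψ => b (↑φ * ↑ψ) ≠ 0
  have hsum : ∑ φ : Φ, (N φ).card = Nat.card {ω // b ω ≠ 0} := by
    rw [card_coeff_support hW b]
    simp only [N, Finset.card_filter, ← Finset.univ_product_univ, Finset.sum_product]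
    congr!
  have hex : ∃ φ, (N φ).card ≤ 1 := by
    by_contra hc
    push Not at hc
    have := Finset.sum_le_sum (s := Finset.univ) (f := fun _ : Φ => 2) (g := fun φ => (N φ).card)
      fun φ _ => hc φ
    rw [Finset.sum_const, Finset.card_univ, cΦ, smul_eq_mul] at this
    omega
  obtain ⟨φ0, hφ0⟩ := hex
  obtain ⟨v, hv⟩ : ∃ v : ℂ, ∀ φ : Φ, ∀ ψ : Ψ,
      b (↑φ * ↑ψ) = (b φ - b φ0) + (b ψ - v) ∧ b (↑φ0 * ↑ψ) = b ψ - v :=
    ⟨b 1 - b φ0, fun φ ψ => ⟨by rw [hb _ φ.2 _ ψ.2]; ring, by rw [hb _ φ0.2 _ ψ.2]; ring⟩⟩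
  have hexp : ∀ ω, ∃ (φ : Φ) (ψ : Ψ), ω = (φ : ↥(W₁ ⊔ W₂) →* ℂˣ) * ψ := fun ω => by
    obtain ⟨p, hp⟩ := (exists_bij_trivOn hW).2 ω
    exact ⟨p.1, p.2, hp.symm⟩
  have hkey : ∀ (ψ₀ : Ψ) (φ : Φ) (ψ : Ψ),
      (φ : ↥(W₁ ⊔ W₂) →* ℂˣ) * ψ * (ψ₀ : ↥(W₁ ⊔ W₂) →* ℂˣ)⁻¹ ∈ Φ ↔ ψ = ψ₀ := by
    intro ψ₀ φ ψ
    refine ⟨fun h => ?_, fun h => by subst h; rw [mul_inv_cancel_right]; exact φ.2⟩
    have := trivOn_mul_inj (snc_disj hW) (snc_comm hW) h φ.2 ψ₀.2 ψ.2 (inv_mul_cancel_right _ _)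
    exact Subtype.ext this.2.symm
  have hkey' : ∀ (φ₀ : Φ) (φ : Φ) (ψ : Ψ),
      (φ : ↥(W₁ ⊔ W₂) →* ℂˣ) * ψ * (φ₀ : ↥(W₁ ⊔ W₂) →* ℂˣ)⁻¹ ∈ Ψ ↔ φ = φ₀ := by
    intro φ₀ φ ψ
    refine ⟨fun h => ?_, fun h => by subst h; rw [mul_inv_cancel_comm]; exact ψ.2⟩
    have := trivOn_mul_inj (snc_disj hW) (snc_comm hW) φ₀.2 φ.2 h ψ.2
      ((mul_comm _ _).trans (inv_mul_cancel_right _ _))
    exact Subtype.ext this.1.symm
  by_cases hy : ∀ ψ : Ψ, b ψ = v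
  · let R := Finset.univ.filter fun φ : Φ => b φ - b φ0 ≠ 0
    have hrow : ∀ φ ψ, b ((φ : Φ) * (ψ : Ψ) : ↥(W₁ ⊔ W₂) →* ℂˣ) = b φ - b φ0 := fun φ ψ => by
      rw [(hv φ ψ).1, hy ψ, sub_self, add_zero]
    have hN : ∀ φ ∈ R, (N φ).card = Nat.card W₂ := fun φ hφ => by
      rw [← cΨ, ← Finset.card_univ]
      congr 1
      exact Finset.filter_true_of_mem fun ψ _ => by rw [hrow]; exact (Finset.mem_filter.mp hφ).2
    have hR : R.card ≤ 1 := by
      have h1 := Finset.sum_le_sum_of_subset (f := fun φ => (N φ).card) (Finset.subset_univ R)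
      rw [Finset.sum_congr rfl hN, Finset.sum_const, smul_eq_mul, hsum] at h1
      by_contra hc
      have := Nat.mul_le_mul_right (Nat.card W₂) (show 2 ≤ R.card by omega)
      omega
    rcases R.eq_empty_or_nonempty with hR0 | ⟨φ1, hφ1⟩
    · refine Or.inl fun ω => ?_
      obtain ⟨φ, ψ, rfl⟩ := hexp ω
      rw [hrow]
      by_contra hne
      exact Finset.notMem_empty φ (hR0 ▸ Finset.mem_filter.mpr ⟨Finset.mem_univ φ, hne⟩)
    · refine Or.inr (Or.inr ⟨φ1, b φ1 - b φ0, fun ω => ?_⟩)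
      obtain ⟨φ, ψ, rfl⟩ := hexp ω
      rw [hkey', hrow]
      refine ⟨fun h => h ▸ rfl, fun h => ?_⟩
      by_contra hne
      exact h (Finset.card_le_one.mp hR φ (Finset.mem_filter.mpr ⟨Finset.mem_univ φ, hne⟩) φ1 hφ1)
  · push Not at hy
    obtain ⟨ψ1, hψ1⟩ := hy
    have hmem : ψ1 ∈ N φ0 := Finset.mem_filter.mpr
      ⟨Finset.mem_univ _, by rw [(hv φ0 ψ1).2]; exact sub_ne_zero.mpr hψ1⟩
    have hothers : ∀ ψ : Ψ, ψ ≠ ψ1 → b ψ = v := by
      intro ψ hne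
      by_contra hc
      exact hne (Finset.card_le_one.mp hφ0 ψ (Finset.mem_filter.mpr
        ⟨Finset.mem_univ _, by rw [(hv φ0 ψ).2]; exact sub_ne_zero.mpr hc⟩) ψ1 hmem)
    have hone : ∀ φ : Φ, 1 ≤ (N φ).card := by
      intro φ
      refine Finset.one_le_card.mpr ?_
      by_cases h : b φ - b φ0 = 0
      · exact ⟨ψ1, Finset.mem_filter.mpr ⟨Finset.mem_univ _, by
          rw [(hv φ ψ1).1, h, zero_add]; exact sub_ne_zero.mpr hψ1⟩⟩
      · obtain ⟨ψ, hψ⟩ := Fintype.exists_ne_of_one_lt_card (by omega : 1 < Fintype.card Ψ) ψ1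
        exact ⟨ψ, Finset.mem_filter.mpr ⟨Finset.mem_univ _, by
          rwa [(hv φ ψ).1, hothers ψ hψ, sub_self, add_zero]⟩⟩
    have hzero : ∀ φ : Φ, b φ - b φ0 = 0 := by
      intro φ
      by_contra h
      have hbig : Nat.card W₂ - 1 ≤ (N φ).card := by
        rw [← cΨ, ← Finset.card_univ, ← Finset.card_erase_of_mem (Finset.mem_univ ψ1)]
        refine Finset.card_le_card fun ψ hψ => Finset.mem_filter.mpr ⟨Finset.mem_univ _, ?_⟩
        rwa [(hv φ ψ).1, hothers ψ (Finset.mem_erase.mp hψ).1, sub_self, add_zero]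
      have h1 := Finset.add_sum_erase Finset.univ (fun φ => (N φ).card) (Finset.mem_univ φ)
      have h2 := Finset.card_nsmul_le_sum (Finset.univ.erase φ) (fun φ => (N φ).card) 1
        fun φ _ => hone φ
      rw [Finset.card_erase_of_mem (Finset.mem_univ φ), Finset.card_univ, cΦ, smul_eq_mul,
        mul_one] at h2
      simp only [hsum] at h1
      omega
    refine Or.inr (Or.inl ⟨ψ1, b ψ1 - v, fun ω => ?_⟩)
    obtain ⟨φ, ψ, rfl⟩ := hexp ω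
    rw [hkey, (hv φ ψ).1, hzero, zero_add]
    exact ⟨fun h => h ▸ rfl, fun h => sub_eq_zero.mpr (hothers ψ h)⟩

theorem coeff_zero_of_two (hW : IsSelfNormalizingCyclic W₁ W₂)
    (hodd : Odd (Nat.card ↥(W₁ ⊔ W₂))) (b : (↥(W₁ ⊔ W₂) →* ℂˣ) → ℂ)
    (hb : ∀ φ ∈ trivOn (W₁ ⊔ W₂) W₂, ∀ ψ ∈ trivOn (W₁ ⊔ W₂) W₁, b (φ * ψ) = b φ + b ψ - b 1)
    (hfew : Nat.card {ω // b ω ≠ 0} ≤ 2) (ω : ↥(W₁ ⊔ W₂) →* ℂˣ) : b ω = 0 := by
  classical
  have := finite_dual (K := ↥(W₁ ⊔ W₂))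
  let Φ := trivOn (W₁ ⊔ W₂) W₂
  let Ψ := trivOn (W₁ ⊔ W₂) W₁
  let _ : Fintype Φ := Fintype.ofFinite _
  let _ : Fintype Ψ := Fintype.ofFinite _
  rw [snc_card hW, Nat.odd_mul] at hodd
  obtain ⟨k, hk⟩ := hodd.1
  obtain ⟨l, hl⟩ := hodd.2
  have hm : 1 < Nat.card W₁ := (Subgroup.one_lt_card_iff_ne_bot W₁).mpr hW.1
  have hn : 1 < Nat.card W₂ := (Subgroup.one_lt_card_iff_ne_bot W₂).mpr hW.2.1
  rw [card_coeff_support hW b] at hfew
  obtain ⟨⟨φ, ψ⟩, rfl⟩ := (exists_bij_trivOn hW).2 ω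
  by_contra h0
  have two : ∀ {α : Type u} [Fintype α], 3 ≤ Fintype.card α → ∀ a : α,
      ∃ x y : α, x ≠ y ∧ x ≠ a ∧ y ≠ a := by
    intro α _ h a
    obtain ⟨x, hx, y, hy, hxy⟩ := Finset.one_lt_card.mp
      (show 1 < (Finset.univ.erase a).card by
        rw [Finset.card_erase_of_mem (Finset.mem_univ a), Finset.card_univ]; omega)
    exact ⟨x, y, hxy, (Finset.mem_erase.mp hx).1, (Finset.mem_erase.mp hy).1⟩
  obtain ⟨φ1, φ2, hφ, hφ1, hφ2⟩ := two (α := Φ) (by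
    rw [← Nat.card_eq_fintype_card, card_trivOn_snd (snc_disj hW) (snc_comm hW)
      (snc_mul_comm_fst hW)]; omega) φ
  obtain ⟨ψ1, ψ2, hψ, hψ1, hψ2⟩ := two (α := Ψ) (by
    rw [← Nat.card_eq_fintype_card, card_trivOn_fst (snc_disj hW) (snc_comm hW)
      (snc_mul_comm_snd hW)]; omega) ψ
  have pick : ∀ (φ' : Φ) (ψ' : Ψ), ∃ p : Φ × Ψ, b (↑p.1 * ↑p.2) ≠ 0 ∧
      (p = (φ', ψ') ∨ p = (φ, ψ') ∨ p = (φ', ψ)) := by
    intro φ' ψ'
    by_contra hc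
    push Not at hc
    simp only [ne_eq] at hc
    have a1 : b (↑φ' * ↑ψ') = 0 := by_contra fun h => (hc (φ', ψ') h).1 rfl
    have a2 : b (↑φ * ↑ψ') = 0 := by_contra fun h => (hc (φ, ψ') h).2.1 rfl
    have a3 : b (↑φ' * ↑ψ) = 0 := by_contra fun h => (hc (φ', ψ) h).2.2 rfl
    rw [hb _ φ'.2 _ ψ'.2] at a1
    rw [hb _ φ.2 _ ψ'.2] at a2
    rw [hb _ φ'.2 _ ψ.2] at a3
    refine h0 ?_
    show b (↑φ * ↑ψ) = 0
    rw [hb _ φ.2 _ ψ.2]
    linear_combination a2 + a3 - a1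
  obtain ⟨p1, hp1, q1⟩ := pick φ1 ψ1
  obtain ⟨p2, hp2, q2⟩ := pick φ2 ψ2
  have d1 : p1 ≠ (φ, ψ) := by rcases q1 with rfl | rfl | rfl <;> simp [hφ1, hψ1]
  have d2 : p2 ≠ (φ, ψ) := by rcases q2 with rfl | rfl | rfl <;> simp [hφ2, hψ2]
  have d3 : p1 ≠ p2 := by
    rcases q1 with rfl | rfl | rfl <;> rcases q2 with rfl | rfl | rfl <;>
      simp [hφ, hψ, hφ1, hψ1, hφ2.symm, hψ2.symm]
  have h3 : ({(φ, ψ), p1, p2} : Finset (Φ × Ψ)) ⊆
      Finset.univ.filter fun p : Φ × Ψ => b (↑p.1 * ↑p.2) ≠ 0 := by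
    intro p hp
    simp only [Finset.mem_insert, Finset.mem_singleton] at hp
    rcases hp with rfl | rfl | rfl <;> simp only [Finset.mem_filter, Finset.mem_univ, true_and]
    exacts [h0, hp1, hp2]
  have h4 := Finset.card_le_card h3
  rw [Finset.card_insert_of_notMem (by simp [d1.symm, d2.symm]),
    Finset.card_insert_of_notMem (by simp [d3]), Finset.card_singleton] at h4
  exact absurd (h4.trans (le_of_eq_of_le (by congr!) hfew)) (by omega)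

theorem exists_coprime_lift {N a c : ℕ} [NeZero N] (hac : a * c ∣ N) (hcop : a.Coprime c) {k : ℕ}
    (hk : k.Coprime a) : ∃ k', k'.Coprime N ∧ k' ≡ k [MOD a] ∧ k' ≡ 1 [MOD c] := by
  obtain ⟨r, hr1, hr2⟩ := Nat.chineseRemainder hcop k 1
  have hr : r.Coprime (a * c) := by
    refine Nat.Coprime.mul_right ?_ ?_
    · exact (Nat.ModEq.gcd_eq hr1).trans hk
    · exact (Nat.ModEq.gcd_eq hr2).trans (Nat.gcd_one_left c)
  obtain ⟨u, hu⟩ := ZMod.unitsMap_surjective hac (ZMod.unitOfCoprime r hr)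
  refine ⟨(u : ZMod N).val, ZMod.val_coe_unit_coprime u, ?_⟩
  have h : ((u : ZMod N).val : ZMod (a * c)) = r := by
    have h1 := congrArg Units.val hu
    rw [ZMod.coe_unitOfCoprime] at h1
    rw [← h1, ZMod.unitsMap_def, Units.coe_map, MonoidHom.coe_coe, ← map_natCast (ZMod.castHom hac _),
      ZMod.natCast_zmod_val]
  rw [ZMod.natCast_eq_natCast_iff] at h
  exact ⟨(h.of_dvd (Dvd.intro c rfl)).trans hr1, (h.of_dvd (Dvd.intro_left a rfl)).trans hr2⟩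

theorem ti_family_powMap (hW : IsSelfNormalizingCyclic W₁ W₂)
    (hodd : Odd (Nat.card ↥(W₁ ⊔ W₂))) {χ : (↥(W₁ ⊔ W₂) →* ℂˣ) → (G → ℂ)}
    (hχ : IsCyclicTIFamily W₁ W₂ χ) (ω : ↥(W₁ ⊔ W₂) →* ℂˣ) {k : ℕ}
    (hk : Nat.Coprime (Nat.card G) k) (hω : k ≡ 1 [MOD orderOf ω]) (g : G) :
    χ ω (g ^ k) = χ ω g := by
  classical
  let X : G → ℂ := fun g => χ ω (g ^ k)
  have hX := signed_irr_powMap hk (hχ.irr_or_neg ω)
  let θ : G → ℂ := X - χ ω
  have hθc : IsClassFunction G θ := isClassFunction_of_isGeneralized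
    (isGeneralizedCharacter_sub (signed_irr_generalized hX) (signed_irr_generalized (hχ.irr_or_neg ω)))
  have hθV : ∀ w : ↥(W₁ ⊔ W₂), (w : G) ∉ W₁ → (w : G) ∉ W₂ → θ w = 0 := by
    intro w h1 h2
    have hback : ∀ K : Subgroup G, (w : G) ^ k ∈ K → (w : G) ∈ K := fun K h => by
      have h3 : (powCoprime hk).symm ((w : G) ^ k) = w := (powCoprime hk).symm_apply_apply _
      rw [← h3, powCoprime_symm_apply]
      exact K.zpow_mem h _
    have hk1 : ω ^ k = ω := by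
      exact (pow_mod_orderOf ω k).symm.trans
        ((congrArg (ω ^ ·) hω).trans ((pow_mod_orderOf ω 1).trans (pow_one ω)))
    show χ ω ((w : G) ^ k) - χ ω w = 0
    rw [show (w : G) ^ k = ((w ^ k : ↥(W₁ ⊔ W₂)) : G) from rfl,
      hχ.eq_on ω (w ^ k) (fun h => h1 (hback _ h)) fun h => h2 (hback _ h), hχ.eq_on ω w h1 h2,
      map_pow, ← MonoidHom.pow_apply, hk1, sub_self]
  have hfew : Nat.card {ω' // classInner θ (χ ω') ≠ 0} ≤ 2 := by
    have hle : ∀ ω' ω'', classInner X (χ ω') ≠ 0 → classInner X (χ ω'') ≠ 0 → ω' = ω'' := by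
      intro ω' ω'' h1 h2
      obtain ⟨s, hs, e1, -⟩ := signed_irr_inner_zero hX (hχ.irr_or_neg ω') h1
      rw [show X = _ from e1, classInner_smul_left] at h2
      by_contra hne
      rw [hχ.orthonormal, if_neg hne, mul_zero] at h2
      exact h2 rfl
    have hsub : ∀ ω', classInner θ (χ ω') ≠ 0 → ω' ≠ ω → classInner X (χ ω') ≠ 0 := by
      intro ω' h hne
      rw [classInner_sub_left, hχ.orthonormal, if_neg (Ne.symm hne), sub_zero] at h
      exact h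
    by_cases hex : ∃ ω', classInner X (χ ω') ≠ 0
    · obtain ⟨ω1, hω1⟩ := hex
      refine (Nat.card_le_card_of_injective
        (fun x : {ω' // classInner θ (χ ω') ≠ 0} => decide (x.1 = ω)) ?_).trans (by simp)
      intro x y e
      refine Subtype.ext ?_
      simp only [decide_eq_decide] at e
      by_cases hx : x.1 = ω
      · rw [hx, e.mp hx]
      · rw [hle _ _ (hsub _ x.2 hx) (hsub _ y.2 fun h => hx (e.mpr h))]
    · push Not at hex
      refine (Nat.card_le_card_of_injective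
        (fun _ : {ω' // classInner θ (χ ω') ≠ 0} => true) ?_).trans (by simp)
      intro x y _
      refine Subtype.ext ?_
      have hx : x.1 = ω := by_contra fun h => hsub _ x.2 h (hex _)
      have hy : y.1 = ω := by_contra fun h => hsub _ y.2 h (hex _)
      rw [hx, hy]
  have h0 := coeff_zero_of_two hW hodd (fun ω' => classInner θ (χ ω'))
    (fun φ hφ ψ hψ => coeff_rule hW hχ hθc hθV hφ hψ) hfew ω
  rw [classInner_sub_left, hχ.orthonormal, if_pos rfl, sub_eq_zero] at h0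
  obtain ⟨s, -, e1, e2⟩ := signed_irr_inner_zero hX (hχ.irr_or_neg ω) (by rw [h0]; exact one_ne_zero)
  rw [h0] at e2
  have := congrFun e1 g
  rw [← e2, one_smul] at this
  exact this

theorem ti_family_integral (hW : IsSelfNormalizingCyclic W₁ W₂)
    (hodd : Odd (Nat.card ↥(W₁ ⊔ W₂))) {χ : (↥(W₁ ⊔ W₂) →* ℂˣ) → (G → ℂ)}
    (hχ : IsCyclicTIFamily W₁ W₂ χ) (ω : ↥(W₁ ⊔ W₂) →* ℂˣ) (g : G)
    (hg : Nat.Coprime (orderOf g) (orderOf ω)) : ∃ n : ℤ, χ ω g = n := by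
  classical
  have hωW : orderOf ω ∣ Nat.card G := by
    refine (orderOf_dvd_of_pow_eq_one ?_).trans (Subgroup.card_subgroup_dvd_card (W₁ ⊔ W₂))
    refine MonoidHom.ext fun w => ?_
    rw [MonoidHom.pow_apply, ← map_pow, pow_card_eq_one', map_one]
    rfl
  have hfix : ∀ k : ℕ, k.Coprime (Nat.card G) → χ ω (g ^ k) = χ ω g := by
    intro k hk
    have : NeZero (Nat.card G) := ⟨Nat.card_pos.ne'⟩
    obtain ⟨k', hk', e1, e2⟩ := exists_coprime_lift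
      (hg.mul_dvd_of_dvd_of_dvd (orderOf_dvd_natCard g) hωW) hg
      (hk.coprime_dvd_right (orderOf_dvd_natCard g))
    rw [← pow_eq_pow_iff_modEq.mpr e1]
    exact ti_family_powMap hW hodd hχ ω hk'.symm e2 g
  obtain ⟨c, s, hs, hc⟩ := signed_irr_data (hχ.irr_or_neg ω)
  refine exists_int_of_fixed (generalized_isIntegral (signed_irr_generalized (hχ.irr_or_neg ω)) g)
    fun τ => ?_
  obtain ⟨m, hm, htw⟩ := exists_char_twist (G := G) τ
  have hcint := isCharacter_isIntegral (isCharacter_irr c) g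
  let x : Alg := ⟨(c : G → ℂ) g, mem_alg_of_isIntegral hcint⟩
  have hx := htw _ (isCharacter_irr c) g x rfl
  have hval : ∀ y, χ ω y = s * (c : G → ℂ) y := fun y => by rw [hc]; rfl
  have hfix' := hfix m hm
  rw [hval, hval] at hfix'
  rcases hs with rfl | rfl
  · simp only [one_mul] at hfix' hval
    have : (⟨χ ω g, mem_alg_of_isIntegral
      (generalized_isIntegral (signed_irr_generalized (hχ.irr_or_neg ω)) g)⟩ : Alg) = x := Subtype.ext (hval g)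
    rw [this, hx, hfix', hval]
  · simp only [neg_mul, one_mul, neg_inj] at hfix' hval
    have : (⟨χ ω g, mem_alg_of_isIntegral
      (generalized_isIntegral (signed_irr_generalized (hχ.irr_or_neg ω)) g)⟩ : Alg) = -x := Subtype.ext ((hval g).trans rfl)
    rw [this, map_neg, hx, hfix', hval]

end CfsgLib.Char
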