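import Cfsg.Agent.Lib.Char.NormTwo

/-!
# Tools for coherence: integer spans, isometries on them, orthogonal projections
-/

set_option autoImplicit false
set_option linter.unusedSectionVars false

namespace CfsgLib.Char

open scoped ComplexConjugate
open Cfsg

universe u v

variable {L : Type u} [Group L] [Fintype L] {G : Type v} [Group G] [Fintype G]

section Span

variable {X : Type u} {S : Set (X → ℂ)}

theorem zspan_subset_mem {φ : X → ℂ} (h : φ ∈ S) : φ ∈ zspan S := Submodule.subset_span h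

theorem zspan_zero : (0 : X → ℂ) ∈ zspan S := Submodule.zero_mem (Submodule.span ℤ S)

theorem zspan_add {a b : X → ℂ} (ha : a ∈ zspan S) (hb : b ∈ zspan S) : a + b ∈ zspan S :=
  Submodule.add_mem (Submodule.span ℤ S) ha hb

theorem zspan_intSmul {a : X → ℂ} (n : ℤ) (ha : a ∈ zspan S) : (n : ℂ) • a ∈ zspan S := by
  rw [Int.cast_smul_eq_zsmul]
  exact Submodule.smul_mem (Submodule.span ℤ S) n ha

theorem zspan_zsmul {a : X → ℂ} (n : ℤ) (ha : a ∈ zspan S) : n • a ∈ zspan S :=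
  Submodule.smul_mem (Submodule.span ℤ S) n ha

theorem zspan_sub {a b : X → ℂ} (ha : a ∈ zspan S) (hb : b ∈ zspan S) : a - b ∈ zspan S :=
  Submodule.sub_mem (Submodule.span ℤ S) ha hb

theorem zspan_natSmul {a : X → ℂ} (n : ℕ) (ha : a ∈ zspan S) : (n : ℂ) • a ∈ zspan S := by
  have := zspan_intSmul (n : ℤ) ha
  rwa [Int.cast_natCast] at this

theorem zspan_sum {ι : Type*} (s : Finset ι) (c : ι → ℤ) (v : ι → X → ℂ)
    (hv : ∀ i ∈ s, v i ∈ zspan S) : ∑ i ∈ s, (c i : ℂ) • v i ∈ zspan S :=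
  Submodule.sum_mem (Submodule.span ℤ S) fun i hi => zspan_intSmul (c i) (hv i hi)

theorem zspan_mono {T : Set (X → ℂ)} (h : S ⊆ T) {a : X → ℂ} (ha : a ∈ zspan S) : a ∈ zspan T :=
  Submodule.span_mono h ha

theorem mem_zspan_finset {s : Finset (X → ℂ)} {a : X → ℂ} (ha : a ∈ zspan (s : Set (X → ℂ))) :
    ∃ c : (X → ℂ) → ℤ, a = ∑ φ ∈ s, (c φ : ℂ) • φ := by
  obtain ⟨c, -, hc⟩ := Submodule.mem_span_finset.mp ha
  exact ⟨c, hc.symm.trans (Finset.sum_congr rfl fun φ _ => (Int.cast_smul_eq_zsmul ℂ (c φ) φ).symm)⟩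

theorem mem_zspanOn_one_iff {L : Type u} [Group L] {S : Set (L → ℂ)} {a : L → ℂ} :
    a ∈ zspanOn S {1}ᶜ ↔ a ∈ zspan S ∧ a 1 = 0 := by
  refine and_congr_right fun _ => ⟨fun h => h 1 (by simp), fun h x hx => ?_⟩
  rw [show x = 1 by simpa using hx, h]

theorem zspanOn_mono {T : Set (X → ℂ)} {A : Set X} (h : S ⊆ T) {a : X → ℂ} (ha : a ∈ zspanOn S A) :
    a ∈ zspanOn T A := ⟨zspan_mono h ha.1, ha.2⟩

theorem zspanOn_zero {A : Set X} : (0 : X → ℂ) ∈ zspanOn S A := ⟨zspan_zero, fun _ _ => rfl⟩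

theorem zspanOn_sum {A : Set X} {ι : Type*} (s : Finset ι) (c : ι → ℤ) (v : ι → X → ℂ)
    (hv : ∀ i ∈ s, v i ∈ zspanOn S A) : ∑ i ∈ s, (c i : ℂ) • v i ∈ zspanOn S A :=
  ⟨zspan_sum s c v fun i hi => (hv i hi).1, fun x hx => by
    rw [Finset.sum_apply, Finset.sum_eq_zero fun i hi => by
      rw [Pi.smul_apply, (hv i hi).2 x hx, smul_zero]]⟩

theorem zspanOn_add {A : Set X} {a b : X → ℂ} (ha : a ∈ zspanOn S A) (hb : b ∈ zspanOn S A) :
    a + b ∈ zspanOn S A :=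
  ⟨zspan_add ha.1 hb.1, fun x hx => by rw [Pi.add_apply, ha.2 x hx, hb.2 x hx, add_zero]⟩

theorem zspanOn_intSmul {A : Set X} {a : X → ℂ} (n : ℤ) (ha : a ∈ zspanOn S A) :
    (n : ℂ) • a ∈ zspanOn S A :=
  ⟨zspan_intSmul n ha.1, fun x hx => by rw [Pi.smul_apply, ha.2 x hx, smul_zero]⟩

end Span

section Iso

variable {E : Set (L → ℂ)} {τ : (L → ℂ) → (G → ℂ)}

theorem iso_intSmul (hτ : IsLinearIsometryOn E τ) {a : L → ℂ} (ha : a ∈ E) (n : ℤ) :
    τ ((n : ℂ) • a) = (n : ℂ) • τ a := by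
  rw [Int.cast_smul_eq_zsmul, Int.cast_smul_eq_zsmul, hτ.2.1 a ha n]

theorem iso_natSmul (hτ : IsLinearIsometryOn E τ) {a : L → ℂ} (ha : a ∈ E) (n : ℕ) :
    τ ((n : ℂ) • a) = (n : ℂ) • τ a := by
  have := iso_intSmul hτ ha (n : ℤ)
  rwa [Int.cast_natCast] at this

theorem iso_zero (hτ : IsLinearIsometryOn E τ) (h0 : (0 : L → ℂ) ∈ E) : τ 0 = 0 := by
  have h := hτ.1 0 h0 0 h0
  rw [add_zero] at h
  exact left_eq_add.mp h

theorem iso_sum_of_closed (hτ : IsLinearIsometryOn E τ) (h0 : (0 : L → ℂ) ∈ E)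
    (hadd : ∀ a ∈ E, ∀ b ∈ E, a + b ∈ E) (hsmul : ∀ a ∈ E, ∀ n : ℤ, (n : ℂ) • a ∈ E)
    {ι : Type*} (s : Finset ι) (c : ι → ℤ) (v : ι → L → ℂ) (hv : ∀ i ∈ s, v i ∈ E) :
    τ (∑ i ∈ s, (c i : ℂ) • v i) = ∑ i ∈ s, (c i : ℂ) • τ (v i) := by
  classical
  suffices h : (∑ i ∈ s, (c i : ℂ) • v i) ∈ E ∧
      τ (∑ i ∈ s, (c i : ℂ) • v i) = ∑ i ∈ s, (c i : ℂ) • τ (v i) from h.2
  induction s using Finset.induction_on with
  | empty => exact ⟨by simpa using h0, by simpa using iso_zero hτ h0⟩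
  | insert i s hi ih =>
    obtain ⟨hmem, heq⟩ := ih fun j hj => hv j (Finset.mem_insert_of_mem hj)
    have hvi := hv i (Finset.mem_insert_self i s)
    rw [Finset.sum_insert hi, Finset.sum_insert hi]
    exact ⟨hadd _ (hsmul _ hvi _) _ hmem,
      by rw [hτ.1 _ (hsmul _ hvi _) _ hmem, heq, iso_intSmul hτ hvi]⟩

theorem iso_sum_zspan {S : Set (L → ℂ)} (hτ : IsLinearIsometryOn (zspan S) τ)
    {ι : Type*} (s : Finset ι) (c : ι → ℤ) (v : ι → L → ℂ) (hv : ∀ i ∈ s, v i ∈ zspan S) :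
    τ (∑ i ∈ s, (c i : ℂ) • v i) = ∑ i ∈ s, (c i : ℂ) • τ (v i) :=
  iso_sum_of_closed hτ zspan_zero (fun _ ha _ hb => zspan_add ha hb)
    (fun _ ha n => zspan_intSmul n ha) s c v hv

theorem iso_sum_zspanOn {S : Set (L → ℂ)} {A : Set L} (hτ : IsLinearIsometryOn (zspanOn S A) τ)
    {ι : Type*} (s : Finset ι) (c : ι → ℤ) (v : ι → L → ℂ) (hv : ∀ i ∈ s, v i ∈ zspanOn S A) :
    τ (∑ i ∈ s, (c i : ℂ) • v i) = ∑ i ∈ s, (c i : ℂ) • τ (v i) :=
  iso_sum_of_closed hτ zspanOn_zero (fun _ ha _ hb => zspanOn_add ha hb)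
    (fun _ ha n => zspanOn_intSmul n ha) s c v hv

theorem iso_sub_zspan {S : Set (L → ℂ)} (hτ : IsLinearIsometryOn (zspan S) τ) {a b : L → ℂ}
    (ha : a ∈ zspan S) (hb : b ∈ zspan S) : τ (a - b) = τ a - τ b := by
  have h := hτ.1 _ (zspan_sub ha hb) b hb
  rw [sub_add_cancel] at h
  exact eq_sub_of_add_eq h.symm

theorem iso_sub_zspanOn {S : Set (L → ℂ)} {A : Set L} (hτ : IsLinearIsometryOn (zspanOn S A) τ)
    {a b : L → ℂ} (ha : a ∈ zspanOn S A) (hb : b ∈ zspanOn S A) : τ (a - b) = τ a - τ b := by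
  have hab : a - b ∈ zspanOn S A :=
    ⟨zspan_sub ha.1 hb.1, fun x hx => by rw [Pi.sub_apply, ha.2 x hx, hb.2 x hx, sub_zero]⟩
  have h := hτ.1 _ hab b hb
  rw [sub_add_cancel] at h
  exact eq_sub_of_add_eq h.symm

end Iso

section Projection

theorem classInner_self_re (f : G → ℂ) : classInner f f = ((classInner f f).re : ℂ) := by
  rw [classInner_self, Complex.ofReal_re]

theorem classInner_self_re_nonneg (f : G → ℂ) : 0 ≤ (classInner f f).re := by
  rw [classInner_self, Complex.ofReal_re]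
  positivity

theorem eq_zero_of_self_re_nonpos {f : G → ℂ} (h : (classInner f f).re ≤ 0) : f = 0 :=
  classInner_self_eq_zero (by
    rw [classInner_self_re, le_antisymm h (classInner_self_re_nonneg f), Complex.ofReal_zero])

/-- Pythagoras for the projection onto an orthogonal family. -/
theorem residual_norm {ι : Type*} (s : Finset ι) (v : ι → G → ℂ) (n : ι → ℝ)
    (hn : ∀ i ∈ s, n i ≠ 0) (hvn : ∀ i ∈ s, classInner (v i) (v i) = n i)
    (horth : ∀ i ∈ s, ∀ j ∈ s, i ≠ j → classInner (v i) (v j) = 0) (β : G → ℂ) (c : ι → ℝ)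
    (hc : ∀ i ∈ s, classInner β (v i) = c i) :
    (∀ j ∈ s, classInner (β - ∑ i ∈ s, ((c i / n i : ℝ) : ℂ) • v i) (v j) = 0) ∧
    (classInner (β - ∑ i ∈ s, ((c i / n i : ℝ) : ℂ) • v i)
      (β - ∑ i ∈ s, ((c i / n i : ℝ) : ℂ) • v i)).re = (classInner β β).re - ∑ i ∈ s, c i ^ 2 / n i := by
  classical
  set r := β - ∑ i ∈ s, ((c i / n i : ℝ) : ℂ) • v i with hr
  have h1 : ∀ j ∈ s, classInner r (v j) = 0 := fun j hj => by
    rw [hr, classInner_sub_left, classInner_sum_left, Finset.sum_eq_single j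
      (fun i hi hij => by rw [classInner_smul_left, horth i hi j hj hij, mul_zero])
      (fun h => absurd hj h), classInner_smul_left, hvn j hj, hc j hj, ← Complex.ofReal_mul,
      div_mul_cancel₀ _ (hn j hj), sub_self]
  refine ⟨h1, ?_⟩
  have hzero : classInner r (∑ i ∈ s, ((c i / n i : ℝ) : ℂ) • v i) = 0 := by
    rw [classInner_sum_right]
    exact Finset.sum_eq_zero fun i hi => by rw [classInner_smul_right, h1 i hi, mul_zero]
  have h2 : classInner r r = classInner r β := by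
    conv_lhs => arg 2; rw [hr]
    rw [classInner_sub_right, hzero, sub_zero]
  rw [h2, hr, classInner_sub_left, classInner_sum_left, Complex.sub_re, Complex.re_sum]
  congr 1
  refine Finset.sum_congr rfl fun i hi => ?_
  rw [classInner_smul_left, ← classInner_conj, hc i hi, Complex.conj_ofReal, ← Complex.ofReal_mul,
    Complex.ofReal_re]
  ring

open Classical in
/-- Integral projection onto an orthonormal set of generalized characters. -/
theorem orthonormal_bound {R : Finset (G → ℂ)}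
    (hR : ∀ α ∈ R, ∀ β ∈ R, classInner α β = if α = β then 1 else 0)
    (hRg : ∀ α ∈ R, IsGeneralizedCharacter G α) {b : G → ℂ} (hb : IsGeneralizedCharacter G b) :
    ∃ c : (G → ℂ) → ℤ, (∀ α ∈ R, classInner b α = c α) ∧
      ((∑ α ∈ R, c α ^ 2 : ℤ) : ℝ) ≤ (classInner b b).re ∧
      ((classInner b b).re ≤ ((∑ α ∈ R, c α ^ 2 : ℤ) : ℝ) → b = ∑ α ∈ R, (c α : ℂ) • α) := by
  have hex : ∀ α, ∃ m : ℤ, α ∈ R → classInner b α = m := fun α => by
    by_cases hα : α ∈ R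
    · obtain ⟨m, hm⟩ := classInner_generalized_int hb (hRg α hα)
      exact ⟨m, fun _ => hm⟩
    · exact ⟨0, fun h => absurd h hα⟩
  choose c hc using hex
  obtain ⟨-, hnorm⟩ := residual_norm R (fun α => α) (fun _ => 1) (fun _ _ => one_ne_zero)
    (fun α hα => by rw [hR α hα α hα, if_pos rfl, Complex.ofReal_one])
    (fun α hα β hβ h => by rw [hR α hα β hβ, if_neg h]) b (fun α => (c α : ℝ))
    (fun α hα => by rw [hc α hα, Complex.ofReal_intCast])
  simp only [div_one, Complex.ofReal_intCast] at hnorm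
  have hsum : ((∑ α ∈ R, c α ^ 2 : ℤ) : ℝ) = ∑ α ∈ R, (c α : ℝ) ^ 2 := by push_cast; rfl
  have h0 := classInner_self_re_nonneg (b - ∑ α ∈ R, (c α : ℂ) • α)
  refine ⟨c, hc, by rw [hsum]; linarith, fun h => sub_eq_zero.mp (eq_zero_of_self_re_nonpos ?_)⟩
  rw [hnorm, ← hsum]
  linarith

theorem int_zero_or_one_of_sum_le {ι : Type*} (s : Finset ι) (c : ι → ℤ)
    (h : ∑ i ∈ s, c i ^ 2 ≤ ∑ i ∈ s, c i) : ∀ i ∈ s, c i = 0 ∨ c i = 1 := by
  intro i hi
  have hle : ∀ j ∈ s, c j ≤ c j ^ 2 := fun j _ => Int.le_self_sq (c j)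
  have heq := (Finset.sum_eq_sum_iff_of_le hle).mp (le_antisymm (Finset.sum_le_sum hle) h) i hi
  have : c i * (c i - 1) = 0 := by linear_combination -heq
  rcases mul_eq_zero.mp this with h | h
  · exact Or.inl h
  · exact Or.inr (sub_eq_zero.mp h)

open Classical in
/-- If the coefficients of `b` on an orthonormal set add up to its norm, it is a sum of a subset. -/
theorem eq_subset_sum {R : Finset (G → ℂ)}
    (hR : ∀ α ∈ R, ∀ β ∈ R, classInner α β = if α = β then 1 else 0)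
    (hRg : ∀ α ∈ R, IsGeneralizedCharacter G α) {b : G → ℂ} (hb : IsGeneralizedCharacter G b)
    (hsum : classInner b (∑ α ∈ R, α) = classInner b b) :
    ∃ T ⊆ R, b = ∑ α ∈ T, α ∧ classInner b b = T.card := by
  obtain ⟨c, hc, hle, heq⟩ := orthonormal_bound hR hRg hb
  have h1 : classInner b b = ((∑ α ∈ R, c α : ℤ) : ℂ) := by
    rw [← hsum, classInner_sum_right, Int.cast_sum]
    exact Finset.sum_congr rfl hc
  have hre : (classInner b b).re = ((∑ α ∈ R, c α : ℤ) : ℝ) := by rw [h1, Complex.intCast_re]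
  rw [hre] at hle heq
  have hle' : ∑ α ∈ R, c α ^ 2 ≤ ∑ α ∈ R, c α := Int.cast_le.mp hle
  have h01 := int_zero_or_one_of_sum_le R c hle'
  have hsq : ∑ α ∈ R, c α ≤ ∑ α ∈ R, c α ^ 2 := Finset.sum_le_sum fun j _ => Int.le_self_sq (c j)
  refine ⟨R.filter fun α => c α = 1, Finset.filter_subset _ _, ?_, ?_⟩
  · rw [heq (Int.cast_le.mpr hsq), Finset.sum_filter]
    refine Finset.sum_congr rfl fun α hα => ?_
    rcases h01 α hα with h | h <;> simp [h]
  · rw [h1, Finset.card_filter, Nat.cast_sum, Int.cast_sum]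
    refine Finset.sum_congr rfl fun α hα => ?_
    rcases h01 α hα with h | h <;> simp [h]

end Projection

/-- Coherence from prescribed images of a finite orthogonal set. -/
theorem isCoherent_of_images (S : Finset (L → ℂ)) (A : Set L) (τ : (L → ℂ) → (G → ℂ))
    (hne : ∃ α ∈ zspanOn (S : Set (L → ℂ)) A, α ≠ 0)
    (horth : ∀ φ ∈ S, ∀ ψ ∈ S, φ ≠ ψ → classInner φ ψ = 0)
    (hnz : ∀ φ ∈ S, classInner φ φ ≠ 0) (z : (L → ℂ) → (G → ℂ))
    (hz : ∀ φ ∈ S, IsGeneralizedCharacter G (z φ))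
    (hzi : ∀ φ ∈ S, ∀ ψ ∈ S, classInner (z φ) (z ψ) = classInner φ ψ)
    (hag : ∀ c : (L → ℂ) → ℤ, (∑ φ ∈ S, (c φ : ℂ) • φ) ∈ zspanOn (S : Set (L → ℂ)) A →
      τ (∑ φ ∈ S, (c φ : ℂ) • φ) = ∑ φ ∈ S, (c φ : ℂ) • z φ) :
    IsCoherent (S : Set (L → ℂ)) A τ := by
  classical
  let T : (L → ℂ) → (G → ℂ) := fun a => ∑ φ ∈ S, (classInner a φ / classInner φ φ) • z φ
  have hT : ∀ c : (L → ℂ) → ℤ, T (∑ φ ∈ S, (c φ : ℂ) • φ) = ∑ φ ∈ S, (c φ : ℂ) • z φ := fun c => by
    refine Finset.sum_congr rfl fun φ hφ => ?_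
    congr 1
    rw [classInner_sum_left, Finset.sum_eq_single φ
      (fun ψ hψ hne' => by rw [classInner_smul_left, horth ψ hψ φ hφ hne', mul_zero])
      (fun h => absurd hφ h), classInner_smul_left, mul_div_assoc, div_self (hnz φ hφ), mul_one]
  refine ⟨hne, T, ⟨fun a _ b _ => ?_, fun a _ n => ?_, fun a ha b hb => ?_, fun a ha => ?_⟩,
    fun a ha => ?_⟩
  · simp only [T, classInner_add_left, add_div, add_smul, Finset.sum_add_distrib]
  · simp only [T, ← Int.cast_smul_eq_zsmul ℂ n, classInner_smul_left, Finset.smul_sum, smul_smul,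
      mul_div_assoc]
  · obtain ⟨c, rfl⟩ := mem_zspan_finset ha
    obtain ⟨e, rfl⟩ := mem_zspan_finset hb
    rw [hT, hT]
    simp only [classInner_sum_left, classInner_sum_right, classInner_smul_left, classInner_smul_right]
    refine Finset.sum_congr rfl fun φ hφ => ?_
    congr 1
    exact Finset.sum_congr rfl fun ψ hψ => by rw [hzi ψ hψ φ hφ]
  · obtain ⟨c, rfl⟩ := mem_zspan_finset ha
    rw [hT]
    exact isGeneralizedCharacter_sum _ _ fun φ hφ => isGeneralizedCharacter_zsmul (hz φ hφ) _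
  · obtain ⟨c, rfl⟩ := mem_zspan_finset ha.1
    rw [hT, hag c ha]

/-- An orthogonal set of nonzero functions on a finite group is finite. -/
theorem finite_of_orthogonal (S : Set (L → ℂ))
    (horth : ∀ φ ∈ S, ∀ ψ ∈ S, φ ≠ ψ → classInner φ ψ = 0) (hnz : ∀ φ ∈ S, classInner φ φ ≠ 0) :
    S.Finite := by
  classical
  suffices h : LinearIndependent ℂ (fun φ : S => (φ : L → ℂ)) from Set.finite_coe_iff.mp h.finite
  rw [linearIndependent_iff']
  intro s g hg φ hφ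
  have h := congrArg (fun f => classInner f (φ : L → ℂ)) hg
  simp only [classInner_zero_left, classInner_sum_left, classInner_smul_left] at h
  rw [Finset.sum_eq_single φ
    (fun ψ _ hne => by rw [horth ψ ψ.2 φ φ.2 fun e => hne (Subtype.ext e), mul_zero])
    (fun h => absurd hφ h)] at h
  exact (mul_eq_zero.mp h).resolve_right (hnz φ φ.2)

end CfsgLib.Char
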