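import Cfsg.Agent.Lib.Char.Virtual

/-!
# Induction of functions and characters
-/

set_option autoImplicit false

namespace CfsgLib.Char

open scoped ComplexConjugate
open Representation Module Cfsg

universe u

variable {G : Type u} [Group G]

theorem extendByZero_mem (H : Subgroup G) (θ : H → ℂ) {x : G} (hx : x ∈ H) :
    extendByZero H θ x = θ ⟨x, hx⟩ :=
  Subtype.val_injective.extend_apply θ 0 (⟨x, hx⟩ : H)

theorem extendByZero_not_mem (H : Subgroup G) (θ : H → ℂ) {x : G} (hx : x ∉ H) :
    extendByZero H θ x = 0 :=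
  Function.extend_apply' (f := ((↑) : H → G)) θ 0 x fun ⟨a, ha⟩ => hx (ha ▸ a.2)

theorem extendByZero_eq_ite (H : Subgroup G) (θ : H → ℂ) (x : G) [Decidable (x ∈ H)] :
    extendByZero H θ x = if hx : x ∈ H then θ ⟨x, hx⟩ else 0 := by
  split_ifs with hx
  · exact extendByZero_mem H θ hx
  · exact extendByZero_not_mem H θ hx

variable [Fintype G]

theorem sum_extendByZero_mul (H : Subgroup G) [Fintype H] (θ : H → ℂ) (f : G → ℂ) :
    ∑ x : G, extendByZero H θ x * f x = ∑ h : H, θ h * f h := by
  classical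
  rw [← Finset.sum_filter_add_sum_filter_not Finset.univ (fun x => x ∈ H)
    (fun x => extendByZero H θ x * f x)]
  rw [Finset.sum_eq_zero (s := Finset.univ.filter fun x => ¬ x ∈ H) fun x hx => by
    rw [extendByZero_not_mem H θ (Finset.mem_filter.mp hx).2, zero_mul], add_zero]
  rw [Finset.sum_subtype (p := fun x => x ∈ H) _ (fun x => by simp)]
  exact Finset.sum_congr rfl fun h _ => by rw [extendByZero_mem H θ h.2]

theorem isClassFunction_indFun (H : Subgroup G) (θ : H → ℂ) : IsClassFunction G (indFun H θ) := by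
  intro g h
  simp only [indFun]
  congr 1
  refine Fintype.sum_bijective (fun x => h⁻¹ * x) (Group.mulLeft_bijective _) _ _ fun x => ?_
  congr 1
  group

theorem indFun_one (H : Subgroup G) (θ : H → ℂ) : indFun H θ 1 = (H.index : ℂ) * θ 1 := by
  have hH : (Nat.card H : ℂ) ≠ 0 := by exact_mod_cast Nat.card_pos.ne'
  have e : (H.index : ℂ) * (Nat.card H : ℂ) = (Nat.card G : ℂ) := by
    exact_mod_cast congrArg (fun n : ℕ => (n : ℂ)) H.index_mul_card
  simp only [indFun, mul_one, inv_mul_cancel, extendByZero_mem H θ H.one_mem, Finset.sum_const,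
    Finset.card_univ, nsmul_eq_mul, ← Nat.card_eq_fintype_card, ← e]
  field_simp
  rfl

theorem indFun_add (H : Subgroup G) (θ φ : H → ℂ) : indFun H (θ + φ) = indFun H θ + indFun H φ := by
  classical
  funext g
  simp only [indFun, extendByZero_eq_ite, Pi.add_apply, ← mul_add, ← Finset.sum_add_distrib]
  congr 1
  exact Finset.sum_congr rfl fun x _ => by split_ifs <;> simp

theorem indFun_smul (H : Subgroup G) (c : ℂ) (θ : H → ℂ) : indFun H (c • θ) = c • indFun H θ := by
  classical
  funext g
  simp only [indFun, extendByZero_eq_ite, Pi.smul_apply, smul_eq_mul, Finset.mul_sum]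
  exact Finset.sum_congr rfl fun x _ => by split_ifs <;> simp; ring

theorem indFun_zero (H : Subgroup G) : indFun H (0 : H → ℂ) = 0 := by
  have := indFun_smul H 0 (0 : H → ℂ)
  simpa using this

theorem indFun_neg (H : Subgroup G) (θ : H → ℂ) : indFun H (-θ) = -indFun H θ := by
  have := indFun_smul H (-1) θ
  simpa using this

theorem indFun_sub (H : Subgroup G) (θ φ : H → ℂ) : indFun H (θ - φ) = indFun H θ - indFun H φ := by
  rw [sub_eq_add_neg, indFun_add, indFun_neg, sub_eq_add_neg]

theorem indFun_sum (H : Subgroup G) {ι : Type*} (s : Finset ι) (f : ι → H → ℂ) :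
    indFun H (∑ i ∈ s, f i) = ∑ i ∈ s, indFun H (f i) := by
  classical
  induction s using Finset.induction_on with
  | empty => simp [indFun_zero]
  | insert a s ha ih => rw [Finset.sum_insert ha, Finset.sum_insert ha, indFun_add, ih]

/-- Frobenius reciprocity. -/
theorem classInner_indFun (H : Subgroup G) [Fintype H] (θ : H → ℂ) (χ : G → ℂ)
    (hχ : IsClassFunction G χ) :
    classInner (indFun H θ) χ = classInner θ (fun h : H => χ h) := by
  have key : ∀ x : G, ∑ g : G, extendByZero H θ (x⁻¹ * g * x) * conj (χ g) =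
      ∑ h : H, θ h * conj (χ h) := by
    intro x
    rw [← sum_extendByZero_mul H θ fun g => conj (χ g)]
    refine Fintype.sum_bijective (fun g => x⁻¹ * g * x⁻¹⁻¹) (MulAut.conj x⁻¹).bijective _ _ fun g => ?_
    rw [hχ g x⁻¹, inv_inv]
  have hG := card_ne_zero' (G := G)
  have hsum : ∑ g : G, (indFun H θ g) * conj (χ g) =
      (Nat.card H : ℂ)⁻¹ * ∑ x : G, ∑ g : G, extendByZero H θ (x⁻¹ * g * x) * conj (χ g) := by
    rw [Finset.sum_comm, Finset.mul_sum]
    refine Finset.sum_congr rfl fun g _ => ?_
    rw [indFun, Finset.mul_sum, Finset.sum_mul, Finset.mul_sum]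
    exact Finset.sum_congr rfl fun x _ => mul_assoc _ _ _
  simp only [classInner]
  rw [hsum, Finset.sum_congr rfl fun x _ => key x, Finset.sum_const, Finset.card_univ, nsmul_eq_mul,
    ← Nat.card_eq_fintype_card]
  field_simp

theorem classInner_indFun_right (H : Subgroup G) [Fintype H] (θ : H → ℂ) (χ : G → ℂ)
    (hχ : IsClassFunction G χ) :
    classInner χ (indFun H θ) = classInner (fun h : H => χ h) θ := by
  rw [← classInner_conj, classInner_indFun H θ χ hχ, classInner_conj]

theorem isCharacter_indFun (H : Subgroup G) {θ : H → ℂ} (hθ : IsCharacter H θ) :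
    IsCharacter G (indFun H θ) := by
  have := Fintype.ofFinite H
  refine isCharacter_of_nat_inner (isClassFunction_indFun H θ) fun ψ => ?_
  rw [classInner_indFun H θ _ (isClassFunction_irr ψ)]
  exact classInner_isCharacter hθ (isCharacter_comp (isCharacter_irr ψ) H.subtype)

theorem isGeneralizedCharacter_indFun (H : Subgroup G) {θ : H → ℂ}
    (hθ : IsGeneralizedCharacter H θ) : IsGeneralizedCharacter G (indFun H θ) := by
  obtain ⟨a, b, ha, hb, rfl⟩ := hθ
  exact ⟨_, _, isCharacter_indFun H ha, isCharacter_indFun H hb, indFun_sub H a b⟩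

/-- Transitivity of induction. -/
theorem indFun_trans (H K : Subgroup G) [Fintype K] (hHK : H ≤ K) (θ : H → ℂ) :
    indFun K (indFun (H.subgroupOf K) (fun x => θ ⟨(x : K), Subgroup.mem_subgroupOf.mp x.2⟩)) =
      indFun H θ := by
  classical
  let θ' : (H.subgroupOf K) → ℂ := fun x => θ ⟨(x : K), Subgroup.mem_subgroupOf.mp x.2⟩
  have hcard : (Nat.card (H.subgroupOf K) : ℂ) = (Nat.card H : ℂ) := by
    rw [Nat.card_congr (Subgroup.subgroupOfEquivOfLe hHK).toEquiv]
  have hin : ∀ y : G, extendByZero K (indFun (H.subgroupOf K) θ') y =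
      (Nat.card H : ℂ)⁻¹ * ∑ k : K, extendByZero H θ ((k : G)⁻¹ * y * k) := by
    intro y
    by_cases hy : y ∈ K
    · rw [extendByZero_mem K _ hy, indFun, hcard]
      congr 1
      refine Finset.sum_congr rfl fun k _ => ?_
      by_cases hH : (k : G)⁻¹ * y * k ∈ H
      · rw [extendByZero_mem H θ hH, extendByZero_mem _ θ' (Subgroup.mem_subgroupOf.mpr hH)]
        rfl
      · rw [extendByZero_not_mem H θ hH,
          extendByZero_not_mem _ θ' fun h => hH (Subgroup.mem_subgroupOf.mp h)]
    · rw [extendByZero_not_mem K _ hy, Finset.sum_eq_zero, mul_zero]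
      intro k _
      refine extendByZero_not_mem H θ fun h => hy ?_
      have h2 := K.mul_mem (K.mul_mem k.2 (hHK h)) (K.inv_mem k.2)
      rwa [show (k : G) * ((k : G)⁻¹ * y * k) * (k : G)⁻¹ = y by group] at h2
  funext g
  simp only [indFun] at hin ⊢
  rw [Finset.sum_congr rfl fun x _ => hin (x⁻¹ * g * x), ← Finset.mul_sum, Finset.sum_comm]
  have hk : ∀ k : K, ∑ x : G, extendByZero H θ ((k : G)⁻¹ * (x⁻¹ * g * x) * k) =
      ∑ x : G, extendByZero H θ (x⁻¹ * g * x) := fun k =>
    Fintype.sum_bijective (fun x => x * (k : G)) (Group.mulRight_bijective _) _ _ fun x => by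
      simp [mul_assoc]
  rw [Finset.sum_congr rfl fun k _ => hk k, Finset.sum_const, Finset.card_univ, nsmul_eq_mul,
    ← Nat.card_eq_fintype_card]
  have : (Nat.card K : ℂ) ≠ 0 := by exact_mod_cast Nat.card_pos.ne'
  field_simp

/-- Induction from a normal subgroup vanishes outside it. -/
theorem indFun_normal_not_mem (H : Subgroup G) [hN : H.Normal] (θ : H → ℂ) {g : G} (hg : g ∉ H) :
    indFun H θ g = 0 := by
  rw [indFun, Finset.sum_eq_zero, mul_zero]
  intro x _
  refine extendByZero_not_mem H θ fun h => hg ?_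
  have := hN.conj_mem _ h x
  rwa [show x * (x⁻¹ * g * x) * x⁻¹ = g by group] at this

/-- Induction from a normal subgroup, restricted to it, is a sum of conjugates. -/
theorem indFun_normal_mem (H : Subgroup G) [hN : H.Normal] (θ : H → ℂ) (h : H) :
    indFun H θ h = (Nat.card H : ℂ)⁻¹ * ∑ x : G, θ ⟨x * h * x⁻¹, hN.conj_mem h h.2 x⟩ := by
  rw [indFun]
  congr 1
  refine Fintype.sum_bijective (fun x => x⁻¹) (inv_involutive (G := G)).bijective _ _ fun x => ?_
  rw [extendByZero_mem H θ (by simpa using hN.conj_mem h h.2 x⁻¹)]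
  simp [inv_inv]

end CfsgLib.Char
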