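import Cfsg.Agent.Lib.Char.Orthogonality

/-!
# Multiplicities, generalized characters, the regular character
-/

set_option autoImplicit false

namespace CfsgLib.Char

open scoped ComplexConjugate
open Representation Module Cfsg

universe u

variable {G : Type u} [Group G]

theorem isGeneralizedCharacter_of_isCharacter {χ : G → ℂ} (h : IsCharacter G χ) :
    IsGeneralizedCharacter G χ := ⟨χ, 0, h, isCharacter_zero, by simp⟩

theorem isGeneralizedCharacter_zero : IsGeneralizedCharacter G (0 : G → ℂ) :=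
  isGeneralizedCharacter_of_isCharacter isCharacter_zero

theorem isGeneralizedCharacter_neg {χ : G → ℂ} (h : IsGeneralizedCharacter G χ) :
    IsGeneralizedCharacter G (-χ) := by
  obtain ⟨a, b, ha, hb, rfl⟩ := h
  exact ⟨b, a, hb, ha, by simp⟩

theorem isGeneralizedCharacter_add {χ ψ : G → ℂ} (h : IsGeneralizedCharacter G χ)
    (h' : IsGeneralizedCharacter G ψ) : IsGeneralizedCharacter G (χ + ψ) := by
  obtain ⟨a, b, ha, hb, rfl⟩ := h
  obtain ⟨c, d, hc, hd, rfl⟩ := h'
  exact ⟨a + c, b + d, isCharacter_add ha hc, isCharacter_add hb hd, by abel⟩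

theorem isGeneralizedCharacter_sub {χ ψ : G → ℂ} (h : IsGeneralizedCharacter G χ)
    (h' : IsGeneralizedCharacter G ψ) : IsGeneralizedCharacter G (χ - ψ) := by
  rw [sub_eq_add_neg]
  exact isGeneralizedCharacter_add h (isGeneralizedCharacter_neg h')

theorem isGeneralizedCharacter_mul {χ ψ : G → ℂ} (h : IsGeneralizedCharacter G χ)
    (h' : IsGeneralizedCharacter G ψ) : IsGeneralizedCharacter G (χ * ψ) := by
  obtain ⟨a, b, ha, hb, rfl⟩ := h
  obtain ⟨c, d, hc, hd, rfl⟩ := h'
  exact ⟨a * c + b * d, a * d + b * c, isCharacter_add (isCharacter_mul ha hc) (isCharacter_mul hb hd),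
    isCharacter_add (isCharacter_mul ha hd) (isCharacter_mul hb hc), by ring⟩

theorem isGeneralizedCharacter_sum {ι : Type*} (s : Finset ι) (f : ι → G → ℂ)
    (h : ∀ i ∈ s, IsGeneralizedCharacter G (f i)) : IsGeneralizedCharacter G (∑ i ∈ s, f i) :=
  Finset.sum_induction _ (IsGeneralizedCharacter G) (fun _ _ => isGeneralizedCharacter_add)
    isGeneralizedCharacter_zero h

theorem isGeneralizedCharacter_zsmul {χ : G → ℂ} (h : IsGeneralizedCharacter G χ) (n : ℤ) :
    IsGeneralizedCharacter G ((n : ℂ) • χ) := by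
  obtain ⟨a, b, ha, hb, rfl⟩ := h
  obtain ⟨m, rfl | rfl⟩ := n.eq_nat_or_neg
  · exact ⟨m • a, m • b, isCharacter_natSmul ha m, isCharacter_natSmul hb m, by
      funext g; simp [mul_sub]⟩
  · exact ⟨m • b, m • a, isCharacter_natSmul hb m, isCharacter_natSmul ha m, by
      funext g; simp [mul_sub]; ring⟩

theorem isGeneralizedCharacter_comp {H : Type*} [Group H] {χ : G → ℂ}
    (h : IsGeneralizedCharacter G χ) (f : H →* G) : IsGeneralizedCharacter H (fun x => χ (f x)) := by
  obtain ⟨a, b, ha, hb, rfl⟩ := h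
  exact ⟨_, _, isCharacter_comp ha f, isCharacter_comp hb f, by funext x; rfl⟩

theorem isClassFunction_of_isGeneralized {χ : G → ℂ} (h : IsGeneralizedCharacter G χ) :
    IsClassFunction G χ := by
  obtain ⟨a, b, ha, hb, rfl⟩ := h
  intro g k
  simp [isClassFunction_of_isCharacter ha g k, isClassFunction_of_isCharacter hb g k]

theorem generalized_inv [Finite G] {χ : G → ℂ} (h : IsGeneralizedCharacter G χ) (g : G) :
    χ g⁻¹ = conj (χ g) := by
  obtain ⟨a, b, ha, hb, rfl⟩ := h
  simp [isCharacter_inv ha, isCharacter_inv hb]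

theorem generalized_isIntegral [Finite G] {χ : G → ℂ} (h : IsGeneralizedCharacter G χ) (g : G) :
    IsIntegral ℤ (χ g) := by
  obtain ⟨a, b, ha, hb, rfl⟩ := h
  exact (isCharacter_isIntegral ha g).sub (isCharacter_isIntegral hb g)

variable [Fintype G]

theorem classInner_generalized_int {χ ψ : G → ℂ} (h : IsGeneralizedCharacter G χ)
    (h' : IsGeneralizedCharacter G ψ) : ∃ m : ℤ, classInner χ ψ = m := by
  obtain ⟨a, b, ha, hb, rfl⟩ := h
  obtain ⟨c, d, hc, hd, rfl⟩ := h'
  obtain ⟨m₁, e₁⟩ := classInner_isCharacter ha hc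
  obtain ⟨m₂, e₂⟩ := classInner_isCharacter ha hd
  obtain ⟨m₃, e₃⟩ := classInner_isCharacter hb hc
  obtain ⟨m₄, e₄⟩ := classInner_isCharacter hb hd
  refine ⟨(m₁ : ℤ) - m₃ - ((m₂ : ℤ) - m₄), ?_⟩
  rw [classInner_sub_right, classInner_sub_left, classInner_sub_left, e₁, e₂, e₃, e₄]
  push_cast
  ring

variable [Fintype (IrrCharacter G)]

omit [Fintype (IrrCharacter G)] in
/-- A class function with natural multiplicities is a character. -/
theorem isCharacter_of_nat_inner {χ : G → ℂ} (hcf : IsClassFunction G χ)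
    (h : ∀ ψ : IrrCharacter G, ∃ m : ℕ, classInner χ (ψ : G → ℂ) = m) : IsCharacter G χ := by
  have := Fintype.ofFinite (IrrCharacter G)
  choose m hm using h
  have : χ = ∑ ψ : IrrCharacter G, m ψ • (ψ : G → ℂ) := by
    conv_lhs => rw [classFun_expand hcf]
    exact Finset.sum_congr rfl fun ψ _ => by funext g; simp [hm]
  rw [this]
  exact isCharacter_sum _ _ fun ψ _ => isCharacter_natSmul (isCharacter_irr ψ) _

omit [Fintype (IrrCharacter G)] in
/-- A class function with integral multiplicities is a generalized character. -/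
theorem isGeneralizedCharacter_of_int_inner {χ : G → ℂ} (hcf : IsClassFunction G χ)
    (h : ∀ ψ : IrrCharacter G, ∃ m : ℤ, classInner χ (ψ : G → ℂ) = m) :
    IsGeneralizedCharacter G χ := by
  have := Fintype.ofFinite (IrrCharacter G)
  choose m hm using h
  rw [classFun_expand hcf]
  exact isGeneralizedCharacter_sum _ _ fun ψ _ => hm ψ ▸
    isGeneralizedCharacter_zsmul (isGeneralizedCharacter_of_isCharacter (isCharacter_irr ψ)) _

/-- The integral coordinates and norm of a generalized character. -/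
theorem generalized_expand {χ : G → ℂ} (h : IsGeneralizedCharacter G χ) :
    ∃ m : IrrCharacter G → ℤ, (∀ ψ : IrrCharacter G, classInner χ (ψ : G → ℂ) = m ψ) ∧
      χ = ∑ ψ : IrrCharacter G, (m ψ : ℂ) • (ψ : G → ℂ) ∧
      classInner χ χ = ((∑ ψ, m ψ ^ 2 : ℤ) : ℂ) := by
  have : ∀ ψ : IrrCharacter G, ∃ m : ℤ, classInner χ (ψ : G → ℂ) = m := fun ψ =>
    classInner_generalized_int h (isGeneralizedCharacter_of_isCharacter (isCharacter_irr ψ))
  choose m hm using this
  refine ⟨m, hm, ?_, ?_⟩
  · conv_lhs => rw [classFun_expand (isClassFunction_of_isGeneralized h)]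
    simp only [hm]
  · rw [classInner_expand (isClassFunction_of_isGeneralized h)]
    simp [hm, sq]

omit [Fintype (IrrCharacter G)] in
/-- A virtual character of norm 1 is irreducible up to sign. -/
theorem irr_or_neg_of_norm_one {χ : G → ℂ} (h : IsGeneralizedCharacter G χ)
    (h1 : classInner χ χ = 1) : IsIrrCharacter G χ ∨ IsIrrCharacter G (-χ) := by
  classical
  have := Fintype.ofFinite (IrrCharacter G)
  obtain ⟨m, hm, he, hn⟩ := generalized_expand h
  have hs : ∑ ψ, m ψ ^ 2 = 1 := by exact_mod_cast hn.symm.trans h1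
  obtain ⟨ψ₀, hψ₀⟩ : ∃ ψ₀, m ψ₀ ≠ 0 := by
    by_contra hc
    push Not at hc
    simp [hc] at hs
  have hle : m ψ₀ ^ 2 ≤ 1 := hs ▸ Finset.single_le_sum (fun i _ => sq_nonneg (m i)) (Finset.mem_univ ψ₀)
  have h0 : m ψ₀ ^ 2 = 1 := by
    have := Int.one_le_abs hψ₀
    nlinarith [sq_abs (m ψ₀)]
  have hothers : ∀ ψ, ψ ≠ ψ₀ → m ψ = 0 := by
    intro ψ hne
    have hrest : ∑ x ∈ Finset.univ.erase ψ₀, m x ^ 2 = 0 := by
      have := Finset.sum_erase_add Finset.univ (fun x => m x ^ 2) (Finset.mem_univ ψ₀)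
      simp only [h0, hs] at this
      omega
    simpa using (Finset.sum_eq_zero_iff_of_nonneg (fun i _ => sq_nonneg (m i))).mp hrest ψ (by simp [hne])
  have hχ : χ = (m ψ₀ : ℂ) • (ψ₀ : G → ℂ) := by
    rw [he, Finset.sum_eq_single ψ₀ (fun b _ hb => by simp [hothers b hb])
      (fun hh => absurd (Finset.mem_univ ψ₀) hh)]
  rcases sq_eq_one_iff.mp h0 with e | e
  · left; rw [hχ, e]; simpa using ψ₀.2
  · right; rw [hχ, e]; simpa using ψ₀.2

omit [Fintype (IrrCharacter G)] in
/-- A character of norm 1 is irreducible. -/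
theorem isIrr_of_norm_one {χ : G → ℂ} (h : IsGeneralizedCharacter G χ) (h1 : classInner χ χ = 1)
    (hpos : 0 < (χ 1).re) : IsIrrCharacter G χ := by
  refine (irr_or_neg_of_norm_one h h1).resolve_right fun hn => ?_
  obtain ⟨d, hd, he⟩ := isIrrCharacter_degree hn
  have := congrArg Complex.re he
  simp at this
  have : (0 : ℝ) < d := by exact_mod_cast hd
  linarith

omit [Fintype (IrrCharacter G)] in
theorem isIrr_of_isCharacter_norm_one {χ : G → ℂ} (h : IsCharacter G χ) (h1 : classInner χ χ = 1) :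
    IsIrrCharacter G χ := by
  obtain ⟨n, ρ, rfl⟩ := h
  refine isIrr_of_norm_one (isGeneralizedCharacter_of_isCharacter ⟨n, ρ, rfl⟩) h1 ?_
  rw [Representation.char_one]
  simp only [Complex.natCast_re, Nat.cast_pos]
  by_contra hc
  have h0 : finrank ℂ (Fin n → ℂ) = 0 := by omega
  have : Subsingleton (Fin n → ℂ) := Module.finrank_zero_iff.mp h0
  have hz : ρ.character = 0 := by
    funext g
    simp [Representation.character, Subsingleton.elim (ρ g) 0]
  simp [hz, classInner_zero_left] at h1

omit [Fintype (IrrCharacter G)] in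
theorem irr_eq_of_inner_ne_zero {χ ψ : IrrCharacter G} (h : classInner (χ : G → ℂ) ψ ≠ 0) :
    χ = ψ := by
  by_contra hne
  exact h (classInner_irr_ne hne)

omit [Fintype (IrrCharacter G)] in
theorem regular_char [DecidableEq G] (g : G) :
    (Representation.leftRegular ℂ G).character g = if g = 1 then (Nat.card G : ℂ) else 0 := by
  rw [Representation.character, LinearMap.trace_eq_matrix_trace ℂ (MonoidAlgebra.basis G ℂ)]
  simp only [Matrix.trace, Matrix.diag, LinearMap.toMatrix_apply, MonoidAlgebra.basis_apply]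
  simp [Representation.ofMulAction_single, MonoidAlgebra.coeff_single, Finsupp.single_apply,
    MonoidAlgebra.basis, Nat.card_eq_fintype_card]

theorem regular_char_expand :
    (Representation.leftRegular ℂ G).character =
      ∑ χ : IrrCharacter G, (χ : G → ℂ) 1 • (χ : G → ℂ) := by
  classical
  conv_lhs => rw [classFun_expand (fun g h => Representation.char_conj _ g h)]
  refine Finset.sum_congr rfl fun χ _ => ?_
  congr 1
  rw [classInner]
  simp [regular_char, conj_irr_one]

end CfsgLib.Char
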