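import Cfsg.Agent.Lib.Char.Scalar
import Cfsg.Agent.Lib.Char.Virtual

/-!
# Central characters, integrality, degree divides the group order
-/

set_option autoImplicit false

set_option linter.unusedSectionVars false

namespace CfsgLib.Char

open scoped ComplexConjugate
open Representation Module Cfsg

universe u v

/-- The value of the central character of `χ` at the class sum of `g`. -/
noncomputable def omega {G : Type u} [Group G] (χ : G → ℂ) (g : G) : ℂ :=
  (Nat.card {x : G // IsConj g x} : ℂ) * χ g / χ 1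

/-- The class structure constant: pairs in given classes with product `z`. -/
noncomputable def classConst {G : Type u} [Group G] (a b z : G) : ℕ :=
  Nat.card {p : G × G // IsConj a p.1 ∧ IsConj b p.2 ∧ p.1 * p.2 = z}

variable {G : Type u} [Group G] {V : Type v} [AddCommGroup V] [Module ℂ V] [FiniteDimensional ℂ V]

open Classical in
/-- The sum of `ρ` over the conjugacy class of `g`. -/
noncomputable def classOp [Fintype G] (ρ : Representation ℂ G V) (g : G) : V →ₗ[ℂ] V :=
  ∑ x : G, if IsConj g x then ρ x else 0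

theorem classOp_comm [Fintype G] (ρ : Representation ℂ G V) (g h : G) :
    classOp ρ g * ρ h = ρ h * classOp ρ g := by
  classical
  simp only [classOp, Finset.sum_mul, Finset.mul_sum, ite_mul, mul_ite, zero_mul, mul_zero,
    ← map_mul]
  refine Fintype.sum_bijective (fun x => h⁻¹ * x * h⁻¹⁻¹) (MulAut.conj h⁻¹).bijective _ _ fun x => ?_
  have e : IsConj g (h⁻¹ * x * h⁻¹⁻¹) ↔ IsConj g x := by
    have : IsConj x (h⁻¹ * x * h⁻¹⁻¹) := isConj_iff.mpr ⟨h⁻¹, rfl⟩
    exact ⟨fun H => H.trans this.symm, fun H => H.trans this⟩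
  by_cases hx : IsConj g x
  · rw [if_pos hx, if_pos (e.mpr hx), show h * (h⁻¹ * x * h⁻¹⁻¹) = x * h by group]
  · rw [if_neg hx, if_neg (fun H => hx (e.mp H))]

theorem classOp_eq [Fintype G] (ρ : Representation ℂ G V) [ρ.IsIrreducible] (g : G) :
    classOp ρ g = omega ρ.character g • LinearMap.id := by
  classical
  obtain ⟨c, hc⟩ := schur_scalar ρ (classOp ρ g) (classOp_comm ρ g)
  have htr : LinearMap.trace ℂ V (classOp ρ g) =
      (Nat.card {x : G // IsConj g x} : ℂ) * ρ.character g := by
    rw [classOp, ← Finset.sum_filter, map_sum, Nat.card_eq_fintype_card, Fintype.card_subtype,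
      ← nsmul_eq_mul, ← Finset.sum_const]
    refine Finset.sum_congr rfl fun x hx => ?_
    exact (classFun_isConj (fun a b => Representation.char_conj ρ a b) (Finset.mem_filter.mp hx).2).symm
  rw [hc, trace_smul_id] at htr
  have hd : (finrank ℂ V : ℂ) ≠ 0 := by exact_mod_cast (finrank_pos_of_irreducible ρ).ne'
  rw [hc, omega, Representation.char_one]
  congr 1
  field_simp
  linear_combination htr

/-- A scalar by which an integral combination of the `ρ g` acts is an algebraic integer. -/
theorem isIntegral_of_sum_smul_eq [Fintype G] [Nontrivial V] (ρ : Representation ℂ G V) (a : G → ℂ)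
    (ha : ∀ g, IsIntegral ℤ (a g)) (ω : ℂ) (h : ∑ g, a g • ρ g = ω • LinearMap.id) :
    IsIntegral ℤ ω := by
  let R := integralClosure ℤ ℂ
  obtain ⟨v, hv⟩ := exists_ne (0 : V)
  let N : Submodule R V := Submodule.span R (Set.range fun g => ρ g v)
  have hN : N ≠ ⊥ := fun hb => hv (by
    have : ρ 1 v ∈ N := Submodule.subset_span ⟨1, rfl⟩
    simpa [hb] using this)
  have hmem : ∀ n ∈ N, ω • n ∈ N := by
    intro n hn
    induction hn using Submodule.span_induction with
    | mem x hx =>
      obtain ⟨k, rfl⟩ := hx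
      have e : ω • ρ k v = ∑ g, (⟨a g, ha g⟩ : R) • ρ (g * k) v := by
        rw [show ω • ρ k v = (ω • (LinearMap.id : V →ₗ[ℂ] V)) (ρ k v) from rfl, ← h]
        simp [LinearMap.sum_apply, map_mul, Subalgebra.smul_def]
      rw [e]
      exact Submodule.sum_mem _ fun g _ => Submodule.smul_mem _ _ (Submodule.subset_span ⟨_, rfl⟩)
    | zero => simp
    | add x y _ _ hx hy => rw [smul_add]; exact add_mem hx hy
    | smul r x _ hx => rw [smul_comm]; exact Submodule.smul_mem _ _ hx
  exact isIntegral_trans (A := R) ω (isIntegral_of_smul_mem_submodule N hN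
    (Submodule.fg_span (Set.finite_range _)) ω hmem)

theorem isIntegral_omega_rep [Finite G] (ρ : Representation ℂ G V) [ρ.IsIrreducible] (g : G) :
    IsIntegral ℤ (omega ρ.character g) := by
  classical
  have := Fintype.ofFinite G
  have := nontrivial_of_irreducible ρ
  refine isIntegral_of_sum_smul_eq ρ (fun x => if IsConj g x then 1 else 0) (fun x => ?_) _ ?_
  · split_ifs
    · exact isIntegral_one
    · exact isIntegral_zero
  · rw [← classOp_eq ρ g, classOp]
    exact Finset.sum_congr rfl fun x _ => by split_ifs <;> simp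

theorem isIntegral_omega [Finite G] (χ : IrrCharacter G) (g : G) :
    IsIntegral ℤ (omega (χ : G → ℂ) g) := by
  obtain ⟨χ, n, ρ, hρ, rfl⟩ := χ
  exact isIntegral_omega_rep ρ g

/-- Product rule for central characters. -/
theorem omega_mul [Fintype G] (χ : IrrCharacter G) (a b : G) :
    omega (χ : G → ℂ) a * omega (χ : G → ℂ) b =
      ∑ z : G, (classConst a b z : ℂ) * (χ : G → ℂ) z / (χ : G → ℂ) 1 := by
  classical
  obtain ⟨χ, n, ρ, hρ, rfl⟩ := χ
  have h : LinearMap.trace ℂ _ (classOp ρ a * classOp ρ b) =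
      omega ρ.character a * omega ρ.character b * ρ.character 1 := by
    rw [classOp_eq, classOp_eq, Representation.char_one, ← trace_smul_id]
    congr 1
    ext v
    simp [smul_smul, Module.End.mul_apply, mul_comm]
  have h2 : classOp ρ a * classOp ρ b = ∑ z : G, (classConst a b z : ℂ) • ρ z := by
    simp only [classOp, ← Finset.sum_filter, Finset.sum_mul_sum, ← map_mul]
    rw [← Finset.sum_product', ← Finset.sum_fiberwise _ (fun p : G × G => p.1 * p.2)]
    refine Finset.sum_congr rfl fun z _ => ?_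
    rw [Finset.sum_congr rfl (g := fun _ => ρ z) fun p hp => by rw [(Finset.mem_filter.mp hp).2],
      Finset.sum_const, ← Nat.cast_smul_eq_nsmul ℂ, classConst, Nat.card_eq_fintype_card,
      Fintype.card_subtype]
    congr 3
    ext p
    simp [and_assoc]
  have h1 : ρ.character 1 ≠ 0 := irr_one_ne_zero ⟨_, n, ρ, hρ, rfl⟩
  rw [h2, map_sum] at h
  simp only [map_smul, smul_eq_mul] at h
  rw [← Finset.sum_div, eq_div_iff h1]
  exact h.symm

/-- The degree of an irreducible character divides the order of the group. -/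
theorem degree_dvd_card [Finite G] (χ : IrrCharacter G) {d : ℕ} (hd : (χ : G → ℂ) 1 = d) :
    d ∣ Nat.card G := by
  obtain ⟨χ, n, ρ, hρ, rfl⟩ := χ
  have := Fintype.ofFinite G
  have hfd : d = finrank ℂ (Fin n → ℂ) := by
    have h1 : (d : ℂ) = (finrank ℂ (Fin n → ℂ) : ℂ) := hd.symm.trans (Representation.char_one ρ)
    exact_mod_cast h1
  have hd0 : (d : ℂ) ≠ 0 := by
    rw [hfd]; exact_mod_cast (finrank_pos_of_irreducible ρ).ne'
  obtain ⟨c, hc⟩ := schur_scalar ρ (∑ g, ρ.character g⁻¹ • ρ g) fun x => by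
    simp only [Finset.sum_mul, Finset.mul_sum, smul_mul_assoc, mul_smul_comm, ← map_mul]
    refine Fintype.sum_bijective (fun g => x⁻¹ * g * x⁻¹⁻¹) (MulAut.conj x⁻¹).bijective _ _ fun g => ?_
    rw [show x * (x⁻¹ * g * x⁻¹⁻¹) = g * x by group]
    congr 1
    rw [show (x⁻¹ * g * x⁻¹⁻¹)⁻¹ = x⁻¹ * g⁻¹ * x⁻¹⁻¹ by group, Representation.char_conj]
  have := nontrivial_of_irreducible ρ
  have hint : IsIntegral ℤ c :=
    isIntegral_of_sum_smul_eq ρ _ (fun g => char_pow_eq_sum_isIntegral ρ g⁻¹) c hc
  have htr := congrArg (LinearMap.trace ℂ _) hc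
  rw [trace_smul_id, map_sum, ← hfd] at htr
  have hsum : ∑ g : G, LinearMap.trace ℂ _ (ρ.character g⁻¹ • ρ g) = (Nat.card G : ℂ) := by
    have h1 := classInner_irr_self (G := G) ⟨_, n, ρ, hρ, rfl⟩
    rw [classInner, inv_mul_eq_one₀ card_ne_zero'] at h1
    rw [h1]
    exact Finset.sum_congr rfl fun g _ => by rw [map_smul, smul_eq_mul, char_inv, mul_comm]; rfl
  rw [hsum] at htr
  have hq : c = algebraMap ℚ ℂ ((Nat.card G : ℚ) / d) := by
    rw [map_div₀, map_natCast, map_natCast, eq_div_iff hd0]
    exact htr.symm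
  rw [hq, isIntegral_algebraMap_iff (algebraMap ℚ ℂ).injective,
    IsIntegrallyClosed.isIntegral_iff] at hint
  obtain ⟨m, hm⟩ := hint
  have hd' : (d : ℚ) ≠ 0 := by exact_mod_cast hd0
  rw [eq_div_iff hd', eq_intCast] at hm
  exact Int.natCast_dvd_natCast.mp ⟨m, by rw [mul_comm]; exact_mod_cast hm.symm⟩

theorem finrank_dvd_card [Finite G] (ρ : Representation ℂ G V) [ρ.IsIrreducible] :
    finrank ℂ V ∣ Nat.card G :=
  degree_dvd_card ⟨_, isIrrCharacter_character ρ⟩ (Representation.char_one ρ)

/-- Burnside: the value of an irreducible character on a class of size prime to the degree. -/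
theorem char_zero_or_norm_eq_degree [Finite G] (ρ : Representation ℂ G V) [ρ.IsIrreducible] (g : G)
    (hcop : Nat.Coprime (finrank ℂ V) (Subgroup.centralizer ({g} : Set G)).index) :
    ρ.character g = 0 ∨ ‖ρ.character g‖ = (finrank ℂ V : ℝ) := by
  obtain ⟨b, μ, h1, _, h3⟩ := exists_eigen_data ρ g
  have e := h3 1
  simp only [pow_one] at e
  have hd : (finrank ℂ V : ℂ) ≠ 0 := by exact_mod_cast (finrank_pos_of_irreducible ρ).ne'
  have hω := isIntegral_omega_rep ρ g
  rw [omega, card_isConj, Representation.char_one] at hω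
  obtain ⟨u, v, huv⟩ := Nat.isCoprime_iff_coprime.mpr hcop
  have hint : IsIntegral ℤ ((∑ i, μ i) / (finrank ℂ V : ℂ)) := by
    have hc : (u : ℂ) * (finrank ℂ V : ℂ) +
        (v : ℂ) * ((Subgroup.centralizer ({g} : Set G)).index : ℂ) = 1 := by exact_mod_cast huv
    have : (∑ i, μ i) / (finrank ℂ V : ℂ) = (u : ℂ) * ρ.character g + (v : ℂ) *
        (((Subgroup.centralizer ({g} : Set G)).index : ℂ) * ρ.character g / (finrank ℂ V : ℂ)) := by
      rw [← e]
      field_simp
      linear_combination (-ρ.character g) * hc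
    rw [this]
    exact (isIntegral_algebraMap.mul (char_pow_eq_sum_isIntegral ρ g)).add (isIntegral_algebraMap.mul hω)
  rcases avg_roots_zero_or_norm_one μ (fun i => ⟨orderOf g, (orderOf_pos g).ne', h1 i⟩) hint with h | h
  · left
    rw [← e, div_eq_zero_iff] at h
    exact h.resolve_right hd
  · right
    rw [← e, norm_div, RCLike.norm_natCast, div_eq_one_iff_eq (by exact_mod_cast (finrank_pos_of_irreducible ρ).ne')] at h
    exact h

theorem norm_char_eq_iff [Finite G] (ρ : Representation ℂ G V) (g : G) :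
    ‖ρ.character g‖ = (finrank ℂ V : ℝ) ↔ ∃ ω : ℂ, ρ g = ω • (LinearMap.id : V →ₗ[ℂ] V) := by
  obtain ⟨b, μ, h1, h2, h3⟩ := exists_eigen_data ρ g
  have e := h3 1
  simp only [pow_one] at e
  constructor
  · intro h
    rcases Nat.eq_zero_or_pos (finrank ℂ V) with h0 | h0
    · refine ⟨1, b.ext fun i => ?_⟩
      have := i.2
      omega
    · refine ⟨ρ.character g / (finrank ℂ V : ℂ), b.ext fun i => ?_⟩
      have hi := eq_of_norm_sum_eq_card Finset.univ μ
        (fun i _ => norm_eq_one_of_pow_eq_one' (orderOf_pos g).ne' (h1 i))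
        (by rw [← e, h]; simp) i (Finset.mem_univ i)
      have hμ : ρ.character g / (finrank ℂ V : ℂ) = μ i := by
        rw [e, ← hi]; simp [h0.ne']
      have := h2 1 i
      simp only [pow_one] at this
      simp [this, hμ]
  · rintro ⟨ω, hω⟩
    rw [Representation.character, hω, trace_smul_id, norm_mul, RCLike.norm_natCast]
    rcases Nat.eq_zero_or_pos (finrank ℂ V) with h0 | h0
    · simp [h0]
    have := h2 1 ⟨0, h0⟩
    rw [pow_one, pow_one, hω] at this
    have hω' : ω = μ ⟨0, h0⟩ := smul_left_injective ℂ (b.ne_zero _) this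
    rw [hω', norm_eq_one_of_pow_eq_one' (orderOf_pos g).ne' (h1 _), one_mul]

theorem char_eq_degree_iff [Finite G] (ρ : Representation ℂ G V) (g : G) :
    ρ.character g = (finrank ℂ V : ℂ) ↔ ρ g = LinearMap.id := by
  refine ⟨fun h => ?_, fun h => by rw [Representation.character, h, LinearMap.trace_id]⟩
  obtain ⟨ω, hω⟩ := (norm_char_eq_iff ρ g).mp (by rw [h]; simp)
  rcases Nat.eq_zero_or_pos (finrank ℂ V) with h0 | h0
  · have := Module.finrank_zero_iff.mp h0
    exact LinearMap.ext fun x => Subsingleton.elim _ _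
  have : ω = 1 := by
    rw [Representation.character, hω, trace_smul_id] at h
    exact (mul_eq_right₀ (by exact_mod_cast h0.ne')).mp h
  rw [hω, this, one_smul]

end CfsgLib.Char
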