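import Cfsg.Agent.Lib.Char.TwoByTwoOrders

/-!
# Tori of `GL(2,q)` and the element orders of `PGL(2,q)`, `q` odd
-/

set_option autoImplicit false
set_option linter.unusedSectionVars false
set_option linter.style.haveILetI false

namespace CfsgLib.Char.TwoByTwo

open Matrix CfsgLib.PSL2Two QuadraticAlgebra

variable {F : Type*} [Field F]

/-- The regular representation of `F[√ε]`. -/
def torusMat (ε : F) : QuadraticAlgebra F ε 0 →* Matrix (Fin 2) (Fin 2) F where
  toFun z := !![z.re, ε * z.im; z.im, z.re]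
  map_one' := by
    ext i j; fin_cases i <;> fin_cases j <;> simp
  map_mul' z w := by
    ext i j; fin_cases i <;> fin_cases j <;> simp [Matrix.mul_apply, Fin.sum_univ_two] <;> ring

theorem det_torusMat (ε : F) (z : QuadraticAlgebra F ε 0) : (torusMat ε z).det = z.norm := by
  simp [torusMat, Matrix.det_fin_two, QuadraticAlgebra.norm_def, mul_assoc]

theorem torusMat_eq_smul_one {ε : F} {z : QuadraticAlgebra F ε 0} {c : F}
    (h : torusMat ε z = c • (1 : Matrix (Fin 2) (Fin 2) F)) : z.re = c ∧ z.im = 0 := by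
  refine ⟨?_, ?_⟩
  · simpa [torusMat] using congrFun (congrFun h 0) 0
  · simpa [torusMat] using congrFun (congrFun h 1) 0

theorem trace_torusMat (ε : F) (z : QuadraticAlgebra F ε 0) : (torusMat ε z).trace = 2 * z.re := by
  simp [torusMat, Matrix.trace_fin_two]
  ring

/-- A torus element of `SL(2,F)`. -/
def torSL (ε : F) (u : QuadraticAlgebra F ε 0) (h : (torusMat ε u).det = 1) : SL2 F := ⟨torusMat ε u, h⟩

@[simp] theorem torSL_val (ε : F) (u : QuadraticAlgebra F ε 0) (h : (torusMat ε u).det = 1) :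
    (torSL ε u h).1 = torusMat ε u := rfl

variable [Fintype F]

theorem ringChar_two_ne (hodd : Fintype.card F % 2 = 1) : ringChar F ≠ 2 := fun h => by
  have := FiniteField.even_card_of_char_two h; omega

section Nonsplit

variable (ε : F) [Fact (∀ r : F, r ^ 2 ≠ ε + 0 * r)]

noncomputable local instance instFintypeE : Fintype (QuadraticAlgebra F ε 0) :=
  Fintype.ofEquiv (F × F) (QuadraticAlgebra.equivProd ε 0).symm

theorem card_quad : Fintype.card (QuadraticAlgebra F ε 0) = Fintype.card F * Fintype.card F :=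
  (Fintype.card_congr (QuadraticAlgebra.equivProd ε 0)).trans (Fintype.card_prod F F)

theorem exists_gen : ∃ w : (QuadraticAlgebra F ε 0)ˣ, orderOf w = Fintype.card F * Fintype.card F - 1 := by
  obtain ⟨w, hw⟩ := IsCyclic.exists_ofOrder_eq_natCard (α := (QuadraticAlgebra F ε 0)ˣ)
  refine ⟨w, hw.trans ?_⟩
  rw [Nat.card_units, Nat.card_eq_fintype_card, card_quad]

theorem norm_ne_zero (w : (QuadraticAlgebra F ε 0)ˣ) : QuadraticAlgebra.norm (w : (QuadraticAlgebra F ε 0)) ≠ 0 :=
  (w.isUnit.map QuadraticAlgebra.norm).ne_zero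

include ε in
/-- An element of `PGL(2,q)` of order `q + 1`. -/
theorem exists_pgl_orderOf_add_one (hodd : Fintype.card F % 2 = 1) :
    ∃ g : PGL2 F, orderOf g = Fintype.card F + 1 := by
  obtain ⟨p, hc⟩ := CharP.exists F
  obtain ⟨n, hp, hn⟩ := FiniteField.card F p
  haveI : Fact p.Prime := ⟨hp⟩
  obtain ⟨w, hw⟩ := exists_gen ε
  set q := Fintype.card F with hq
  have hq3 : 3 ≤ q := by have := Fintype.one_lt_card (α := F); omega
  let M : GL (Fin 2) F := Matrix.GeneralLinearGroup.mkOfDetNeZero (torusMat ε (w : (QuadraticAlgebra F ε 0)))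
    (by rw [det_torusMat]; exact norm_ne_zero ε w)
  have hM : (M : Matrix (Fin 2) (Fin 2) F) = torusMat ε (w : (QuadraticAlgebra F ε 0)) := rfl
  set g : PGL2 F := QuotientGroup.mk M with hg
  have hdvd : q + 1 ∣ orderOf g := by
    obtain ⟨c, hc'⟩ := (pgl_mk_pow_eq_one_iff M _).mp (pow_orderOf_eq_one g)
    rw [hM, ← map_pow] at hc'
    obtain ⟨h1, h2⟩ := torusMat_eq_smul_one hc'
    have hwc : ((w : (QuadraticAlgebra F ε 0)) ^ orderOf g) = algebraMap F (QuadraticAlgebra F ε 0) c := by
      ext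
      · rw [h1]; simp
      · rw [h2]; simp
    have hc0 : c ≠ 0 := fun h0 => by
      rw [h0, map_zero] at hwc
      exact (Units.ne_zero w) (pow_eq_zero_iff (orderOf_pos g).ne' |>.mp hwc)
    have h3 : w ^ (orderOf g * (q - 1)) = 1 := Units.ext (by
      rw [Units.val_pow_eq_pow_val, pow_mul, hwc, ← map_pow, FiniteField.pow_card_sub_one_eq_one c hc0,
        map_one, Units.val_one])
    have h4 := orderOf_dvd_of_pow_eq_one h3
    rw [hw, show q * q - 1 = (q + 1) * (q - 1) by
      rw [Nat.add_mul, one_mul, Nat.mul_sub_one]; have := Nat.le_mul_self q; omega] at h4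
    exact Nat.dvd_of_mul_dvd_mul_right (by omega) h4
  refine ⟨g, Nat.dvd_antisymm ?_ hdvd⟩
  rcases pgl_pow_cases hodd (p := p) g with h | h | h
  · have h1 := Nat.le_of_dvd hp.pos (hdvd.trans (orderOf_dvd_of_pow_eq_one h))
    have h2 : p ≤ q := by rw [hn]; exact Nat.le_self_pow n.ne_zero p
    omega
  · have h1 := Nat.le_of_dvd (by omega) (hdvd.trans (orderOf_dvd_of_pow_eq_one h))
    omega
  · exact orderOf_dvd_of_pow_eq_one h

/-- A norm one element of `F[√ε]` whose image in `PSL(2,q)` has order `(q+1)/2`. -/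
theorem exists_psl_torus (hodd : Fintype.card F % 2 = 1) (h5 : 5 ≤ Fintype.card F) :
    ∃ (u : (QuadraticAlgebra F ε 0)) (h : (torusMat ε u).det = 1),
      orderOf (π (torSL ε u h)) = (Fintype.card F + 1) / 2 := by
  obtain ⟨p, hc⟩ := CharP.exists F
  obtain ⟨n, hp, hn⟩ := FiniteField.card F p
  haveI : Fact p.Prime := ⟨hp⟩
  obtain ⟨w, hw⟩ := exists_gen ε
  set q := Fintype.card F with hq
  have hdet : (torusMat ε ((w : (QuadraticAlgebra F ε 0)) ^ (q - 1))).det = 1 := by
    rw [det_torusMat, map_pow, FiniteField.pow_card_sub_one_eq_one _ (norm_ne_zero ε w)]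
  refine ⟨(w : (QuadraticAlgebra F ε 0)) ^ (q - 1), hdet, ?_⟩
  set A : SL2 F := torSL ε ((w : (QuadraticAlgebra F ε 0)) ^ (q - 1)) hdet with hA
  set k := orderOf (π A) with hk
  have hd : q + 1 ∣ 2 * k := by
    have h1 := pow_orderOf_eq_one (π A)
    rw [← hk, ← map_pow, π_eq_one_iff, Matrix.SpecialLinearGroup.coe_pow] at h1
    have h2 : torusMat ε (((w : (QuadraticAlgebra F ε 0)) ^ (q - 1)) ^ (2 * k)) = 1 := by
      rw [mul_comm 2 k, pow_mul, map_pow, map_pow]
      rcases h1 with h1 | h1 <;> rw [hA, torSL_val] at h1 <;> rw [h1] <;> simp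
    rw [← one_smul F (1 : Matrix (Fin 2) (Fin 2) F)] at h2
    obtain ⟨e1, e2⟩ := torusMat_eq_smul_one h2
    have h3 : w ^ ((q - 1) * (2 * k)) = 1 := Units.ext (by
      rw [Units.val_pow_eq_pow_val, pow_mul, Units.val_one]
      ext
      · rw [e1]; simp
      · rw [e2]; simp)
    have h4 := orderOf_dvd_of_pow_eq_one h3
    rw [hw, show q * q - 1 = (q - 1) * (q + 1) by
      rw [mul_comm (q - 1), Nat.add_mul, one_mul, Nat.mul_sub_one]; have := Nat.le_mul_self q; omega] at h4
    exact Nat.dvd_of_mul_dvd_mul_left (by omega) h4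
  have hkpos : 0 < k := orderOf_pos _
  have hle := Nat.le_of_dvd (by omega) hd
  rcases psl_pow_cases hodd (p := p) (π A) with h | h | h
  · exfalso
    have hkp := orderOf_dvd_of_pow_eq_one h
    rcases (Nat.dvd_prime hp).mp hkp with h1 | h1
    · rw [← hk] at h1; omega
    · rw [← hk] at h1
      have h2 : p ≤ q := by rw [hn]; exact Nat.le_self_pow n.ne_zero p
      obtain ⟨m, hm⟩ := hd
      have hm1 : m = 1 := by
        have : m < 2 := by
          by_contra hcon
          have := Nat.mul_le_mul_left (q + 1) (Nat.le_of_not_lt hcon)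
          omega
        rcases Nat.eq_zero_or_pos m with h0 | h0
        · rw [h0, mul_zero] at hm; omega
        · omega
      rw [h1, hm1, mul_one] at hm
      have hpq : p ∣ q + 1 := ⟨2, by rw [← hm, mul_comm]⟩
      have hpq' : p ∣ q := by rw [hn]; exact dvd_pow_self p n.ne_zero
      exact hp.not_dvd_one ((Nat.dvd_add_right hpq').mp hpq)
  · exfalso
    have h1 := Nat.le_of_dvd (by omega) (orderOf_dvd_of_pow_eq_one h)
    rw [← hk] at h1
    omega
  · have h1 := Nat.le_of_dvd (by omega) (orderOf_dvd_of_pow_eq_one h)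
    rw [← hk] at h1
    omega

end Nonsplit

/-- The embedding of the split torus in `F[√1]`. -/
def splitElt (a : F) : QuadraticAlgebra F 1 0 := ⟨(a + a⁻¹) / 2, (a - a⁻¹) / 2⟩

/-- A norm one element of `F[√1]` whose image in `PSL(2,q)` has order `(q-1)/2`. -/
theorem exists_psl_split_torus (hodd : Fintype.card F % 2 = 1) (h5 : 5 ≤ Fintype.card F) :
    ∃ (u : QuadraticAlgebra F 1 0) (h : (torusMat (1 : F) u).det = 1),
      orderOf (π (torSL (1 : F) u h)) = (Fintype.card F - 1) / 2 := by
  obtain ⟨p, hc⟩ := CharP.exists F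
  obtain ⟨n, hp, hn⟩ := FiniteField.card F p
  haveI : Fact p.Prime := ⟨hp⟩
  have h2 := two_ne_zero_of_odd hodd
  obtain ⟨a, ha⟩ := IsCyclic.exists_ofOrder_eq_natCard (α := Fˣ)
  rw [Nat.card_units, Nat.card_eq_fintype_card] at ha
  set q := Fintype.card F with hq
  have hpow : ∀ k : ℕ, splitElt (a : F) ^ k = splitElt ((a : F) ^ k) := by
    intro k
    induction k with
    | zero => rw [pow_zero, pow_zero]; ext <;> simp [splitElt] <;> field_simp <;> ring
    | succ k ih =>
      rw [pow_succ, ih, pow_succ]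
      have ha0 : (a : F) ≠ 0 := Units.ne_zero a
      have hk0 : (a : F) ^ k ≠ 0 := pow_ne_zero k ha0
      ext <;> simp [splitElt] <;> field_simp <;> ring
  have hdet : (torusMat (1 : F) (splitElt (a : F))).det = 1 := by
    have ha0 : (a : F) ≠ 0 := Units.ne_zero a
    rw [det_torusMat, QuadraticAlgebra.norm_def]
    simp only [splitElt]
    field_simp
    ring
  refine ⟨splitElt (a : F), hdet, ?_⟩
  set A : SL2 F := torSL (1 : F) (splitElt (a : F)) hdet with hA
  set k := orderOf (π A) with hk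
  have hd : q - 1 ∣ 2 * k := by
    have h1 := pow_orderOf_eq_one (π A)
    rw [← hk, ← map_pow, π_eq_one_iff, Matrix.SpecialLinearGroup.coe_pow] at h1
    have h3 : torusMat (1 : F) (splitElt ((a : F) ^ (2 * k))) = 1 := by
      rw [← hpow, map_pow, mul_comm 2 k, pow_mul]
      rcases h1 with h1 | h1 <;> rw [hA, torSL_val] at h1 <;> rw [h1] <;> simp
    rw [← one_smul F (1 : Matrix (Fin 2) (Fin 2) F)] at h3
    obtain ⟨e1, e2⟩ := torusMat_eq_smul_one h3
    simp only [splitElt] at e1 e2
    rw [← ha]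
    refine orderOf_dvd_of_pow_eq_one (Units.ext ?_)
    rw [Units.val_pow_eq_pow_val, Units.val_one]
    have e3 : (a : F) ^ (2 * k) + ((a : F) ^ (2 * k))⁻¹ = 2 := by
      rw [div_eq_one_iff_eq h2] at e1; exact e1
    have e4 : (a : F) ^ (2 * k) - ((a : F) ^ (2 * k))⁻¹ = 0 := by
      rw [div_eq_zero_iff] at e2; exact e2.resolve_right h2
    refine mul_left_cancel₀ h2 ?_
    linear_combination e3 + e4
  have hkpos : 0 < k := orderOf_pos _
  have hle := Nat.le_of_dvd (by omega) hd
  rcases psl_pow_cases hodd (p := p) (π A) with h | h | h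
  · exfalso
    rcases (Nat.dvd_prime hp).mp (orderOf_dvd_of_pow_eq_one h) with h1 | h1
    · rw [← hk] at h1; omega
    · rw [← hk] at h1
      rw [h1] at hd hle
      have hpq' : p ∣ q := by rw [hn]; exact dvd_pow_self p n.ne_zero
      have hcop : (q - 1).Coprime p := by
        rw [Nat.coprime_comm, hp.coprime_iff_not_dvd]
        intro hh
        have h6 := Nat.dvd_sub hpq' hh
        rw [show q - (q - 1) = 1 by omega] at h6
        exact hp.not_dvd_one h6
      have := Nat.le_of_dvd (by norm_num) (hcop.dvd_of_dvd_mul_right hd)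
      omega
  · have h1 := Nat.le_of_dvd (by omega) (orderOf_dvd_of_pow_eq_one h)
    rw [← hk] at h1
    omega
  · exfalso
    have h1 := orderOf_dvd_of_pow_eq_one h
    rw [← hk] at h1
    have h6 : q - 1 ∣ q + 1 := hd.trans ((Nat.mul_dvd_mul_left 2 h1).trans (by
      rw [show 2 * ((q + 1) / 2) = q + 1 by omega]))
    have h7 := Nat.dvd_sub h6 (dvd_refl (q - 1))
    rw [show q + 1 - (q - 1) = 2 by omega] at h7
    have := Nat.le_of_dvd (by norm_num) h7
    omega

theorem exists_nonsquare (hodd : Fintype.card F % 2 = 1) :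
    ∃ ε : F, ε ≠ 0 ∧ Fact (∀ r : F, r ^ 2 ≠ ε + 0 * r) := by
  obtain ⟨a, ha⟩ := FiniteField.exists_nonsquare (ringChar_two_ne (F := F) hodd)
  exact ⟨a, fun h => ha (h ▸ IsSquare.zero),
    ⟨fun r h => ha ⟨r, by rw [← pow_two, h, zero_mul, add_zero]⟩⟩⟩

/-- The element orders of `PGL(2,q)` for `q = p^n` odd. -/
theorem range_orderOf_pgl (hodd : Fintype.card F % 2 = 1) {p : ℕ} [Fact p.Prime] [CharP F p] :
    Set.range (orderOf : PGL2 F → ℕ) = ↑(p.divisors ∪ (Fintype.card F - 1).divisors ∪
      (Fintype.card F + 1).divisors) := by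
  have hp := (Fact.out : p.Prime)
  have hq1 := Fintype.one_lt_card (α := F)
  ext m
  simp only [Set.mem_range, Finset.coe_union, Set.mem_union, Finset.mem_coe, Nat.mem_divisors]
  constructor
  · rintro ⟨g, rfl⟩
    rcases pgl_pow_cases hodd (p := p) g with h | h | h
    · exact Or.inl (Or.inl ⟨orderOf_dvd_of_pow_eq_one h, hp.ne_zero⟩)
    · exact Or.inl (Or.inr ⟨orderOf_dvd_of_pow_eq_one h, by omega⟩)
    · exact Or.inr ⟨orderOf_dvd_of_pow_eq_one h, by omega⟩
  · have key : ∀ N, (∃ g : PGL2 F, orderOf g = N) → m ∣ N → N ≠ 0 → ∃ g : PGL2 F, orderOf g = m := by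
      rintro N ⟨g, rfl⟩ hm h0
      exact ⟨g ^ (orderOf g / m), by rw [orderOf_pow_orderOf_div h0 hm]⟩
    rintro ((⟨h, h0⟩ | ⟨h, h0⟩) | ⟨h, h0⟩)
    · refine key _ ?_ h h0
      let M : GL (Fin 2) F := Matrix.GeneralLinearGroup.mkOfDetNeZero !![1, 1; 0, 1]
        (by simp [Matrix.det_fin_two])
      have hM : ∀ j : ℕ, (M : Matrix (Fin 2) (Fin 2) F) ^ j = !![1, (j : F); 0, 1] := by
        intro j
        induction j with
        | zero => ext a b; fin_cases a <;> fin_cases b <;> simp
        | succ j ih =>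
          rw [pow_succ, ih]
          show !![1, (j : F); 0, 1] * !![1, 1; 0, 1] = _
          ext a b; fin_cases a <;> fin_cases b <;>
            simp [Matrix.mul_apply, Fin.sum_univ_two] <;> ring
      refine ⟨QuotientGroup.mk M, orderOf_eq_prime ?_ ?_⟩
      · rw [pgl_mk_pow_eq_one_iff, hM, CharP.cast_eq_zero]
        exact ⟨1, by ext a b; fin_cases a <;> fin_cases b <;> simp⟩
      · intro h1
        obtain ⟨c, hc'⟩ := (pgl_mk_pow_eq_one_iff M 1).mp (by rw [pow_one]; exact h1)
        have := congrFun (congrFun hc' 0) 1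
        rw [hM] at this
        simp at this
    · refine key _ ?_ h h0
      obtain ⟨a, ha⟩ := IsCyclic.exists_ofOrder_eq_natCard (α := Fˣ)
      rw [Nat.card_units, Nat.card_eq_fintype_card] at ha
      let M : GL (Fin 2) F := Matrix.GeneralLinearGroup.mkOfDetNeZero !![(a : F), 0; 0, 1]
        (by simp [Matrix.det_fin_two])
      have hM : ∀ j : ℕ, (M : Matrix (Fin 2) (Fin 2) F) ^ j = !![(a : F) ^ j, 0; 0, 1] := by
        intro j
        induction j with
        | zero => ext x b; fin_cases x <;> fin_cases b <;> simp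
        | succ j ih =>
          rw [pow_succ, ih]
          show !![(a : F) ^ j, 0; 0, 1] * !![(a : F), 0; 0, 1] = _
          ext x b; fin_cases x <;> fin_cases b <;>
            simp [Matrix.mul_apply, Fin.sum_univ_two, pow_succ]
      refine ⟨QuotientGroup.mk M, ?_⟩
      rw [← ha]
      refine orderOf_eq_orderOf_iff.mpr fun j => ?_
      rw [pgl_mk_pow_eq_one_iff, hM, Units.ext_iff, Units.val_pow_eq_pow_val, Units.val_one]
      constructor
      · rintro ⟨c, hc'⟩
        have e1 := congrFun (congrFun hc' 0) 0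
        have e2 := congrFun (congrFun hc' 1) 1
        simp at e1 e2
        rw [e1, ← e2]
      · intro hj
        exact ⟨1, by rw [hj]; ext x b; fin_cases x <;> fin_cases b <;> simp⟩
    · refine key _ ?_ h h0
      obtain ⟨ε, -, hε⟩ := exists_nonsquare (F := F) hodd
      exact exists_pgl_orderOf_add_one ε hodd

end CfsgLib.Char.TwoByTwo
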