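import Cfsg.Agent.Lib.Char.SmallSpectra
import Cfsg.Agent.Lib.Char.TwoByTwoTorus

/-!
# A solvable group with the element orders of the direct square of `PSL(2, q)`
-/

set_option autoImplicit false
set_option linter.unusedSectionVars false
set_option linter.style.haveILetI false

namespace CfsgLib.Char

/-- The divisors of a product of two of three numbers. -/
def pairDivisors (p A B : ℕ) : Set ℕ := {n | n ∣ p * A ∨ n ∣ p * B ∨ n ∣ A * B}

theorem exists_orderOf_of_dvd {G : Type*} [Group G] [Finite G] {x : G} {n : ℕ} (h : n ∣ orderOf x) :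
    ∃ y : G, orderOf y = n :=
  ⟨x ^ (orderOf x / n), by
    rw [orderOf_pow_orderOf_div (orderOf_pos x).ne' h]⟩

theorem range_eq_pairDivisors {G : Type*} [Group G] [Finite G] {p A B : ℕ}
    (hle : ∀ g : G, orderOf g ∈ pairDivisors p A B) (h1 : ∃ g : G, orderOf g = p * A)
    (h2 : ∃ g : G, orderOf g = p * B) (h3 : ∃ g : G, orderOf g = A * B) :
    Set.range (orderOf : G → ℕ) = pairDivisors p A B := by
  refine Set.ext fun n => ⟨fun ⟨g, hg⟩ => hg ▸ hle g, fun hn => ?_⟩
  obtain ⟨x, hx⟩ := h1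
  obtain ⟨y, hy⟩ := h2
  obtain ⟨z, hz⟩ := h3
  rcases hn with h | h | h
  · exact exists_orderOf_of_dvd (hx.symm ▸ h : n ∣ orderOf x)
  · exact exists_orderOf_of_dvd (hy.symm ▸ h : n ∣ orderOf y)
  · exact exists_orderOf_of_dvd (hz.symm ▸ h : n ∣ orderOf z)

theorem range_square {G : Type*} [Group G] [Finite G] {p A B : ℕ} (hpA : Nat.Coprime p A) (hpB : Nat.Coprime p B)
    (hAB : Nat.Coprime A B) (hle : ∀ g : G, g ^ p = 1 ∨ g ^ A = 1 ∨ g ^ B = 1) (h1 : ∃ g : G, orderOf g = p)
    (h2 : ∃ g : G, orderOf g = A) (h3 : ∃ g : G, orderOf g = B) :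
    Set.range (orderOf : G × G → ℕ) = pairDivisors p A B := by
  obtain ⟨x, hx⟩ := h1
  obtain ⟨y, hy⟩ := h2
  obtain ⟨z, hz⟩ := h3
  refine range_eq_pairDivisors (fun g => ?_) ⟨(x, y), ?_⟩ ⟨(x, z), ?_⟩ ⟨(y, z), ?_⟩
  · have h : ∀ {a b : ℕ}, g.1 ^ a = 1 → g.2 ^ b = 1 → orderOf g ∣ a * b := fun {a b} ha hb =>
      orderOf_dvd_of_pow_eq_one (Prod.ext (by show g.1 ^ (a * b) = 1; rw [pow_mul, ha, one_pow])
        (by show g.2 ^ (a * b) = 1; rw [mul_comm, pow_mul, hb, one_pow]))
    have hsame : ∀ {a : ℕ}, g.1 ^ a = 1 → g.2 ^ a = 1 → orderOf g ∣ a := fun {a} ha hb =>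
      orderOf_dvd_of_pow_eq_one (Prod.ext ha hb)
    rcases hle g.1 with a | a | a <;> rcases hle g.2 with b | b | b
    · exact Or.inl ((hsame a b).mul_right _)
    · exact Or.inl (h a b)
    · exact Or.inr (Or.inl (h a b))
    · exact Or.inl ((h a b).trans (mul_comm A p).dvd)
    · exact Or.inl ((hsame a b).mul_left _)
    · exact Or.inr (Or.inr (h a b))
    · exact Or.inr (Or.inl ((h a b).trans (mul_comm B p).dvd))
    · exact Or.inr (Or.inr ((h a b).trans (mul_comm B A).dvd))
    · exact Or.inr (Or.inl ((hsame a b).mul_left _))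
  · rw [Prod.orderOf_mk, hx, hy]; exact hpA.lcm_eq_mul
  · rw [Prod.orderOf_mk, hx, hz]; exact hpB.lcm_eq_mul
  · rw [Prod.orderOf_mk, hy, hz]; exact hAB.lcm_eq_mul

section Model

variable {K : Type} [Field K] {u v : Kˣ}

/-- The plane on which two cyclic groups act coordinatewise. -/
def Plane2 (_u _v : Kˣ) := K × K

instance : AddCommGroup (Plane2 u v) := inferInstanceAs (AddCommGroup (K × K))
instance [Finite K] : Finite (Plane2 u v) := inferInstanceAs (Finite (K × K))

/-- The coordinatewise action. -/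
instance instActPlane2 : DistribMulAction (Subgroup.zpowers u × Subgroup.zpowers v) (Plane2 u v) where
  smul c w := (((c.1 : Kˣ) : K) * w.1, ((c.2 : Kˣ) : K) * w.2)
  one_smul w := Prod.ext (one_mul _) (one_mul _)
  mul_smul a b w := Prod.ext (mul_assoc _ _ _) (mul_assoc _ _ _)
  smul_zero c := Prod.ext (mul_zero _) (mul_zero _)
  smul_add c x y := Prod.ext (mul_add _ _ _) (mul_add _ _ _)

theorem plane2_model [Finite K] {p A B : ℕ} [CharP K p] (hp : p.Prime) (hA : orderOf u = A) (hB : orderOf v = B)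
    (hpA : Nat.Coprime p A) (hpB : Nat.Coprime p B) (hAB : Nat.Coprime A B) :
    Group.IsSolvable (Semi (Subgroup.zpowers u × Subgroup.zpowers v) (Plane2 u v)) ∧
      Set.range (orderOf : Semi (Subgroup.zpowers u × Subgroup.zpowers v) (Plane2 u v) → ℕ) = pairDivisors p A B := by
  haveI : Fact p.Prime := ⟨hp⟩
  refine ⟨Group.isSolvable_of_ker_le_range (SemidirectProduct.inl) (SemidirectProduct.rightHom)
    SemidirectProduct.range_inl_eq_ker_rightHom.ge, ?_⟩
  haveI : Finite (Semi (Subgroup.zpowers u × Subgroup.zpowers v) (Plane2 u v)) :=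
    Finite.of_injective (fun x => (x.left.toAdd, x.right)) fun a b h => by
      rw [semiPair_eta a, semiPair_eta b, (Prod.mk.inj h).1, (Prod.mk.inj h).2]
  have hpw : ∀ w : Plane2 u v, p • w = 0 := fun w => by
    have h : ∀ z : K × K, p • z = 0 := fun z => by ext <;> simp [nsmul_eq_mul, CharP.cast_eq_zero]
    exact h w
  let a1 : Subgroup.zpowers u := ⟨u, Subgroup.mem_zpowers u⟩
  let b1 : Subgroup.zpowers v := ⟨v, Subgroup.mem_zpowers v⟩
  have ha1 : orderOf a1 = A := by rw [Subgroup.orderOf_mk]; exact hA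
  have hb1 : orderOf b1 = B := by rw [Subgroup.orderOf_mk]; exact hB
  have hAz : ∀ a : Subgroup.zpowers u, a ^ A = 1 := fun a => by
    rw [← hA, ← Nat.card_zpowers]; exact pow_card_eq_one'
  have hBz : ∀ b : Subgroup.zpowers v, b ^ B = 1 := fun b => by
    rw [← hB, ← Nat.card_zpowers]; exact pow_card_eq_one'
  have hcast : ∀ {m : ℕ}, Nat.Coprime p m → (m : K) ≠ 0 := fun {m} hm h =>
    hp.coprime_iff_not_dvd.1 hm ((CharP.cast_eq_zero_iff K p m).1 h)
  refine range_eq_pairDivisors (fun x => ?_) ?_ ?_ ⟨SemidirectProduct.inr (a1, b1), ?_⟩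
  · rw [semiPair_eta x, orderOf_semiPair]
    set w := ∑ i ∈ Finset.range (orderOf x.right), x.right ^ i • x.left.toAdd with hw
    have hfix : x.right • w = w := smul_geom_sum_smul _ _
    by_cases h0 : w = 0
    · rw [h0, addOrderOf_zero, mul_one]
      exact Or.inr (Or.inr (orderOf_dvd_of_pow_eq_one (Prod.ext
        (by show x.right.1 ^ (A * B) = 1; rw [pow_mul, hAz, one_pow])
        (by show x.right.2 ^ (A * B) = 1; rw [mul_comm, pow_mul, hBz, one_pow]))))
    · rw [addOrderOf_eq_prime (hpw w) h0, mul_comm]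
      have h' : (w : K × K).1 ≠ 0 ∨ (w : K × K).2 ≠ 0 := by
        by_contra hc
        push Not at hc
        exact h0 (Prod.ext hc.1 hc.2)
      rcases h' with h | h
      · have h1 : x.right.1 = 1 := Subtype.ext (Units.ext (mul_eq_right₀ h |>.1 (congrArg Prod.fst hfix)))
        exact Or.inr (Or.inl (Nat.mul_dvd_mul_left p (orderOf_dvd_of_pow_eq_one (Prod.ext
          (by show x.right.1 ^ B = 1; rw [h1, one_pow]) (hBz _)))))
      · have h1 : x.right.2 = 1 := Subtype.ext (Units.ext (mul_eq_right₀ h |>.1 (congrArg Prod.snd hfix)))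
        exact Or.inl (Nat.mul_dvd_mul_left p (orderOf_dvd_of_pow_eq_one (Prod.ext
          (hAz _) (by show x.right.2 ^ A = 1; rw [h1, one_pow]))))
  · let w0 : Plane2 u v := ((0 : K), (1 : K))
    refine ⟨semiPair w0 (a1, 1), ?_⟩
    have hc : orderOf ((a1, 1) : Subgroup.zpowers u × Subgroup.zpowers v) = A := by
      rw [Prod.orderOf_mk, orderOf_one, ha1, Nat.lcm_one_right]
    have hfix : ((a1, 1) : Subgroup.zpowers u × Subgroup.zpowers v) • w0 = w0 :=
      Prod.ext (mul_zero _) (one_mul _)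
    have hpow : ∀ i : ℕ, ((a1, 1) : Subgroup.zpowers u × Subgroup.zpowers v) ^ i • w0 = w0 := fun i => by
      induction i with
      | zero => rw [pow_zero, one_smul]
      | succ i ih => rw [pow_succ, mul_smul, hfix, ih]
    rw [orderOf_semiPair, hc, Finset.sum_congr rfl fun i _ => hpow i, Finset.sum_const, Finset.card_range,
      addOrderOf_eq_prime (hpw _) ?_, mul_comm]
    intro h
    have h' : A • (1 : K) = 0 := congrArg (fun z : Plane2 u v => (z : K × K).2) h
    exact hcast hpA (by simpa using h')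
  · let w0 : Plane2 u v := ((1 : K), (0 : K))
    refine ⟨semiPair w0 (1, b1), ?_⟩
    have hc : orderOf ((1, b1) : Subgroup.zpowers u × Subgroup.zpowers v) = B := by
      rw [Prod.orderOf_mk, orderOf_one, hb1, Nat.lcm_one_left]
    have hfix : ((1, b1) : Subgroup.zpowers u × Subgroup.zpowers v) • w0 = w0 :=
      Prod.ext (one_mul _) (mul_zero _)
    have hpow : ∀ i : ℕ, ((1, b1) : Subgroup.zpowers u × Subgroup.zpowers v) ^ i • w0 = w0 := fun i => by
      induction i with
      | zero => rw [pow_zero, one_smul]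
      | succ i ih => rw [pow_succ, mul_smul, hfix, ih]
    rw [orderOf_semiPair, hc, Finset.sum_congr rfl fun i _ => hpow i, Finset.sum_const, Finset.card_range,
      addOrderOf_eq_prime (hpw _) ?_, mul_comm]
    intro h
    have h' : B • (1 : K) = 0 := congrArg (fun z : Plane2 u v => (z : K × K).1) h
    exact hcast hpB (by simpa using h')
  · rw [orderOf_injective _ SemidirectProduct.inr_injective, Prod.orderOf_mk, ha1, hb1, hAB.lcm_eq_mul]

end Model

theorem exists_solvable_pairDivisors {p n A B : ℕ} (hp : p.Prime) (hn : n ≠ 0) (hA : A ∣ p ^ n - 1)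
    (hB : B ∣ p ^ n - 1) (hpA : Nat.Coprime p A) (hpB : Nat.Coprime p B) (hAB : Nat.Coprime A B) :
    ∃ (H : Type) (_ : Group H) (_ : Finite H), Group.IsSolvable H ∧
      Set.range (orderOf : H → ℕ) = pairDivisors p A B := by
  haveI : Fact p.Prime := ⟨hp⟩
  obtain ⟨g, hg⟩ := IsCyclic.exists_ofOrder_eq_natCard (α := (GaloisField p n)ˣ)
  rw [Nat.card_units, GaloisField.card p n hn] at hg
  obtain ⟨u, hu⟩ := exists_orderOf_of_dvd (hg.symm ▸ hA : A ∣ orderOf g)
  obtain ⟨v, hv⟩ := exists_orderOf_of_dvd (hg.symm ▸ hB : B ∣ orderOf g)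
  obtain ⟨hs, hr⟩ := plane2_model hp hu hv hpA hpB hAB
  refine ⟨_, inferInstance, Finite.of_injective (fun x => (x.left.toAdd, x.right)) fun a b h => ?_, hs, hr⟩
  rw [semiPair_eta a, semiPair_eta b, (Prod.mk.inj h).1, (Prod.mk.inj h).2]

namespace TwoChars

open Matrix CfsgLib.PSL2Two

variable {F : Type*} [Field F] [Fintype F] [DecidableEq F]

local notation "S2" => Matrix.SpecialLinearGroup (Fin 2) F
local notation "qF" => Fintype.card F

theorem card_centralizer_ell_two [CharP F 2] {x : S2} (hell : TwoClasses.IsEll x.1) :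
    Nat.card (Subgroup.centralizer ({x} : Set S2)) = qF + 1 := by
  have hns := TwoClasses.isEll_not_scalar hell
  have hfib := TwoClasses.card_trace_fibre_ell hell
  have e : Nat.card {y : S2 // IsConj x y} = Nat.card {y : S2 // y.1.trace = x.1.trace} :=
    Nat.card_congr (Equiv.subtypeEquivRight fun y => ⟨fun hc => (TwoClasses.sl_conj_spec hc).1.symm, fun ht =>
      TwoClasses.sl_isConj_of_trace hns (ell_not_scalar hell ht) ht.symm (Or.inr (ringChar.eq F 2))⟩)
  rw [card_isConj] at e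
  have hidx := (Subgroup.centralizer ({x} : Set S2)).index_mul_card
  rw [e, card_sl_two] at hidx
  set N := Nat.card {y : S2 // y.1.trace = x.1.trace}
  obtain ⟨m, hm⟩ : ∃ m, qF = m + 1 := ⟨qF - 1, (Nat.sub_add_cancel Fintype.card_pos).symm⟩
  have hm1 : 1 ≤ m := by have : 2 ≤ qF := Fintype.one_lt_card; omega
  rw [hm] at hfib hidx ⊢
  simp only [Nat.add_sub_cancel] at hidx
  have hN : N = m * (m + 1) := by nlinarith
  rw [hN] at hidx
  exact Nat.eq_of_mul_eq_mul_left (show 0 < m * (m + 1) by positivity) (hidx.trans (by ring))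

theorem exists_ell : ∃ x : S2, TwoClasses.IsEll x.1 := by
  obtain ⟨t, ht⟩ : ∃ t : F, ∀ a : Fˣ, (a : F) + ((a⁻¹ : Fˣ) : F) ≠ t := by
    by_contra hc
    push Not at hc
    have h := Fintype.card_le_of_surjective (fun a : Fˣ => (a : F) + ((a⁻¹ : Fˣ) : F)) hc
    rw [Fintype.card_units] at h
    have := Fintype.card_pos (α := F)
    omega
  refine ⟨TwoClasses.compSL t, TwoClasses.isEll_of_no_root fun a h => ?_⟩
  rw [TwoClasses.compSL_trace, (TwoClasses.compSL t).det_coe] at h
  have ha : a ≠ 0 := by rintro rfl; simp at h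
  refine ht (Units.mk0 a ha) ?_
  simp
  field_simp
  linear_combination h

theorem psl_three_tori (hq : 4 ≤ qF) :
    ∃ p n A B : ℕ, p.Prime ∧ n ≠ 0 ∧ A ∣ p ^ n - 1 ∧ B ∣ p ^ n - 1 ∧ Nat.Coprime p A ∧ Nat.Coprime p B ∧
      Nat.Coprime A B ∧
      Set.range (orderOf : PSL2 F × PSL2 F → ℕ) = pairDivisors p A B := by
  obtain ⟨p, hc⟩ := CharP.exists F
  obtain ⟨m, hp, hm⟩ := FiniteField.card F p
  haveI : Fact p.Prime := ⟨hp⟩
  have hq2 : qF * qF - 1 = (qF - 1) * (qF + 1) := by
    rw [Nat.sub_mul, mul_add, mul_one, one_mul]; omega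
  have hpow : p ^ (2 * (m : ℕ)) - 1 = (qF - 1) * (qF + 1) := by rw [← hq2, hm, ← pow_add, two_mul]
  have hpq : p ∣ qF := hm ▸ dvd_pow_self p m.pos.ne'
  have hcop1 : Nat.Coprime p (qF - 1) :=
    Nat.Coprime.of_dvd_left hpq ((Nat.coprime_self_sub_right (by omega : 1 ≤ qF)).2 (Nat.coprime_one_right qF))
  have hcop2 : Nat.Coprime p (qF + 1) :=
    Nat.Coprime.of_dvd_left hpq (Nat.coprime_self_add_right.2 (Nat.coprime_one_right qF))
  have hg2 : Nat.gcd (qF - 1) (qF + 1) ∣ 2 := by
    have h1 := Nat.gcd_dvd_left (qF - 1) (qF + 1)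
    have h2 := Nat.gcd_dvd_right (qF - 1) (qF + 1)
    have := Nat.dvd_sub h2 h1
    rwa [show qF + 1 - (qF - 1) = 2 by omega] at this
  by_cases hodd : qF % 2 = 1
  · have hA : (qF - 1) / 2 ∣ qF - 1 := Nat.div_dvd_of_dvd (by omega)
    have hB : (qF + 1) / 2 ∣ qF + 1 := Nat.div_dvd_of_dvd (by omega)
    have hAB : Nat.Coprime ((qF - 1) / 2) ((qF + 1) / 2) := by
      rw [show (qF + 1) / 2 = (qF - 1) / 2 + 1 by omega]
      exact Nat.coprime_self_add_right.2 (Nat.coprime_one_right _)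
    refine ⟨p, 2 * m, (qF - 1) / 2, (qF + 1) / 2, hp, by simp [m.pos.ne'],
      hpow ▸ hA.mul_right _, hpow ▸ hB.mul_left _, hcop1.of_dvd_right hA, hcop2.of_dvd_right hB, hAB, ?_⟩
    refine range_square (hcop1.of_dvd_right hA) (hcop2.of_dvd_right hB) hAB (TwoByTwo.psl_pow_cases hodd) ?_ ?_ ?_
    · refine exists_prime_orderOf_dvd_card' p ?_
      have h : p ∣ Nat.card (PSL2 F) * 2 := by
        rw [card_psl_odd (Nat.odd_iff.2 hodd)]; exact (hpq.mul_left _).mul_left _
      refine (hp.dvd_mul.1 h).resolve_right fun h2 => ?_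
      rw [(Nat.prime_dvd_prime_iff_eq hp Nat.prime_two).1 h2] at hpq
      omega
    · obtain ⟨u, h, hu⟩ := TwoByTwo.exists_psl_split_torus (F := F) hodd (by omega)
      exact ⟨_, hu⟩
    · obtain ⟨ε, -, hε⟩ := TwoByTwo.exists_nonsquare (F := F) hodd
      haveI := hε
      obtain ⟨u, h, hu⟩ := TwoByTwo.exists_psl_torus (F := F) (ε := ε) hodd (by omega)
      exact ⟨_, hu⟩
  · have hp2 : p = 2 := by
      have : 2 ∣ p ^ (m : ℕ) := by rw [← hm]; omega
      exact ((Nat.prime_dvd_prime_iff_eq Nat.prime_two hp).1 (Nat.prime_two.dvd_of_dvd_pow this)).symm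
    subst hp2
    have hAB : Nat.Coprime (qF - 1) (qF + 1) := by
      rcases (Nat.dvd_prime Nat.prime_two).1 hg2 with h | h
      · exact h
      · have := h ▸ Nat.gcd_dvd_left (qF - 1) (qF + 1)
        omega
    refine ⟨2, 2 * m, qF - 1, qF + 1, hp, by simp [m.pos.ne'], hpow ▸ dvd_mul_right _ _, hpow ▸ dvd_mul_left _ _,
      hcop1, hcop2, hAB, ?_⟩
    obtain ⟨e⟩ := psl_equiv_two (F := F)
    rw [← range_orderOf_congr (e.prodCongr e)]
    refine range_square hcop1 hcop2 hAB sl_pow_cases_two ?_ ?_ ?_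
    · exact exists_prime_orderOf_dvd_card' 2 two_dvd_card_sl
    · obtain ⟨u, hu⟩ := IsCyclic.exists_ofOrder_eq_natCard (α := Fˣ)
      rw [Nat.card_units, Nat.card_eq_fintype_card] at hu
      let f : Fˣ →* S2 :=
        { toFun := fun a => elS a 0
          map_one' := elS_one_zero
          map_mul' := fun a b => by rw [elS_mul]; simp }
      refine ⟨f u, (orderOf_injective f (fun a b h => Units.ext ?_) u).trans hu⟩
      simpa [f, elS_val] using congrArg (fun g : S2 => g.1 0 0) h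
    · obtain ⟨x, hx⟩ := exists_ell (F := F)
      haveI := ell_centralizer_cyclic hx
      obtain ⟨y, hy⟩ := IsCyclic.exists_ofOrder_eq_natCard (α := Subgroup.centralizer ({x} : Set S2))
      exact ⟨y, by rw [Subgroup.orderOf_coe, hy, card_centralizer_ell_two hx]⟩

end TwoChars

end CfsgLib.Char
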