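import Cfsg.Agent.Lib.Char.Integrality

/-!
# Linear characters, abelian groups
-/

set_option autoImplicit false
set_option linter.unusedSectionVars false

namespace CfsgLib.Char

open scoped ComplexConjugate
open Representation Module Cfsg

universe u v

variable {G : Type u} [Group G] [Finite G]

/-- Irreducible characters of degree one are the homomorphisms to `ℂˣ`. -/
noncomputable def linearCharEquiv :
    (G →* ℂˣ) ≃ {χ : IrrCharacter G // (χ : G → ℂ) 1 = 1} :=
  Equiv.ofBijective
    (fun lam => ⟨⟨fun g => (lam g : ℂ), isIrrCharacter_lin lam⟩, by simp⟩)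
    ⟨fun a b h => MonoidHom.ext fun g =>
      Units.ext (congrFun (congrArg (fun z => ((z.1 : IrrCharacter G) : G → ℂ)) h) g),
    fun ⟨⟨χ, n, ρ, hρ, hχ⟩, h1⟩ => by
      subst hχ
      have hn : finrank ℂ (Fin n → ℂ) = 1 := by
        have := (Representation.char_one ρ).symm.trans h1
        exact_mod_cast this
      have hsc : ∀ g, ∃ c : ℂ, ρ g = c • LinearMap.id := fun g => by
        have h2 : ∀ T : (Fin n → ℂ) →ₗ[ℂ] (Fin n → ℂ), ∃ c : ℂ, T = c • LinearMap.id := by
          intro T
          obtain ⟨v, hv, hspan⟩ := finrank_eq_one_iff'.mp hn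
          obtain ⟨c, hc⟩ := hspan (T v)
          refine ⟨c, LinearMap.ext fun w => ?_⟩
          obtain ⟨d, rfl⟩ := hspan w
          rw [map_smul, ← hc, LinearMap.smul_apply, LinearMap.id_apply, smul_comm]
        exact h2 (ρ g)
      have hmul : ∀ a b, ρ.character (a * b) = ρ.character a * ρ.character b := fun a b => by
        obtain ⟨c, hc⟩ := hsc a
        obtain ⟨d, hd⟩ := hsc b
        simp only [Representation.character, map_mul, hc, hd, Module.End.mul_eq_comp,
          LinearMap.smul_comp, LinearMap.id_comp, smul_smul, trace_smul_id, hn, Nat.cast_one, mul_one]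
      let f : G →* ℂ := ⟨⟨ρ.character, h1⟩, hmul⟩
      exact ⟨f.toHomUnits, Subtype.ext (Subtype.ext (funext fun g => rfl))⟩⟩

open scoped IsMulCommutative in
theorem degree_one_of_comm (h : ∀ a b : G, a * b = b * a) (χ : IrrCharacter G) :
    (χ : G → ℂ) 1 = 1 := by
  obtain ⟨χ, n, ρ, hρ, rfl⟩ := χ
  have : IsMulCommutative G := ⟨⟨h⟩⟩
  show ρ.character 1 = 1
  rw [Representation.char_one, IsIrreducible.finrank_eq_one_of_isMulCommutative ρ, Nat.cast_one]

theorem comm_of_degree_one (h : ∀ χ : IrrCharacter G, (χ : G → ℂ) 1 = 1) (a b : G) :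
    a * b = b * a := by
  have := Fintype.ofFinite (IrrCharacter G)
  have h1 := sum_degree_sq (G := G)
  simp only [h, one_pow, Finset.sum_const, Finset.card_univ, nsmul_eq_mul, mul_one] at h1
  have h2 : Nat.card (IrrCharacter G) = Nat.card G := by
    rw [Nat.card_eq_fintype_card]; exact_mod_cast h1
  rw [card_irr_eq_card_conjClasses] at h2
  have := Fintype.ofFinite G
  have hbij : Function.Bijective (ConjClasses.mk (α := G)) := by
    have := Fintype.ofFinite (ConjClasses G)
    refine (Fintype.bijective_iff_surjective_and_card _).mpr ⟨ConjClasses.mk_surjective, ?_⟩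
    rw [← Nat.card_eq_fintype_card, ← Nat.card_eq_fintype_card, h2]
  have hab : a * b * a⁻¹ = b :=
    hbij.1 (ConjClasses.mk_eq_mk_iff_isConj.mpr (isConj_iff.mpr ⟨a, rfl⟩).symm)
  calc a * b = a * b * a⁻¹ * a := by group
    _ = b * a := by rw [hab]

theorem card_linear : Nat.card {χ : IrrCharacter G // (χ : G → ℂ) 1 = 1} = (commutator G).index := by
  rw [← Nat.card_congr linearCharEquiv, Subgroup.index_eq_card]
  show _ = Nat.card (Abelianization G)
  rw [← CommGroup.card_monoidHom_of_hasEnoughRootsOfUnity (Abelianization G) ℂ]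
  exact Nat.card_congr Abelianization.lift

end CfsgLib.Char
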