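import Cfsg.Agent.Lib.Char.ZassenhausTI
import Cfsg.Agent.Lib.Coprime.Frobenius
import Cfsg.Agent.Lib.Coprime.FpfAction

/-!
# Zassenhaus groups with two-point stabilizer of odd order

Counting, the kernel of a point stabilizer, and, for simple groups, inversion of the two-point
stabilizer by the elements swapping the two points (transfer).
-/

set_option autoImplicit false
set_option linter.unusedSectionVars false

namespace CfsgLib.Char.ZassenhausOdd

open Cfsg MulAction Subgroup CfsgLib.Char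

variable {G Ω : Type*} [Group G] [Finite G] [MulAction G Ω] [Fintype Ω]

/-- The pointwise stabilizer of two points. -/
abbrev pairStab (G : Type*) {Ω : Type*} [Group G] [MulAction G Ω] (a b : Ω) : Subgroup G :=
  stabilizer G a ⊓ stabilizer G b

theorem mem_pairStab {a b : Ω} {u : G} : u ∈ pairStab G a b ↔ u • a = a ∧ u • b = b := Iff.rfl

theorem isPretransitive_of (hZ : IsZassenhausGroup G Ω) : IsPretransitive G Ω :=
  have := hZ.2.1
  isPretransitive_of_is_two_pretransitive

theorem card_eq_mul_stabilizer (hZ : IsZassenhausGroup G Ω) (a : Ω) :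
    Nat.card G = Fintype.card Ω * Nat.card (stabilizer G a) := by
  haveI := isPretransitive_of hZ
  rw [← Subgroup.card_mul_index (stabilizer G a), index_stabilizer_of_transitive,
    Nat.card_eq_fintype_card (α := Ω), mul_comm]

theorem card_stabilizer_eq (hZ : IsZassenhausGroup G Ω) {a b : Ω} (hab : a ≠ b) :
    Nat.card (stabilizer G a) = (Fintype.card Ω - 1) * Nat.card (pairStab G a b) := by
  classical
  have horb : orbit (stabilizer G a) b = {c | c ≠ a} := by
    ext c
    constructor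
    · rintro ⟨v, rfl⟩ h
      exact hab (smul_left_cancel v.1 (v.2.trans h.symm))
    · intro hc
      obtain ⟨g, h1, h2⟩ := exists_map_pair hZ hab (Ne.symm hc)
      exact ⟨⟨g, h1⟩, h2⟩
  have hst : Nat.card (stabilizer (stabilizer G a) b) = Nat.card (pairStab G a b) :=
    Nat.card_congr
      { toFun := fun v => ⟨v.1.1, v.1.2, v.2⟩
        invFun := fun u => ⟨⟨u.1, u.2.1⟩, u.2.2⟩
        left_inv := fun _ => rfl
        right_inv := fun _ => rfl }
  rw [← Subgroup.card_mul_index (stabilizer (stabilizer G a) b), hst, index_stabilizer, horb,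
    Set.ncard_eq_toFinset_card', Set.toFinset_setOf, Finset.filter_ne',
    Finset.card_erase_of_mem (Finset.mem_univ a), Finset.card_univ, mul_comm]

theorem card_group (hZ : IsZassenhausGroup G Ω) {a b : Ω} (hab : a ≠ b) :
    Nat.card G = Fintype.card Ω * (Fintype.card Ω - 1) * Nat.card (pairStab G a b) := by
  rw [card_eq_mul_stabilizer hZ a, card_stabilizer_eq hZ hab, mul_assoc]

theorem card_pairStab_eq (hZ : IsZassenhausGroup G Ω) {a b c d : Ω} (hab : a ≠ b) (hcd : c ≠ d) :
    Nat.card (pairStab G c d) = Nat.card (pairStab G a b) := by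
  have h1 := card_group hZ hab
  rw [card_group hZ hcd] at h1
  have h3 := zassenhaus_three_le hZ
  exact Nat.eq_of_mul_eq_mul_left (Nat.mul_pos (by omega) (by omega)) h1

theorem orderOf_ne_two_of_two_fixed (hZ : IsZassenhausGroup G Ω) {a b : Ω} (hab : a ≠ b)
    (hodd : Odd (Nat.card (pairStab G a b))) {x : G} (hx : orderOf x = 2) {c d : Ω} (hc : x • c = c)
    (hd : x • d = d) : c = d := by
  by_contra hcd
  have h := Subgroup.orderOf_dvd_natCard (pairStab G c d) ⟨hc, hd⟩
  rw [hx, card_pairStab_eq hZ hab hcd] at h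
  exact Nat.not_even_iff_odd.2 hodd (even_iff_two_dvd.2 h)

theorem pairStab_ne_bot (hZ : IsZassenhausGroup G Ω) {a b : Ω} (hab : a ≠ b) :
    pairStab G a b ≠ ⊥ := fun h => by
  obtain ⟨x, hx, hx1⟩ := zassenhaus_two_point_ne_bot hZ hab
  exact hx1 (Subgroup.mem_bot.1 (h ▸ hx))

/-- The Frobenius kernel of a point stabilizer. -/
theorem exists_point_kernel (hZ : IsZassenhausGroup G Ω) {a b : Ω} (hab : a ≠ b) :
    ∃ H : Subgroup G, H ≤ stabilizer G a ∧ Nat.card H + 1 = Fintype.card Ω ∧
      ∀ u ∈ H, u ≠ 1 → ∀ c : Ω, u • c = c → c = a := by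
  classical
  set M : Subgroup (stabilizer G a) := (pairStab G a b).subgroupOf (stabilizer G a) with hM
  have h3 := zassenhaus_three_le hZ
  have hcardM : Nat.card M = Nat.card (pairStab G a b) :=
    Nat.card_congr (subgroupOfEquivOfLe inf_le_left).toEquiv
  have hidx : M.index = Fintype.card Ω - 1 := by
    have h := Subgroup.card_mul_index M
    rw [card_stabilizer_eq hZ hab, hcardM, mul_comm _ (Nat.card (pairStab G a b))] at h
    exact Nat.eq_of_mul_eq_mul_left Nat.card_pos h
  have hfro : IsFrobeniusComplement M := by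
    refine ⟨fun h => ?_, fun h => ?_, fun g hg => ?_⟩
    · obtain ⟨x, hx, hx1⟩ := zassenhaus_two_point_ne_bot hZ hab
      have : (⟨x, hx.1⟩ : stabilizer G a) ∈ M := hx
      rw [h, Subgroup.mem_bot] at this
      exact hx1 (congrArg Subtype.val this)
    · rw [h, Subgroup.index_top] at hidx
      omega
    · rw [eq_bot_iff]
      rintro x ⟨hx, hx'⟩
      obtain ⟨y, hy, rfl⟩ := hx'
      have hgb : g.1 • b ≠ b := fun h => hg (show g.1 ∈ pairStab G a b from ⟨g.2, h⟩)
      have hga : g.1 • b ≠ a := fun h => hab (smul_left_cancel g.1 (g.2.trans h.symm))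
      rw [Subgroup.mem_bot]
      refine Subtype.ext (hZ.2.2.1 _ a b (g.1 • b) hab (Ne.symm hgb) (Ne.symm hga) hx.1 hx.2 ?_)
      show (g.1 * y.1 * g.1⁻¹) • (g.1 • b) = g.1 • b
      rw [← mul_smul, inv_mul_cancel_right, mul_smul]
      exact congrArg (g.1 • ·) (hy : y.1 ∈ pairStab G a b).2
  obtain ⟨N, hN, -, -⟩ := Coprime.frob_kernel_subgroup hfro
  refine ⟨N.map (stabilizer G a).subtype, map_subtype_le N, ?_, ?_⟩
  · rw [card_map_of_injective (stabilizer G a).subtype_injective]
    have h1 : Nat.card N = Nat.card (Cfsg.frobeniusKernel M) := by rw [← hN]; rfl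
    rw [h1, Coprime.frob_card_kernel hfro, hidx]
    omega
  · rintro _ ⟨⟨u, hua⟩, huN, rfl⟩ hu1 c hc
    by_contra hca
    obtain ⟨g, hg1, hg2⟩ := exists_map_pair hZ hab (Ne.symm hca)
    have hker : (⟨u, hua⟩ : stabilizer G a) ∈ Cfsg.frobeniusKernel M := hN ▸ huN
    rcases hker with h | h
    · exact hu1 (by rw [h]; rfl)
    · refine h ⟨g, hg1⟩ ⟨(⟨g, hg1⟩ : stabilizer G a)⁻¹ * ⟨u, hua⟩ * ⟨g, hg1⟩, ?_, ?_⟩
      · show g⁻¹ * u * g ∈ pairStab G a b
        refine ⟨?_, ?_⟩
        · show (g⁻¹ * u * g) • a = a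
          rw [mul_smul, mul_smul, hg1, hua, inv_smul_eq_iff, hg1]
        · show (g⁻¹ * u * g) • b = b
          rw [mul_smul, mul_smul, hg2, inv_smul_eq_iff, hg2]
          exact hc
      · show (⟨g, hg1⟩ : stabilizer G a) * _ * (⟨g, hg1⟩ : stabilizer G a)⁻¹ = _
        group

theorem pairStab_inter_kernel {a b : Ω} (hab : a ≠ b) {H : Subgroup G}
    (hHfix : ∀ u ∈ H, u ≠ 1 → ∀ c : Ω, u • c = c → c = a) {u : G} (hu : u ∈ pairStab G a b)
    (huH : u ∈ H) : u = 1 :=
  by_contra fun h => hab (hHfix u huH h b hu.2).symm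

theorem isComplement_kernel (hZ : IsZassenhausGroup G Ω) {a b : Ω} (hab : a ≠ b) {H : Subgroup G}
    (hHa : H ≤ stabilizer G a) (hHcard : Nat.card H + 1 = Fintype.card Ω)
    (hHfix : ∀ u ∈ H, u ≠ 1 → ∀ c : Ω, u • c = c → c = a) :
    ((pairStab G a b).subgroupOf (stabilizer G a)).IsComplement'
      (H.subgroupOf (stabilizer G a)) := by
  refine isComplement'_of_disjoint_and_mul_eq_univ (disjoint_def.2 fun {x} hx hx' =>
    Subtype.ext (pairStab_inter_kernel hab hHfix hx hx')) ?_
  haveI hn : (H.subgroupOf (stabilizer G a)).Normal :=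
    normal_subgroupOf_of_le_normalizer (point_kernel_ti hZ a H hHa hHcard hHfix).2.ge
  rw [← coe_mul_of_left_le_normalizer_right _ _ (by rw [Subgroup.normalizer_eq_top]; exact le_top), ← Subgroup.coe_top,
    SetLike.coe_set_eq]
  refine Subgroup.eq_top_of_card_eq _ (le_antisymm (Subgroup.card_le_card_group _) ?_)
  refine le_of_eq_of_le ?_ (Nat.card_le_card_of_injective
    (fun q : ((pairStab G a b).subgroupOf (stabilizer G a)) × (H.subgroupOf (stabilizer G a)) =>
      (⟨q.1.1 * q.2.1, Subgroup.mul_mem _ (mem_sup_left q.1.2) (mem_sup_right q.2.2)⟩ :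
        ↥((pairStab G a b).subgroupOf (stabilizer G a) ⊔ H.subgroupOf (stabilizer G a))))
    (fun q r h => ?_))
  · rw [Nat.card_prod, card_stabilizer_eq hZ hab,
      Nat.card_congr (subgroupOfEquivOfLe (inf_le_left : pairStab G a b ≤ _)).toEquiv,
      Nat.card_congr (subgroupOfEquivOfLe hHa).toEquiv, mul_comm]
    congr 1
    omega
  · have h' := congrArg Subtype.val h
    have h1 : (r.1.1 : stabilizer G a)⁻¹ * q.1.1 = r.2.1 * q.2.1⁻¹ := by
      rw [inv_mul_eq_iff_eq_mul, ← mul_assoc, eq_mul_inv_iff_mul_eq]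
      exact h'
    have h2 : (r.1.1 : stabilizer G a)⁻¹ * q.1.1 = 1 := Subtype.ext (pairStab_inter_kernel hab hHfix
      (u := (((r.1.1 : stabilizer G a)⁻¹ * q.1.1 : stabilizer G a) : G))
      (Subgroup.mul_mem _ (Subgroup.inv_mem _ r.1.2) q.1.2)
      (h1 ▸ (Subgroup.mul_mem _ r.2.2 (Subgroup.inv_mem _ q.2.2) :
        r.2.1 * q.2.1⁻¹ ∈ H.subgroupOf (stabilizer G a))))
    rw [inv_mul_eq_one] at h2
    refine Prod.ext (Subtype.ext h2.symm) (Subtype.ext ?_)
    exact mul_left_cancel (h'.trans (congrArg (· * (r.2 : stabilizer G a)) h2))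

theorem isFpfOn_kernel {a b : Ω} (hab : a ≠ b) (hZ : IsZassenhausGroup G Ω) {H : Subgroup G}
    (hHa : H ≤ stabilizer G a) (hHfix : ∀ u ∈ H, u ≠ 1 → ∀ c : Ω, u • c = c → c = a) :
    Coprime.IsFpfOn (pairStab G a b) H := by
  intro u hu hu1
  rw [eq_bot_iff]
  rintro v ⟨hv, hvc⟩
  rw [Subgroup.mem_bot]
  by_contra hv1
  have hc : u * v = v * u := (Subgroup.mem_centralizer_singleton_iff.1 hvc).symm
  have h : u • (v • b) = v • b := by rw [← mul_smul, hc, mul_smul, hu.2]
  rcases fixed_eq_or hZ hu1 hab hu.1 hu.2 h with e | e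
  · exact hab (smul_left_cancel v ((hHa hv).trans e.symm))
  · exact hab (hHfix v hv hv1 b e).symm

section Simple

variable [IsSimpleGroup G]

theorem isZGroup_pairStab (hZ : IsZassenhausGroup G Ω) {a b : Ω} (hab : a ≠ b)
    (hodd : Odd (Nat.card (pairStab G a b))) : IsZGroup (pairStab G a b) := by
  obtain ⟨H, hHa, hHcard, hHfix⟩ := exists_point_kernel hZ hab
  have h3 := zassenhaus_three_le hZ
  have hne : H ≠ ⊥ := fun h => by rw [h, Subgroup.card_bot] at hHcard; omega
  refine ⟨fun q hq Q => ?_⟩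
  haveI := Fact.mk hq
  refine ((isFpfOn_kernel hab hZ hHa hHfix).sylow_cyclic_or_quaternion
    (inf_le_left.trans (point_kernel_ti hZ a H hHa hHcard hHfix).2.ge) hne Q).resolve_right ?_
  rintro ⟨rfl, n, ⟨e⟩⟩
  haveI : NeZero ((2 : ℕ) ^ n) := ⟨by positivity⟩
  have h4 := Nat.card_congr e.toEquiv
  rw [Nat.card_eq_fintype_card (α := QuaternionGroup (2 ^ n)), QuaternionGroup.card] at h4
  exact Nat.not_even_iff_odd.2 hodd (even_iff_two_dvd.2
    ((dvd_mul_of_dvd_left (by norm_num : 2 ∣ 4) _).trans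
      (h4 ▸ card_subgroup_dvd_card (Q : Subgroup (pairStab G a b)))))

theorem transfer_eq_one (hZ : IsZassenhausGroup G Ω) {a b : Ω} (hab : a ≠ b) {A : Type*}
    [CommGroup A] (φ : stabilizer G a →* A) (g : G) : φ.transfer g = 1 := by
  rcases (φ.transfer).normal_ker.eq_bot_or_eq_top with h | h
  · obtain ⟨x, hx, hx1⟩ := zassenhaus_two_point_ne_bot hZ hab
    haveI := hZ.1
    haveI := isPretransitive_of hZ
    refine absurd (eq_of_smul_eq_smul (M := G) (α := Ω) fun c => ?_) hx1
    obtain ⟨k, rfl⟩ := exists_smul_eq G a c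
    have hc : x * k = k * x :=
      (MonoidHom.ker_eq_bot_iff _).1 h (by rw [map_mul, map_mul, mul_comm])
    rw [one_smul, ← mul_smul, hc, mul_smul, hx.1]
  · exact MonoidHom.mem_ker.1 (h ▸ Subgroup.mem_top g)

theorem transfer_pairStab (hZ : IsZassenhausGroup G Ω) {a b : Ω} (hab : a ≠ b) {A : Type*}
    [CommGroup A] (φ : stabilizer G a →* A) {w u : G} (hwa : w • a = b) (hwb : w • b = a)
    (hu : u ∈ pairStab G a b) :
    φ.transfer u = φ ⟨u, hu.1⟩ *
      φ ⟨w⁻¹ * u * w, by rw [mem_stabilizer_iff, mul_smul, mul_smul, hwa, hu.2, inv_smul_eq_iff, hwa]⟩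
      := by
  classical
  haveI := Fintype.ofFinite (G ⧸ stabilizer G a)
  haveI := Fintype.ofFinite (Quotient (orbitRel (zpowers u) (G ⧸ stabilizer G a)))
  rw [MonoidHom.transfer_eq_prod_quotient_orbitRel_zpowers_quot]
  let qa : Quotient (orbitRel (zpowers u) (G ⧸ (stabilizer G a))) := Quotient.mk'' ((1 : G) : G ⧸ (stabilizer G a))
  let qb : Quotient (orbitRel (zpowers u) (G ⧸ (stabilizer G a))) := Quotient.mk'' ((w : G) : G ⧸ (stabilizer G a))
  have hfa : u • ((1 : G) : G ⧸ (stabilizer G a)) = ((1 : G) : G ⧸ (stabilizer G a)) := by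
    rw [Quotient.smul_mk, smul_eq_mul, QuotientGroup.eq, mul_one, mul_one]
    exact (stabilizer G a).inv_mem hu.1
  have hfb : u • ((w : G) : G ⧸ (stabilizer G a)) = ((w : G) : G ⧸ (stabilizer G a)) := by
    rw [Quotient.smul_mk, smul_eq_mul, QuotientGroup.eq, mem_stabilizer_iff, mul_inv_rev,
      mul_smul, mul_smul, hwa, inv_smul_eq_iff.2 hu.2.symm, inv_smul_eq_iff, hwa]
  have hout : ∀ {p : G ⧸ (stabilizer G a)}, u • p = p →
      (Quotient.mk'' p : Quotient (orbitRel (zpowers u) (G ⧸ (stabilizer G a)))).out = p := by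
    intro p hp
    obtain ⟨⟨z, i, rfl⟩, hz⟩ := orbitRel_apply.1
      (Quotient.exact (Quotient.out_eq (Quotient.mk'' p : Quotient (orbitRel (zpowers u) (G ⧸ (stabilizer G a))))))
    rw [← hz]
    exact (MulAction.mem_stabilizer_iff.1 (Subgroup.zpow_mem (stabilizer G p) hp i) :)
  have hne : qa ≠ qb := fun h => by
    have h1 := hout hfa
    rw [show (Quotient.mk'' ((1 : G) : G ⧸ (stabilizer G a)) : Quotient (orbitRel (zpowers u) (G ⧸ (stabilizer G a)))) = qb from h,
      hout hfb, QuotientGroup.eq, mul_one, mem_stabilizer_iff, inv_smul_eq_iff, hwa] at h1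
    exact hab h1
  have hper : ∀ {p : G ⧸ (stabilizer G a)}, u • p = p → Function.minimalPeriod (u • ·) p = 1 := fun hp =>
    Function.minimalPeriod_eq_one_iff_isFixedPt.2 hp
  have hone : ∀ q, q ≠ qa ∧ q ≠ qb → φ ⟨q.out.out⁻¹ * u ^ Function.minimalPeriod (u • ·) q.out *
      q.out.out, QuotientGroup.out_conj_pow_minimalPeriod_mem (stabilizer G a) u q.out⟩ = 1 := by
    rintro q ⟨hqa, hqb⟩
    convert φ.map_one using 2
    refine Subtype.ext ?_
    show q.out.out⁻¹ * u ^ Function.minimalPeriod (u • ·) q.out * q.out.out = 1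
    set y := u ^ Function.minimalPeriod (u • ·) q.out with hy
    suffices y = 1 by rw [this, mul_one, inv_mul_cancel]
    by_contra hy1
    have hfix : y • (q.out.out • a) = q.out.out • a := by
      have h := mem_stabilizer_iff.1 (QuotientGroup.out_conj_pow_minimalPeriod_mem (stabilizer G a) u q.out)
      rwa [← hy, mul_smul, mul_smul, inv_smul_eq_iff] at h
    have hyE : y ∈ pairStab G a b := pow_mem hu _
    rcases fixed_eq_or hZ hy1 hab hyE.1 hyE.2 hfix with e | e
    · apply hqa
      rw [← q.out_eq]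
      refine congrArg _ ?_
      rw [← q.out.out_eq]
      exact QuotientGroup.eq.2 ((stabilizer G a).mul_mem ((stabilizer G a).inv_mem (mem_stabilizer_iff.2 e)) (stabilizer G a).one_mem)
    · apply hqb
      rw [← q.out_eq]
      refine congrArg _ ?_
      rw [← q.out.out_eq]
      refine QuotientGroup.eq.2 (mem_stabilizer_iff.2 ?_)
      rw [mul_smul, hwa, inv_smul_eq_iff, e]
  rw [Fintype.prod_eq_mul qa qb hne hone]
  congr 1
  · set v : G := qa.out.out
    have hv : v ∈ (stabilizer G a) := by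
      have h : ((v : G) : G ⧸ (stabilizer G a)) = ((1 : G) : G ⧸ (stabilizer G a)) := (Quotient.out_eq _).trans (hout hfa)
      rw [QuotientGroup.eq, mul_one, inv_mem_iff] at h
      exact h
    have he : (⟨v⁻¹ * u ^ Function.minimalPeriod (u • ·) qa.out * v,
        QuotientGroup.out_conj_pow_minimalPeriod_mem (stabilizer G a) u qa.out⟩ : (stabilizer G a)) =
        ⟨v, hv⟩⁻¹ * ⟨u, hu.1⟩ * ⟨v, hv⟩ := Subtype.ext (by
      show v⁻¹ * u ^ Function.minimalPeriod (u • ·) qa.out * v = v⁻¹ * u * v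
      rw [hout hfa, hper hfa, pow_one])
    rw [he, map_mul, map_mul, map_inv, mul_right_comm, inv_mul_cancel, one_mul]
  · set v : G := qb.out.out
    have hv : w⁻¹ * v ∈ (stabilizer G a) := by
      have h : ((v : G) : G ⧸ (stabilizer G a)) = ((w : G) : G ⧸ (stabilizer G a)) := (Quotient.out_eq _).trans (hout hfb)
      rw [QuotientGroup.eq] at h
      have := (stabilizer G a).inv_mem h
      rwa [mul_inv_rev, inv_inv] at this
    have hmem : w⁻¹ * u * w ∈ (stabilizer G a) := by
      rw [mem_stabilizer_iff, mul_smul, mul_smul, hwa, hu.2, inv_smul_eq_iff, hwa]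
    have he : (⟨v⁻¹ * u ^ Function.minimalPeriod (u • ·) qb.out * v,
        QuotientGroup.out_conj_pow_minimalPeriod_mem (stabilizer G a) u qb.out⟩ : (stabilizer G a)) =
        ⟨w⁻¹ * v, hv⟩⁻¹ * ⟨w⁻¹ * u * w, hmem⟩ * ⟨w⁻¹ * v, hv⟩ := Subtype.ext (by
      show v⁻¹ * u ^ Function.minimalPeriod (u • ·) qb.out * v =
        (w⁻¹ * v)⁻¹ * (w⁻¹ * u * w) * (w⁻¹ * v)
      rw [hout hfb, hper hfb, pow_one]
      group)
    rw [he, map_mul, map_mul, map_inv, mul_right_comm, inv_mul_cancel, one_mul]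

theorem swap_mem_normalizer (hZ : IsZassenhausGroup G Ω) {a b : Ω} (hab : a ≠ b) {w : G}
    (hwa : w • a = b) (hwb : w • b = a) {u : G} (hu : u ∈ pairStab G a b) :
    w⁻¹ * u * w ∈ pairStab G a b :=
  (Subgroup.mem_normalizer_iff''.1 ((two_point_normalizer hZ hab w).2 (Or.inr ⟨hwa, hwb⟩)) u).1 hu

/-- In a simple group the elements swapping the two points are involutions inverting the
two-point stabilizer. -/
theorem swap_inverts (hZ : IsZassenhausGroup G Ω) {a b : Ω} (hab : a ≠ b)
    (hodd : Odd (Nat.card (pairStab G a b))) {w : G} (hwa : w • a = b) (hwb : w • b = a) :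
    (∀ u ∈ pairStab G a b, w⁻¹ * u * w = u⁻¹) ∧ orderOf w = 2 := by
  classical
  haveI := isZGroup_pairStab hZ hab hodd
  obtain ⟨H, hHa, hHcard, hHfix⟩ := exists_point_kernel hZ hab
  haveI hn : (H.subgroupOf (stabilizer G a)).Normal :=
    normal_subgroupOf_of_le_normalizer (point_kernel_ti hZ a H hHa hHcard hHfix).2.ge
  set K := stabilizer G a
  set E := pairStab G a b with hE
  have hc := isComplement_kernel hZ hab hHa hHcard hHfix
  let ι : E.subgroupOf K ≃* E := subgroupOfEquivOfLe inf_le_left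
  let r : K →* E := (ι.toMonoidHom.comp hc.QuotientMulEquiv.toMonoidHom).comp (QuotientGroup.mk' _)
  have hr : ∀ (u : G) (hu : u ∈ E), r ⟨u, hu.1⟩ = ⟨u, hu⟩ := by
    intro u hu
    have : hc.QuotientMulEquiv (QuotientGroup.mk' _ (⟨u, hu.1⟩ : K)) = ⟨⟨u, hu.1⟩, hu⟩ := by
      rw [← MulEquiv.eq_symm_apply]
      rfl
    show ι (hc.QuotientMulEquiv (QuotientGroup.mk' _ (⟨u, hu.1⟩ : K))) = _
    rw [this]
    rfl
  let σ : E →* E :=
    { toFun := fun u => ⟨w⁻¹ * u * w, swap_mem_normalizer hZ hab hwa hwb u.2⟩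
      map_one' := Subtype.ext (by simp)
      map_mul' := fun u v => Subtype.ext (by simp only [Subgroup.coe_mul]; group) }
  have hkey : ∀ m : E, m * σ m ∈ commutator E := by
    intro m
    have h := transfer_eq_one hZ hab (Abelianization.of.comp r) m.1
    rw [transfer_pairStab hZ hab _ hwa hwb m.2] at h
    change Abelianization.of (r _) * Abelianization.of (r _) = 1 at h
    rw [hr m.1 m.2, hr _ (swap_mem_normalizer hZ hab hwa hwb m.2), ← map_mul] at h
    rw [← Abelianization.ker_of, MonoidHom.mem_ker]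
    exact h
  haveI : IsCyclic (commutator E) := IsZGroup.isCyclic_commutator E
  have hDn : (commutator E).Normal := inferInstance
  have hDc : ∀ x ∈ commutator E, ∀ y ∈ commutator E, x * y = y * x := fun x hx y hy => by
    letI := IsCyclic.commGroup (α := commutator E)
    exact congrArg Subtype.val (mul_comm (⟨x, hx⟩ : commutator E) ⟨y, hy⟩)
  obtain ⟨⟨d0, hd0⟩, hgen⟩ := IsCyclic.exists_generator (α := commutator E)
  have hgen' : ∀ x ∈ commutator E, ∃ i : ℤ, d0 ^ i = x := fun x hx => by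
    obtain ⟨i, hi⟩ := hgen ⟨x, hx⟩
    exact ⟨i, congrArg Subtype.val hi⟩
  have hcentral : ∀ m : E, ∀ d ∈ commutator E, (m * m) * d = d * (m * m) := by
    intro m d hd
    obtain ⟨k, hk⟩ := hgen' _ (hDn.conj_mem d0 hd0 m)
    have hpow : ∀ x ∈ commutator E, m * x * m⁻¹ = x ^ k := by
      intro x hx
      obtain ⟨i, rfl⟩ := hgen' x hx
      rw [← conj_zpow, ← hk, ← zpow_mul, ← zpow_mul, mul_comm]
    have hσD : ∀ x ∈ commutator E, σ x ∈ commutator E := by
      intro x hx
      have h := (commutator E).mul_mem ((commutator E).inv_mem hx) (hkey x)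
      rwa [inv_mul_cancel_left] at h
    -- the map induced on the derived group is surjective
    obtain ⟨⟨e, he⟩, rfl⟩ : ∃ e : commutator E, σ e.1 = d := by
      let τ : commutator E → commutator E := fun x => ⟨σ x.1, hσD x.1 x.2⟩
      have hτ : Function.Injective τ := fun x y h => by
        have h' := congrArg (fun z : commutator E => ((z.1 : E) : G)) h
        exact Subtype.ext (Subtype.ext (mul_left_cancel (mul_right_cancel h')))
      obtain ⟨x, hx⟩ := Finite.surjective_of_injective hτ ⟨d, hd⟩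
      exact ⟨x, congrArg Subtype.val hx⟩
    set c := m * σ m with hcdef
    have hσm : σ m = m⁻¹ * c := by rw [hcdef, inv_mul_cancel_left]
    have hcd : c * σ e * c⁻¹ = σ e :=
      mul_inv_eq_iff_eq_mul.2 (hDc _ (hkey m) _ (hσD e he))
    have h1 : σ (m * e * m⁻¹) = m⁻¹ * σ e * m := by
      rw [map_mul, map_mul, map_inv, hσm]
      calc m⁻¹ * c * σ e * (m⁻¹ * c)⁻¹ = m⁻¹ * (c * σ e * c⁻¹) * m := by group
        _ = _ := by rw [hcd]
    have h2 : σ (m * e * m⁻¹) = m * σ e * m⁻¹ := by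
      rw [hpow e he, map_zpow, hpow _ (hσD e he)]
    calc (m * m) * σ e = m * (m * σ e * m⁻¹) * m := by group
      _ = m * (m⁻¹ * σ e * m) * m := by rw [← h1, h2]
      _ = _ := by group
  have hsq : ∀ m : E, ∃ n : E, n * n = m := by
    intro m
    obtain ⟨k, hk⟩ := exists_pow_eq_self_of_coprime (x := m) (n := 2)
      ((Nat.prime_two.coprime_iff_not_dvd).2 fun h => Nat.not_even_iff_odd.2 hodd
        (even_iff_two_dvd.2 (h.trans (orderOf_dvd_natCard m))))
    exact ⟨m ^ k, by rw [← pow_add, ← two_mul, pow_mul, hk]⟩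
  have hker : (Abelianization.of : E →* Abelianization E).ker ≤ Subgroup.center E := by
    rw [Abelianization.ker_of]
    intro d hd
    rw [Subgroup.mem_center_iff]
    intro g
    obtain ⟨n, rfl⟩ := hsq g
    exact hcentral n d hd
  have hab' : ∀ x y : E, x * y = y * x :=
    (MonoidHom.isMulCommutative_of_isCyclic_of_ker_le_center _ hker).is_comm.comm
  have hbot : commutator E = ⊥ := by
    rw [_root_.commutator_def, Subgroup.commutator_eq_bot_iff_le_centralizer]
    exact fun x _ y _ => hab' y x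
  have hinv : ∀ u ∈ E, w⁻¹ * u * w = u⁻¹ := fun u hu => by
    have h := hkey ⟨u, hu⟩
    rw [hbot, Subgroup.mem_bot, mul_eq_one_iff_inv_eq] at h
    exact (congrArg Subtype.val h).symm
  refine ⟨hinv, ?_⟩
  have hw2 : w * w ∈ E := ⟨by show (w * w) • a = a; rw [mul_smul, hwa, hwb],
    by show (w * w) • b = b; rw [mul_smul, hwb, hwa]⟩
  have h1 := hinv _ hw2
  rw [inv_mul_cancel_left] at h1
  have h4 : (w * w) * (w * w) = 1 := by
    nth_rewrite 1 [h1]
    exact inv_mul_cancel _
  have hww : w * w = 1 := by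
    obtain ⟨k, hk⟩ := exists_pow_eq_self_of_coprime (x := (⟨w * w, hw2⟩ : E)) (n := 2)
      ((Nat.prime_two.coprime_iff_not_dvd).2 fun h => Nat.not_even_iff_odd.2 hodd
        (even_iff_two_dvd.2 (h.trans (orderOf_dvd_natCard _))))
    have e : (⟨w * w, hw2⟩ : E) ^ 2 = 1 := Subtype.ext (by rw [pow_two]; exact h4)
    rw [e, one_pow] at hk
    exact (congrArg Subtype.val hk).symm
  refine orderOf_eq_prime (by rw [pow_two]; exact hww) fun h => hab ?_
  rw [← hwa, h, one_smul]

end Simple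

end CfsgLib.Char.ZassenhausOdd
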