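import Cfsg.Agent.Lib.Char.RealChar

/-!
# Counting with column orthogonality
-/

set_option autoImplicit false
set_option linter.unusedSectionVars false

namespace CfsgLib.Char

open scoped ComplexConjugate
open Representation Module Cfsg

universe u

variable {G : Type u} [Group G]

theorem card_classes_fixed [Fintype G] [Fintype (IrrCharacter G)] (f : G → G) :
    ∀ c : ConjClasses G → Prop, (∀ g : G, c (ConjClasses.mk g) ↔ IsConj g (f g)) →
      (Nat.card {C : ConjClasses G // c C} : ℂ) =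
        ∑ χ : IrrCharacter G, classInner (χ : G → ℂ) (fun g => (χ : G → ℂ) (f g)) := by
  classical
  intro c hc
  have := Fintype.ofFinite (ConjClasses G)
  simp only [classInner]
  rw [← Finset.mul_sum, Finset.sum_comm,
    Finset.sum_congr rfl fun g _ => sum_irr_mul_conj g (f g),
    ← Finset.sum_fiberwise Finset.univ ConjClasses.mk, Finset.mul_sum, Nat.card_eq_fintype_card,
    Fintype.card_subtype, Finset.card_filter, Nat.cast_sum]
  refine Finset.sum_congr rfl fun C _ => ?_
  obtain ⟨g₀, rfl⟩ := ConjClasses.exists_rep C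
  have hfilt : ∀ g ∈ Finset.univ.filter (fun g => ConjClasses.mk g = ConjClasses.mk g₀),
      IsConj g₀ g := fun g hg =>
    (ConjClasses.mk_eq_mk_iff_isConj.mp (Finset.mem_filter.mp hg).2).symm
  have hcard : (Finset.univ.filter (fun g => ConjClasses.mk g = ConjClasses.mk g₀)).card =
      (Subgroup.centralizer ({g₀} : Set G)).index := by
    rw [← card_isConj, Nat.card_eq_fintype_card, Fintype.card_subtype]
    congr 1
    ext g
    rw [Finset.mem_filter, Finset.mem_filter, ConjClasses.mk_eq_mk_iff_isConj, isConj_comm (g := g)]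
  have hcent : ∀ g, IsConj g₀ g → Nat.card (Subgroup.centralizer ({g} : Set G)) =
      Nat.card (Subgroup.centralizer ({g₀} : Set G)) := by
    intro g hg
    have h1 : Nat.card {x : G // IsConj g x} = Nat.card {x : G // IsConj g₀ x} :=
      Nat.card_congr (Equiv.subtypeEquivRight fun x => ⟨hg.trans, hg.symm.trans⟩)
    rw [card_isConj, card_isConj] at h1
    have e1 := (Subgroup.centralizer ({g} : Set G)).index_mul_card
    have e2 := (Subgroup.centralizer ({g₀} : Set G)).index_mul_card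
    rw [h1, ← e2] at e1
    exact Nat.eq_of_mul_eq_mul_left (Nat.pos_of_ne_zero Subgroup.index_ne_zero_of_finite) e1
  by_cases h : c (ConjClasses.mk g₀)
  · rw [if_pos h]
    have h2 : ∀ g ∈ Finset.univ.filter (fun g => ConjClasses.mk g = ConjClasses.mk g₀),
        (if IsConj g (f g) then (Nat.card (Subgroup.centralizer ({g} : Set G)) : ℂ) else 0) =
          (Nat.card (Subgroup.centralizer ({g₀} : Set G)) : ℂ) := by
      intro g hg
      rw [if_pos ((hc g).mp ((Finset.mem_filter.mp hg).2 ▸ h)), hcent g (hfilt g hg)]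
    rw [Finset.sum_congr rfl h2, Finset.sum_const, nsmul_eq_mul, hcard, ← Nat.cast_mul,
      Subgroup.index_mul_card, inv_mul_cancel₀ card_ne_zero', Nat.cast_one]
  · rw [if_neg h]
    have h2 : ∀ g ∈ Finset.univ.filter (fun g => ConjClasses.mk g = ConjClasses.mk g₀),
        (if IsConj g (f g) then (Nat.card (Subgroup.centralizer ({g} : Set G)) : ℂ) else 0) = 0 := by
      intro g hg
      rw [if_neg fun e => h ((Finset.mem_filter.mp hg).2 ▸ (hc g).mpr e)]
    rw [Finset.sum_congr rfl h2, Finset.sum_const_zero, mul_zero, Nat.cast_zero]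

theorem card_fixed_irr_eq [Finite G] (f : G → G) (c : ConjClasses G → Prop)
    (hc : ∀ g : G, c (ConjClasses.mk g) ↔ IsConj g (f g))
    (hirr : ∀ χ : IrrCharacter G, IsIrrCharacter G (fun g => (χ : G → ℂ) (f g))) :
    Nat.card {χ : IrrCharacter G // (fun g => (χ : G → ℂ) (f g)) = (χ : G → ℂ)} =
      Nat.card {C : ConjClasses G // c C} := by
  classical
  have := Fintype.ofFinite G
  have := Fintype.ofFinite (IrrCharacter G)
  have h := card_classes_fixed f c hc
  have hterm : ∀ χ : IrrCharacter G, classInner (χ : G → ℂ) (fun g => (χ : G → ℂ) (f g)) =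
      if (fun g => (χ : G → ℂ) (f g)) = (χ : G → ℂ) then (1 : ℂ) else 0 := by
    intro χ
    have e := classInner_irr χ ⟨_, hirr χ⟩
    simp only [Subtype.ext_iff] at e
    rw [e]
    exact if_congr eq_comm rfl rfl
  rw [Finset.sum_congr rfl fun χ _ => hterm χ, Finset.sum_boole] at h
  rw [Nat.card_eq_fintype_card, Fintype.card_subtype]
  exact_mod_cast h.symm

/-- Brauer's permutation lemma for an automorphism. -/
theorem card_fixed_classes_aut [Finite G] (α : G ≃* G) :
    Nat.card {C : ConjClasses G // ConjClasses.map α.toMonoidHom C = C} =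
      Nat.card {χ : IrrCharacter G // (χ : G → ℂ) ∘ α = (χ : G → ℂ)} := by
  symm
  exact card_fixed_irr_eq (fun g => α g) (fun C => ConjClasses.map α.toMonoidHom C = C)
    (fun g => ConjClasses.mk_eq_mk_iff_isConj.trans isConj_comm)
    (fun χ => isIrrCharacter_comp_surjective χ.2 α.toMonoidHom α.surjective)

theorem irr_inv_isIrr [Finite G] (χ : IrrCharacter G) :
    IsIrrCharacter G (fun g => (χ : G → ℂ) g⁻¹) := by
  have := Fintype.ofFinite G
  simp only [irr_inv]
  refine isIrr_of_isCharacter_norm_one (isCharacter_conj (isCharacter_irr χ)) ?_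
  have e := classInner_irr_self χ
  have : classInner (fun g => conj ((χ : G → ℂ) g)) (fun g => conj ((χ : G → ℂ) g)) =
      conj (classInner (χ : G → ℂ) χ) := by
    simp [classInner]
  rw [this, e, map_one]

/-- Real classes and real characters are equinumerous. -/
theorem card_real_irr [Finite G] :
    Nat.card {χ : IrrCharacter G // ∀ g : G, ((χ : G → ℂ) g).im = 0} =
      Nat.card {C : ConjClasses G // ∀ g : G, ConjClasses.mk g = C → IsConj g g⁻¹} := by
  rw [← card_fixed_irr_eq (G := G) (fun g => g⁻¹) (fun C => ∀ g : G, ConjClasses.mk g = C → IsConj g g⁻¹)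
    (fun g => ⟨fun h => h g rfl, fun h x hx => by
      obtain ⟨k, hk⟩ := isConj_iff.mp (ConjClasses.mk_eq_mk_iff_isConj.mp hx).symm
      have h2 : IsConj g⁻¹ x⁻¹ := isConj_iff.mpr ⟨k, by rw [← hk]; group⟩
      exact (ConjClasses.mk_eq_mk_iff_isConj.mp hx).trans (h.trans h2)⟩)
    irr_inv_isIrr]
  refine Nat.card_congr (Equiv.subtypeEquivRight fun χ => ⟨fun h => funext fun g => ?_, fun h g => ?_⟩)
  · rw [irr_inv]; exact Complex.conj_eq_iff_im.mpr (h g)
  · have h1 := congrFun h g
    rw [irr_inv] at h1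
    exact Complex.conj_eq_iff_im.mp h1

theorem card_modEq_sixteen [Finite G] (hodd : Odd (Nat.card G)) :
    Nat.card G ≡ Nat.card (ConjClasses G) [MOD 16] := by
  classical
  have := Fintype.ofFinite (IrrCharacter G)
  have := Fintype.ofFinite G
  choose d hd0 hd using fun χ : IrrCharacter G => isIrrCharacter_degree χ.2
  have hsum : ∑ χ : IrrCharacter G, d χ ^ 2 = Nat.card G := by
    have h := sum_degree_sq (G := G)
    simp only [hd] at h
    exact_mod_cast h
  let cj : IrrCharacter G → IrrCharacter G := fun χ => ⟨_, irr_inv_isIrr χ⟩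
  have hcj : ∀ χ, cj (cj χ) = χ := fun χ => Subtype.ext (funext fun g => by simp [cj])
  let one : IrrCharacter G := ⟨fun _ => 1, isIrrCharacter_one⟩
  have hfix : ∀ χ, cj χ = χ → χ = one := fun χ h => Subtype.ext (irr_eq_one_of_real hodd χ fun g => by
    rw [← irr_inv]
    exact congrFun (congrArg Subtype.val h) g)
  have hd1 : d one = 1 := by
    have := hd one
    simp only [one] at this
    exact_mod_cast this.symm
  have hdc : ∀ χ, d (cj χ) = d χ := fun χ => by
    have h1 := hd (cj χ)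
    simp only [cj, inv_one] at h1
    rw [hd χ] at h1
    exact_mod_cast h1.symm
  have hdodd : ∀ χ, Odd (d χ) := fun χ => Odd.of_dvd_nat hodd (degree_dvd_card χ (hd χ))
  have h16 : (∑ χ : IrrCharacter G, (((d χ : ℕ) : ZMod 16) ^ 2 - 1)) = 0 := by
    refine Finset.sum_involution (fun χ _ => cj χ) (fun χ _ => ?_) (fun χ _ hne e => hne ?_)
      (fun χ _ => Finset.mem_univ _) (fun χ _ => hcj χ)
    · rw [hdc χ]
      obtain ⟨k, hk⟩ := hdodd χ
      rw [hk]
      push_cast
      have hk2 : ∀ x : ZMod 16, (2 * x + 1) ^ 2 - 1 + ((2 * x + 1) ^ 2 - 1) = 0 := by decide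
      exact hk2 _
    · rw [hfix χ e, hd1]; simp
  have h2 : ((Nat.card G : ℕ) : ZMod 16) = ((Nat.card (ConjClasses G) : ℕ) : ZMod 16) := by
    rw [Finset.sum_sub_distrib, sub_eq_zero, Finset.sum_const, nsmul_one, Finset.card_univ,
      ← Nat.card_eq_fintype_card, card_irr_eq_card_conjClasses] at h16
    rw [← hsum, ← h16]
    push_cast
    rfl
  exact (ZMod.natCast_eq_natCast_iff _ _ _).mp h2

theorem sum_irr_convolution [Fintype G] (χ : IrrCharacter G) (g : G) :
    ∑ a : G, (χ : G → ℂ) a * (χ : G → ℂ) (a⁻¹ * g) =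
      (Nat.card G : ℂ) * (χ : G → ℂ) g / (χ : G → ℂ) 1 := by
  obtain ⟨χ, n, ρ, hρ, rfl⟩ := χ
  obtain ⟨c, hc⟩ := schur_scalar ρ (∑ a, ρ.character a • ρ a⁻¹) fun x => by
    simp only [Finset.sum_mul, Finset.mul_sum, smul_mul_assoc, mul_smul_comm, ← map_mul]
    refine Fintype.sum_bijective (fun a => x⁻¹ * a * x⁻¹⁻¹) (MulAut.conj x⁻¹).bijective _ _ fun a => ?_
    rw [show x * (x⁻¹ * a * x⁻¹⁻¹)⁻¹ = a⁻¹ * x by group, Representation.char_conj]
  have h1 := congrArg (LinearMap.trace ℂ _) hc
  rw [trace_smul_id, map_sum] at h1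
  have hsum : ∑ a : G, LinearMap.trace ℂ _ (ρ.character a • ρ a⁻¹) = (Nat.card G : ℂ) := by
    have h := classInner_irr_self (G := G) ⟨_, n, ρ, hρ, rfl⟩
    rw [classInner, inv_mul_eq_one₀ card_ne_zero'] at h
    rw [h]
    exact Finset.sum_congr rfl fun a _ => by rw [map_smul, smul_eq_mul, ← char_inv]; rfl
  rw [hsum] at h1
  have h2 := congrArg (fun T => LinearMap.trace ℂ _ (T * ρ g)) hc
  simp only [Finset.sum_mul, map_sum, smul_mul_assoc, map_smul, smul_eq_mul, ← map_mul,
    ← Module.End.one_eq_id, one_mul] at h2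
  have h3 : ρ.character 1 ≠ 0 := irr_one_ne_zero ⟨_, n, ρ, hρ, rfl⟩
  rw [eq_div_iff h3]
  calc (∑ a : G, ρ.character a * ρ.character (a⁻¹ * g)) * ρ.character 1
      = c * ρ.character g * ρ.character 1 := congrArg (· * _) h2
    _ = _ := by rw [Representation.char_one, h1]; ring

/-- The number of ways of writing an element as a commutator. -/
theorem card_commutator_eq [Fintype G] [Fintype (IrrCharacter G)] (g : G) :
    (Nat.card {p : G × G // p.1 * p.2 * p.1⁻¹ * p.2⁻¹ = g} : ℂ) =
      (Nat.card G : ℂ) * ∑ χ : IrrCharacter G, (χ : G → ℂ) g / (χ : G → ℂ) 1 := by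
  classical
  rw [Finset.mul_sum, Finset.sum_congr rfl fun χ _ => by rw [← mul_div_assoc, ← sum_irr_convolution χ g],
    Finset.sum_comm, Nat.card_eq_fintype_card, Fintype.card_subtype, Finset.card_filter,
    Fintype.sum_prod_type, Nat.cast_sum]
  refine Finset.sum_congr rfl fun a _ => ?_
  have h1 : ∑ χ : IrrCharacter G, (χ : G → ℂ) a * (χ : G → ℂ) (a⁻¹ * g) =
      ∑ χ : IrrCharacter G, (χ : G → ℂ) (a⁻¹ * g) * conj ((χ : G → ℂ) a⁻¹) :=
    Finset.sum_congr rfl fun χ _ => by rw [irr_inv, Complex.conj_conj, mul_comm]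
  rw [h1, sum_irr_mul_conj, ← Finset.card_filter]
  split_ifs with h
  · obtain ⟨c, hc⟩ := isConj_iff.mp h.symm
    rw [← Fintype.card_subtype, ← Nat.card_eq_fintype_card, Nat.cast_inj]
    have hto : ∀ z : G, z ∈ Subgroup.centralizer ({a⁻¹ * g} : Set G) →
        a * (z * c) * a⁻¹ * (z * c)⁻¹ = g := by
      intro z hz'
      have hz : z * (a⁻¹ * g) * z⁻¹ = a⁻¹ * g := by
        rw [Subgroup.mem_centralizer_singleton_iff.mp hz', mul_inv_cancel_right]
      calc a * (z * c) * a⁻¹ * (z * c)⁻¹ = a * (z * (c * a⁻¹ * c⁻¹) * z⁻¹) := by group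
        _ = g := by rw [hc, hz, mul_inv_cancel_left]
    have hinv : ∀ b : G, a * b * a⁻¹ * b⁻¹ = g →
        b * c⁻¹ ∈ Subgroup.centralizer ({a⁻¹ * g} : Set G) := by
      intro b hb'
      refine Subgroup.mem_centralizer_singleton_iff.mpr ?_
      have hb : b * a⁻¹ * b⁻¹ = a⁻¹ * g := by rw [← hb']; group
      calc b * c⁻¹ * (a⁻¹ * g) = b * a⁻¹ * b⁻¹ * (b * c⁻¹) := by rw [← hc]; group
        _ = _ := by rw [hb]
    exact (Nat.card_congr
      { toFun := fun z => ⟨z.1 * c, hto z.1 z.2⟩
        invFun := fun b => ⟨b.1 * c⁻¹, hinv b.1 b.2⟩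
        left_inv := fun z => Subtype.ext (mul_inv_cancel_right _ _)
        right_inv := fun b => Subtype.ext (inv_mul_cancel_right _ _) }).symm
  · rw [Nat.cast_eq_zero, Finset.card_eq_zero, Finset.filter_eq_empty_iff]
    intro b _ hb
    refine h (isConj_iff.mpr ⟨b⁻¹, ?_⟩)
    rw [← hb]; group

theorem isCommutator_iff [Finite G] (g : G) :
    (∃ a b : G, g = a * b * a⁻¹ * b⁻¹) ↔
      ∑ᶠ χ : IrrCharacter G, (χ : G → ℂ) g / (χ : G → ℂ) 1 ≠ 0 := by
  have := Fintype.ofFinite G
  have := Fintype.ofFinite (IrrCharacter G)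
  rw [finsum_eq_sum_of_fintype, ← mul_ne_zero_iff_left (card_ne_zero' (G := G)),
    ← card_commutator_eq, Nat.cast_ne_zero, Nat.card_ne_zero, nonempty_subtype]
  constructor
  · rintro ⟨a, b, h⟩
    exact ⟨⟨(a, b), h.symm⟩, inferInstance⟩
  · rintro ⟨⟨⟨a, b⟩, h⟩, -⟩
    exact ⟨a, b, h.symm⟩

end CfsgLib.Char
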