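import Cfsg.Agent.Lib.Char.Integrality
import Cfsg.Agent.Lib.Char.Counting

/-!
# Class multiplication formula
-/

set_option autoImplicit false
set_option linter.unusedSectionVars false

namespace CfsgLib.Char

open scoped ComplexConjugate
open Representation Module Cfsg

universe u

variable {G : Type u} [Group G] [Finite G]

theorem classConst_conj (a b c h : G) : classConst a b (h * c * h⁻¹) = classConst a b c := by
  have hi : ∀ x y k : G, IsConj x y → IsConj x (k * y * k⁻¹) := fun x y k e =>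
    e.trans (isConj_iff.mpr ⟨k, rfl⟩)
  have hmap : ∀ (c' k : G) (p : G × G), IsConj a p.1 ∧ IsConj b p.2 ∧ p.1 * p.2 = c' →
      IsConj a (k * p.1 * k⁻¹) ∧ IsConj b (k * p.2 * k⁻¹) ∧
        k * p.1 * k⁻¹ * (k * p.2 * k⁻¹) = k * c' * k⁻¹ := fun c' k p hp =>
    ⟨hi a _ k hp.1, hi b _ k hp.2.1, by rw [← hp.2.2]; group⟩
  refine (Nat.card_congr
    { toFun := fun p => ⟨(h * p.1.1 * h⁻¹, h * p.1.2 * h⁻¹), hmap c h p.1 p.2⟩
      invFun := fun p => ⟨(h⁻¹ * p.1.1 * h⁻¹⁻¹, h⁻¹ * p.1.2 * h⁻¹⁻¹), by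
        have e := hmap (h * c * h⁻¹) h⁻¹ p.1 p.2
        rwa [show h⁻¹ * (h * c * h⁻¹) * h⁻¹⁻¹ = c by group] at e⟩
      left_inv := fun p => Subtype.ext (Prod.ext
        (show h⁻¹ * (h * p.1.1 * h⁻¹) * h⁻¹⁻¹ = p.1.1 by group)
        (show h⁻¹ * (h * p.1.2 * h⁻¹) * h⁻¹⁻¹ = p.1.2 by group))
      right_inv := fun p => Subtype.ext (Prod.ext
        (show h * (h⁻¹ * p.1.1 * h⁻¹⁻¹) * h⁻¹ = p.1.1 by group)
        (show h * (h⁻¹ * p.1.2 * h⁻¹⁻¹) * h⁻¹ = p.1.2 by group)) }).symm

/-- The class multiplication coefficient in terms of characters. -/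
theorem classConst_formula (a b c : G) :
    (classConst a b c : ℂ) =
      (Nat.card {x : G // IsConj a x} : ℂ) * (Nat.card {x : G // IsConj b x} : ℂ) / (Nat.card G : ℂ) *
        ∑ᶠ χ : IrrCharacter G,
          (χ : G → ℂ) a * (χ : G → ℂ) b * conj ((χ : G → ℂ) c) / (χ : G → ℂ) 1 := by
  classical
  have := Fintype.ofFinite G
  have := Fintype.ofFinite (IrrCharacter G)
  rw [finsum_eq_sum_of_fintype, Finset.mul_sum]
  have hχ : ∀ χ : IrrCharacter G, (Nat.card {x : G // IsConj a x} : ℂ) *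
      (Nat.card {x : G // IsConj b x} : ℂ) / (Nat.card G : ℂ) *
        ((χ : G → ℂ) a * (χ : G → ℂ) b * conj ((χ : G → ℂ) c) / (χ : G → ℂ) 1) =
      (Nat.card G : ℂ)⁻¹ * ∑ z : G, (classConst a b z : ℂ) *
        ((χ : G → ℂ) z * conj ((χ : G → ℂ) c)) := by
    intro χ
    have h := omega_mul χ a b
    simp only [omega] at h
    rw [← Finset.sum_div, eq_div_iff (irr_one_ne_zero χ)] at h
    simp only [← mul_assoc]
    rw [← Finset.sum_mul, ← h]
    have h1 := irr_one_ne_zero χ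
    field_simp
  rw [Finset.sum_congr rfl fun χ _ => hχ χ, ← Finset.mul_sum, Finset.sum_comm]
  have hz : ∀ z : G, ∑ χ : IrrCharacter G, (classConst a b z : ℂ) *
      ((χ : G → ℂ) z * conj ((χ : G → ℂ) c)) =
      if IsConj c z then (classConst a b c : ℂ) * (Nat.card (Subgroup.centralizer ({c} : Set G)) : ℂ)
      else 0 := by
    intro z
    have e : ∑ χ : IrrCharacter G, (χ : G → ℂ) z * conj ((χ : G → ℂ) c) =
        conj (∑ χ : IrrCharacter G, (χ : G → ℂ) c * conj ((χ : G → ℂ) z)) := by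
      rw [map_sum]
      exact Finset.sum_congr rfl fun χ _ => by rw [map_mul, Complex.conj_conj, mul_comm]
    rw [← Finset.mul_sum, e, sum_irr_mul_conj]
    split_ifs with h
    · obtain ⟨k, hk⟩ := isConj_iff.mp h
      rw [map_natCast, ← hk, classConst_conj]
    · rw [map_zero, mul_zero]
  rw [Finset.sum_congr rfl fun z _ => hz z, ← Finset.sum_filter, Finset.sum_const, nsmul_eq_mul,
    ← Fintype.card_subtype, ← Nat.card_eq_fintype_card, card_isConj, mul_left_comm _ (classConst a b c : ℂ),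
    ← Nat.cast_mul, Subgroup.index_mul_card]
  have := card_ne_zero' (G := G)
  field_simp

theorem card_fixed_action {A : Type*} [Group A] [MulAction A (IrrCharacter G)]
    [MulAction A (ConjClasses G)]
    (hcompat : ∀ (a : A) (χ : IrrCharacter G) (g g' : G), ConjClasses.mk g' = a • ConjClasses.mk g →
      ((a • χ : IrrCharacter G) : G → ℂ) g' = (χ : G → ℂ) g) (a : A) :
    Nat.card {χ : IrrCharacter G // a • χ = χ} = Nat.card {C : ConjClasses G // a • C = C} := by
  choose f hf using fun g : G => ConjClasses.exists_rep (a • ConjClasses.mk g)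
  have he : ∀ χ : IrrCharacter G,
      (fun g => (χ : G → ℂ) (f g)) = ((a⁻¹ • χ : IrrCharacter G) : G → ℂ) := fun χ => funext fun g => by
    rw [← hcompat a (a⁻¹ • χ) g (f g) (hf g), smul_inv_smul]
  rw [← card_fixed_irr_eq f (fun C => a • C = C)
    (fun g => by rw [← hf g, ConjClasses.mk_eq_mk_iff_isConj]; exact isConj_comm)
    (fun χ => by rw [he χ]; exact (a⁻¹ • χ).2)]
  refine Nat.card_congr (Equiv.subtypeEquivRight fun χ => ?_)
  rw [he χ, ← Subtype.ext_iff]
  exact ⟨fun h => inv_smul_eq_iff.mpr h.symm, fun h => (inv_smul_eq_iff.mp h).symm⟩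

end CfsgLib.Char
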