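import Cfsg.Agent.Lib.Char.PresentationTable

/-!
# Order bounds for finitely presented groups from closed coset tables
-/

set_option autoImplicit false
set_option linter.style.haveILetI false

namespace CfsgLib.Char.Presentation

theorem card_le_of_closed {P : Type*} [Group P] (T : Set P) (hT : Subgroup.closure T = ⊤) (B : P)
    (k n : ℕ) (hk : 0 < k) (hB : B ^ k = 1) (s : Finset (P ⧸ Subgroup.zpowers B))
    (hs : s.card ≤ n) (h0 : (QuotientGroup.mk 1 : P ⧸ Subgroup.zpowers B) ∈ s)
    (hcl : ∀ x ∈ s, ∀ t ∈ T, t • x ∈ s) : Finite P ∧ Nat.card P ≤ n * k := by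
  classical
  have hall : ∀ g : P, ∀ x ∈ s, g • x ∈ s := by
    intro g
    have hg : g ∈ Subgroup.closure T := hT ▸ Subgroup.mem_top g
    induction hg using Subgroup.closure_induction with
    | mem t ht => exact fun x hx => hcl x hx t ht
    | one => exact fun x hx => by rwa [one_smul]
    | mul a b _ _ ha hb => exact fun x hx => by rw [mul_smul]; exact ha _ (hb x hx)
    | inv a _ ha =>
      intro x hx
      have himg : s.image (fun y => a • y) = s :=
        Finset.eq_of_subset_of_card_le (fun y hy => by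
          obtain ⟨z, hz, rfl⟩ := Finset.mem_image.1 hy
          exact ha z hz) (by rw [Finset.card_image_of_injective _ (MulAction.injective a)])
      obtain ⟨z, hz, e⟩ := Finset.mem_image.1 (himg.symm ▸ hx)
      rw [← e, inv_smul_smul]
      exact hz
  have huniv : ∀ x : P ⧸ Subgroup.zpowers B, x ∈ s := by
    intro x
    obtain ⟨g, rfl⟩ := QuotientGroup.mk_surjective x
    have := hall g _ h0
    rwa [MulAction.Quotient.smul_mk, smul_eq_mul, mul_one] at this
  haveI : Fintype (P ⧸ Subgroup.zpowers B) := ⟨s, huniv⟩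
  have hord : 0 < orderOf B ∧ orderOf B ≤ k :=
    ⟨(isOfFinOrder_iff_pow_eq_one.2 ⟨k, hk, hB⟩).orderOf_pos, Nat.le_of_dvd hk (orderOf_dvd_of_pow_eq_one hB)⟩
  have hc : Nat.card (Subgroup.zpowers B) = orderOf B := Nat.card_zpowers B
  haveI : Finite (Subgroup.zpowers B) := Nat.finite_of_card_ne_zero (by omega)
  haveI : Finite P := Finite.of_equiv _ (Subgroup.groupEquivQuotientProdSubgroup (s := Subgroup.zpowers B)).symm
  refine ⟨inferInstance, ?_⟩
  rw [Subgroup.card_eq_card_quotient_mul_card_subgroup (Subgroup.zpowers B), hc,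
    Nat.card_eq_fintype_card]
  refine Nat.mul_le_mul ?_ hord.2
  rw [← Finset.card_univ]
  exact (Finset.card_le_card fun x _ => huniv x).trans hs

theorem smul_base {P : Type*} [Group P] (B : P) :
    B • (QuotientGroup.mk 1 : P ⧸ Subgroup.zpowers B) = QuotientGroup.mk 1 := by
  rw [MulAction.Quotient.smul_mk, smul_eq_mul, mul_one, QuotientGroup.eq, mul_one]
  exact inv_mem (Subgroup.mem_zpowers B)

theorem card_le_sixty {P : Type*} [Group P] {A B : P}
    (hT : Subgroup.closure ({A, B} : Set P) = ⊤)
    (hA : A ^ 3 = 1) (hB : B ^ 5 = 1) (hAB : (A * B) ^ 2 = 1) : Finite P ∧ Nat.card P ≤ 60 := by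
  obtain ⟨s, hs, h0, hcl⟩ := closed_alt5 (X := P ⧸ Subgroup.zpowers B) A B
    (fun x => by rw [← mul_smul, ← mul_smul, show A * A * A = A ^ 3 by simp [pow_succ, mul_assoc], hA, one_smul])
    (fun x => by simp only [← mul_smul, ← mul_assoc]; rw [show B * B * B * B * B = B ^ 5 by simp [pow_succ, mul_assoc], hB, one_smul])
    (fun x => by simp only [← mul_smul, ← mul_assoc]; rw [show A * B * A * B = (A * B) ^ 2 by simp [pow_two, mul_assoc], hAB, one_smul])
    _ (smul_base B)
  refine card_le_of_closed _ hT B 5 12 (by norm_num) hB s hs h0 fun x hx t ht => ?_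
  rcases ht with rfl | rfl
  · exact (hcl x hx).1
  · exact (hcl x hx).2

theorem card_le_one_twenty {P : Type*} [Group P] {A B C : P}
    (hT : Subgroup.closure ({A, B, C} : Set P) = ⊤)
    (hA : A ^ 3 = 1) (hB : B ^ 5 = 1) (hC : C ^ 2 = 1) (hCA : C * A = A * C) (hCB : C * B = B * C)
    (hAB : (A * B) ^ 2 = C) : Finite P ∧ Nat.card P ≤ 120 := by
  have hA' : A * A * A = 1 := by rw [← hA]; simp [pow_succ, mul_assoc]
  have hB' : B * B * B * B * B = 1 := by rw [← hB]; simp [pow_succ, mul_assoc]
  have hC' : C * C = 1 := by rw [← pow_two, hC]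
  obtain ⟨s, hs, h0, hcl⟩ := closed_sl25 (X := P ⧸ Subgroup.zpowers B) A B C
    (fun x => by rw [← mul_smul, ← mul_smul, hA', one_smul])
    (fun x => by simp only [← mul_smul, ← mul_assoc]; rw [hB', one_smul])
    (fun x => by rw [← mul_smul, hC', one_smul])
    (fun x => by
      simp only [← mul_smul, ← mul_assoc]
      rw [hCA, mul_assoc A C C, hC', mul_one, hA', one_smul])
    (fun x => by
      simp only [← mul_smul, ← mul_assoc]
      rw [hCB, mul_assoc B C C, hC', mul_one, hB', one_smul])
    (fun x => by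
      simp only [← mul_smul, ← mul_assoc]
      rw [show A * B * A * B = C by rw [← hAB]; simp [pow_two, mul_assoc], hC', one_smul])
    _ (smul_base B)
  refine card_le_of_closed _ hT B 5 24 (by norm_num) hB s hs h0 fun x hx t ht => ?_
  rcases ht with rfl | rfl | rfl
  · exact (hcl x hx).1
  · exact (hcl x hx).2.1
  · exact (hcl x hx).2.2

end CfsgLib.Char.Presentation
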