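import Cfsg.Agent.Lib.Char.Integrality

/-!
# The central character as an algebra homomorphism
-/

set_option autoImplicit false

namespace CfsgLib.Char

open Representation Module Cfsg

universe u v

variable {G : Type u} [Group G] {V : Type v} [AddCommGroup V] [Module ℂ V] [FiniteDimensional ℂ V]

/-- The centre of the group algebra acts by scalars in an irreducible representation. -/
theorem exists_centerHom (ρ : Representation ℂ G V) [ρ.IsIrreducible] :
    ∃ φ : Subalgebra.center ℂ (MonoidAlgebra ℂ G) →ₐ[ℂ] ℂ,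
      ∀ z : Subalgebra.center ℂ (MonoidAlgebra ℂ G),
        ρ.asAlgebraHom (z : MonoidAlgebra ℂ G) = φ z • LinearMap.id := by
  have hsc : ∀ z : Subalgebra.center ℂ (MonoidAlgebra ℂ G),
      ∃ c : ℂ, ρ.asAlgebraHom (z : MonoidAlgebra ℂ G) = c • LinearMap.id := fun z =>
    schur_scalar ρ _ fun x => by
      have hz := Subalgebra.mem_center_iff.mp z.2 (MonoidAlgebra.of ℂ G x)
      rw [← ρ.asAlgebraHom_of x, ← map_mul, ← map_mul, hz]
  choose c hc using hsc
  have := nontrivial_of_irreducible ρ
  obtain ⟨v, hv⟩ := exists_ne (0 : V)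
  have inj : ∀ a b : ℂ, a • (LinearMap.id : V →ₗ[ℂ] V) = b • LinearMap.id → a = b := fun a b h =>
    smul_left_injective ℂ hv (by simpa using LinearMap.congr_fun h v)
  have hid : (1 : V →ₗ[ℂ] V) = LinearMap.id := rfl
  have h1 : c 1 = 1 := inj _ _ (by rw [← hc 1, OneMemClass.coe_one, map_one, one_smul, hid])
  have hm : ∀ a b, c (a * b) = c a * c b := fun a b => inj _ _ (by
    rw [← hc (a * b), MulMemClass.coe_mul, map_mul, hc a, hc b]
    ext w
    simp [smul_smul, Module.End.mul_apply, mul_comm])
  have h0 : c 0 = 0 := inj _ _ (by rw [← hc 0, ZeroMemClass.coe_zero, map_zero, zero_smul])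
  have ha : ∀ a b, c (a + b) = c a + c b := fun a b => inj _ _ (by
    rw [← hc (a + b), AddMemClass.coe_add, map_add, hc a, hc b, add_smul])
  have hr : ∀ r : ℂ, c (algebraMap ℂ _ r) = r := fun r => inj _ _ (by
    rw [← hc, Subalgebra.coe_algebraMap, AlgHom.commutes]
    rfl)
  exact ⟨{ toFun := c, map_one' := h1, map_mul' := hm, map_zero' := h0, map_add' := ha,
           commutes' := hr }, hc⟩

end CfsgLib.Char
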