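import Cfsg.Agent.Lib.Char.Basic

/-!
# Orthogonality, completeness, counting
-/

set_option autoImplicit false

namespace CfsgLib.Char

open scoped ComplexConjugate
open Representation Module Cfsg

universe u v w

variable {G : Type u} [Group G]

section Inner

variable [Fintype G]

theorem card_ne_zero' : (Nat.card G : ℂ) ≠ 0 := by exact_mod_cast Nat.card_pos.ne'

theorem classInner_conj (φ ψ : G → ℂ) : conj (classInner φ ψ) = classInner ψ φ := by
  simp only [classInner, map_mul, map_inv₀, map_natCast, map_sum, Complex.conj_conj]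
  congr 1
  exact Finset.sum_congr rfl fun g _ => mul_comm _ _

theorem classInner_add_left (φ φ' ψ : G → ℂ) :
    classInner (φ + φ') ψ = classInner φ ψ + classInner φ' ψ := by
  simp [classInner, add_mul, Finset.sum_add_distrib, mul_add]

theorem classInner_add_right (φ ψ ψ' : G → ℂ) :
    classInner φ (ψ + ψ') = classInner φ ψ + classInner φ ψ' := by
  simp [classInner, mul_add, Finset.sum_add_distrib]

theorem classInner_zero_left (ψ : G → ℂ) : classInner 0 ψ = 0 := by simp [classInner]

theorem classInner_zero_right (φ : G → ℂ) : classInner φ 0 = 0 := by simp [classInner]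

theorem classInner_smul_left (c : ℂ) (φ ψ : G → ℂ) :
    classInner (c • φ) ψ = c * classInner φ ψ := by
  simp only [classInner, Pi.smul_apply, smul_eq_mul, Finset.mul_sum]
  exact Finset.sum_congr rfl fun g _ => by ring

theorem classInner_smul_right (c : ℂ) (φ ψ : G → ℂ) :
    classInner φ (c • ψ) = conj c * classInner φ ψ := by
  simp only [classInner, Pi.smul_apply, smul_eq_mul, Finset.mul_sum, map_mul]
  exact Finset.sum_congr rfl fun g _ => by ring

theorem classInner_neg_left (φ ψ : G → ℂ) : classInner (-φ) ψ = -classInner φ ψ := by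
  simp [classInner]

theorem classInner_neg_right (φ ψ : G → ℂ) : classInner φ (-ψ) = -classInner φ ψ := by
  simp [classInner]

theorem classInner_sub_left (φ φ' ψ : G → ℂ) :
    classInner (φ - φ') ψ = classInner φ ψ - classInner φ' ψ := by
  rw [sub_eq_add_neg, classInner_add_left, classInner_neg_left, sub_eq_add_neg]

theorem classInner_sub_right (φ ψ ψ' : G → ℂ) :
    classInner φ (ψ - ψ') = classInner φ ψ - classInner φ ψ' := by
  rw [sub_eq_add_neg, classInner_add_right, classInner_neg_right, sub_eq_add_neg]

theorem classInner_sum_left {ι : Type*} (s : Finset ι) (f : ι → G → ℂ) (ψ : G → ℂ) :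
    classInner (∑ i ∈ s, f i) ψ = ∑ i ∈ s, classInner (f i) ψ := by
  classical
  induction s using Finset.induction_on with
  | empty => simp [classInner_zero_left]
  | insert a s ha ih => rw [Finset.sum_insert ha, Finset.sum_insert ha, classInner_add_left, ih]

theorem classInner_sum_right {ι : Type*} (s : Finset ι) (φ : G → ℂ) (f : ι → G → ℂ) :
    classInner φ (∑ i ∈ s, f i) = ∑ i ∈ s, classInner φ (f i) := by
  classical
  induction s using Finset.induction_on with
  | empty => simp [classInner_zero_right]
  | insert a s ha ih => rw [Finset.sum_insert ha, Finset.sum_insert ha, classInner_add_right, ih]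

theorem classInner_self (φ : G → ℂ) :
    classInner φ φ = ((Nat.card G : ℝ)⁻¹ * ∑ g : G, ‖φ g‖ ^ 2 : ℝ) := by
  simp only [classInner, Complex.mul_conj', Complex.ofReal_mul, Complex.ofReal_inv,
    Complex.ofReal_natCast, Complex.ofReal_sum, Complex.ofReal_pow]

theorem classInner_self_eq_zero {φ : G → ℂ} (h : classInner φ φ = 0) : φ = 0 := by
  rw [classInner_self, Complex.ofReal_eq_zero, mul_eq_zero] at h
  rcases h with h | h
  · simp at h
  · funext g
    simpa using (Finset.sum_eq_zero_iff_of_nonneg (fun i _ => by positivity)).mp h g (Finset.mem_univ g)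

theorem classInner_char {V : Type v} [AddCommGroup V] [Module ℂ V] [FiniteDimensional ℂ V]
    {W : Type w} [AddCommGroup W] [Module ℂ W] [FiniteDimensional ℂ W]
    (ρ : Representation ℂ G V) (σ : Representation ℂ G W) :
    classInner σ.character ρ.character = (finrank ℂ (IntertwiningMap ρ σ) : ℂ) := by
  have : Invertible (Nat.card G : ℂ) := invertibleOfNonzero card_ne_zero'
  rw [← Representation.card_inv_mul_sum_char_mul_char_eq_finrank ρ σ, classInner]
  congr 1
  exact Finset.sum_congr rfl fun g _ => by rw [char_inv]

theorem classInner_isCharacter {χ ψ : G → ℂ} (h : IsCharacter G χ) (h' : IsCharacter G ψ) :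
    ∃ m : ℕ, classInner χ ψ = m := by
  obtain ⟨n, ρ, rfl⟩ := h
  obtain ⟨m, σ, rfl⟩ := h'
  exact ⟨_, classInner_char σ ρ⟩

/-- Row orthogonality. -/
theorem classInner_irr (χ ψ : IrrCharacter G) [Decidable (χ = ψ)] :
    classInner (χ : G → ℂ) ψ = if χ = ψ then 1 else 0 := by
  obtain ⟨χ, n, ρ, hρ, rfl⟩ := χ
  obtain ⟨ψ, m, σ, hσ, rfl⟩ := ψ
  rw [classInner_char σ ρ]
  rcases isEmpty_or_nonempty (Representation.Equiv σ ρ) with he | ⟨⟨φ⟩⟩
  · have h0 : finrank ℂ (IntertwiningMap σ ρ) = 0 := finrank_zero_of_subsingleton
    rw [h0, if_neg]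
    · simp
    intro e
    have e' : ρ.character = σ.character := congrArg Subtype.val e
    have h2 : classInner ρ.character σ.character = classInner σ.character σ.character := by
      rw [e']
    rw [classInner_char σ ρ, classInner_char σ σ, h0, IsIrreducible.finrank_intertwiningMap_self] at h2
    simp at h2
  · have e : ρ.character = σ.character := (Representation.char_iso φ).symm
    rw [if_pos (Subtype.ext e), ← classInner_char σ ρ, e, classInner_char σ σ,
      IsIrreducible.finrank_intertwiningMap_self, Nat.cast_one]

theorem classInner_irr_self (χ : IrrCharacter G) : classInner (χ : G → ℂ) χ = 1 := by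
  classical simp [classInner_irr]

theorem classInner_irr_ne {χ ψ : IrrCharacter G} (h : χ ≠ ψ) :
    classInner (χ : G → ℂ) ψ = 0 := by
  classical simp [classInner_irr, h]

end Inner

/-- The size of a conjugacy class. -/
theorem card_isConj (g : G) :
    Nat.card {x : G // IsConj g x} = (Subgroup.centralizer ({g} : Set G)).index := by
  have h := MulAction.index_stabilizer (ConjAct G) g
  have e : (Subgroup.centralizer ({g} : Set G)).index = (MulAction.stabilizer (ConjAct G) g).index := by
    rw [Subgroup.centralizer_eq_comap_stabilizer]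
    exact Subgroup.index_comap_of_surjective (f := ConjAct.toConjAct.toMonoidHom) _
      ConjAct.toConjAct.surjective
  rw [e, h, ← Nat.card_coe_set_eq]
  refine Nat.card_congr (Equiv.subtypeEquivRight fun x => ?_)
  rw [ConjAct.mem_orbit_conjAct]
  exact ⟨IsConj.symm, IsConj.symm⟩

variable [Finite G]

theorem linearIndependent_irr : LinearIndependent ℂ (fun χ : IrrCharacter G => (χ : G → ℂ)) := by
  classical
  have := Fintype.ofFinite G
  rw [linearIndependent_iff']
  intro s c hc i hi
  have h := congrArg (fun f => classInner f (i : G → ℂ)) hc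
  simpa [classInner_sum_left, classInner_smul_left, classInner_irr, classInner_zero_left, hi] using h

instance irrCharacterFinite : Finite (IrrCharacter G) := linearIndependent_irr.finite

/-- The operator `∑ f g • ρ g⁻¹` of a class function is zero if `f` is orthogonal to all
irreducible characters. -/
theorem sum_smul_rho_eq_zero [Fintype G] {f : G → ℂ} (hf : IsClassFunction G f)
    (hperp : ∀ χ : IrrCharacter G, classInner f χ = 0)
    (V : Type v) [AddCommGroup V] [Module ℂ V] [FiniteDimensional ℂ V] (ρ : Representation ℂ G V) :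
    ∑ g : G, f g • ρ g⁻¹ = 0 := by
  refine rep_induction (fun V _ _ ρ => ∑ g : G, f g • ρ g⁻¹ = 0) ?_ ?_ ?_ V ρ
  · intro V _ _ _ ρ
    exact LinearMap.ext fun x => Subsingleton.elim _ _
  · intro V _ _ _ ρ hρ
    let T : V →ₗ[ℂ] V := ∑ g : G, f g • ρ g⁻¹
    have hT : ∀ x : G, T ∘ₗ ρ x = ρ x ∘ₗ T := by
      intro x
      rw [← Module.End.mul_eq_comp, ← Module.End.mul_eq_comp]
      simp only [T, Finset.sum_mul, Finset.mul_sum, smul_mul_assoc, mul_smul_comm, ← map_mul]
      refine Fintype.sum_bijective (fun g => x⁻¹ * g * x⁻¹⁻¹) (MulAut.conj x⁻¹).bijective _ _ fun g => ?_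
      rw [hf]
      congr 2
      group
    obtain ⟨c, hc⟩ := (IsIrreducible.algebraMap_intertwiningMap_bijective_of_isAlgClosed
      (ρ := ρ)).surjective ⟨T, hT⟩
    have hTc : T = c • LinearMap.id := by
      have := congrArg IntertwiningMap.toLinearMap hc
      simp only [IntertwiningMap.algebraMap_apply, IntertwiningMap.toLinearMap_smul] at this
      rw [← this]
      rfl
    have htr : LinearMap.trace ℂ V T = 0 := by
      have h1 := hperp ⟨_, isIrrCharacter_character ρ⟩
      rw [classInner, mul_eq_zero] at h1
      have h2 := h1.resolve_left (inv_ne_zero card_ne_zero')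
      rw [← h2]
      simp only [T, map_sum, map_smul, smul_eq_mul]
      exact Finset.sum_congr rfl fun g _ => by rw [← char_inv]; rfl
    rw [hTc, map_smul, LinearMap.trace_id, smul_eq_mul, mul_eq_zero] at htr
    have : Nontrivial V := by
      by_contra h
      rw [not_nontrivial_iff_subsingleton] at h
      have : Nontrivial (Subrepresentation ρ) := hρ.toNontrivial
      obtain ⟨a, b, hab⟩ := exists_pair_ne (Subrepresentation ρ)
      exact hab (Subrepresentation.toSubmodule_injective (Subsingleton.elim _ _))
    have hc0 : c = 0 := htr.resolve_right (by exact_mod_cast Module.finrank_pos.ne')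
    show T = 0
    rw [hTc, hc0, zero_smul]
  · intro V _ _ _ ρ S T hST hS hT
    refine LinearMap.ext fun x => ?_
    have hx : x ∈ S.toSubmodule ⊔ T.toSubmodule :=
      (isCompl_toSubmodule hST).sup_eq_top ▸ Submodule.mem_top
    obtain ⟨a, ha, b, hb, rfl⟩ := Submodule.mem_sup.mp hx
    have hS' := congrArg Subtype.val (LinearMap.congr_fun hS ⟨a, ha⟩)
    have hT' := congrArg Subtype.val (LinearMap.congr_fun hT ⟨b, hb⟩)
    simp [Subrepresentation.toRepresentation] at hS' hT'
    simp [map_add, hS', hT']

theorem classFun_eq_zero_of_perp [Fintype G] {f : G → ℂ} (hf : IsClassFunction G f)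
    (hperp : ∀ χ : IrrCharacter G, classInner f χ = 0) : f = 0 := by
  classical
  funext g
  have h := sum_smul_rho_eq_zero hf hperp _ (Representation.leftRegular ℂ G)
  have h2 := congrArg (fun T => (T (MonoidAlgebra.single 1 1)).coeff g⁻¹) h
  simpa [Representation.ofMulAction_single, MonoidAlgebra.coeff_single, Finsupp.single_apply] using h2

/-- Expansion of a class function in irreducible characters. -/
theorem classFun_expand [Fintype G] [Fintype (IrrCharacter G)] {f : G → ℂ}
    (hf : IsClassFunction G f) :
    f = ∑ χ : IrrCharacter G, classInner f χ • (χ : G → ℂ) := by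
  classical
  refine sub_eq_zero.mp (classFun_eq_zero_of_perp (f := f - _) (fun g h => ?_) fun ψ => ?_)
  · simp only [Pi.sub_apply, Finset.sum_apply, Pi.smul_apply]
    rw [hf g h]
    simp only [isClassFunction_irr _ g h]
  · simp [classInner_sub_left, classInner_sum_left, classInner_smul_left, classInner_irr]

/-- Parseval. -/
theorem classInner_expand [Fintype G] [Fintype (IrrCharacter G)] {f h : G → ℂ}
    (hh : IsClassFunction G h) :
    classInner f h = ∑ χ : IrrCharacter G, classInner f χ * conj (classInner h χ) := by
  conv_lhs => rw [classFun_expand hh]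
  simp only [classInner_sum_right, classInner_smul_right]
  exact Finset.sum_congr rfl fun χ _ => mul_comm _ _

theorem classFun_ext [Fintype G] {f h : G → ℂ} (hf : IsClassFunction G f) (hh : IsClassFunction G h)
    (heq : ∀ χ : IrrCharacter G, classInner f χ = classInner h χ) : f = h :=
  sub_eq_zero.mp (classFun_eq_zero_of_perp (f := f - h) (fun g k => by simp [hf g k, hh g k])
    fun χ => by rw [classInner_sub_left, heq, sub_self])

theorem isConj_of_irr_agree {g h : G} (hagree : ∀ χ : IrrCharacter G, (χ : G → ℂ) g = (χ : G → ℂ) h) :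
    IsConj g h := by
  classical
  have := Fintype.ofFinite G
  have := Fintype.ofFinite (IrrCharacter G)
  let f : G → ℂ := fun x => if IsConj g x then 1 else 0
  have hf : IsClassFunction G f := by
    intro x y
    have : IsConj g (y * x * y⁻¹) ↔ IsConj g x :=
      ⟨fun h => h.trans (isConj_iff.mpr ⟨y, rfl⟩).symm, fun h => h.trans (isConj_iff.mpr ⟨y, rfl⟩)⟩
    simp only [f, this]
  have e : f g = f h := by
    rw [classFun_expand hf]
    simp [hagree]
  by_contra hc
  simp only [f, if_pos (IsConj.refl g), if_neg hc] at e
  exact one_ne_zero e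

/-- The number of irreducible characters is the class number. -/
theorem card_irr_eq_card_conjClasses : Nat.card (IrrCharacter G) = Nat.card (ConjClasses G) := by
  classical
  have := Fintype.ofFinite G
  have := Fintype.ofFinite (IrrCharacter G)
  have := Fintype.ofFinite (ConjClasses G)
  let v : IrrCharacter G → (ConjClasses G → ℂ) :=
    fun χ C => (χ : G → ℂ) (Quotient.out (s := IsConj.setoid G) C)
  have hout : ∀ C : ConjClasses G, ConjClasses.mk (Quotient.out (s := IsConj.setoid G) C) = C :=
    fun C => Quotient.out_eq (s := IsConj.setoid G) C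
  have hmk : ∀ (χ : IrrCharacter G) (g : G), v χ (ConjClasses.mk g) = (χ : G → ℂ) g := fun χ g =>
    classFun_isConj (isClassFunction_irr χ) (ConjClasses.mk_eq_mk_iff_isConj.mp (hout _))
  have li : LinearIndependent ℂ v := by
    rw [Fintype.linearIndependent_iff]
    intro c hc i
    refine (Fintype.linearIndependent_iff.mp linearIndependent_irr) c ?_ i
    funext g
    have := congrFun hc (ConjClasses.mk g)
    simpa [hmk] using this
  have sp : ⊤ ≤ Submodule.span ℂ (Set.range v) := by
    intro φ _
    have hcf : IsClassFunction G (fun g => φ (ConjClasses.mk g)) := fun g h =>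
      congrArg φ (ConjClasses.mk_eq_mk_iff_isConj.mpr (isConj_iff.mpr ⟨h, rfl⟩).symm)
    have : φ = ∑ χ : IrrCharacter G, classInner (fun g => φ (ConjClasses.mk g)) χ • v χ := by
      funext C
      obtain ⟨g, rfl⟩ := ConjClasses.exists_rep C
      have h1 := congrFun (classFun_expand hcf) g
      simpa [hmk] using h1
    rw [this]
    exact Submodule.sum_mem _ fun χ _ => Submodule.smul_mem _ _ (Submodule.subset_span ⟨χ, rfl⟩)
  have := Module.finrank_eq_card_basis (Basis.mk li sp)
  rw [Module.finrank_pi] at this
  simp [Nat.card_eq_fintype_card, this]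

omit [Finite G] in
/-- The decomposition of a character with natural multiplicities. -/
theorem classInner_char_irr_nat [Fintype G] {χ : G → ℂ} (h : IsCharacter G χ) (ψ : IrrCharacter G) :
    ∃ m : ℕ, classInner χ (ψ : G → ℂ) = m :=
  classInner_isCharacter h (isCharacter_irr ψ)

/-- Column orthogonality. -/
theorem sum_irr_mul_conj [Fintype (IrrCharacter G)] (g h : G) [Decidable (IsConj g h)] :
    ∑ χ : IrrCharacter G, (χ : G → ℂ) g * conj ((χ : G → ℂ) h) =
      if IsConj g h then (Nat.card (Subgroup.centralizer ({g} : Set G)) : ℂ) else 0 := by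
  classical
  have := Fintype.ofFinite G
  let f : G → ℂ := fun x => if IsConj h x then 1 else 0
  have hf : IsClassFunction G f := by
    intro x y
    have : IsConj h (y * x * y⁻¹) ↔ IsConj h x :=
      ⟨fun e => e.trans (isConj_iff.mpr ⟨y, rfl⟩).symm, fun e => e.trans (isConj_iff.mpr ⟨y, rfl⟩)⟩
    simp only [f, this]
  let c : ℕ := Nat.card {x : G // IsConj h x}
  have hinner : ∀ χ : IrrCharacter G,
      classInner f χ = (Nat.card G : ℂ)⁻¹ * ((c : ℂ) * conj ((χ : G → ℂ) h)) := by
    intro χ
    rw [classInner]
    congr 1
    have : ∀ x, f x * conj ((χ : G → ℂ) x) = if IsConj h x then conj ((χ : G → ℂ) h) else 0 := by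
      intro x
      by_cases hx : IsConj h x
      · simp only [f, if_pos hx, one_mul, classFun_isConj (isClassFunction_irr χ) hx]
      · simp only [f, if_neg hx, zero_mul]
    rw [Finset.sum_congr rfl fun x _ => this x, ← Finset.sum_filter, Finset.sum_const, nsmul_eq_mul]
    simp [c, Nat.card_eq_fintype_card, Fintype.card_subtype]
  have hc : 0 < c := Nat.card_pos_iff.mpr ⟨⟨⟨h, IsConj.refl h⟩⟩, inferInstance⟩
  have hexp := congrFun (classFun_expand hf) g
  simp only [Finset.sum_apply, Pi.smul_apply, smul_eq_mul, hinner] at hexp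
  have key : ∑ χ : IrrCharacter G, (χ : G → ℂ) g * conj ((χ : G → ℂ) h) =
      (Nat.card G : ℂ) * (c : ℂ)⁻¹ * f g := by
    rw [hexp, Finset.mul_sum]
    refine Finset.sum_congr rfl fun χ _ => ?_
    have : (c : ℂ) ≠ 0 := by exact_mod_cast hc.ne'
    have := card_ne_zero' (G := G)
    field_simp
  rw [key]
  by_cases hgh : IsConj g h
  · rw [if_pos hgh, show f g = 1 from if_pos hgh.symm, mul_one]
    have hcard : c * Nat.card (Subgroup.centralizer ({g} : Set G)) = Nat.card G := by
      have e1 : c = (Subgroup.centralizer ({g} : Set G)).index := by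
        rw [← card_isConj g]
        exact Nat.card_congr (Equiv.subtypeEquivRight fun x =>
          ⟨fun e => hgh.trans e, fun e => hgh.symm.trans e⟩)
      rw [e1, Subgroup.index_mul_card]
    rw [← hcard]
    have : (c : ℂ) ≠ 0 := by exact_mod_cast hc.ne'
    push_cast
    field_simp
  · rw [if_neg hgh, show f g = 0 from if_neg fun e => hgh e.symm, mul_zero]

theorem sum_degree_sq [Fintype (IrrCharacter G)] :
    ∑ χ : IrrCharacter G, (χ : G → ℂ) 1 ^ 2 = (Nat.card G : ℂ) := by
  classical
  have h := sum_irr_mul_conj (1 : G) 1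
  rw [if_pos (IsConj.refl 1)] at h
  simp only [conj_irr_one] at h
  simp only [sq]
  rw [h]
  have : Subgroup.centralizer ({1} : Set G) = ⊤ := by
    rw [eq_top_iff]; intro x _; simp [Subgroup.mem_centralizer_iff]
  rw [this, Subgroup.card_top]

end CfsgLib.Char
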