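import Cfsg.Agent.Lib.Char.Integrality

/-!
# Real characters of groups of odd order
-/

set_option autoImplicit false
set_option linter.unusedSectionVars false

namespace CfsgLib.Char

open scoped ComplexConjugate
open Representation Module Cfsg

universe u

variable {G : Type u} [Group G] [Finite G]

theorem inv_ne_self_of_odd (hodd : Odd (Nat.card G)) {g : G} (hg : g ≠ 1) : g⁻¹ ≠ g := fun e => hg (by
  have h2 : g ^ 2 = 1 := by
    calc g ^ 2 = g * g⁻¹ := by rw [e, pow_two]
      _ = 1 := mul_inv_cancel g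
  have h1 : g ^ Nat.gcd 2 (Nat.card G) = 1 := pow_gcd_eq_one.mpr ⟨h2, pow_card_eq_one'⟩
  rw [Nat.coprime_two_left.mpr hodd] at h1
  simpa using h1)

/-- In a group of odd order a real irreducible character is trivial. -/
theorem irr_eq_one_of_real (hodd : Odd (Nat.card G)) (χ : IrrCharacter G)
    (hreal : ∀ g : G, conj ((χ : G → ℂ) g) = (χ : G → ℂ) g) : (χ : G → ℂ) = fun _ => 1 := by
  classical
  have := Fintype.ofFinite G
  by_contra hne
  let one : IrrCharacter G := ⟨fun _ => 1, isIrrCharacter_one⟩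
  have h0 : classInner (χ : G → ℂ) (one : G → ℂ) = 0 :=
    classInner_irr_ne fun e => hne (congrArg Subtype.val e)
  rw [classInner, mul_eq_zero] at h0
  have h1 := h0.resolve_left (inv_ne_zero card_ne_zero')
  simp only [one, map_one, mul_one] at h1
  let e := Fintype.equivFin G
  set A := Finset.univ.filter fun g : G => e g < e g⁻¹ with hA
  set B := Finset.univ.filter fun g : G => e g⁻¹ < e g with hB
  have hAB : ∑ g ∈ B, (χ : G → ℂ) g = ∑ g ∈ A, (χ : G → ℂ) g := by
    refine Finset.sum_bij (fun g _ => g⁻¹) (fun g hg => ?_) (fun a _ b _ h => inv_injective h)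
      (fun g hg => ⟨g⁻¹, ?_, inv_inv g⟩) fun g _ => ?_
    · simpa [hA, hB] using hg
    · simpa [hA, hB] using hg
    · rw [irr_inv, hreal]
  have hsplit : ∑ g : G, (χ : G → ℂ) g =
      (χ : G → ℂ) 1 + ((∑ g ∈ A, (χ : G → ℂ) g) + ∑ g ∈ B, (χ : G → ℂ) g) := by
    rw [← Finset.sum_union (Finset.disjoint_filter.mpr fun g _ h h' => lt_asymm h h'),
      ← Finset.add_sum_erase _ _ (Finset.mem_univ (1 : G))]
    congr 1
    refine Finset.sum_congr (Finset.ext fun g => ?_) fun g _ => rfl
    constructor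
    · intro hg
      have h := inv_ne_self_of_odd hodd (Finset.mem_erase.mp hg).1
      rcases lt_or_gt_of_ne (e.injective.ne h) with h' | h'
      · exact Finset.mem_union_right _ (by simpa [hB] using h')
      · exact Finset.mem_union_left _ (by simpa [hA] using h')
    · intro hg
      refine Finset.mem_erase.mpr ⟨?_, Finset.mem_univ _⟩
      rintro rfl
      simp [hA, hB] at hg
  rw [hsplit, hAB] at h1
  obtain ⟨d, hd0, hd⟩ := isIrrCharacter_degree χ.2
  set S := ∑ g ∈ A, (χ : G → ℂ) g with hS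
  have hint : IsIntegral ℤ S :=
    IsIntegral.sum _ fun g _ => isCharacter_isIntegral (isCharacter_irr χ) g
  have hq : S = algebraMap ℚ ℂ (-(d : ℚ) / 2) := by
    rw [map_div₀, map_neg, map_natCast, map_ofNat, eq_div_iff (two_ne_zero' ℂ)]
    rw [hd] at h1
    linear_combination h1
  rw [hq, isIntegral_algebraMap_iff (algebraMap ℚ ℂ).injective,
    IsIntegrallyClosed.isIntegral_iff] at hint
  obtain ⟨z, hz⟩ := hint
  rw [eq_intCast, eq_div_iff (two_ne_zero' ℚ)] at hz
  have hz' : z * 2 = -(d : ℤ) := by exact_mod_cast hz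
  have hde : Even d := by
    rw [← Int.even_coe_nat]
    exact ⟨-z, by omega⟩
  exact (Nat.not_even_iff_odd.mpr (Odd.of_dvd_nat hodd (degree_dvd_card χ hd))) hde

theorem irr_eq_one_of_im_zero (hodd : Odd (Nat.card G)) (χ : IrrCharacter G)
    (hreal : ∀ g : G, ((χ : G → ℂ) g).im = 0) : (χ : G → ℂ) = fun _ => 1 :=
  irr_eq_one_of_real hodd χ fun g => Complex.conj_eq_iff_im.mpr (hreal g)

end CfsgLib.Char
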