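import Cfsg.Agent.Lib.Char.Clifford
import Cfsg.Agent.Lib.Char.RealChar

/-!
# Odd order: an induced nonprincipal character is not real
-/

set_option autoImplicit false
set_option linter.unusedSectionVars false

namespace CfsgLib.Char

open scoped ComplexConjugate
open Representation Module Cfsg

universe u

variable {G : Type u} [Group G] [Fintype G]

theorem indFun_conj (H : Subgroup G) (θ : H → ℂ) (g : G) :
    conj (indFun H θ g) = indFun H (fun h => conj (θ h)) g := by
  classical
  simp only [indFun, map_mul, map_inv₀, map_natCast, map_sum, extendByZero_eq_ite]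
  congr 1
  exact Finset.sum_congr rfl fun x _ => by split_ifs <;> simp

theorem isIrrCharacter_conj [Finite G] {χ : G → ℂ} (h : IsIrrCharacter G χ) :
    IsIrrCharacter G (fun g => conj (χ g)) := by
  refine isIrr_of_isCharacter_norm_one (isCharacter_conj (isCharacter_of_isIrr h)) ?_
  have e := classInner_irr_self (⟨χ, h⟩ : IrrCharacter G)
  have : classInner (fun g => conj (χ g)) (fun g => conj (χ g)) = conj (classInner χ χ) := by
    simp [classInner]
  rw [this, e, map_one]

theorem classInner_conj_indFun_eq_zero (hodd : Odd (Nat.card G)) (H : Subgroup G) [H.Normal]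
    (θ : H → ℂ) (hθ : IsIrrCharacter H θ) (hθ1 : θ ≠ fun _ => 1) :
    classInner (fun g => conj (indFun H θ g)) (indFun H θ) = 0 := by
  classical
  have := Fintype.ofFinite H
  rw [show (fun g => conj (indFun H θ g)) = indFun H (fun h => conj (θ h)) from
    funext (indFun_conj H θ)]
  have hθc : IsIrrCharacter H (fun h => conj (θ h)) := isIrrCharacter_conj hθ
  rw [classInner_indFun_right _ _ _ (isClassFunction_indFun _ _),
    classInner_restrict_indFun H hθc hθ]
  have : IsEmpty {x : G // conjFun H (fun h => conj (θ h)) x = θ} := ⟨fun ⟨x, hx⟩ => by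
    have hsq : conjFun H θ (x * x) = θ := by
      have e : conjFun H θ x = fun h => conj (θ h) := by
        funext n
        have := congrFun hx n
        simp only [conjFun] at this ⊢
        rw [← this, Complex.conj_conj]
      rw [conjFun_mul, e, hx]
    have hx2 : x ∈ inertia H θ := by
      obtain ⟨k, hk⟩ := hodd
      have : x = (x * x) ^ (k + 1) := by
        rw [← pow_two, ← pow_mul, show 2 * (k + 1) = Nat.card G + 1 by omega, pow_succ,
          pow_card_eq_one', one_mul]
      rw [this]
      exact Subgroup.pow_mem _ hsq _
    have hreal : ∀ h, conj (θ h) = θ h := fun n => by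
      have h1 := congrFun hx n
      simp only [conjFun] at h1
      have h2 := congrFun ((mem_inertia H θ x).mp hx2) n
      simp only [conjFun] at h2
      rw [h2] at h1
      exact h1
    exact hθ1 (irr_eq_one_of_real (Odd.of_dvd_nat hodd (Subgroup.card_subgroup_dvd_card H)) ⟨θ, hθ⟩ hreal)⟩
  simp

end CfsgLib.Char
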