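import Cfsg.Agent.Lib.Char.Virtual

/-!
# The Frobenius–Schur indicator
-/

set_option autoImplicit false
set_option linter.unusedSectionVars false

namespace CfsgLib.Char

open scoped ComplexConjugate Matrix
open Representation Module Cfsg

universe u

section

variable {m : ℕ}

/-- The trace of an endomorphism of a matrix space. -/
theorem trace_matrix_end (T : Matrix (Fin m) (Fin m) ℂ →ₗ[ℂ] Matrix (Fin m) (Fin m) ℂ) :
    LinearMap.trace ℂ _ T = ∑ i : Fin m, ∑ j : Fin m, T (Matrix.single i j 1) i j := by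
  rw [LinearMap.trace_eq_matrix_trace ℂ (Matrix.stdBasis ℂ (Fin m) (Fin m))]
  rw [← Fintype.sum_prod_type']
  refine Finset.sum_congr rfl fun p _ => ?_
  rw [Matrix.diag_apply, LinearMap.toMatrix_apply, Matrix.stdBasis_eq_single]
  simp [Matrix.stdBasis]

/-- The action of a matrix on bilinear forms. -/
noncomputable def formAct (A : Matrix (Fin m) (Fin m) ℂ) :
    Matrix (Fin m) (Fin m) ℂ →ₗ[ℂ] Matrix (Fin m) (Fin m) ℂ where
  toFun B := Aᵀ * B * A
  map_add' B C := by rw [Matrix.mul_add, Matrix.add_mul]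
  map_smul' c B := by simp

/-- Transposition. -/
noncomputable def formSwap : Matrix (Fin m) (Fin m) ℂ →ₗ[ℂ] Matrix (Fin m) (Fin m) ℂ where
  toFun B := Bᵀ
  map_add' B C := Matrix.transpose_add B C
  map_smul' c B := Matrix.transpose_smul c B

theorem transpose_mul_single_mul_apply (A : Matrix (Fin m) (Fin m) ℂ) (i j a b : Fin m) :
    (Aᵀ * Matrix.single i j (1 : ℂ) * A) a b = A i a * A j b := by
  rw [Matrix.mul_apply, Finset.sum_eq_single j]
  · rw [Matrix.mul_apply, Finset.sum_eq_single i]
    · simp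
    · intro x _ hx; simp [Matrix.single, Ne.symm hx]
    · intro h; exact absurd (Finset.mem_univ _) h
  · intro x _ hx
    rw [Matrix.mul_apply, Finset.sum_eq_zero, zero_mul]
    intro y _
    simp [Matrix.single, Ne.symm hx]
  · intro h; exact absurd (Finset.mem_univ _) h

theorem trace_formAct (A : Matrix (Fin m) (Fin m) ℂ) :
    LinearMap.trace ℂ _ (formAct A) = A.trace * A.trace := by
  rw [trace_matrix_end, Matrix.trace, Finset.sum_mul_sum]
  exact Finset.sum_congr rfl fun i _ => Finset.sum_congr rfl fun j _ =>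
    transpose_mul_single_mul_apply A i j i j

theorem trace_formSwap_formAct (A : Matrix (Fin m) (Fin m) ℂ) :
    LinearMap.trace ℂ _ (formSwap * formAct A) = (A * A).trace := by
  rw [trace_matrix_end, Matrix.trace]
  refine Finset.sum_congr rfl fun i _ => ?_
  rw [Matrix.diag_apply, Matrix.mul_apply]
  exact Finset.sum_congr rfl fun j _ => transpose_mul_single_mul_apply A i j j i

theorem formAct_mul (A B : Matrix (Fin m) (Fin m) ℂ) : formAct (A * B) = formAct B * formAct A := by
  refine LinearMap.ext fun X => ?_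
  show (A * B)ᵀ * X * (A * B) = Bᵀ * (Aᵀ * X * A) * B
  rw [Matrix.transpose_mul]
  simp only [Matrix.mul_assoc]

end

variable {G : Type u} [Group G] [Fintype G] {m : ℕ} (ρ : Representation ℂ G (Fin m → ℂ))

/-- The projection onto invariant bilinear forms. -/
noncomputable def formProj : Matrix (Fin m) (Fin m) ℂ →ₗ[ℂ] Matrix (Fin m) (Fin m) ℂ :=
  (Nat.card G : ℂ)⁻¹ • ∑ g : G, formAct (LinearMap.toMatrix' (ρ g))

theorem formProj_idem : formProj ρ * formProj ρ = formProj ρ := by
  have h1 : ∀ g : G, formAct (LinearMap.toMatrix' (ρ g)) *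
      (∑ x : G, formAct (LinearMap.toMatrix' (ρ x))) =
      ∑ x : G, formAct (LinearMap.toMatrix' (ρ x)) := by
    intro g
    rw [Finset.mul_sum]
    exact Fintype.sum_bijective (fun x => x * g) (Group.mulRight_bijective g) _ _ fun x => by
      rw [map_mul, LinearMap.toMatrix'_mul, formAct_mul]
  simp only [formProj, smul_mul_smul_comm, Finset.sum_mul, h1, Finset.sum_const, Finset.card_univ,
    ← Nat.card_eq_fintype_card, ← Nat.cast_smul_eq_nsmul ℂ, smul_smul]
  congr 1
  have := card_ne_zero' (G := G)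
  field_simp

theorem toMatrix'_trace (g : G) : (LinearMap.toMatrix' (ρ g)).trace = ρ.character g := by
  rw [Representation.character, LinearMap.trace_eq_matrix_trace ℂ (Pi.basisFun ℂ (Fin m)),
    ← LinearMap.toMatrix_eq_toMatrix']

theorem trace_formProj : LinearMap.trace ℂ _ (formProj ρ) =
    classInner ρ.character (fun g => conj (ρ.character g)) := by
  simp only [formProj, map_smul, map_sum, trace_formAct, toMatrix'_trace, smul_eq_mul, classInner,
    Complex.conj_conj]

theorem trace_formSwap_formProj : LinearMap.trace ℂ _ (formSwap * formProj ρ) =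
    (Nat.card G : ℂ)⁻¹ * ∑ g : G, ρ.character (g * g) := by
  simp only [formProj, mul_smul_comm, Finset.mul_sum, map_smul, map_sum, trace_formSwap_formAct,
    smul_eq_mul, ← LinearMap.toMatrix'_mul, ← map_mul, toMatrix'_trace]

theorem formSwap_comm : formSwap * formProj ρ = formProj ρ * formSwap := by
  simp only [formProj, mul_smul_comm, smul_mul_assoc, Finset.mul_sum, Finset.sum_mul]
  congr 1
  refine Finset.sum_congr rfl fun g _ => LinearMap.ext fun X => ?_
  show (_ᵀ * X * _)ᵀ = _ᵀ * Xᵀ * _
  rw [Matrix.transpose_mul, Matrix.transpose_mul, Matrix.transpose_transpose, Matrix.mul_assoc]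

theorem fs_indicator_cases [ρ.IsIrreducible] :
    ((Nat.card G : ℂ)⁻¹ * ∑ s : G, ρ.character (s * s) = 0 ∨
      (Nat.card G : ℂ)⁻¹ * ∑ s : G, ρ.character (s * s) = 1 ∨
      (Nat.card G : ℂ)⁻¹ * ∑ s : G, ρ.character (s * s) = -1) ∧
    ((Nat.card G : ℂ)⁻¹ * ∑ s : G, ρ.character (s * s) = 0 ↔ ∃ s : G, (ρ.character s).im ≠ 0) := by
  classical
  have hχ : IsIrrCharacter G ρ.character := ⟨m, ρ, inferInstance, rfl⟩
  have hconj : IsIrrCharacter G (fun g => conj (ρ.character g)) := by
    refine isIrr_of_isCharacter_norm_one (isCharacter_conj (isCharacter_of_isIrr hχ)) ?_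
    have e := classInner_irr_self (⟨_, hχ⟩ : IrrCharacter G)
    have : classInner (fun g => conj (ρ.character g)) (fun g => conj (ρ.character g)) =
        conj (classInner ρ.character ρ.character) := by
      simp [classInner]
    rw [this, e, map_one]
  have htr := trace_formProj ρ
  have hclass := classInner_irr ⟨_, hχ⟩ ⟨_, hconj⟩
  simp only [Subtype.ext_iff] at hclass
  have hP : IsIdempotentElem (formProj ρ) := formProj_idem ρ
  have hproj := (LinearMap.isProj_range_iff_isIdempotentElem (formProj ρ)).mpr hP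
  rw [hclass, hproj.trace] at htr
  rw [← trace_formSwap_formProj]
  by_cases hreal : ρ.character = fun g => conj (ρ.character g)
  · rw [if_pos hreal] at htr
    have hd : finrank ℂ (LinearMap.range (formProj ρ)) = 1 := by exact_mod_cast htr
    have hnot : ¬ ∃ s : G, (ρ.character s).im ≠ 0 := fun ⟨s, hs⟩ =>
      hs (Complex.conj_eq_iff_im.mp (congrFun hreal s).symm)
    obtain ⟨⟨B, hB⟩, hB0, hspan⟩ := finrank_eq_one_iff'.mp hd
    have hB0' : B ≠ 0 := fun e => hB0 (Subtype.ext e)
    have hswap : formSwap B ∈ LinearMap.range (formProj ρ) := by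
      obtain ⟨X, rfl⟩ := hB
      exact ⟨formSwap X, (LinearMap.congr_fun (formSwap_comm ρ) X).symm⟩
    obtain ⟨ε, hε⟩ := hspan ⟨_, hswap⟩
    have hεv : ε • B = formSwap B := congrArg Subtype.val hε
    have hε2 : ε * ε = 1 := by
      have h2 : (ε * ε) • B = (1 : ℂ) • B := by
        rw [mul_smul, hεv, ← map_smul, hεv, one_smul]
        exact Matrix.transpose_transpose B
      exact smul_left_injective ℂ hB0' h2
    have hQ : formSwap * formProj ρ = ε • formProj ρ := by
      refine LinearMap.ext fun X => ?_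
      obtain ⟨c, hc⟩ := hspan ⟨_, LinearMap.mem_range_self (formProj ρ) X⟩
      have hcv : c • B = formProj ρ X := congrArg Subtype.val hc
      show formSwap (formProj ρ X) = ε • formProj ρ X
      rw [← hcv, map_smul, ← hεv, smul_comm]
    rw [hQ, map_smul, hproj.trace, hd, Nat.cast_one, smul_eq_mul, mul_one]
    rcases mul_self_eq_one_iff.mp hε2 with e | e
    · exact ⟨Or.inr (Or.inl e), iff_of_false (by rw [e]; norm_num) hnot⟩
    · exact ⟨Or.inr (Or.inr e), iff_of_false (by rw [e]; norm_num) hnot⟩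
  · rw [if_neg hreal] at htr
    have hd : finrank ℂ (LinearMap.range (formProj ρ)) = 0 := by exact_mod_cast htr
    have hP0 : formProj ρ = 0 := LinearMap.range_eq_bot.mp (Submodule.finrank_eq_zero.mp hd)
    rw [hP0, mul_zero, map_zero]
    refine ⟨Or.inl rfl, iff_of_true rfl ?_⟩
    by_contra hc
    push Not at hc
    exact hreal (funext fun g => (Complex.conj_eq_iff_im.mpr (hc g)).symm)

theorem fs_indicator_one_of_odd [ρ.IsIrreducible] (hodd : Odd m)
    (hreal : ∀ g : G, (ρ.character g).im = 0) :
    (Nat.card G : ℂ)⁻¹ * ∑ s : G, ρ.character (s * s) = 1 := by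
  classical
  have hcases := fs_indicator_cases ρ
  have hne : ¬ (Nat.card G : ℂ)⁻¹ * ∑ s : G, ρ.character (s * s) = 0 := fun h => by
    obtain ⟨s, hs⟩ := hcases.2.mp h
    exact hs (hreal s)
  refine (hcases.1.resolve_left hne).resolve_right fun hneg => ?_
  have hχ : IsIrrCharacter G ρ.character := ⟨m, ρ, inferInstance, rfl⟩
  have hc : (fun g => conj (ρ.character g)) = ρ.character :=
    funext fun g => Complex.conj_eq_iff_im.mpr (hreal g)
  have hproj := (LinearMap.isProj_range_iff_isIdempotentElem (formProj ρ)).mpr (formProj_idem ρ)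
  have htr := trace_formProj ρ
  rw [hc, classInner_irr_self ⟨_, hχ⟩, hproj.trace] at htr
  have hd : finrank ℂ (LinearMap.range (formProj ρ)) = 1 := by exact_mod_cast htr
  obtain ⟨⟨B, hB⟩, hB0, hspan⟩ := finrank_eq_one_iff'.mp hd
  have hB0' : B ≠ 0 := fun e => hB0 (Subtype.ext e)
  have hswap : formSwap B ∈ LinearMap.range (formProj ρ) := by
    obtain ⟨X, rfl⟩ := hB
    exact ⟨formSwap X, (LinearMap.congr_fun (formSwap_comm ρ) X).symm⟩
  obtain ⟨ε, hε⟩ := hspan ⟨_, hswap⟩
  have hεv : ε • B = formSwap B := congrArg Subtype.val hε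
  have hQ : formSwap * formProj ρ = ε • formProj ρ := by
    refine LinearMap.ext fun X => ?_
    obtain ⟨c, hc⟩ := hspan ⟨_, LinearMap.mem_range_self (formProj ρ) X⟩
    have hcv : c • B = formProj ρ X := congrArg Subtype.val hc
    show formSwap (formProj ρ X) = ε • formProj ρ X
    rw [← hcv, map_smul, ← hεv, smul_comm]
  rw [← trace_formSwap_formProj, hQ, map_smul, hproj.trace, hd, Nat.cast_one, smul_eq_mul,
    mul_one] at hneg
  have hBt : Bᵀ = -B := by
    have h : formSwap B = -B := by rw [← hεv, hneg, neg_one_smul]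
    exact h
  have hdet0 : B.det = 0 := by
    have h := congrArg Matrix.det hBt
    rw [Matrix.det_transpose, Matrix.det_neg, Fintype.card_fin, hodd.neg_one_pow] at h
    have h2 : (2 : ℂ) * B.det = 0 := by linear_combination h
    simpa using h2
  obtain ⟨v, hv0, hv⟩ := Matrix.exists_mulVec_eq_zero_iff.mpr hdet0
  -- the invariant form has no radical
  have hinv : ∀ g : G, formAct (LinearMap.toMatrix' (ρ g)) B = B := by
    intro g
    obtain ⟨X, rfl⟩ := hB
    have h1 : formAct (LinearMap.toMatrix' (ρ g)) * formProj ρ = formProj ρ := by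
      simp only [formProj, mul_smul_comm, Finset.mul_sum]
      congr 1
      exact Fintype.sum_bijective (fun x => x * g) (Group.mulRight_bijective g) _ _ fun x => by
        rw [map_mul, LinearMap.toMatrix'_mul, formAct_mul]
    exact LinearMap.congr_fun h1 X
  let S : Subrepresentation ρ := ⟨LinearMap.ker (Matrix.toLin' B), fun g w hw => by
    rw [LinearMap.mem_ker, Matrix.toLin'_apply] at hw ⊢
    have h1 : (LinearMap.toMatrix' (ρ g⁻¹))ᵀ * B * LinearMap.toMatrix' (ρ g⁻¹) = B := hinv g⁻¹
    have h2 : LinearMap.toMatrix' (ρ g⁻¹) * LinearMap.toMatrix' (ρ g) = 1 := by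
      rw [← LinearMap.toMatrix'_mul, ← map_mul, inv_mul_cancel, map_one, LinearMap.toMatrix'_one]
    have h3 : B * LinearMap.toMatrix' (ρ g) = (LinearMap.toMatrix' (ρ g⁻¹))ᵀ * B := by
      conv_lhs => rw [← h1]
      rw [Matrix.mul_assoc ((LinearMap.toMatrix' (ρ g⁻¹))ᵀ * B), h2, Matrix.mul_one]
    rw [← LinearMap.toMatrix'_mulVec, Matrix.mulVec_mulVec, h3, ← Matrix.mulVec_mulVec, hw,
      Matrix.mulVec_zero]⟩
  rcases (inferInstance : ρ.IsIrreducible).eq_bot_or_eq_top S with e | e
  · have hmem : v ∈ S.toSubmodule := by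
      show v ∈ LinearMap.ker (Matrix.toLin' B)
      rw [LinearMap.mem_ker, Matrix.toLin'_apply, hv]
    rw [e] at hmem
    exact hv0 ((Submodule.mem_bot ℂ).mp (by exact hmem))
  · have hker : LinearMap.ker (Matrix.toLin' B) = ⊤ := congrArg Subrepresentation.toSubmodule e
    exact hB0' (by simpa using LinearMap.ker_eq_top.mp hker)

end CfsgLib.Char
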