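import Cfsg.Agent.Lib.Char.Galois
import Mathlib.FieldTheory.IsAlgClosed.Classification
import Mathlib.RingTheory.RootsOfUnity.Complex
import Mathlib.Data.Nat.ChineseRemainder

/-!
# Field automorphisms of `ℂ` acting on roots of unity

Embeddings of the algebraic numbers extend to automorphisms of `ℂ`.
-/

set_option autoImplicit false

namespace CfsgLib.Char

open Cfsg

universe u

/-- An embedding of the algebraic numbers extends to an automorphism of `ℂ`. -/
theorem exists_ringEquiv_extend (φ : Alg →ₐ[ℚ] ℂ) :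
    ∃ σ : ℂ ≃+* ℂ, ∀ x : Alg, σ (x : ℂ) = φ x := by
  have := isAlgebraic_alg
  have hmem : ∀ x : Alg, φ x ∈ Alg := fun x =>
    mem_algebraicClosure_iff'.mpr ((Algebra.IsIntegral.isIntegral x).map φ)
  let f : Alg →ₐ[ℚ] Alg := φ.codRestrict _ hmem
  let τ : Alg ≃ₐ[ℚ] Alg := AlgEquiv.ofBijective f (Algebra.IsAlgebraic.algHom_bijective f)
  obtain ⟨s, hs⟩ := exists_isTranscendenceBasis Alg ℂ
  have := IsAlgClosed.isAlgClosure_of_transcendence_basis _ hs
  let e : Algebra.adjoin Alg (Set.range ((↑) : s → ℂ)) ≃+*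
      Algebra.adjoin Alg (Set.range ((↑) : s → ℂ)) :=
    hs.1.aevalEquiv.symm.toRingEquiv.trans
      ((MvPolynomial.mapEquiv s τ.toRingEquiv).trans hs.1.aevalEquiv.toRingEquiv)
  refine ⟨IsAlgClosure.equivOfEquiv ℂ ℂ e, fun x => ?_⟩
  have h := IsAlgClosure.equivOfEquiv_algebraMap ℂ ℂ e
    (algebraMap Alg (Algebra.adjoin Alg (Set.range ((↑) : s → ℂ))) x)
  have he : e (algebraMap Alg _ x) = algebraMap Alg _ (τ x) := by
    simp only [e, RingEquiv.trans_apply, AlgEquiv.toRingEquiv_eq_coe, AlgEquiv.coe_ringEquiv,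
      AlgEquiv.commutes, MvPolynomial.algebraMap_eq, MvPolynomial.mapEquiv_apply,
      MvPolynomial.map_C]
    exact hs.1.aevalEquiv.commutes _
  rw [he] at h
  exact h

/-- An automorphism fixing a primitive root of unity fixes all roots of unity of that order. -/
theorem fix_root_of_fix_exp {n : ℕ} [NeZero n] {σ : ℂ ≃+* ℂ}
    (hσ : σ (Complex.exp (2 * Real.pi * Complex.I / (n : ℕ))) =
      Complex.exp (2 * Real.pi * Complex.I / (n : ℕ))) {x : ℂ} (hx : x ^ n = 1) : σ x = x := by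
  obtain ⟨i, -, rfl⟩ := (Complex.isPrimitiveRoot_exp n (NeZero.ne n)).eq_pow_of_pow_eq_one hx
  rw [map_pow, hσ]

/-- An automorphism fixing the `n`-th roots of unity fixes the character values at the elements of
order dividing `n`. -/
theorem fix_char_of_fix_exp {G : Type u} [Group G] [Finite G] {n : ℕ} [NeZero n] {σ : ℂ ≃+* ℂ}
    (hσ : σ (Complex.exp (2 * Real.pi * Complex.I / (n : ℕ))) =
      Complex.exp (2 * Real.pi * Complex.I / (n : ℕ))) {χ : G → ℂ} (hχ : IsCharacter G χ) {g : G}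
    (hg : orderOf g ∣ n) : σ (χ g) = χ g := by
  obtain ⟨d, ρ, rfl⟩ := hχ
  obtain ⟨b, μ, h1, -, h3⟩ := exists_eigen_data ρ g
  have h := h3 1
  simp only [pow_one] at h
  obtain ⟨k, hk⟩ := hg
  rw [h, map_sum]
  refine Finset.sum_congr rfl fun i _ => fix_root_of_fix_exp hσ ?_
  rw [hk, pow_mul, h1, one_pow]

/-- Automorphisms of `ℂ` realise the power maps of roots of unity of coprime orders
independently. -/
theorem exists_aut_fix_pow {n m : ℕ} (hn : n ≠ 0) (hm : m ≠ 0) (hnm : n.Coprime m) {a : ℕ}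
    (ha : a.Coprime m) : ∃ σ : ℂ ≃+* ℂ,
      σ (Complex.exp (2 * Real.pi * Complex.I / (n : ℕ))) =
          Complex.exp (2 * Real.pi * Complex.I / (n : ℕ)) ∧
        σ (Complex.exp (2 * Real.pi * Complex.I / (m : ℕ))) =
          Complex.exp (2 * Real.pi * Complex.I / (m : ℕ)) ^ a := by
  obtain ⟨k, hk1, hka⟩ := Nat.chineseRemainder hnm 1 a
  have hkn : k.Coprime (n * m) := by
    rw [Nat.coprime_mul_iff_right]
    refine ⟨?_, ?_⟩
    · rw [Nat.Coprime, hk1.gcd_eq]; simp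
    · rw [Nat.Coprime, hka.gcd_eq]; exact ha
  obtain ⟨φ, hφ⟩ := exists_embedding_of_coprime (n * m) (mul_ne_zero hn hm) k hkn
  obtain ⟨σ, hσ⟩ := exists_ringEquiv_extend φ
  have key : ∀ d : ℕ, d ≠ 0 → d ∣ n * m → σ (Complex.exp (2 * Real.pi * Complex.I / (d : ℕ))) =
      Complex.exp (2 * Real.pi * Complex.I / (d : ℕ)) ^ k := by
    intro d hd hdvd
    have hζ := Complex.isPrimitiveRoot_exp d hd
    let x : Alg := ⟨_, mem_alg_of_isIntegral (hζ.isIntegral (Nat.pos_of_ne_zero hd))⟩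
    have hx : x ^ (n * m) = 1 := Subtype.ext (by
      obtain ⟨t, ht⟩ := hdvd
      show Complex.exp (2 * Real.pi * Complex.I / (d : ℕ)) ^ (n * m) = 1
      rw [ht, pow_mul, hζ.pow_eq_one, one_pow])
    exact (hσ x).trans (hφ x hx)
  have hred : ∀ d : ℕ, d ≠ 0 → ∀ i, k ≡ i [MOD d] →
      Complex.exp (2 * Real.pi * Complex.I / (d : ℕ)) ^ k =
        Complex.exp (2 * Real.pi * Complex.I / (d : ℕ)) ^ i := fun d hd i hi => by
    have hp := (Complex.isPrimitiveRoot_exp d hd).pow_eq_one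
    rw [← pow_mod_natCast_aux hp k, ← pow_mod_natCast_aux hp i, hi]
  refine ⟨σ, ?_, ?_⟩
  · rw [key n hn (dvd_mul_right n m), hred n hn 1 hk1, pow_one]
  · rw [key m hm (dvd_mul_left m n), hred m hm a hka]
where
  /-- Exponents can be reduced modulo the order. -/
  pow_mod_natCast_aux {z : ℂ} {d : ℕ} (h : z ^ d = 1) (i : ℕ) : z ^ (i % d) = z ^ i := by
    conv_rhs => rw [← Nat.mod_add_div i d, pow_add, pow_mul, h, one_pow, mul_one]

end CfsgLib.Char
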