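import Cfsg.Agent.Lib.Char.Inertia
import Cfsg.Agent.Lib.Char.Integrality
import Cfsg.Agent.Lib.Char.Linear

/-!
# Degrees divide indices
-/

set_option autoImplicit false
set_option linter.unusedSectionVars false

namespace CfsgLib.Char

open scoped ComplexConjugate
open Representation Module Cfsg

universe u v

variable {G : Type u} [Group G] [Finite G]

theorem finrank_dvd_index_faithful {V : Type v} [AddCommGroup V] [Module ℂ V] [FiniteDimensional ℂ V]
    (ρ : Representation ℂ G V) [ρ.IsIrreducible] (hinj : Function.Injective ρ) (Z : Subgroup G)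
    [Z.Normal] (hZ : ∀ z ∈ Z, ∃ c : ℂ, ρ z = c • LinearMap.id) :
    finrank ℂ V ∣ Z.index := by
  classical
  have := Fintype.ofFinite G
  have := Fintype.ofFinite (G ⧸ Z)
  have := Fintype.ofFinite (ConjClasses (G ⧸ Z))
  have := nontrivial_of_irreducible ρ
  set n := finrank ℂ V with hn
  have hn0 : (n : ℂ) ≠ 0 := by exact_mod_cast (finrank_pos_of_irreducible ρ).ne'
  let F : G → ℂ := fun g => ρ.character g * conj (ρ.character g)
  have hscal : ∀ (g : G) (z : G), z ∈ Z → ∃ c : ℂ, ρ z = c • LinearMap.id ∧ ‖c‖ = 1 ∧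
      ρ.character (g * z) = c * ρ.character g := by
    intro g z hz
    obtain ⟨c, hc⟩ := hZ z hz
    refine ⟨c, hc, ?_, ?_⟩
    · have h1 := (norm_char_eq_iff ρ z).mpr ⟨c, hc⟩
      rw [Representation.character, hc, trace_smul_id, norm_mul, RCLike.norm_natCast] at h1
      exact (mul_eq_right₀ (by exact_mod_cast (finrank_pos_of_irreducible ρ).ne')).mp h1
    · rw [Representation.character, map_mul, hc, Representation.character, Module.End.mul_eq_comp,
        LinearMap.comp_smul, LinearMap.comp_id, map_smul, smul_eq_mul]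
  have hF : ∀ g z, z ∈ Z → F (g * z) = F g := by
    intro g z hz
    obtain ⟨c, -, hc1, hc⟩ := hscal g z hz
    simp only [F, hc, map_mul]
    have : c * conj c = 1 := by rw [Complex.mul_conj', hc1]; simp
    linear_combination (ρ.character g * conj (ρ.character g)) * this
  let f : G ⧸ Z → ℂ := fun q => F q.out
  have hf : ∀ g : G, f (g : G ⧸ Z) = F g := fun g => by
    obtain ⟨z, hz⟩ := QuotientGroup.mk_out_eq_mul Z g
    show F _ = _
    rw [hz]; exact hF g z z.2
  have hFcl : ∀ a b : G, F (b * a * b⁻¹) = F a := fun a b => by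
    simp only [F, Representation.char_conj]
  have hsum : ∑ g : G, F g = (Nat.card G : ℂ) := by
    have h1 := classInner_irr_self (G := G) ⟨_, isIrrCharacter_character ρ⟩
    rw [classInner, inv_mul_eq_one₀ card_ne_zero'] at h1
    exact h1.symm
  have hfib : ∀ q : G ⧸ Z, (Finset.univ.filter fun g : G => (g : G ⧸ Z) = q).card = Nat.card Z := by
    intro q
    rw [← Fintype.card_subtype, ← Nat.card_eq_fintype_card]
    exact Nat.card_congr
      { toFun := fun g => ⟨q.out⁻¹ * g.1, QuotientGroup.eq.mp (by rw [QuotientGroup.out_eq', g.2])⟩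
        invFun := fun z => ⟨q.out * z.1, by rw [QuotientGroup.mk_mul_of_mem _ z.2, QuotientGroup.out_eq']⟩
        left_inv := fun g => Subtype.ext (mul_inv_cancel_left _ _)
        right_inv := fun z => Subtype.ext (inv_mul_cancel_left _ _) }
  have hsum2 : ∑ g : G, F g = (Nat.card Z : ℂ) * ∑ q : G ⧸ Z, f q := by
    rw [← Finset.sum_fiberwise Finset.univ (fun g : G => (g : G ⧸ Z)), Finset.mul_sum]
    refine Finset.sum_congr rfl fun q _ => ?_
    rw [Finset.sum_congr rfl (g := fun _ => f q) fun g hg => by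
      rw [← (Finset.mem_filter.mp hg).2, hf], Finset.sum_const, nsmul_eq_mul, hfib]
  have hterm : ∀ D : ConjClasses (G ⧸ Z),
      ∃ t : ℂ, IsIntegral ℤ t ∧ ∑ q ∈ Finset.univ.filter (fun q => ConjClasses.mk q = D), f q =
        (n : ℂ) * t := by
    intro D
    obtain ⟨q₀, rfl⟩ := ConjClasses.exists_rep D
    obtain ⟨g, rfl⟩ := QuotientGroup.mk_surjective q₀
    have hconst : ∀ q ∈ Finset.univ.filter (fun q : G ⧸ Z => ConjClasses.mk q = ConjClasses.mk (g : G ⧸ Z)),
        f q = F g := by
      intro q hq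
      obtain ⟨c, hc⟩ := isConj_iff.mp (ConjClasses.mk_eq_mk_iff_isConj.mp (Finset.mem_filter.mp hq).2).symm
      obtain ⟨c, rfl⟩ := QuotientGroup.mk_surjective c
      rw [← hc, ← QuotientGroup.mk_inv, ← QuotientGroup.mk_mul, ← QuotientGroup.mk_mul, hf, hFcl]
    rw [Finset.sum_congr rfl hconst, Finset.sum_const, nsmul_eq_mul]
    by_cases h0 : ρ.character g = 0
    · exact ⟨0, isIntegral_zero, by simp [F, h0]⟩
    have hcard : (Finset.univ.filter (fun q : G ⧸ Z => ConjClasses.mk q = ConjClasses.mk (g : G ⧸ Z))).card =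
        Nat.card {x : G // IsConj g x} := by
      rw [← Fintype.card_subtype, ← Nat.card_eq_fintype_card]
      refine (Nat.card_congr (Equiv.ofBijective (fun x : {x : G // IsConj g x} =>
        (⟨(x.1 : G ⧸ Z), ConjClasses.mk_eq_mk_iff_isConj.mpr
          ((QuotientGroup.mk' Z).map_isConj x.2).symm⟩ :
          {q : G ⧸ Z // ConjClasses.mk q = ConjClasses.mk (g : G ⧸ Z)})) ⟨?_, ?_⟩)).symm
      · intro x y hxy
        have hz : x.1⁻¹ * y.1 ∈ Z := QuotientGroup.eq.mp (congrArg Subtype.val hxy)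
        obtain ⟨c, hc, -, hcc⟩ := hscal x.1 _ hz
        rw [mul_inv_cancel_left] at hcc
        have ex : ρ.character x.1 = ρ.character g :=
          (classFun_isConj (fun a b => Representation.char_conj ρ a b) x.2).symm
        have ey : ρ.character y.1 = ρ.character g :=
          (classFun_isConj (fun a b => Representation.char_conj ρ a b) y.2).symm
        rw [ex, ey] at hcc
        have hc1 : c = 1 := (mul_eq_right₀ h0).mp hcc.symm
        rw [hc1, one_smul] at hc
        have : x.1⁻¹ * y.1 = 1 := hinj (by rw [hc, map_one]; rfl)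
        exact Subtype.ext (inv_mul_eq_one.mp this)
      · rintro ⟨q, hq⟩
        obtain ⟨c, hc⟩ := isConj_iff.mp (ConjClasses.mk_eq_mk_iff_isConj.mp hq).symm
        obtain ⟨c, rfl⟩ := QuotientGroup.mk_surjective c
        refine ⟨⟨c * g * c⁻¹, isConj_iff.mpr ⟨c, rfl⟩⟩, Subtype.ext ?_⟩
        simpa using hc
    rw [hcard]
    refine ⟨omega ρ.character g * conj (ρ.character g), (isIntegral_omega_rep ρ g).mul ?_, ?_⟩
    · rw [← char_inv]; exact char_pow_eq_sum_isIntegral ρ g⁻¹
    · simp only [omega, F, Representation.char_one, ← hn]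
      field_simp
  choose t ht hte using hterm
  have hX : ∑ q : G ⧸ Z, f q = (n : ℂ) * ∑ D : ConjClasses (G ⧸ Z), t D := by
    rw [← Finset.sum_fiberwise Finset.univ ConjClasses.mk, Finset.mul_sum]
    exact Finset.sum_congr rfl fun D _ => hte D
  rw [hsum2, hX] at hsum
  set X := ∑ D : ConjClasses (G ⧸ Z), t D with hXd
  have hint : IsIntegral ℤ X := IsIntegral.sum _ fun D _ => ht D
  have hZ0 : (Nat.card Z : ℂ) ≠ 0 := by exact_mod_cast Nat.card_pos.ne'
  have hidx : (n : ℂ) * X = (Z.index : ℂ) := by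
    apply mul_left_cancel₀ hZ0
    rw [hsum, mul_comm, ← Nat.cast_mul, Z.index_mul_card]
  have hq : X = algebraMap ℚ ℂ ((Z.index : ℚ) / n) := by
    rw [map_div₀, map_natCast, map_natCast, eq_div_iff hn0, mul_comm, hidx]
  rw [hq, isIntegral_algebraMap_iff (algebraMap ℚ ℂ).injective,
    IsIntegrallyClosed.isIntegral_iff] at hint
  obtain ⟨z, hz⟩ := hint
  rw [eq_intCast, eq_div_iff (by exact_mod_cast hn0)] at hz
  exact Int.natCast_dvd_natCast.mp ⟨z, by rw [mul_comm]; exact_mod_cast hz.symm⟩

theorem finrank_dvd_index_of_scalar {V : Type v} [AddCommGroup V] [Module ℂ V] [FiniteDimensional ℂ V]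
    (ρ : Representation ℂ G V) [hρ : ρ.IsIrreducible] (Z : Subgroup G)
    [Z.Normal] (hZ : ∀ z ∈ Z, ∃ c : ℂ, ρ z = c • LinearMap.id) :
    finrank ℂ V ∣ Z.index := by
  set K := MonoidHom.ker ρ with hK
  let σ : Representation ℂ (G ⧸ K) V := QuotientGroup.lift K ρ le_rfl
  have hσinj : Function.Injective σ := fun x y hxy => by
    obtain ⟨a, rfl⟩ := QuotientGroup.mk_surjective x
    obtain ⟨b, rfl⟩ := QuotientGroup.mk_surjective y
    have hab : ρ a = ρ b := hxy
    refine QuotientGroup.eq.mpr (MonoidHom.mem_ker.mpr ?_)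
    rw [map_mul, ← hab, ← map_mul, inv_mul_cancel, map_one]
  have hσ : σ.IsIrreducible := by
    let e : Subrepresentation σ ≃o Subrepresentation ρ :=
      { toFun := fun S => ⟨S.toSubmodule, fun g v hv => S.apply_mem_toSubmodule (g : G ⧸ K) hv⟩
        invFun := fun S => ⟨S.toSubmodule, fun q v hv => by
          obtain ⟨g, rfl⟩ := QuotientGroup.mk_surjective q
          exact S.apply_mem_toSubmodule g hv⟩
        left_inv := fun S => rfl
        right_inv := fun S => rfl
        map_rel_iff' := Iff.rfl }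
    exact e.isSimpleOrder
  have : (Z.map (QuotientGroup.mk' K)).Normal :=
    Subgroup.Normal.map inferInstance _ (QuotientGroup.mk'_surjective K)
  refine (finrank_dvd_index_faithful σ hσinj
    (Z.map (QuotientGroup.mk' K)) ?_).trans (Subgroup.index_map_dvd _ (QuotientGroup.mk'_surjective K))
  rintro _ ⟨z, hz, rfl⟩
  exact hZ z hz

theorem finrank_dvd_index_center {V : Type v} [AddCommGroup V] [Module ℂ V] [FiniteDimensional ℂ V]
    (ρ : Representation ℂ G V) [ρ.IsIrreducible] :
    finrank ℂ V ∣ (Subgroup.center G).index :=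
  finrank_dvd_index_of_scalar ρ _ fun _ hz => exists_scalar_of_mem_center ρ hz

/-- An abelian subgroup supports a linear constituent. -/
theorem exists_linear_constituent {θ : G → ℂ} (hθ : IsIrrCharacter G θ) (A : Subgroup G)
    (hA : ∀ a ∈ A, ∀ b ∈ A, a * b = b * a) [Fintype A] :
    ∃ χ : IrrCharacter A, (χ : A → ℂ) 1 = 1 ∧ classInner (fun a : A => θ a) (χ : A → ℂ) ≠ 0 := by
  by_contra hc
  push Not at hc
  have h0 := classFun_eq_zero_of_perp (G := A) (f := fun a : A => θ a)
    (isClassFunction_of_isCharacter (isCharacter_comp (isCharacter_of_isIrr hθ) A.subtype))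
    fun χ => hc χ (degree_one_of_comm (fun a b => Subtype.ext (hA a a.2 b b.2)) χ)
  exact irr_one_ne_zero ⟨θ, hθ⟩ (congrFun h0 1)

theorem degree_le_index {θ : G → ℂ} (hθ : IsIrrCharacter G θ) (A : Subgroup G)
    (hA : ∀ a ∈ A, ∀ b ∈ A, a * b = b * a) {d : ℕ} (hd : θ 1 = d) : d ≤ A.index := by
  have := Fintype.ofFinite G
  have := Fintype.ofFinite A
  obtain ⟨χ, hχ1, hχ⟩ := exists_linear_constituent hθ A hA
  have hinner : classInner (indFun A (χ : A → ℂ)) ((⟨θ, hθ⟩ : IrrCharacter G) : G → ℂ) ≠ 0 := by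
    rw [classInner_indFun A _ _ (isClassFunction_irr ⟨θ, hθ⟩), ← classInner_conj]
    exact fun h => hχ (by simpa using h)
  exact (degree_le_of_constituent (isCharacter_indFun A (isCharacter_irr χ)) ⟨θ, hθ⟩ hinner
    (a := A.index) (by rw [indFun_one, hχ1, mul_one]) hd).1

/-- Itô's theorem. -/
theorem degree_dvd_index_abelian : ∀ (H : Type u) [Group H] [Finite H] (A : Subgroup H) [A.Normal],
    (∀ a ∈ A, ∀ b ∈ A, a * b = b * a) → ∀ (θ : H → ℂ), IsIrrCharacter H θ → ∀ d : ℕ, θ 1 = d →
      d ∣ A.index := by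
  intro H _ _ A _ hA θ hθ d hd
  induction hn : Nat.card H using Nat.strong_induction_on generalizing H θ d with
  | _ m ih =>
    subst hn
    have := Fintype.ofFinite H
    have := Fintype.ofFinite A
    obtain ⟨χ, hχ1, hχ⟩ := exists_linear_constituent hθ A hA
    set T := inertia A (χ : A → ℂ) with hT
    by_cases htop : T = ⊤
    · obtain ⟨n, ρ, hρ, rfl⟩ := hθ
      have hfd : d = finrank ℂ (Fin n → ℂ) := by
        have h1 : (d : ℂ) = (finrank ℂ (Fin n → ℂ) : ℂ) := hd.symm.trans (Representation.char_one ρ)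
        exact_mod_cast h1
      rw [hfd]
      refine finrank_dvd_index_of_scalar ρ A fun a ha => ?_
      refine (norm_char_eq_iff ρ a).mp ?_
      have h := clifford_smul A (θ := ρ.character) ⟨n, ρ, hρ, rfl⟩ χ.2 hχ
      have hcd := clifford_degree A (θ := ρ.character) ⟨n, ρ, hρ, rfl⟩ χ.2 hχ
      rw [← hT, htop, Subgroup.index_top, Nat.cast_one, mul_one, hχ1, mul_one,
        Representation.char_one] at hcd
      have h' := congrFun h ⟨a, ha⟩
      simp only [Pi.smul_apply, smul_eq_mul, ← hT, htop, Subgroup.card_top] at h'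
      rw [← hcd] at h'
      have hind : indFun A (χ : A → ℂ) a = (Nat.card A : ℂ)⁻¹ * ((Nat.card H : ℂ) * (χ : A → ℂ) ⟨a, ha⟩) := by
        show indFun A (χ : A → ℂ) ((⟨a, ha⟩ : A) : H) = _
        rw [indFun_normal_mem]
        congr 1
        rw [Finset.sum_congr rfl (g := fun _ => (χ : A → ℂ) ⟨a, ha⟩), Finset.sum_const,
          Finset.card_univ, nsmul_eq_mul, Nat.card_eq_fintype_card]
        intro x _
        exact congrFun ((mem_inertia A (χ : A → ℂ) x).mp (hT ▸ htop ▸ Subgroup.mem_top x)) ⟨a, ha⟩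
      rw [hind] at h'
      have hA0 : (Nat.card A : ℂ) ≠ 0 := by exact_mod_cast Nat.card_pos.ne'
      have hH0 : (Nat.card H : ℂ) ≠ 0 := by exact_mod_cast Nat.card_pos.ne'
      have hval : ρ.character a = (finrank ℂ (Fin n → ℂ) : ℂ) * (χ : A → ℂ) ⟨a, ha⟩ := by
        apply mul_left_cancel₀ hH0
        rw [h']
        field_simp
      rw [hval, norm_mul, RCLike.norm_natCast]
      have hnorm : ‖(χ : A → ℂ) ⟨a, ha⟩‖ = 1 := by
        obtain ⟨lam, hlam⟩ := linearCharEquiv.surjective (⟨χ, hχ1⟩ : {χ : IrrCharacter A // (χ : A → ℂ) 1 = 1})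
        have e : (χ : A → ℂ) ⟨a, ha⟩ = (lam ⟨a, ha⟩ : ℂ) :=
          (congrFun (congrArg (fun z => ((z.1 : IrrCharacter A) : A → ℂ)) hlam) _).symm
        rw [e]
        refine Complex.norm_eq_one_of_pow_eq_one (n := Nat.card A) ?_ Nat.card_pos.ne'
        rw [← Units.val_pow_eq_pow_val, ← map_pow, pow_card_eq_one', map_one, Units.val_one]
      rw [hnorm, mul_one]
    · obtain ⟨ψ, hψ, hθψ⟩ := exists_inertia_correspondent A hθ χ.2 hχ
      change θ = indFun T ψ at hθψ
      have hAT : A ≤ T := le_inertia A (isClassFunction_irr χ)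
      have hlt : Nat.card T < Nat.card H := by
        rcases Nat.lt_or_ge (Nat.card T) (Nat.card H) with h | h
        · exact h
        · exact absurd (Subgroup.eq_top_of_card_eq T (le_antisymm (Subgroup.card_le_card_group T) h)) htop
      obtain ⟨dψ, -, hdψ⟩ := isIrrCharacter_degree hψ
      have h1 := ih _ hlt T (A.subgroupOf T)
        (fun a ha b hb => Subtype.ext (hA _ (Subgroup.mem_subgroupOf.mp ha) _ (Subgroup.mem_subgroupOf.mp hb)))
        ψ hψ dψ hdψ rfl
      have hd' : d = T.index * dψ := by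
        have := congrFun hθψ 1
        rw [hd, indFun_one, hdψ] at this
        exact_mod_cast this
      rw [hd', ← Subgroup.relIndex_mul_index hAT, mul_comm (A.relIndex T)]
      exact mul_dvd_mul_left _ h1

end CfsgLib.Char
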