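import Cfsg.Agent.Lib.Char.Orthogonality

/-!
# A representation is determined by its character
-/

set_option autoImplicit false
set_option linter.unusedSectionVars false

namespace CfsgLib.Char

open scoped ComplexConjugate
open Representation Module Cfsg

universe u v w x

variable {G : Type u} [Group G] [Finite G]

/-- An injective intertwining map identifies its source with its range. -/
noncomputable def equivRange {V : Type v} [AddCommGroup V] [Module ℂ V] {W : Type w} [AddCommGroup W]
    [Module ℂ W] {ρ : Representation ℂ G V} {σ : Representation ℂ G W} (f : IntertwiningMap ρ σ)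
    (hf : Function.Injective f) : ρ.Equiv f.range.toRepresentation :=
  Representation.Equiv.mk (LinearEquiv.ofInjective f.toLinearMap hf) fun g => by
    ext x
    exact f.isIntertwining ρ σ g x

theorem exists_irr_inner_ne_zero [Fintype G] {χ : G → ℂ} (h : IsCharacter G χ) (h0 : χ ≠ 0) :
    ∃ ψ : IrrCharacter G, classInner χ (ψ : G → ℂ) ≠ 0 := by
  by_contra hc
  push Not at hc
  exact h0 (classFun_eq_zero_of_perp (isClassFunction_of_isCharacter h) hc)

theorem exists_injective_of_inner_ne_zero [Fintype G] {V : Type v} [AddCommGroup V] [Module ℂ V]
    [FiniteDimensional ℂ V] (ρ : Representation ℂ G V) {W : Type w} [AddCommGroup W] [Module ℂ W]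
    [FiniteDimensional ℂ W] (τ : Representation ℂ G W) [τ.IsIrreducible]
    (h : classInner ρ.character τ.character ≠ 0) :
    ∃ f : IntertwiningMap τ ρ, Function.Injective f := by
  rw [classInner_char τ ρ] at h
  have h1 : 0 < finrank ℂ (IntertwiningMap τ ρ) :=
    Nat.pos_of_ne_zero fun e => h (by rw [e]; simp)
  have := Module.nontrivial_of_finrank_pos h1
  obtain ⟨f, hf⟩ := exists_ne (0 : IntertwiningMap τ ρ)
  exact ⟨f, (IsIrreducible.injective_or_eq_zero f).resolve_right hf⟩

/-- Representations with the same character are isomorphic. -/
theorem nonempty_equiv_of_character_eq {V : Type v} [AddCommGroup V] [Module ℂ V]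
    [FiniteDimensional ℂ V] {W : Type w} [AddCommGroup W] [Module ℂ W] [FiniteDimensional ℂ W]
    (ρ : Representation ℂ G V) (σ : Representation ℂ G W) (h : ρ.character = σ.character) :
    Nonempty (ρ.Equiv σ) := by
  have := Fintype.ofFinite G
  have hdim : finrank ℂ V = finrank ℂ W := by
    have h1 := congrFun h 1
    rw [Representation.char_one, Representation.char_one] at h1
    exact_mod_cast h1
  induction hn : finrank ℂ V using Nat.strong_induction_on generalizing V W with
  | _ n ih =>
    subst hn
    rcases subsingleton_or_nontrivial V with hV | hV
    · have hW : Subsingleton W := Module.finrank_zero_iff.mp (hdim ▸ Module.finrank_zero_of_subsingleton)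
      exact ⟨Representation.Equiv.mk 0 fun g => by ext x; exact Subsingleton.elim _ _⟩
    have h0 : ρ.character ≠ 0 := fun e => by
      have h1 := congrFun e 1
      rw [Representation.char_one, Pi.zero_apply] at h1
      exact (Module.finrank_pos (R := ℂ) (M := V)).ne' (by exact_mod_cast h1)
    obtain ⟨⟨ψ, m, τ, hτ, rfl⟩, hψ⟩ := exists_irr_inner_ne_zero (isCharacter_character ρ) h0
    obtain ⟨f, hf⟩ := exists_injective_of_inner_ne_zero ρ τ hψ
    obtain ⟨f', hf'⟩ := exists_injective_of_inner_ne_zero σ τ (h ▸ hψ)
    have := complemented_subrep ρ
    have := complemented_subrep σ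
    obtain ⟨T, hT⟩ := exists_isCompl f.range
    obtain ⟨T', hT'⟩ := exists_isCompl f'.range
    have e1 := character_compl hT
    have e2 := character_compl hT'
    have r1 : f.range.toRepresentation.character = τ.character :=
      (Representation.char_iso (equivRange f hf)).symm
    have r2 : f'.range.toRepresentation.character = τ.character :=
      (Representation.char_iso (equivRange f' hf')).symm
    have hTT : T.toRepresentation.character = T'.toRepresentation.character := by
      rw [r1] at e1
      rw [r2, ← h, e1] at e2
      exact add_left_cancel e2
    have hd1 := finrank_compl hT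
    have hd2 := finrank_compl hT'
    have hpos : 0 < finrank ℂ f.range.toSubmodule := by
      rw [← (equivRange f hf).toLinearEquiv.finrank_eq]
      have := hτ
      exact Nat.pos_of_ne_zero fun e => hψ (by
        have : Subsingleton (Fin m → ℂ) := Module.finrank_zero_iff.mp e
        have hz : τ.character = 0 := funext fun g => by
          simp [Representation.character, Subsingleton.elim (τ g) 0]
        show classInner ρ.character τ.character = 0
        rw [hz, classInner_zero_right])
    have hTd : finrank ℂ T.toSubmodule = finrank ℂ T'.toSubmodule := by
      have h1 := congrFun hTT 1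
      rw [Representation.char_one, Representation.char_one] at h1
      exact_mod_cast h1
    obtain ⟨ε⟩ := ih _ (by omega) T.toRepresentation T'.toRepresentation hTT hTd rfl
    let e0 := (equivRange f hf).symm.trans (equivRange f' hf')
    let e3 : (f.range.toRepresentation.prod T.toRepresentation).Equiv
        (f'.range.toRepresentation.prod T'.toRepresentation) :=
      Representation.Equiv.mk (e0.toLinearEquiv.prodCongr ε.toLinearEquiv) fun g => by
        refine LinearMap.ext fun x => ?_
        exact Prod.ext (LinearMap.congr_fun (e0.toIntertwiningMap.isIntertwining' g) x.1)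
          (LinearMap.congr_fun (ε.toIntertwiningMap.isIntertwining' g) x.2)
    exact ⟨((complEquiv hT).symm.trans e3).trans (complEquiv hT')⟩

end CfsgLib.Char
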