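import Cfsg.Agent.Lib.Char.Clifford

/-!
# Constituents, transport along isomorphisms, the inertia group correspondence
-/

set_option autoImplicit false
set_option linter.unusedSectionVars false

namespace CfsgLib.Char

open scoped ComplexConjugate
open Representation Module Cfsg

universe u v

theorem classInner_equiv {A : Type u} [Group A] [Fintype A] {B : Type v} [Group B] [Fintype B]
    (e : A ≃* B) (f h : B → ℂ) :
    classInner (fun a => f (e a)) (fun a => h (e a)) = classInner f h := by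
  simp only [classInner]
  rw [Nat.card_congr e.toEquiv]
  congr 1
  exact Fintype.sum_equiv e.toEquiv _ _ fun a => rfl

variable {G : Type u} [Group G] [Fintype G]

theorem isCharacter_sub_constituent {χ : G → ℂ} (hχ : IsCharacter G χ) (ψ : IrrCharacter G)
    (h : classInner χ (ψ : G → ℂ) ≠ 0) : IsCharacter G (χ - (ψ : G → ℂ)) := by
  classical
  refine isCharacter_of_nat_inner (fun g k => ?_) fun φ => ?_
  · simp only [Pi.sub_apply, isClassFunction_of_isCharacter hχ g k, isClassFunction_irr ψ g k]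
  rw [classInner_sub_left, classInner_irr]
  obtain ⟨m, hm⟩ := classInner_char_irr_nat hχ φ
  split_ifs with e
  · subst e
    have : m ≠ 0 := fun h0 => h (by rw [hm, h0, Nat.cast_zero])
    exact ⟨m - 1, by rw [hm, Nat.cast_sub (Nat.one_le_iff_ne_zero.mpr this), Nat.cast_one]⟩
  · exact ⟨m, by rw [hm, sub_zero]⟩

theorem eq_zero_of_char_one_eq_zero {χ : G → ℂ} (hχ : IsCharacter G χ) (h : χ 1 = 0) : χ = 0 := by
  obtain ⟨n, ρ, rfl⟩ := hχ
  rw [Representation.char_one, Nat.cast_eq_zero] at h
  have := Module.finrank_zero_iff.mp h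
  funext g
  simp [Representation.character, Subsingleton.elim (ρ g) 0]

theorem degree_le_of_constituent {χ : G → ℂ} (hχ : IsCharacter G χ) (ψ : IrrCharacter G)
    (h : classInner χ (ψ : G → ℂ) ≠ 0) {a b : ℕ} (ha : χ 1 = a) (hb : (ψ : G → ℂ) 1 = b) :
    b ≤ a ∧ (a = b → χ = (ψ : G → ℂ)) := by
  have hs := isCharacter_sub_constituent hχ ψ h
  obtain ⟨c, hc⟩ := isCharacter_degree hs
  rw [Pi.sub_apply, ha, hb] at hc
  have e : a = c + b := by
    have : (a : ℂ) = (c : ℂ) + (b : ℂ) := by linear_combination hc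
    exact_mod_cast this
  refine ⟨by omega, fun hab => sub_eq_zero.mp (eq_zero_of_char_one_eq_zero hs ?_)⟩
  rw [Pi.sub_apply, ha, hb, hab, sub_self]

variable (N : Subgroup G) [hN : N.Normal] [Fintype N]

theorem clifford_degree {θ : G → ℂ} (hθ : IsIrrCharacter G θ) {χ : N → ℂ} (hχ : IsIrrCharacter N χ)
    (hconst : classInner (fun n : N => θ n) χ ≠ 0) :
    θ 1 = classInner (fun n : N => θ n) χ * ((inertia N χ).index : ℂ) * χ 1 := by
  have h := congrFun (clifford_smul N hθ hχ hconst) 1
  simp only [Pi.smul_apply, smul_eq_mul, OneMemClass.coe_one, indFun_one] at h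
  have hi : ((inertia N χ).index : ℂ) * (Nat.card (inertia N χ) : ℂ) = (Nat.card G : ℂ) := by
    exact_mod_cast congrArg (fun n : ℕ => (n : ℂ)) (inertia N χ).index_mul_card
  have hj : (N.index : ℂ) * (Nat.card N : ℂ) = (Nat.card G : ℂ) := by
    exact_mod_cast congrArg (fun n : ℕ => (n : ℂ)) N.index_mul_card
  have : (Nat.card (inertia N χ) : ℂ) ≠ 0 := by exact_mod_cast Nat.card_pos.ne'
  apply mul_left_cancel₀ this
  rw [h]
  linear_combination (classInner (fun n : N => θ n) χ * χ 1) * hj -
    (classInner (fun n : N => θ n) χ * χ 1) * hi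

theorem exists_inertia_correspondent_inner {θ : G → ℂ} (hθ : IsIrrCharacter G θ) {χ : N → ℂ}
    (hχ : IsIrrCharacter N χ) (hconst : classInner (fun n : N => θ n) χ ≠ 0) :
    ∃ ψ : inertia N χ → ℂ, IsIrrCharacter (inertia N χ) ψ ∧ θ = indFun (inertia N χ) ψ ∧
      ∀ h : N ≤ inertia N χ, classInner (fun n : N => ψ (Subgroup.inclusion h n)) χ =
        classInner (fun n : N => θ n) χ := by
  classical
  set T := inertia N χ with hT
  have hNT : N ≤ T := le_inertia N (isClassFunction_of_isCharacter (isCharacter_of_isIrr hχ))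
  have := Fintype.ofFinite T
  have := Fintype.ofFinite (IrrCharacter T)
  have hθT : IsCharacter T (fun t : T => θ t) := isCharacter_comp (isCharacter_of_isIrr hθ) T.subtype
  let incl : N →* T := Subgroup.inclusion hNT
  -- a constituent of `θ` on `T` lying over `χ`
  have hex : ∃ ψ : IrrCharacter T, classInner (fun t : T => θ t) (ψ : T → ℂ) ≠ 0 ∧
      classInner (fun n : N => (ψ : T → ℂ) (incl n)) χ ≠ 0 := by
    by_contra hc
    push Not at hc
    apply hconst
    have he : (fun n : N => θ n) = ∑ ψ : IrrCharacter T,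
        classInner (fun t : T => θ t) (ψ : T → ℂ) • (fun n : N => (ψ : T → ℂ) (incl n)) := by
      funext n
      have h := congrFun (classFun_expand (isClassFunction_of_isCharacter hθT)) (incl n)
      simp only [Finset.sum_apply, Pi.smul_apply] at h ⊢
      exact h
    rw [he, classInner_sum_left]
    refine Finset.sum_eq_zero fun ψ _ => ?_
    rw [classInner_smul_left]
    by_cases h0 : classInner (fun t : T => θ t) (ψ : T → ℂ) = 0
    · rw [h0, zero_mul]
    · rw [hc ψ h0, mul_zero]
  obtain ⟨ψ, hψθ, hψχ⟩ := hex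
  refine ⟨ψ, ψ.2, ?_⟩
  -- degree of `ψ`
  have hN' : (N.subgroupOf T).Normal := inferInstance
  have := Fintype.ofFinite (N.subgroupOf T)
  let eN : (N.subgroupOf T) ≃* N := Subgroup.subgroupOfEquivOfLe hNT
  have hχ' : IsIrrCharacter (N.subgroupOf T) (fun x => χ (eN x)) :=
    isIrrCharacter_comp_surjective hχ eN.toMonoidHom eN.surjective
  have hf : classInner (fun x : N.subgroupOf T => (ψ : T → ℂ) x) (fun x => χ (eN x)) =
      classInner (fun n : N => (ψ : T → ℂ) (incl n)) χ := by
    rw [← classInner_equiv eN (fun n : N => (ψ : T → ℂ) (incl n)) χ]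
    rfl
  have htop : inertia (N.subgroupOf T) (fun x => χ (eN x)) = ⊤ := by
    rw [eq_top_iff]
    intro t _
    funext x
    exact congrFun ((mem_inertia N χ (t : G)).mp t.2) (eN x)
  have hψ1 : (ψ : T → ℂ) 1 = classInner (fun n : N => (ψ : T → ℂ) (incl n)) χ * χ 1 := by
    have h := clifford_degree (N.subgroupOf T) ψ.2 hχ' (by rw [hf]; exact hψχ)
    rw [htop, Subgroup.index_top, Nat.cast_one, mul_one, hf, map_one] at h
    exact h
  have hθ1 := clifford_degree N hθ hχ hconst
  obtain ⟨dχ, hdχ0, hdχ⟩ := isIrrCharacter_degree hχ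
  obtain ⟨dθ, -, hdθ⟩ := isIrrCharacter_degree hθ
  obtain ⟨e, he⟩ := classInner_isCharacter (isCharacter_comp (isCharacter_of_isIrr hθ) N.subtype)
    (isCharacter_of_isIrr hχ)
  obtain ⟨f, hf'⟩ := classInner_isCharacter (isCharacter_comp (isCharacter_irr ψ) incl)
    (isCharacter_of_isIrr hχ)
  obtain ⟨s, hs⟩ := classInner_isCharacter (isCharacter_comp (isCharacter_sub_constituent hθT ψ hψθ) incl)
    (isCharacter_of_isIrr hχ)
  have he' : classInner (fun n : N => θ n) χ = (e : ℂ) := he
  have hef : e = s + f := by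
    have h2 : (fun x : N => ((fun t : T => θ t) - (ψ : T → ℂ)) (incl x)) =
        (fun n : N => θ n) - (fun n : N => (ψ : T → ℂ) (incl n)) := rfl
    rw [h2, classInner_sub_left, he', hf'] at hs
    have : (e : ℂ) = (s : ℂ) + (f : ℂ) := by linear_combination hs
    exact_mod_cast this
  have hdψ : (ψ : T → ℂ) 1 = ((f * dχ : ℕ) : ℂ) := by rw [hψ1, hf', hdχ, Nat.cast_mul]
  have hind1 : indFun T (ψ : T → ℂ) 1 = ((T.index * (f * dχ) : ℕ) : ℂ) := by
    rw [indFun_one, hdψ, ← Nat.cast_mul]
  have hdθ' : dθ = e * T.index * dχ := by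
    rw [hdθ, he', hdχ] at hθ1
    exact_mod_cast hθ1
  have hinner : classInner (indFun T (ψ : T → ℂ)) ((⟨θ, hθ⟩ : IrrCharacter G) : G → ℂ) ≠ 0 := by
    rw [classInner_indFun T _ _ (isClassFunction_irr ⟨θ, hθ⟩), ← classInner_conj]
    exact fun h => hψθ (by simpa using h)
  obtain ⟨hle, heq⟩ := degree_le_of_constituent (isCharacter_indFun T (isCharacter_irr ψ)) ⟨θ, hθ⟩
    hinner hind1 hdθ
  have hTpos : 0 < T.index := Nat.pos_of_ne_zero Subgroup.index_ne_zero_of_finite
  have hfe : e ≤ f := by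
    refine Nat.le_of_mul_le_mul_right ?_ (Nat.mul_pos hTpos hdχ0)
    calc e * (T.index * dχ) = dθ := by rw [hdθ']; ring
      _ ≤ T.index * (f * dχ) := hle
      _ = f * (T.index * dχ) := by ring
  have hef' : f = e := by omega
  refine ⟨(heq ?_).symm, fun _ => by rw [he', ← hef']; exact hf'⟩
  rw [hdθ', ← hef']
  ring

/-- The Clifford correspondent of a constituent. -/
theorem exists_inertia_correspondent {θ : G → ℂ} (hθ : IsIrrCharacter G θ) {χ : N → ℂ}
    (hχ : IsIrrCharacter N χ) (hconst : classInner (fun n : N => θ n) χ ≠ 0) :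
    ∃ ψ : inertia N χ → ℂ, IsIrrCharacter (inertia N χ) ψ ∧ θ = indFun (inertia N χ) ψ := by
  obtain ⟨ψ, h1, h2, -⟩ := exists_inertia_correspondent_inner N hθ hχ hconst
  exact ⟨ψ, h1, h2⟩

end CfsgLib.Char
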