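import Cfsg.Agent.Lib.Char.IndMap
import Cfsg.Agent.Lib.Char.Inertia
import Cfsg.Agent.Lib.Char.Determine
import Cfsg.Agent.Lib.Char.Linear

/-!
# Nilpotent groups are monomial
-/

set_option autoImplicit false
set_option linter.unusedSectionVars false

namespace CfsgLib.Char

open scoped ComplexConjugate commutatorElement
open Representation Module Cfsg

universe u v

section Scalar

variable {G : Type u} [Group G] {V : Type v} [AddCommGroup V] [Module ℂ V]
  (ρ : Representation ℂ G V)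

/-- The elements acting by scalars. -/
def scalarSubgroup : Subgroup G where
  carrier := {g | ∃ c : ℂ, ρ g = c • LinearMap.id}
  one_mem' := ⟨1, by rw [map_one, one_smul]; rfl⟩
  mul_mem' := fun {a b} ⟨c, hc⟩ ⟨d, hd⟩ => ⟨c * d, by
    rw [map_mul, hc, hd]; ext v; simp [smul_smul, mul_comm]⟩
  inv_mem' := fun {a} ⟨c, hc⟩ => ⟨c⁻¹, by
    have h1 : ρ a⁻¹ * ρ a = 1 := by rw [← map_mul, inv_mul_cancel, map_one]
    refine LinearMap.ext fun v => ?_
    have h2 := LinearMap.congr_fun h1 v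
    rw [hc] at h2
    simp only [Module.End.mul_apply, LinearMap.smul_apply, LinearMap.id_apply, map_smul,
      Module.End.one_apply] at h2
    rcases eq_or_ne c 0 with h0 | h0
    · rw [h0, zero_smul] at h2
      simp [← h2]
    · simp only [LinearMap.smul_apply, LinearMap.id_apply]
      conv_rhs => rw [← h2]
      rw [inv_smul_smul₀ h0]⟩

theorem scalarSubgroup_normal : (scalarSubgroup ρ).Normal := ⟨fun a ⟨c, hc⟩ g => ⟨c, by
  have h2 : ρ g * ρ g⁻¹ = 1 := by rw [← map_mul, mul_inv_cancel, map_one]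
  rw [map_mul, map_mul, hc]
  refine LinearMap.ext fun v => ?_
  have h3 := LinearMap.congr_fun h2 v
  simp only [Module.End.mul_apply, Module.End.one_apply] at h3
  simp only [Module.End.mul_apply, LinearMap.smul_apply, LinearMap.id_apply, map_smul, h3]⟩⟩

theorem scalar_comm {a : G} (ha : a ∈ scalarSubgroup ρ) (b : G) : ρ a * ρ b = ρ b * ρ a := by
  obtain ⟨c, hc⟩ := ha
  rw [hc]
  ext v
  simp

end Scalar

variable {G : Type u} [Group G]

/-- An irreducible representation with commuting image has degree one. -/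
theorem finrank_eq_one_of_comm {V : Type v} [AddCommGroup V] [Module ℂ V] [FiniteDimensional ℂ V]
    (σ : Representation ℂ G V) [hσ : σ.IsIrreducible] (h : ∀ a b, σ a * σ b = σ b * σ a) :
    finrank ℂ V = 1 := by
  have := nontrivial_of_irreducible σ
  obtain ⟨v, hv⟩ := exists_ne (0 : V)
  let S : Subrepresentation σ := ⟨ℂ ∙ v, fun g w hw => by
    obtain ⟨c, hc⟩ := schur_scalar σ (σ g) fun x => h g x
    rw [hc]
    simpa using Submodule.smul_mem _ c hw⟩
  rcases hσ.eq_bot_or_eq_top S with e | e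
  · exact absurd (Submodule.span_singleton_eq_bot.mp (congrArg Subrepresentation.toSubmodule e)) hv
  · have e' : (ℂ ∙ v) = (⊤ : Submodule ℂ V) := congrArg Subrepresentation.toSubmodule e
    have := finrank_span_singleton (K := ℂ) hv
    rwa [e', finrank_top] at this

theorem exists_linear_constituent_of_comm_image [Finite G] {V : Type v} [AddCommGroup V] [Module ℂ V]
    [FiniteDimensional ℂ V] (ρ : Representation ℂ G V) [ρ.IsIrreducible] (A : Subgroup G) [Fintype A]
    (hA : ∀ a ∈ A, ∀ b ∈ A, ρ a * ρ b = ρ b * ρ a) :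
    ∃ φ : IrrCharacter A, (φ : A → ℂ) 1 = 1 ∧
      classInner (fun a : A => ρ.character a) (φ : A → ℂ) ≠ 0 := by
  let ρA : Representation ℂ A V := ρ.comp A.subtype
  have h0 : ρA.character ≠ 0 := fun e => by
    have h1 := congrFun e 1
    rw [Representation.char_one, Pi.zero_apply] at h1
    exact (finrank_pos_of_irreducible ρ).ne' (by exact_mod_cast h1)
  obtain ⟨⟨φ, n, σ, hσ, rfl⟩, hφ⟩ := exists_irr_inner_ne_zero (isCharacter_character ρA) h0
  obtain ⟨f, hf⟩ := exists_injective_of_inner_ne_zero ρA σ hφ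
  refine ⟨⟨_, n, σ, hσ, rfl⟩, ?_, hφ⟩
  show σ.character 1 = 1
  rw [Representation.char_one, finrank_eq_one_of_comm σ fun a b => LinearMap.ext fun v => hf ?_,
    Nat.cast_one]
  have h2 := LinearMap.congr_fun (hA a a.2 b b.2) (f v)
  simp only [Module.End.mul_apply] at h2 ⊢
  rw [f.isIntertwining σ ρA a (σ b v), f.isIntertwining σ ρA b v,
    f.isIntertwining σ ρA b (σ a v), f.isIntertwining σ ρA a v]
  exact h2

theorem scalar_of_invariant_linear [Fintype G] {n : ℕ} (ρ : Representation ℂ G (Fin n → ℂ))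
    (hρ : ρ.IsIrreducible) (A : Subgroup G) [A.Normal] [Fintype A] (φ : IrrCharacter A)
    (hφ1 : (φ : A → ℂ) 1 = 1) (hcon : classInner (fun a : A => ρ.character a) (φ : A → ℂ) ≠ 0)
    (hinv : inertia A (φ : A → ℂ) = ⊤) (a : G) (ha : a ∈ A) : a ∈ scalarSubgroup ρ := by
  refine (norm_char_eq_iff ρ a).mp ?_
  have hθ : IsIrrCharacter G ρ.character := ⟨n, ρ, hρ, rfl⟩
  have h := congrFun (clifford_smul A hθ φ.2 hcon) ⟨a, ha⟩
  have hcd := clifford_degree A hθ φ.2 hcon
  rw [hinv, Subgroup.index_top, Nat.cast_one, mul_one, hφ1, mul_one, Representation.char_one] at hcd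
  simp only [Pi.smul_apply, smul_eq_mul, hinv, Subgroup.card_top] at h
  rw [← hcd] at h
  have hind : indFun A (φ : A → ℂ) a =
      (Nat.card A : ℂ)⁻¹ * ((Nat.card G : ℂ) * (φ : A → ℂ) ⟨a, ha⟩) := by
    show indFun A (φ : A → ℂ) ((⟨a, ha⟩ : A) : G) = _
    rw [indFun_normal_mem]
    congr 1
    rw [Finset.sum_congr rfl (g := fun _ => (φ : A → ℂ) ⟨a, ha⟩), Finset.sum_const,
      Finset.card_univ, nsmul_eq_mul, Nat.card_eq_fintype_card]
    intro x _
    exact congrFun ((mem_inertia A (φ : A → ℂ) x).mp (hinv ▸ Subgroup.mem_top x)) ⟨a, ha⟩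
  rw [hind] at h
  have hA0 : (Nat.card A : ℂ) ≠ 0 := by exact_mod_cast Nat.card_pos.ne'
  have hval : ρ.character a = (finrank ℂ (Fin n → ℂ) : ℂ) * (φ : A → ℂ) ⟨a, ha⟩ := by
    apply mul_left_cancel₀ (card_ne_zero' (G := G))
    rw [h]
    field_simp
  obtain ⟨lam, hlam⟩ := linearCharEquiv.surjective
    (⟨φ, hφ1⟩ : {χ : IrrCharacter A // (χ : A → ℂ) 1 = 1})
  have e : (φ : A → ℂ) ⟨a, ha⟩ = (lam ⟨a, ha⟩ : ℂ) :=
    (congrFun (congrArg (fun z => ((z.1 : IrrCharacter A) : A → ℂ)) hlam) _).symm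
  rw [hval, norm_mul, RCLike.norm_natCast, e,
    Complex.norm_eq_one_of_pow_eq_one (n := Nat.card A) ?_ Nat.card_pos.ne', mul_one]
  rw [← Units.val_pow_eq_pow_val, ← map_pow, pow_card_eq_one', map_one, Units.val_one]

/-- Nilpotent groups are monomial. -/
theorem nilpotent_monomial : ∀ (H : Type u) [Group H] [Fintype H] [Group.IsNilpotent H] (χ : H → ℂ),
    IsIrrCharacter H χ → ∃ (U : Subgroup H) (lam : U →* ℂˣ), χ = indFun U (fun u => (lam u : ℂ)) := by
  intro H _ _ _ χ hχ
  induction hn : Nat.card H using Nat.strong_induction_on generalizing H χ with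
  | _ m ih =>
    subst hn
    obtain ⟨n, ρ, hρ, rfl⟩ := hχ
    by_cases hlin : ρ.character 1 = 1
    · obtain ⟨lam, hlam⟩ := linearCharEquiv.surjective
        (⟨⟨_, n, ρ, hρ, rfl⟩, hlin⟩ : {χ : IrrCharacter H // (χ : H → ℂ) 1 = 1})
      refine ⟨⊤, lam.comp (Subgroup.subtype ⊤), ?_⟩
      have e : (fun g : H => (lam g : ℂ)) = ρ.character :=
        congrArg (fun z => ((z.1 : IrrCharacter H) : H → ℂ)) hlam
      rw [← e]
      exact (indFun_top _ (isClassFunction_of_isCharacter (isCharacter_of_isIrr (isIrrCharacter_lin lam)))).symm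
    set Z := scalarSubgroup ρ with hZ
    have := scalarSubgroup_normal ρ
    have hZtop : Z ≠ ⊤ := by
      intro e
      refine hlin ?_
      rw [Representation.char_one, finrank_eq_one_of_comm ρ fun a b =>
        scalar_comm ρ (show a ∈ scalarSubgroup ρ by rw [← hZ, e]; exact Subgroup.mem_top a) b,
        Nat.cast_one]
    have : Nontrivial (H ⧸ Z) := QuotientGroup.nontrivial_iff.mpr hZtop
    obtain ⟨xb, hxb⟩ : ∃ xb : Subgroup.center (H ⧸ Z), xb ≠ 1 := by
      have := (Subgroup.nontrivial_iff_ne_bot _).mpr (Group.IsNilpotent.center_ne_bot (G := H ⧸ Z))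
      exact exists_ne 1
    obtain ⟨x, hx⟩ := QuotientGroup.mk_surjective (xb : H ⧸ Z)
    have hxZ : x ∉ Z := fun h => hxb (Subtype.ext (by
      rw [← hx]; exact (QuotientGroup.eq_one_iff x).mpr h))
    set A := (Subgroup.zpowers (xb : H ⧸ Z)).comap (QuotientGroup.mk' Z) with hA
    have hAn : A.Normal := by
      have : (Subgroup.zpowers (xb : H ⧸ Z)).Normal :=
        ⟨fun k hk g => by
          have hk' : k ∈ Subgroup.center (H ⧸ Z) := Subgroup.zpowers_le.mpr xb.2 hk
          rwa [Subgroup.mem_center_iff.mp hk' g, mul_inv_cancel_right]⟩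
      exact Subgroup.Normal.comap this _
    have hxA : x ∈ A := by
      rw [hA, Subgroup.mem_comap, QuotientGroup.mk'_apply, hx]
      exact Subgroup.mem_zpowers _
    have hcomm : ∀ a ∈ A, ∀ b ∈ A, ρ a * ρ b = ρ b * ρ a := by
      have hdec : ∀ a ∈ A, ∃ i : ℤ, ∃ z ∈ Z, a = x ^ i * z := by
        intro a ha
        obtain ⟨i, hi⟩ := ha
        refine ⟨i, (x ^ i)⁻¹ * a, ?_, by simp⟩
        rw [← QuotientGroup.eq, QuotientGroup.mk_zpow, hx]
        exact hi
      intro a ha b hb
      obtain ⟨i, z, hz, rfl⟩ := hdec a ha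
      obtain ⟨j, w, hw, rfl⟩ := hdec b hb
      have e1 : Commute (ρ (x ^ i)) (ρ (x ^ j)) := by
        rw [Commute, SemiconjBy, ← map_mul, ← map_mul, ← zpow_add, ← zpow_add, add_comm]
      have e2 : Commute (ρ (x ^ i)) (ρ w) := (scalar_comm ρ hw _).symm
      have e3 : ∀ y, Commute (ρ z) (ρ y) := fun y => scalar_comm ρ hz y
      rw [map_mul, map_mul]
      exact Commute.mul_left (Commute.mul_right e1 e2) (Commute.mul_right (e3 _) (e3 _))
    have := Fintype.ofFinite A
    obtain ⟨φ, hφ1, hφ⟩ := exists_linear_constituent_of_comm_image ρ A hcomm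
    have hT : inertia A (φ : A → ℂ) ≠ ⊤ := fun e =>
      hxZ (scalar_of_invariant_linear ρ hρ A φ hφ1 hφ e x hxA)
    obtain ⟨ψ, hψ, hθψ⟩ := exists_inertia_correspondent A (θ := ρ.character) ⟨n, ρ, hρ, rfl⟩ φ.2 hφ
    let T := inertia A (φ : A → ℂ)
    have := Fintype.ofFinite T
    have hlt : Nat.card T < Nat.card H := by
      rcases Nat.lt_or_ge (Nat.card T) (Nat.card H) with h | h
      · exact h
      · exact absurd (Subgroup.eq_top_of_card_eq T (le_antisymm (Subgroup.card_le_card_group T) h)) hT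
    obtain ⟨U, lam, hU⟩ := ih _ hlt T ψ hψ rfl
    refine ⟨U.map T.subtype, lam.comp (mapSubtypeEquiv T U).symm.toMonoidHom, ?_⟩
    rw [hθψ, hU, indFun_map]
    rfl

end CfsgLib.Char
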