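import Cfsg.Agent.Lib.Char.ExtendChar
import Cfsg.Agent.Lib.Char.Inertia
import Cfsg.Agent.Lib.Char.Degree
import Cfsg.Agent.Lib.Char.NilMonomial

/-!
# Averages over a normal subgroup, Gallagher's theorem
-/

set_option autoImplicit false
set_option linter.unusedSectionVars false

namespace CfsgLib.Char

open scoped ComplexConjugate
open Representation Module Cfsg

universe u

variable {G : Type u} [Group G] [Fintype G] (N : Subgroup G) [hN : N.Normal] [Fintype N]

/-- The average of a function over the cosets of `N`. -/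
noncomputable def cosetAvg (f : G → ℂ) (g : G) : ℂ := (Nat.card N : ℂ)⁻¹ * ∑ n : N, f ((n : G) * g)

theorem cosetAvg_mul_left (f : G → ℂ) (m : N) (g : G) :
    cosetAvg N f ((m : G) * g) = cosetAvg N f g := by
  unfold cosetAvg
  congr 1
  exact Fintype.sum_bijective (fun n => n * m) (Group.mulRight_bijective m) _ _ fun n => by
    rw [Subgroup.coe_mul, mul_assoc]

theorem cosetAvg_of_const {h : G → ℂ} (hh : ∀ (n : N) (g : G), h ((n : G) * g) = h g) :
    cosetAvg N h = h := by
  funext g
  simp only [cosetAvg, hh, Finset.sum_const, Finset.card_univ, nsmul_eq_mul]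
  rw [← Nat.card_eq_fintype_card, inv_mul_cancel_left₀ (by exact_mod_cast Nat.card_pos.ne')]

theorem classInner_cosetAvg (f h : G → ℂ) :
    classInner (cosetAvg N f) h = classInner f (cosetAvg N h) := by
  simp only [classInner, cosetAvg, map_mul, map_inv₀, map_natCast, map_sum]
  congr 1
  simp only [mul_assoc, Finset.sum_mul, Finset.mul_sum]
  rw [Finset.sum_comm, Finset.sum_comm (f := fun g (n : N) => f g * _)]
  refine Fintype.sum_bijective (fun n : N => n⁻¹) (Equiv.inv N).bijective _ _ fun n => ?_
  refine Fintype.sum_bijective (fun g => (n : G) * g) (Group.mulLeft_bijective _) _ _ fun g => ?_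
  rw [Subgroup.coe_inv, inv_mul_cancel_left]
  ring

theorem cosetAvg_add (f h : G → ℂ) : cosetAvg N (f + h) = cosetAvg N f + cosetAvg N h := by
  funext g
  simp [cosetAvg, Finset.sum_add_distrib, mul_add]

theorem cosetAvg_irr (φ : IrrCharacter G) :
    cosetAvg N (φ : G → ℂ) = (φ : G → ℂ) ∨ cosetAvg N (φ : G → ℂ) = 0 := by
  obtain ⟨φ, m, ρ, hρ, rfl⟩ := φ
  set P : (Fin m → ℂ) →ₗ[ℂ] (Fin m → ℂ) := (Nat.card N : ℂ)⁻¹ • ∑ n : N, ρ n with hP
  have hcomm : ∀ g : G, P * ρ g = ρ g * P := by
    intro g
    rw [hP, smul_mul_assoc, mul_smul_comm, Finset.sum_mul, Finset.mul_sum]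
    congr 1
    refine Fintype.sum_bijective (normalConjHom N g⁻¹) ?_ _ _ fun n => ?_
    · exact Finite.injective_iff_bijective.mp fun a b h => Subtype.ext (by
        simpa [normalConjHom] using congrArg Subtype.val h)
    · rw [← map_mul, ← map_mul]
      congr 1
      simp [normalConjHom, mul_assoc]
  obtain ⟨c, hc⟩ := schur_scalar ρ P hcomm
  have hPP : P * P = P := by
    have h1 : ∀ n : N, ρ n * ∑ k : N, ρ k = ∑ k : N, ρ k := fun n => by
      rw [Finset.mul_sum]
      exact Fintype.sum_bijective (fun k => n * k) (Group.mulLeft_bijective n) _ _ fun k => by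
        rw [Subgroup.coe_mul, map_mul]
    rw [hP, smul_mul_assoc, mul_smul_comm, Finset.sum_mul, Finset.sum_congr rfl fun n _ => h1 n,
      Finset.sum_const, Finset.card_univ, ← Nat.card_eq_fintype_card, ← Nat.cast_smul_eq_nsmul ℂ,
      smul_smul, smul_smul, mul_assoc, inv_mul_cancel₀ (by exact_mod_cast Nat.card_pos.ne'), mul_one]
  have := nontrivial_of_irreducible ρ
  obtain ⟨v, hv⟩ := exists_ne (0 : Fin m → ℂ)
  have hcc : c * c = c := by
    rw [hc] at hPP
    have h := LinearMap.congr_fun hPP v
    simp only [Module.End.mul_apply, LinearMap.smul_apply, LinearMap.id_coe, id_eq, smul_smul] at h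
    exact smul_left_injective ℂ hv h
  have havg : cosetAvg N ρ.character = c • ρ.character := by
    funext g
    have h : cosetAvg N ρ.character g = LinearMap.trace ℂ _ (P * ρ g) := by
      rw [hP, smul_mul_assoc, Finset.sum_mul, map_smul, map_sum, smul_eq_mul]
      simp only [cosetAvg, Representation.character, map_mul]
    rw [h, hc, smul_mul_assoc, map_smul]
    rfl
  have hc01 : c * (c - 1) = 0 := by linear_combination hcc
  rcases mul_eq_zero.mp hc01 with h | h
  · exact Or.inr (by show cosetAvg N ρ.character = 0; rw [havg, h, zero_smul])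
  · exact Or.inl (by show cosetAvg N ρ.character = ρ.character; rw [havg, sub_eq_zero.mp h, one_smul])

theorem isCharacter_cosetAvg {f : G → ℂ} (hf : IsCharacter G f) : IsCharacter G (cosetAvg N f) := by
  refine isCharacter_of_nat_inner (fun a b => ?_) fun φ => ?_
  · simp only [cosetAvg]
    congr 1
    refine Fintype.sum_bijective (normalConjHom N b⁻¹) ?_ _ _ fun n => ?_
    · exact Finite.injective_iff_bijective.mp fun a b h => Subtype.ext (by
        simpa [normalConjHom] using congrArg Subtype.val h)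
    · rw [← isClassFunction_of_isCharacter hf ((normalConjHom N b⁻¹ n : G) * a) b]
      congr 1
      simp [normalConjHom, mul_assoc]
  · rw [classInner_cosetAvg]
    rcases cosetAvg_irr N φ with h | h <;> rw [h]
    · exact classInner_char_irr_nat hf φ
    · exact ⟨0, by rw [classInner_zero_right, Nat.cast_zero]⟩

theorem cosetAvg_mul_const (f : G → ℂ) {h : G → ℂ}
    (hh : ∀ (n : N) (g : G), h ((n : G) * g) = h g) : cosetAvg N (f * h) = cosetAvg N f * h := by
  funext g
  simp only [cosetAvg, Pi.mul_apply, hh, ← Finset.sum_mul, mul_assoc]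

theorem sum_cosetAvg (f : G → ℂ) : ∑ g : G, cosetAvg N f g = ∑ g : G, f g := by
  simp only [cosetAvg, ← Finset.mul_sum]
  rw [Finset.sum_comm, Finset.sum_congr rfl (g := fun _ => ∑ g : G, f g) fun n _ => ?_,
    Finset.sum_const, Finset.card_univ, ← Nat.card_eq_fintype_card, nsmul_eq_mul,
    inv_mul_cancel_left₀ (by exact_mod_cast Nat.card_pos.ne')]
  exact Fintype.sum_bijective _ (Group.mulLeft_bijective (n : G)) _ _ fun g => rfl

theorem cosetAvg_one_eq (f h : G → ℂ) :
    cosetAvg N (fun x => f x * conj (h x)) 1 = classInner (fun n : N => f n) (fun n : N => h n) := by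
  simp only [cosetAvg, mul_one, classInner]

/-- If `χ` restricts irreducibly to `N` then the average of `|χ|²` on each coset is `1`. -/
theorem cosetAvg_self_eq_one (χ : IrrCharacter G)
    (hχN : IsIrrCharacter N (fun n : N => (χ : G → ℂ) n)) :
    cosetAvg N (fun x => (χ : G → ℂ) x * conj ((χ : G → ℂ) x)) = fun _ => 1 := by
  set η := cosetAvg N (fun x => (χ : G → ℂ) x * conj ((χ : G → ℂ) x)) with hη
  have hchar : IsCharacter G η := isCharacter_cosetAvg N
    (isCharacter_mul (isCharacter_irr χ) (isCharacter_conj (isCharacter_irr χ)))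
  have h1 : η 1 = 1 := (cosetAvg_one_eq N _ _).trans (classInner_irr_self ⟨_, hχN⟩)
  have h2 : classInner η (fun _ => 1) = 1 := by
    rw [hη, classInner_cosetAvg, cosetAvg_of_const N fun _ _ => rfl]
    have h := classInner_irr_self χ
    simpa [classInner] using h
  exact (degree_le_of_constituent hchar ⟨fun _ => 1, isIrrCharacter_one⟩ (by
    rw [h2]; exact one_ne_zero) (a := 1) (b := 1) (by rw [h1, Nat.cast_one]) (by simp)).2 rfl

/-- Gallagher: the characters over an extendible character are products. -/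
theorem gallagher (χ : IrrCharacter G) (hχN : IsIrrCharacter N (fun n : N => (χ : G → ℂ) n))
    (ψ : IrrCharacter G)
    (hne : classInner (fun n : N => (ψ : G → ℂ) n) (fun n : N => (χ : G → ℂ) n) ≠ 0) :
    IsIrrCharacter G (cosetAvg N (fun x => (ψ : G → ℂ) x * conj ((χ : G → ℂ) x))) ∧
      (ψ : G → ℂ) =
        (χ : G → ℂ) * cosetAvg N (fun x => (ψ : G → ℂ) x * conj ((χ : G → ℂ) x)) := by
  classical
  set η := cosetAvg N (fun x => (ψ : G → ℂ) x * conj ((χ : G → ℂ) x)) with hη
  have hchar : IsCharacter G η := isCharacter_cosetAvg N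
    (isCharacter_mul (isCharacter_irr ψ) (isCharacter_conj (isCharacter_irr χ)))
  have h0 : η ≠ 0 := fun e => hne (by
    rw [← cosetAvg_one_eq N (ψ : G → ℂ) (χ : G → ℂ), ← hη, e, Pi.zero_apply])
  obtain ⟨β, hβ⟩ := exists_irr_inner_ne_zero hchar h0
  have hβc : cosetAvg N (β : G → ℂ) = (β : G → ℂ) :=
    (cosetAvg_irr N β).resolve_right fun e => hβ (by
      rw [hη, classInner_cosetAvg, e, classInner_zero_right])
  have hconst : ∀ (n : N) (g : G), (β : G → ℂ) ((n : G) * g) = (β : G → ℂ) g := fun n g => by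
    rw [← congrFun hβc ((n : G) * g), cosetAvg_mul_left, congrFun hβc g]
  set θ : G → ℂ := (χ : G → ℂ) * (β : G → ℂ) with hθ
  have hnorm : classInner θ θ = 1 := by
    have h1 : classInner θ θ = (Nat.card G : ℂ)⁻¹ *
        ∑ g : G, ((fun x => (χ : G → ℂ) x * conj ((χ : G → ℂ) x)) *
          (fun x => (β : G → ℂ) x * conj ((β : G → ℂ) x))) g := by
      rw [classInner]
      congr 1
      refine Finset.sum_congr rfl fun g _ => ?_
      simp only [hθ, Pi.mul_apply, map_mul]
      ring
    rw [h1, ← sum_cosetAvg N, cosetAvg_mul_const N _ (fun n g => by simp only [hconst]),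
      cosetAvg_self_eq_one N χ hχN]
    simpa [classInner] using classInner_irr_self β
  have hirr : IsIrrCharacter G θ :=
    isIrr_of_isCharacter_norm_one (isCharacter_mul (isCharacter_irr χ) (isCharacter_irr β)) hnorm
  have hinner : classInner (ψ : G → ℂ) θ = classInner η (β : G → ℂ) := by
    rw [hη, classInner_cosetAvg, hβc]
    simp only [classInner, hθ, Pi.mul_apply, map_mul]
    congr 1
    exact Finset.sum_congr rfl fun g _ => by ring
  have heq : ψ = ⟨θ, hirr⟩ :=
    irr_eq_of_inner_ne_zero (show classInner (ψ : G → ℂ) θ ≠ 0 by rw [hinner]; exact hβ)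
  have hψ : (ψ : G → ℂ) = θ := congrArg Subtype.val heq
  have hηβ : η = (β : G → ℂ) := by
    rw [hη, show (fun x => (ψ : G → ℂ) x * conj ((χ : G → ℂ) x)) =
      (fun x => (χ : G → ℂ) x * conj ((χ : G → ℂ) x)) * (β : G → ℂ) from funext fun x => by
        rw [hψ, hθ, Pi.mul_apply, Pi.mul_apply]; ring,
      cosetAvg_mul_const N _ hconst, cosetAvg_self_eq_one N χ hχN]
    funext g
    simp
  exact ⟨hηβ ▸ β.2, by rw [hψ, hηβ]⟩

end CfsgLib.Char
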