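import Cfsg.Agent.Lib.Char.Virtual

/-!
# Irreducible characters of a direct product
-/

set_option autoImplicit false
set_option linter.unusedSectionVars false

namespace CfsgLib.Char

open scoped ComplexConjugate
open Representation Module Cfsg

universe u v

variable {G : Type u} [Group G] {H : Type v} [Group H]

/-- Conjugacy classes of a product. -/
noncomputable def conjClassesProdEquiv : ConjClasses (G × H) ≃ ConjClasses G × ConjClasses H :=
  Equiv.ofBijective
    (fun c => (ConjClasses.map (MonoidHom.fst G H) c, ConjClasses.map (MonoidHom.snd G H) c))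
    ⟨fun a b h => by
      obtain ⟨⟨a1, a2⟩, rfl⟩ := ConjClasses.exists_rep a
      obtain ⟨⟨b1, b2⟩, rfl⟩ := ConjClasses.exists_rep b
      obtain ⟨c, hc⟩ := isConj_iff.mp (ConjClasses.mk_eq_mk_iff_isConj.mp (congrArg Prod.fst h))
      obtain ⟨d, hd⟩ := isConj_iff.mp (ConjClasses.mk_eq_mk_iff_isConj.mp (congrArg Prod.snd h))
      exact ConjClasses.mk_eq_mk_iff_isConj.mpr (isConj_iff.mpr ⟨(c, d), Prod.ext hc hd⟩),
    fun ⟨x, y⟩ => by
      obtain ⟨a, rfl⟩ := ConjClasses.exists_rep x
      obtain ⟨b, rfl⟩ := ConjClasses.exists_rep y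
      exact ⟨ConjClasses.mk (a, b), rfl⟩⟩

theorem classInner_prod [Fintype G] [Fintype H] (φ φ' : G → ℂ) (ψ ψ' : H → ℂ) :
    classInner (fun x : G × H => φ x.1 * ψ x.2) (fun x => φ' x.1 * ψ' x.2) =
      classInner φ φ' * classInner ψ ψ' := by
  simp only [classInner, Nat.card_prod, Nat.cast_mul, mul_inv, map_mul, Fintype.sum_prod_type]
  rw [mul_mul_mul_comm, Finset.sum_mul_sum]
  congr 1
  exact Finset.sum_congr rfl fun a _ => Finset.sum_congr rfl fun b _ => by ring

variable [Finite G] [Finite H]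

theorem isIrrCharacter_prod (φ : IrrCharacter G) (ψ : IrrCharacter H) :
    IsIrrCharacter (G × H) (fun x => (φ : G → ℂ) x.1 * (ψ : H → ℂ) x.2) := by
  have := Fintype.ofFinite G
  have := Fintype.ofFinite H
  refine isIrr_of_isCharacter_norm_one ?_ (by
    rw [classInner_prod, classInner_irr_self, classInner_irr_self, one_mul])
  exact isCharacter_mul (isCharacter_comp (isCharacter_irr φ) (MonoidHom.fst G H))
    (isCharacter_comp (isCharacter_irr ψ) (MonoidHom.snd G H))

theorem isIrrCharacter_prod_iff (θ : G × H → ℂ) :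
    IsIrrCharacter (G × H) θ ↔ ∃ (φ : G → ℂ) (ψ : H → ℂ),
      IsIrrCharacter G φ ∧ IsIrrCharacter H ψ ∧ θ = fun x => φ x.1 * ψ x.2 := by
  classical
  refine ⟨fun hθ => ?_, ?_⟩
  · have := Fintype.ofFinite G
    have := Fintype.ofFinite H
    let F : IrrCharacter G × IrrCharacter H → IrrCharacter (G × H) := fun p =>
      ⟨_, isIrrCharacter_prod p.1 p.2⟩
    have hF : Function.Injective F := by
      intro p p' e
      have h := classInner_prod (p.1 : G → ℂ) p'.1 (p.2 : H → ℂ) p'.2
      have e' := congrArg Subtype.val e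
      simp only [F] at e'
      rw [← e', classInner_irr_self (⟨_, isIrrCharacter_prod p.1 p.2⟩ : IrrCharacter (G × H)),
        classInner_irr, classInner_irr] at h
      by_cases h1 : p.1 = p'.1 <;> by_cases h2 : p.2 = p'.2 <;>
        first | exact Prod.ext h1 h2 | (simp [h1, h2] at h)
    have hcard : Nat.card (IrrCharacter G × IrrCharacter H) = Nat.card (IrrCharacter (G × H)) := by
      rw [Nat.card_prod, card_irr_eq_card_conjClasses, card_irr_eq_card_conjClasses,
        card_irr_eq_card_conjClasses, ← Nat.card_prod, Nat.card_congr conjClassesProdEquiv]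
    have hbij : Function.Bijective F :=
      (Nat.bijective_iff_injective_and_card F).mpr ⟨hF, hcard⟩
    obtain ⟨⟨φ, ψ⟩, e⟩ := hbij.2 ⟨θ, hθ⟩
    exact ⟨φ, ψ, φ.2, ψ.2, (congrArg Subtype.val e).symm⟩
  · rintro ⟨φ, ψ, h1, h2, rfl⟩
    exact isIrrCharacter_prod ⟨φ, h1⟩ ⟨ψ, h2⟩

end CfsgLib.Char
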