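import Cfsg.Agent.S0867
import Cfsg.Agent.Lib.Char.AutExtend
import Cfsg.Agent.Lib.Char.Gallagher
import Cfsg.Agent.Lib.Char.Inertia
import Cfsg.Agent.Lib.Char.Degree
import Cfsg.Agent.Lib.Char.Determine
import Cfsg.Agent.Lib.Char.Virtual
import Cfsg.Agent.Lib.Char.Product
import Cfsg.Prelude.Def_Blocks

/-!
# Canonical extensions to a coprime cyclic extension on the coset of a generator

For `Γ = G⟨σ⟩` with coprime orders and `C = C_G(σ)`, the functions `c ↦ χ̂ (c σ)` of the canonical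
extensions of the invariant characters are, up to sign, all the irreducible characters of `C`.
-/

set_option autoImplicit false
set_option linter.unusedSectionVars false

namespace CfsgLib.Char.CoprimeCyclic

open scoped ComplexConjugate
open Cfsg CfsgLib.Char

universe u

theorem detOrder_dvd_card {A : Type u} [Group A] [Finite A] {θ : A → ℂ} (hθ : IsIrrCharacter A θ) :
    detOrder θ ∣ Nat.card A := by
  obtain ⟨m, ρ, hρ, rfl⟩ := hθ
  rw [Cfsg.detOrder, detChar_eq, orderOf_fun_hom]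
  refine orderOf_dvd_of_pow_eq_one (MonoidHom.ext fun k => ?_)
  rw [MonoidHom.pow_apply, ← map_pow, pow_card_eq_one', map_one, MonoidHom.one_apply]

/-- The representation twisted by an automorphism of the field. -/
noncomputable def galoisRep {A : Type u} [Group A] {d : ℕ} (τ : ℂ ≃+* ℂ)
    (ρ : Representation ℂ A (Fin d → ℂ)) : Representation ℂ A (Fin d → ℂ) :=
  (Matrix.toLinAlgEquiv'.toRingEquiv.toMonoidHom).comp
    ((τ.toRingHom.mapMatrix.toMonoidHom).comp
      ((LinearMap.toMatrixAlgEquiv'.toRingEquiv.toMonoidHom).comp ρ))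

theorem galoisRep_apply {A : Type u} [Group A] {d : ℕ} (τ : ℂ ≃+* ℂ)
    (ρ : Representation ℂ A (Fin d → ℂ)) (a : A) :
    galoisRep τ ρ a = Matrix.toLin' ((LinearMap.toMatrix' (ρ a)).map τ) := rfl

theorem galoisRep_character {A : Type u} [Group A] {d : ℕ} (τ : ℂ ≃+* ℂ)
    (ρ : Representation ℂ A (Fin d → ℂ)) (a : A) :
    (galoisRep τ ρ).character a = τ (ρ.character a) := by
  rw [Representation.character, galoisRep_apply, Matrix.trace_toLin'_eq]
  rw [Representation.character, LinearMap.trace_eq_matrix_trace ℂ (Pi.basisFun ℂ (Fin d)),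
    LinearMap.toMatrix_eq_toMatrix']
  simp [Matrix.trace, map_sum]

theorem galoisRep_det {A : Type u} [Group A] {d : ℕ} (τ : ℂ ≃+* ℂ)
    (ρ : Representation ℂ A (Fin d → ℂ)) (a : A) :
    (detHom (galoisRep τ ρ) a : ℂ) = τ (detHom ρ a : ℂ) := by
  rw [detHom_coe, detHom_coe, galoisRep_apply, LinearMap.det_toLin', ← LinearMap.det_toMatrix']
  exact (RingHom.map_det τ.toRingHom _).symm

variable {Γ : Type u} [Group Γ] [Fintype Γ] {G C : Subgroup Γ} [hGn : G.Normal] [Fintype G]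
  [Fintype C] {σ : Γ} (hcop : (Nat.card G).Coprime (orderOf σ))
  (htop : G ⊔ Subgroup.zpowers σ = ⊤) (hC : C = G ⊓ Subgroup.centralizer (Subgroup.zpowers σ : Set Γ))

include hcop htop in
theorem index_eq : G.index = orderOf σ := by
  have hdisj : G ⊓ Subgroup.zpowers σ = ⊥ := by
    refine disjoint_iff.mp (Subgroup.disjoint_of_coprime_natCard ?_)
    rwa [Nat.card_zpowers]
  rw [← Subgroup.relIndex_top_right, ← htop, sup_comm, Subgroup.relIndex_sup_right,
    ← Subgroup.inf_relIndex_right, hdisj, Subgroup.relIndex_bot_left, Nat.card_zpowers]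

include hC in
theorem mem_C {c : Γ} : c ∈ C ↔ c ∈ G ∧ Commute σ c := by
  rw [hC, Subgroup.mem_inf, Subgroup.mem_centralizer_iff]
  refine and_congr_right fun _ => ⟨fun h => h σ (Subgroup.mem_zpowers σ), fun h y hy => ?_⟩
  obtain ⟨i, rfl⟩ := Subgroup.mem_zpowers_iff.mp hy
  exact (h.zpow_left i).eq

include hC in
theorem C_le : C ≤ G := hC ▸ inf_le_left

include hcop in
theorem exists_exponent : ∃ k : ℕ, (∀ g ∈ G, g ^ k = 1) ∧ σ ^ k = σ := by
  obtain ⟨k, hk1, hk2⟩ := Nat.chineseRemainder hcop 0 1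
  refine ⟨k, fun g hg => ?_, ?_⟩
  · obtain ⟨i, hi⟩ := Nat.modEq_zero_iff_dvd.mp hk1
    rw [hi, pow_mul]
    have h := congrArg Subtype.val (pow_card_eq_one' (x := (⟨g, hg⟩ : G)))
    rw [SubgroupClass.coe_pow, OneMemClass.coe_one] at h
    rw [h, one_pow]
  · conv_rhs => rw [← pow_one σ]
    exact pow_eq_pow_iff_modEq.mpr hk2

include hcop hC in
theorem eq_of_conj_eq {t : G} {c c' : C} (h : (t : Γ) * ((c : Γ) * σ) * (t : Γ)⁻¹ = (c' : Γ) * σ) :
    (t : Γ) ∈ C := by
  obtain ⟨k, hkG, hkσ⟩ := exists_exponent (G := G) hcop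
  have hk : ∀ d : C, ((d : Γ) * σ) ^ k = σ := fun d => by
    rw [((mem_C hC).mp d.2).2.symm.mul_pow, hkG _ (C_le hC d.2), hkσ, one_mul]
  have h1 := congrArg (· ^ k) h
  simp only [conj_pow, hk] at h1
  exact (mem_C hC).mpr ⟨t.2, (mul_inv_eq_iff_eq_mul.mp h1).symm⟩

include hcop hC in
/-- A class function summed over the coset. -/
theorem sum_coset (f : Γ → ℂ) (hf : IsClassFunction Γ f) :
    (Nat.card C : ℂ) * ∑ g : G, f ((g : Γ) * σ) = (Nat.card G : ℂ) * ∑ c : C, f ((c : Γ) * σ) := by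
  classical
  let C' : Subgroup G := C.subgroupOf G
  let F : (G ⧸ C') × C → G := fun x => ⟨(x.1.out : Γ) * (x.2 : Γ) * (σ * (x.1.out : Γ)⁻¹ * σ⁻¹),
    mul_mem (mul_mem x.1.out.2 (C_le hC x.2.2)) (hGn.conj_mem _ (inv_mem x.1.out.2) σ)⟩
  have hF : ∀ x, (F x : Γ) * σ = (x.1.out : Γ) * ((x.2 : Γ) * σ) * (x.1.out : Γ)⁻¹ := fun x => by
    simp only [F]; group
  have hinj : Function.Injective F := by
    rintro ⟨q, c⟩ ⟨q', c'⟩ h
    have h1 : (q.out : Γ) * ((c : Γ) * σ) * (q.out : Γ)⁻¹ =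
        (q'.out : Γ) * ((c' : Γ) * σ) * (q'.out : Γ)⁻¹ := by rw [← hF ⟨q, c⟩, ← hF ⟨q', c'⟩, h]
    have h2 : ((q'.out⁻¹ * q.out : G) : Γ) * ((c : Γ) * σ) * ((q'.out⁻¹ * q.out : G) : Γ)⁻¹ =
        (c' : Γ) * σ := by
      simp only [Subgroup.coe_mul, InvMemClass.coe_inv]
      calc _ = (q'.out : Γ)⁻¹ * ((q.out : Γ) * ((c : Γ) * σ) * (q.out : Γ)⁻¹) * (q'.out : Γ) := by group
        _ = _ := by rw [h1]; group
    have hq : q' = q := by
      rw [← q.out_eq', ← q'.out_eq', QuotientGroup.eq]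
      exact Subgroup.mem_subgroupOf.mpr (eq_of_conj_eq hcop hC h2)
    subst hq
    rw [inv_mul_cancel, OneMemClass.coe_one, one_mul, inv_one, mul_one] at h2
    exact Prod.ext rfl (Subtype.ext (mul_right_cancel h2))
  have hcard : Fintype.card ((G ⧸ C') × C) = Fintype.card G := by
    rw [← Nat.card_eq_fintype_card, ← Nat.card_eq_fintype_card, Nat.card_prod,
      ← Nat.card_congr (Subgroup.subgroupOfEquivOfLe (C_le hC)).toEquiv]
    exact (Subgroup.card_eq_card_quotient_mul_card_subgroup C').symm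
  have hbij := (Fintype.bijective_iff_injective_and_card F).mpr ⟨hinj, hcard⟩
  rw [← Fintype.sum_bijective F hbij (fun x => f ((F x : Γ) * σ)) _ fun _ => rfl,
    Fintype.sum_congr (fun x => f ((F x : Γ) * σ)) (fun x => f ((x.2 : Γ) * σ))
      (fun x => by rw [hF, hf]),
    Fintype.sum_prod_type, Finset.sum_congr rfl (g := fun _ : G ⧸ C' => ∑ c : C, f ((c : Γ) * σ))
      (fun x _ => rfl), Finset.sum_const, Finset.card_univ, nsmul_eq_mul, ← mul_assoc,
    ← Nat.cast_mul, ← Nat.card_eq_fintype_card,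
    ← Nat.card_congr (Subgroup.subgroupOfEquivOfLe (C_le hC)).toEquiv,
    Subgroup.card_eq_card_quotient_mul_card_subgroup C']
  push_cast
  ring

include hcop htop in
theorem coprime_index_mul (χ : IrrCharacter G) :
    Nat.Coprime G.index (detOrder (χ : G → ℂ) * charDegree (χ : G → ℂ)) := by
  rw [index_eq hcop htop]
  obtain ⟨d, hd0, hd⟩ := isIrrCharacter_degree χ.2
  have hd' : charDegree (χ : G → ℂ) = d := by simp [charDegree, hd]
  exact Nat.Coprime.mul_right (hcop.symm.of_dvd_right (detOrder_dvd_card χ.2))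
    (hd' ▸ hcop.symm.of_dvd_right (degree_dvd_card χ hd))

theorem charDegree_eq' (χ : IrrCharacter G) : (χ : G → ℂ) 1 = (charDegree (χ : G → ℂ) : ℂ) := by
  obtain ⟨d, -, hd⟩ := isIrrCharacter_degree χ.2
  simp [charDegree, hd]

/-- A canonical extension. -/
structure IsCanonical (σ : Γ) (χ : IrrCharacter G) (χh : IrrCharacter Γ) : Prop where
  res : ∀ g : G, (χh : Γ → ℂ) g = (χ : G → ℂ) g
  det : (detOrder (χh : Γ → ℂ)).Coprime (orderOf σ)

theorem IsCanonical.inv {χ : IrrCharacter G} {χh : IrrCharacter Γ} (h : IsCanonical σ χ χh)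
    (x : Γ) (g : G) :
    (χ : G → ℂ) ⟨x * g * x⁻¹, hGn.conj_mem g g.2 x⟩ = (χ : G → ℂ) g := by
  rw [← h.res, ← h.res]
  exact Char.isClassFunction_irr χh (g : Γ) x

include hcop htop in
theorem exists_canonical (χ : IrrCharacter G)
    (hinv : ∀ (x : Γ) (g : G), (χ : G → ℂ) ⟨x * g * x⁻¹, hGn.conj_mem g g.2 x⟩ = (χ : G → ℂ) g) :
    ∃ χh : IrrCharacter Γ, IsCanonical σ χ χh := by
  obtain ⟨χh, ⟨hirr, hres, hdet⟩, -⟩ := Cfsg.Agent.S0867.result G (χ : G → ℂ) χ.2 hinv
    (charDegree (χ : G → ℂ)) (charDegree_eq' χ) (coprime_index_mul hcop htop χ)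
  refine ⟨⟨χh, hirr⟩, hres, ?_⟩
  rw [hdet, ← index_eq hcop htop]
  exact (coprime_index_mul hcop htop χ).coprime_mul_right_right.symm

include hcop htop in
theorem IsCanonical.unique {χ : IrrCharacter G} {χh : IrrCharacter Γ} (h : IsCanonical σ χ χh)
    {ψ : Γ → ℂ} (hψ : IsIrrCharacter Γ ψ) (hres : ∀ g : G, ψ g = (χ : G → ℂ) g)
    (hdet : (detOrder ψ).Coprime (orderOf σ)) : ψ = (χh : Γ → ℂ) := by
  obtain ⟨χh', -, huniq⟩ := Cfsg.Agent.S0867.result G (χ : G → ℂ) χ.2 h.inv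
    (charDegree (χ : G → ℂ)) (charDegree_eq' χ) (coprime_index_mul hcop htop χ)
  rw [huniq ψ hψ hres (by rw [index_eq hcop htop]; exact hdet.symm),
    huniq _ χh.2 h.res (by rw [index_eq hcop htop]; exact h.det.symm)]

theorem fix_character {A : Type u} [Group A] [Finite A] {n : ℕ} {τ : ℂ ≃+* ℂ}
    (hτ : ∀ x : ℂ, x ^ n = 1 → τ x = x) (hn : Nat.card A ∣ n) {f : A → ℂ} (hf : IsCharacter A f)
    (a : A) : τ (f a) = f a := by
  obtain ⟨d, ρ, rfl⟩ := hf
  obtain ⟨b, μ, h1, -, h3⟩ := exists_eigen_data ρ a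
  have e := h3 1
  simp only [pow_one] at e
  rw [e, map_sum]
  refine Finset.sum_congr rfl fun i _ => hτ _ ?_
  obtain ⟨k, hk⟩ := (orderOf_dvd_natCard a).trans hn
  rw [hk, pow_mul, h1, one_pow]

include hcop htop in
/-- The values of a canonical extension are fixed by what fixes the `|G|`-th roots of unity. -/
theorem IsCanonical.fix {χ : IrrCharacter G} {χh : IrrCharacter Γ} (h : IsCanonical σ χ χh)
    {τ : ℂ ≃+* ℂ} (hτ : ∀ x : ℂ, x ^ Nat.card G = 1 → τ x = x) (x : Γ) :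
    τ ((χh : Γ → ℂ) x) = (χh : Γ → ℂ) x := by
  obtain ⟨m, ρ, hρ, he⟩ := χh.2
  set ψ := (galoisRep τ ρ).character with hψ
  have hval : ∀ y, ψ y = τ ((χh : Γ → ℂ) y) := fun y => by rw [hψ, galoisRep_character, he]
  have hres : ∀ g : G, ψ g = (χ : G → ℂ) g := fun g => by
    rw [hval, h.res, fix_character hτ dvd_rfl (isCharacter_irr χ)]
  have hψc : IsCharacter Γ ψ := ⟨m, galoisRep τ ρ, rfl⟩
  have hirr : IsIrrCharacter Γ ψ := by
    obtain ⟨d, ρ₀, hρ₀, he₀⟩ := χ.2
    obtain ⟨σ', hσ', hσ''⟩ := exists_rep_extension_top G ρ₀ hψc fun g => (hres g).trans (congrFun he₀.symm g)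
    rw [← hσ'']
    exact isIrrCharacter_of_extends G ρ₀ hσ'
  have hdet : (detOrder ψ).Coprime (orderOf σ) := by
    have h' := h.det
    rw [← he, Cfsg.detOrder, detChar_eq] at h'
    rw [hψ, Cfsg.detOrder, detChar_eq, show (fun g => (detHom (galoisRep τ ρ) g : ℂ)) =
      (τ.toRingHom.toMonoidHom.compLeft Γ) (fun g => (detHom ρ g : ℂ)) from
        funext fun g => galoisRep_det τ ρ g,
      orderOf_injective (τ.toRingHom.toMonoidHom.compLeft Γ) fun f f' e => funext fun g =>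
        τ.injective (congrFun e g)]
    exact h'
  rw [← hval, h.unique hcop htop hirr hres hdet]

/-- The value of the multiplicity of `β` on the coset of `t`. -/
noncomputable def multAt (χh : Γ → ℂ) (β : C → ℂ) (t : Γ) : ℂ :=
  classInner (fun c : C => χh ((c : Γ) * t)) β

include hC in
theorem isCharacter_multAt (χh : IrrCharacter Γ) (β : IrrCharacter C) :
    IsCharacter (Subgroup.zpowers σ) fun t => multAt (χh : Γ → ℂ) (β : C → ℂ) (t : Γ) := by
  classical
  have hcomm : ∀ (c : C) (t : Subgroup.zpowers σ), Commute (c : Γ) (t : Γ) := fun c t => by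
    obtain ⟨i, hi⟩ := Subgroup.mem_zpowers_iff.mp t.2
    rw [← hi]
    exact (((mem_C hC).mp c.2).2.zpow_left i).symm
  let μ : C × Subgroup.zpowers σ →* Γ :=
    MonoidHom.noncommCoprod C.subtype (Subgroup.zpowers σ).subtype hcomm
  have hΦ : IsCharacter (C × Subgroup.zpowers σ) fun x => (χh : Γ → ℂ) (μ x) :=
    isCharacter_comp (isCharacter_irr χh) μ
  refine isCharacter_of_nat_inner (fun a b => ?_) fun ψ => ?_
  · have e : ((b * a * b⁻¹ : Subgroup.zpowers σ)) = a := by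
      obtain ⟨_, i, rfl⟩ := a
      obtain ⟨_, j, rfl⟩ := b
      refine Subtype.ext ?_
      show σ ^ j * σ ^ i * (σ ^ j)⁻¹ = σ ^ i
      group
    simp only [e]
  · obtain ⟨m, hm⟩ := classInner_char_irr_nat hΦ ⟨_, isIrrCharacter_prod β ψ⟩
    refine ⟨m, Eq.trans ?_ hm⟩
    simp only [multAt, classInner, Nat.card_prod, Nat.cast_mul, mul_inv, map_mul,
      Fintype.sum_prod_type, Finset.mul_sum, Finset.sum_mul, μ, MonoidHom.noncommCoprod_apply,
      Subgroup.coe_subtype]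
    rw [Finset.sum_comm]
    exact Finset.sum_congr rfl fun c _ => Finset.sum_congr rfl fun t _ => by
      rw [show (C.subtype.noncommCoprod (Subgroup.zpowers σ).subtype hcomm) (c, t) = (c : Γ) * t from rfl]
      ring

include hcop htop hC in
/-- The multiplicities on the coset are integers, the same at every generator. -/
theorem exists_multAt_eq {χ : IrrCharacter G} {χh : IrrCharacter Γ} (h : IsCanonical σ χ χh)
    (β : IrrCharacter C) :
    ∃ z : ℤ, (∀ j : ℕ, j.Coprime (orderOf σ) → multAt (χh : Γ → ℂ) (β : C → ℂ) (σ ^ j) = z) ∧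
      (z ≠ 0 → classInner (fun c : C => (χ : G → ℂ) ⟨c, C_le hC c.2⟩) (β : C → ℂ) ≠ 0) := by
  have hu := isCharacter_multAt hC χh β
  obtain ⟨d, ρu, heu⟩ := hu
  set σ₀ : Subgroup.zpowers σ := ⟨σ, Subgroup.mem_zpowers σ⟩ with hσ₀
  have ho : Nat.card (Subgroup.zpowers σ) = orderOf σ := Nat.card_zpowers σ
  set b := multAt (χh : Γ → ℂ) (β : C → ℂ) σ with hb
  have hbu : b = ρu.character σ₀ := (congrFun heu σ₀).symm
  have hint : IsIntegral ℤ b := hbu ▸ isCharacter_isIntegral ⟨d, ρu, rfl⟩ σ₀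
  have hn0 : Nat.card G * orderOf σ ≠ 0 := Nat.mul_ne_zero Nat.card_pos.ne' (orderOf_pos σ).ne'
  -- an embedding fixing the `|G|`-th roots realising a given power on the `o`-th roots
  have hemb : ∀ j : ℕ, j.Coprime (orderOf σ) →
      ∃ φ : Alg →ₐ[ℚ] ℂ, φ ⟨b, mem_alg_of_isIntegral hint⟩ = b ∧
        φ ⟨b, mem_alg_of_isIntegral hint⟩ = ρu.character (σ₀ ^ j) := by
    intro j hj
    obtain ⟨i, hi1, hi2⟩ := Nat.chineseRemainder hcop 1 j
    have hi : i.Coprime (Nat.card G * orderOf σ) := by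
      refine Nat.Coprime.mul_right ?_ ?_
      · rw [Nat.coprime_comm, Nat.Coprime, Nat.gcd_rec, hi1, ← Nat.gcd_rec, Nat.gcd_one_right]
      · rw [Nat.coprime_comm, Nat.Coprime, Nat.gcd_rec, hi2, ← Nat.gcd_rec]
        exact hj.symm
    obtain ⟨φ, hφ⟩ := exists_embedding_of_coprime _ hn0 i hi
    refine ⟨φ, ?_, ?_⟩
    · obtain ⟨τ, hτ⟩ := exists_ringEquiv_extend φ
      have hτ' : ∀ x : ℂ, x ^ Nat.card G = 1 → τ x = x := fun x hx => by
        have hxi : IsIntegral ℤ x := isIntegral_of_pow_eq_one Nat.card_pos.ne' hx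
        have h1 := hτ ⟨x, mem_alg_of_isIntegral hxi⟩
        rw [h1, hφ _ (Subtype.ext (show x ^ _ = (1 : ℂ) by rw [pow_mul, hx, one_pow]))]
        show x ^ i = x
        conv_rhs => rw [← pow_one x]
        rw [← Nat.mod_add_div i (Nat.card G), hi1, pow_add, pow_mul, hx, one_pow, mul_one]
        rw [← Nat.mod_add_div 1 (Nat.card G), pow_add, pow_mul, hx, one_pow, mul_one,
          Nat.mod_add_div]
      rw [← hτ]
      show τ b = b
      simp only [hb, multAt, classInner, map_mul, map_inv₀, map_natCast, map_sum]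
      refine congrArg _ (Finset.sum_congr rfl fun c _ => ?_)
      rw [h.fix hcop htop hτ', ← Char.irr_inv, fix_character hτ'
        (Subgroup.card_dvd_of_le (C_le hC)) (isCharacter_irr β)]
    · refine (char_apply_embedding ρu φ i (fun x hx => hφ x ?_) σ₀ _ hbu).trans ?_
      · rw [mul_comm, pow_mul, ← ho, hx, one_pow]
      · congr 1
        rw [pow_eq_pow_iff_modEq, show orderOf σ₀ = orderOf σ from Subgroup.orderOf_mk σ _]
        exact hi2
  obtain ⟨z, hz⟩ := exists_int_of_fixed hint fun φ => by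
    obtain ⟨m, hm, hpow⟩ := exists_twist φ (orderOf σ) (orderOf_pos σ).ne'
    obtain ⟨φ', h1, h2⟩ := hemb m hm
    rw [char_apply_embedding ρu φ m (fun x hx => hpow x (by rwa [ho] at hx)) σ₀ _ hbu, ← h2, h1]
  refine ⟨z, fun j hj => ?_, fun hz0 h0 => hz0 ?_⟩
  · obtain ⟨φ', h1, h2⟩ := hemb j hj
    rw [← hz, ← h1, h2, heu]
    rfl
  · have h1 : ρu.character 1 = 0 := by
      rw [heu, ← h0]
      simp only [multAt, OneMemClass.coe_one, mul_one]
      exact congrArg (fun f => classInner f (β : C → ℂ)) (funext fun c => h.res ⟨c, C_le hC c.2⟩)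
    have h2 := congrFun (eq_zero_of_char_one_eq_zero ⟨d, ρu, rfl⟩ h1) σ₀
    rw [Pi.zero_apply, ← hbu, hz] at h2
    exact_mod_cast h2

include hcop hC in
theorem classInner_coset (χ χ' : IrrCharacter Γ) :
    classInner (fun c : C => (χ : Γ → ℂ) ((c : Γ) * σ)) (fun c : C => (χ' : Γ → ℂ) ((c : Γ) * σ)) =
      cosetAvg G (fun x => (χ : Γ → ℂ) x * conj ((χ' : Γ → ℂ) x)) σ := by
  have h := sum_coset hcop hC (fun x => (χ : Γ → ℂ) x * conj ((χ' : Γ → ℂ) x)) fun a b => by
    simp only [Char.isClassFunction_irr χ a b, Char.isClassFunction_irr χ' a b]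
  simp only [classInner, cosetAvg]
  have hG : (Nat.card G : ℂ) ≠ 0 := Nat.cast_ne_zero.mpr Nat.card_pos.ne'
  have hCc : (Nat.card C : ℂ) ≠ 0 := Nat.cast_ne_zero.mpr Nat.card_pos.ne'
  field_simp
  linear_combination -h

include hcop htop hC in
theorem classInner_canonical {χ χ' : IrrCharacter G} {χh χh' : IrrCharacter Γ}
    (h : IsCanonical σ χ χh) (h' : IsCanonical σ χ' χh') [Decidable (χ = χ')] :
    classInner (fun c : C => (χh : Γ → ℂ) ((c : Γ) * σ)) (fun c : C => (χh' : Γ → ℂ) ((c : Γ) * σ)) =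
      if χ = χ' then 1 else 0 := by
  rw [classInner_coset hcop hC]
  split_ifs with e
  · subst e
    obtain rfl : χh' = χh := Subtype.ext (h.unique hcop htop χh'.2 h'.res h'.det)
    rw [cosetAvg_self_eq_one G χh' (by rw [funext h.res]; exact χ.2)]
  · refine congrFun (eq_zero_of_char_one_eq_zero (isCharacter_cosetAvg G
      (isCharacter_mul (isCharacter_irr χh) (isCharacter_conj (isCharacter_irr χh')))) ?_) σ
    show cosetAvg G (fun x => (χh : Γ → ℂ) x * conj ((χh' : Γ → ℂ) x)) 1 = 0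
    rw [cosetAvg_one_eq G, funext h.res, funext h'.res, classInner_irr_ne e]

include hcop htop hC in
/-- The canonical extension is a signed irreducible character of `C` on the coset. -/
theorem exists_signed {χ : IrrCharacter G} {χh : IrrCharacter Γ} (h : IsCanonical σ χ χh) :
    ∃ (β : IrrCharacter C) (ε : ℤ), (ε = 1 ∨ ε = -1) ∧
      (∀ (c : C) (j : ℕ), j.Coprime (orderOf σ) →
        (χh : Γ → ℂ) ((c : Γ) * σ ^ j) = (ε : ℂ) * (β : C → ℂ) c) ∧
      classInner (fun c : C => (χ : G → ℂ) ⟨c, C_le hC c.2⟩) (β : C → ℂ) ≠ 0 := by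
  classical
  have := Fintype.ofFinite (IrrCharacter C)
  choose z hz hz' using exists_multAt_eq hcop htop hC h
  have hexp : ∀ (c : C) (j : ℕ), j.Coprime (orderOf σ) →
      (χh : Γ → ℂ) ((c : Γ) * σ ^ j) = ∑ β : IrrCharacter C, (z β : ℂ) * (β : C → ℂ) c := by
    intro c j hj
    have hcf : IsClassFunction C fun c : C => (χh : Γ → ℂ) ((c : Γ) * σ ^ j) := fun a b => by
      have hb : Commute (σ ^ j) (b : Γ)⁻¹ := (((mem_C hC).mp b.2).2.pow_left j).inv_right
      show (χh : Γ → ℂ) ((b : Γ) * a * (b : Γ)⁻¹ * σ ^ j) = _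
      rw [mul_assoc ((b : Γ) * a), ← hb.eq, ← mul_assoc, mul_assoc (b : Γ)]
      exact Char.isClassFunction_irr χh _ _
    have e := congrFun (classFun_expand hcf) c
    rw [e, Finset.sum_apply]
    exact Finset.sum_congr rfl fun β _ => by rw [Pi.smul_apply, smul_eq_mul, ← hz β j hj]; rfl
  have hnorm : ∑ β : IrrCharacter C, z β * z β = 1 := by
    have h1 := classInner_canonical hcop htop hC h h
    rw [if_pos rfl] at h1
    have hf : (fun c : C => (χh : Γ → ℂ) ((c : Γ) * σ)) =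
        ∑ β : IrrCharacter C, (z β : ℂ) • (β : C → ℂ) := funext fun c => by
      have e := hexp c 1 (Nat.coprime_one_left _)
      rw [pow_one] at e
      rw [e, Finset.sum_apply]
      exact Finset.sum_congr rfl fun β _ => by rw [Pi.smul_apply, smul_eq_mul]
    rw [hf, classInner_sum_left, Finset.sum_congr rfl fun β _ => show
      classInner ((z β : ℂ) • (β : C → ℂ)) (∑ γ : IrrCharacter C, (z γ : ℂ) • (γ : C → ℂ)) =
        ((z β * z β : ℤ) : ℂ) by
      rw [classInner_smul_left, classInner_sum_right, Finset.sum_eq_single β]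
      · rw [classInner_smul_right, classInner_irr_self, map_intCast, Int.cast_mul, mul_one]
      · intro γ _ hne
        rw [classInner_smul_right, classInner_irr_ne (Ne.symm hne), mul_zero]
      · exact fun hn => absurd (Finset.mem_univ β) hn, ← Int.cast_sum] at h1
    exact_mod_cast h1
  obtain ⟨β₀, -, hβ₀⟩ := Finset.exists_ne_zero_of_sum_ne_zero (hnorm.trans_ne one_ne_zero)
  have hz0 : z β₀ ≠ 0 := left_ne_zero_of_mul hβ₀
  have hsplit : z β₀ * z β₀ + ∑ β ∈ Finset.univ.erase β₀, z β * z β = 1 := by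
    rw [Finset.add_sum_erase _ (fun β => z β * z β) (Finset.mem_univ β₀)]; exact hnorm
  have hnn : 0 ≤ ∑ β ∈ Finset.univ.erase β₀, z β * z β :=
    Finset.sum_nonneg fun β _ => mul_self_nonneg _
  have hpos : 0 < z β₀ * z β₀ := mul_self_pos.mpr hz0
  have hrest : ∀ β, β ≠ β₀ → z β = 0 := fun β hβ => by
    have h2 : ∑ β ∈ Finset.univ.erase β₀, z β * z β = 0 := by omega
    exact mul_self_eq_zero.mp ((Finset.sum_eq_zero_iff_of_nonneg fun β _ => mul_self_nonneg _).mp h2 β
      (Finset.mem_erase.mpr ⟨hβ, Finset.mem_univ β⟩))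
  refine ⟨β₀, z β₀, ?_, fun c j hj => ?_, hz' β₀ hz0⟩
  · exact mul_self_eq_one_iff.mp (by omega)
  · rw [hexp c j hj, Finset.sum_eq_single β₀ (fun β _ hβ => by rw [hrest β hβ, Int.cast_zero, zero_mul])
      fun hn => absurd (Finset.mem_univ β₀) hn]

theorem eq_of_signed_eq {β β' : IrrCharacter C} {ε ε' : ℤ} (hε : ε = 1 ∨ ε = -1)
    (hε' : ε' = 1 ∨ ε' = -1) (h : ∀ c : C, (ε : ℂ) * (β : C → ℂ) c = (ε' : ℂ) * (β' : C → ℂ) c) :
    β = β' ∧ ε = ε' := by
  have h1 : ((ε : ℂ) • (β : C → ℂ)) = (ε' : ℂ) • (β' : C → ℂ) := funext h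
  have hb : β = β' := by
    by_contra hne
    have h2 := congrArg (classInner · (β : C → ℂ)) h1
    simp only [classInner_smul_left, classInner_irr_self, classInner_irr_ne (Ne.symm hne), mul_zero,
      mul_one] at h2
    rcases hε with e | e <;> rw [e] at h2 <;> norm_num at h2
  refine ⟨hb, ?_⟩
  subst hb
  have h2 := mul_right_cancel₀ (irr_one_ne_zero β) (h 1)
  exact_mod_cast h2

include hcop htop hC in
/-- Every irreducible character of `C` occurs. -/
theorem exists_preimage (β : IrrCharacter C) :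
    ∃ (χ : IrrCharacter G) (χh : IrrCharacter Γ) (ε : ℤ), IsCanonical σ χ χh ∧
      (ε = 1 ∨ ε = -1) ∧ ∀ (c : C) (j : ℕ), j.Coprime (orderOf σ) →
        (χh : Γ → ℂ) ((c : Γ) * σ ^ j) = (ε : ℂ) * (β : C → ℂ) c := by
  classical
  have := Fintype.ofFinite (IrrCharacter Γ)
  let F : Γ → ℂ := fun x => ∑ v : Γ, ∑ c : C,
    if v⁻¹ * x * v = (c : Γ) * σ then (β : C → ℂ) c else 0
  have hFc : IsClassFunction Γ F := by
    intro a b
    refine Fintype.sum_equiv (Equiv.mulLeft b⁻¹) _ _ fun v => Finset.sum_congr rfl fun c _ => ?_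
    refine if_congr (Iff.of_eq (congrArg (· = _) ?_)) rfl rfl
    show v⁻¹ * (b * a * b⁻¹) * v = (b⁻¹ * v)⁻¹ * a * (b⁻¹ * v)
    group
  have hinner : ∀ ψ : IrrCharacter Γ, classInner F (ψ : Γ → ℂ) =
      ∑ c : C, (β : C → ℂ) c * conj ((ψ : Γ → ℂ) ((c : Γ) * σ)) := by
    intro ψ
    rw [classInner, show ∑ x, F x * conj ((ψ : Γ → ℂ) x) =
        ∑ v : Γ, ∑ c : C, (β : C → ℂ) c * conj ((ψ : Γ → ℂ) ((c : Γ) * σ)) by
      simp only [F, Finset.sum_mul]
      rw [Finset.sum_comm]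
      refine Finset.sum_congr rfl fun v _ => ?_
      rw [Finset.sum_comm]
      refine Finset.sum_congr rfl fun c _ => ?_
      rw [Finset.sum_eq_single (v * ((c : Γ) * σ) * v⁻¹)]
      · rw [if_pos (by group), Char.isClassFunction_irr ψ]
      · intro x _ hx
        rw [if_neg fun e => hx (by rw [← e]; group), zero_mul]
      · exact fun hn => absurd (Finset.mem_univ _) hn,
      Finset.sum_const, Finset.card_univ, nsmul_eq_mul, ← mul_assoc, ← Nat.card_eq_fintype_card,
      inv_mul_cancel₀ (Nat.cast_ne_zero.mpr Nat.card_pos.ne'), one_mul]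
  have hF0 : F σ ≠ 0 := by
    obtain ⟨k, hkG, hkσ⟩ := exists_exponent (G := G) hcop
    have hval : F σ = ∑ v : Γ, if v⁻¹ * σ * v = σ then (β : C → ℂ) 1 else 0 := by
      refine Finset.sum_congr rfl fun v _ => ?_
      rw [Finset.sum_eq_single (1 : C)]
      · rw [OneMemClass.coe_one, one_mul]
      · intro c _ hc
        refine if_neg fun e => hc ?_
        have h1 := congrArg (· ^ k) e
        simp only [((mem_C hC).mp c.2).2.symm.mul_pow, hkG _ (C_le hC c.2), hkσ, one_mul] at h1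
        have h2 := conj_pow (a := v⁻¹) (b := σ) (i := k)
        rw [inv_inv, hkσ] at h2
        rw [h2] at h1
        rw [h1] at e
        exact Subtype.ext (mul_eq_right.mp e.symm)
      · exact fun hn => absurd (Finset.mem_univ _) hn
    rw [hval, ← Finset.sum_filter, Finset.sum_const, nsmul_eq_mul]
    refine mul_ne_zero (Nat.cast_ne_zero.mpr (Finset.card_ne_zero.mpr ⟨1, ?_⟩)) (irr_one_ne_zero β)
    simp
  obtain ⟨ψ, hψ⟩ : ∃ ψ : IrrCharacter Γ, classInner F (ψ : Γ → ℂ) ≠ 0 := by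
    by_contra hall
    push Not at hall
    exact hF0 (by rw [classFun_expand hFc]; simp [hall])
  rw [hinner] at hψ
  obtain ⟨c₀, -, hc₀⟩ := Finset.exists_ne_zero_of_sum_ne_zero hψ
  have hc₀' : (ψ : Γ → ℂ) ((c₀ : Γ) * σ) ≠ 0 := fun e => hc₀ (by rw [e, map_zero, mul_zero])
  obtain ⟨θ, hθ⟩ := exists_irr_inner_ne_zero
    (isCharacter_comp (isCharacter_irr ψ) G.subtype) (fun e => irr_one_ne_zero ψ (congrFun e 1))
  -- the constituent is invariant
  set T := inertia G (θ : G → ℂ) with hT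
  have hGT : G ≤ T := le_inertia G (isClassFunction_irr θ)
  have hσT : σ ∈ T := by
    by_contra hσT
    obtain ⟨φ, -, hind⟩ := exists_inertia_correspondent G ψ.2 θ.2 hθ
    refine hc₀' ?_
    rw [hind, indFun, Finset.sum_eq_zero, mul_zero]
    intro x _
    rw [extendByZero, Function.extend_apply' _ _ _ ?_]
    · rfl
    rintro ⟨y, hy⟩
    apply hσT
    have hmk : ((x⁻¹ * ((c₀ : Γ) * σ) * x : Γ) : Γ ⧸ G) = (σ : Γ ⧸ G) := by
      obtain ⟨g, hg, w, hw, hgw⟩ := Subgroup.mem_sup_of_normal_left.mp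
        (show x ∈ G ⊔ Subgroup.zpowers σ by rw [htop]; exact Subgroup.mem_top x)
      obtain ⟨i, rfl⟩ := Subgroup.mem_zpowers_iff.mp hw
      simp only [← hgw, QuotientGroup.mk_mul, QuotientGroup.mk_inv,
        (QuotientGroup.eq_one_iff g).mpr hg, (QuotientGroup.eq_one_iff (c₀ : Γ)).mpr (C_le hC c₀.2),
        QuotientGroup.mk_zpow, one_mul, mul_inv_rev, inv_one, mul_one]
      group
    have h1 : (x⁻¹ * ((c₀ : Γ) * σ) * x)⁻¹ * σ ∈ G := QuotientGroup.eq.mp hmk
    have h2 : x⁻¹ * ((c₀ : Γ) * σ) * x ∈ T := by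
      rw [← hy]
      exact y.2
    simpa [mul_assoc] using mul_mem h2 (hGT h1)
  have hinv : ∀ (x : Γ) (g : G),
      (θ : G → ℂ) ⟨x * g * x⁻¹, hGn.conj_mem g g.2 x⟩ = (θ : G → ℂ) g := by
    intro x g
    have hx : x ∈ T := (htop ▸ sup_le hGT (Subgroup.zpowers_le.mpr hσT) : ⊤ ≤ T) (Subgroup.mem_top x)
    exact congrFun ((mem_inertia G (θ : G → ℂ) x).mp hx) g
  obtain ⟨θh, hθh⟩ := exists_canonical hcop htop θ hinv
  have hirr : IsIrrCharacter G fun n : G => (θh : Γ → ℂ) n := by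
    rw [funext hθh.res]; exact θ.2
  obtain ⟨-, hprod⟩ := gallagher G θh hirr ψ (by rw [funext hθh.res]; exact hθ)
  set η := cosetAvg G (fun x => (ψ : Γ → ℂ) x * conj ((θh : Γ → ℂ) x)) with hη
  obtain ⟨β', ε, hε, hval, -⟩ := exists_signed hcop htop hC hθh
  refine ⟨θ, θh, ε, hθh, hε, ?_⟩
  suffices hb : β' = β by subst hb; exact hval
  by_contra hne
  apply hψ
  have hterm : ∀ c : C, (ψ : Γ → ℂ) ((c : Γ) * σ) = η σ * ((ε : ℂ) * (β' : C → ℂ) c) := fun c => by
    rw [hprod, Pi.mul_apply, ← hval c 1 (Nat.coprime_one_left _), pow_one, hη,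
      cosetAvg_mul_left G _ ⟨c, C_le hC c.2⟩ σ, mul_comm]
  have h0 := classInner_irr_ne (Ne.symm hne)
  rw [classInner, mul_eq_zero] at h0
  have h0' := h0.resolve_left (inv_ne_zero (Nat.cast_ne_zero.mpr Nat.card_pos.ne'))
  simp only [hterm, map_mul, map_intCast]
  rw [Finset.sum_congr rfl fun c _ => show (β : C → ℂ) c * (conj (η σ) * ((ε : ℂ) * conj ((β' : C → ℂ) c))) =
    (conj (η σ) * ε) * ((β : C → ℂ) c * conj ((β' : C → ℂ) c)) by ring, ← Finset.mul_sum, h0', mul_zero]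

end CfsgLib.Char.CoprimeCyclic
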