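import Cfsg.Agent.Lib.Char.Extend
import Cfsg.Agent.Lib.Char.Virtual

/-!
# Extensions of invariant characters
-/

set_option autoImplicit false
set_option linter.unusedSectionVars false

namespace CfsgLib.Char

open Representation Module Cfsg

universe u v

section Det

variable {G : Type u} [Group G]

/-- The determinant of a representation as a linear character. -/
noncomputable def detHom {V : Type v} [AddCommGroup V] [Module ℂ V] (ρ : Representation ℂ G V) :
    G →* ℂˣ :=
  (Units.map (LinearMap.det : (V →ₗ[ℂ] V) →* ℂ)).comp ρ.toHomUnits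

theorem detHom_coe {V : Type v} [AddCommGroup V] [Module ℂ V] (ρ : Representation ℂ G V) (g : G) :
    (detHom ρ g : ℂ) = LinearMap.det (ρ g) := rfl

theorem det_eq_of_equiv {V : Type v} [AddCommGroup V] [Module ℂ V] {W : Type v} [AddCommGroup W]
    [Module ℂ W] {ρ : Representation ℂ G V} {σ : Representation ℂ G W} (φ : ρ.Equiv σ) (g : G) :
    LinearMap.det (σ g) = LinearMap.det (ρ g) := by
  rw [← LinearMap.det_conj (ρ g) φ.toLinearEquiv]
  congr 1
  refine LinearMap.ext fun w => ?_
  obtain ⟨v, rfl⟩ := φ.toLinearEquiv.surjective w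
  simp only [LinearMap.comp_apply, LinearEquiv.coe_coe, LinearEquiv.symm_apply_apply]
  exact (Representation.IntertwiningMap.isIntertwining ρ σ φ.toIntertwiningMap g v).symm

theorem detChar_eq [Finite G] {m : ℕ} (ρ : Representation ℂ G (Fin m → ℂ)) :
    detChar ρ.character = fun g => (detHom ρ g : ℂ) := by
  have h : IsCharacter G ρ.character := ⟨m, ρ, rfl⟩
  unfold detChar
  rw [dif_pos h]
  funext g
  obtain ⟨φ⟩ := nonempty_equiv_of_character_eq ρ (Classical.choose (Classical.choose_spec h))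
    (Classical.choose_spec (Classical.choose_spec h)).symm
  exact det_eq_of_equiv φ g

theorem orderOf_fun_hom (f : G →* ℂˣ) : orderOf (fun g => (f g : ℂ)) = orderOf f :=
  orderOf_injective
    { toFun := fun (f : G →* ℂˣ) (g : G) => (f g : ℂ)
      map_one' := rfl
      map_mul' := fun _ _ => rfl }
    (fun _ _ h => MonoidHom.ext fun g => Units.ext (congrFun h g)) f

theorem exists_hom_of_linear [Finite G] {lam : G → ℂ} (h : IsCharacter G lam) (h1 : lam 1 = 1) :
    ∃ f : G →* ℂˣ, lam = fun g => (f g : ℂ) := by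
  obtain ⟨m, ρ, rfl⟩ := h
  have hd : finrank ℂ (Fin m → ℂ) = 1 := by
    have := (Representation.char_one ρ).symm.trans h1
    exact_mod_cast this
  have hirr : IsIrrCharacter G ρ.character := ⟨m, ρ, isIrreducible_of_finrank_eq_one ρ hd, rfl⟩
  obtain ⟨f, hf⟩ := linearCharEquiv.surjective
    (⟨⟨_, hirr⟩, h1⟩ : {χ : IrrCharacter G // (χ : G → ℂ) 1 = 1})
  exact ⟨f, (congrArg (fun z => ((z.1 : IrrCharacter G) : G → ℂ)) hf).symm⟩

theorem isCharacter_hom [Finite G] (f : G →* ℂˣ) : IsCharacter G (fun g => (f g : ℂ)) :=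
  isCharacter_of_isIrr (isIrrCharacter_lin f)

end Det

section Twist

variable {G : Type u} [Group G] {V : Type v} [AddCommGroup V] [Module ℂ V]

/-- A representation multiplied by a linear character. -/
noncomputable def twistRep (σ : Representation ℂ G V) (ν : G →* ℂˣ) : Representation ℂ G V where
  toFun g := (ν g : ℂ) • σ g
  map_one' := by rw [map_one, Units.val_one, one_smul, map_one]
  map_mul' a b := by
    rw [map_mul, Units.val_mul, map_mul, smul_mul_smul_comm]

theorem detHom_twistRep [FiniteDimensional ℂ V] (σ : Representation ℂ G V) (ν : G →* ℂˣ) :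
    detHom (twistRep σ ν) = detHom σ * ν ^ finrank ℂ V := by
  ext g
  rw [MonoidHom.mul_apply, MonoidHom.pow_apply, Units.val_mul, Units.val_pow_eq_pow_val,
    detHom_coe, detHom_coe]
  show LinearMap.det ((ν g : ℂ) • σ g) = _
  rw [LinearMap.det_smul, mul_comm]

variable {N : Subgroup G}

theorem isIrreducible_of_restrict (σ : Representation ℂ G V) (ρ : Representation ℂ N V)
    [hρ : ρ.IsIrreducible] (h : ∀ n : N, σ n = ρ n) : σ.IsIrreducible := by
  have := nontrivial_of_irreducible ρ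
  let r : Subrepresentation σ → Subrepresentation ρ := fun S =>
    ⟨S.toSubmodule, fun n v hv => h n ▸ S.apply_mem_toSubmodule (n : G) hv⟩
  have hne : Nontrivial (Subrepresentation σ) := by
    refine ⟨⊥, ⊤, fun e => ?_⟩
    have e' : (⊥ : Submodule ℂ V) = ⊤ := congrArg Subrepresentation.toSubmodule e
    exact bot_ne_top e'
  refine ⟨fun S => ?_⟩
  rcases hρ.eq_bot_or_eq_top (r S) with e | e
  · have e' : S.toSubmodule = ⊥ := congrArg Subrepresentation.toSubmodule e
    exact Or.inl (Subrepresentation.toSubmodule_injective e')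
  · have e' : S.toSubmodule = ⊤ := congrArg Subrepresentation.toSubmodule e
    exact Or.inr (Subrepresentation.toSubmodule_injective e')

end Twist

variable {G : Type u} [Group G] [Finite G] (N : Subgroup G) [hN : N.Normal] {d : ℕ}
  (ρ : Representation ℂ N (Fin d → ℂ)) [hρ : ρ.IsIrreducible]

include hρ in
/-- An extension of the character of `ρ` is afforded by an extension of `ρ`. -/
theorem exists_rep_extension (P : Subgroup G) (hNP : N ≤ P) {η : P → ℂ} (hη : IsCharacter P η)
    (hres : ∀ n : N, η ⟨(n : G), hNP n.2⟩ = ρ.character n) :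
    ∃ σ : Representation ℂ P (Fin d → ℂ),
      (∀ n : N, σ (Subgroup.inclusion hNP n) = ρ n) ∧ σ.character = η := by
  obtain ⟨m, σ₀, rfl⟩ := hη
  let res : Representation ℂ N (Fin m → ℂ) := σ₀.comp (Subgroup.inclusion hNP)
  obtain ⟨φ⟩ := nonempty_equiv_of_character_eq res ρ (funext fun n => hres n)
  refine ⟨conjRep σ₀ φ.toLinearEquiv, fun n => LinearMap.ext fun v => ?_, character_conjRep σ₀ _⟩
  obtain ⟨w, rfl⟩ := φ.toLinearEquiv.surjective v
  rw [conjRep_apply]
  exact Representation.IntertwiningMap.isIntertwining res ρ φ.toIntertwiningMap n w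

include hρ in
theorem exists_rep_extension_top {η : G → ℂ} (hη : IsCharacter G η)
    (hres : ∀ n : N, η n = ρ.character n) :
    ∃ σ : Representation ℂ G (Fin d → ℂ), (∀ n : N, σ n = ρ n) ∧ σ.character = η := by
  obtain ⟨m, σ₀, rfl⟩ := hη
  let res : Representation ℂ N (Fin m → ℂ) := σ₀.comp N.subtype
  obtain ⟨φ⟩ := nonempty_equiv_of_character_eq res ρ (funext fun n => hres n)
  refine ⟨conjRep σ₀ φ.toLinearEquiv, fun n => LinearMap.ext fun v => ?_, character_conjRep σ₀ _⟩
  obtain ⟨w, rfl⟩ := φ.toLinearEquiv.surjective v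
  rw [conjRep_apply]
  exact Representation.IntertwiningMap.isIntertwining res ρ φ.toIntertwiningMap n w

theorem isIrrCharacter_of_extends {σ : Representation ℂ G (Fin d → ℂ)} (h : ∀ n : N, σ n = ρ n) :
    IsIrrCharacter G σ.character :=
  ⟨d, σ, isIrreducible_of_restrict σ ρ h, rfl⟩

theorem exists_char_of_rep (h : ∃ σ : Representation ℂ G (Fin d → ℂ), ∀ n : N, σ n = ρ n) :
    ∃ χ : G → ℂ, IsIrrCharacter G χ ∧ ∀ n : N, χ n = ρ.character n := by
  obtain ⟨σ, hσ⟩ := h
  exact ⟨σ.character, isIrrCharacter_of_extends N ρ hσ,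
    fun n => congrArg (LinearMap.trace ℂ _) (hσ n)⟩

/-- Two extensions of `ρ` differ by a linear character trivial on `N`. -/
theorem exists_twist_eq {σ σ' : Representation ℂ G (Fin d → ℂ)} (h : ∀ n : N, σ n = ρ n)
    (h' : ∀ n : N, σ' n = ρ n) :
    ∃ ν : G →* ℂˣ, (∀ n : N, ν n = 1) ∧ σ' = twistRep σ ν := by
  have := nontrivial_coord N ρ
  obtain ⟨ν, hν⟩ := exists_scalar_hom (Fin d → ℂ) σ'.toHomUnits σ.toHomUnits fun g => by
    obtain ⟨c, hc⟩ := exists_scalU_of_commute N ρ (σ'.toHomUnits g * (σ.toHomUnits g)⁻¹) fun n => by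
      set m : N := normalConjHom N g⁻¹ n
      have hm : (m : G) = g⁻¹ * n * g⁻¹⁻¹ := rfl
      have e1 : σ g⁻¹ * ρ n = ρ m * σ g⁻¹ := by
        rw [← h, ← h, ← map_mul, ← map_mul, hm]
        congr 1
        group
      have e2 : σ' g * ρ m = ρ n * σ' g := by
        rw [← h', ← h', ← map_mul, ← map_mul, hm]
        congr 1
        group
      rw [← map_inv]
      show σ' g * σ g⁻¹ * ρ n = ρ n * (σ' g * σ g⁻¹)
      rw [mul_assoc, e1, ← mul_assoc, e2, mul_assoc]
    exact ⟨c, by rw [← hc, inv_mul_cancel_right]⟩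
  refine ⟨ν, fun n => ?_, MonoidHom.ext fun g => ?_⟩
  · refine scalU_injective (Fin d → ℂ) ?_
    have h1 := hν n
    rw [show σ'.toHomUnits (n : G) = σ.toHomUnits (n : G) from Units.ext ((h' n).trans (h n).symm),
      eq_comm, mul_eq_right] at h1
    rw [h1, map_one]
  · have h1 := congrArg Units.val (hν g)
    rw [Units.val_mul, scalU_coe, ← Algebra.smul_def] at h1
    exact h1

theorem twistRep_extends {σ : Representation ℂ G (Fin d → ℂ)} (h : ∀ n : N, σ n = ρ n)
    {ν : G →* ℂˣ} (hν : ∀ n : N, ν n = 1) (n : N) : twistRep σ ν n = ρ n := by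
  show (ν n : ℂ) • σ n = ρ n
  rw [hν, Units.val_one, one_smul, h]

theorem isInvariant_iff {ϑ : N → ℂ} (hϑ : ρ.character = ϑ) :
    IsInvariant N ρ ↔ ∀ (g : G) (n : N), ϑ ⟨g * n * g⁻¹, hN.conj_mem (n : G) n.2 g⟩ = ϑ n := by
  subst hϑ
  rfl

/-- A linear character of `G` trivial on `N` has order dividing the index. -/
theorem pow_index_eq_one_of_trivial (θ : G →* ℂˣ) (h : ∀ n : N, θ n = 1) : θ ^ N.index = 1 :=
  MonoidHom.ext fun g => by
    rw [MonoidHom.pow_apply, ← map_pow]
    exact h ⟨_, N.pow_index_mem g⟩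

theorem exists_eq_pow_of_coprime {A : Type*} [CommGroup A] {θ : A} {m k : ℕ} (hθ : θ ^ m = 1)
    (hco : Nat.Coprime m k) : ∃ ν : A, ν ^ k = θ ∧ ν ^ m = 1 := by
  refine ⟨θ ^ (Nat.gcdA k m), ?_, ?_⟩
  · have h : ((k.gcd m : ℕ) : ℤ) = k * Nat.gcdA k m + m * Nat.gcdB k m := Nat.gcd_eq_gcd_ab k m
    rw [hco.symm.gcd_eq_one, Nat.cast_one] at h
    rw [← zpow_natCast, ← zpow_mul]
    conv_rhs => rw [← zpow_one θ, h, zpow_add, zpow_mul θ (m : ℤ), zpow_natCast, hθ, one_zpow,
      mul_one, mul_comm]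
  · rw [← zpow_natCast, ← zpow_mul, mul_comm, zpow_mul, zpow_natCast, hθ, one_zpow]

theorem eq_one_of_pow_coprime {A : Type*} [CommGroup A] {x : A} {m k : ℕ} (hm : x ^ m = 1)
    (hk : x ^ k = 1) (hco : Nat.Coprime m k) : x = 1 := by
  have := pow_gcd_eq_one.mpr ⟨hm, hk⟩
  rwa [hco.gcd_eq_one, pow_one] at this

end CfsgLib.Char
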