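import Cfsg.Agent.Lib.Char.LinearSylow
import Cfsg.Agent.Lib.Char.CoprimeCyclicAction
import Cfsg.Agent.Lib.Char.ExtendChar

/-!
# Blichfeldt: the large primes of a linear group

In a linear group of degree `n` the Sylow subgroups for two primes above `n + 1` can be chosen to
commute, and the primes above `n + 1` have an abelian Hall subgroup.
-/

open scoped ComplexConjugate

set_option autoImplicit false
set_option linter.unusedSectionVars false

namespace CfsgLib.Char.BlichfeldtPi

open Cfsg CfsgLib.Char Representation Module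

universe u

/-- Some full `q`- and `r`-subgroups commute. -/
def Comm (G : Type u) [Group G] (q r : ℕ) : Prop :=
  ∃ A B : Subgroup G, Nat.card A = q ^ (Nat.card G).factorization q ∧
    Nat.card B = r ^ (Nat.card G).factorization r ∧ ∀ a ∈ A, ∀ b ∈ B, a * b = b * a

variable {G : Type u} [Group G] [Finite G]

theorem Comm.symm {q r : ℕ} (h : Comm G q r) : Comm G r q := by
  obtain ⟨A, B, hA, hB, hc⟩ := h
  exact ⟨B, A, hB, hA, fun b hb a ha => (hc a ha b hb).symm⟩

/-- A full subgroup commuting with a given `r`-subgroup. -/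
theorem Comm.exists_le {q r : ℕ} [Fact r.Prime] (h : Comm G q r) {V : Subgroup G} (hV : IsPGroup r V) :
    ∃ A : Subgroup G, Nat.card A = q ^ (Nat.card G).factorization q ∧
      ∀ a ∈ A, ∀ b ∈ V, a * b = b * a := by
  obtain ⟨A, B, hA, hB, hc⟩ := h
  obtain ⟨Q, hQ⟩ := hV.exists_le_sylow
  obtain ⟨g, hg⟩ := MulAction.exists_smul_eq G (Sylow.ofCard B hB) Q
  refine ⟨A.map (MulAut.conj g).toMonoidHom, ?_, ?_⟩
  · rw [Subgroup.card_map_of_injective (MulAut.conj g).injective, hA]
  · rintro _ ⟨a, ha, rfl⟩ b hb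
    have hb' := hQ hb
    rw [← hg] at hb'
    obtain ⟨w, hw, rfl⟩ : ∃ w ∈ B, g * w * g⁻¹ = b := by
      simpa [Sylow.smul_def, Sylow.pointwise_smul_def, Subgroup.mem_map,
        Subgroup.pointwise_smul_def] using hb'
    simp only [MulEquiv.toMonoidHom_eq_coe, MonoidHom.coe_coe, MulAut.conj_apply]
    calc g * a * g⁻¹ * (g * w * g⁻¹) = g * (a * w) * g⁻¹ := by group
      _ = g * (w * a) * g⁻¹ := by rw [hc a ha w hw]
      _ = _ := by group

theorem factorization_eq_of_dvd {q m M : ℕ} (hq : q.Prime) (hm : m ≠ 0) (hM : M ≠ 0) (hmM : m ∣ M)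
    (h : q ^ M.factorization q ∣ m) : m.factorization q = M.factorization q :=
  le_antisymm ((Nat.factorization_le_iff_dvd hm hM).2 hmM q) ((hq.pow_dvd_iff_le_factorization hm).1 h)

/-- From a subgroup containing full parts. -/
theorem comm_of_subgroup {q r : ℕ} (hq : q.Prime) (hr : r.Prime) (H : Subgroup G)
    (hHq : q ^ (Nat.card G).factorization q ∣ Nat.card H)
    (hHr : r ^ (Nat.card G).factorization r ∣ Nat.card H) (h : Comm H q r) : Comm G q r := by
  obtain ⟨A, B, hA, hB, hc⟩ := h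
  refine ⟨A.map H.subtype, B.map H.subtype, ?_, ?_, ?_⟩
  · rw [Subgroup.card_map_of_injective H.subtype_injective, hA, factorization_eq_of_dvd hq
      Nat.card_pos.ne' Nat.card_pos.ne' (Subgroup.card_subgroup_dvd_card H) hHq]
  · rw [Subgroup.card_map_of_injective H.subtype_injective, hB, factorization_eq_of_dvd hr
      Nat.card_pos.ne' Nat.card_pos.ne' (Subgroup.card_subgroup_dvd_card H) hHr]
  · rintro _ ⟨a, ha, rfl⟩ _ ⟨b, hb, rfl⟩
    exact congrArg H.subtype (hc a ha b hb)

/-- A `q`-subgroup is commutative when `q` exceeds the degree. -/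
theorem abelian_of_small {q n : ℕ} [hq : Fact q.Prime] {f : G → ℂ} (hf : IsCharacter G f)
    (hfaith : ∀ g : G, f g = f 1 → g = 1) (hn : f 1 = n) (hnq : n < q) (A : Subgroup G)
    (hA : IsPGroup q A) : ∀ a ∈ A, ∀ b ∈ A, a * b = b * a := by
  classical
  letI := Fintype.ofFinite A
  have hfA : IsCharacter A fun x : A => f x := isCharacter_comp hf A.subtype
  intro a ha b hb
  let a' : A := ⟨a, ha⟩
  let b' : A := ⟨b, hb⟩
  have hval : f ((a' * b' * a'⁻¹ * b'⁻¹ : A) : G) = f ((1 : A) : G) := by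
    refine LinearSylow.eq_one_value (f := fun x : A => f x)
      (isClassFunction_of_isCharacter hfA) fun ψ hψ => ?_
    obtain ⟨j, hj⟩ := IsPGroup.iff_card.1 hA
    obtain ⟨i, -, hi⟩ := (Nat.dvd_prime_pow hq.out).1
      (hj ▸ degree_dvd_card ψ (Block.charDegree_eq ψ).1)
    have hle := (degree_le_of_constituent hfA ψ hψ
      (show f ((1 : A) : G) = (n : ℂ) by rw [OneMemClass.coe_one, hn]) (Block.charDegree_eq ψ).1).1
    have h1 : (ψ : A → ℂ) 1 = 1 := by
      rw [(Block.charDegree_eq ψ).1, hi]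
      rcases i with _ | i
      · simp
      · rw [hi] at hle
        exact absurd ((Nat.le_self_pow i.succ_ne_zero q).trans hle) (not_le.2 hnq)
    obtain ⟨l, hl⟩ := exists_hom_of_linear (isCharacter_irr ψ) h1
    rw [hl]
    simp only [map_mul, map_inv]
    congr 1
    rw [mul_comm (l a') (l b'), mul_inv_cancel_right, mul_inv_cancel, map_one]
  have hc : a * b * a⁻¹ * b⁻¹ = 1 := hfaith _ (by simpa [a', b'] using hval)
  calc a * b = a * b * a⁻¹ * b⁻¹ * (b * a) := by group
    _ = b * a := by rw [hc, one_mul]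

/-- A faithful character of degree below `q - 1` is irrational at an element of order `q`. -/
theorem exists_pow_ne {q n : ℕ} (hq : q.Prime) {f : G → ℂ} (hf : IsCharacter G f)
    (hfaith : ∀ g : G, f g = f 1 → g = 1) (hn : f 1 = n) (hnq : n + 1 < q) {x : G}
    (hx : orderOf x = q) : ∃ k : ℕ, k.Coprime q ∧ f (x ^ k) ≠ f x := by
  classical
  by_contra hall
  push Not at hall
  obtain ⟨d, ρ, rfl⟩ := hf
  have hd : d = n := by
    rw [Representation.char_one, Module.finrank_fin_fun] at hn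
    exact_mod_cast hn
  obtain ⟨b, μ, h1, -, h3⟩ := exists_eigen_data ρ x
  rw [hx] at h1
  have hx1 : x ≠ 1 := fun e => hq.ne_one (by rw [← hx, e, orderOf_one])
  obtain ⟨i₀, hi₀⟩ : ∃ i, μ i ≠ 1 := by
    by_contra hne
    push Not at hne
    refine hx1 (hfaith x ?_)
    have e1 := h3 1
    have e0 := h3 0
    rw [pow_one] at e1
    rw [pow_zero] at e0
    rw [e1, e0]
    simp [hne]
  set w := μ i₀ with hw
  have hwq : w ^ q = 1 := h1 i₀
  have hw0 : w ≠ 0 := fun e => by rw [e, zero_pow hq.ne_zero] at hwq; exact zero_ne_one hwq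
  have hgeom : ∀ z : ℂ, z ^ q = 1 → ∑ k ∈ Finset.range q, z ^ k = if z = 1 then (q : ℂ) else 0 := by
    intro z hz
    split_ifs with e
    · simp [e]
    · rw [geom_sum_eq e, hz, sub_self, zero_div]
  set c := ρ.character x with hc
  have hk : ∀ k ∈ Finset.range q, k ≠ 0 → ρ.character (x ^ k) = c := fun k hk hk0 =>
    hall k (Nat.Coprime.symm (hq.coprime_iff_not_dvd.2 fun hdvd =>
      hk0 (Nat.eq_zero_of_dvd_of_lt hdvd (Finset.mem_range.1 hk))))
  have hkey : ∀ z : ℂ, z ^ q = 1 → (n : ℂ) + c * ((∑ k ∈ Finset.range q, z ^ k) - 1) =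
      (q : ℂ) * ((Finset.univ.filter fun i => μ i * z = 1).card : ℂ) := by
    intro z hz
    have e1 : ∑ k ∈ Finset.range q, ρ.character (x ^ k) * z ^ k =
        (q : ℂ) * ((Finset.univ.filter fun i => μ i * z = 1).card : ℂ) := by
      simp only [h3, Finset.sum_mul]
      rw [Finset.sum_comm, Finset.sum_congr rfl (g := fun i => if μ i * z = 1 then (q : ℂ) else 0)
        fun i _ => by
          rw [Finset.sum_congr rfl (g := fun k => (μ i * z) ^ k) fun k _ => (mul_pow _ _ _).symm]
          exact hgeom _ (by rw [mul_pow, h1, hz, one_mul]),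
        ← Finset.sum_filter, Finset.sum_const, nsmul_eq_mul, mul_comm]
    have h0 : (0 : ℕ) ∈ Finset.range q := Finset.mem_range.2 hq.pos
    rw [← e1, ← Finset.add_sum_erase _ (fun k => z ^ k) h0,
      ← Finset.add_sum_erase _ (fun k => ρ.character (x ^ k) * z ^ k) h0]
    simp only [pow_zero, hn, mul_one, add_sub_cancel_left, Finset.mul_sum]
    exact congrArg _ (Finset.sum_congr rfl fun k hk' => by
      rw [hk k (Finset.mem_of_mem_erase hk') (Finset.ne_of_mem_erase hk')])
  have k1 := hkey 1 (one_pow q)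
  have k2 := hkey w⁻¹ (by rw [inv_pow, hwq, inv_one])
  rw [hgeom 1 (one_pow q), if_pos rfl] at k1
  rw [hgeom w⁻¹ (by rw [inv_pow, hwq, inv_one]), if_neg (by rwa [inv_eq_one])] at k2
  set a₀ := (Finset.univ.filter fun i => μ i * 1 = 1).card
  set a₁ := (Finset.univ.filter fun i => μ i * w⁻¹ = 1).card with ha₁
  have ha₁pos : 1 ≤ a₁ := by
    rw [ha₁, Nat.one_le_iff_ne_zero]
    exact Finset.card_ne_zero.2 ⟨i₀, by simp [← hw, mul_inv_cancel₀ hw0]⟩
  have hrel : (q : ℂ) * (n : ℂ) = (q : ℂ) * ((a₀ : ℂ) + ((q : ℂ) - 1) * (a₁ : ℂ)) := by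
    linear_combination k1 + ((q : ℂ) - 1) * k2
  have hrel' := mul_left_cancel₀ (Nat.cast_ne_zero.2 hq.ne_zero) hrel
  have hrel'' : n = a₀ + (q - 1) * a₁ := by
    have : (n : ℂ) = ((a₀ + (q - 1) * a₁ : ℕ) : ℂ) := by
      rw [hrel', Nat.cast_add, Nat.cast_mul, Nat.cast_sub hq.one_le, Nat.cast_one]
    exact_mod_cast this
  have := Nat.le_mul_of_pos_right (q - 1) (show 0 < a₁ by omega)
  omega

/-- A Galois automorphism moving the `q`-th roots of unity only. -/
theorem exists_aut {q k N : ℕ} (hq : q.Prime) (hk : k.Coprime q) (hN : N ≠ 0) :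
    ∃ τ : ℂ ≃+* ℂ, (∀ y : ℂ, ∀ m : ℕ, m ∣ N → ¬ q ∣ m → y ^ m = 1 → τ y = y) ∧
      ∀ y : ℂ, y ^ q = 1 → τ y = y ^ k := by
  set M := N * q with hM
  have hM0 : M ≠ 0 := Nat.mul_ne_zero hN hq.ne_zero
  set e := M.factorization q
  set w := M / q ^ e with hw
  have hwq : ¬ q ∣ w := Nat.not_dvd_ordCompl hq hM0
  have hcop : (q ^ e).Coprime w := Nat.Coprime.pow_left e (hq.coprime_iff_not_dvd.2 hwq)
  have hMe : q ^ e * w = M := Nat.ordProj_mul_ordCompl_eq_self M q
  obtain ⟨i, hi1, hi2⟩ := Nat.chineseRemainder hcop k 1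
  have hqe : q ∣ q ^ e := dvd_pow_self q fun h0 => by
    have := (hq.pow_dvd_iff_le_factorization hM0).1 (show q ^ 1 ∣ M by rw [pow_one]; exact dvd_mul_left q N)
    omega
  have hi : i.Coprime M := by
    rw [← hMe]
    refine Nat.Coprime.mul_right ?_ ?_
    · refine Nat.Coprime.pow_right e ?_
      rw [Nat.coprime_comm, Nat.Coprime, Nat.gcd_rec, show i % q = k % q from hi1.of_dvd hqe, ← Nat.gcd_rec]
      exact hk.symm
    · rw [Nat.coprime_comm, Nat.Coprime, Nat.gcd_rec, hi2, ← Nat.gcd_rec, Nat.gcd_one_right]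
  obtain ⟨φ, hφ⟩ := exists_embedding_of_coprime M hM0 i hi
  obtain ⟨τ, hτ⟩ := exists_ringEquiv_extend φ
  have happ : ∀ y : ℂ, y ^ M = 1 → τ y = y ^ i := fun y hy => by
    have hyi : IsIntegral ℤ y := isIntegral_of_pow_eq_one hM0 hy
    have h1 := hτ ⟨y, mem_alg_of_isIntegral hyi⟩
    rw [h1, hφ _ (Subtype.ext hy)]
  have hred : ∀ (y : ℂ) (m a b : ℕ), y ^ m = 1 → a ≡ b [MOD m] → y ^ a = y ^ b := fun y m a b hy hab => by
    rw [← Nat.mod_add_div a m, ← Nat.mod_add_div b m, hab, pow_add, pow_add, pow_mul, pow_mul, hy,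
      one_pow, one_pow]
  refine ⟨τ, fun y m hmN hqm hy => ?_, fun y hy => ?_⟩
  · have hmM : m ∣ M := hmN.trans (dvd_mul_right N q)
    have hmw : m ∣ w := by
      have hcm : m.Coprime (q ^ e) :=
        Nat.Coprime.pow_right e (Nat.Coprime.symm (hq.coprime_iff_not_dvd.2 hqm))
      exact hcm.dvd_of_dvd_mul_left (hMe.symm ▸ hmM)
    obtain ⟨t, ht⟩ := hmM
    rw [happ y (by rw [ht, pow_mul, hy, one_pow]), hred y m i 1 hy (hi2.of_dvd hmw), pow_one]
  · rw [happ y (by rw [hM, mul_comm, pow_mul, hy, one_pow]), hred y q i k hy (hi1.of_dvd hqe)]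

theorem isIrr_galois [Fintype G] (τ : ℂ ≃+* ℂ) (φ : IrrCharacter G) :
    IsIrrCharacter G fun g => τ ((φ : G → ℂ) g) := by
  obtain ⟨d, ρ, -, hφ⟩ := φ.2
  have hfun : (fun g => τ ((φ : G → ℂ) g)) = (CoprimeCyclic.galoisRep τ ρ).character :=
    funext fun g => by rw [CoprimeCyclic.galoisRep_character, hφ]
  have hc : IsCharacter G fun g => τ ((φ : G → ℂ) g) := ⟨d, _, hfun.symm⟩
  refine isIrr_of_isCharacter_norm_one hc ?_
  have h := congrArg τ (classInner_irr_self φ)
  rw [map_one, classInner, map_mul, map_inv₀, map_natCast, map_sum] at h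
  rw [classInner, ← h]
  refine congrArg _ (Finset.sum_congr rfl fun g _ => ?_)
  rw [map_mul, ← irr_inv φ g, ← isCharacter_inv hc g]

/-- The statement for one group. -/
def Pairs (G : Type u) [Group G] : Prop :=
  ∀ (f : G → ℂ) (n : ℕ), IsCharacter G f → (∀ g : G, f g = f 1 → g = 1) → f 1 = n →
    ∀ q r : ℕ, q.Prime → r.Prime → q ≠ r → n + 1 < q → n + 1 < r → Comm G q r

theorem comm_of_not_dvd {q r : ℕ} (hr : r.Prime) (hq : ¬ q ∣ Nat.card G) : Comm G q r := by
  haveI : Fact r.Prime := ⟨hr⟩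
  refine ⟨⊥, (default : Sylow r G), ?_, (default : Sylow r G).card_eq_multiplicity, ?_⟩
  · rw [Subgroup.card_bot, Nat.factorization_eq_zero_of_not_dvd hq, pow_zero]
  · intro a ha b _
    rw [Subgroup.mem_bot.1 ha, one_mul, mul_one]

/-- A central element of order `q` can be factored away. -/
theorem comm_of_central {q r : ℕ} (hq : q.Prime) (hr : r.Prime) (hqr : q ≠ r) {n : ℕ}
    (ih : ∀ (K : Type u) [Group K] [Finite K], Nat.card K < Nat.card G → Pairs K)
    (φ : IrrCharacter G) (hfaith : ∀ g : G, (φ : G → ℂ) g = (φ : G → ℂ) 1 → g = 1)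
    (hφn : charDegree (φ : G → ℂ) ≤ n) (hnq : n + 1 < q) (hnr : n + 1 < r)
    {u : G} (hu : orderOf u = q) (hcen : u ∈ Subgroup.center G) : Comm G q r := by
  classical
  haveI : Fact q.Prime := ⟨hq⟩
  haveI : Fact r.Prime := ⟨hr⟩
  letI := Fintype.ofFinite G
  obtain ⟨d, ρ, hρ, hφ⟩ := φ.2
  haveI := hρ
  have hd1 : (φ : G → ℂ) 1 = (d : ℂ) := by rw [← hφ, Representation.char_one, Module.finrank_fin_fun]
  have hd : charDegree (φ : G → ℂ) = d := by simp [charDegree, hd1]
  rw [hd] at hφn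
  have hd0 : d ≠ 0 := fun h0 => irr_one_ne_zero φ (by rw [hd1, h0, Nat.cast_zero])
  set N := Nat.card G with hN
  set a := N.factorization q
  set w := N / q ^ a with hw
  have hwq : ¬ q ∣ w := Nat.not_dvd_ordCompl hq Nat.card_pos.ne'
  have hNw : q ^ a * w = N := Nat.ordProj_mul_ordCompl_eq_self N q
  have hdq : ¬ q ∣ d * w := fun h => (hq.dvd_mul.1 h).elim
    (fun h' => by have := Nat.le_of_dvd (Nat.pos_of_ne_zero hd0) h'; omega) hwq
  have ha1 : q ^ a ≠ 1 := by
    have hqN : q ∣ N := hu ▸ orderOf_dvd_natCard u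
    have := hq.factorization_pos_of_dvd Nat.card_pos.ne' hqN
    exact (Nat.one_lt_pow this.ne' hq.one_lt).ne'
  obtain ⟨m, -, hm⟩ := Nat.exists_mul_mod_eq_one_of_coprime
    (Nat.Coprime.pow_right a (Nat.Coprime.symm (hq.coprime_iff_not_dvd.2 hdq)))
    (Nat.lt_of_le_of_ne (Nat.one_le_pow _ _ hq.pos) (Ne.symm ha1))
  -- the `q`-part of the determinant, divided by the degree
  let lam : G →* ℂˣ := detHom ρ ^ (w * m)
  have hlam : ∀ g, lam g = (detHom ρ g) ^ (w * m) := fun g => by
    simp only [lam, MonoidHom.pow_apply]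
  have hlamq : ∀ g, lam g ^ q ^ a = 1 := fun g => by
    rw [hlam, ← pow_mul, show w * m * q ^ a = N * m by rw [← hNw]; ring, pow_mul, ← map_pow,
      hN, pow_card_eq_one', map_one, one_pow]
  let φ' : IrrCharacter G := linMul lam⁻¹ φ
  obtain ⟨K, hK, hmem⟩ := Invol.exists_charKernel φ'
  haveI := hK
  have hscal : ∀ g ∈ K, ∀ h : G, g * h = h * g ∧ g ^ q ^ a = 1 := by
    intro g hg h
    have h1 : ((lam⁻¹ g : ℂˣ) : ℂ) * ρ.character g = ((lam⁻¹ 1 : ℂˣ) : ℂ) * ρ.character 1 := by
      rw [hφ]; exact (hmem g).1 hg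
    rw [map_one, Units.val_one, one_mul, MonoidHom.inv_apply, Representation.char_one,
      Units.inv_mul_eq_iff_eq_mul] at h1
    have hn1 : ‖ρ.character g‖ = (finrank ℂ (Fin d → ℂ) : ℝ) := by
      rw [h1, norm_mul, Complex.norm_eq_one_of_pow_eq_one (n := q ^ a)
        (by rw [← Units.val_pow_eq_pow_val, hlamq, Units.val_one]) (pow_ne_zero _ hq.ne_zero), one_mul]
      simp
    obtain ⟨ω, hω⟩ := (norm_char_eq_iff ρ g).1 hn1
    have hω' : ω = (lam g : ℂ) := by
      rw [Representation.character, hω, trace_smul_id] at h1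
      refine mul_right_cancel₀ ?_ h1
      rw [Module.finrank_fin_fun]
      exact_mod_cast hd0
    refine ⟨mul_inv_eq_one.1 (hfaith _ ?_), hfaith _ ?_⟩
    · rw [← hφ]
      refine congrArg (LinearMap.trace ℂ _) ?_
      have e1 : ρ (g * h) = ρ (h * g) := by
        rw [map_mul, map_mul, hω, ← Module.End.one_eq_id]; simp
      rw [map_mul, e1, ← map_mul, mul_inv_cancel, map_one]
    · rw [← hφ]
      refine congrArg (LinearMap.trace ℂ _) ?_
      rw [map_pow, map_one, hω, hω', ← Module.End.one_eq_id, smul_pow, one_pow,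
        ← Units.val_pow_eq_pow_val, hlamq, Units.val_one, one_smul]
  have huK : u ∈ K := by
    obtain ⟨c, hc⟩ := schur_scalar ρ (ρ u) fun g => by
      rw [← map_mul, ← map_mul, Subgroup.mem_center_iff.1 hcen g]
    have hcq : c ^ q = 1 := by
      have h1 : ρ u ^ q = 1 := by rw [← map_pow, ← hu, pow_orderOf_eq_one, map_one]
      rw [hc, ← Module.End.one_eq_id, smul_pow, one_pow] at h1
      have h2 := congrArg (LinearMap.trace ℂ (Fin d → ℂ)) h1
      rw [map_smul, Module.End.one_eq_id, LinearMap.trace_id, Module.finrank_fin_fun, smul_eq_mul] at h2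
      exact (mul_eq_right₀ (Nat.cast_ne_zero.2 hd0)).1 h2
    have hdet : (lam u : ℂ) = c := by
      rw [hlam, Units.val_pow_eq_pow_val, detHom_coe, hc, LinearMap.det_smul, LinearMap.det_id,
        Module.finrank_fin_fun, mul_one, ← pow_mul, ← Nat.mod_add_div (d * (w * m)) (q ^ a)]
      have e1 : d * (w * m) % q ^ a = 1 := by rw [← mul_assoc]; exact hm
      have e2 : c ^ q ^ a = 1 := by
        obtain ⟨t, ht⟩ : q ∣ q ^ a := dvd_pow_self q fun h0 => ha1 (by rw [h0, pow_zero])
        rw [ht, pow_mul, hcq, one_pow]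
      rw [e1, pow_add, pow_one, pow_mul, e2, one_pow, mul_one]
    refine (hmem u).2 ?_
    show ((lam⁻¹ u : ℂˣ) : ℂ) * (φ : G → ℂ) u = ((lam⁻¹ 1 : ℂˣ) : ℂ) * (φ : G → ℂ) 1
    rw [map_one, Units.val_one, one_mul, MonoidHom.inv_apply, Units.inv_mul_eq_iff_eq_mul, hdet, hd1,
      ← hφ, Representation.character, hc, trace_smul_id, Module.finrank_fin_fun]
  have hKcard : ∃ i, Nat.card K = q ^ i := IsPGroup.iff_card.1 fun g =>
    ⟨a, Subtype.ext (hscal g g.2 1).2⟩
  obtain ⟨i, hi⟩ := hKcard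
  have hK1 : 1 < Nat.card K := (Finite.one_lt_card_iff_nontrivial).2
    ⟨⟨⟨u, huK⟩, 1, fun e => hq.ne_one (by rw [← hu, show u = 1 from congrArg Subtype.val e, orderOf_one])⟩⟩
  have hlt : Nat.card (G ⧸ K) < Nat.card G := by
    rw [K.card_eq_card_quotient_mul_card_subgroup]
    exact lt_mul_of_one_lt_right Nat.card_pos hK1
  obtain ⟨φb, hφb⟩ := Block.exists_deflate (N := K) φ' fun z hz => (hmem z).1 hz
  have hb1 : (φb : G ⧸ K → ℂ) 1 = (d : ℂ) := by
    rw [← QuotientGroup.mk_one, hφb]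
    show ((lam⁻¹ 1 : ℂˣ) : ℂ) * (φ : G → ℂ) 1 = _
    rw [map_one, Units.val_one, one_mul, hd1]
  obtain ⟨Ab, Bb, hAb, hBb, hc⟩ := ih (G ⧸ K) hlt φb d (isCharacter_irr φb) (fun x hx => by
    obtain ⟨l, rfl⟩ := QuotientGroup.mk_surjective x
    rw [← QuotientGroup.mk_one, hφb, hφb] at hx
    exact (QuotientGroup.eq_one_iff l).2 ((hmem l).2 hx)) hb1 q r hq hr hqr (by omega) (by omega)
  have hfac : ∀ s, s.Prime → (Nat.card G).factorization s =
      (Nat.card (G ⧸ K)).factorization s + (Nat.card K).factorization s := fun s hs => Block.vCard_eq hs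
  set A := Ab.comap (QuotientGroup.mk' K) with hA
  have hAcard : Nat.card A = q ^ (Nat.card G).factorization q := by
    have h1 := A.card_mul_index
    rw [hA, Subgroup.index_comap_of_surjective _ (QuotientGroup.mk'_surjective K)] at h1
    have h2 := Ab.card_mul_index
    have h3 := K.card_eq_card_quotient_mul_card_subgroup
    rw [← h2] at h3
    rw [h3, mul_right_comm] at h1
    have h4 : Nat.card A = Nat.card Ab * Nat.card K :=
      Nat.eq_of_mul_eq_mul_right (Nat.pos_of_ne_zero Subgroup.index_ne_zero_of_finite) h1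
    rw [h4, hAb, hi, hfac q hq, hi, hq.factorization_pow, Finsupp.single_eq_same, pow_add]
  let S : Sylow r (Bb.comap (QuotientGroup.mk' K)) := default
  refine ⟨A, (S : Subgroup _).map (Bb.comap (QuotientGroup.mk' K)).subtype, hAcard, ?_, ?_⟩
  · rw [Subgroup.card_map_of_injective (Subgroup.subtype_injective _), S.card_eq_multiplicity]
    congr 1
    refine factorization_eq_of_dvd hr Nat.card_pos.ne' Nat.card_pos.ne'
      (Subgroup.card_subgroup_dvd_card _) ?_
    rw [hfac r hr, hi, hq.factorization_pow, Finsupp.single_eq_of_ne (Ne.symm hqr), add_zero, ← hBb]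
    exact Subgroup.card_dvd_of_surjective ((QuotientGroup.mk' K).subgroupComap Bb) fun z => by
      obtain ⟨g, hg⟩ := QuotientGroup.mk'_surjective K z.1
      exact ⟨⟨g, show QuotientGroup.mk' K g ∈ Bb from hg ▸ z.2⟩, Subtype.ext hg⟩
  · rintro x hx _ ⟨⟨y, hy⟩, hyS, rfl⟩
    show x * y = y * x
    set z := x * y * x⁻¹ * y⁻¹ with hz
    have hzK : z ∈ K := by
      refine (QuotientGroup.eq_one_iff z).1 ?_
      show QuotientGroup.mk' K z = 1
      have := hc _ hx _ hy
      rw [hz, map_mul, map_mul, map_mul, this, map_inv, map_inv, mul_inv_cancel_right, mul_inv_cancel]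
    obtain ⟨j, hj⟩ := S.2 ⟨⟨y, hy⟩, hyS⟩
    have hyj : y ^ r ^ j = 1 := congrArg (fun t => ((t : Bb.comap (QuotientGroup.mk' K)) : G)) (congrArg Subtype.val hj)
    have hconj : x * y * x⁻¹ = z * y := by rw [hz]; group
    have h1 : z ^ r ^ j = 1 := by
      have h2 := congrArg (· ^ r ^ j) hconj
      simp only [conj_pow, hyj, mul_one, mul_inv_cancel] at h2
      rw [(show Commute z y from (hscal z hzK y).1).mul_pow, hyj, mul_one] at h2
      exact h2.symm
    have h0 : z = 1 := orderOf_eq_one_iff.1 (Nat.eq_one_of_dvd_coprimes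
      (Nat.Coprime.pow a j ((Nat.coprime_primes hq hr).2 hqr))
      (orderOf_dvd_of_pow_eq_one (hscal z hzK 1).2) (orderOf_dvd_of_pow_eq_one h1))
    rw [h0, one_mul] at hconj
    exact mul_inv_eq_iff_eq_mul.1 hconj

theorem pairs : ∀ (G : Type u) [Group G] [Finite G], Pairs G := by
  intro G _ _
  induction hn : Nat.card G using Nat.strong_induction_on generalizing G with
  | _ c ih =>
  subst hn
  intro f n hf hfaith hf1 q r hq hr hqr hnq hnr
  by_contra hbad
  classical
  letI := Fintype.ofFinite G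
  haveI : Fact q.Prime := ⟨hq⟩
  haveI : Fact r.Prime := ⟨hr⟩
  have ih' : ∀ (K : Type u) [Group K] [Finite K], Nat.card K < Nat.card G → Pairs K :=
    fun K _ _ hK => ih _ hK K rfl
  have hsub : ∀ H : Subgroup G, H ≠ ⊤ → Pairs H := fun H hH =>
    ih' H (lt_of_le_of_ne (Subgroup.card_le_card_group H) fun e => hH (Subgroup.eq_top_of_card_eq H e))
  have hdown : ∀ H : Subgroup G, H ≠ ⊤ → Comm H q r := fun H hH =>
    hsub H hH (fun x => f x) n (isCharacter_comp hf H.subtype)
      (fun x hx => Subtype.ext (hfaith _ (by simpa using hx))) (by simpa using hf1) q r hq hr hqr hnq hnr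
  have hfull : ∀ H : Subgroup G, H ≠ ⊤ → q ^ (Nat.card G).factorization q ∣ Nat.card H →
      ¬ r ^ (Nat.card G).factorization r ∣ Nat.card H := fun H hH h1 h2 =>
    hbad (comm_of_subgroup hq hr H h1 h2 (hdown H hH))
  have hab : ∀ {s : ℕ}, s.Prime → n + 1 < s → ∀ A : Subgroup G, IsPGroup s A →
      ∀ a ∈ A, ∀ b ∈ A, a * b = b * a := fun {s} hs hns A hA => by
    haveI : Fact s.Prime := ⟨hs⟩
    exact abelian_of_small hf hfaith hf1 (by omega) A hA
  -- a faithful irreducible constituent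
  obtain ⟨φ, hφn, hφf⟩ : ∃ φ : IrrCharacter G, charDegree (φ : G → ℂ) ≤ n ∧
      ∀ g : G, (φ : G → ℂ) g = (φ : G → ℂ) 1 → g = 1 := by
    by_contra hall
    push Not at hall
    have hcomm : ∀ a b : G, a * b = b * a := fun a b => by
      have hc : a * b * a⁻¹ * b⁻¹ = 1 := hfaith _ (LinearSylow.eq_one_value
        (isClassFunction_of_isCharacter hf) fun ψ hψ => ?_)
      · calc a * b = a * b * a⁻¹ * b⁻¹ * (b * a) := by group
          _ = b * a := by rw [hc, one_mul]
      have hψn := (degree_le_of_constituent hf ψ hψ hf1 (Block.charDegree_eq ψ).1).1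
      obtain ⟨g, hg, hg1⟩ := hall ψ hψn
      obtain ⟨K, hK, hmem⟩ := Invol.exists_charKernel ψ
      haveI := hK
      have hK1 : 1 < Nat.card K :=
        Finite.one_lt_card_iff_nontrivial.2 ⟨⟨⟨g, (hmem g).2 hg⟩, 1, fun e => hg1 (congrArg Subtype.val e)⟩⟩
      have hlt : Nat.card (G ⧸ K) < Nat.card G := by
        rw [K.card_eq_card_quotient_mul_card_subgroup]
        exact lt_mul_of_one_lt_right Nat.card_pos hK1
      obtain ⟨ψ', hψ'⟩ := Block.exists_deflate (N := K) ψ fun z hz => (hmem z).1 hz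
      have hf' : ∀ x : G ⧸ K, (ψ' : G ⧸ K → ℂ) x = (ψ' : G ⧸ K → ℂ) 1 → x = 1 := fun x hx => by
        obtain ⟨l, rfl⟩ := QuotientGroup.mk_surjective x
        rw [← QuotientGroup.mk_one, hψ', hψ'] at hx
        exact (QuotientGroup.eq_one_iff l).2 ((hmem l).2 hx)
      have hd' : (ψ' : G ⧸ K → ℂ) 1 = (charDegree (ψ : G → ℂ) : ℂ) := by
        rw [← QuotientGroup.mk_one, hψ', (Block.charDegree_eq ψ).1]
      obtain ⟨Ab, Bb, hAb, hBb, hc⟩ := ih' (G ⧸ K) hlt ψ' _ (isCharacter_irr ψ') hf' hd' q r hq hr hqr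
        (by omega) (by omega)
      set H := (Ab ⊔ Bb).comap (QuotientGroup.mk' K) with hH
      have hHcard : Nat.card (Ab ⊔ Bb : Subgroup (G ⧸ K)) * Nat.card K = Nat.card H := by
        have h1 := H.card_mul_index
        rw [hH, Subgroup.index_comap_of_surjective _ (QuotientGroup.mk'_surjective K),
          K.card_eq_card_quotient_mul_card_subgroup, ← (Ab ⊔ Bb).card_mul_index, mul_right_comm] at h1
        exact (Nat.eq_of_mul_eq_mul_right (Nat.pos_of_ne_zero Subgroup.index_ne_zero_of_finite) h1).symm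
      have hHtop : H = ⊤ := by
        by_contra hne
        refine hfull H hne ?_ ?_ <;> rw [← hHcard, Block.vCard_eq (N := K) ‹_›, pow_add]
        · exact mul_dvd_mul (hAb ▸ Subgroup.card_dvd_of_le le_sup_left) (Nat.ordProj_dvd _ _)
        · exact mul_dvd_mul (hBb ▸ Subgroup.card_dvd_of_le le_sup_right) (Nat.ordProj_dvd _ _)
      have hAab : ∀ x ∈ Ab, ∀ y ∈ Ab, x * y = y * x := abelian_of_small (isCharacter_irr ψ') hf' hd'
        (show charDegree (ψ : G → ℂ) < q by omega) Ab (IsPGroup.of_card hAb)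
      have hBab : ∀ x ∈ Bb, ∀ y ∈ Bb, x * y = y * x := abelian_of_small (isCharacter_irr ψ') hf' hd'
        (show charDegree (ψ : G → ℂ) < r by omega) Bb (IsPGroup.of_card hBb)
      have hle : Ab ⊔ Bb ≤ Subgroup.centralizer ((Ab ⊔ Bb : Subgroup (G ⧸ K)) : Set (G ⧸ K)) := by
        have hA' : Ab ⊔ Bb ≤ Subgroup.centralizer (Ab : Set (G ⧸ K)) := sup_le
          (fun x hx => Subgroup.mem_centralizer_iff.2 fun y hy => hAab y hy x hx)
          (fun x hx => Subgroup.mem_centralizer_iff.2 fun y hy => hc y hy x hx)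
        have hB' : Ab ⊔ Bb ≤ Subgroup.centralizer (Bb : Set (G ⧸ K)) := sup_le
          (fun x hx => Subgroup.mem_centralizer_iff.2 fun y hy => (hc x hx y hy).symm)
          (fun x hx => Subgroup.mem_centralizer_iff.2 fun y hy => hBab y hy x hx)
        exact Subgroup.le_centralizer_iff.1 (sup_le (Subgroup.le_centralizer_iff.1 hA')
          (Subgroup.le_centralizer_iff.1 hB'))
      have hmk : ∀ g : G, QuotientGroup.mk' K g ∈ Ab ⊔ Bb := fun g =>
        (show g ∈ H from hHtop ▸ Subgroup.mem_top g)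
      refine (hmem _).1 ((QuotientGroup.eq_one_iff _).1 ?_)
      show QuotientGroup.mk' K (a * b * a⁻¹ * b⁻¹) = 1
      rw [map_mul, map_mul, map_mul, map_inv, map_inv,
        Subgroup.mem_centralizer_iff.1 (hle (hmk b)) _ (hmk a), mul_inv_cancel_right, mul_inv_cancel]
    exact hbad ⟨(default : Sylow q G), (default : Sylow r G), (default : Sylow q G).card_eq_multiplicity,
      (default : Sylow r G).card_eq_multiplicity, fun a _ b _ => hcomm a b⟩
  -- no central elements of the two orders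
  have hZq : ∀ u : G, orderOf u = q → u ∉ Subgroup.center G := fun u hu hc =>
    hbad (comm_of_central hq hr hqr ih' φ hφf hφn hnq hnr hu hc)
  have hZr : ∀ v : G, orderOf v = r → v ∉ Subgroup.center G := fun v hv hc =>
    hbad (comm_of_central hr hq hqr.symm ih' φ hφf hφn hnr hnq hv hc).symm
  -- no commuting elements of the two orders
  have hno : ∀ u v : G, orderOf u = q → orderOf v = r → u * v ≠ v * u := by
    intro u v hu hv huv
    set C := Subgroup.centralizer ({u} : Set G) with hC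
    have hCtop : C ≠ ⊤ := fun e => hZq u hu (Subgroup.mem_center_iff.2 fun g =>
      Subgroup.mem_centralizer_singleton_iff.1 (show g ∈ C from e ▸ Subgroup.mem_top g))
    have hsyl : ∀ (s : ℕ), s.Prime → n + 1 < s → ∀ x : G, orderOf x = s →
        s ^ (Nat.card G).factorization s ∣ Nat.card (Subgroup.centralizer ({x} : Set G)) := by
      intro s hs hns x hx
      haveI : Fact s.Prime := ⟨hs⟩
      obtain ⟨S, hS⟩ := (IsPGroup.of_card (n := 1) (show Nat.card (Subgroup.zpowers x) = s ^ 1 by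
        rw [Nat.card_zpowers, hx, pow_one])).exists_le_sylow
      rw [← S.card_eq_multiplicity]
      exact Subgroup.card_dvd_of_le fun y hy => Subgroup.mem_centralizer_singleton_iff.2
        (hab hs hns S S.2 y hy x (hS (Subgroup.mem_zpowers x)))
    have hvC : v ∈ C := Subgroup.mem_centralizer_singleton_iff.2 huv.symm
    have hV : IsPGroup r (Subgroup.zpowers (⟨v, hvC⟩ : C)) :=
      IsPGroup.of_card (n := 1) (by rw [Nat.card_zpowers, Subgroup.orderOf_mk, hv, pow_one])
    obtain ⟨A, hA, hAV⟩ := (hdown C hCtop).exists_le hV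
    refine hfull (Subgroup.centralizer ({v} : Set G)) ?_ ?_ (hsyl r hr hnr v hv)
    · exact fun e => hZr v hv (Subgroup.mem_center_iff.2 fun g =>
        Subgroup.mem_centralizer_singleton_iff.1 (e ▸ Subgroup.mem_top g))
    · rw [← factorization_eq_of_dvd hq Nat.card_pos.ne' Nat.card_pos.ne'
        (Subgroup.card_subgroup_dvd_card C) (hsyl q hq hnq u hu), ← hA,
        ← Subgroup.card_map_of_injective (K := A) C.subtype_injective]
      refine Subgroup.card_dvd_of_le ?_
      rintro _ ⟨a, ha, rfl⟩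
      exact Subgroup.mem_centralizer_singleton_iff.2
        (congrArg Subtype.val (hAV a ha _ (Subgroup.mem_zpowers _)))
  obtain ⟨x, hx⟩ := exists_prime_orderOf_dvd_card' (G := G) q
    (not_not.1 fun h => hbad (comm_of_not_dvd hr h))
  obtain ⟨y, hy⟩ := exists_prime_orderOf_dvd_card' (G := G) r
    (not_not.1 fun h => hbad (comm_of_not_dvd hq h).symm)
  have hnφ : charDegree (φ : G → ℂ) + 1 < q ∧ charDegree (φ : G → ℂ) + 1 < r := ⟨by omega, by omega⟩
  obtain ⟨k, hk, hkne⟩ := exists_pow_ne hq (isCharacter_irr φ) hφf (Block.charDegree_eq φ).1 hnφ.1 hx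
  obtain ⟨l, hl, hlne⟩ := exists_pow_ne hr (isCharacter_irr φ) hφf (Block.charDegree_eq φ).1 hnφ.2 hy
  obtain ⟨σ, hσf, hσk⟩ := exists_aut hq hk (Nat.card_pos (α := G)).ne'
  obtain ⟨τ, hτf, hτl⟩ := exists_aut hr hl (Nat.card_pos (α := G)).ne'
  let φσ : IrrCharacter G := ⟨_, isIrr_galois σ φ⟩
  let φτ : IrrCharacter G := ⟨_, isIrr_galois τ φ⟩
  obtain ⟨d, ρ, hρ, hφρ⟩ := φ.2
  have hval : ∀ (g : G) (j : ℕ), (φ : G → ℂ) (g ^ j) = ρ.character (g ^ j) := fun g j => by rw [hφρ]
  have hfix : ∀ (ν : ℂ ≃+* ℂ) (s : ℕ),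
      (∀ z : ℂ, ∀ m : ℕ, m ∣ Nat.card G → ¬ s ∣ m → z ^ m = 1 → ν z = z) →
      ∀ g : G, ¬ s ∣ orderOf g → ν ((φ : G → ℂ) g) = (φ : G → ℂ) g := fun ν s hν g hg => by
    obtain ⟨b, μ, h1, -, h3⟩ := exists_eigen_data ρ g
    rw [← pow_one g, hval, h3 1, map_sum]
    refine Finset.sum_congr rfl fun i _ => ?_
    rw [pow_one]
    exact hν _ _ (orderOf_dvd_natCard g) hg (h1 i)
  have hmove : ∀ (ν : ℂ ≃+* ℂ) (s m : ℕ) (w : G), orderOf w = s → (∀ z : ℂ, z ^ s = 1 → ν z = z ^ m) →
      ν ((φ : G → ℂ) w) = (φ : G → ℂ) (w ^ m) := fun ν s m w hw hν => by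
    obtain ⟨b, μ, h1, -, h3⟩ := exists_eigen_data ρ w
    rw [hw] at h1
    rw [hval, h3 m, show (φ : G → ℂ) w = ∑ i, μ i from by
      have := (hval w 1).trans (h3 1)
      simpa using this, map_sum]
    exact Finset.sum_congr rfl fun i _ => hν _ (h1 i)
  have hσne : φσ ≠ φ := fun e => hkne ((hmove σ q k x hx hσk).symm.trans (congrFun (congrArg Subtype.val e) x))
  have hτne : φτ ≠ φ := fun e => hlne ((hmove τ r l y hy hτl).symm.trans (congrFun (congrArg Subtype.val e) y))
  have hzero : classInner ((φ : G → ℂ) - (φσ : G → ℂ)) ((φ : G → ℂ) - (φτ : G → ℂ)) = 0 := by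
    rw [classInner, Finset.sum_eq_zero, mul_zero]
    intro g _
    by_cases h1 : q ∣ orderOf g
    · by_cases h2 : r ∣ orderOf g
      · exfalso
        exact hno (g ^ (orderOf g / q)) (g ^ (orderOf g / r))
          (orderOf_pow_orderOf_div (orderOf_pos g).ne' h1) (orderOf_pow_orderOf_div (orderOf_pos g).ne' h2)
          ((Commute.refl g).pow_pow _ _).eq
      · rw [Pi.sub_apply, Pi.sub_apply, show (φτ : G → ℂ) g = (φ : G → ℂ) g from hfix τ r hτf g h2,
          sub_self, map_zero, mul_zero]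
    · rw [Pi.sub_apply, show (φσ : G → ℂ) g = (φ : G → ℂ) g from hfix σ q hσf g h1, sub_self, zero_mul]
  rw [classInner_sub_left, classInner_sub_right, classInner_sub_right, classInner_irr_self,
    classInner_irr_ne hτne.symm, classInner_irr_ne hσne, classInner_irr] at hzero
  split_ifs at hzero <;> norm_num at hzero

/-- The primes above `n + 1` have an abelian Hall subgroup. -/
theorem exists_abelian_hall : ∀ (G : Type u) [Group G] [Finite G] (f : G → ℂ) (n : ℕ), IsCharacter G f →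
    (∀ g : G, f g = f 1 → g = 1) → f 1 = n →
    ∃ A : Subgroup G, (∀ x ∈ A, ∀ y ∈ A, x * y = y * x) ∧
      (∀ q : ℕ, q.Prime → q ∣ Nat.card A → n + 1 < q) ∧
      ∀ q : ℕ, q.Prime → q ∣ A.index → q ≤ n + 1 := by
  intro G _ _
  induction hc : Nat.card G using Nat.strong_induction_on generalizing G with
  | _ c ih =>
  subst hc
  intro f n hf hfaith hf1
  by_cases hex : ∃ q : ℕ, q.Prime ∧ n + 1 < q ∧ q ∣ Nat.card G
  swap
  · refine ⟨⊥, fun x hx y _ => by rw [Subgroup.mem_bot.1 hx, one_mul, mul_one], fun q hq h => ?_,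
      fun q hq h => ?_⟩
    · rw [Subgroup.card_bot] at h
      exact absurd (Nat.dvd_one.1 h) hq.ne_one
    · rw [Subgroup.index_bot] at h
      by_contra hlt
      exact hex ⟨q, hq, not_le.1 hlt, h⟩
  obtain ⟨q, hq, hnq, hqG⟩ := hex
  haveI : Fact q.Prime := ⟨hq⟩
  let P : Sylow q G := default
  have hP1 : 1 < Nat.card P := by
    rw [P.card_eq_multiplicity]
    exact Nat.one_lt_pow (hq.factorization_pos_of_dvd Nat.card_pos.ne' hqG).ne' hq.one_lt
  have hPab := abelian_of_small hf hfaith hf1 (show n < q by omega) P P.2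
  set C := Subgroup.centralizer ((P : Subgroup G) : Set G) with hC
  have hfull : ∀ r : ℕ, r.Prime → n + 1 < r → r ^ (Nat.card G).factorization r ∣ Nat.card C := by
    intro r hr hnr
    haveI : Fact r.Prime := ⟨hr⟩
    by_cases hrq : r = q
    · subst hrq
      rw [← P.card_eq_multiplicity]
      exact Subgroup.card_dvd_of_le fun a ha => Subgroup.mem_centralizer_iff.2 fun b hb => hPab b hb a ha
    · obtain ⟨R, hR, hRP⟩ := (pairs G f n hf hfaith hf1 r q hr hq hrq hnr hnq).exists_le (V := P) P.2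
      rw [← hR]
      exact Subgroup.card_dvd_of_le fun a ha => Subgroup.mem_centralizer_iff.2 fun b hb => (hRP a ha b hb).symm
  have hsplit : ∀ (H : Subgroup G), H ≠ ⊤ → (∀ r : ℕ, r.Prime → n + 1 < r → r ≠ q →
      r ^ (Nat.card G).factorization r ∣ Nat.card H) →
      ∃ A : Subgroup G, A ≤ H ∧ (∀ x ∈ A, ∀ y ∈ A, x * y = y * x) ∧
        (∀ r : ℕ, r.Prime → r ∣ Nat.card A → n + 1 < r) ∧
        (∀ r : ℕ, r.Prime → n + 1 < r → (r ≠ q ∨ q ^ (Nat.card G).factorization q ∣ Nat.card H) →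
          r ^ (Nat.card G).factorization r ∣ Nat.card A) := by
    intro H hH hHfull
    obtain ⟨A, h1, h2, h3⟩ := ih _ (lt_of_le_of_ne (Subgroup.card_le_card_group H)
      fun e => hH (Subgroup.eq_top_of_card_eq H e)) H rfl (fun x => f x) n (isCharacter_comp hf H.subtype)
      (fun x hx => Subtype.ext (hfaith _ (by simpa using hx))) (by simpa using hf1)
    refine ⟨A.map H.subtype, Subgroup.map_subtype_le A, ?_, ?_, ?_⟩
    · rintro _ ⟨x, hx, rfl⟩ _ ⟨y, hy, rfl⟩
      exact congrArg H.subtype (h1 x hx y hy)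
    · intro r hr h
      rw [Subgroup.card_map_of_injective H.subtype_injective] at h
      exact h2 r hr h
    · intro r hr hnr hor
      rw [Subgroup.card_map_of_injective H.subtype_injective]
      have hd : r ^ (Nat.card G).factorization r ∣ Nat.card A * A.index := by
        rw [A.card_mul_index]
        rcases hor with h | h
        · exact hHfull r hr hnr h
        · by_cases hrq : r = q
          · exact hrq ▸ h
          · exact hHfull r hr hnr hrq
      exact (Nat.Coprime.pow_left _ (hr.coprime_iff_not_dvd.2 fun h => by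
        have := h3 r hr h; omega)).dvd_of_dvd_mul_right hd
  have hfin : ∀ A : Subgroup G, (∀ r : ℕ, r.Prime → n + 1 < r →
      r ^ (Nat.card G).factorization r ∣ Nat.card A) → ∀ r : ℕ, r.Prime → r ∣ A.index → r ≤ n + 1 := by
    intro A hA r hr hd
    by_contra hlt
    have h := mul_dvd_mul (hA r hr (not_le.1 hlt)) hd
    rw [A.card_mul_index, ← pow_succ] at h
    exact Nat.pow_succ_factorization_not_dvd Nat.card_pos.ne' hr h
  by_cases hCtop : C = ⊤
  · -- `P` is central
    have hcen : ∀ a ∈ (P : Subgroup G), ∀ g : G, g * a = a * g := fun a ha g =>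
      (Subgroup.mem_centralizer_iff.1 (show g ∈ C from hCtop ▸ Subgroup.mem_top g) a ha).symm
    haveI : (P : Subgroup G).Normal := ⟨fun a ha g => by
      rwa [hcen a ha g, mul_inv_cancel_right]⟩
    obtain ⟨G₀, hG₀⟩ := Subgroup.exists_right_complement'_of_coprime P.card_coprime_index
    have hcard := hG₀.card_mul_card
    have hG₀ne : G₀ ≠ ⊤ := fun e => by
      rw [e, Subgroup.card_top] at hcard
      have := (Nat.mul_eq_right Nat.card_pos.ne').1 hcard
      omega
    obtain ⟨A, hAle, h1, h2, h3⟩ := hsplit G₀ hG₀ne fun r hr hnr hrq => by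
      have hd : r ^ (Nat.card G).factorization r ∣ Nat.card P * Nat.card G₀ := by
        rw [hcard]; exact Nat.ordProj_dvd _ _
      refine (Nat.Coprime.pow_left _ ?_).dvd_of_dvd_mul_left hd
      rw [P.card_eq_multiplicity]
      exact Nat.Coprime.pow_right _ ((Nat.coprime_primes hr hq).2 hrq)
    refine ⟨(P : Subgroup G) ⊔ A, ?_, ?_, hfin _ ?_⟩
    · intro x hx y hy
      obtain ⟨a, ha, x', hx', rfl⟩ := (Subgroup.mem_sup_of_normal_left (s := (P : Subgroup G))).1 hx
      obtain ⟨b, hb, y', hy', rfl⟩ := (Subgroup.mem_sup_of_normal_left (s := (P : Subgroup G))).1 hy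
      calc a * x' * (b * y') = a * (x' * b) * y' := by group
        _ = a * (b * x') * y' := by rw [hcen b hb x']
        _ = (a * b) * (x' * y') := by group
        _ = (b * a) * (y' * x') := by rw [hcen b hb a, h1 x' hx' y' hy']
        _ = b * (a * y') * x' := by group
        _ = b * (y' * a) * x' := by rw [hcen a ha y']
        _ = _ := by group
    · intro r hr h
      have h4 : Nat.card ((P : Subgroup G) ⊔ A : Subgroup G) ∣ Nat.card P * Nat.card A := by
        rw [← Subgroup.relIndex_bot_left ((P : Subgroup G) ⊔ A),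
          ← Subgroup.relIndex_mul_relIndex ⊥ (P : Subgroup G) _ bot_le le_sup_left,
          Subgroup.relIndex_bot_left, sup_comm (P : Subgroup G) A, Subgroup.relIndex_sup_right]
        exact Nat.mul_dvd_mul_left _ ⟨Nat.card ((P : Subgroup G).subgroupOf A), by
          rw [mul_comm]; exact (Subgroup.card_mul_index _).symm⟩
      rcases hr.dvd_mul.1 (h.trans h4) with h5 | h5
      · rw [P.card_eq_multiplicity] at h5
        rw [(Nat.prime_dvd_prime_iff_eq hr hq).1 (hr.dvd_of_dvd_pow h5)]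
        exact hnq
      · exact h2 r hr h5
    · intro r hr hnr
      by_cases hrq : r = q
      · subst hrq
        rw [← P.card_eq_multiplicity]
        exact Subgroup.card_dvd_of_le le_sup_left
      · exact (h3 r hr hnr (Or.inl hrq)).trans (Subgroup.card_dvd_of_le le_sup_right)
  · obtain ⟨A, -, h1, h2, h3⟩ := hsplit C hCtop fun r hr hnr _ => hfull r hr hnr
    exact ⟨A, h1, h2, hfin A fun r hr hnr => h3 r hr hnr (Or.inr (hfull q hq hnq))⟩

end CfsgLib.Char.BlichfeldtPi
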