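import Cfsg.Agent.Lib.Char.Gallagher

/-!
# The degree ratio theorem
-/

set_option autoImplicit false
set_option linter.unusedSectionVars false

namespace CfsgLib.Char

open scoped ComplexConjugate
open Representation Module Cfsg

universe u

variable {G : Type u} [Group G]

theorem finite_roots {m : ℕ} (hm : 0 < m) : Finite {c : ℂˣ // c ^ m = 1} := by
  have : NeZero m := ⟨hm.ne'⟩
  exact Finite.of_injective (fun c : {c : ℂˣ // c ^ m = 1} =>
      (⟨c.1, (mem_rootsOfUnity m c.1).mpr c.2⟩ : rootsOfUnity m ℂ))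
    fun a b h => Subtype.ext (congrArg (fun x : rootsOfUnity m ℂ => (x : ℂˣ)) h)

section Cover

variable [Finite G] (N : Subgroup G) [hN : N.Normal] {d : ℕ}
  (ρ : Representation ℂ N (Fin d → ℂ)) [hρ : ρ.IsIrreducible]

/-- `det ^ |N|` on the extension group. -/
noncomputable def coverDet : extGroup N ρ →* ℂˣ :=
  ((Units.map (LinearMap.det : ((Fin d → ℂ) →ₗ[ℂ] (Fin d → ℂ)) →* ℂ)).comp (extOp N ρ)) ^ Nat.card N

theorem coverDet_emb (n : N) : coverDet N ρ (extEmb N ρ n) = 1 := by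
  refine Units.ext ?_
  rw [coverDet, MonoidHom.pow_apply, MonoidHom.comp_apply, extOp_emb, Units.val_pow_eq_pow_val,
    Units.coe_map, MonoidHom.coe_toHomUnits, ← map_pow, ← map_pow, pow_card_eq_one', map_one, map_one,
    Units.val_one]

theorem coverDet_scal (c : ℂˣ) : coverDet N ρ (extScal N ρ c) = c ^ (d * Nat.card N) := by
  refine Units.ext ?_
  rw [coverDet, MonoidHom.pow_apply, MonoidHom.comp_apply, extOp_scal, Units.val_pow_eq_pow_val,
    Units.coe_map, scalU_coe, Algebra.algebraMap_eq_smul_one, LinearMap.det_smul, map_one, mul_one,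
    Units.val_pow_eq_pow_val, pow_mul]
  simp

end Cover

/-- The degree ratio theorem for an invariant constituent. -/
theorem ratio_dvd_index_invariant [Finite G] (N : Subgroup G) [hN : N.Normal] [Fintype N]
    (χ : IrrCharacter G) {ϑ : N → ℂ} (hϑ : IsIrrCharacter N ϑ)
    (hinv : ∀ g : G, conjFun N ϑ g = ϑ)
    (hcon : classInner (fun n : N => (χ : G → ℂ) n) ϑ ≠ 0) {c d : ℕ} (hc : (χ : G → ℂ) 1 = c)
    (hd : ϑ 1 = d) : ∃ e : ℕ, c = d * e ∧ e ∣ N.index := by
  classical
  obtain ⟨m, ρ, hρ, rfl⟩ := hϑ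
  rw [Representation.char_one, Module.finrank_fin_fun, Nat.cast_inj] at hd
  subst hd
  have hinv' : IsInvariant N ρ := fun g n => congrFun (hinv g) n
  have hm : 0 < m := by
    have := finrank_pos_of_irreducible ρ
    rwa [Module.finrank_fin_fun] at this
  set E0 := (coverDet N ρ).ker with hE0
  let π0 : E0 →* G := (extProj N ρ).comp E0.subtype
  have hsurj : Function.Surjective π0 := by
    intro g
    obtain ⟨e, he⟩ := extProj_surjective N ρ hinv' g
    obtain ⟨w, hw⟩ := IsAlgClosed.exists_pow_nat_eq ((coverDet N ρ e : ℂ)⁻¹)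
      (Nat.mul_pos hm (Nat.card_pos (α := N)))
    have hw0 : w ≠ 0 := fun h => by
      rw [h, zero_pow (Nat.mul_pos hm (Nat.card_pos (α := N))).ne'] at hw
      exact inv_ne_zero (coverDet N ρ e).ne_zero hw.symm
    refine ⟨⟨e * extScal N ρ (Units.mk0 w hw0), ?_⟩, ?_⟩
    · rw [hE0, MonoidHom.mem_ker, map_mul, coverDet_scal]
      refine Units.ext ?_
      rw [Units.val_mul, Units.val_pow_eq_pow_val, Units.val_mk0, hw,
        mul_inv_cancel₀ (coverDet N ρ e).ne_zero, Units.val_one]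
    · show extProj N ρ (e * extScal N ρ (Units.mk0 w hw0)) = g
      rw [map_mul, extProj_scal, mul_one, he]
  have hker : ∀ x ∈ π0.ker, ∃ z : ℂˣ, z ^ (m * Nat.card N) = 1 ∧ x.1 = extScal N ρ z := by
    intro x hx
    obtain ⟨z, hz⟩ := eq_scal_of_proj_eq_one N ρ (e := x.1) hx
    refine ⟨z, ?_, hz⟩
    rw [← coverDet_scal N ρ, ← hz]
    exact x.2
  have hfin : Finite π0.ker := by
    have := finite_roots (Nat.mul_pos hm (Nat.card_pos (α := N)))
    choose z hz1 hz2 using fun x : π0.ker => hker x.1 x.2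
    exact Finite.of_injective (fun x => (⟨z x, hz1 x⟩ : {c : ℂˣ // c ^ (m * Nat.card N) = 1}))
      fun a b h => by
        have e : z a = z b := congrArg Subtype.val h
        exact Subtype.ext (Subtype.ext (by rw [hz2 a, hz2 b, e]))
  have hfinQ : Finite (E0 ⧸ π0.ker) :=
    Finite.of_equiv G (QuotientGroup.quotientKerEquivOfSurjective π0 hsurj).symm.toEquiv
  have hfinE : Finite E0 := Finite.of_subgroup_quotient π0.ker
  let ι : N →* E0 := (extEmb N ρ).codRestrict E0 fun n => coverDet_emb N ρ n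
  set N0 := ι.range with hN0
  have hN0n : N0.Normal := ⟨by
    rintro _ ⟨n, rfl⟩ x
    exact ⟨normalConjHom N (π0 x) n, Subtype.ext (extEmb_conj N ρ x.1 n).symm⟩⟩
  have := Fintype.ofFinite E0
  have := Fintype.ofFinite N0
  have hιinj : Function.Injective ι := fun a b h => Subtype.ext (congrArg π0 h)
  let eN : N ≃* N0 := MonoidHom.ofInjective hιinj
  let σ0 : Representation ℂ E0 (Fin m → ℂ) := (Units.coeHom _).comp ((extOp N ρ).comp E0.subtype)
  let ρ0 : Representation ℂ N0 (Fin m → ℂ) := σ0.comp N0.subtype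
  have hρ0eq : ∀ n : N, ρ0 (eN n) = ρ n := fun n => rfl
  have hres0 : IsIrrCharacter N0 ρ0.character := by
    have h : ρ0.character = fun x => ρ.character (eN.symm x) := funext fun x => by
      show LinearMap.trace ℂ _ (ρ0 x) = LinearMap.trace ℂ _ (ρ (eN.symm x))
      rw [← hρ0eq, MulEquiv.apply_symm_apply]
    rw [h]
    exact isIrrCharacter_comp_surjective ⟨m, ρ, hρ, rfl⟩ eN.symm.toMonoidHom eN.symm.surjective
  have hσ0 : σ0.IsIrreducible := by
    obtain ⟨k, τ, hτ, hτe⟩ := hres0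
    obtain ⟨φ⟩ := nonempty_equiv_of_character_eq τ ρ0 hτe
    have : ρ0.IsIrreducible := isIrreducible_of_equiv φ
    exact isIrreducible_of_restrict σ0 ρ0 fun _ => rfl
  let χ0 : IrrCharacter E0 := ⟨σ0.character, m, σ0, hσ0, rfl⟩
  let ψ0 : IrrCharacter E0 :=
    ⟨fun x => (χ : G → ℂ) (π0 x), isIrrCharacter_comp_surjective χ.2 π0 hsurj⟩
  have hne : classInner (fun x : N0 => (ψ0 : E0 → ℂ) x) (fun x : N0 => (χ0 : E0 → ℂ) x) ≠ 0 := by
    rw [← classInner_equiv eN]
    exact hcon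
  obtain ⟨hη, hprod⟩ := gallagher N0 χ0 hres0 ψ0 hne
  set η := cosetAvg N0 (fun x => (ψ0 : E0 → ℂ) x * conj ((χ0 : E0 → ℂ) x)) with hηdef
  obtain ⟨k, τ, hτ, hτη⟩ := hη
  have hk : c = m * k := by
    have h := congrFun hprod 1
    rw [Pi.mul_apply, ← hτη, Representation.char_one] at h
    rw [show (ψ0 : E0 → ℂ) 1 = (χ : G → ℂ) (π0 1) from rfl, map_one, hc,
      show (χ0 : E0 → ℂ) 1 = σ0.character 1 from rfl, Representation.char_one,
      Module.finrank_fin_fun, Module.finrank_fin_fun] at h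
    exact_mod_cast h
  refine ⟨k, hk, ?_⟩
  set S := scalarSubgroup τ with hS
  have := scalarSubgroup_normal τ
  have hdvd : k ∣ S.index := by
    have h := finrank_dvd_index_of_scalar τ S fun z hz => hz
    rwa [Module.finrank_fin_fun] at h
  refine hdvd.trans ?_
  have hle : N.comap π0 ≤ S := by
    intro x hx
    have hz : π0 (x * (ι ⟨_, hx⟩)⁻¹) = 1 := by
      rw [map_mul, map_inv]
      exact mul_inv_cancel (π0 x)
    have hker' : x * (ι ⟨_, hx⟩)⁻¹ ∈ S := by
      obtain ⟨z, -, hz2⟩ := hker _ hz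
      have hcen : x * (ι ⟨_, hx⟩)⁻¹ ∈ Subgroup.center E0 := Subgroup.mem_center_iff.mpr fun y =>
        Subtype.ext (by rw [Subgroup.coe_mul, Subgroup.coe_mul _ _ y, hz2, extScal_comm])
      exact exists_scalar_of_mem_center τ hcen
    have hN0S : ι ⟨_, hx⟩ ∈ S := by
      refine (norm_char_eq_iff τ _).mp ?_
      have h := cosetAvg_mul_left N0 (fun x => (ψ0 : E0 → ℂ) x * conj ((χ0 : E0 → ℂ) x))
        ⟨ι ⟨_, hx⟩, ⟨_, rfl⟩⟩ 1
      rw [mul_one, ← hηdef, ← hτη, Representation.char_one] at h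
      rw [h, Complex.norm_natCast]
    simpa using S.mul_mem hker' hN0S
  exact (Subgroup.index_dvd_of_le hle).trans (dvd_of_eq (Subgroup.index_comap_of_surjective N hsurj))

/-- `ϑ(1)` divides `χ(1)` and the quotient divides the index of `N`. -/
theorem ratio_dvd_index [Fintype G] (N : Subgroup G) [hN : N.Normal] [Fintype N] {χ : G → ℂ}
    (hχ : IsIrrCharacter G χ) {ϑ : N → ℂ} (hϑ : IsIrrCharacter N ϑ)
    (hcon : classInner (fun n : N => χ n) ϑ ≠ 0) {c d : ℕ} (hc : χ 1 = c) (hd : ϑ 1 = d) :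
    d ∣ c ∧ c / d ∣ N.index := by
  classical
  obtain ⟨ψ, hψ, hχψ, hψN⟩ := exists_inertia_correspondent_inner N hχ hϑ hcon
  have hNT : N ≤ (inertia N ϑ) := le_inertia N (isClassFunction_of_isCharacter (isCharacter_of_isIrr hϑ))
  have := Fintype.ofFinite (inertia N ϑ)
  set N' := N.subgroupOf (inertia N ϑ) with hN'
  have := Fintype.ofFinite N'
  let e : N' ≃* N := Subgroup.subgroupOfEquivOfLe hNT
  have hϑ' : IsIrrCharacter N' (fun x => ϑ (e x)) :=
    isIrrCharacter_comp_surjective hϑ e.toMonoidHom e.surjective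
  have hinv : ∀ g : (inertia N ϑ), conjFun N' (fun x => ϑ (e x)) g = fun x => ϑ (e x) := fun g => funext fun x =>
    congrFun (show conjFun N ϑ (g : G) = ϑ from g.2) (e x)
  obtain ⟨b, hb0, hb⟩ := isIrrCharacter_degree hψ
  have hd0 : 0 < d := by
    obtain ⟨d', h0, h1⟩ := isIrrCharacter_degree hϑ
    have : d' = d := by exact_mod_cast h1.symm.trans hd
    exact this ▸ h0
  obtain ⟨k, hk, hkdvd⟩ := ratio_dvd_index_invariant N' ⟨ψ, hψ⟩ hϑ' hinv (by
      have h := classInner_equiv e (fun n : N => ψ (Subgroup.inclusion hNT n)) ϑ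
      show classInner (fun x : N' => ψ (Subgroup.inclusion hNT (e x))) (fun x => ϑ (e x)) ≠ 0
      rw [h, hψN hNT]
      exact hcon) hb (show ϑ (e 1) = (d : ℂ) by rw [map_one, hd])
  have hcT : c = (inertia N ϑ).index * b := by
    have h := congrFun hχψ 1
    rw [hc, indFun_one, hb] at h
    exact_mod_cast h
  have hcd : c = d * ((inertia N ϑ).index * k) := by rw [hcT, hk]; ring
  refine ⟨⟨_, hcd⟩, ?_⟩
  rw [hcd, Nat.mul_div_cancel_left _ hd0, ← Subgroup.relIndex_mul_index hNT, mul_comm]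
  exact Nat.mul_dvd_mul_right hkdvd _

end CfsgLib.Char
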