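/-
A character induced from a maximal subgroup, with irreducible restriction to the core, is not quasiprimitive.
-/
import Cfsg.Agent.Lib.Char.DegreeRatio
import Cfsg.Agent.Lib.Char.Induction
import Cfsg.Agent.Lib.Char.Determine
import Cfsg.Agent.Lib.Coprime.Primitive

set_option autoImplicit false

open scoped ComplexConjugate
open Cfsg

namespace CfsgLib.Char.CoreInduced

universe u

/-- Irreducibility descends along restriction. -/
theorem isIrr_of_comp {A B : Type u} [Group A] [Fintype A] [Group B] [Fintype B] (j : A →* B) {ψ : B → ℂ}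
    (hψ : IsCharacter B ψ) (h : IsIrrCharacter A (fun a => ψ (j a))) : IsIrrCharacter B ψ := by
  classical
  have hne : ψ ≠ 0 := fun e => irr_one_ne_zero ⟨_, h⟩ (congrFun e (j 1))
  obtain ⟨β, hβ⟩ := exists_irr_inner_ne_zero hψ hne
  have hrest := isCharacter_comp (isCharacter_sub_constituent hψ β hβ) j
  have hβj := isCharacter_comp (isCharacter_irr β) j
  have hne' : (fun a => (β : B → ℂ) (j a)) ≠ 0 := fun e => irr_one_ne_zero β (by
    have := congrFun e 1; simpa using this)
  obtain ⟨γ, hγ⟩ := exists_irr_inner_ne_zero hβj hne'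
  obtain ⟨m, hm⟩ := classInner_char_irr_nat hrest γ
  obtain ⟨m', hm'⟩ := classInner_char_irr_nat hβj γ
  have hsum : (fun a => ψ (j a)) = (fun a => (ψ - (β : B → ℂ)) (j a)) + fun a => (β : B → ℂ) (j a) := by
    funext a; simp
  have h1 : classInner (fun a => ψ (j a)) (γ : A → ℂ) = ((m + m' : ℕ) : ℂ) := by
    rw [hsum, classInner_add_left, hm, hm', Nat.cast_add]
  have hm'0 : m' ≠ 0 := fun e => hγ (by rw [hm', e, Nat.cast_zero])
  have heq : (⟨_, h⟩ : IrrCharacter A) = γ :=
    irr_eq_of_inner_ne_zero (show classInner (fun a => ψ (j a)) (γ : A → ℂ) ≠ 0 by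
      rw [h1]; exact Nat.cast_ne_zero.2 (by omega))
  obtain ⟨a, ha⟩ := isCharacter_degree hψ
  obtain ⟨b, hb⟩ := isCharacter_degree (isCharacter_irr β)
  have hγ1 : (γ : A → ℂ) 1 = a := by rw [← heq]; show ψ (j 1) = a; rw [map_one, ha]
  have h2 := (degree_le_of_constituent hβj γ hγ (a := b) (b := a) (by rw [map_one, hb]) hγ1).1
  have h3 := degree_le_of_constituent hψ β hβ ha hb
  rw [h3.2 (le_antisymm h2 h3.1)]
  exact β.2

theorem eq_smul_of_degree {A : Type u} [Group A] [Fintype A] {f : A → ℂ} (hf : IsCharacter A f) (φ : IrrCharacter A)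
    {n : ℕ} (hn : classInner f (φ : A → ℂ) = n) (h1 : f 1 = (n : ℂ) * (φ : A → ℂ) 1) :
    f = (n : ℂ) • (φ : A → ℂ) := by
  classical
  have hch : IsCharacter A (f - (n : ℂ) • (φ : A → ℂ)) := by
    refine isCharacter_of_nat_inner (fun g h => ?_) fun ψ => ?_
    · simp only [Pi.sub_apply, Pi.smul_apply, isClassFunction_of_isCharacter hf g h, isClassFunction_irr φ g h]
    · rw [classInner_sub_left, classInner_smul_left]
      by_cases hψ : φ = ψ
      · subst hψ; exact ⟨0, by rw [classInner_irr_self, hn]; simp⟩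
      · rw [classInner_irr_ne hψ, mul_zero, sub_zero]
        exact classInner_char_irr_nat hf ψ
  exact sub_eq_zero.1 (eq_zero_of_char_one_eq_zero hch (by simp [h1]))

variable {G : Type u} [Group G] [Fintype G]

/-- Mackey's formula for a supplement. -/
theorem indFun_supplement (H Y : Subgroup G) [Y.Normal] [Fintype Y] (hY : Y ⊔ H = ⊤) {ϑ : H → ℂ}
    (hcl : IsClassFunction H ϑ) (z : G) :
    indFun H ϑ z = (Nat.card ↥(Y ⊓ H) : ℂ)⁻¹ * ∑ y : Y, extendByZero H ϑ ((y : G)⁻¹ * z * y) := by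
  classical
  haveI := Fintype.ofFinite H
  set f := extendByZero H ϑ with hf
  have hconj : ∀ h ∈ H, ∀ w : G, f (h⁻¹ * w * h) = f w := by
    intro h hh w
    by_cases hw : w ∈ H
    · rw [hf, extendByZero_mem H ϑ hw, extendByZero_mem H ϑ (mul_mem (mul_mem (inv_mem hh) hw) hh)]
      have := hcl ⟨w, hw⟩ ⟨h⁻¹, inv_mem hh⟩
      rw [← this]
      congr 1
      exact Subtype.ext (by simp)
    · rw [hf, extendByZero_not_mem H ϑ hw, extendByZero_not_mem H ϑ fun h' => hw (by
        have := mul_mem (mul_mem hh h') (inv_mem hh)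
        simpa [mul_assoc] using this)]
  have hfib : ∀ x : G, Nat.card {q : Y × H // (q.1 : G) * q.2 = x} = Nat.card ↥(Y ⊓ H) := by
    intro x
    have hx : x ∈ ((Y ⊔ H : Subgroup G) : Set G) := by rw [hY]; trivial
    rw [Subgroup.normal_mul] at hx
    obtain ⟨y0, hy0, h0, hh0, rfl⟩ := hx
    exact Nat.card_congr
      { toFun := fun q => ⟨y0⁻¹ * q.1.1, Subgroup.mem_inf.2 ⟨mul_mem (inv_mem hy0) q.1.1.2, by
          show y0⁻¹ * (q.1.1 : G) ∈ H
          have e : y0⁻¹ * (q.1.1 : G) = h0 * (q.1.2 : G)⁻¹ := by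
            rw [eq_mul_inv_iff_mul_eq, mul_assoc, q.2, inv_mul_cancel_left]
          rw [e]; exact mul_mem hh0 (inv_mem q.1.2.2)⟩⟩
        invFun := fun d => ⟨(⟨y0 * d.1, mul_mem hy0 d.2.1⟩, ⟨(d : G)⁻¹ * h0, mul_mem (inv_mem d.2.2) hh0⟩), by
          show y0 * (d : G) * ((d : G)⁻¹ * h0) = y0 * h0
          group⟩
        left_inv := fun q => by
          have e := q.2
          refine Subtype.ext (Prod.ext (Subtype.ext (by simp)) (Subtype.ext ?_))
          show (y0⁻¹ * (q.1.1 : G))⁻¹ * h0 = q.1.2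
          rw [inv_mul_eq_iff_eq_mul, mul_assoc, e, inv_mul_cancel_left]
        right_inv := fun d => Subtype.ext (by simp) }
  have h1 : (Nat.card ↥(Y ⊓ H) : ℂ) * ∑ x : G, f (x⁻¹ * z * x) =
      (Nat.card H : ℂ) * ∑ y : Y, f ((y : G)⁻¹ * z * y) := by
    have h2 : ∑ q : Y × H, f (((q.1 : G) * q.2)⁻¹ * z * ((q.1 : G) * q.2)) =
        (Nat.card H : ℂ) * ∑ y : Y, f ((y : G)⁻¹ * z * y) := by
      rw [Fintype.sum_prod_type, Finset.mul_sum]
      refine Finset.sum_congr rfl fun y _ => ?_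
      rw [Finset.sum_congr rfl (g := fun _ => f ((y : G)⁻¹ * z * y)) fun h _ => ?_, Finset.sum_const,
        Finset.card_univ, ← Nat.card_eq_fintype_card, nsmul_eq_mul]
      rw [← hconj h h.2 ((y : G)⁻¹ * z * y)]
      congr 1; group
    rw [← h2, ← Finset.sum_fiberwise Finset.univ (fun q : Y × H => (q.1 : G) * q.2), Finset.mul_sum]
    refine Finset.sum_congr rfl fun x _ => ?_
    rw [Finset.sum_congr rfl (g := fun _ => f (x⁻¹ * z * x)) fun q hq => by rw [(Finset.mem_filter.1 hq).2],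
      Finset.sum_const, nsmul_eq_mul, ← hfib x, Nat.card_eq_fintype_card, Fintype.card_subtype]
  have hA : (Nat.card ↥(Y ⊓ H) : ℂ) ≠ 0 := Nat.cast_ne_zero.2 Nat.card_pos.ne'
  have hB : (Nat.card H : ℂ) ≠ 0 := Nat.cast_ne_zero.2 Nat.card_pos.ne'
  rw [indFun, ← hf]
  field_simp
  linear_combination h1

theorem indFun_restrict (H Y : Subgroup G) [Y.Normal] [Fintype Y] (hY : Y ⊔ H = ⊤) {ϑ : H → ℂ}
    (hcl : IsClassFunction H ϑ) :
    (fun y : Y => indFun H ϑ y) = indFun (H.subgroupOf Y) (fun x => extendByZero H ϑ ((x : Y) : G)) := by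
  classical
  funext z
  rw [indFun_supplement H Y hY hcl, indFun]
  congr 1
  · rw [← Nat.card_congr (Subgroup.subgroupOfEquivOfLe (inf_le_left : Y ⊓ H ≤ Y)).toEquiv, Subgroup.inf_subgroupOf_left]
  · refine Finset.sum_congr rfl fun y _ => ?_
    by_cases hm : (y : G)⁻¹ * z * y ∈ H
    · rw [extendByZero_mem (H.subgroupOf Y) _ (show y⁻¹ * z * y ∈ H.subgroupOf Y from hm)]
      simp
    · rw [extendByZero_not_mem (H.subgroupOf Y) _ (show y⁻¹ * z * y ∉ H.subgroupOf Y from hm),
        extendByZero_not_mem H ϑ hm]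

section

variable {L H : Subgroup G} (hLH : L ≤ H) {ϑ : H → ℂ} (hϑ : IsIrrCharacter H ϑ)
  (hϑL : IsIrrCharacter L (fun x : L => ϑ ⟨(x : G), hLH x.2⟩))

include hϑ hϑL in
theorem isIrr_restrict {A : Type u} [Group A] [Fintype A] (j : A →* G) (hj : ∀ a, j a ∈ H) (k : L →* A)
    (hk : ∀ x, j (k x) = x) : IsIrrCharacter A (fun a => extendByZero H ϑ (j a)) := by
  haveI := Fintype.ofFinite L
  have he : (fun a => extendByZero H ϑ (j a)) = fun a => ϑ (j.codRestrict H hj a) :=
    funext fun a => extendByZero_mem H ϑ (hj a)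
  refine isIrr_of_comp k (he ▸ isCharacter_comp (isCharacter_of_isIrr hϑ) _) ?_
  have : (fun x : L => extendByZero H ϑ (j (k x))) = fun x : L => ϑ ⟨(x : G), hLH x.2⟩ :=
    funext fun x => by rw [hk]; exact extendByZero_mem H ϑ (hLH x.2)
  rw [this]; exact hϑL

end

theorem no_supplement_fixed {H C K R : Subgroup G} [Fintype C] [C.Normal] [K.Normal] (hCH : C ≤ H) (hCR : C ≤ R)
    (hRH : R ≤ H) (hKH : K ⊔ H = ⊤) (hKC : K ⊓ H = C) {ϑ : H → ℂ} (hϑ : IsIrrCharacter H ϑ)
    (hR : IsIrrCharacter R (fun x : R => extendByZero H ϑ x))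
    (hC : IsIrrCharacter C (fun x : C => extendByZero H ϑ x)) {n : ℕ} (hn : Nat.card K = n * Nat.card C)
    (hval : ∀ x ∈ R, indFun H ϑ x = (n : ℂ) * extendByZero H ϑ x) :
    ∀ x ∈ R, ∀ k ∈ K, k⁻¹ * x * k * x⁻¹ ∈ C := by
  classical
  haveI := Fintype.ofFinite K
  haveI := Fintype.ofFinite R
  haveI := Fintype.ofFinite (C.subgroupOf R)
  intro x hx k hk
  set f := extendByZero H ϑ with hf
  set F : Finset K := Finset.univ.filter fun k => (k : G)⁻¹ * x * k ∈ H with hF
  have hmemC : ∀ k : K, (k : G)⁻¹ * x * k ∈ H → (k : G)⁻¹ * x * k * x⁻¹ ∈ C := by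
    intro k hk
    rw [← hKC]
    refine Subgroup.mem_inf.2 ⟨?_, mul_mem hk (inv_mem (hRH hx))⟩
    rw [show (k : G)⁻¹ * x * k * x⁻¹ = (k : G)⁻¹ * (x * k * x⁻¹) by group]
    exact mul_mem (inv_mem k.2) (Subgroup.Normal.conj_mem ‹_› _ k.2 x)
  suffices F = Finset.univ by
    have h : (⟨k, hk⟩ : K) ∈ F := this ▸ Finset.mem_univ _
    exact hmemC ⟨k, hk⟩ (Finset.mem_filter.1 h).2
  refine Finset.eq_univ_of_card _ (le_antisymm (Finset.card_le_univ _) ?_)
  -- the average of `|ϑ|²` on the coset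
  have havg : ∑ c : C, ‖f ((c : G) * x)‖ ^ 2 = (Nat.card C : ℝ) := by
    have hN : IsIrrCharacter (C.subgroupOf R) (fun m : C.subgroupOf R => f ((m : R) : G)) :=
      isIrrCharacter_comp_surjective hC (Subgroup.subgroupOfEquivOfLe hCR).toMonoidHom
        (Subgroup.subgroupOfEquivOfLe hCR).surjective
    have h := congrFun (cosetAvg_self_eq_one (C.subgroupOf R) ⟨_, hR⟩ hN) ⟨x, hx⟩
    have hc0 : (Nat.card (C.subgroupOf R) : ℂ) ≠ 0 := Nat.cast_ne_zero.2 Nat.card_pos.ne'
    rw [cosetAvg, inv_mul_eq_iff_eq_mul₀ hc0, mul_one] at h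
    rw [← Nat.card_congr (Subgroup.subgroupOfEquivOfLe hCR).toEquiv]
    have h' : ((∑ c : C, ‖f ((c : G) * x)‖ ^ 2 : ℝ) : ℂ) = ((Nat.card (C.subgroupOf R) : ℝ) : ℂ) := by
      rw [Complex.ofReal_natCast, ← h, Complex.ofReal_sum]
      refine Fintype.sum_equiv (Subgroup.subgroupOfEquivOfLe hCR).symm.toEquiv _ _ fun c => ?_
      rw [Complex.ofReal_pow, ← Complex.mul_conj']
      rfl
    exact_mod_cast h'
  have hform : ∀ c : C, (Nat.card C : ℂ) * indFun H ϑ ((c : G) * x) =
      ∑ k ∈ F, f ((k : G)⁻¹ * ((c : G) * x) * k) := by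
    intro c
    rw [indFun_supplement H K hKH (isClassFunction_of_isCharacter (isCharacter_of_isIrr hϑ)), hKC,
      mul_inv_cancel_left₀ (Nat.cast_ne_zero.2 Nat.card_pos.ne'), hF, Finset.sum_filter]
    refine Finset.sum_congr rfl fun k _ => ?_
    by_cases hm : (k : G)⁻¹ * x * k ∈ H
    · rw [if_pos hm]
    · rw [if_neg hm, extendByZero_not_mem]
      intro h
      apply hm
      have hc' : (k : G)⁻¹ * (c : G)⁻¹ * k ∈ H := hCH (by
        simpa using Subgroup.Normal.conj_mem ‹_› _ (inv_mem c.2) (k : G)⁻¹)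
      have := mul_mem hc' h
      rwa [show (k : G)⁻¹ * (c : G)⁻¹ * k * ((k : G)⁻¹ * ((c : G) * x) * k) = (k : G)⁻¹ * x * k by group] at this
  have hperm : ∀ k ∈ F, ∑ c : C, ‖f ((k : G)⁻¹ * ((c : G) * x) * k)‖ ^ 2 = (Nat.card C : ℝ) := by
    intro k hk
    rw [← havg]
    have hd := hmemC k (Finset.mem_filter.1 hk).2
    let π : C → C := fun c => ⟨(k : G)⁻¹ * (c : G) * k * ((k : G)⁻¹ * x * k * x⁻¹),
      mul_mem (by simpa using Subgroup.Normal.conj_mem ‹_› _ c.2 (k : G)⁻¹) hd⟩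
    have hπ : Function.Bijective π := Finite.injective_iff_bijective.1 fun a b e => Subtype.ext (by
      simpa [π] using congrArg Subtype.val e)
    refine Fintype.sum_bijective π hπ _ _ fun c => ?_
    congr 3
    simp only [π]; group
  have hb : ∀ c : C, ((Nat.card C : ℝ) * n) ^ 2 * ‖f ((c : G) * x)‖ ^ 2 ≤
      (F.card : ℝ) * ∑ k ∈ F, ‖f ((k : G)⁻¹ * ((c : G) * x) * k)‖ ^ 2 := by
    intro c
    have h := hform c
    rw [hval _ (mul_mem (hCR c.2) hx), ← mul_assoc] at h
    have h2 := congrArg (fun z : ℂ => ‖z‖) h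
    simp only [norm_mul, Complex.norm_natCast] at h2
    rw [← mul_pow, h2]
    refine le_trans (pow_le_pow_left₀ (norm_nonneg _) (norm_sum_le _ _) 2) ?_
    exact sq_sum_le_card_mul_sum_sq
  have hs := Finset.sum_le_sum (s := Finset.univ) fun c _ => hb c
  rw [← Finset.mul_sum, havg, ← Finset.mul_sum, Finset.sum_comm, Finset.sum_congr rfl hperm,
    Finset.sum_const, nsmul_eq_mul] at hs
  have hCpos : (0 : ℝ) < Nat.card C := Nat.cast_pos.2 Nat.card_pos
  have h3 : ((Nat.card C : ℝ) * n) ^ 2 ≤ (F.card : ℝ) ^ 2 := by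
    refine le_of_mul_le_mul_right ?_ hCpos
    linarith
  have h4 : (Nat.card C * n) ^ 2 ≤ F.card ^ 2 := by exact_mod_cast h3
  rw [← Nat.card_eq_fintype_card, hn, mul_comm]
  exact (Nat.pow_le_pow_iff_left two_ne_zero).1 h4

theorem exists_not_homogeneous (L H : Subgroup G) [L.Normal] (hLH : L ≤ H) (hmax : IsCoatom H)
    (hsolv : Group.IsSolvable (G ⧸ L)) (ϑ : H → ℂ) (hϑ : IsIrrCharacter H ϑ)
    (hϑL : IsIrrCharacter L (fun x : L => ϑ ⟨(x : G), hLH x.2⟩)) (hind : IsIrrCharacter G (indFun H ϑ)) :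
    ∃ M : Subgroup G, M.Normal ∧ L ≤ M ∧
      ¬ ∃ (φ : M → ℂ) (e : ℕ), IsIrrCharacter M φ ∧ (fun m : M => indFun H ϑ m) = (e : ℂ) • φ := by
  classical
  by_contra hcon
  push Not at hcon
  haveI := Fintype.ofFinite H
  haveI := Fintype.ofFinite L
  have hcl := isClassFunction_of_isCharacter (isCharacter_of_isIrr hϑ)
  set f := extendByZero H ϑ with hf
  set χ := indFun H ϑ with hχ
  have hχcl := isClassFunction_indFun H ϑ
  have hχH : classInner (fun h : H => χ h) ϑ = 1 := by
    rw [← classInner_indFun_right H ϑ χ hχcl, hχ]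
    exact classInner_irr_self ⟨_, hind⟩
  obtain ⟨d, hd0, hd⟩ := isIrrCharacter_degree hϑ
  have hχ1 : χ 1 = (H.index : ℂ) * d := by rw [hχ, indFun_one, hd]
  -- the subgroup is not normal
  have hHn : ¬ H.Normal := by
    intro hn
    obtain ⟨φ, e, hφ, he⟩ := hcon H hn hLH
    rw [he, classInner_smul_left] at hχH
    have hne : classInner φ ϑ ≠ 0 := fun h => by rw [h, mul_zero] at hχH; exact zero_ne_one hχH
    have hφe : φ = ϑ := congrArg Subtype.val
      (irr_eq_of_inner_ne_zero (χ := (⟨φ, hφ⟩ : IrrCharacter H)) (ψ := ⟨ϑ, hϑ⟩) hne)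
    rw [hφe, show classInner ϑ ϑ = 1 from classInner_irr_self ⟨ϑ, hϑ⟩, mul_one] at hχH
    have h1 := congrFun he 1
    rw [hφe, hχH, one_smul, hd] at h1
    have h2 : (H.index : ℂ) * d = (1 : ℂ) * d := by rw [← hχ1, one_mul]; exact h1
    have h3 : H.index = 1 := by exact_mod_cast mul_right_cancel₀ (Nat.cast_ne_zero.2 hd0.ne') h2
    exact hmax.1 (Subgroup.index_eq_one.1 h3)
  set C := H.normalCore with hC
  haveI : C.Normal := inferInstance
  haveI := Fintype.ofFinite C
  have hLC : L ≤ C := Subgroup.normal_le_normalCore.2 hLH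
  have hCH : C ≤ H := Subgroup.normalCore_le H
  have hirr : ∀ {A : Subgroup G}, L ≤ A → A ≤ H → IsIrrCharacter A (fun x : A => f x) := fun {A} h1 h2 => by
    haveI := Fintype.ofFinite A
    exact isIrr_restrict hLH hϑ hϑL A.subtype (fun a => h2 a.2) (Subgroup.inclusion h1) fun _ => rfl
  -- the restriction to the core
  have hχC : ∀ x ∈ C, χ x = (H.index : ℂ) * f x := by
    obtain ⟨φ, e, hφ, he⟩ := hcon C inferInstance hLC
    have hfC := hirr hLC hCH
    have hne : classInner (fun x : C => χ x) (fun x : C => f x) ≠ 0 := by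
      have hHch : IsCharacter H (fun h : H => χ h) := isCharacter_comp (isCharacter_of_isIrr hind) H.subtype
      have hsub := isCharacter_sub_constituent hHch ⟨ϑ, hϑ⟩
        (show classInner (fun h : H => χ h) ϑ ≠ 0 by rw [hχH]; exact one_ne_zero)
      obtain ⟨m, hm⟩ := classInner_char_irr_nat (isCharacter_comp hsub (Subgroup.inclusion hCH)) ⟨_, hfC⟩
      have hsplit : (fun x : C => χ x) = (fun x : C => ((fun h : H => χ h) - ϑ) (Subgroup.inclusion hCH x)) +
          fun x : C => f x := by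
        funext x
        show χ x = (χ x - ϑ _) + f x
        rw [hf, extendByZero_mem H ϑ (hCH x.2)]
        simp [Subgroup.inclusion]
      rw [hsplit, classInner_add_left, classInner_irr_self ⟨_, hfC⟩, hm]
      exact_mod_cast Nat.succ_ne_zero m
    rw [he, classInner_smul_left] at hne
    have hφe : φ = fun x : C => f x := congrArg Subtype.val
      (irr_eq_of_inner_ne_zero (χ := (⟨φ, hφ⟩ : IrrCharacter C)) (ψ := ⟨_, hfC⟩) (right_ne_zero_of_mul hne))
    have h1 := congrFun he 1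
    rw [hφe] at he h1
    simp only [Pi.smul_apply, smul_eq_mul, OneMemClass.coe_one] at h1
    rw [hf, extendByZero_mem H ϑ (one_mem H), show (⟨1, one_mem H⟩ : H) = 1 from rfl, hd, hχ1] at h1
    have h3 := mul_right_cancel₀ (Nat.cast_ne_zero.2 hd0.ne') h1
    intro x hx
    rw [h3]
    exact congrFun he ⟨x, hx⟩
  -- the primitive solvable quotient
  set π := QuotientGroup.mk' C with hπdef
  haveI : Group.IsSolvable (G ⧸ C) := by
    haveI := hsolv
    refine Group.isSolvable_of_surjective (f := QuotientGroup.map L C (MonoidHom.id G) (by rwa [Subgroup.comap_id])) ?_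
    intro q
    obtain ⟨g, rfl⟩ := QuotientGroup.mk_surjective q
    exact ⟨(g : G ⧸ L), rfl⟩
  set U := H.map π with hU
  have hUc : U.comap π = H := by
    rw [hU, Subgroup.comap_map_eq, hπdef, QuotientGroup.ker_mk', sup_eq_left.2 hCH]
  have hπs : Function.Surjective π := QuotientGroup.mk'_surjective C
  have hUmax : IsCoatom U := by
    refine ⟨fun e => hmax.1 (by rw [← hUc, e, Subgroup.comap_top]), fun W hW => ?_⟩
    have h1 : H ≤ W.comap π := hUc ▸ Subgroup.comap_mono hW.le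
    rcases h1.lt_or_eq with h | h
    · rw [← Subgroup.map_comap_eq_self_of_surjective hπs W, hmax.2 _ h, Subgroup.map_top_of_surjective π hπs]
    · exact absurd (by rw [hU, h, Subgroup.map_comap_eq_self_of_surjective hπs]) hW.ne
  have hUcore : U.normalCore = ⊥ := by
    have h1 : U.normalCore.comap π ≤ C :=
      Subgroup.normal_le_normalCore.2 ((Subgroup.comap_mono (Subgroup.normalCore_le U)).trans hUc.le)
    rw [eq_bot_iff, ← Subgroup.map_comap_eq_self_of_surjective hπs U.normalCore]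
    refine (Subgroup.map_mono h1).trans ?_
    rw [Subgroup.map_le_iff_le_comap, MonoidHom.comap_bot, hπdef, QuotientGroup.ker_mk']
  haveI : Nontrivial (G ⧸ C) := QuotientGroup.nontrivial_iff.2 fun e => hmax.1 (eq_top_iff.2 (e ▸ hCH))
  obtain ⟨V, hVn, hV0, -, hVmin⟩ := Coprime.exists_minimal_normal_le (N := (⊤ : Subgroup (G ⧸ C))) top_ne_bot
  haveI := hVn
  obtain ⟨p, dv, hp, hdv, hVcard, hVp, hVab⟩ := Coprime.exists_minimal_abelian V hV0 hVmin
  haveI := Fact.mk hp
  have hVU := Coprime.sup_eq_top_of_normal hUmax hUcore V hV0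
  have hVU0 : V ⊓ U = ⊥ := le_bot_iff.1 ((inf_le_inf_right U hVab).trans
    (Coprime.centralizer_inf_eq_bot hUmax hUcore V hV0).le)
  have hU0 : U ≠ ⊥ := by
    intro e
    refine hHn ?_
    have : H = C := by rw [← hUc, e, MonoidHom.comap_bot, hπdef, QuotientGroup.ker_mk']
    rw [this]; infer_instance
  haveI : Nontrivial U := (Subgroup.nontrivial_iff_ne_bot U).2 hU0
  obtain ⟨R0, hR0n, hR00, -, hR0min⟩ := Coprime.exists_minimal_normal_le (N := (⊤ : Subgroup U)) top_ne_bot
  haveI := hR0n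
  obtain ⟨r, dr, hr, -, hR0card, hR0p, -⟩ := Coprime.exists_minimal_abelian R0 hR00 hR0min
  haveI := Fact.mk hr
  set Rb := R0.map U.subtype with hRb
  have hRbU : Rb ≤ U := Subgroup.map_subtype_le _
  have hRb0 : Rb ≠ ⊥ := fun e => hR00 ((Subgroup.map_eq_bot_iff_of_injective _ U.subtype_injective).1 e)
  have hRbn : U ≤ Subgroup.normalizer (Rb : Set (G ⧸ C)) := by
    intro g hg
    refine Subgroup.mem_normalizer_fintype ?_
    rintro _ ⟨y, hy, rfl⟩
    exact ⟨⟨g, hg⟩ * y * ⟨g, hg⟩⁻¹, hR0n.conj_mem y hy _, rfl⟩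
  -- a minimal normal subgroup of the point stabilizer cannot centralize `V`
  have hnc : ¬ Rb ≤ Subgroup.centralizer (V : Set (G ⧸ C)) := fun h => hRb0 (le_bot_iff.1
    ((le_inf h hRbU).trans (Coprime.centralizer_inf_eq_bot hUmax hUcore V hV0).le))
  have hrp : r ≠ p := by
    intro e
    subst e
    set W := V ⊓ Subgroup.centralizer (Rb : Set (G ⧸ C)) with hW
    have hWn : W.Normal := by
      rw [← Subgroup.normalizer_eq_top_iff, eq_top_iff, ← hVU]
      refine sup_le ?_ (Coprime.inf_le_normalizer (le_top.trans (Subgroup.normalizer_eq_top V).ge)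
        (hRbn.trans (Coprime.normalizer_le_normalizer_centralizer Rb)))
      refine le_trans ?_ (Coprime.centralizer_le_normalizer_self W)
      rw [Subgroup.le_centralizer_iff]
      exact inf_le_left.trans hVab
    have hWV : W = V := by
      refine ((hVmin W hWn inf_le_left).resolve_left fun hW0 => ?_)
      letI : MulAction Rb V :=
        { smul := fun s v => ⟨(s : G ⧸ C) * v * (s : G ⧸ C)⁻¹, hVn.conj_mem _ v.2 _⟩
          one_smul := fun v => Subtype.ext (by show (1 : G ⧸ C) * v * (1 : G ⧸ C)⁻¹ = v; simp)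
          mul_smul := fun s t v => Subtype.ext (by
            show ((s : G ⧸ C) * t) * v * ((s : G ⧸ C) * t)⁻¹ = (s : G ⧸ C) * ((t : G ⧸ C) * v * (t : G ⧸ C)⁻¹) * (s : G ⧸ C)⁻¹
            group) }
      have h1 : (1 : V) ∈ MulAction.fixedPoints Rb V := fun s => Subtype.ext (by
        show (s : G ⧸ C) * 1 * (s : G ⧸ C)⁻¹ = 1; simp)
      obtain ⟨v, hv, hv1⟩ := (hR0p.map U.subtype).exists_fixed_point_of_prime_dvd_card_of_fixed_point V
        (hVcard ▸ dvd_pow_self r hdv.ne') h1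
      have : (v : G ⧸ C) ∈ W := ⟨v.2, Subgroup.mem_centralizer_iff.2 fun s hs =>
        mul_inv_eq_iff_eq_mul.1 (congrArg Subtype.val (hv ⟨s, hs⟩))⟩
      rw [hW0, Subgroup.mem_bot] at this
      exact hv1 (Subtype.ext this.symm)
    exact hnc (Subgroup.le_centralizer_iff.1 (hWV ▸ inf_le_right))
  set MQ := V ⊔ Rb with hMQ
  have hMQn : MQ.Normal := by
    rw [← Subgroup.normalizer_eq_top_iff, eq_top_iff, ← hVU]
    exact sup_le ((le_sup_left : V ≤ MQ).trans Subgroup.le_normalizer)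
      (Coprime.sup_le_normalizer (le_top.trans (Subgroup.normalizer_eq_top V).ge) hRbn)
  haveI := hMQn
  set K := V.comap π with hK
  set M := MQ.comap π with hM
  set R := Rb.comap π with hR
  haveI := Fintype.ofFinite K
  haveI := Fintype.ofFinite M
  have hCK : C ≤ K := fun x hx => by
    show π x ∈ V; rw [hπdef, QuotientGroup.mk'_apply, (QuotientGroup.eq_one_iff x).2 hx]; exact one_mem _
  have hCR : C ≤ R := fun x hx => by
    show π x ∈ Rb; rw [hπdef, QuotientGroup.mk'_apply, (QuotientGroup.eq_one_iff x).2 hx]; exact one_mem _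
  have hRH : R ≤ H := (Subgroup.comap_mono hRbU).trans hUc.le
  have hKM : K ≤ M := Subgroup.comap_mono le_sup_left
  have hKH : K ⊔ H = ⊤ := by
    rw [← hUc, hK, Subgroup.comap_sup_eq π V U hπs, hVU, Subgroup.comap_top]
  have hMH : M ⊔ H = ⊤ := top_le_iff.1 (hKH ▸ sup_le_sup_right hKM H)
  have hKC : K ⊓ H = C := by
    rw [← hUc, hK, ← Subgroup.comap_inf, hVU0, MonoidHom.comap_bot, hπdef, QuotientGroup.ker_mk']
  set n := H.index with hn
  have hnV : n = p ^ dv := by
    rw [hn, ← hUc, Subgroup.index_comap_of_surjective _ hπs, ← hVcard]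
    exact ((Subgroup.isComplement'_of_disjoint_and_mul_eq_univ (disjoint_iff.2 hVU0) (by
      rw [← Subgroup.normal_mul, hVU, Subgroup.coe_top]))).index_eq_card
  have hnK : Nat.card K = n * Nat.card C := by
    have h1 := Subgroup.relIndex_comap (⊥ : Subgroup (G ⧸ C)) π K
    rw [MonoidHom.comap_bot, hπdef, QuotientGroup.ker_mk', Subgroup.relIndex_bot_left, ← hπdef, hK,
      Subgroup.map_comap_eq_self_of_surjective hπs, ← hK, hVcard, ← hnV] at h1
    rw [← h1, mul_comm, Coprime.card_mul_relIndex hCK]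
  obtain ⟨ψ, e, hψ, he⟩ := hcon K inferInstance (hLC.trans hCK)
  obtain ⟨η, a, hη, ha⟩ := hcon M inferInstance ((hLC.trans hCK).trans hKM)
  have hnormY : ∀ (Y : Subgroup G) [Y.Normal] [Fintype Y], Y ⊔ H = ⊤ → ∀ (φ : Y → ℂ) (c : ℕ),
      IsIrrCharacter Y φ → (fun y : Y => χ y) = (c : ℂ) • φ → ∀ [Fintype (H.subgroupOf Y)],
      classInner (fun x : H.subgroupOf Y => χ ((x : Y) : G)) (fun x : H.subgroupOf Y => f ((x : Y) : G)) =
        ((c ^ 2 : ℕ) : ℂ) := by
    intro Y _ _ hY φ c hφ hc _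
    have hYcl : IsClassFunction Y (fun y : Y => χ y) := fun g h => hχcl g h
    have h := classInner_indFun_right (H.subgroupOf Y) (fun x => f ((x : Y) : G)) (fun y : Y => χ y) hYcl
    rw [← indFun_restrict H Y hY hcl] at h
    rw [← h, hc, classInner_smul_left, classInner_smul_right, classInner_irr_self ⟨φ, hφ⟩]
    simp [sq]
  -- on the abelian section the character is fully ramified
  have he2 : e ^ 2 = n := by
    haveI := Fintype.ofFinite (H.subgroupOf K)
    have h := hnormY K hKH ψ e hψ he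
    have hmem : ∀ x : H.subgroupOf K, ((x : K) : G) ∈ C := fun x => hKC ▸ ⟨(x : K).2, x.2⟩
    have hfirr := isIrr_restrict hLH hϑ hϑL (A := H.subgroupOf K) (K.subtype.comp (H.subgroupOf K).subtype)
      (fun x => x.2) ((Subgroup.inclusion (hLC.trans hCK)).codRestrict (H.subgroupOf K) fun x => hLH x.2) fun _ => rfl
    rw [show (fun x : H.subgroupOf K => χ ((x : K) : G)) =
        (n : ℂ) • fun x : H.subgroupOf K => f ((x : K) : G) from funext fun x => hχC _ (hmem x),
      classInner_smul_left, show classInner (fun x : H.subgroupOf K => f ((x : K) : G))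
        (fun x : H.subgroupOf K => f ((x : K) : G)) = 1 from classInner_irr_self ⟨_, hfirr⟩, mul_one] at h
    exact_mod_cast h.symm
  obtain ⟨dψ, hdψ0, hdψ⟩ := isIrrCharacter_degree hψ
  obtain ⟨dη, hdη0, hdη⟩ := isIrrCharacter_degree hη
  have hae : a = e := by
    haveI := Fintype.ofFinite (K.subgroupOf M)
    let E : K.subgroupOf M ≃* K := Subgroup.subgroupOfEquivOfLe hKM
    have hψ' : IsIrrCharacter (K.subgroupOf M) (fun x => ψ (E x)) :=
      isIrrCharacter_comp_surjective hψ E.toMonoidHom E.surjective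
    have hrel : ∀ x : K.subgroupOf M, (a : ℂ) * η x = (e : ℂ) * ψ (E x) := fun x =>
      (congrFun ha (x : M)).symm.trans (congrFun he (E x))
    obtain ⟨b, hb⟩ := classInner_char_irr_nat (isCharacter_comp (isCharacter_of_isIrr hη) (K.subgroupOf M).subtype)
      ⟨_, hψ'⟩
    have hab : a * b = e := by
      have h1 : (a : ℂ) * b = e := by
        rw [← hb, ← classInner_smul_left, show ((a : ℂ) • fun x : K.subgroupOf M => η ((K.subgroupOf M).subtype x)) =
          (e : ℂ) • fun x => ψ (E x) from funext hrel, classInner_smul_left, classInner_irr_self ⟨_, hψ'⟩, mul_one]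
      exact_mod_cast h1
    have he0 : e ≠ 0 := fun h => by
      rw [h, zero_pow two_ne_zero] at he2
      exact (Nat.pos_iff_ne_zero.1 (hnV ▸ pow_pos hp.pos dv)) he2.symm
    have ha0 : a ≠ 0 := fun h => he0 (by rw [← hab, h, zero_mul])
    have hb0 : b ≠ 0 := fun h => he0 (by rw [← hab, h, mul_zero])
    have hdeg : dη = b * dψ := by
      have h1 := hrel 1
      rw [map_one, OneMemClass.coe_one, hdη, hdψ, ← hab, Nat.cast_mul, mul_assoc] at h1
      exact_mod_cast mul_left_cancel₀ (Nat.cast_ne_zero.2 ha0) h1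
    obtain ⟨-, hdvd⟩ := ratio_dvd_index (K.subgroupOf M) hη hψ' (show classInner (fun x : K.subgroupOf M => η x) _ ≠ 0 by
      show classInner (fun x : K.subgroupOf M => η ((K.subgroupOf M).subtype x)) _ ≠ 0
      rw [show (fun x => ψ (E x)) = ((⟨_, hψ'⟩ : IrrCharacter (K.subgroupOf M)) : K.subgroupOf M → ℂ) from rfl, hb]
      exact Nat.cast_ne_zero.2 hb0) hdη (show ψ (E 1) = (dψ : ℂ) by rw [map_one, hdψ])
    rw [hdeg, Nat.mul_div_cancel _ hdψ0] at hdvd
    have h2 : K.relIndex M ∣ r ^ dr := by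
      rw [hK, hM, Subgroup.relIndex_comap, Subgroup.map_comap_eq_self_of_surjective hπs, hMQ, sup_comm,
        Subgroup.relIndex_sup_right]
      refine (Subgroup.relIndex_dvd_card V Rb).trans ?_
      rw [hRb, ← hR0card, Subgroup.card_map_of_injective U.subtype_injective]
    have h3 : b ∣ p ^ dv := hnV ▸ he2 ▸ Dvd.dvd.pow (Dvd.intro_left a hab) two_ne_zero
    have hb1 : b = 1 := Nat.eq_one_of_dvd_coprimes
      (Nat.Coprime.pow dr dv ((Nat.coprime_primes hr hp).2 hrp)) (hdvd.trans h2) h3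
    rw [hb1, mul_one] at hab
    exact hab
  haveI := Fintype.ofFinite (H.subgroupOf M)
  have hR' := hnormY M hMH η a hη ha
  rw [hae, he2] at hR'
  have hirr' := isIrr_restrict hLH hϑ hϑL (A := H.subgroupOf M) (M.subtype.comp (H.subgroupOf M).subtype)
    (fun x => x.2) ((Subgroup.inclusion ((hLC.trans hCK).trans hKM)).codRestrict (H.subgroupOf M) fun x => hLH x.2) fun _ => rfl
  have hdec := eq_smul_of_degree
    (isCharacter_comp (isCharacter_comp (isCharacter_of_isIrr hind) M.subtype) (H.subgroupOf M).subtype)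
    ⟨_, hirr'⟩ hR' (by
      show χ ((1 : M) : G) = (n : ℂ) * f ((1 : M) : G)
      rw [OneMemClass.coe_one, hχ1, hf, extendByZero_mem H ϑ (one_mem H)]
      show _ = _ * ϑ 1
      rw [hd])
  have hval : ∀ x ∈ R, χ x = (n : ℂ) * f x := fun x hx =>
    congrFun hdec ⟨⟨x, Subgroup.comap_mono le_sup_right hx⟩, hRH hx⟩
  have hfix := no_supplement_fixed hCH hCR hRH hKH hKC hϑ (hirr (hLC.trans hCR) hRH) (hirr hLC hCH) hnK hval
  refine hnc fun s hs => Subgroup.mem_centralizer_iff.2 fun v hv => ?_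
  obtain ⟨x, rfl⟩ := hπs s
  obtain ⟨k, rfl⟩ := hπs v
  have h := hfix x hs k hv
  have e1 : π (k⁻¹ * x * k * x⁻¹) = 1 := (QuotientGroup.eq_one_iff _).2 h
  rw [map_mul, map_mul, map_mul, map_inv, map_inv, mul_inv_eq_one, mul_assoc, inv_mul_eq_iff_eq_mul] at e1
  exact e1.symm

end CfsgLib.Char.CoreInduced
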