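import Cfsg.Agent.Lib.Coprime.Action
import Cfsg.Agent.Lib.Coprime.Core
import Cfsg.Agent.Lib.Char.ExtendChar
import Cfsg.Agent.Lib.Char.CoreInduced
import Cfsg.Agent.Lib.Char.Integrality
import Cfsg.Prelude.Def_Blocks
import Cfsg.Prelude.Def_Local
import Mathlib.GroupTheory.SchurZassenhaus
import Mathlib.GroupTheory.Nilpotent
import Mathlib.GroupTheory.NoncommCoprod

/-!
# A TI Sylow subgroup of a p-solvable group and faithful characters of small degree
-/

set_option autoImplicit false
set_option linter.unusedSectionVars false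

namespace CfsgLib.Char.TISmallDegree

open scoped ComplexConjugate Pointwise commutatorElement
open Cfsg CfsgLib.Char

universe u

/-- Dual of the Hall–Higman lemma. -/
theorem centralizer_pPrimeCore_le {G : Type u} [Group G] [Finite G] {p : ℕ} [hp : Fact p.Prime]
    (hsolv : Cfsg.IsPSolvable p G) (hcore : Cfsg.pCore p G = ⊥) :
    Subgroup.centralizer (Cfsg.pPrimeCore p G : Set G) ≤ Cfsg.pPrimeCore p G := by
  classical
  set K := Cfsg.pPrimeCore p G with hKdef
  set C := Subgroup.centralizer (K : Set G)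
  obtain ⟨n, H, h0, hl, hm, hn, hf⟩ := hsolv
  suffices h : ∀ i, C ⊓ H i ≤ K by
    have := h (Fin.last n)
    rwa [hl, inf_top_eq] at this
  intro i
  induction i using Fin.induction with
  | zero => rw [h0, inf_bot_eq]; exact bot_le
  | succ i ih =>
    have := hn i.succ
    have := hn i.castSucc
    set D := C ⊓ H i.succ
    set Z := C ⊓ H i.castSucc
    have hle : Z ≤ D := inf_le_inf_left _ (hm (Fin.castSucc_le_succ i))
    have hKn : K.Normal := inferInstance
    have hDn : D.Normal := inferInstance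
    have hdvd : Z.relIndex D ∣ (H i.castSucc).relIndex (H i.succ) := by
      have h1 : Z.relIndex D = (H i.castSucc).relIndex D := by
        rw [← Subgroup.inf_relIndex_right (H i.castSucc) D, show Z = H i.castSucc ⊓ D by
          simp only [Z, D]
          rw [inf_left_comm, inf_eq_left.mpr (hm (Fin.castSucc_le_succ i))]]
      rw [h1, ← Subgroup.relIndex_subgroupOf (H := H i.castSucc) (K := D) (L := H i.succ) inf_le_right]
      exact Subgroup.relIndex_dvd_index_of_normal ((H i.castSucc).subgroupOf (H i.succ)) (D.subgroupOf (H i.succ))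
    have hcard : Z.relIndex D * Nat.card Z = Nat.card D := by
      rw [← Subgroup.relIndex_bot_left Z, ← Subgroup.relIndex_bot_left D, mul_comm,
        Subgroup.relIndex_mul_relIndex _ _ _ bot_le hle]
    have hZcop : (Nat.card Z).Coprime p :=
      (CfsgLib.Coprime.pPrimeCore_coprime (G := G) hp.out).coprime_dvd_left (Subgroup.card_dvd_of_le ih)
    rcases hf i with ⟨m, hm'⟩ | hco
    · rw [hm'] at hdvd
      obtain ⟨k, -, hk⟩ := (Nat.dvd_prime_pow hp.out).mp hdvd
      have hcop : (Nat.card Z).Coprime (p ^ k) := hZcop.pow_right k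
      have hcent : ∀ z ∈ Z, ∀ d ∈ D, Commute d z := fun z hz d hd =>
        ((Subgroup.mem_centralizer_iff.mp (Subgroup.mem_inf.mp hd).1) z (ih hz)).symm
      let T : Subgroup G :=
        { carrier := {d | d ∈ D ∧ d ^ p ^ k = 1}
          one_mem' := ⟨one_mem _, one_pow _⟩
          inv_mem' := fun h => ⟨D.inv_mem h.1, by rw [inv_pow, h.2, inv_one]⟩
          mul_mem' := fun {a b} ha hb => by
            refine ⟨D.mul_mem ha.1 hb.1, ?_⟩
            -- the quotient by the central part is a `p`-group on which the power map is a homomorphism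
            have : (Z.subgroupOf D).Normal := ⟨fun z hz d => by
              rw [Subgroup.mem_subgroupOf] at hz ⊢
              show (d : G) * z * (d : G)⁻¹ ∈ Z
              rw [(hcent _ hz _ d.2).eq, mul_inv_cancel_right]
              exact hz⟩
            obtain ⟨L, hL⟩ := Subgroup.exists_right_complement'_of_coprime (N := Z.subgroupOf D) (by
              rw [Nat.card_congr (Subgroup.subgroupOfEquivOfLe hle).toEquiv]
              exact (show (Z.subgroupOf D).index = p ^ k from hk) ▸ hcop)
            have hLc : Nat.card L = p ^ k := by rw [← hL.symm.index_eq_card]; exact hk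
            have hL' : ∀ y : D, (y : G) ^ p ^ k = 1 → y ∈ L := fun y hy => by
              obtain ⟨⟨⟨z, hz⟩, ⟨l, hl'⟩⟩, hzl⟩ := hL.2 y
              simp only at hzl
              have hz1 : (z : G) ^ p ^ k = 1 := by
                have hlp : (l : G) ^ p ^ k = 1 := by
                  have := pow_card_eq_one' (x := (⟨l, hl'⟩ : L))
                  rw [hLc] at this
                  exact congrArg Subtype.val (congrArg Subtype.val this)
                rw [← hzl, Subgroup.coe_mul, (hcent _ (Subgroup.mem_subgroupOf.mp hz) _ l.2).symm.mul_pow,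
                  hlp, mul_one] at hy
                exact hy
              have hz0 : z = 1 := Subtype.ext (orderOf_eq_one_iff.mp (Nat.eq_one_of_dvd_coprimes hcop
                (Subgroup.orderOf_dvd_natCard _ (Subgroup.mem_subgroupOf.mp hz))
                (orderOf_dvd_of_pow_eq_one hz1)))
              rw [← hzl, hz0, one_mul]
              exact hl'
            have hab := L.mul_mem (hL' ⟨a, ha.1⟩ ha.2) (hL' ⟨b, hb.1⟩ hb.2)
            have := pow_card_eq_one' (x := (⟨_, hab⟩ : L))
            rw [hLc] at this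
            exact congrArg Subtype.val (congrArg Subtype.val this) }
      have hTn : T.Normal := ⟨fun d hd g => ⟨hDn.conj_mem d hd.1 g, by rw [conj_pow, hd.2]; simp⟩⟩
      have hTp : IsPGroup p T := fun d => ⟨k, Subtype.ext (by rw [SubgroupClass.coe_pow]; exact d.2.2)⟩
      have hTbot : T = ⊥ := le_bot_iff.mp (hcore ▸ CfsgLib.Coprime.le_pCore hTp)
      intro d hd
      -- `d ^ |Z|` lies in `T`
      have h1 : d ^ Nat.card Z ∈ T := by
        refine ⟨D.pow_mem hd _, ?_⟩
        rw [← pow_mul, mul_comm, ← hk, hcard]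
        exact congrArg Subtype.val (pow_card_eq_one' (x := (⟨d, hd⟩ : D)))
      rw [hTbot, Subgroup.mem_bot] at h1
      have hcopd : (orderOf d).Coprime p := hZcop.coprime_dvd_left (orderOf_dvd_of_pow_eq_one h1)
      by_contra hdK
      -- so `D` has order prime to `p`
      have : (Nat.card D).Coprime p := by
        refine (hp.out.coprime_iff_not_dvd.mpr fun hdv => ?_).symm
        obtain ⟨x, hx⟩ := exists_prime_orderOf_dvd_card' p hdv
        have h2 : (x : G) ∈ T := ⟨x.2, orderOf_dvd_iff_pow_eq_one.mp (by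
          rw [Subgroup.orderOf_coe, hx]
          refine dvd_pow_self p fun h0 => ?_
          rw [← hcard, hk, h0, pow_zero, one_mul] at hdv
          exact hp.out.coprime_iff_not_dvd.mp hZcop.symm hdv)⟩
        rw [hTbot, Subgroup.mem_bot] at h2
        rw [show x = 1 from Subtype.ext h2, orderOf_one] at hx
        exact hp.out.one_lt.ne hx
      exact hdK (CfsgLib.Coprime.le_pPrimeCore_of_not_dvd hp.out
        (hp.out.coprime_iff_not_dvd.mp this.symm) hd)
    · exact CfsgLib.Coprime.le_pPrimeCore_of_not_dvd hp.out (hp.out.coprime_iff_not_dvd.mp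
        (show (Nat.card D).Coprime p from hcard ▸ (hco.coprime_dvd_left hdvd).mul_left hZcop).symm)

section Free

variable {Q : Type u} [Group Q] [Fintype Q] {P : Type u} [Group P] [Fintype P]

/-- The common fixed points of an action. -/
def fixedSub (φ : P →* MulAut Q) : Subgroup Q where
  carrier := {q | ∀ x, φ x q = q}
  one_mem' := fun _ => map_one _
  mul_mem' := fun ha hb x => by rw [map_mul, ha x, hb x]
  inv_mem' := fun ha x => by rw [map_inv, ha x]

theorem eq_one_of_fixed_quotient (φ : P →* MulAut Q) (hcop : (Nat.card P).Coprime (Nat.card Q)) (x : P)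
    {q : Q} (h : φ x (q⁻¹ * φ x q) = q⁻¹ * φ x q) : φ x q = q := by
  set c := q⁻¹ * φ x q with hc
  have hk : ∀ k : ℕ, φ (x ^ k) q = q * c ^ k := by
    intro k
    induction k with
    | zero => simp
    | succ k ih =>
      rw [pow_succ', map_mul, MulAut.mul_apply, ih, map_mul, map_pow, h, hc, pow_succ', mul_assoc q⁻¹,
        ← mul_assoc q, mul_inv_cancel, one_mul]
  have h1 := hk (Nat.card P)
  rw [pow_card_eq_one', map_one, MulAut.one_apply, left_eq_mul] at h1
  have h2 : c = 1 := orderOf_eq_one_iff.mp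
    (Nat.eq_one_of_dvd_coprimes hcop (orderOf_dvd_of_pow_eq_one h1) (orderOf_dvd_natCard c))
  rw [hc, inv_mul_eq_one] at h2
  exact h2.symm

/-- The main estimate: a `P`-invariant faithful character of `Q` has degree above `√|P|`. -/
theorem card_lt_degree_sq (φ : P →* MulAut Q) (hcop : (Nat.card P).Coprime (Nat.card Q))
    [Group.IsSolvable Q] (hP : Nontrivial P) (hD : fixedSub φ ≠ ⊤)
    (hfree : ∀ x : P, x ≠ 1 → ∀ q : Q, φ x q = q → q ∈ fixedSub φ)
    (hmin : ∀ R : Subgroup Q, R ≠ ⊤ → (∀ x : P, ∀ r ∈ R, φ x r ∈ R) → R ≤ fixedSub φ)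
    {χ : Q → ℂ} (hχ : IsCharacter Q χ) (hinv : ∀ (x : P) (q : Q), χ (φ x q) = χ q)
    (hfaith : ∀ q : Q, χ q = χ 1 → q = 1) {d : ℕ} (hd : χ 1 = (d : ℂ)) : Nat.card P < d ^ 2 := by
  classical
  set D := fixedSub φ with hDdef
  have hQnt : Nontrivial Q := by
    by_contra h
    rw [not_nontrivial_iff_subsingleton] at h
    exact hD (Subsingleton.elim _ _)
  have hder : commutator Q ≤ D := hmin _ (Group.IsSolvable.commutator_lt_top_of_nontrivial Q).ne
    fun x r hr => ((inferInstance : (commutator Q).Characteristic).fixed (φ x)).ge hr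
  have hDn : D.Normal := Subgroup.Normal.of_commutator_le Q hder
  have hgen : Subgroup.closure (Set.range fun a : P × Q => a.2⁻¹ * φ a.1 a.2) = ⊤ := by
    by_contra h
    refine hD (eq_top_iff.mpr fun q _ x => ?_)
    refine eq_one_of_fixed_quotient φ hcop x (hmin _ h (fun y r hr => ?_)
      (Subgroup.subset_closure ⟨(x, q), rfl⟩) x)
    have : (φ y).toMonoidHom r ∈
        (Subgroup.closure (Set.range fun a : P × Q => a.2⁻¹ * φ a.1 a.2)).map (φ y).toMonoidHom :=
      Subgroup.mem_map_of_mem _ hr
    rw [MonoidHom.map_closure] at this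
    refine Subgroup.closure_mono ?_ this
    rintro _ ⟨_, ⟨⟨x', q'⟩, rfl⟩, rfl⟩
    refine ⟨(y * x' * y⁻¹, φ y q'), ?_⟩
    simp [map_mul, map_inv]
  have hDc : ∀ z ∈ D, ∀ q : Q, Commute q z := by
    intro z hz
    have h0 : ∀ (x : P) (q : Q), Commute (q⁻¹ * φ x q) z := by
      intro x q
      have h1 := hDn.conj_mem z hz q x
      rw [map_mul, map_mul, map_inv, hz x] at h1
      show q⁻¹ * φ x q * z = z * (q⁻¹ * φ x q)
      calc q⁻¹ * φ x q * z = q⁻¹ * (φ x q * z * (φ x q)⁻¹) * φ x q := by group
        _ = q⁻¹ * (q * z * q⁻¹) * φ x q := by rw [h1]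
        _ = z * (q⁻¹ * φ x q) := by group
    intro q
    have hle : Subgroup.closure (Set.range fun a : P × Q => a.2⁻¹ * φ a.1 a.2) ≤ Subgroup.centralizer {z} :=
      (Subgroup.closure_le _).mpr (by
        rintro _ ⟨⟨x, q'⟩, rfl⟩
        exact Subgroup.mem_centralizer_singleton_iff.mpr (h0 x q').eq)
    exact Subgroup.mem_centralizer_singleton_iff.mp (hle (hgen.symm ▸ Subgroup.mem_top q))
  obtain ⟨ψ, hψc, hψ1⟩ : ∃ ψ : IrrCharacter Q, classInner χ (ψ : Q → ℂ) ≠ 0 ∧ (ψ : Q → ℂ) ≠ fun _ => 1 := by
    by_contra h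
    push Not at h
    have hone : IsIrrCharacter Q (fun _ : Q => (1 : ℂ)) := isIrrCharacter_one
    have hexp : χ = classInner χ (fun _ => (1 : ℂ)) • (fun _ : Q => (1 : ℂ)) := by
      refine classFun_ext (isClassFunction_of_isCharacter hχ) (fun a b => rfl) fun ψ => ?_
      rw [classInner_smul_left]
      by_cases hne : (ψ : Q → ℂ) = fun _ => 1
      · rw [hne, show classInner (fun _ : Q => (1 : ℂ)) (fun _ => 1) = 1 from
          classInner_irr_self ⟨_, hone⟩, mul_one]
      · have h0 : classInner χ (ψ : Q → ℂ) = 0 := by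
          by_contra hc
          exact hne (h ψ hc)
        rw [h0, show classInner (fun _ : Q => (1 : ℂ)) (ψ : Q → ℂ) = 0 from
          classInner_irr_ne (χ := ⟨_, hone⟩) fun e => hne (congrArg Subtype.val e).symm, mul_zero]
    obtain ⟨a, ha⟩ := exists_ne (1 : Q)
    exact ha (hfaith a (by rw [hexp]; rfl))
  obtain ⟨m, hm⟩ := isCharacter_degree (isCharacter_irr ψ)
  have hmd : m ≤ d := (degree_le_of_constituent hχ ψ hψc hd hm).1
  rcases eq_or_ne m 1 with rfl | hm1
  · -- linear constituents have regular orbits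
    obtain ⟨f, hf⟩ := exists_hom_of_linear (isCharacter_irr ψ) (by rw [hm, Nat.cast_one])
    have hreg : ∀ x : P, (∀ q, f (φ x q) = f q) → x = 1 := by
      intro x hx
      by_contra hx1
      have hfD : ∀ z ∈ D, f z = 1 := by
        intro z hz
        let g : Q →* ℂˣ := ∏ y : P, f.comp (φ y).toMonoidHom
        have hg : ∀ q, g q = ∏ y : P, f (φ y q) := fun q => MonoidHom.finsetProd_apply _ _ _
        have hg1 : g = 1 := MonoidHom.eq_of_eqOn_dense hgen (by
          rintro _ ⟨⟨y, q⟩, rfl⟩
          have e : g (φ y q) = g q := by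
            rw [hg, hg]
            exact Fintype.prod_equiv (Equiv.mulRight y) _ _ fun y' => by simp [MulAut.mul_apply]
          show g (q⁻¹ * φ y q) = 1
          rw [map_mul, e, map_inv, inv_mul_cancel])
        have h1 : f z ^ Nat.card P = 1 := by
          have h0 := hg z
          rw [hg1, MonoidHom.one_apply] at h0
          rw [Nat.card_eq_fintype_card, ← Finset.card_univ, ← Finset.prod_const, h0]
          exact Finset.prod_congr rfl fun y _ => by rw [hz y]
        have h2 : f z ^ Nat.card Q = 1 := by rw [← map_pow, pow_card_eq_one', map_one]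
        exact orderOf_eq_one_iff.mp (Nat.eq_one_of_dvd_coprimes hcop (orderOf_dvd_of_pow_eq_one h1)
          (orderOf_dvd_of_pow_eq_one h2))
      let q0 := QuotientGroup.mk' D
      have hab : ∀ a b : Q ⧸ D, a * b = b * a := fun a b => by
        obtain ⟨a', rfl⟩ := QuotientGroup.mk'_surjective D a
        obtain ⟨b', rfl⟩ := QuotientGroup.mk'_surjective D b
        rw [← map_mul, ← map_mul]
        refine (QuotientGroup.eq (s := D)).mpr (hder ?_)
        rw [show (a' * b')⁻¹ * (b' * a') = ⁅b'⁻¹, a'⁻¹⁆ by rw [commutatorElement_def]; group]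
        exact Subgroup.commutator_mem_commutator (Subgroup.mem_top _) (Subgroup.mem_top _)
      let s : Q →* Q ⧸ D := MonoidHom.mk' (fun q => q0 (q⁻¹ * φ x q)) fun a b => by
        rw [mul_inv_rev, map_mul (φ x), map_mul q0, map_mul q0, map_mul q0, map_mul q0, map_mul q0]
        rw [hab (q0 b⁻¹) (q0 a⁻¹), mul_assoc, mul_assoc, ← mul_assoc (q0 b⁻¹), hab (q0 b⁻¹), mul_assoc]
      have hker : s.ker = D := Subgroup.ext fun q => by
        refine ⟨fun h => hfree x hx1 q ?_, fun h => ?_⟩
        · have h' : q⁻¹ * φ x q ∈ D := (QuotientGroup.eq_one_iff _).mp h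
          exact eq_one_of_fixed_quotient φ hcop x (h' x)
        · exact (QuotientGroup.eq_one_iff _).mpr (by rw [h x, inv_mul_cancel]; exact one_mem _)
      have hsurj : Function.Surjective s := by
        refine MonoidHom.range_eq_top.mp (Subgroup.eq_top_of_card_eq _ ?_)
        rw [← Subgroup.index_ker, hker]
        rfl
      have hf1 : ∀ q, f q = 1 := fun q => by
        obtain ⟨a, ha⟩ := hsurj (q0 q)
        have h' : (a⁻¹ * φ x a)⁻¹ * q ∈ D := (QuotientGroup.eq (s := D)).mp ha
        have := hfD _ h'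
        rwa [map_mul, map_inv, map_mul, map_inv, hx, inv_mul_cancel, inv_one, one_mul] at this
      exact hψ1 (by rw [hf]; funext q; rw [hf1, Units.val_one])
    -- the orbit
    let o : P → IrrCharacter Q := fun x =>
      ⟨fun q => (ψ : Q → ℂ) (φ x q), isIrrCharacter_comp_surjective ψ.2 (φ x).toMonoidHom (φ x).surjective⟩
    have ho : Function.Injective o := by
      intro x y h
      have h' : ∀ q, (f (φ x q) : ℂ) = f (φ y q) := fun q => by
        have := congrFun (congrArg Subtype.val h) q
        simp only [o] at this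
        rwa [hf] at this
      have := hreg (y * x⁻¹) fun q => Units.ext (by
        rw [map_mul, MulAut.mul_apply, ← h', map_inv]
        simp)
      exact (mul_inv_eq_one.mp this).symm
    have hoc : ∀ x, ∃ k : ℕ, k ≠ 0 ∧ classInner χ (o x : Q → ℂ) = k := fun x => by
      obtain ⟨k, hk⟩ := classInner_char_irr_nat hχ (o x)
      refine ⟨k, fun e => hψc ?_, hk⟩
      rw [e, Nat.cast_zero] at hk
      rw [← hk]
      simp only [classInner, o]
      congr 1
      exact Fintype.sum_equiv (φ x).symm.toEquiv _ _ fun q => by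
        simp [← hinv x ((φ x).symm q)]
    haveI := Fintype.ofFinite (IrrCharacter Q)
    have hsum := congrFun (classFun_expand (isClassFunction_of_isCharacter hχ)) 1
    choose c hc using fun η : IrrCharacter Q => classInner_char_irr_nat hχ η
    choose e he using fun η : IrrCharacter Q => isCharacter_degree (isCharacter_irr η)
    simp only [Finset.sum_apply, Pi.smul_apply, smul_eq_mul, hc, he, hd] at hsum
    have hsum' : d = ∑ η : IrrCharacter Q, c η * e η := by exact_mod_cast hsum
    have hle : Nat.card P ≤ d := by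
      rw [hsum']
      calc Nat.card P = ∑ x : P, 1 := by simp [Nat.card_eq_fintype_card]
        _ ≤ ∑ x : P, c (o x) * e (o x) := Finset.sum_le_sum fun x _ => by
          obtain ⟨k, hk0, hk⟩ := hoc x
          have h1 : c (o x) = k := Nat.cast_injective (R := ℂ) ((hc (o x)).symm.trans hk)
          have h2 : e (o x) ≠ 0 := fun h => irr_one_ne_zero (o x) (by rw [he, h, Nat.cast_zero])
          exact Nat.one_le_iff_ne_zero.mpr (Nat.mul_ne_zero (h1 ▸ hk0) h2)
        _ = ∑ η ∈ Finset.univ.map ⟨o, ho⟩, c η * e η := by rw [Finset.sum_map]; rfl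
        _ ≤ _ := Finset.sum_le_sum_of_subset (Finset.subset_univ _)
    have h2 : 2 ≤ Nat.card P := Finite.one_lt_card
    nlinarith
  · -- a nonlinear constituent is fully ramified over the fixed points
    obtain ⟨ψ, hψ⟩ := ψ
    obtain ⟨m', ρ, hρ, rfl⟩ := hψ
    have hmm : m' = m := by
      have : ρ.character 1 = (m : ℂ) := hm
      rw [Representation.char_one, Module.finrank_fin_fun] at this
      exact_mod_cast this
    subst hmm
    have hscal : ∀ z ∈ D, ∃ a : ℂ, ρ z = a • (1 : (Fin m' → ℂ) →ₗ[ℂ] (Fin m' → ℂ)) := fun z hz => by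
      obtain ⟨a, ha⟩ := schur_scalar ρ (ρ z) fun q => by rw [← map_mul, ← map_mul, (hDc z hz q).symm.eq]
      exact ⟨a, ha⟩
    have hcomm : ∀ g h : Q, h * g * h⁻¹ * g⁻¹ ∈ D := fun g h =>
      hder (Subgroup.commutator_mem_commutator (Subgroup.mem_top h) (Subgroup.mem_top g))
    let Z : Subgroup Q :=
      { carrier := {g | ∀ h, ρ g * ρ h = ρ h * ρ g}
        one_mem' := fun h => by rw [map_one, one_mul, mul_one]
        mul_mem' := fun {a b} ha hb h => by rw [map_mul, mul_assoc, hb h, ← mul_assoc, ha h, mul_assoc]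
        inv_mem' := fun {a} ha h => by
          have e := ha h
          calc ρ a⁻¹ * ρ h = ρ a⁻¹ * (ρ h * ρ a) * ρ a⁻¹ := by
                rw [mul_assoc, mul_assoc, ← map_mul ρ a, mul_inv_cancel, map_one, mul_one]
            _ = ρ h * ρ a⁻¹ := by
                rw [← e, ← mul_assoc, ← map_mul ρ a⁻¹, inv_mul_cancel, map_one, one_mul] }
    have hcrit : ∀ g h : Q, ρ g * ρ h = ρ h * ρ g ↔ ρ (h * g * h⁻¹ * g⁻¹) = 1 := fun g h => by
      constructor
      · intro e
        rw [map_mul, map_mul, map_mul, ← e, mul_assoc (ρ g), ← map_mul ρ h, mul_inv_cancel, map_one,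
          mul_one, ← map_mul, mul_inv_cancel, map_one]
      · intro e
        rw [← map_mul, ← map_mul]
        calc ρ (g * h) = ρ (h * g * h⁻¹ * g⁻¹) * ρ (g * h) := by rw [e, one_mul]
          _ = ρ (h * g) := by rw [← map_mul]; congr 1; group
    have hDZ : D ≤ Z := fun z hz h => by
      rw [← map_mul, ← map_mul, (hDc z hz h).symm.eq]
    have hvan : ∀ g, g ∉ Z → ρ.character g = 0 := by
      intro g hg
      obtain ⟨h, hh⟩ := not_forall.mp hg
      obtain ⟨a, ha⟩ := hscal _ (hcomm g h)
      have h1 : ρ.character (h * g * h⁻¹ * g⁻¹ * g) = a * ρ.character g := by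
        simp only [Representation.character, map_mul ρ (h * g * h⁻¹ * g⁻¹), ha, smul_mul_assoc, one_mul,
          map_smul, smul_eq_mul]
      rw [inv_mul_cancel_right, Representation.char_conj] at h1
      by_contra hne
      refine hh ((hcrit g h).mpr ?_)
      rw [ha, (mul_eq_right₀ hne).mp h1.symm, one_smul]
    have hZs : ∀ g ∈ Z, ‖ρ.character g‖ = (m' : ℝ) := by
      intro g hg
      obtain ⟨w, hw⟩ : ∃ w : ℂ, ρ g = w • (1 : (Fin m' → ℂ) →ₗ[ℂ] (Fin m' → ℂ)) := by
        obtain ⟨w, hw⟩ := schur_scalar ρ (ρ g) hg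
        exact ⟨w, hw⟩
      have h := (norm_char_eq_iff ρ g).mpr ⟨w, by rw [hw]; rfl⟩
      simpa using h
    have hnorm : (m' : ℝ) ^ 2 * Nat.card Z = Nat.card Q := by
      have h := classInner_irr_self (⟨ρ.character, m', ρ, hρ, rfl⟩ : IrrCharacter Q)
      rw [classInner_self, Complex.ofReal_eq_one, inv_mul_eq_one₀
        (by exact_mod_cast Nat.card_pos.ne')] at h
      rw [h, ← Finset.sum_filter_add_sum_filter_not Finset.univ (· ∈ Z),
        Finset.sum_eq_zero (s := Finset.univ.filter fun x => x ∉ Z) fun g hg => by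
          show ‖ρ.character g‖ ^ 2 = 0
          rw [hvan g (Finset.mem_filter.mp hg).2, norm_zero, sq, zero_mul],
        add_zero, Finset.sum_congr rfl (g := fun _ => (m' : ℝ) ^ 2) fun g hg => by
          show ‖ρ.character g‖ ^ 2 = (m' : ℝ) ^ 2
          rw [hZs g (Finset.mem_filter.mp hg).2],
        Finset.sum_const, nsmul_eq_mul, mul_comm, Nat.card_eq_fintype_card, Fintype.card_subtype]
    have hnorm' : m' ^ 2 * Nat.card Z = Nat.card Q := by exact_mod_cast hnorm
    have hZtop : Z ≠ ⊤ := fun h => hm1 (by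
      rw [h, Subgroup.card_top] at hnorm'
      have : m' ^ 2 = 1 := (Nat.mul_eq_right Nat.card_pos.ne').mp hnorm'
      exact (Nat.pow_eq_one.mp this).resolve_right two_ne_zero)
    have hZD : Z = D := le_antisymm (hmin Z hZtop fun x g hg h => by
      rw [hcrit]
      have e := (hcrit g ((φ x).symm h)).mp (hg _)
      have hc := hcomm g ((φ x).symm h) x
      simp only [map_mul, map_inv, MulEquiv.apply_symm_apply] at hc
      rw [hc]
      exact e) hDZ
    have hindex : m' ^ 2 = D.index := by
      rw [hZD, ← D.index_mul_card] at hnorm'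
      exact Nat.eq_of_mul_eq_mul_right Nat.card_pos hnorm'
    obtain ⟨g, hg⟩ : ∃ g : Q, g ∉ D := by
      by_contra h
      push Not at h
      exact hD (eq_top_iff.mpr fun q _ => h q)
    have hinj : Function.Injective fun x : P => ((φ x g : Q) : Q ⧸ D) := by
      intro x y h
      by_contra hxy
      have hne : x⁻¹ * y ≠ 1 := fun e => hxy (inv_mul_eq_one.mp e)
      have h1 : (φ x g)⁻¹ * φ y g ∈ D := QuotientGroup.eq.mp h
      have h2 : g⁻¹ * φ (x⁻¹ * y) g ∈ D := by
        intro z
        have e : g⁻¹ * φ (x⁻¹ * y) g = φ x⁻¹ ((φ x g)⁻¹ * φ y g) := by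
          simp [map_mul, map_inv]
        rw [e, ← MulAut.mul_apply, ← map_mul, h1 (z * x⁻¹), h1 x⁻¹]
      exact hg (hfree _ hne g (eq_one_of_fixed_quotient φ hcop _ (h2 _)))
    have hmiss : ((1 : Q) : Q ⧸ D) ∉ Set.range fun x : P => ((φ x g : Q) : Q ⧸ D) := by
      rintro ⟨x, hx⟩
      have h1 : φ x g ∈ D := (QuotientGroup.eq_one_iff _).mp hx
      have h2 := h1 x⁻¹
      rw [← MulAut.mul_apply, ← map_mul, inv_mul_cancel, map_one, MulAut.one_apply] at h2
      exact hg (h2 ▸ h1)
    have hlt : Nat.card P < D.index := by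
      rw [Nat.card_eq_fintype_card, Subgroup.index, Nat.card_eq_fintype_card]
      exact Fintype.card_lt_of_injective_of_notMem _ hinj hmiss
    calc Nat.card P < m' ^ 2 := hindex ▸ hlt
      _ ≤ d ^ 2 := Nat.pow_le_pow_left hmd 2

end Free

/-- A TI Sylow subgroup of a p-solvable group is normal when a faithful character is small. -/
theorem normal_of_small_degree {G : Type u} [Group G] [Finite G] (p : ℕ) [hp : Fact p.Prime]
    (hsolv : Cfsg.IsPSolvable p G) (P : Sylow p G)
    (hTI : ∀ g : G, g ∉ Subgroup.normalizer ((P : Subgroup G) : Set G) →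
      (P : Subgroup G) ⊓ (MulAut.conj g • (P : Subgroup G)) = ⊥)
    (χ : G → ℂ) (hχ : IsCharacter G χ) (hfaith : ∀ g : G, χ g = χ 1 → g = 1)
    (hdeg : Cfsg.charDegree χ ^ 2 ≤ Nat.card ↥(P : Subgroup G)) : (P : Subgroup G).Normal := by
  classical
  by_contra hPn
  have hP1 : (P : Subgroup G) ≠ ⊥ := fun h => hPn (h ▸ Subgroup.normal_bot)
  have hTI' : ∀ c : G, ∀ x ∈ (P : Subgroup G), x ≠ 1 → c * x * c⁻¹ = x →
      c ∈ Subgroup.normalizer ((P : Subgroup G) : Set G) := fun c x hx hx1 hc => by
    by_contra hn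
    have h : x ∈ (P : Subgroup G) ⊓ MulAut.conj c • (P : Subgroup G) := ⟨hx, ⟨x, hx, hc⟩⟩
    rw [hTI c hn, Subgroup.mem_bot] at h
    exact hx1 h
  have hcore : Cfsg.pCore p G = ⊥ := by
    by_contra h
    obtain ⟨⟨x, hx⟩, hx1⟩ := Subgroup.ne_bot_iff_exists_ne_one.mp h
    refine hPn (Subgroup.normalizer_eq_top_iff.mp (eq_top_iff.mpr fun g _ => ?_))
    by_contra hn
    have hn' : (Cfsg.pCore p G).Normal := CfsgLib.Coprime.pCore_normal' p
    have hle : Cfsg.pCore p G ≤ (P : Subgroup G) := by
      have hpp : IsPGroup p (Cfsg.pCore p G) := CfsgLib.Coprime.pCore_isPGroup p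
      obtain ⟨S, hS⟩ := IsPGroup.exists_le_sylow hpp
      obtain ⟨c, hc⟩ := MulAction.exists_smul_eq G P S
      intro y hy
      have h1 : c * y * c⁻¹ ∈ (S : Subgroup G) := hS (hn'.conj_mem y hy c)
      rw [← hc] at h1
      obtain ⟨z, hz, e⟩ := h1
      have e' : c * z * c⁻¹ = c * y * c⁻¹ := e
      rw [mul_right_cancel_iff, mul_right_inj] at e'
      exact e' ▸ hz
    have hmem : x ∈ (P : Subgroup G) ⊓ MulAut.conj g • (P : Subgroup G) :=
      ⟨hle hx, ⟨g⁻¹ * x * g, hle (by simpa using hn'.conj_mem x hx g⁻¹), by simp [mul_assoc]⟩⟩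
    rw [hTI g hn, Subgroup.mem_bot] at hmem
    exact hx1 (Subtype.ext hmem)
  set K := Cfsg.pPrimeCore p G with hK
  have hKn : K.Normal := inferInstance
  have hKcop := CfsgLib.Coprime.pPrimeCore_coprime (G := G) hp.out
  have hPK : (P : Subgroup G) ≤ Subgroup.normalizer (K : Set G) := by
    rw [Subgroup.normalizer_eq_top]; exact le_top
  obtain ⟨a, ha⟩ := IsPGroup.iff_card.mp P.2
  have hcop : (Nat.card (P : Subgroup G)).Coprime (Nat.card K) := by
    rw [ha]; exact hKcop.symm.pow_left a
  have hPsolv : Group.IsSolvable (P : Subgroup G) :=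
    CfsgLib.Coprime.isSolvable_of_isNilpotent P.2.isNilpotent
  have hnotle : ¬ K ≤ Subgroup.centralizer ((P : Subgroup G) : Set G) := by
    intro h
    refine hP1 (le_bot_iff.mp fun x hx => ?_)
    have hxK : x ∈ K := centralizer_pPrimeCore_le hsolv hcore
      (Subgroup.mem_centralizer_iff.mpr fun k hk => (Subgroup.mem_centralizer_iff.mp (h hk) x hx).symm)
    have := CfsgLib.Coprime.disjoint_of_coprime_card hcop
    rw [← this]
    exact ⟨hx, hxK⟩
  -- a minimal invariant subgroup of prime power order that is moved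
  let bad : Set (Subgroup G) := {Q | Q ≤ K ∧ (∃ q : ℕ, q.Prime ∧ IsPGroup q Q) ∧
    (P : Subgroup G) ≤ Subgroup.normalizer (Q : Set G) ∧ ¬ Q ≤ Subgroup.centralizer ((P : Subgroup G) : Set G)}
  have hbad : bad.Nonempty := by
    by_contra hne
    rw [Set.not_nonempty_iff_eq_empty] at hne
    refine hnotle ?_
    have hdvd : Nat.card K ∣ Nat.card (K ⊓ Subgroup.centralizer ((P : Subgroup G) : Set G) : Subgroup G) := by
      rw [← Nat.factorization_le_iff_dvd Nat.card_pos.ne' Nat.card_pos.ne']
      intro q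
      by_cases hq : q.Prime
      · have := Fact.mk hq
        obtain ⟨S, hS, hSA⟩ := CfsgLib.Coprime.exists_invariant_sylow hPK hcop (Or.inl hPsolv) q
        have hSC : S ≤ Subgroup.centralizer ((P : Subgroup G) : Set G) := by
          by_contra h
          exact (Set.eq_empty_iff_forall_notMem.mp hne) S ⟨hS.1, ⟨q, hq, hS.isPGroup⟩, hSA, h⟩
        exact (hq.pow_dvd_iff_le_factorization Nat.card_pos.ne').mp
          (hS.2 ▸ Subgroup.card_dvd_of_le (le_inf hS.1 hSC))
      · simp [Nat.factorization_eq_zero_of_not_prime _ hq]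
    have heq := Subgroup.eq_of_le_of_card_ge (inf_le_left : K ⊓ _ ≤ K) (Nat.le_of_dvd Nat.card_pos hdvd)
    exact heq ▸ inf_le_right
  obtain ⟨Q, hQm⟩ := (Set.toFinite bad).exists_minimal hbad
  obtain ⟨hQK, ⟨q, hq, hQq⟩, hPQ, hQC⟩ := hQm.1
  have := Fact.mk hq
  have := Fintype.ofFinite Q
  have := Fintype.ofFinite (P : Subgroup G)
  let φ : (P : Subgroup G) →* MulAut Q := Q.normalizerMonoidHom.comp (Subgroup.inclusion hPQ)
  have hφ : ∀ (x : (P : Subgroup G)) (y : Q), (φ x y : G) = (x : G) * y * (x : G)⁻¹ := fun x y => rfl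
  have hfix : ∀ y : Q, y ∈ fixedSub φ ↔ (y : G) ∈ Subgroup.centralizer ((P : Subgroup G) : Set G) := by
    intro y
    rw [Subgroup.mem_centralizer_iff]
    constructor
    · intro h x hx
      have := congrArg Subtype.val (h ⟨x, hx⟩)
      rw [hφ] at this
      exact mul_inv_eq_iff_eq_mul.mp this
    · intro h x
      exact Subtype.ext (by rw [hφ, h x x.2, mul_inv_cancel_right])
  have hQsolv : Group.IsSolvable Q := CfsgLib.Coprime.isSolvable_of_isNilpotent hQq.isNilpotent
  have hnt : Nontrivial (P : Subgroup G) := (Subgroup.nontrivial_iff_ne_bot _).mpr hP1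
  have hQcop : (Nat.card (P : Subgroup G)).Coprime (Nat.card Q) :=
    hcop.coprime_dvd_right (Subgroup.card_dvd_of_le hQK)
  obtain ⟨dG, hdG⟩ := isCharacter_degree hχ
  have hdd : Cfsg.charDegree χ = dG := by simp [Cfsg.charDegree, hdG]
  have hlt := card_lt_degree_sq φ hQcop hnt
    (fun h => hQC fun y hy => (hfix ⟨y, hy⟩).mp (h ▸ Subgroup.mem_top _))
    (fun x hx y hy => by
      rw [hfix]
      have hy' : (y : G) * (x : G) * (y : G)⁻¹ = x := by
        have := congrArg Subtype.val hy
        rw [hφ, mul_inv_eq_iff_eq_mul] at this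
        rw [← this, mul_inv_cancel_right]
      exact CfsgLib.Coprime.mem_centralizer_of_mem_normalizer hPK hcop (hQK y.2)
        (hTI' _ _ x.2 (fun e => hx (Subtype.ext e)) hy'))
    (fun R hR hRinv y hy => by
      rw [hfix]
      by_contra hyC
      have hRbad : R.map Q.subtype ∈ bad := by
        refine ⟨(Subgroup.map_subtype_le R).trans hQK, ⟨q, hq, hQq.to_le (Subgroup.map_subtype_le R)⟩, ?_,
          fun h => hyC (h ⟨y, hy, rfl⟩)⟩
        intro x hx
        rw [Subgroup.mem_normalizer_iff]
        intro g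
        constructor
        · rintro ⟨r, hr, rfl⟩
          exact ⟨φ ⟨x, hx⟩ r, hRinv _ r hr, hφ _ _⟩
        · rintro ⟨r, hr, e⟩
          refine ⟨φ ⟨x, hx⟩⁻¹ r, hRinv _ r hr, ?_⟩
          show (φ ⟨x, hx⟩⁻¹ r : G) = g
          rw [hφ, show (r : G) = x * g * x⁻¹ from e]
          simp [mul_assoc]
      have hle := hQm.2 hRbad (Subgroup.map_subtype_le R)
      exact hR (eq_top_iff.mpr fun z _ => by
        obtain ⟨z', hz', e⟩ := hle z.2
        exact (Subtype.ext e : z' = z) ▸ hz'))
    (χ := fun y : Q => χ y) (isCharacter_comp hχ Q.subtype)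
    (fun x y => by rw [hφ]; exact isClassFunction_of_isCharacter hχ _ _)
    (fun y h => Subtype.ext (hfaith y (by simpa using h))) (d := dG) (by simpa using hdG)
  rw [hdd] at hdeg
  omega

end CfsgLib.Char.TISmallDegree
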