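import Cfsg.Agent.Lib.Char.LinearSylow
import Cfsg.Agent.Lib.Char.TISmallDegree
import Cfsg.Agent.Lib.PGroup.PSolvable
import Cfsg.Agent.Lib.PGroup.ConjInvol.Cover
import Cfsg.Agent.Lib.Invol.Signalizer

/-!
# A `p`-soluble linear group with a non-normal Sylow subgroup has a soluble such subgroup
-/

set_option autoImplicit false
set_option linter.unusedSectionVars false

namespace CfsgLib.Char.LinearSylow

open Cfsg CfsgLib.Char

universe u

variable {G : Type u} [Group G] [Finite G] {p : ℕ} [hp : Fact p.Prime]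

theorem exists_solvable_bad (hsolv : Cfsg.IsPSolvable p G) (P : Sylow p G)
    (hP : ¬ (P : Subgroup G).Normal) :
    ∃ K : Subgroup G, Group.IsSolvable K ∧ ∃ Q : Sylow p K, ¬ (Q : Subgroup K).Normal := by
  classical
  set M := Cfsg.pCore p G with hM
  haveI : M.Normal := Coprime.pCore_normal' p
  set π := QuotientGroup.mk' M with hπ
  have hcore : Cfsg.pCore p (G ⧸ M) = ⊥ := PGroup.ConjInvol.pCore_quotient_pCore M rfl
  have hC := TISmallDegree.centralizer_pPrimeCore_le (PGroup.isPSolvable_quotient hp.out hsolv M) hcore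
  obtain ⟨x, hx, hxM⟩ : ∃ x ∈ (P : Subgroup G), x ∉ M := by
    by_contra hall
    push Not at hall
    exact hP (P.3 (Coprime.pCore_isPGroup p) hall ▸ inferInstance)
  set H := Cfsg.pPrimeCore p (G ⧸ M) with hH
  set A := Subgroup.zpowers (π x) with hA
  have hxo : ∃ k, orderOf (π x) = p ^ k := by
    obtain ⟨k, hk⟩ := P.2 ⟨x, hx⟩
    obtain ⟨j, -, hj⟩ := (Nat.dvd_prime_pow hp.out).1 (show orderOf (π x) ∣ p ^ k from
      orderOf_dvd_of_pow_eq_one (by rw [← map_pow, show x ^ p ^ k = 1 from congrArg Subtype.val hk, map_one]))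
    exact ⟨j, hj⟩
  obtain ⟨k, hk⟩ := hxo
  have hHcop := Coprime.pPrimeCore_coprime (G := G ⧸ M) hp.out
  have hcop : (Nat.card A).Coprime (Nat.card H) := by
    rw [hA, Nat.card_zpowers, hk]
    exact Nat.Coprime.pow_left k hHcop.symm
  haveI hHn : H.Normal := inferInstance
  have hAH : A ≤ Subgroup.normalizer (H : Set (G ⧸ M)) := by
    rw [Subgroup.normalizer_eq_top_iff.2 hHn]; exact le_top
  haveI hAcyc : IsCyclic A := by rw [hA]; infer_instance
  have hAsol : Group.IsSolvable A := Group.isSolvable_of_comm fun a b => IsCyclic.commGroup.mul_comm a b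
  -- an invariant Sylow subgroup moved by `x`
  obtain ⟨r, R, hr, hRH, hRp, hRA, y, hyR, hy⟩ : ∃ (r : ℕ) (R : Subgroup (G ⧸ M)), r.Prime ∧ R ≤ H ∧
      IsPGroup r R ∧ A ≤ Subgroup.normalizer (R : Set (G ⧸ M)) ∧
      ∃ y ∈ R, π x * y ≠ y * π x := by
    by_contra hall
    push Not at hall
    have hle : H ≤ Subgroup.centralizer ({π x} : Set (G ⧸ M)) := by
      set D := Subgroup.centralizer ({π x} : Set (G ⧸ M)) ⊓ H with hD
      suffices hDH : D = H by rw [← hDH]; exact inf_le_left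
      refine Subgroup.eq_of_le_of_card_ge inf_le_right (Nat.le_of_dvd Nat.card_pos ?_)
      rw [← Nat.factorization_le_iff_dvd Nat.card_pos.ne' Nat.card_pos.ne']
      intro r
      by_cases hr : r.Prime
      · haveI : Fact r.Prime := ⟨hr⟩
        obtain ⟨R, hR, hRA⟩ := Coprime.exists_invariant_sylow hAH hcop (Or.inl hAsol) r
        have hRD : R ≤ D := le_inf (fun y hy => Subgroup.mem_centralizer_singleton_iff.2
          (hall r R hr hR.1 hR.isPGroup hRA y hy).symm) hR.1
        have h := Subgroup.card_dvd_of_le hRD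
        rw [hR.2] at h
        exact (Nat.Prime.pow_dvd_iff_le_factorization hr Nat.card_pos.ne').1 h
      · rw [Nat.factorization_eq_zero_of_not_prime _ hr]; exact Nat.zero_le _
    have hxc : π x ∈ H := hC (Subgroup.mem_centralizer_iff.2 fun y hy =>
      Subgroup.mem_centralizer_singleton_iff.1 (hle hy))
    have h1 : π x = 1 := orderOf_eq_one_iff.1 (Nat.eq_one_of_dvd_coprimes hcop
      (by rw [hA, Nat.card_zpowers]) (Subgroup.orderOf_dvd_natCard _ hxc))
    exact hxM ((QuotientGroup.eq_one_iff x).1 h1)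
  set K' := R ⊔ A with hK'
  set K := K'.comap π with hK
  haveI : Fact r.Prime := ⟨hr⟩
  refine ⟨K, ?_, ?_⟩
  · haveI hK'sol : Group.IsSolvable K' := by
      haveI := hRp.isNilpotent
      exact Invol.isSolvable_sup hRA inferInstance hAsol
    haveI := (Coprime.pCore_isPGroup (G := G) p).isNilpotent
    let f : K →* K' := π.subgroupComap K'
    have hker : f.ker ≤ (Subgroup.inclusion (show M ≤ K from fun m hm => by
        show π m ∈ K'
        rw [show π m = 1 from (QuotientGroup.eq_one_iff m).2 hm]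
        exact one_mem _)).range := fun z hz => by
      have hz' : (z : G) ∈ M := (QuotientGroup.eq_one_iff (z : G)).1 (congrArg Subtype.val hz)
      exact ⟨⟨z, hz'⟩, rfl⟩
    exact Group.isSolvable_of_ker_le_range _ f hker
  · by_contra hall
    push Not at hall
    let Q : Sylow p K := default
    have hQn := hall Q
    haveI := Sylow.unique_of_normal Q hQn
    have hxK : x ∈ K := show π x ∈ K' from Subgroup.mem_sup_right (Subgroup.mem_zpowers _)
    have hxQ : (⟨x, hxK⟩ : K) ∈ (Q : Subgroup K) := by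
      obtain ⟨Q', hQ'⟩ := (P.2.comap_subtype (K := K)).exists_le_sylow
      exact (Subsingleton.elim Q' Q) ▸ hQ' (show (x : G) ∈ (P : Subgroup G) from hx)
    set S := ((Q : Subgroup K).map K.subtype).map π with hS
    have hSp : IsPGroup p S := (Q.2.map _).map π
    obtain ⟨y0, rfl⟩ := QuotientGroup.mk'_surjective M y
    have hy0K : y0 ∈ K := show π y0 ∈ K' from Subgroup.mem_sup_left hyR
    have hxS : π x ∈ S := ⟨x, ⟨⟨x, hxK⟩, hxQ, rfl⟩, rfl⟩
    have hc : π x * π y0 * (π x)⁻¹ * (π y0)⁻¹ ∈ S := by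
      have h1 := (Q : Subgroup K).mul_mem hxQ (hQn.conj_mem _ ((Q : Subgroup K).inv_mem hxQ) ⟨y0, hy0K⟩)
      refine ⟨_, ⟨_, h1, rfl⟩, ?_⟩
      simp [mul_assoc]
    have hcR : π x * π y0 * (π x)⁻¹ * (π y0)⁻¹ ∈ R :=
      R.mul_mem ((Subgroup.mem_normalizer_iff.1 (hRA (Subgroup.mem_zpowers _)) _).1 hyR) (R.inv_mem hyR)
    have h1 : π x * π y0 * (π x)⁻¹ * (π y0)⁻¹ = 1 := by
      obtain ⟨i, hi⟩ := IsPGroup.iff_card.1 hSp
      refine orderOf_eq_one_iff.1 (Nat.eq_one_of_dvd_coprimes ?_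
        (Subgroup.orderOf_dvd_natCard _ hc) (Subgroup.orderOf_dvd_natCard _ hcR))
      rw [hi]
      exact Nat.Coprime.pow_left i ((hHcop.coprime_dvd_left (Subgroup.card_dvd_of_le hRH)).symm)
    exact hy (mul_inv_eq_iff_eq_mul.1 (mul_inv_eq_one.1 h1))

/-- Some constituent of a faithful character has a non-normal Sylow subgroup modulo its kernel. -/
theorem exists_bad_constituent [Fintype G] {χ : G → ℂ} (hχ : IsCharacter G χ)
    (hfaith : ∀ g : G, χ g = χ 1 → g = 1) (P : Sylow p G) (hP : ¬ (P : Subgroup G).Normal) :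
    ∃ ψ : IrrCharacter G, classInner χ (ψ : G → ℂ) ≠ 0 ∧
      ∃ (N : Subgroup G) (_ : N.Normal) (ψ' : IrrCharacter (G ⧸ N)),
        (∀ x : G ⧸ N, (ψ' : G ⧸ N → ℂ) x = (ψ' : G ⧸ N → ℂ) 1 → x = 1) ∧
        charDegree (ψ' : G ⧸ N → ℂ) = charDegree (ψ : G → ℂ) ∧
        ∃ Q : Sylow p (G ⧸ N), ¬ (Q : Subgroup (G ⧸ N)).Normal := by
  classical
  by_contra hall
  push Not at hall
  have hR : IsPGroup p (pGen p (⊤ : Subgroup G)) := by
    intro y
    refine ⟨(Nat.card G).factorization p, Subtype.ext ?_⟩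
    rw [SubgroupClass.coe_pow, OneMemClass.coe_one]
    refine hfaith _ (eq_one_value (f := χ) (isClassFunction_of_isCharacter hχ) fun ψ hψ => ?_)
    obtain ⟨K, hK, hmem⟩ := Invol.exists_charKernel ψ
    haveI := hK
    obtain ⟨ψ', hψ'⟩ := Block.exists_deflate (N := K) ψ fun z hz => (hmem z).1 hz
    have hfaith' : ∀ x : G ⧸ K, (ψ' : G ⧸ K → ℂ) x = (ψ' : G ⧸ K → ℂ) 1 → x = 1 := fun x hx => by
      obtain ⟨l, rfl⟩ := QuotientGroup.mk_surjective x
      rw [← QuotientGroup.mk_one, hψ', hψ'] at hx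
      exact (QuotientGroup.eq_one_iff l).2 ((hmem l).2 hx)
    have hdeg : charDegree (ψ' : G ⧸ K → ℂ) = charDegree (ψ : G → ℂ) := by
      simp only [charDegree, ← hψ' 1, QuotientGroup.mk_one]
    have hnorm := hall ψ hψ K inferInstance ψ' hfaith' hdeg
    let Q : Sylow p (G ⧸ K) := default
    haveI := Sylow.unique_of_normal Q (hnorm Q)
    have hle : pGen p (⊤ : Subgroup G) ≤ (Q : Subgroup (G ⧸ K)).comap (QuotientGroup.mk' K) := by
      refine (Subgroup.closure_le _).2 ?_
      rintro z ⟨-, k, hk⟩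
      obtain ⟨j, -, hj⟩ := (Nat.dvd_prime_pow hp.out).1
        (show orderOf (QuotientGroup.mk' K z) ∣ p ^ k from orderOf_dvd_of_pow_eq_one (by
          rw [← map_pow, hk, map_one]))
      have hzp : IsPGroup p (Subgroup.zpowers (QuotientGroup.mk' K z)) :=
        IsPGroup.of_card (n := j) (by rw [Nat.card_zpowers, hj])
      obtain ⟨Q', hQ'⟩ := hzp.exists_le_sylow
      exact (Subsingleton.elim Q' Q) ▸ hQ' (Subgroup.mem_zpowers _)
    have hqv : Nat.card (Q : Subgroup (G ⧸ K)) ∣ p ^ (Nat.card G).factorization p := by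
      rw [Q.card_eq_multiplicity]
      exact Nat.pow_dvd_pow p ((Nat.factorization_le_iff_dvd Nat.card_pos.ne' Nat.card_pos.ne').2
        (Subgroup.card_quotient_dvd_card K) p)
    refine (hmem _).1 ((QuotientGroup.eq_one_iff _).1 ?_)
    have h1 := orderOf_dvd_iff_pow_eq_one.1 ((Subgroup.orderOf_dvd_natCard (Q : Subgroup (G ⧸ K)) (show QuotientGroup.mk' K (y : G) ∈ (Q : Subgroup (G ⧸ K)) from hle y.2)).trans hqv)
    rw [← map_pow] at h1
    exact h1
  haveI := pGen_normal (p := p) (⊤ : Subgroup G)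
  exact hP (P.3 hR (fun y hy => mem_pGen_of_isPGroup P.2 hy (Subgroup.mem_top y)) ▸ inferInstance)

/-- Small degree: the degree is `p - 1`, a power of two, and the character is irreducible. -/
theorem small_degree (hsolv : Cfsg.IsPSolvable p G) {χ : G → ℂ} (hχ : IsCharacter G χ)
    (hfaith : ∀ g : G, χ g = χ 1 → g = 1) {n : ℕ} (hn : χ 1 = n) (hnp : n + 1 ≤ p)
    (P : Sylow p G) (hP : ¬ (P : Subgroup G).Normal) :
    n + 1 = p ∧ (∃ k : ℕ, n = 2 ^ k) ∧ IsIrrCharacter G χ := by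
  classical
  letI := Fintype.ofFinite G
  obtain ⟨K, hKsol, Q, hQ⟩ := exists_solvable_bad hsolv P hP
  haveI := hKsol
  letI := Fintype.ofFinite K
  have hχK : IsCharacter K fun x : K => χ x := isCharacter_comp hχ K.subtype
  obtain ⟨ψ, hψ, N, hN, ψ', hψ'f, hψ'd, hQ'⟩ := exists_bad_constituent hχK (fun x hx =>
    Subtype.ext (hfaith _ (by simpa using hx))) Q hQ
  haveI := hN
  obtain ⟨q, hqpp, hqd, hqm⟩ := holds (p := p) (K ⧸ N) inferInstance ψ' hψ'f hQ'
  rw [hψ'd] at hqd
  have hK1 : χ ((1 : K) : G) = (n : ℂ) := by rw [OneMemClass.coe_one, hn]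
  obtain ⟨hle, heq⟩ := degree_le_of_constituent hχK ψ hψ hK1 (Block.charDegree_eq ψ).1
  have hqn : q ≤ n := (Nat.le_of_dvd (Nat.pos_of_ne_zero (Block.charDegree_eq ψ).2) hqd).trans hle
  have hq2 := hqpp.two_le
  have hqp : q + 1 = p := by
    rcases hqm with h | h | h
    · have h1 := Int.modEq_iff_dvd.1 h.symm
      rw [sub_neg_eq_add] at h1
      have h2 : p ∣ q + 1 := by exact_mod_cast h1
      have := Nat.le_of_dvd (Nat.succ_pos q) h2
      omega
    · have h2 : p ∣ q := Int.natCast_dvd_natCast.1 (Int.modEq_zero_iff_dvd.1 h)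
      have := Nat.le_of_dvd (by omega) h2
      omega
    · have h1 := Int.modEq_iff_dvd.1 h.symm
      have h2 : (p : ℤ) ∣ ((q - 1 : ℕ) : ℤ) := by
        rwa [Nat.cast_sub (by omega), Nat.cast_one]
      have := Nat.le_of_dvd (by omega) (Int.natCast_dvd_natCast.1 h2)
      omega
  have hnq : n = q := by omega
  have hψn : n = charDegree (ψ : K → ℂ) := le_antisymm
    (hnq ▸ Nat.le_of_dvd (Nat.pos_of_ne_zero (Block.charDegree_eq ψ).2) hqd) hle
  refine ⟨by omega, ?_, ?_⟩
  · obtain ⟨r, k, hr, hk0, hrk⟩ := (isPrimePow_nat_iff q).1 hqpp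
    have hp2 : p % 2 = 1 := hp.out.eq_two_or_odd.resolve_left (by omega)
    have h2 : 2 ∣ r ^ k := by rw [hrk]; omega
    obtain rfl := (Nat.prime_dvd_prime_iff_eq Nat.prime_two hr).1 (Nat.prime_two.dvd_of_dvd_pow h2)
    exact ⟨k, by rw [hnq, hrk]⟩
  · refine isIrr_of_res K hχ ?_
    rw [heq hψn]
    exact ψ.2

end CfsgLib.Char.LinearSylow
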