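import Cfsg.Agent.Lib.Char.AbelianTIBound
import Cfsg.Agent.Lib.Char.LinearSylowPSolvable
import Cfsg.Agent.Lib.Char.BlichfeldtPi

/-!
# Feit–Thompson: normal Sylow subgroups of linear groups of small degree

If a finite group has a faithful complex character of degree `n` and a prime `p` satisfies
`(n + 1)^2 ≤ p`, or `n + 1 < p` and every subgroup of order not divisible by `p^2` has a normal
Sylow `p`-subgroup, then the Sylow `p`-subgroup is normal.
-/

open Subgroup

set_option autoImplicit false
set_option linter.unusedSectionVars false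

namespace CfsgLib.Char.FeitBlichfeldt

open Cfsg CfsgLib.Char

universe u

variable {G : Type u} [Group G] [Finite G] {p : ℕ} [hp : Fact p.Prime]

/-- A central element of an abelian Sylow subgroup of a perfect group is trivial. -/
theorem inf_center_eq_bot (P : Sylow p G)
    (hab : ∀ a ∈ (P : Subgroup G), ∀ b ∈ (P : Subgroup G), a * b = b * a)
    (hperf : commutator G = ⊤) : (P : Subgroup G) ⊓ Subgroup.center G = ⊥ := by
  refine (Subgroup.eq_bot_iff_forall _).2 fun x ⟨hxP, hxZ⟩ => ?_
  letI : CommGroup ↥(P : Subgroup G) :=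
    { (inferInstance : Group ↥(P : Subgroup G)) with
      mul_comm := fun a b => Subtype.ext (hab a a.2 b b.2) }
  have key : ∀ (k : ℕ) (g₀ : G), g₀⁻¹ * x ^ k * g₀ ∈ (P : Subgroup G) →
      g₀⁻¹ * x ^ k * g₀ = x ^ k := fun k g₀ _ => by
    rw [mul_assoc, (Subgroup.mem_center_iff.1 (pow_mem hxZ k) g₀).symm, inv_mul_cancel_left]
  have h1 := MonoidHom.transfer_eq_pow (MonoidHom.id ↥(P : Subgroup G)) x key
  have h2 : MonoidHom.transfer (MonoidHom.id ↥(P : Subgroup G)) x = 1 := by
    have h3 := Abelianization.commutator_subset_ker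
      (MonoidHom.transfer (MonoidHom.id ↥(P : Subgroup G)))
    rw [hperf] at h3
    exact h3 (Subgroup.mem_top x)
  rw [h2, MonoidHom.id_apply] at h1
  have h4 : x ^ (P : Subgroup G).index = 1 := (congrArg Subtype.val h1).symm
  obtain ⟨k, hk⟩ := P.2 ⟨x, hxP⟩
  have h5 : orderOf x ∣ p ^ k := orderOf_dvd_of_pow_eq_one (congrArg Subtype.val hk)
  refine orderOf_eq_one_iff.1 (Nat.eq_one_of_dvd_coprimes ?_ h5 (orderOf_dvd_of_pow_eq_one h4))
  exact Nat.Coprime.pow_left k (hp.out.coprime_iff_not_dvd.2 P.not_dvd_index)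

/-- A group whose proper subgroups have normal Sylow subgroups and which is not perfect is
`p`-soluble. -/
theorem isPSolvable_of_not_perfect (P : Sylow p G) (hP : ¬ (P : Subgroup G).Normal)
    (hsub : ∀ K : Subgroup G, K ≠ ⊤ → ∀ Q : Sylow p K, (Q : Subgroup K).Normal)
    (hperf : commutator G ≠ ⊤) : Cfsg.IsPSolvable p G := by
  set D := commutator G with hD
  have hsup : D ⊔ (P : Subgroup G) = ⊤ := by
    by_contra h
    haveI : (D ⊔ (P : Subgroup G)).Normal := by
      refine ⟨fun y hy g => ?_⟩
      have hc : g * y * g⁻¹ * y⁻¹ ∈ D :=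
        commutator_mem_commutator (Subgroup.mem_top g) (Subgroup.mem_top y)
      have := mul_mem (Subgroup.mem_sup_left (T := (P : Subgroup G)) hc) hy
      rwa [inv_mul_cancel_right] at this
    let P' : Sylow p ↥(D ⊔ (P : Subgroup G)) := P.subtype le_sup_right
    have hn := hsub _ h P'
    haveI := Sylow.characteristic_of_normal P' hn
    refine hP ?_
    have h2 : ((P' : Subgroup ↥(D ⊔ (P : Subgroup G))).map (D ⊔ (P : Subgroup G)).subtype).Normal :=
      inferInstance
    rwa [show (P' : Subgroup ↥(D ⊔ (P : Subgroup G))) = (P : Subgroup G).subgroupOf _ from rfl,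
      Subgroup.map_subgroupOf_eq_of_le le_sup_right] at h2
  let Q : Sylow p ↥D := default
  haveI := Sylow.characteristic_of_normal Q (hsub D hperf Q)
  set R : Subgroup G := (Q : Subgroup ↥D).map D.subtype
  have hRn : R.Normal := inferInstance
  refine ⟨3, ![⊥, R, D, ⊤], rfl, rfl, ?_, ?_, ?_⟩
  · refine Fin.monotone_iff_le_succ.2 fun i => ?_
    fin_cases i
    · exact bot_le
    · exact map_subtype_le _
    · exact le_top
  · intro i
    fin_cases i
    · exact Subgroup.normal_bot
    · exact hRn
    · exact (inferInstance : D.Normal)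
    · exact Subgroup.normal_top
  · intro i
    fin_cases i
    · left
      obtain ⟨m, hm⟩ := IsPGroup.iff_card.1 (Q.2.map D.subtype)
      exact ⟨m, by show (⊥ : Subgroup G).relIndex R = _; rw [relIndex_bot_left, hm]⟩
    · right
      show (R.relIndex D).Coprime p
      rw [Subgroup.relIndex, subgroupOf, comap_map_eq_self_of_injective D.subtype_injective]
      exact (hp.out.coprime_iff_not_dvd.2 Q.not_dvd_index).symm
    · left
      obtain ⟨k, hk⟩ := IsPGroup.iff_card.1 P.2
      have hd : D.relIndex ⊤ ∣ p ^ k := by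
        rw [← hsup, sup_comm, relIndex_sup_right, ← hk]
        exact relIndex_dvd_card _ _
      obtain ⟨m, -, hm⟩ := (Nat.dvd_prime_pow hp.out).1 hd
      exact ⟨m, hm⟩

theorem nonlinear_constituent [Fintype G] {f : G → ℂ} (hf : IsCharacter G f)
    (hfaith : ∀ g : G, f g = f 1 → g = 1) (hperf : commutator G = ⊤) [Nontrivial G] :
    ∃ χ : IrrCharacter G, classInner f (χ : G → ℂ) ≠ 0 ∧ (χ : G → ℂ) 1 ≠ 1 := by
  by_contra hall
  simp only [not_exists, not_and, not_not] at hall
  obtain ⟨g, hg⟩ := exists_ne (1 : G)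
  refine hg (hfaith g (LinearSylow.eq_one_value (isClassFunction_of_isCharacter hf) fun χ hχ => ?_))
  obtain ⟨l, hl⟩ := exists_hom_of_linear (isCharacter_irr χ) (hall χ hχ)
  have h3 := Abelianization.commutator_subset_ker l
  rw [hperf] at h3
  rw [hl]
  show (l g : ℂ) = (l 1 : ℂ)
  rw [show l g = 1 from h3 (Subgroup.mem_top g), map_one]

/-- The theorem, for a faithful character. -/
theorem normal_sylow : ∀ (G : Type u) [Group G] [Finite G] (f : G → ℂ) (n : ℕ), IsCharacter G f →
    (∀ g : G, f g = f 1 → g = 1) → f 1 = n →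
    ((n + 1) ^ 2 ≤ p ∨ (n + 1 < p ∧ ∀ K : Subgroup G, ¬ p ^ 2 ∣ Nat.card K →
      ∀ Q : Sylow p K, (Q : Subgroup K).Normal)) →
    ∀ P : Sylow p G, (P : Subgroup G).Normal := by
  intro G _ _
  induction hc : Nat.card G using Nat.strong_induction_on generalizing G with
  | _ c ih =>
  subst hc
  intro f n hf hfaith hn hhyp P
  by_contra hP
  classical
  letI := Fintype.ofFinite G
  haveI : Nontrivial G := by
    by_contra hnt
    rw [not_nontrivial_iff_subsingleton] at hnt
    exact hP ⟨fun a ha g => by rwa [Subsingleton.elim (g * a * g⁻¹) a]⟩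
  have hn0 : n ≠ 0 := by
    intro h0
    obtain ⟨g, hg⟩ := exists_ne (1 : G)
    obtain ⟨d, ρ, rfl⟩ := hf
    rw [Representation.char_one, Module.finrank_fin_fun, h0, Nat.cast_inj] at hn
    subst hn
    refine hg (hfaith g ?_)
    have e : ρ g = ρ 1 := LinearMap.ext fun v => Subsingleton.elim _ _
    show LinearMap.trace ℂ _ (ρ g) = LinearMap.trace ℂ _ (ρ 1)
    rw [e]
  have hnp : n + 1 < p := by
    rcases hhyp with h | h
    · nlinarith [Nat.pos_of_ne_zero hn0]
    · exact h.1
  -- proper subgroups
  have hsub : ∀ K : Subgroup G, K ≠ ⊤ → ∀ Q : Sylow p K, (Q : Subgroup K).Normal := by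
    intro K hK
    refine ih _ (lt_of_le_of_ne (Subgroup.card_le_card_group K)
      fun e => hK (Subgroup.eq_top_of_card_eq K e)) K rfl (fun x : K => f x) n
      (isCharacter_comp hf K.subtype) (fun x hx => Subtype.ext (hfaith _ (by simpa using hx)))
      (by rw [OneMemClass.coe_one, hn]) (hhyp.imp id fun h => ⟨h.1, fun L hL Q => ?_⟩)
    let e := L.equivMapOfInjective K.subtype K.subtype_injective
    have h' := h.2 (L.map K.subtype) (by rwa [← Nat.card_congr e.toEquiv])
    haveI : Subsingleton (Sylow p ↥(L.map K.subtype)) :=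
      have Q₀ : Sylow p ↥(L.map K.subtype) := default
      haveI := Sylow.unique_of_normal Q₀ (h' Q₀)
      inferInstance
    let Q' : Sylow p ↥(L.map K.subtype) := Q.mapSurjective (f := e.toMonoidHom) e.surjective
    have h'' : ((Q : Subgroup L).map e.toMonoidHom).Normal := h' Q'
    have h3 := h''.comap e.toMonoidHom
    rwa [Subgroup.comap_map_eq_self_of_injective e.injective] at h3
  -- not `p`-soluble
  have hperf : commutator G = ⊤ := by
    by_contra h
    exact absurd (LinearSylow.small_degree (isPSolvable_of_not_perfect P hP hsub h) hf hfaith hn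
      (by omega) P hP).1 (by omega)
  have hab := BlichfeldtPi.abelian_of_small hf hfaith hn (by omega) (P : Subgroup G) P.2
  have hZ := inf_center_eq_bot P hab hperf
  have hM : ∀ M : Subgroup G, M.Normal → (P : Subgroup G) ≤ M → M = ⊤ := by
    intro M hMn hle
    by_contra hM
    haveI := Sylow.characteristic_of_normal (P.subtype hle) (hsub M hM _)
    refine hP ?_
    have h2 : ((P.subtype hle : Subgroup M).map M.subtype).Normal := inferInstance
    rwa [show (P.subtype hle : Subgroup M) = (P : Subgroup G).subgroupOf M from rfl,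
      Subgroup.map_subgroupOf_eq_of_le hle] at h2
  -- the normal Sylow subgroup of a centralizer
  have huniq : ∀ (g : G), g ∉ Subgroup.center G → ∀ S T : Subgroup G, IsPGroup p S → IsPGroup p T →
      S ≤ centralizer {g} → T ≤ centralizer {g} → IsPGroup p ↥(S ⊔ T) := by
    intro g hg S T hS hT hSg hTg
    have hC : centralizer ({g} : Set G) ≠ ⊤ := fun e => hg (Subgroup.mem_center_iff.2 fun x =>
      Subgroup.mem_centralizer_singleton_iff.1 (e ▸ Subgroup.mem_top x))
    let R : Sylow p ↥(centralizer ({g} : Set G)) := default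
    haveI := Sylow.unique_of_normal R (hsub _ hC R)
    have key : ∀ U : Subgroup G, IsPGroup p U → U ≤ centralizer {g} →
        U ≤ (R : Subgroup _).map (centralizer ({g} : Set G)).subtype := by
      intro U hU hUg
      obtain ⟨R', hR'⟩ := (hU.comap_subtype (K := centralizer ({g} : Set G))).exists_le_sylow
      rw [← Subgroup.map_subgroupOf_eq_of_le hUg]
      exact map_mono (Subsingleton.elim R' R ▸ hR')
    exact (R.2.map _).to_le (sup_le (key S hS hSg) (key T hT hTg))
  have hone : ∀ g : G, g ∉ Subgroup.center G → ∀ a b : G,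
      Subgroup.centralizer ({g} : Set G) ⊓ (P : Subgroup G).map (MulAut.conj a).toMonoidHom ≠ ⊥ →
      Subgroup.centralizer ({g} : Set G) ⊓ (P : Subgroup G).map (MulAut.conj b).toMonoidHom ≠ ⊥ →
      (P : Subgroup G).map (MulAut.conj a).toMonoidHom =
        (P : Subgroup G).map (MulAut.conj b).toMonoidHom := by
    intro g hg a b ha hb
    set A := (P : Subgroup G).map (MulAut.conj a).toMonoidHom with hA
    set B := (P : Subgroup G).map (MulAut.conj b).toMonoidHom with hB
    have hAp : IsPGroup p A := P.2.map _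
    have hBp : IsPGroup p B := P.2.map _
    obtain ⟨S, hS⟩ := (huniq g hg (centralizer {g} ⊓ A) (centralizer {g} ⊓ B)
      (hAp.to_le inf_le_right) (hBp.to_le inf_le_right) inf_le_left inf_le_left).exists_le_sylow
    have hSab := BlichfeldtPi.abelian_of_small hf hfaith hn (by omega) (S : Subgroup G) S.2
    have key : ∀ c : G, centralizer {g} ⊓ (P : Subgroup G).map (MulAut.conj c).toMonoidHom ≠ ⊥ →
        centralizer {g} ⊓ (P : Subgroup G).map (MulAut.conj c).toMonoidHom ≤ (S : Subgroup G) →
        (P : Subgroup G).map (MulAut.conj c).toMonoidHom = (S : Subgroup G) := by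
      intro c hc hcS
      obtain ⟨⟨u, hu⟩, hu1⟩ := Subgroup.ne_bot_iff_exists_ne_one.1 hc
      have huZ : u ∉ Subgroup.center G := by
        intro huZ
        obtain ⟨v, hv, hvu⟩ := hu.2
        have hvZ : v ∈ Subgroup.center G := by
          have h := (inferInstance : (Subgroup.center G).Normal).conj_mem u huZ c⁻¹
          rw [← hvu] at h
          simpa [MulAut.conj_apply, mul_assoc] using h
        have : v = 1 := by
          rw [← Subgroup.mem_bot, ← hZ]
          exact ⟨hv, hvZ⟩
        refine hu1 (Subtype.ext ?_)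
        show u = 1
        rw [← hvu, this, map_one]
      set C := (P : Subgroup G).map (MulAut.conj c).toMonoidHom with hC
      have hCp : IsPGroup p C := P.2.map _
      have hCcomm : ∀ x ∈ C, ∀ y ∈ C, x * y = y * x := by
        rintro _ ⟨x, hx, rfl⟩ _ ⟨y, hy, rfl⟩
        rw [← map_mul, ← map_mul, hab x hx y hy]
      have hsup := huniq u huZ C (S : Subgroup G) hCp S.2
        (fun x hx => Subgroup.mem_centralizer_singleton_iff.2 (hCcomm x hx u hu.2))
        (fun x hx => Subgroup.mem_centralizer_singleton_iff.2 (hSab x hx u (hcS hu)))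
      have e1 : C ⊔ (S : Subgroup G) = (S : Subgroup G) := S.3 hsup le_sup_right
      have hle : C ≤ (S : Subgroup G) := e1 ▸ le_sup_left
      refine Subgroup.eq_of_le_of_card_ge hle (le_of_eq ?_)
      rw [hC, Subgroup.card_map_of_injective (MulAut.conj c).injective]
      exact Nat.card_congr (Sylow.equiv S P).toEquiv
    exact (key a ha (le_sup_left.trans hS)).trans (key b hb (le_sup_right.trans hS)).symm
  obtain ⟨χ, hχf, hχ1⟩ := nonlinear_constituent hf hfaith hperf
  have hbound := AbelianTIBound.succ_degree_sq_gt hab hZ hone χ hχ1 hM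
  obtain ⟨hle, -⟩ := degree_le_of_constituent hf χ hχf hn (Block.charDegree_eq χ).1
  rw [(Block.charDegree_eq χ).1, Complex.natCast_re] at hbound
  have h1 : Nat.card (P : Subgroup G) < (1 + charDegree (χ : G → ℂ)) ^ 2 := by exact_mod_cast hbound
  have h2 : (1 + charDegree (χ : G → ℂ)) ^ 2 ≤ (n + 1) ^ 2 := Nat.pow_le_pow_left (by omega) 2
  have hPne : (P : Subgroup G) ≠ ⊥ := fun h => hP (h ▸ Subgroup.normal_bot)
  have hpP : p ∣ Nat.card (P : Subgroup G) := by
    obtain ⟨k, hk⟩ := IsPGroup.iff_card.1 P.2
    rw [hk]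
    refine dvd_pow_self p fun hk0 => hPne ?_
    rw [hk0, pow_zero] at hk
    exact Subgroup.card_eq_one.1 hk
  rcases hhyp with h | ⟨-, h⟩
  · have := Nat.le_of_dvd Nat.card_pos hpP
    omega
  · by_cases h2d : p ^ 2 ∣ Nat.card G
    · have h3 : p ^ 2 ∣ Nat.card (P : Subgroup G) := by
        rw [P.card_eq_multiplicity]
        exact Nat.pow_dvd_pow p ((hp.out.pow_dvd_iff_le_factorization Nat.card_pos.ne').1 h2d)
      have h4 := Nat.le_of_dvd Nat.card_pos h3
      have h5 : (n + 1) ^ 2 < p ^ 2 := Nat.pow_lt_pow_left hnp two_ne_zero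
      omega
    · refine hP ?_
      have h6 := h ⊤ (by rwa [Subgroup.card_top]) (P.subtype le_top)
      rw [show (P.subtype le_top : Subgroup ↥(⊤ : Subgroup G)) = (P : Subgroup G).subgroupOf ⊤ from rfl,
        normal_subgroupOf_iff_le_normalizer le_top] at h6
      exact normalizer_eq_top_iff.1 (top_le_iff.1 h6)

/-- The theorem, for a faithful representation. -/
theorem normal_of_representation {G : Type u} [Group G] [Finite G] (n : ℕ)
    (ρ : Representation ℂ G (Fin n → ℂ)) (hρ : Function.Injective ρ)
    (h : (n + 1) ^ 2 ≤ p ∨ (n + 1 < p ∧ ∀ K : Subgroup G, ¬ p ^ 2 ∣ Nat.card K →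
      ∀ Q : Sylow p K, (Q : Subgroup K).Normal)) (P : Sylow p G) : (P : Subgroup G).Normal := by
  refine normal_sylow G ρ.character n (isCharacter_character ρ) (fun g hg => hρ ?_)
    (by rw [Representation.char_one, Module.finrank_fin_fun]) h P
  rw [map_one]
  rw [Representation.char_one] at hg
  exact (char_eq_degree_iff ρ g).1 hg

end CfsgLib.Char.FeitBlichfeldt
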