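import Cfsg.Agent.Lib.Char.CoherenceSystem

/-!
# Extending coherent sets
-/

set_option autoImplicit false
set_option linter.unusedSectionVars false

namespace CfsgLib.Char

open scoped ComplexConjugate
open Cfsg

universe u v

variable {L : Type u} [Group L] [Fintype L] {G : Type v} [Group G] [Fintype G]

section System

variable {S : Set (L → ℂ)} {τ : (L → ℂ) → (G → ℂ)} {R : (L → ℂ) → Finset (G → ℂ)}

/-- The extension criterion for coherence systems. -/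
theorem coherence_extension (hS : IsCoherenceSystem S τ R) (d n : (L → ℂ) → ℕ)
    (hd : ∀ φ ∈ S, φ 1 = (d φ : ℂ)) (hn : ∀ φ ∈ S, classInner φ φ = (n φ : ℂ))
    (S₁ : Finset (L → ℂ)) (hS₁ : ↑S₁ ⊆ S) (hS₁c : ∀ φ ∈ S₁, Cfsg.conjFun φ ∈ S₁)
    (hcoh : IsCoherent (↑S₁ : Set (L → ℂ)) {1}ᶜ τ) {χ : L → ℂ} (hχ : χ ∈ S) (hχ₁ : χ ∉ S₁)
    (hχ₂ : Cfsg.conjFun χ ∉ S₁) {χ₁ : L → ℂ} (hχ₁S : χ₁ ∈ S₁) (hdvd : d χ₁ ∣ d χ)
    (hineq : (2 * d χ * d χ₁ : ℝ) < ∑ φ ∈ S₁, ((d φ : ℝ) ^ 2 / (n φ : ℝ))) :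
    IsCoherent (↑S₁ ∪ {χ, Cfsg.conjFun χ} : Set (L → ℂ)) {1}ᶜ τ := by
  classical
  obtain ⟨a, ha⟩ := hdvd
  obtain ⟨hne, τ₁, hτ₁, hag⟩ := hcoh
  have hmemS : ∀ φ ∈ S₁, φ ∈ S := fun φ h => hS₁ h
  have h₁ := hmemS χ₁ hχ₁S
  have hd0 : ∀ φ ∈ S, d φ ≠ 0 := fun φ hφ e => cs_degree_pos hS hφ (by rw [hd φ hφ, e, Nat.cast_zero])
  have hn0 : ∀ φ ∈ S, (n φ : ℝ) ≠ 0 := fun φ hφ e => cs_self_ne_zero hS hφ (by
    rw [hn φ hφ, show n φ = 0 from by exact_mod_cast e, Nat.cast_zero])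
  have hortho : ∀ φ ∈ S₁, classInner χ φ = 0 ∧ classInner (Cfsg.conjFun χ) φ = 0 := fun φ hφ =>
    ⟨hS.orthogonal χ hχ φ (hmemS φ hφ) (fun e => hχ₁ (e ▸ hφ)),
      hS.orthogonal _ (hS.conj_mem χ hχ) φ (hmemS φ hφ) (fun e => hχ₂ (e ▸ hφ))⟩
  have hbmem : χ - (a : ℂ) • χ₁ ∈ zspanOn S {1}ᶜ :=
    mem_zspanOn_one_iff.mpr ⟨zspan_sub (zspan_subset_mem hχ) (zspan_natSmul a (zspan_subset_mem h₁)), by
      rw [Pi.sub_apply, Pi.smul_apply, smul_eq_mul, hd χ hχ, hd χ₁ h₁, ha]; push_cast; ring⟩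
  set β := τ (χ - (a : ℂ) • χ₁) with hβ
  have hβg : IsGeneralizedCharacter G β := hS.isometry.2.2.2 _ hbmem
  -- the images of `S₁`
  have hz : ∀ φ ∈ S₁, IsGeneralizedCharacter G (τ₁ φ) := fun φ hφ =>
    hτ₁.2.2.2 _ (zspan_subset_mem (Finset.mem_coe.mpr hφ))
  have hzi : ∀ φ ∈ S₁, ∀ ψ ∈ S₁, classInner (τ₁ φ) (τ₁ ψ) = classInner φ ψ := fun φ hφ ψ hψ =>
    hτ₁.2.2.1 _ (zspan_subset_mem (Finset.mem_coe.mpr hφ)) _ (zspan_subset_mem (Finset.mem_coe.mpr hψ))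
  obtain ⟨x, hx⟩ := classInner_generalized_int hβg (hz χ₁ hχ₁S)
  set t : ℤ := x + a * n χ₁ with ht
  let k : ℝ := (t : ℝ) / (d χ₁ : ℝ)
  have hd1 : (d χ₁ : ℝ) ≠ 0 := by exact_mod_cast hd0 χ₁ h₁
  have hk : (d χ₁ : ℂ) * (k : ℂ) = (x : ℂ) + (a : ℂ) * (n χ₁ : ℂ) := by
    have h : (d χ₁ : ℝ) * k = (x : ℝ) + (a : ℝ) * (n χ₁ : ℝ) := by
      simp only [k, ht]; field_simp; push_cast; ring
    exact_mod_cast h
  let c : (L → ℂ) → ℝ := fun φ => k * d φ - if φ = χ₁ then (a : ℝ) * n χ₁ else 0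
  have hc : ∀ φ ∈ S₁, classInner β (τ₁ φ) = (c φ : ℂ) := by
    intro φ hφ
    set γ := (d χ₁ : ℂ) • φ - (d φ : ℂ) • χ₁ with hγ
    have hγ1 : γ ∈ zspanOn (↑S₁ : Set (L → ℂ)) {1}ᶜ :=
      mem_zspanOn_one_iff.mpr ⟨zspan_sub (zspan_natSmul _ (zspan_subset_mem (Finset.mem_coe.mpr hφ)))
        (zspan_natSmul _ (zspan_subset_mem (Finset.mem_coe.mpr hχ₁S))), by
        rw [hγ, Pi.sub_apply, Pi.smul_apply, Pi.smul_apply, smul_eq_mul, smul_eq_mul, hd φ (hmemS φ hφ),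
          hd χ₁ h₁]
        ring⟩
    have hτγ : τ₁ γ = (d χ₁ : ℂ) • τ₁ φ - (d φ : ℂ) • τ₁ χ₁ := by
      rw [hγ, iso_sub_zspan hτ₁ (zspan_natSmul _ (zspan_subset_mem (Finset.mem_coe.mpr hφ)))
          (zspan_natSmul _ (zspan_subset_mem (Finset.mem_coe.mpr hχ₁S))),
        iso_natSmul hτ₁ (zspan_subset_mem (Finset.mem_coe.mpr hφ)),
        iso_natSmul hτ₁ (zspan_subset_mem (Finset.mem_coe.mpr hχ₁S))]
    have h1 := hS.isometry.2.2.1 _ hbmem _ (zspanOn_mono hS₁ hγ1)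
    rw [← hag γ hγ1, hτγ, ← hβ, classInner_sub_right β, classInner_smul_right, classInner_smul_right,
      map_natCast, map_natCast, hx, hγ, classInner_sub_left χ, classInner_sub_right χ,
      classInner_sub_right ((a : ℂ) • χ₁), classInner_smul_left, classInner_smul_left,
      classInner_smul_right, classInner_smul_right, classInner_smul_right, classInner_smul_right,
      map_natCast, map_natCast, (hortho φ hφ).1, (hortho χ₁ hχ₁S).1, hn χ₁ h₁] at h1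
    apply mul_left_cancel₀ (show (d χ₁ : ℂ) ≠ 0 by exact_mod_cast hd0 χ₁ h₁)
    simp only [c]
    by_cases hφ1 : φ = χ₁
    · subst hφ1
      rw [if_pos rfl, hx]
      push_cast
      linear_combination -(d φ : ℂ) * hk
    · rw [hS.orthogonal χ₁ h₁ φ (hmemS φ hφ) (Ne.symm hφ1)] at h1
      rw [if_neg hφ1]
      push_cast
      linear_combination h1 - (d φ : ℂ) * hk
  obtain ⟨hr0, hrn⟩ := residual_norm S₁ τ₁ (fun φ => (n φ : ℝ)) (fun φ hφ => hn0 φ (hmemS φ hφ))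
    (fun φ hφ => by rw [hzi φ hφ φ hφ, hn φ (hmemS φ hφ), Complex.ofReal_natCast])
    (fun φ hφ ψ hψ h => by rw [hzi φ hφ ψ hψ, hS.orthogonal φ (hmemS φ hφ) ψ (hmemS ψ hψ) h]) β c hc
  set r := β - ∑ φ ∈ S₁, ((c φ / (n φ : ℝ) : ℝ) : ℂ) • τ₁ φ with hr
  have hperp : ∀ α ∈ R χ, ∀ φ ∈ S₁, classInner (τ₁ φ) α = 0 := by
    intro α hα φ hφ
    obtain ⟨T, hT, he⟩ := cs_subset_sum hS (hmemS φ hφ) (Finset.mem_coe.mpr hφ)
      (Finset.mem_coe.mpr (hS₁c φ hφ)) hτ₁ hag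
    rw [he]
    exact cs_coef_zero hS (hmemS φ hφ) hχ (fun e => hχ₁ (e ▸ hφ)) (fun e => hχ₂ (e ▸ hφ)) hT hα
  obtain ⟨e, he, -, -⟩ := orthonormal_bound (hS.orthonormal χ hχ) (hS.virtual χ hχ) hβg
  have he' : ∀ α ∈ R χ, classInner r α = ((e α : ℝ) : ℂ) := fun α hα => by
    rw [hr, classInner_sub_left, classInner_sum_left,
      Finset.sum_eq_zero (fun φ hφ => by rw [classInner_smul_left, hperp α hα φ hφ, mul_zero]), sub_zero,
      he α hα, Complex.ofReal_intCast]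
  have hesum : ((∑ α ∈ R χ, e α : ℤ) : ℂ) = (n χ : ℂ) := by
    rw [Int.cast_sum, ← Finset.sum_congr rfl he, ← classInner_sum_right, ← hS.sum_eq χ hχ, hβ,
      hS.isometry.2.2.1 _ hbmem _ (cs_sub_conj_mem hS hχ), classInner_sub_left, classInner_sub_right,
      classInner_sub_right, classInner_smul_left, classInner_smul_left, cs_orth_conj hS hχ,
      ← classInner_conj χ χ₁, (hortho χ₁ hχ₁S).1, ← classInner_conj (Cfsg.conjFun χ) χ₁,
      (hortho χ₁ hχ₁S).2, hn χ hχ, map_zero]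
    ring
  obtain ⟨hs0, hsn⟩ := residual_norm (R χ) (fun α => α) (fun _ => (1 : ℝ)) (fun _ _ => one_ne_zero)
    (fun α hα => by rw [hS.orthonormal χ hχ α hα α hα, if_pos rfl, Complex.ofReal_one])
    (fun α hα β hβ h => by rw [hS.orthonormal χ hχ α hα β hβ, if_neg h]) r (fun α => (e α : ℝ)) he'
  simp only [div_one, Complex.ofReal_intCast] at hsn
  have hpos := classInner_self_re_nonneg (r - ∑ α ∈ R χ, (e α : ℂ) • α)
  have hββ : (classInner β β).re = (n χ : ℝ) + (a : ℝ) ^ 2 * n χ₁ := by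
    rw [hβ, hS.isometry.2.2.1 _ hbmem _ hbmem, classInner_sub_left, classInner_sub_right,
      classInner_sub_right, classInner_smul_left, classInner_smul_left, classInner_smul_right,
      classInner_smul_right, (hortho χ₁ hχ₁S).1, ← classInner_conj χ χ₁, (hortho χ₁ hχ₁S).1,
      hn χ hχ, hn χ₁ h₁, map_natCast, map_zero]
    simp only [mul_zero, sub_zero, zero_sub, Complex.add_re, Complex.natCast_re, Complex.mul_re,
      Complex.natCast_im, Complex.mul_im, Complex.sub_re, Complex.neg_re, zero_mul, add_zero, neg_neg]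
    ring
  have hsumc : ∑ φ ∈ S₁, c φ ^ 2 / (n φ : ℝ) =
      k ^ 2 * (∑ φ ∈ S₁, ((d φ : ℝ) ^ 2 / (n φ : ℝ))) - 2 * k * a * d χ₁ + (a : ℝ) ^ 2 * n χ₁ := by
    have h1 : ∀ φ ∈ S₁, c φ ^ 2 / (n φ : ℝ) = k ^ 2 * ((d φ : ℝ) ^ 2 / (n φ : ℝ)) +
        if φ = χ₁ then -2 * k * a * d χ₁ + (a : ℝ) ^ 2 * n χ₁ else 0 := by
      intro φ hφ
      have := hn0 φ (hmemS φ hφ)
      simp only [c]
      by_cases h : φ = χ₁
      · subst h; rw [if_pos rfl, if_pos rfl]; field_simp; ring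
      · rw [if_neg h, if_neg h]; field_simp; ring
    rw [Finset.sum_congr rfl h1, Finset.sum_add_distrib, ← Finset.mul_sum, Finset.sum_ite_eq',
      if_pos hχ₁S]
    ring
  rw [hrn, hββ, hsumc] at hsn
  have hesum' : ∑ α ∈ R χ, e α = (n χ : ℤ) := by exact_mod_cast hesum
  have hsq : (n χ : ℝ) ≤ ∑ α ∈ R χ, (e α : ℝ) ^ 2 := by
    have : (n χ : ℤ) ≤ ∑ α ∈ R χ, e α ^ 2 :=
      hesum' ▸ Finset.sum_le_sum fun α _ => Int.le_self_sq (e α)
    exact_mod_cast this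
  set Dsum := ∑ φ ∈ S₁, ((d φ : ℝ) ^ 2 / (n φ : ℝ)) with hDsum
  have hineq' : 2 * (a : ℝ) * (d χ₁ : ℝ) ^ 2 < Dsum := by
    rw [ha] at hineq
    push_cast at hineq
    linarith
  have hkle : k ^ 2 * Dsum ≤ 2 * k * a * d χ₁ := by nlinarith
  have ht0 : t = 0 := by
    by_contra hne'
    have hkd : k * d χ₁ = (t : ℝ) := div_mul_cancel₀ _ hd1
    have h1 : (t : ℝ) ^ 2 * Dsum ≤ 2 * (t : ℝ) * a * (d χ₁ : ℝ) ^ 2 := by
      rw [← hkd]; nlinarith [sq_nonneg (d χ₁ : ℝ)]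
    have hDs : 0 ≤ Dsum := Finset.sum_nonneg fun φ _ => div_nonneg (sq_nonneg _) (Nat.cast_nonneg _)
    rcases lt_or_gt_of_ne hne' with htn | htp
    · have htn' : (t : ℝ) ≤ -1 := by exact_mod_cast (show t ≤ -1 by omega)
      have hap : (0 : ℝ) ≤ (a : ℝ) * (d χ₁ : ℝ) ^ 2 := by positivity
      have h2 : (1 : ℝ) ≤ (t : ℝ) ^ 2 := by nlinarith
      nlinarith [mul_le_mul_of_nonneg_right h2 hDs,
        mul_nonpos_of_nonpos_of_nonneg (by linarith : (t : ℝ) ≤ 0) hap]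
    · have htp' : (1 : ℝ) ≤ (t : ℝ) := by exact_mod_cast (show 1 ≤ t by omega)
      have hDsp : (t : ℝ) * Dsum ≤ (t : ℝ) * ((t : ℝ) * Dsum) :=
        le_mul_of_one_le_left (mul_nonneg (by linarith) hDs) htp'
      nlinarith
  have hk0 : k = 0 := by simp [k, ht0]
  rw [hk0] at hsn hkle
  have hY : r = ∑ α ∈ R χ, (e α : ℂ) • α := sub_eq_zero.mp (eq_zero_of_self_re_nonpos (by nlinarith))
  have hesq : ((∑ α ∈ R χ, e α ^ 2 : ℤ) : ℝ) = n χ := by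
    push_cast
    nlinarith
  have he01 := int_zero_or_one_of_sum_le (R χ) e (by
    rw [hesum']
    exact le_of_eq (by exact_mod_cast hesq))
  set T := (R χ).filter (fun α => e α = 1) with hT
  set Y := ∑ α ∈ T, α with hYd
  have hTsub : T ⊆ R χ := Finset.filter_subset _ _
  have hTcard : (T.card : ℂ) = n χ := by
    rw [← hesum, hT, Finset.card_filter, Nat.cast_sum, Int.cast_sum]
    refine Finset.sum_congr rfl fun α hα => ?_
    rcases he01 α hα with h | h <;> simp [h]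
  have hβY : β = Y - (a : ℂ) • τ₁ χ₁ := by
    have h1 : ∑ φ ∈ S₁, ((c φ / (n φ : ℝ) : ℝ) : ℂ) • τ₁ φ = -((a : ℂ) • τ₁ χ₁) := by
      rw [Finset.sum_eq_single χ₁ (fun φ _ h => by simp [c, hk0, h]) (fun h => absurd hχ₁S h)]
      have := hn0 χ₁ h₁
      have hnC : (n χ₁ : ℂ) ≠ 0 := by exact_mod_cast this
      simp only [c, hk0, zero_mul, zero_sub, if_true, neg_div, mul_div_cancel_right₀ _ this]
      simp
    have h2 : r = Y := by
      rw [hY, hYd, hT, Finset.sum_filter]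
      refine Finset.sum_congr rfl fun α hα => ?_
      rcases he01 α hα with h | h <;> simp [h]
    rw [hr, h1] at h2
    rw [← h2]
    abel
  set Rsum := ∑ α ∈ R χ, α with hRs
  have hYY : classInner Y Y = n χ := by
    rw [hYd, cs_inner_subset hS hχ hTsub hTsub, Finset.inter_self, hTcard]
  have hYR : classInner Y Rsum = n χ := by
    rw [hYd, hRs, cs_inner_subset hS hχ hTsub subset_rfl, Finset.inter_eq_left.mpr hTsub, hTcard]
  have hRR : classInner Rsum Rsum = 2 * (n χ : ℂ) := by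
    rw [hRs, cs_inner_subset hS hχ subset_rfl subset_rfl, Finset.inter_self, cs_card_R hS hχ, hn χ hχ]
  have hTz : ∀ U ⊆ R χ, ∀ φ ∈ S₁, classInner (τ₁ φ) (∑ α ∈ U, α) = 0 := fun U hU φ hφ => by
    rw [classInner_sum_right]
    exact Finset.sum_eq_zero fun α hα => hperp α (hU hα) φ hφ
  let S' : Finset (L → ℂ) := insert χ (insert (Cfsg.conjFun χ) S₁)
  have hcc := hS.conj_mem χ hχ
  have hne' := hS.conj_ne χ hχ
  have hχnotin : χ ∉ insert (Cfsg.conjFun χ) S₁ := fun h => by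
    rcases Finset.mem_insert.mp h with h | h
    · exact hne' h.symm
    · exact hχ₁ h
  have hmemS' : ∀ φ ∈ S', φ ∈ S := fun φ hφ => by
    rcases Finset.mem_insert.mp hφ with rfl | hφ
    · exact hχ
    rcases Finset.mem_insert.mp hφ with rfl | hφ
    · exact hcc
    · exact hmemS φ hφ
  let z : (L → ℂ) → (G → ℂ) := fun φ =>
    if φ = χ then Y else if φ = Cfsg.conjFun χ then Y - Rsum else τ₁ φ
  have hz1 : z χ = Y := if_pos rfl
  have hz2 : z (Cfsg.conjFun χ) = Y - Rsum := by simp [z, hne']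
  have hz3 : ∀ φ ∈ S₁, z φ = τ₁ φ := fun φ hφ => by
    simp only [z]
    rw [if_neg (fun e : φ = χ => hχ₁ (e ▸ hφ)), if_neg (fun e : φ = Cfsg.conjFun χ => hχ₂ (e ▸ hφ))]
  rw [show (↑S₁ ∪ {χ, Cfsg.conjFun χ} : Set (L → ℂ)) = ↑S' from Set.ext fun φ => by
    simp only [S', Finset.coe_insert, Set.mem_union, Set.mem_insert_iff, Set.mem_singleton_iff]; tauto]
  refine isCoherent_of_images S' _ τ ?_
    (fun φ hφ ψ hψ => hS.orthogonal φ (hmemS' φ hφ) ψ (hmemS' ψ hψ))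
    (fun φ hφ => cs_self_ne_zero hS (hmemS' φ hφ)) z (fun φ hφ => ?_) (fun φ hφ ψ hψ => ?_) (fun w hw => ?_)
  · exact ⟨χ - Cfsg.conjFun χ, mem_zspanOn_one_iff.mpr
      ⟨zspan_sub (zspan_subset_mem (Finset.mem_coe.mpr (Finset.mem_insert_self _ _)))
        (zspan_subset_mem (Finset.mem_coe.mpr (Finset.mem_insert_of_mem (Finset.mem_insert_self _ _)))),
        by rw [Pi.sub_apply, cs_conj_one hS hχ, sub_self]⟩,
      fun h => hne' (sub_eq_zero.mp h).symm⟩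
  · have hYg : IsGeneralizedCharacter G Y :=
      isGeneralizedCharacter_sum T (fun α => α) fun α hα => hS.virtual χ hχ α (hTsub hα)
    rcases Finset.mem_insert.mp hφ with rfl | hφ
    · rw [hz1]; exact hYg
    rcases Finset.mem_insert.mp hφ with rfl | hφ
    · rw [hz2]
      exact isGeneralizedCharacter_sub hYg
        (isGeneralizedCharacter_sum (R χ) (fun α => α) fun α hα => hS.virtual χ hχ α hα)
    · rw [hz3 φ hφ]; exact hz φ hφ
  · have hx1 : ∀ ψ ∈ S₁, classInner (z χ) (τ₁ ψ) = 0 ∧ classInner (z (Cfsg.conjFun χ)) (τ₁ ψ) = 0 :=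
      fun ψ hψ => by
        have hY0 : classInner Y (τ₁ ψ) = 0 := by
          rw [← classInner_conj, hYd, hTz T hTsub ψ hψ, map_zero]
        refine ⟨by rw [hz1, hY0], ?_⟩
        rw [hz2, classInner_sub_left, hY0, ← classInner_conj (τ₁ ψ) Rsum, hRs,
          hTz (R χ) subset_rfl ψ hψ, map_zero, sub_zero]
    rcases Finset.mem_insert.mp hφ with rfl | hφ <;> rcases Finset.mem_insert.mp hψ with rfl | hψ
    · rw [hz1, hYY, hn ψ hχ]
    · rcases Finset.mem_insert.mp hψ with rfl | hψ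
      · rw [hz1, hz2, classInner_sub_right, hYY, hYR, sub_self, cs_orth_conj hS hχ]
      · rw [hz3 ψ hψ, (hx1 ψ hψ).1, (hortho ψ hψ).1]
    · rcases Finset.mem_insert.mp hφ with rfl | hφ
      · rw [hz1, hz2, classInner_sub_left, hYY, ← classInner_conj Y Rsum, hYR, map_natCast, sub_self,
          cs_orth_conj' hS hχ]
      · rw [hz3 φ hφ, ← classInner_conj, (hx1 φ hφ).1, ← classInner_conj ψ φ, (hortho φ hφ).1]
    · rcases Finset.mem_insert.mp hφ with rfl | hφ <;> rcases Finset.mem_insert.mp hψ with rfl | hψ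
      · rw [hz2, classInner_sub_left, classInner_sub_right, classInner_sub_right, hYY, hYR,
          ← classInner_conj Y Rsum, hYR, map_natCast, hRR, cs_conj_self hS hχ, hn χ hχ]
        ring
      · rw [hz3 ψ hψ, (hx1 ψ hψ).2, (hortho ψ hψ).2]
      · rw [hz3 φ hφ, ← classInner_conj, (hx1 φ hφ).2, ← classInner_conj (Cfsg.conjFun χ) φ,
          (hortho φ hφ).2]
      · rw [hz3 φ hφ, hz3 ψ hψ, hzi φ hφ ψ hψ]
  · -- agreement
    have hexp : ∀ f : (L → ℂ) → (G → ℂ), ∑ φ ∈ S', (w φ : ℂ) • f φ = (w χ : ℂ) • f χ +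
        ((w (Cfsg.conjFun χ) : ℂ) • f (Cfsg.conjFun χ) + ∑ φ ∈ S₁, (w φ : ℂ) • f φ) := fun f => by
      rw [Finset.sum_insert hχnotin, Finset.sum_insert hχ₂]
    set p := w χ
    set q := w (Cfsg.conjFun χ)
    set θ := ∑ φ ∈ S', (w φ : ℂ) • φ with hθ
    have hθexp : θ = (p : ℂ) • χ + ((q : ℂ) • Cfsg.conjFun χ + ∑ φ ∈ S₁, (w φ : ℂ) • φ) := by
      rw [hθ, Finset.sum_insert hχnotin, Finset.sum_insert hχ₂]
    set u := ∑ φ ∈ S₁, (w φ : ℂ) • φ + (((p + q) * a : ℤ) : ℂ) • χ₁ with hu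
    have hB : χ - (a : ℂ) • χ₁ - (χ - Cfsg.conjFun χ) = Cfsg.conjFun χ - (a : ℂ) • χ₁ := by abel
    have hbmem' : Cfsg.conjFun χ - (a : ℂ) • χ₁ ∈ zspanOn S {1}ᶜ :=
      mem_zspanOn_one_iff.mpr ⟨zspan_sub (zspan_subset_mem hcc) (zspan_natSmul a (zspan_subset_mem h₁)), by
        have := (mem_zspanOn_one_iff.mp hbmem).2
        rw [Pi.sub_apply] at this ⊢
        rw [cs_conj_one hS hχ, this]⟩
    have hθu : θ = (p : ℂ) • (χ - (a : ℂ) • χ₁) + (q : ℂ) • (Cfsg.conjFun χ - (a : ℂ) • χ₁) + u := by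
      rw [hθexp, hu]; push_cast; module
    have humem : u ∈ zspanOn (↑S₁ : Set (L → ℂ)) {1}ᶜ := by
      refine mem_zspanOn_one_iff.mpr ⟨zspan_add (zspan_sum S₁ w (fun φ => φ) fun φ hφ =>
        zspan_subset_mem (Finset.mem_coe.mpr hφ))
          (zspan_intSmul _ (zspan_subset_mem (Finset.mem_coe.mpr hχ₁S))), ?_⟩
      have h0 := (mem_zspanOn_one_iff.mp hw).2
      rw [hθu] at h0
      simp only [Pi.add_apply, Pi.smul_apply, (mem_zspanOn_one_iff.mp hbmem).2,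
        (mem_zspanOn_one_iff.mp hbmem').2, smul_zero, zero_add] at h0
      exact h0
    have hτu : τ u = ∑ φ ∈ S₁, (w φ : ℂ) • τ₁ φ + (((p + q) * a : ℤ) : ℂ) • τ₁ χ₁ := by
      rw [← hag u humem, hu, hτ₁.1 _ (zspan_sum S₁ w (fun φ => φ) fun φ hφ =>
          zspan_subset_mem (Finset.mem_coe.mpr hφ)) _
          (zspan_intSmul _ (zspan_subset_mem (Finset.mem_coe.mpr hχ₁S))),
        iso_sum_zspan hτ₁ S₁ w (fun φ => φ) fun φ hφ => zspan_subset_mem (Finset.mem_coe.mpr hφ),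
        iso_intSmul hτ₁ (zspan_subset_mem (Finset.mem_coe.mpr hχ₁S))]
    have hτc : τ (Cfsg.conjFun χ - (a : ℂ) • χ₁) = β - Rsum := by
      rw [← hB, iso_sub_zspanOn hS.isometry hbmem (cs_sub_conj_mem hS hχ), hS.sum_eq χ hχ]
    rw [hθu, hS.isometry.1 _ (zspanOn_add (zspanOn_intSmul p hbmem) (zspanOn_intSmul q hbmem')) _
        (zspanOn_mono hS₁ humem),
      hS.isometry.1 _ (zspanOn_intSmul p hbmem) _ (zspanOn_intSmul q hbmem'),
      iso_intSmul hS.isometry hbmem, iso_intSmul hS.isometry hbmem', hτc, hτu, ← hβ, hexp, hz1, hz2,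
      show ∑ φ ∈ S₁, (w φ : ℂ) • z φ = ∑ φ ∈ S₁, (w φ : ℂ) • τ₁ φ from
        Finset.sum_congr rfl fun φ hφ => by rw [hz3 φ hφ], hβY]
    push_cast
    module

end System

section Irreducible

variable {S : Set (L → ℂ)}

/-- The images of a set of irreducible characters under a degree preserving isometry have one sign. -/
theorem coherent_signs (hirr : ∀ χ ∈ S, IsIrrCharacter L χ) (hne : S.Nonempty)
    {τ₁ : (L → ℂ) → (G → ℂ)} (hτ₁ : IsLinearIsometryOn (zspan S) τ₁)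
    (h0 : ∀ α ∈ zspan S, α 1 = 0 → τ₁ α 1 = 0) :
    ∃ ε : ℂ, (ε = 1 ∨ ε = -1) ∧ (∀ χ ∈ S, IsIrrCharacter G (ε • τ₁ χ)) ∧
      (∀ χ ∈ S, ∀ ψ ∈ S, τ₁ χ = τ₁ ψ → χ = ψ) ∧
      (∀ χ ∈ S, ∀ ψ ∈ S, ψ 1 * τ₁ χ 1 = χ 1 * τ₁ ψ 1) ∧ ∀ χ ∈ S, τ₁ χ 1 ≠ 0 := by
  have hprop : ∀ χ ∈ S, ∀ ψ ∈ S, ψ 1 * τ₁ χ 1 = χ 1 * τ₁ ψ 1 := by
    intro χ hχ ψ hψ
    obtain ⟨a, -, ha⟩ := isIrrCharacter_degree (hirr χ hχ)
    obtain ⟨b, -, hb⟩ := isIrrCharacter_degree (hirr ψ hψ)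
    have hmχ := zspan_natSmul b (zspan_subset_mem hχ)
    have hmψ := zspan_natSmul a (zspan_subset_mem hψ)
    have h := h0 _ (zspan_sub hmχ hmψ) (by
      simp only [Pi.sub_apply, Pi.smul_apply, smul_eq_mul, ha, hb]; ring)
    rw [iso_sub_zspan hτ₁ hmχ hmψ, iso_natSmul hτ₁ (zspan_subset_mem hχ),
      iso_natSmul hτ₁ (zspan_subset_mem hψ)] at h
    simp only [Pi.sub_apply, Pi.smul_apply, smul_eq_mul] at h
    rw [ha, hb]
    linear_combination h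
  have hnorm : ∀ χ ∈ S, IsIrrCharacter G (τ₁ χ) ∨ IsIrrCharacter G (-τ₁ χ) := fun χ hχ =>
    irr_or_neg_of_norm_one (hτ₁.2.2.2 _ (zspan_subset_mem hχ)) (by
      rw [hτ₁.2.2.1 _ (zspan_subset_mem hχ) _ (zspan_subset_mem hχ)]
      exact classInner_irr_self ⟨χ, hirr χ hχ⟩)
  have hne0 : ∀ χ ∈ S, τ₁ χ 1 ≠ 0 := fun χ hχ h => by
    rcases hnorm χ hχ with h' | h'
    · exact irr_one_ne_zero ⟨_, h'⟩ h
    · exact irr_one_ne_zero ⟨_, h'⟩ (by show -(τ₁ χ 1) = 0; rw [h, neg_zero])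
  obtain ⟨χ₀, hχ₀⟩ := hne
  have hinj : ∀ χ ∈ S, ∀ ψ ∈ S, τ₁ χ = τ₁ ψ → χ = ψ := fun χ hχ ψ hψ he => by
    by_contra hcne
    have h1 := hτ₁.2.2.1 _ (zspan_subset_mem hχ) _ (zspan_subset_mem hψ)
    rw [← he, hτ₁.2.2.1 _ (zspan_subset_mem hχ) _ (zspan_subset_mem hχ)] at h1
    rw [show classInner χ χ = 1 from classInner_irr_self ⟨χ, hirr χ hχ⟩,
      show classInner χ ψ = 0 from classInner_irr_ne (χ := ⟨χ, hirr χ hχ⟩) (ψ := ⟨ψ, hirr ψ hψ⟩)
        fun e => hcne (congrArg Subtype.val e)] at h1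
    exact one_ne_zero h1
  have hsame : ∀ χ ∈ S, ∀ ψ ∈ S, IsIrrCharacter G (τ₁ χ) → ¬ IsIrrCharacter G (-τ₁ ψ) := by
    intro χ hχ ψ hψ h1 h2
    obtain ⟨a, ha0, ha⟩ := isIrrCharacter_degree (hirr χ hχ)
    obtain ⟨b, hb0, hb⟩ := isIrrCharacter_degree (hirr ψ hψ)
    obtain ⟨a', ha0', ha'⟩ := isIrrCharacter_degree h1
    obtain ⟨b', hb0', hb'⟩ := isIrrCharacter_degree h2
    have h := hprop χ hχ ψ hψ
    rw [Pi.neg_apply, neg_eq_iff_eq_neg] at hb'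
    rw [hb, ha', ha, hb'] at h
    have h' : ((b * a' + a * b' : ℕ) : ℂ) = 0 := by push_cast; linear_combination h
    rw [Nat.cast_eq_zero] at h'
    have := Nat.mul_pos hb0 ha0'
    omega
  rcases hnorm χ₀ hχ₀ with h | h
  · exact ⟨1, Or.inl rfl, fun χ hχ => by
      rw [one_smul]
      exact (hnorm χ hχ).resolve_right (hsame χ₀ hχ₀ χ hχ h), hinj, hprop, hne0⟩
  · exact ⟨-1, Or.inr rfl, fun χ hχ => by
      rw [neg_one_smul]
      exact (hnorm χ hχ).resolve_left fun h' => hsame χ hχ χ₀ hχ₀ h' h, hinj, hprop, hne0⟩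

/-- Feit's criterion for adjoining one irreducible character. -/
theorem coherent_insert (S₀ : Finset (L → ℂ)) (χ : L → ℂ) (hirr : ∀ ξ ∈ S₀, IsIrrCharacter L ξ)
    (hχ : IsIrrCharacter L χ) (hχS : χ ∉ S₀) (d : (L → ℂ) → ℕ)
    (hd : ∀ ξ ∈ insert χ (S₀ : Set (L → ℂ)), ξ 1 = (d ξ : ℂ)) (τ : (L → ℂ) → (G → ℂ))
    (hτ : IsLinearIsometryOn (zspanOn (insert χ (S₀ : Set (L → ℂ))) {1}ᶜ) τ)
    (hτ1 : ∀ α ∈ zspanOn (insert χ (S₀ : Set (L → ℂ))) {1}ᶜ, τ α 1 = 0)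
    (hcoh : IsCoherent (↑S₀ : Set (L → ℂ)) {1}ᶜ τ) {ψ : L → ℂ} (hψ : ψ ∈ S₀) (hdvd : d ψ ∣ d χ)
    (hlt : 2 * d ψ * d χ < ∑ ξ ∈ S₀, d ξ ^ 2) :
    IsCoherent (insert χ (S₀ : Set (L → ℂ))) {1}ᶜ τ := by
  classical
  obtain ⟨a, ha⟩ := hdvd
  obtain ⟨hne, τ₁, hτ₁, hag⟩ := hcoh
  have hsub : (S₀ : Set (L → ℂ)) ⊆ insert χ (S₀ : Set (L → ℂ)) := Set.subset_insert _ _
  have hdS : ∀ ξ ∈ S₀, ξ 1 = (d ξ : ℂ) := fun ξ hξ => hd ξ (hsub hξ)
  have hdχ : χ 1 = (d χ : ℂ) := hd χ (Set.mem_insert _ _)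
  have horth : ∀ ξ ∈ insert χ S₀, ∀ η ∈ insert χ S₀, classInner ξ η = if ξ = η then 1 else 0 := by
    intro ξ hξ η hη
    have h1 : IsIrrCharacter L ξ := by
      rcases Finset.mem_insert.mp hξ with rfl | h; exacts [hχ, hirr _ h]
    have h2 : IsIrrCharacter L η := by
      rcases Finset.mem_insert.mp hη with rfl | h; exacts [hχ, hirr _ h]
    rw [classInner_irr ⟨ξ, h1⟩ ⟨η, h2⟩]
    simp only [Subtype.mk.injEq]
  have hm : ∀ ξ ∈ S₀, ξ ∈ zspan (S₀ : Set (L → ℂ)) := fun ξ h => zspan_subset_mem (Finset.mem_coe.mpr h)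
  obtain ⟨ε, -, -, -, hprop, hne0⟩ := coherent_signs (fun ξ h => hirr ξ h) ⟨ψ, hψ⟩ hτ₁ fun α hα hα1 => by
    rw [hag α (mem_zspanOn_one_iff.mpr ⟨hα, hα1⟩)]
    exact hτ1 α (zspanOn_mono hsub (mem_zspanOn_one_iff.mpr ⟨hα, hα1⟩))
  have hz : ∀ ξ ∈ S₀, IsGeneralizedCharacter G (τ₁ ξ) := fun ξ hξ => hτ₁.2.2.2 _ (hm ξ hξ)
  have hzi : ∀ ξ ∈ S₀, ∀ η ∈ S₀, classInner (τ₁ ξ) (τ₁ η) = if ξ = η then 1 else 0 := fun ξ hξ η hη => by
    rw [hτ₁.2.2.1 _ (hm ξ hξ) _ (hm η hη),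
      horth ξ (Finset.mem_insert_of_mem hξ) η (Finset.mem_insert_of_mem hη)]
  have hdψ : d ψ ≠ 0 := fun e => irr_one_ne_zero ⟨ψ, hirr ψ hψ⟩ (by
    rw [show ((⟨ψ, hirr ψ hψ⟩ : IrrCharacter L) : L → ℂ) 1 = ψ 1 from rfl, hdS ψ hψ, e, Nat.cast_zero])
  have hbmem : χ - (a : ℂ) • ψ ∈ zspanOn (insert χ (S₀ : Set (L → ℂ))) {1}ᶜ :=
    mem_zspanOn_one_iff.mpr ⟨zspan_sub (zspan_subset_mem (Set.mem_insert _ _))
      (zspan_natSmul a (zspan_mono hsub (hm ψ hψ))), by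
      rw [Pi.sub_apply, Pi.smul_apply, smul_eq_mul, hdχ, hdS ψ hψ, ha]; push_cast; ring⟩
  set β := τ (χ - (a : ℂ) • ψ) with hβ
  have hβg := hτ.2.2.2 _ hbmem
  obtain ⟨c, hc, -, -⟩ : ∃ c : (L → ℂ) → ℤ, (∀ ξ ∈ S₀, classInner β (τ₁ ξ) = c ξ) ∧ True ∧ True := by
    have hex : ∀ ξ, ∃ m : ℤ, ξ ∈ S₀ → classInner β (τ₁ ξ) = m := fun ξ => by
      by_cases h : ξ ∈ S₀
      · obtain ⟨m, hm⟩ := classInner_generalized_int hβg (hz ξ h)
        exact ⟨m, fun _ => hm⟩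
      · exact ⟨0, fun h' => absurd h' h⟩
    choose c hc using hex
    exact ⟨c, hc, trivial, trivial⟩
  have hrel : ∀ ξ ∈ S₀, (d ψ : ℤ) * c ξ = (d ξ : ℤ) * (c ψ + a) - if ξ = ψ then (a : ℤ) * d ψ else 0 := by
    intro ξ hξ
    set γ := (d ψ : ℂ) • ξ - (d ξ : ℂ) • ψ with hγ
    have hγ1 : γ ∈ zspanOn (↑S₀ : Set (L → ℂ)) {1}ᶜ :=
      mem_zspanOn_one_iff.mpr ⟨zspan_sub (zspan_natSmul _ (hm ξ hξ)) (zspan_natSmul _ (hm ψ hψ)), by
        rw [hγ, Pi.sub_apply, Pi.smul_apply, Pi.smul_apply, smul_eq_mul, smul_eq_mul, hdS ξ hξ,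
          hdS ψ hψ]
        ring⟩
    have h1 := hτ.2.2.1 _ hbmem _ (zspanOn_mono hsub hγ1)
    rw [← hag γ hγ1, hγ, iso_sub_zspan hτ₁ (zspan_natSmul _ (hm ξ hξ)) (zspan_natSmul _ (hm ψ hψ)),
      iso_natSmul hτ₁ (hm ξ hξ), iso_natSmul hτ₁ (hm ψ hψ), ← hβ, classInner_sub_right β,
      classInner_smul_right, classInner_smul_right, hc ξ hξ, hc ψ hψ, classInner_sub_left χ,
      classInner_sub_right χ, classInner_sub_right ((a : ℂ) • ψ), classInner_smul_left,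
      classInner_smul_left, classInner_smul_right, classInner_smul_right, classInner_smul_right,
      classInner_smul_right, map_natCast, map_natCast,
      horth χ (Finset.mem_insert_self _ _) ξ (Finset.mem_insert_of_mem hξ),
      horth χ (Finset.mem_insert_self _ _) ψ (Finset.mem_insert_of_mem hψ),
      horth ψ (Finset.mem_insert_of_mem hψ) ξ (Finset.mem_insert_of_mem hξ),
      horth ψ (Finset.mem_insert_of_mem hψ) ψ (Finset.mem_insert_of_mem hψ),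
      if_neg (fun e : χ = ξ => hχS (e ▸ hξ)), if_neg (fun e : χ = ψ => hχS (e ▸ hψ)), if_pos rfl] at h1
    have key : ((d ψ : ℤ) : ℂ) * (c ξ : ℂ) =
        (((d ξ : ℤ) * (c ψ + a) - if ξ = ψ then (a : ℤ) * d ψ else 0 : ℤ) : ℂ) := by
      by_cases h : ξ = ψ
      · subst h
        rw [if_pos rfl]; push_cast; ring
      · rw [if_neg (Ne.symm h)] at h1
        rw [if_neg h]; push_cast; linear_combination h1
    exact_mod_cast key
  set t : ℤ := c ψ + a with ht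
  obtain ⟨hr0, hrn⟩ := residual_norm S₀ τ₁ (fun _ => (1 : ℝ)) (fun _ _ => one_ne_zero)
    (fun ξ hξ => by rw [hzi ξ hξ ξ hξ, if_pos rfl, Complex.ofReal_one])
    (fun ξ hξ η hη h => by rw [hzi ξ hξ η hη, if_neg h]) β (fun ξ => (c ξ : ℝ))
    (fun ξ hξ => by rw [hc ξ hξ, Complex.ofReal_intCast])
  simp only [div_one, Complex.ofReal_intCast] at hrn
  set r := β - ∑ ξ ∈ S₀, (c ξ : ℂ) • τ₁ ξ with hr
  have hrg : IsGeneralizedCharacter G r := isGeneralizedCharacter_sub hβg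
    (isGeneralizedCharacter_sum _ _ fun ξ hξ => isGeneralizedCharacter_zsmul (hz ξ hξ) _)
  obtain ⟨rn, hrn'⟩ := classInner_generalized_int hrg hrg
  have hββ : classInner β β = ((1 + (a : ℤ) ^ 2 : ℤ) : ℂ) := by
    rw [hβ, hτ.2.2.1 _ hbmem _ hbmem, classInner_sub_left, classInner_sub_right, classInner_sub_right,
      classInner_smul_left, classInner_smul_left, classInner_smul_right, classInner_smul_right,
      horth χ (Finset.mem_insert_self _ _) χ (Finset.mem_insert_self _ _),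
      horth χ (Finset.mem_insert_self _ _) ψ (Finset.mem_insert_of_mem hψ),
      horth ψ (Finset.mem_insert_of_mem hψ) χ (Finset.mem_insert_self _ _),
      horth ψ (Finset.mem_insert_of_mem hψ) ψ (Finset.mem_insert_of_mem hψ), if_pos rfl, if_pos rfl,
      if_neg (fun e : χ = ψ => hχS (e ▸ hψ)), if_neg (fun e : ψ = χ => hχS (e ▸ hψ)), map_natCast]
    push_cast
    ring
  have hrz : rn = 1 + (a : ℤ) ^ 2 - ∑ ξ ∈ S₀, c ξ ^ 2 := by
    have h : (rn : ℝ) = (classInner r r).re := by rw [hrn', Complex.intCast_re]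
    rw [hrn, hββ, Complex.intCast_re] at h
    exact_mod_cast h
  have hrpos : 0 ≤ rn := by
    have h := classInner_self_re_nonneg r
    rw [hrn', Complex.intCast_re] at h
    exact_mod_cast h
  have hsq : (d ψ : ℤ) ^ 2 * ∑ ξ ∈ S₀, c ξ ^ 2 =
      t ^ 2 * ∑ ξ ∈ S₀, (d ξ : ℤ) ^ 2 - 2 * a * t * (d ψ : ℤ) ^ 2 + (a : ℤ) ^ 2 * (d ψ : ℤ) ^ 2 := by
    rw [Finset.mul_sum, Finset.sum_congr rfl (g := fun ξ => t ^ 2 * (d ξ : ℤ) ^ 2 +
      if ξ = ψ then -2 * a * t * (d ψ : ℤ) ^ 2 + (a : ℤ) ^ 2 * (d ψ : ℤ) ^ 2 else 0) fun ξ hξ => ?_,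
      Finset.sum_add_distrib, ← Finset.mul_sum, Finset.sum_ite_eq', if_pos hψ]
    · ring
    · rw [← mul_pow, hrel ξ hξ]
      by_cases h : ξ = ψ
      · subst h; rw [if_pos rfl, if_pos rfl]; ring
      · rw [if_neg h, if_neg h]; ring
  have hlt' : 2 * (a : ℤ) * (d ψ : ℤ) ^ 2 < ∑ ξ ∈ S₀, (d ξ : ℤ) ^ 2 := by
    rw [ha] at hlt
    have h : ((2 * d ψ * (d ψ * a) : ℕ) : ℤ) < ((∑ ξ ∈ S₀, d ξ ^ 2 : ℕ) : ℤ) := by exact_mod_cast hlt
    push_cast at h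
    linarith
  set Dsum := ∑ ξ ∈ S₀, (d ξ : ℤ) ^ 2 with hDsum
  have ht0 : t = 0 := by
    by_contra hne'
    have hmain : rn * (d ψ : ℤ) ^ 2 = (d ψ : ℤ) ^ 2 - t ^ 2 * Dsum + 2 * a * t * (d ψ : ℤ) ^ 2 := by
      rw [hrz]; linear_combination -hsq
    have ht2 : t ≤ t ^ 2 := Int.le_self_sq t
    have ht1 : 1 ≤ t ^ 2 := by
      have : 0 < t ^ 2 := by positivity
      omega
    have had : 0 ≤ (a : ℤ) * (d ψ : ℤ) ^ 2 := by positivity
    have hd2 : 0 < (d ψ : ℤ) ^ 2 := by positivity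
    have hrlt : rn * (d ψ : ℤ) ^ 2 < 1 * (d ψ : ℤ) ^ 2 := by nlinarith
    have hrn0 : rn = 0 := by
      have := lt_of_mul_lt_mul_right hrlt hd2.le
      omega
    rw [hrn0, Int.cast_zero] at hrn'
    have hr0' := classInner_self_eq_zero hrn'
    have hval : β 1 = 0 := hτ1 _ hbmem
    rw [show β = ∑ ξ ∈ S₀, (c ξ : ℂ) • τ₁ ξ from sub_eq_zero.mp hr0', Finset.sum_apply] at hval
    have hmul := congrArg (fun z => (d ψ : ℂ) ^ 2 * z) hval
    simp only [mul_zero, Finset.mul_sum, Pi.smul_apply, smul_eq_mul] at hmul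
    have hterm : ∀ ξ ∈ S₀, (d ψ : ℂ) ^ 2 * ((c ξ : ℂ) * τ₁ ξ 1) =
        (((d ψ : ℤ) * c ξ * (d ξ : ℤ) : ℤ) : ℂ) * τ₁ ψ 1 := fun ξ hξ => by
      have h := hprop ξ hξ ψ hψ
      rw [hdS ξ hξ, hdS ψ hψ] at h
      push_cast
      linear_combination (d ψ : ℂ) * (c ξ : ℂ) * h
    rw [Finset.sum_congr rfl hterm, ← Finset.sum_mul, mul_eq_zero, or_iff_left (hne0 ψ hψ),
      ← Int.cast_sum, Int.cast_eq_zero] at hmul
    have hval' : t * Dsum = (a : ℤ) * (d ψ : ℤ) ^ 2 := by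
      rw [Finset.sum_congr rfl (g := fun ξ => t * (d ξ : ℤ) ^ 2 +
        if ξ = ψ then -((a : ℤ) * (d ψ : ℤ) ^ 2) else 0) fun ξ hξ => by
          rw [hrel ξ hξ]
          by_cases h : ξ = ψ
          · subst h; rw [if_pos rfl, if_pos rfl]; ring
          · rw [if_neg h, if_neg h]; ring,
        Finset.sum_add_distrib, ← Finset.mul_sum, Finset.sum_ite_eq', if_pos hψ] at hmul
      linarith
    rcases lt_or_gt_of_ne hne' with h | h <;> nlinarith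
  have hsum : ∑ ξ ∈ S₀, c ξ ^ 2 = (a : ℤ) ^ 2 := by
    rw [ht0] at hsq
    refine mul_left_cancel₀ (pow_ne_zero 2 (Nat.cast_ne_zero.mpr hdψ)) (hsq.trans ?_)
    ring
  have hcψ : ∀ ξ ∈ S₀, c ξ = if ξ = ψ then -(a : ℤ) else 0 := fun ξ hξ => by
    have h := hrel ξ hξ
    rw [ht0, mul_zero, zero_sub] at h
    refine mul_left_cancel₀ (Nat.cast_ne_zero.mpr hdψ) (h.trans ?_)
    split_ifs <;> ring
  have hrn1 : classInner r r = 1 := by rw [hrn', hrz, hsum, add_sub_cancel_right, Int.cast_one]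
  have hβr : β = r - (a : ℂ) • τ₁ ψ := by
    rw [hr, Finset.sum_eq_single ψ (fun ξ hξ h => by rw [hcψ ξ hξ, if_neg h, Int.cast_zero, zero_smul])
      (fun h => absurd hψ h), hcψ ψ hψ, if_pos rfl]
    push_cast
    module
  have horz : ∀ ξ ∈ S₀, classInner r (τ₁ ξ) = 0 := by
    intro ξ hξ
    have h := hr0 ξ hξ
    simp only [div_one, Complex.ofReal_intCast] at h
    exact h
  let z : (L → ℂ) → (G → ℂ) := fun ξ => if ξ = χ then r else τ₁ ξ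
  have hz1 : z χ = r := if_pos rfl
  have hz2 : ∀ ξ ∈ S₀, z ξ = τ₁ ξ := fun ξ hξ => if_neg fun e : ξ = χ => hχS (e ▸ hξ)
  rw [← Finset.coe_insert]
  refine isCoherent_of_images (insert χ S₀) _ τ ?_ (fun ξ hξ η hη h => by rw [horth ξ hξ η hη, if_neg h])
    (fun ξ hξ => by rw [horth ξ hξ ξ hξ, if_pos rfl]; exact one_ne_zero) z (fun ξ hξ => ?_)
    (fun ξ hξ η hη => ?_) (fun w hw => ?_)
  · obtain ⟨α, hα, hα0⟩ := hne
    exact ⟨α, zspanOn_mono (by rw [Finset.coe_insert]; exact hsub) hα, hα0⟩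
  · rcases Finset.mem_insert.mp hξ with rfl | hξ
    · rw [hz1]; exact hrg
    · rw [hz2 ξ hξ]; exact hz ξ hξ
  · rw [horth ξ hξ η hη]
    rcases Finset.mem_insert.mp hξ with rfl | hξ' <;> rcases Finset.mem_insert.mp hη with rfl | hη'
    · rw [hz1, hrn1, if_pos rfl]
    · rw [hz1, hz2 η hη', horz η hη', if_neg fun e : ξ = η => hχS (e ▸ hη')]
    · rw [hz1, hz2 ξ hξ', ← classInner_conj, horz ξ hξ', map_zero, if_neg fun e : ξ = η => hχS (e ▸ hξ')]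
    · rw [hz2 ξ hξ', hz2 η hη', hzi ξ hξ' η hη']
  · rw [Finset.coe_insert] at hw
    rw [Finset.sum_insert hχS] at hw ⊢
    rw [Finset.sum_insert hχS, hz1, show ∑ ξ ∈ S₀, (w ξ : ℂ) • z ξ = ∑ ξ ∈ S₀, (w ξ : ℂ) • τ₁ ξ from
      Finset.sum_congr rfl fun ξ hξ => by rw [hz2 ξ hξ]]
    set u := ∑ ξ ∈ S₀, (w ξ : ℂ) • ξ + ((w χ * a : ℤ) : ℂ) • ψ with hu
    have hθu : (w χ : ℂ) • χ + ∑ ξ ∈ S₀, (w ξ : ℂ) • ξ = (w χ : ℂ) • (χ - (a : ℂ) • ψ) + u := by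
      rw [hu]; push_cast; module
    have humem : u ∈ zspanOn (↑S₀ : Set (L → ℂ)) {1}ᶜ := by
      refine mem_zspanOn_one_iff.mpr
        ⟨zspan_add (zspan_sum S₀ w (fun ξ => ξ) hm) (zspan_intSmul _ (hm ψ hψ)), ?_⟩
      have h0 := (mem_zspanOn_one_iff.mp hw).2
      rw [hθu] at h0
      simp only [Pi.add_apply, Pi.smul_apply, (mem_zspanOn_one_iff.mp hbmem).2, smul_zero,
        zero_add] at h0
      exact h0
    rw [hθu, hτ.1 _ (zspanOn_intSmul _ hbmem) _ (zspanOn_mono hsub humem), iso_intSmul hτ hbmem,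
      ← hag u humem, hu, hτ₁.1 _ (zspan_sum S₀ w (fun ξ => ξ) hm) _ (zspan_intSmul _ (hm ψ hψ)),
      iso_sum_zspan hτ₁ S₀ w (fun ξ => ξ) hm, iso_intSmul hτ₁ (hm ψ hψ), ← hβ, hβr]
    push_cast
    module

/-- Two disjoint coherent sets of irreducible characters. -/
theorem coherent_union (X Y : Set (L → ℂ)) (hirr : ∀ ξ ∈ S, IsIrrCharacter L ξ) (hXS : X ⊆ S)
    (hYS : Y ⊆ S) (hXY : Disjoint X Y) (hX2 : ∃ a ∈ X, ∃ b ∈ X, a ≠ b)
    (hY2 : ∃ a ∈ Y, ∃ b ∈ Y, a ≠ b) (α : (L → ℂ) → (G → ℂ))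
    (hα : IsLinearIsometryOn (zspanOn S {1}ᶜ) α) (hα1 : ∀ θ ∈ zspanOn S {1}ᶜ, α θ 1 = 0)
    (σ τ : (L → ℂ) → (G → ℂ)) (hσ : IsLinearIsometryOn (zspan X) σ)
    (hσα : ∀ θ ∈ zspanOn X {1}ᶜ, σ θ = α θ) (hτ : IsLinearIsometryOn (zspan Y) τ)
    (hτα : ∀ θ ∈ zspanOn Y {1}ᶜ, τ θ = α θ) :
    (∀ χ ∈ X, ∀ η ∈ Y, classInner (σ χ) (τ η) = 0) ∧
      ((∃ χ₀ ∈ X, ∃ η₀ ∈ Y, α (χ₀ 1 • η₀ - η₀ 1 • χ₀) = χ₀ 1 • τ η₀ - η₀ 1 • σ χ₀) →
        IsCoherent (X ∪ Y) {1}ᶜ α) := by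
  classical
  have horth : ∀ ξ ∈ S, ∀ η ∈ S, ξ ≠ η → classInner ξ η = 0 := fun ξ hξ η hη h =>
    classInner_irr_ne (χ := ⟨ξ, hirr ξ hξ⟩) (ψ := ⟨η, hirr η hη⟩) fun e => h (congrArg Subtype.val e)
  have hX2' := hX2
  have hY2' := hY2
  obtain ⟨-, -, -, -, hpX, hnX⟩ := coherent_signs (fun ξ h => hirr ξ (hXS h)) (Exists.imp (fun _ h => h.1) hX2)
    hσ fun θ hθ h1 => by
      rw [hσα θ (mem_zspanOn_one_iff.mpr ⟨hθ, h1⟩)]
      exact hα1 θ (zspanOn_mono hXS (mem_zspanOn_one_iff.mpr ⟨hθ, h1⟩))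
  obtain ⟨-, -, -, -, hpY, hnY⟩ := coherent_signs (fun ξ h => hirr ξ (hYS h)) (Exists.imp (fun _ h => h.1) hY2)
    hτ fun θ hθ h1 => by
      rw [hτα θ (mem_zspanOn_one_iff.mpr ⟨hθ, h1⟩)]
      exact hα1 θ (zspanOn_mono hYS (mem_zspanOn_one_iff.mpr ⟨hθ, h1⟩))
  have hX1 : ∀ ξ ∈ X, classInner (σ ξ) (σ ξ) = 1 := fun ξ h => by
    rw [hσ.2.2.1 _ (zspan_subset_mem h) _ (zspan_subset_mem h)]
    exact classInner_irr_self ⟨ξ, hirr ξ (hXS h)⟩
  have hY1 : ∀ ξ ∈ Y, classInner (τ ξ) (τ ξ) = 1 := fun ξ h => by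
    rw [hτ.2.2.1 _ (zspan_subset_mem h) _ (zspan_subset_mem h)]
    exact classInner_irr_self ⟨ξ, hirr ξ (hYS h)⟩
  -- a nonzero inner product between images of norm one forces equality up to sign
  have hsign : ∀ f g : G → ℂ, IsGeneralizedCharacter G f → IsGeneralizedCharacter G g →
      classInner f f = 1 → classInner g g = 1 → classInner f g ≠ 0 →
      ∃ ε : ℤ, (ε = 1 ∨ ε = -1) ∧ g = (ε : ℂ) • f ∧ classInner f g = ε := by
    intro f g hf hg hff hgg hfg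
    obtain ⟨m, hm⟩ := classInner_generalized_int hf hg
    obtain ⟨-, hn⟩ := residual_norm {()} (fun _ => f) (fun _ => (1 : ℝ)) (fun _ _ => one_ne_zero)
      (fun _ _ => by rw [hff, Complex.ofReal_one]) (fun a _ b _ h => absurd (Subsingleton.elim a b) h)
      g (fun _ => (m : ℝ)) (fun _ _ => by rw [← classInner_conj, hm, map_intCast, Complex.ofReal_intCast])
    simp only [Finset.sum_singleton, div_one, Complex.ofReal_intCast, hgg, Complex.one_re] at hn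
    have h0 := classInner_self_re_nonneg (g - (m : ℂ) • f)
    have hm1 : m ^ 2 = 1 := by
      have hle : (m : ℝ) ^ 2 ≤ 1 := by linarith
      have hle' : m ^ 2 ≤ 1 := by exact_mod_cast hle
      have hpos : 0 < m ^ 2 := by
        have : m ≠ 0 := fun e => hfg (by rw [hm, e, Int.cast_zero])
        positivity
      omega
    have hm1' : (m : ℝ) ^ 2 = 1 := by exact_mod_cast hm1
    exact ⟨m, sq_eq_one_iff.mp hm1,
      sub_eq_zero.mp (eq_zero_of_self_re_nonpos (by linarith)), hm⟩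
  have horth' : ∀ χ ∈ X, ∀ η ∈ Y, classInner (σ χ) (τ η) = 0 := by
    intro χ hχ η hη
    by_contra hne
    obtain ⟨χ', hχ', hne'⟩ : ∃ χ' ∈ X, χ' ≠ χ := by
      obtain ⟨a, ha, b, hb, hab⟩ := hX2'
      by_cases h : a = χ
      · exact ⟨b, hb, fun e => hab (h.trans e.symm)⟩
      · exact ⟨a, ha, h⟩
    obtain ⟨η', hη', hneη⟩ : ∃ η' ∈ Y, η' ≠ η := by
      obtain ⟨a, ha, b, hb, hab⟩ := hY2'
      by_cases h : a = η
      · exact ⟨b, hb, fun e => hab (h.trans e.symm)⟩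
      · exact ⟨a, ha, h⟩
    have hgX := fun ξ (h : ξ ∈ X) => hσ.2.2.2 _ (zspan_subset_mem (S := X) h)
    have hgY := fun ξ (h : ξ ∈ Y) => hτ.2.2.2 _ (zspan_subset_mem (S := Y) h)
    obtain ⟨ε, hε, heq, hεi⟩ := hsign _ _ (hgX χ hχ) (hgY η hη) (hX1 χ hχ) (hY1 η hη) hne
    have hεC : (ε : ℂ) * (ε : ℂ) = 1 := by rcases hε with rfl | rfl <;> norm_num
    have hzero1 : classInner (σ χ) (τ η') = 0 := by
      have h : σ χ = (ε : ℂ) • τ η := by rw [heq, smul_smul, hεC, one_smul]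
      rw [h, classInner_smul_left, hτ.2.2.1 _ (zspan_subset_mem hη) _ (zspan_subset_mem hη'),
        horth η (hYS hη) η' (hYS hη') hneη.symm, mul_zero]
    have hzero2 : classInner (σ χ') (τ η) = 0 := by
      rw [heq, classInner_smul_right, hσ.2.2.1 _ (zspan_subset_mem hχ') _ (zspan_subset_mem hχ),
        horth χ' (hXS hχ') χ (hXS hχ) hne', mul_zero]
    obtain ⟨a, ha0, ha⟩ := isIrrCharacter_degree (hirr χ (hXS hχ))
    obtain ⟨b, hb0, hb⟩ := isIrrCharacter_degree (hirr χ' (hXS hχ'))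
    obtain ⟨a', ha0', ha'⟩ := isIrrCharacter_degree (hirr η (hYS hη))
    obtain ⟨b', hb0', hb'⟩ := isIrrCharacter_degree (hirr η' (hYS hη'))
    have hp : (b : ℂ) • χ - (a : ℂ) • χ' ∈ zspanOn X {1}ᶜ :=
      mem_zspanOn_one_iff.mpr ⟨zspan_sub (zspan_natSmul b (zspan_subset_mem hχ))
        (zspan_natSmul a (zspan_subset_mem hχ')), by
        simp only [Pi.sub_apply, Pi.smul_apply, smul_eq_mul, ha, hb]; ring⟩
    have hq : (b' : ℂ) • η - (a' : ℂ) • η' ∈ zspanOn Y {1}ᶜ :=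
      mem_zspanOn_one_iff.mpr ⟨zspan_sub (zspan_natSmul b' (zspan_subset_mem hη))
        (zspan_natSmul a' (zspan_subset_mem hη')), by
        simp only [Pi.sub_apply, Pi.smul_apply, smul_eq_mul, ha', hb']; ring⟩
    have hnn : ∀ x ∈ X, ∀ y ∈ Y, x ≠ y := fun x hx y hy e => Set.disjoint_left.mp hXY hx (e ▸ hy)
    have h0 := hα.2.2.1 _ (zspanOn_mono hXS hp) _ (zspanOn_mono hYS hq)
    rw [← hσα _ hp, ← hτα _ hq, iso_sub_zspan hσ (zspan_natSmul b (zspan_subset_mem hχ))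
        (zspan_natSmul a (zspan_subset_mem hχ')),
      iso_natSmul hσ (zspan_subset_mem hχ), iso_natSmul hσ (zspan_subset_mem hχ'),
      iso_sub_zspan hτ (zspan_natSmul b' (zspan_subset_mem hη)) (zspan_natSmul a' (zspan_subset_mem hη')),
      iso_natSmul hτ (zspan_subset_mem hη), iso_natSmul hτ (zspan_subset_mem hη')] at h0
    simp only [classInner_sub_left, classInner_sub_right, classInner_smul_left, classInner_smul_right,
      map_natCast, hεi, hzero1, hzero2, horth χ (hXS hχ) η (hYS hη) (hnn χ hχ η hη),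
      horth χ (hXS hχ) η' (hYS hη') (hnn χ hχ η' hη'),
      horth χ' (hXS hχ') η (hYS hη) (hnn χ' hχ' η hη),
      horth χ' (hXS hχ') η' (hYS hη') (hnn χ' hχ' η' hη')] at h0
    have hδ0 : classInner (σ χ') (τ η') ≠ 0 := by
      intro h
      rw [h] at h0
      simp only [mul_zero, sub_zero, sub_self] at h0
      have hp' : ((b : ℂ) * ((b' : ℂ) * (ε : ℂ))) ≠ 0 :=
        mul_ne_zero (by exact_mod_cast hb0.ne') (mul_ne_zero (by exact_mod_cast hb0'.ne')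
          (fun e => by rw [e, zero_mul] at hεC; exact zero_ne_one hεC))
      exact hp' (by linear_combination h0)
    obtain ⟨δ, hδ, heq', hδi⟩ := hsign _ _ (hgX χ' hχ') (hgY η' hη') (hX1 χ' hχ') (hY1 η' hη') hδ0
    rw [hδi] at h0
    have hsum : (b * b' : ℤ) * ε + (a * a' : ℤ) * δ = 0 := by
      have : (((b * b' : ℤ) * ε + (a * a' : ℤ) * δ : ℤ) : ℂ) = 0 := by
        push_cast; linear_combination h0
      exact_mod_cast this
    have hδε : δ = -ε := by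
      have h1 : (0 : ℤ) < b * b' := by positivity
      have h2 : (0 : ℤ) < a * a' := by positivity
      rcases hε with rfl | rfl <;> rcases hδ with rfl | rfl <;> first | rfl | (exfalso; linarith)
    have hab : (a : ℂ) * b' + b * a' = 0 := by
      have e1 := hpX χ hχ χ' hχ'
      have e2 := hpY η hη η' hη'
      rw [ha, hb] at e1
      rw [ha', hb', congrFun heq 1, congrFun heq' 1, hδε] at e2
      simp only [Pi.smul_apply, smul_eq_mul, Int.cast_neg] at e2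
      have hε0 : (ε : ℂ) ≠ 0 := fun e => by rw [e, zero_mul] at hεC; exact zero_ne_one hεC
      refine mul_right_cancel₀ (mul_ne_zero hε0 (hnX χ' hχ')) ?_
      rw [zero_mul]
      linear_combination (b : ℂ) * e2 - (b' : ℂ) * (ε : ℂ) * e1
    have : ((a * b' + b * a' : ℕ) : ℂ) = 0 := by push_cast; exact hab
    rw [Nat.cast_eq_zero] at this
    have := Nat.mul_pos ha0 hb0'
    omega
  refine ⟨horth', ?_⟩
  rintro ⟨χ₀, hχ₀, η₀, hη₀, heq⟩
  have hfin : (X ∪ Y).Finite := finite_of_orthogonal _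
    (fun ξ hξ η hη h => horth ξ (Set.union_subset hXS hYS hξ) η (Set.union_subset hXS hYS hη) h)
    fun ξ hξ => by
      rw [show classInner ξ ξ = 1 from classInner_irr_self ⟨ξ, hirr ξ (Set.union_subset hXS hYS hξ)⟩]
      exact one_ne_zero
  set S' := hfin.toFinset with hS'
  have hcoe : (S' : Set (L → ℂ)) = X ∪ Y := hfin.coe_toFinset
  have hmem : ∀ ξ ∈ S', ξ ∈ S := fun ξ hξ => Set.union_subset hXS hYS (hfin.mem_toFinset.mp hξ)
  let z : (L → ℂ) → (G → ℂ) := fun ξ => if ξ ∈ X then σ ξ else τ ξ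
  have hzX : ∀ ξ ∈ X, z ξ = σ ξ := fun ξ h => if_pos h
  have hzY : ∀ ξ ∈ Y, z ξ = τ ξ := fun ξ h => if_neg (Set.disjoint_right.mp hXY h)
  obtain ⟨a, ha0, ha⟩ := isIrrCharacter_degree (hirr χ₀ (hXS hχ₀))
  obtain ⟨b, hb0, hb⟩ := isIrrCharacter_degree (hirr η₀ (hYS hη₀))
  rw [← hcoe]
  refine isCoherent_of_images S' _ α ?_ (fun ξ hξ η hη h => horth ξ (hmem ξ hξ) η (hmem η hη) h)
    (fun ξ hξ => by
      rw [show classInner ξ ξ = 1 from classInner_irr_self ⟨ξ, hirr ξ (hmem ξ hξ)⟩]; exact one_ne_zero)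
    z (fun ξ hξ => ?_) (fun ξ hξ η hη => ?_) (fun w hw => ?_)
  · obtain ⟨p, hp, q, hq, hpq⟩ := hX2'
    obtain ⟨dp, -, hdp⟩ := isIrrCharacter_degree (hirr p (hXS hp))
    obtain ⟨dq, hdq0, hdq⟩ := isIrrCharacter_degree (hirr q (hXS hq))
    refine ⟨(dq : ℂ) • p - (dp : ℂ) • q, mem_zspanOn_one_iff.mpr
      ⟨zspan_sub (zspan_natSmul dq (zspan_subset_mem (by rw [hcoe]; exact Or.inl hp)))
        (zspan_natSmul dp (zspan_subset_mem (by rw [hcoe]; exact Or.inl hq))), by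
        simp only [Pi.sub_apply, Pi.smul_apply, smul_eq_mul, hdp, hdq]; ring⟩, fun h => ?_⟩
    have h1 := congrArg (fun f => classInner f p) h
    simp only [classInner_zero_left, classInner_sub_left, classInner_smul_left,
      show classInner p p = 1 from classInner_irr_self ⟨p, hirr p (hXS hp)⟩,
      horth q (hXS hq) p (hXS hp) hpq.symm, mul_one, mul_zero, sub_zero] at h1
    exact hdq0.ne' (by exact_mod_cast h1)
  · rcases hfin.mem_toFinset.mp hξ with h | h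
    · rw [hzX ξ h]; exact hσ.2.2.2 _ (zspan_subset_mem h)
    · rw [hzY ξ h]; exact hτ.2.2.2 _ (zspan_subset_mem h)
  · rcases hfin.mem_toFinset.mp hξ with h | h <;> rcases hfin.mem_toFinset.mp hη with h' | h'
    · rw [hzX ξ h, hzX η h', hσ.2.2.1 _ (zspan_subset_mem h) _ (zspan_subset_mem h')]
    · rw [hzX ξ h, hzY η h', horth' ξ h η h',
        horth ξ (hXS h) η (hYS h') (fun e => Set.disjoint_left.mp hXY h (e ▸ h'))]
    · rw [hzY ξ h, hzX η h', ← classInner_conj, horth' η h' ξ h, map_zero,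
        horth ξ (hYS h) η (hXS h') (fun e => Set.disjoint_left.mp hXY h' (e.symm ▸ h))]
    · rw [hzY ξ h, hzY η h', hτ.2.2.1 _ (zspan_subset_mem h) _ (zspan_subset_mem h')]
  · rw [hcoe] at hw
    set PX := S'.filter (· ∈ X) with hPX
    set PY := S'.filter (· ∉ X) with hPY
    have hPXm : ∀ ξ ∈ PX, ξ ∈ X := fun ξ h => (Finset.mem_filter.mp h).2
    have hPYm : ∀ ξ ∈ PY, ξ ∈ Y := fun ξ h =>
      (hfin.mem_toFinset.mp (Finset.mem_filter.mp h).1).resolve_left (Finset.mem_filter.mp h).2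
    set x := ∑ ξ ∈ PX, (w ξ : ℂ) • ξ with hx
    set y := ∑ ξ ∈ PY, (w ξ : ℂ) • ξ with hy
    have hxm : x ∈ zspan X := zspan_sum PX w (fun ξ => ξ) fun ξ h => zspan_subset_mem (hPXm ξ h)
    have hym : y ∈ zspan Y := zspan_sum PY w (fun ξ => ξ) fun ξ h => zspan_subset_mem (hPYm ξ h)
    rw [← Finset.sum_filter_add_sum_filter_not S' (· ∈ X),
      ← Finset.sum_filter_add_sum_filter_not S' (· ∈ X) (fun ξ => (w ξ : ℂ) • z ξ)] at *
    rw [← hPX, ← hPY, ← hx, ← hy] at hw ⊢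
    obtain ⟨m, hm⟩ : ∃ m : ℤ, y 1 = m := by
      have hd : ∀ ξ : L → ℂ, ∃ k : ℕ, ξ ∈ S → ξ 1 = k := fun ξ => by
        by_cases h : ξ ∈ S
        · obtain ⟨k, -, hk⟩ := isIrrCharacter_degree (hirr ξ h)
          exact ⟨k, fun _ => hk⟩
        · exact ⟨0, fun h' => absurd h' h⟩
      choose k hk using hd
      refine ⟨∑ ξ ∈ PY, w ξ * (k ξ : ℤ), ?_⟩
      rw [hy, Finset.sum_apply, Int.cast_sum]
      refine Finset.sum_congr rfl fun ξ hξ => ?_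
      rw [Pi.smul_apply, smul_eq_mul, hk ξ (hYS (hPYm ξ hξ))]
      push_cast; ring
    have hxy : x 1 + y 1 = 0 := (mem_zspanOn_one_iff.mp hw).2
    have hU : (a : ℂ) • x + (m : ℂ) • χ₀ ∈ zspanOn X {1}ᶜ :=
      mem_zspanOn_one_iff.mpr ⟨zspan_add (zspan_natSmul a hxm) (zspan_intSmul m (zspan_subset_mem hχ₀)), by
        simp only [Pi.add_apply, Pi.smul_apply, smul_eq_mul, ha, ← hm]
        linear_combination (a : ℂ) * hxy⟩
    have hV : (b : ℂ) • y - (m : ℂ) • η₀ ∈ zspanOn Y {1}ᶜ :=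
      mem_zspanOn_one_iff.mpr ⟨zspan_sub (zspan_natSmul b hym) (zspan_intSmul m (zspan_subset_mem hη₀)), by
        simp only [Pi.sub_apply, Pi.smul_apply, smul_eq_mul, hb, hm]; ring⟩
    have hW : χ₀ 1 • η₀ - η₀ 1 • χ₀ ∈ zspanOn S {1}ᶜ := by
      refine mem_zspanOn_one_iff.mpr ⟨?_, by simp [mul_comm]⟩
      rw [ha, hb]
      exact zspan_sub (zspan_natSmul a (zspan_subset_mem (hYS hη₀)))
        (zspan_natSmul b (zspan_subset_mem (hXS hχ₀)))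
    have hθS : x + y ∈ zspanOn S {1}ᶜ := zspanOn_mono (Set.union_subset hXS hYS) hw
    have hU' := zspanOn_mono hXS hU
    have hV' := zspanOn_mono hYS hV
    have hid : ((a * b : ℕ) : ℂ) • (x + y) = ((b : ℤ) : ℂ) • ((a : ℂ) • x + (m : ℂ) • χ₀) +
        ((a : ℤ) : ℂ) • ((b : ℂ) • y - (m : ℂ) • η₀) + (m : ℂ) • (χ₀ 1 • η₀ - η₀ 1 • χ₀) := by
      rw [ha, hb]; push_cast; module
    have hτx : σ x = ∑ ξ ∈ PX, (w ξ : ℂ) • z ξ := by
      rw [hx, iso_sum_zspan hσ PX w (fun ξ => ξ) fun ξ h => zspan_subset_mem (hPXm ξ h)]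
      exact Finset.sum_congr rfl fun ξ h => by rw [hzX ξ (hPXm ξ h)]
    have hτy : τ y = ∑ ξ ∈ PY, (w ξ : ℂ) • z ξ := by
      rw [hy, iso_sum_zspan hτ PY w (fun ξ => ξ) fun ξ h => zspan_subset_mem (hPYm ξ h)]
      exact Finset.sum_congr rfl fun ξ h => by rw [hzY ξ (hPYm ξ h)]
    have hkey := congrArg α hid
    rw [iso_natSmul hα hθS,
      hα.1 _ (zspanOn_add (zspanOn_intSmul _ hU') (zspanOn_intSmul _ hV')) _ (zspanOn_intSmul _ hW),
      hα.1 _ (zspanOn_intSmul _ hU') _ (zspanOn_intSmul _ hV'), iso_intSmul hα hU', iso_intSmul hα hV',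
      iso_intSmul hα hW, ← hσα _ hU, ← hτα _ hV, heq,
      hσ.1 _ (zspan_natSmul a hxm) _ (zspan_intSmul m (zspan_subset_mem hχ₀)), iso_natSmul hσ hxm,
      iso_intSmul hσ (zspan_subset_mem hχ₀),
      iso_sub_zspan hτ (zspan_natSmul b hym) (zspan_intSmul m (zspan_subset_mem hη₀)),
      iso_natSmul hτ hym, iso_intSmul hτ (zspan_subset_mem hη₀), hτx, hτy, ha, hb] at hkey
    have hab : ((a * b : ℕ) : ℂ) ≠ 0 := by exact_mod_cast (Nat.mul_pos ha0 hb0).ne'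
    refine smul_right_injective (G → ℂ) hab (hkey.trans ?_)
    push_cast
    module

end Irreducible

end CfsgLib.Char
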