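import Cfsg.Agent.Lib.Char.Virtual
import Cfsg.Prelude.Def_OddOrderChar

/-!
# Generalized characters of small norm
-/

set_option autoImplicit false
set_option linter.unusedSectionVars false

namespace CfsgLib.Char

open scoped ComplexConjugate
open Cfsg

universe u

variable {G : Type u} [Group G] [Fintype G]

/-- A norm two generalized character vanishing at `1` is a difference of two irreducibles. -/
theorem exists_sub_of_norm_two {f : G → ℂ} (hf : IsGeneralizedCharacter G f)
    (h2 : classInner f f = 2) (h1 : f 1 = 0) :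
    ∃ μ ν : IrrCharacter G, μ ≠ ν ∧ f = (μ : G → ℂ) - (ν : G → ℂ) := by
  classical
  have := Fintype.ofFinite (IrrCharacter G)
  obtain ⟨m, -, he, hn⟩ := generalized_expand hf
  have hsum : ∑ ψ, m ψ ^ 2 = 2 := by
    rw [hn] at h2
    exact_mod_cast h2
  set T := Finset.univ.filter fun ψ => m ψ ≠ 0 with hT
  have hsq : ∀ ψ, m ψ ^ 2 ≤ 1 := by
    intro ψ
    have h := Finset.single_le_sum (f := fun ψ => m ψ ^ 2) (fun _ _ => sq_nonneg _) (Finset.mem_univ ψ)
    rw [hsum] at h
    have h' : m ψ ^ 2 ≤ 2 := h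
    have h3 : m ψ ≤ 1 := by nlinarith
    have h4 : -1 ≤ m ψ := by nlinarith
    nlinarith
  have hcard : T.card = 2 := by
    have h : ∑ ψ, m ψ ^ 2 = ∑ ψ ∈ T, (1 : ℤ) := by
      rw [hT, Finset.sum_filter]
      refine Finset.sum_congr rfl fun ψ _ => ?_
      split_ifs with h
      · have : 0 < m ψ ^ 2 := by positivity
        have := hsq ψ
        omega
      · rw [not_not.mp h]; norm_num
    rw [hsum, Finset.sum_const, nsmul_eq_mul, mul_one] at h
    exact_mod_cast h.symm
  obtain ⟨a, b, hab, hTab⟩ := Finset.card_eq_two.mp hcard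
  have hfab : f = (m a : ℂ) • (a : G → ℂ) + (m b : ℂ) • (b : G → ℂ) := by
    rw [he, ← Finset.sum_filter_of_ne (p := fun ψ => m ψ ≠ 0) (fun ψ _ h h0 => h (by rw [h0]; simp)),
      ← hT, hTab, Finset.sum_pair hab]
  have hunit : ∀ ψ ∈ T, m ψ = 1 ∨ m ψ = -1 := fun ψ hψ => by
    have h0 := (Finset.mem_filter.mp hψ).2
    have := hsq ψ
    have h3 : m ψ ≤ 1 := by nlinarith
    have h4 : -1 ≤ m ψ := by nlinarith
    omega
  obtain ⟨da, hda, hda'⟩ := isIrrCharacter_degree a.2
  obtain ⟨db, hdb, hdb'⟩ := isIrrCharacter_degree b.2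
  have hzero : m a * (da : ℤ) + m b * (db : ℤ) = 0 := by
    rw [hfab, Pi.add_apply, Pi.smul_apply, Pi.smul_apply, smul_eq_mul, smul_eq_mul, hda', hdb'] at h1
    exact_mod_cast h1
  rcases hunit a (by rw [hTab]; exact Finset.mem_insert_self _ _) with ha | ha <;>
    rcases hunit b (by rw [hTab]; exact Finset.mem_insert_of_mem (Finset.mem_singleton_self _)) with hb | hb
  · exfalso; rw [ha, hb] at hzero; omega
  · exact ⟨a, b, hab, by rw [hfab, ha, hb]; push_cast; rw [one_smul, neg_one_smul, sub_eq_add_neg]⟩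
  · exact ⟨b, a, hab.symm, by rw [hfab, ha, hb]; push_cast; rw [one_smul, neg_one_smul]; abel⟩
  · exfalso; rw [ha, hb] at hzero; omega

/-- The complex conjugate of an irreducible character. -/
theorem isIrrCharacter_starFun (χ : IrrCharacter G) : IsIrrCharacter G (Cfsg.conjFun (χ : G → ℂ)) := by
  refine isIrr_of_isCharacter_norm_one (isCharacter_conj (isCharacter_irr χ)) ?_
  have h := classInner_conj (χ : G → ℂ) (χ : G → ℂ)
  rw [← classInner_irr_self χ]
  simp only [classInner, Cfsg.conjFun, Complex.conj_conj]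
  exact congrArg _ (Finset.sum_congr rfl fun g _ => mul_comm _ _)

theorem classInner_starFun (f h : G → ℂ) :
    classInner (Cfsg.conjFun f) (Cfsg.conjFun h) = conj (classInner f h) := by
  simp only [classInner, Cfsg.conjFun, map_mul, map_inv₀, map_natCast, map_sum]

end CfsgLib.Char
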