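import Mathlib
import Cfsg.Agent.Lib.Char.CoherenceExtend
import Cfsg.Agent.Lib.Char.Inertia
import Cfsg.Agent.Lib.Char.NormTwo
import Cfsg.Agent.Lib.Char.Degree
import Cfsg.Agent.Lib.Char.Linear

/-!
# The sets of characters induced from a normal subgroup
-/

set_option autoImplicit false
set_option linter.unusedSectionVars false
set_option linter.style.haveILetI false

namespace CfsgLib.Char

open scoped ComplexConjugate
open Cfsg

universe u v

section General

variable {Γ : Type u} [Group Γ] [Fintype Γ]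

theorem norm_char_le_degree {χ : Γ → ℂ} (hχ : IsCharacter Γ χ) {d : ℕ} (hd : χ 1 = d) (g : Γ) :
    ‖χ g‖ ≤ d := by
  obtain ⟨n, ρ, rfl⟩ := hχ
  rw [Representation.char_one, Nat.cast_inj] at hd
  exact hd ▸ norm_char_le ρ g

/-- The constituents of a character have at least its kernel. -/
theorem constituent_kernel {χ : Γ → ℂ} (hχ : IsCharacter Γ χ) (ψ : IrrCharacter Γ)
    (h : classInner χ (ψ : Γ → ℂ) ≠ 0) {g : Γ} (hg : χ g = χ 1) : (ψ : Γ → ℂ) g = (ψ : Γ → ℂ) 1 := by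
  have hs := isCharacter_sub_constituent hχ ψ h
  obtain ⟨a, ha⟩ := isCharacter_degree hs
  obtain ⟨b, -, hb⟩ := isIrrCharacter_degree ψ.2
  have hχ1 : χ 1 = (a : ℂ) + b := by
    rw [Pi.sub_apply, hb] at ha
    linear_combination ha
  have h1 := norm_char_le_degree hs ha g
  have h2 := norm_char_le_degree (isCharacter_irr ψ) hb g
  have h3 : ((χ - (ψ : Γ → ℂ)) g).re + ((ψ : Γ → ℂ) g).re = (a : ℝ) + b := by
    rw [← Complex.add_re, Pi.sub_apply, sub_add_cancel, hg, hχ1]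
    simp
  have h4 : ((ψ : Γ → ℂ) g).re = b := by
    have := Complex.re_le_norm ((χ - (ψ : Γ → ℂ)) g)
    have := Complex.re_le_norm ((ψ : Γ → ℂ) g)
    linarith
  have h5 : ((ψ : Γ → ℂ) g).im = 0 := by
    have h' : Complex.normSq ((ψ : Γ → ℂ) g) ≤ (b : ℝ) ^ 2 := by
      rw [Complex.normSq_eq_norm_sq]
      exact pow_le_pow_left₀ (norm_nonneg _) h2 2
    rw [Complex.normSq_apply, h4] at h'
    nlinarith
  rw [hb]
  exact Complex.ext (by simpa using h4) (by simpa using h5)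

/-- A subgroup central modulo the kernel bounds the degree. -/
theorem card_mul_degree_sq_le (ψ : IrrCharacter Γ) (D : Subgroup Γ)
    (hD : ∀ d ∈ D, ∀ x : Γ, (ψ : Γ → ℂ) (d * x * d⁻¹ * x⁻¹) = (ψ : Γ → ℂ) 1) {b : ℕ}
    (hb : (ψ : Γ → ℂ) 1 = b) : Nat.card D * b ^ 2 ≤ Nat.card Γ := by
  classical
  have hsum := classInner_irr_self ψ
  rw [classInner, inv_mul_eq_one₀ card_ne_zero'] at hsum
  obtain ⟨ψ, n, ρ, hρ, rfl⟩ := ψ
  change ρ.character 1 = (b : ℂ) at hb
  rw [Representation.char_one, Nat.cast_inj] at hb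
  have hnorm : ∀ d ∈ D, Complex.normSq (ρ.character d) = (b : ℝ) ^ 2 := by
    intro d hd
    obtain ⟨c, hc⟩ := schur_scalar ρ (ρ d) fun x => by
      have h : ρ (d * x * d⁻¹ * x⁻¹) = LinearMap.id :=
        (char_eq_degree_iff ρ _).1 ((hD d hd x).trans (Representation.char_one ρ))
      calc ρ d * ρ x = ρ (d * x * d⁻¹ * x⁻¹) * ρ (x * d) := by
            rw [← map_mul, ← map_mul]; congr 1; group
        _ = ρ x * ρ d := by rw [h, map_mul]; rfl
    rw [Complex.normSq_eq_norm_sq, (norm_char_eq_iff ρ d).2 ⟨c, hc⟩, hb]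
  have h : (Nat.card Γ : ℝ) = ∑ x : Γ, Complex.normSq (ρ.character x) := by
    apply Complex.ofReal_injective
    rw [Complex.ofReal_natCast, Complex.ofReal_sum, hsum]
    exact Finset.sum_congr rfl fun x _ => Complex.mul_conj _
  have hle : ∑ x ∈ Finset.univ.filter (fun x => x ∈ D), Complex.normSq (ρ.character x) ≤ (Nat.card Γ : ℝ) := by
    rw [h]
    exact Finset.sum_le_sum_of_subset_of_nonneg (Finset.filter_subset _ _) fun x _ _ => Complex.normSq_nonneg _
  rw [Finset.sum_congr rfl fun x hx => hnorm x (Finset.mem_filter.1 hx).2, Finset.sum_const,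
    ← Fintype.card_subtype, ← Nat.card_eq_fintype_card, nsmul_eq_mul] at hle
  exact_mod_cast hle

theorem irr_eq_one_of_inner {N : Subgroup Γ} [N.Normal] [Fintype N] (θ : IrrCharacter Γ)
    (h : classInner (fun n : N => (θ : Γ → ℂ) n) (fun _ => (1 : ℂ)) ≠ 0) (n : N) :
    (θ : Γ → ℂ) n = (θ : Γ → ℂ) 1 := by
  have hc := clifford N θ.2 isIrrCharacter_one h
  rw [show {ψ : N → ℂ | ∃ g : Γ, ψ = conjFun N (fun _ => 1) g} = {fun _ => 1} from
    Set.eq_singleton_iff_unique_mem.2 ⟨⟨1, rfl⟩, fun _ ⟨_, e⟩ => e⟩, finsum_mem_singleton] at hc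
  have h1 := congrFun hc n
  have h2 := congrFun hc 1
  simp only [Pi.smul_apply, OneMemClass.coe_one] at h1 h2
  rw [h1, h2]

/-- The characters with a normal subgroup in the kernel. -/
theorem sum_sq_trivial_on (N : Subgroup Γ) [N.Normal] [Fintype (IrrCharacter Γ)]
    [DecidablePred fun θ : IrrCharacter Γ => ∀ a ∈ N, (θ : Γ → ℂ) a = (θ : Γ → ℂ) 1] :
    ∑ θ ∈ Finset.univ.filter (fun θ : IrrCharacter Γ => ∀ a ∈ N, (θ : Γ → ℂ) a = (θ : Γ → ℂ) 1),
      (θ : Γ → ℂ) 1 ^ 2 = (N.index : ℂ) := by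
  classical
  haveI := Fintype.ofFinite N
  have hkey : ∑ a : N, ∑ θ : IrrCharacter Γ, (θ : Γ → ℂ) a * conj ((θ : Γ → ℂ) 1) = (Nat.card Γ : ℂ) := by
    rw [Finset.sum_eq_single 1, OneMemClass.coe_one]
    · rw [sum_irr_mul_conj, if_pos (IsConj.refl _), show Subgroup.centralizer ({1} : Set Γ) = ⊤ from
        eq_top_iff.2 fun x _ => by simp [Subgroup.mem_centralizer_singleton_iff], Subgroup.card_top]
    · intro a _ ha
      rw [sum_irr_mul_conj, if_neg fun hc => ha (Subtype.ext (isConj_one_left.1 hc))]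
    · exact fun h => absurd (Finset.mem_univ _) h
  rw [Finset.sum_comm] at hkey
  rw [Finset.sum_filter]
  refine mul_left_cancel₀ (card_ne_zero' (G := N)) ?_
  rw [← Nat.cast_mul, N.card_mul_index, ← hkey, Finset.mul_sum]
  refine Finset.sum_congr rfl fun θ _ => ?_
  split_ifs with h
  · rw [Finset.sum_congr rfl (g := fun _ => (θ : Γ → ℂ) 1 ^ 2) fun a _ => by
      rw [h a a.2, conj_irr_one, sq], Finset.sum_const, Finset.card_univ, nsmul_eq_mul,
      Nat.card_eq_fintype_card]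
  · have h0 : classInner (fun n : N => (θ : Γ → ℂ) n) (fun _ => (1 : ℂ)) = 0 :=
      not_not.1 fun hne => h fun a ha => irr_eq_one_of_inner θ hne ⟨a, ha⟩
    simp only [classInner, map_one, mul_one] at h0
    rw [mul_zero, ← Finset.sum_mul, (mul_eq_zero.1 h0).resolve_left (inv_ne_zero card_ne_zero'), zero_mul]

end General

variable {L : Type u} [Group L] [Fintype L] {G : Type v} [Group G] [Fintype G]

theorem star_indFun (K : Subgroup L) (θ : K → ℂ) :
    Cfsg.conjFun (indFun K θ) = indFun K (Cfsg.conjFun θ) := by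
  funext x
  simp only [Cfsg.conjFun, indFun, map_mul, map_inv₀, map_natCast, map_sum]
  congr 1
  refine Finset.sum_congr rfl fun y _ => ?_
  by_cases h : y⁻¹ * x * y ∈ K
  · rw [extendByZero_mem _ _ h, extendByZero_mem _ _ h, Cfsg.conjFun]
  · rw [extendByZero_not_mem _ _ h, extendByZero_not_mem _ _ h, map_zero]

variable (K : Subgroup L)

theorem inducedIrrAbove_mono {A B : Subgroup L} (h : A ≤ B) :
    inducedIrrAbove K B ⊆ inducedIrrAbove K A := by
  rintro φ ⟨θ, h1, h2, h3, rfl⟩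
  exact ⟨θ, h1, h2, fun a ha => h3 a (h ha), rfl⟩

theorem inducedIrrAbove_conj_mem (A : Subgroup L) {φ : L → ℂ} (hφ : φ ∈ inducedIrrAbove K A) :
    Cfsg.conjFun φ ∈ inducedIrrAbove K A := by
  obtain ⟨θ, h1, h2, h3, rfl⟩ := hφ
  haveI := Fintype.ofFinite K
  refine ⟨Cfsg.conjFun θ, isIrrCharacter_starFun ⟨θ, h1⟩, fun e => h2 ?_,
    fun a ha => by simp only [Cfsg.conjFun, h3 a ha], star_indFun K θ⟩
  funext x
  have := congrArg conj (congrFun e x)
  simpa [Cfsg.conjFun] using this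

theorem inducedIrrAbove_degree {A : Subgroup L} {φ : L → ℂ} (hφ : φ ∈ inducedIrrAbove K A) :
    ∃ b : ℕ, 0 < b ∧ φ 1 = ((K.index * b : ℕ) : ℂ) := by
  obtain ⟨θ, h1, -, -, rfl⟩ := hφ
  haveI := Fintype.ofFinite K
  obtain ⟨b, hb0, hb⟩ := isIrrCharacter_degree h1
  exact ⟨b, hb0, by rw [indFun_one, hb, Nat.cast_mul]⟩

/-- A proper normal subgroup of a solvable group is in the kernel of a non-principal linear character. -/
theorem exists_linear_above {Γ : Type u} [Group Γ] [Fintype Γ] (N : Subgroup Γ) [N.Normal] (hN : N ≠ ⊤)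
    (hsolv : Group.IsSolvable Γ) :
    ∃ θ : IrrCharacter Γ, (θ : Γ → ℂ) ≠ (fun _ => 1) ∧ (θ : Γ → ℂ) 1 = 1 ∧
      ∀ a ∈ N, (θ : Γ → ℂ) a = (θ : Γ → ℂ) 1 := by
  classical
  haveI : Group.IsSolvable (Γ ⧸ N) := Group.isSolvable_of_surjective (QuotientGroup.mk'_surjective N)
  haveI : Nontrivial (Γ ⧸ N) := QuotientGroup.nontrivial_iff.2 hN
  have hc := Group.IsSolvable.commutator_lt_top_of_nontrivial (Γ ⧸ N)
  obtain ⟨x, -, hx⟩ := SetLike.exists_of_lt hc
  have hx' : (Abelianization.of x : Abelianization (Γ ⧸ N)) ≠ 1 := fun h => hx ((QuotientGroup.eq_one_iff x).1 h)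
  obtain ⟨f, hf⟩ := CommGroup.exists_apply_ne_one_of_hasEnoughRootsOfUnity (Abelianization (Γ ⧸ N)) ℂ hx'
  refine ⟨⟨_, isIrrCharacter_lin ((f.comp Abelianization.of).comp (QuotientGroup.mk' N))⟩, fun h => hf ?_,
    by simp, fun a ha => ?_⟩
  · obtain ⟨y, rfl⟩ := QuotientGroup.mk_surjective x
    exact Units.ext (congrFun h y)
  · simp [(QuotientGroup.eq_one_iff a).2 ha]

theorem exists_inducedIrrAbove_degree [K.Normal] (hsolv : Group.IsSolvable K) (A : Subgroup L) [A.Normal]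
    (hAK : A.relIndex K ≠ 1) : ∃ φ ∈ inducedIrrAbove K A, φ 1 = (K.index : ℂ) := by
  haveI := Fintype.ofFinite K
  obtain ⟨θ, h1, h2, h3⟩ := exists_linear_above (A.subgroupOf K)
    (fun h => hAK (by rw [Subgroup.relIndex, h, Subgroup.index_top])) hsolv
  exact ⟨_, ⟨θ, θ.2, h1, fun a ha => h3 a ha, rfl⟩, by rw [indFun_one, h2, mul_one]⟩

/-- The weighted sum of squares of the degrees. -/
theorem sum_sq_inducedIrrAbove [K.Normal] (A : Subgroup L) [A.Normal] (s : Finset (L → ℂ))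
    (hs : (s : Set (L → ℂ)) = inducedIrrAbove K A) :
    ∑ φ ∈ s, φ 1 ^ 2 / classInner φ φ = (K.index : ℂ) * ((A.relIndex K : ℂ) - 1) := by
  classical
  haveI := Fintype.ofFinite K
  haveI := Fintype.ofFinite (IrrCharacter K)
  set one : IrrCharacter K := ⟨fun _ => 1, isIrrCharacter_one⟩ with hone
  set P := Finset.univ.filter (fun θ : IrrCharacter K => ∀ a ∈ A.subgroupOf K, (θ : K → ℂ) a = (θ : K → ℂ) 1)
    with hP
  have hoP : one ∈ P := Finset.mem_filter.2 ⟨Finset.mem_univ _, fun _ _ => rfl⟩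
  have hsum : ∑ θ ∈ P.erase one, (θ : K → ℂ) 1 ^ 2 = (A.relIndex K : ℂ) - 1 := by
    have h := sum_sq_trivial_on (A.subgroupOf K)
    rw [← Finset.add_sum_erase _ _ hoP] at h
    rw [Subgroup.relIndex, ← h]
    simp [hone]
  have himg : s = (P.erase one).image fun θ : IrrCharacter K => indFun K (θ : K → ℂ) := by
    apply Finset.coe_injective
    rw [hs]
    ext φ
    simp only [Finset.coe_image, Set.mem_image, Finset.mem_coe, Finset.mem_erase]
    constructor
    · rintro ⟨θ, h1, h2, h3, rfl⟩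
      exact ⟨⟨θ, h1⟩, ⟨fun e => h2 (congrArg Subtype.val e),
        Finset.mem_filter.2 ⟨Finset.mem_univ _, fun a ha => h3 a ha⟩⟩, rfl⟩
    · rintro ⟨θ, ⟨h2, h3⟩, rfl⟩
      exact ⟨θ, θ.2, fun e => h2 (Subtype.ext e), fun a ha => (Finset.mem_filter.1 h3).2 a ha, rfl⟩
  rw [← hsum, Finset.mul_sum]
  subst himg
  refine Finset.sum_image' _ fun θ hθ => ?_
  set cl : L → IrrCharacter K := fun x => ⟨_, isIrrCharacter_conjFun K θ.2 x⟩ with hcl
  have hclosed : ∀ x, cl x ∈ P.erase one := by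
    intro x
    obtain ⟨hne, hmem⟩ := Finset.mem_erase.1 hθ
    refine Finset.mem_erase.2 ⟨fun e => hne (Subtype.ext ?_), Finset.mem_filter.2 ⟨Finset.mem_univ _, ?_⟩⟩
    · have he : conjFun K (θ : K → ℂ) x = fun _ => 1 := congrArg Subtype.val e
      rw [(conjFun_eq_iff K _ _ x).1 he |>.symm]
      rfl
    · intro a ha
      have h := (Finset.mem_filter.1 hmem).2 ⟨x * (a : L) * x⁻¹, ‹K.Normal›.conj_mem _ a.2 x⟩
        (‹A.Normal›.conj_mem _ ha x)
      show conjFun K (θ : K → ℂ) x a = conjFun K (θ : K → ℂ) x 1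
      simp only [conjFun] at h ⊢
      exact h.trans (congrArg (θ : K → ℂ) (Subtype.ext (by simp)))
  have hdeg : ∀ x, (cl x : K → ℂ) 1 = (θ : K → ℂ) 1 := fun x => by
    show conjFun K (θ : K → ℂ) x 1 = _
    exact congrArg (θ : K → ℂ) (Subtype.ext (by simp))
  have hfib : (P.erase one).filter (fun ψ : IrrCharacter K => indFun K (ψ : K → ℂ) = indFun K (θ : K → ℂ)) =
      Finset.univ.image cl := by
    ext ψ
    simp only [Finset.mem_filter, Finset.mem_image, Finset.mem_univ, true_and]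
    constructor
    · rintro ⟨-, e⟩
      have h : classInner (fun n : K => indFun K (θ : K → ℂ) n) (ψ : K → ℂ) ≠ 0 := by
        rw [← e, classInner_restrict_indFun K ψ.2 ψ.2]
        refine mul_ne_zero (inv_ne_zero card_ne_zero') (Nat.cast_ne_zero.2 ?_)
        haveI : Nonempty {x : L // conjFun K (ψ : K → ℂ) x = (ψ : K → ℂ)} := ⟨⟨1, conjFun_one K _⟩⟩
        exact Nat.card_pos.ne'
      rw [classInner_restrict_indFun K θ.2 ψ.2] at h
      by_contra hno
      haveI : IsEmpty {x : L // conjFun K (θ : K → ℂ) x = (ψ : K → ℂ)} :=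
        ⟨fun x => hno ⟨x.1, Subtype.ext x.2⟩⟩
      simp at h
    · rintro ⟨x, rfl⟩
      refine ⟨hclosed x, ?_⟩
      funext y
      simp only [indFun]
      congr 1
      rw [← Equiv.sum_comp (Equiv.mulRight x)]
      refine Finset.sum_congr rfl fun z _ => ?_
      have e : (z * x)⁻¹ * y * (z * x) = x⁻¹ * (z⁻¹ * y * z) * x := by group
      simp only [Equiv.coe_mulRight]
      rw [e]
      by_cases hm : z⁻¹ * y * z ∈ K
      · have hm' : x⁻¹ * (z⁻¹ * y * z) * x ∈ K := by simpa using ‹K.Normal›.conj_mem _ hm x⁻¹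
        rw [extendByZero_mem _ _ hm', extendByZero_mem _ _ hm]
        exact congrArg (θ : K → ℂ) (Subtype.ext (by group))
      · rw [extendByZero_not_mem, extendByZero_not_mem _ _ hm]
        intro hm'
        exact hm (by simpa [mul_assoc] using ‹K.Normal›.conj_mem _ hm' x)
  rw [hfib, Finset.sum_congr rfl (g := fun _ => (K.index : ℂ) * (θ : K → ℂ) 1 ^ 2) fun ψ hψ => by
    obtain ⟨x, -, rfl⟩ := Finset.mem_image.1 hψ
    rw [hdeg], Finset.sum_const, nsmul_eq_mul, indFun_one]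
  have horb : ((Finset.univ.image cl).card : ℂ) * (Nat.card (inertia K (θ : K → ℂ)) : ℂ) = (Nat.card L : ℂ) := by
    rw [Nat.card_eq_fintype_card (α := L), ← Finset.card_univ,
      Finset.card_eq_sum_card_image cl Finset.univ, Nat.cast_sum,
      Finset.sum_congr rfl (g := fun _ => (Nat.card (inertia K (θ : K → ℂ)) : ℂ)) fun ψ hψ => by
        obtain ⟨x, -, rfl⟩ := Finset.mem_image.1 hψ
        rw [← card_fiber_conjFun K (θ : K → ℂ) x, ← Fintype.card_subtype, ← Nat.card_eq_fintype_card,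
          Nat.card_congr (Equiv.subtypeEquivRight fun y => Subtype.ext_iff)],
      Finset.sum_const, nsmul_eq_mul]
  have hn := card_smul_classInner_indFun_self K θ.2
  have hidx : (K.index : ℂ) * (Nat.card K : ℂ) = (Nat.card L : ℂ) := by
    exact_mod_cast congrArg (fun n : ℕ => (n : ℂ)) K.index_mul_card
  have hT : (Nat.card (inertia K (θ : K → ℂ)) : ℂ) ≠ 0 := Nat.cast_ne_zero.2 Nat.card_pos.ne'
  have hne : classInner (indFun K (θ : K → ℂ)) (indFun K (θ : K → ℂ)) ≠ 0 := fun h => hT (by rw [← hn, h, mul_zero])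
  rw [div_eq_iff hne]
  refine mul_left_cancel₀ (card_ne_zero' (G := K)) ?_
  linear_combination ((K.index : ℂ) * (θ : K → ℂ) 1 ^ 2) * hidx -
    (((Finset.univ.image cl).card : ℂ) * (K.index : ℂ) * (θ : K → ℂ) 1 ^ 2) * hn -
    ((K.index : ℂ) * (θ : K → ℂ) 1 ^ 2) * horb

section Systems

variable {S : Set (L → ℂ)} {τ : (L → ℂ) → (G → ℂ)} {R : (L → ℂ) → Finset (G → ℂ)}

theorem iso_mono {E F : Set (L → ℂ)} (h : F ⊆ E) (hτ : IsLinearIsometryOn E τ) : IsLinearIsometryOn F τ :=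
  ⟨fun a ha b hb => hτ.1 a (h ha) b (h hb), fun a ha => hτ.2.1 a (h ha),
    fun a ha b hb => hτ.2.2.1 a (h ha) b (h hb), fun a ha => hτ.2.2.2 a (h ha)⟩

theorem cs_mono (hS : IsCoherenceSystem S τ R) {T : Set (L → ℂ)} (hT : T ⊆ S) (hne : T.Nonempty)
    (hc : ∀ φ ∈ T, Cfsg.conjFun φ ∈ T) : IsCoherenceSystem T τ R where
  nonempty := hne
  isCharacter χ h := hS.isCharacter χ (hT h)
  conj_mem := hc
  conj_ne χ h := hS.conj_ne χ (hT h)
  isometry := iso_mono (fun _ h => zspanOn_mono hT h) hS.isometry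
  map_one α h := hS.map_one α (zspanOn_mono hT h)
  orthogonal χ h φ h' := hS.orthogonal χ (hT h) φ (hT h')
  orthonormal χ h := hS.orthonormal χ (hT h)
  virtual χ h := hS.virtual χ (hT h)
  sum_eq χ h := hS.sum_eq χ (hT h)
  disjoint χ h φ h' := hS.disjoint χ (hT h) φ (hT h')

/-- A subset closed under conjugation of a coherent set is coherent. -/
theorem coherent_mono (hS : IsCoherenceSystem S τ R) {T U : Set (L → ℂ)}
    (hU : IsCoherent U {1}ᶜ τ) (hTU : T ⊆ U) (hT : T ⊆ S) (hne : T.Nonempty)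
    (hc : ∀ φ ∈ T, Cfsg.conjFun φ ∈ T) : IsCoherent T {1}ᶜ τ := by
  obtain ⟨φ, hφ⟩ := hne
  obtain ⟨-, τ₁, h1, h2⟩ := hU
  refine ⟨⟨φ - Cfsg.conjFun φ, cs_sub_conj_mem (cs_mono hS hT ⟨φ, hφ⟩ hc) hφ,
    sub_ne_zero.2 fun e => hS.conj_ne φ (hT hφ) e.symm⟩, τ₁, iso_mono ?_ h1,
    fun α hα => h2 α (zspanOn_mono hTU hα)⟩
  exact fun a ha => zspan_mono hTU ha

/-- Adjoining pairs one at a time. -/
theorem coherent_adjoin (hS : IsCoherenceSystem S τ R) (d : (L → ℂ) → ℕ)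
    (hd : ∀ φ ∈ S, φ 1 = (d φ : ℂ)) (S₁ : Finset (L → ℂ)) (hS₁ : ↑S₁ ⊆ S)
    (hS₁c : ∀ φ ∈ S₁, Cfsg.conjFun φ ∈ S₁) (hcoh : IsCoherent (↑S₁ : Set (L → ℂ)) {1}ᶜ τ)
    {χ₁ : L → ℂ} (hχ₁ : χ₁ ∈ S₁) (T : Finset (L → ℂ)) (hT : ↑T ⊆ S) (hdvd : ∀ χ ∈ T, d χ₁ ∣ d χ)
    (hineq : ∀ χ ∈ T, (2 * d χ * d χ₁ : ℝ) < ∑ φ ∈ S₁, ((φ 1 ^ 2 / classInner φ φ).re)) :
    ∃ S₂ : Finset (L → ℂ), S₁ ⊆ S₂ ∧ T ⊆ S₂ ∧ ↑S₂ ⊆ S ∧ (∀ φ ∈ S₂, Cfsg.conjFun φ ∈ S₂) ∧
      IsCoherent (↑S₂ : Set (L → ℂ)) {1}ᶜ τ := by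
  classical
  have hn : ∀ φ, ∃ n : ℕ, φ ∈ S → classInner φ φ = n := fun φ => by
    by_cases h : φ ∈ S
    · exact (cs_norm_nat hS h).imp fun n hn _ => hn
    · exact ⟨0, fun h' => absurd h' h⟩
  choose n hn using hn
  have hterm : ∀ φ ∈ S, (φ 1 ^ 2 / classInner φ φ).re = (d φ : ℝ) ^ 2 / (n φ : ℝ) := fun φ hφ => by
    rw [hd φ hφ, hn φ hφ, show ((d φ : ℂ) ^ 2 / (n φ : ℂ)) = (((d φ : ℝ) ^ 2 / (n φ : ℝ) : ℝ) : ℂ) by push_cast; rfl,
      Complex.ofReal_re]
  induction T using Finset.induction_on with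
  | empty => exact ⟨S₁, subset_rfl, Finset.empty_subset _, hS₁, hS₁c, hcoh⟩
  | insert χ T hχT ih =>
    have hsub : (↑T : Set (L → ℂ)) ⊆ S := fun x hx => hT (Finset.mem_insert_of_mem hx)
    obtain ⟨S₂, h12, hT2, h2S, h2c, h2coh⟩ := ih hsub (fun x hx => hdvd x (Finset.mem_insert_of_mem hx))
      (fun x hx => hineq x (Finset.mem_insert_of_mem hx))
    by_cases hin : χ ∈ S₂
    · exact ⟨S₂, h12, Finset.insert_subset hin hT2, h2S, h2c, h2coh⟩
    have hχS : χ ∈ S := hT (Finset.mem_insert_self _ _)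
    have hcin : Cfsg.conjFun χ ∉ S₂ := fun h => hin (cs_conj_conj χ ▸ h2c _ h)
    have h := coherence_extension hS d n hd (fun φ hφ => hn φ hφ) S₂ h2S h2c h2coh hχS hin hcin (h12 hχ₁)
      (hdvd χ (Finset.mem_insert_self _ _)) (by
        refine lt_of_lt_of_le (hineq χ (Finset.mem_insert_self _ _)) ?_
        rw [Finset.sum_congr rfl fun φ hφ => hterm φ (hS₁ hφ)]
        exact Finset.sum_le_sum_of_subset_of_nonneg h12 fun φ _ _ => by positivity)
    refine ⟨S₂ ∪ {χ, Cfsg.conjFun χ}, h12.trans Finset.subset_union_left,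
      Finset.insert_subset (by simp) (hT2.trans Finset.subset_union_left), ?_, ?_, ?_⟩
    · simp only [Finset.coe_union, Finset.coe_insert, Finset.coe_singleton, Set.union_subset_iff,
        Set.insert_subset_iff, Set.singleton_subset_iff]
      exact ⟨h2S, hχS, hS.conj_mem χ hχS⟩
    · intro φ hφ
      rcases Finset.mem_union.1 hφ with h' | h'
      · exact Finset.mem_union_left _ (h2c φ h')
      · rcases Finset.mem_insert.1 h' with rfl | h'
        · simp
        · rw [Finset.mem_singleton.1 h', cs_conj_conj]; simp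
    · simpa using h

end Systems

end CfsgLib.Char
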