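import Cfsg.Agent.Lib.Char.Orthogonality

/-!
# Schur scalars, sums of roots of unity
-/

set_option autoImplicit false

namespace CfsgLib.Char

open scoped ComplexConjugate
open Representation Module Cfsg

universe u v

variable {G : Type u} [Group G] {V : Type v} [AddCommGroup V] [Module ℂ V]

theorem nontrivial_of_irreducible (ρ : Representation ℂ G V) [hρ : ρ.IsIrreducible] :
    Nontrivial V := by
  by_contra h
  rw [not_nontrivial_iff_subsingleton] at h
  have : Nontrivial (Subrepresentation ρ) := hρ.toNontrivial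
  obtain ⟨a, b, hab⟩ := exists_pair_ne (Subrepresentation ρ)
  exact hab (Subrepresentation.toSubmodule_injective (Subsingleton.elim _ _))

theorem finrank_pos_of_irreducible [FiniteDimensional ℂ V] (ρ : Representation ℂ G V)
    [ρ.IsIrreducible] : 0 < finrank ℂ V :=
  have := nontrivial_of_irreducible ρ
  Module.finrank_pos

/-- Schur's lemma. -/
theorem schur_scalar [FiniteDimensional ℂ V] (ρ : Representation ℂ G V) [ρ.IsIrreducible]
    (T : V →ₗ[ℂ] V) (hT : ∀ x : G, T * ρ x = ρ x * T) :
    ∃ c : ℂ, T = c • LinearMap.id := by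
  obtain ⟨c, hc⟩ := (IsIrreducible.algebraMap_intertwiningMap_bijective_of_isAlgClosed
    (ρ := ρ)).surjective ⟨T, hT⟩
  refine ⟨c, ?_⟩
  have := congrArg IntertwiningMap.toLinearMap hc
  simp only [IntertwiningMap.algebraMap_apply, IntertwiningMap.toLinearMap_smul] at this
  rw [← this]
  rfl

/-- A central element acts as a scalar in an irreducible representation. -/
theorem exists_scalar_of_mem_center [FiniteDimensional ℂ V] (ρ : Representation ℂ G V)
    [ρ.IsIrreducible] {z : G} (hz : z ∈ Subgroup.center G) :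
    ∃ c : ℂ, ρ z = c • LinearMap.id :=
  schur_scalar ρ (ρ z) fun x => by
    rw [← map_mul, ← map_mul, (Subgroup.mem_center_iff.mp hz x)]

/-- The linear character of the centre afforded by an irreducible representation. -/
theorem exists_central_hom [FiniteDimensional ℂ V] (ρ : Representation ℂ G V) [ρ.IsIrreducible] :
    ∃ lam : Subgroup.center G →* ℂˣ, ∀ z : Subgroup.center G,
      ρ z = (lam z : ℂ) • LinearMap.id := by
  choose c hc using fun z : Subgroup.center G => exists_scalar_of_mem_center ρ z.2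
  have hV := nontrivial_of_irreducible ρ
  obtain ⟨v, hv⟩ := exists_ne (0 : V)
  have inj : ∀ a b : ℂ, a • (LinearMap.id : V →ₗ[ℂ] V) = b • LinearMap.id → a = b := fun a b h =>
    smul_left_injective ℂ hv (by simpa using LinearMap.congr_fun h v)
  have h1 : c 1 = 1 := inj _ _ (by rw [← hc 1, one_smul]; simp [Module.End.one_eq_id])
  have hm : ∀ a b, c (a * b) = c a * c b := fun a b => inj _ _ (by
    rw [← hc (a * b), Subgroup.coe_mul, map_mul, hc a, hc b]
    ext w
    simp [smul_smul, Module.End.mul_apply, mul_comm])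
  let f : Subgroup.center G →* ℂ := ⟨⟨c, h1⟩, hm⟩
  exact ⟨f.toHomUnits, hc⟩

/-- The trace of a scalar. -/
theorem trace_smul_id [FiniteDimensional ℂ V] (c : ℂ) :
    LinearMap.trace ℂ V (c • LinearMap.id) = c * (finrank ℂ V : ℂ) := by
  rw [map_smul, LinearMap.trace_id, smul_eq_mul]

/-- If norm-one numbers add up to the maximal possible norm, they are all equal. -/
theorem eq_of_norm_sum_eq_card {ι : Type*} (s : Finset ι) (μ : ι → ℂ) (h1 : ∀ i ∈ s, ‖μ i‖ = 1)
    (h : ‖∑ i ∈ s, μ i‖ = (s.card : ℝ)) :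
    ∀ i ∈ s, (s.card : ℂ) * μ i = ∑ j ∈ s, μ j := by
  intro i hi
  have hpos : (0 : ℝ) < s.card := by exact_mod_cast Finset.card_pos.mpr ⟨i, hi⟩
  set S := ∑ j ∈ s, μ j with hS
  have hle : ∀ j ∈ s, (conj S * μ j).re ≤ s.card := fun j hj => by
    refine le_trans (Complex.re_le_norm _) ?_
    rw [norm_mul, h1 j hj, mul_one, RCLike.norm_conj, h]
  have hsum : ∑ j ∈ s, (conj S * μ j).re = ∑ _j ∈ s, (s.card : ℝ) := by
    rw [← Complex.re_sum, ← Finset.mul_sum, ← hS, Complex.conj_mul', Finset.sum_const,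
      nsmul_eq_mul, h]
    simp [sq]
  have heq := (Finset.sum_eq_sum_iff_of_le hle).mp hsum i hi
  have hval : conj S * μ i = (s.card : ℂ) := by
    have hn : ‖conj S * μ i‖ = (s.card : ℝ) := by rw [norm_mul, h1 i hi, mul_one, RCLike.norm_conj, h]
    apply Complex.ext
    · simpa using heq
    · have h3 : (conj S * μ i).re ^ 2 + (conj S * μ i).im ^ 2 = (s.card : ℝ) ^ 2 := by
        rw [← hn, Complex.sq_norm, Complex.normSq_apply]; ring
      rw [heq, add_eq_left] at h3
      simpa using sq_eq_zero_iff.mp h3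
  have hμ : conj (μ i) * μ i = 1 := by rw [Complex.conj_mul', h1 i hi]; simp
  have h2 : (s.card : ℂ) * conj (μ i) = conj S := by
    rw [← hval, mul_assoc, mul_comm (μ i), hμ, mul_one]
  have h5 := congrArg conj h2
  rwa [map_mul, Complex.conj_conj, Complex.conj_conj, map_natCast] at h5

/-- Any field embedding sends a root of unity to a number of norm one. -/
theorem norm_embedding_eq_one {K : Type*} [Field K] (φ : K →+* ℂ) {x : K} {n : ℕ} (hn : n ≠ 0)
    (hx : x ^ n = 1) : ‖φ x‖ = 1 :=
  Complex.norm_eq_one_of_pow_eq_one (by rw [← map_pow, hx, map_one]) hn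

/-- An algebraic integer which is an average of roots of unity is zero or has norm one. -/
theorem avg_roots_zero_or_norm_one {n : ℕ} (μ : Fin n → ℂ) (hμ : ∀ i, ∃ m : ℕ, m ≠ 0 ∧ μ i ^ m = 1)
    (hint : IsIntegral ℤ ((∑ i, μ i) / (n : ℂ))) :
    (∑ i, μ i) / (n : ℂ) = 0 ∨ ‖(∑ i, μ i) / (n : ℂ)‖ = 1 := by
  classical
  set a := (∑ i, μ i) / (n : ℂ) with ha
  let K := algebraicClosure ℚ ℂ
  have : Algebra.IsAlgebraic ℚ K := algebraicClosure.isAlgebraic ℚ ℂ
  have hμK : ∀ i, μ i ∈ K := fun i => by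
    obtain ⟨m, hm, he⟩ := hμ i
    exact mem_algebraicClosure_iff'.mpr
      (IsIntegral.of_pow (Nat.pos_of_ne_zero hm) (by rw [he]; exact isIntegral_one))
  let μK : Fin n → K := fun i => ⟨μ i, hμK i⟩
  let aK : K := (∑ i, μK i) / (n : K)
  have haK : algebraMap K ℂ aK = a := by simp [aK, ha, μK, map_div₀]
  have hle : ∀ φ : K →ₐ[ℚ] ℂ, ‖φ aK‖ ≤ 1 := by
    intro φ
    simp only [aK, map_div₀, map_sum, map_natCast, norm_div, RCLike.norm_natCast]
    rcases Nat.eq_zero_or_pos n with h0 | h0
    · simp [h0]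
    rw [div_le_one (by exact_mod_cast h0)]
    refine (norm_sum_le _ _).trans ?_
    rw [Finset.sum_eq_card_nsmul (b := (1 : ℝ))]
    · simp
    intro i _
    obtain ⟨m, hm, he⟩ := hμ i
    exact norm_embedding_eq_one φ.toRingHom (x := μK i) hm (Subtype.ext (by simpa [μK] using he))
  by_cases h1 : ‖a‖ = 1
  · exact Or.inr h1
  left
  have hlt : ‖a‖ < 1 := lt_of_le_of_ne (by
    have := hle ((IsScalarTower.toAlgHom ℚ K ℂ))
    simpa [haK] using this) h1
  have hq : minpoly ℚ aK = minpoly ℚ a := by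
    rw [← haK]; exact (minpoly.algebraMap_eq (algebraMap K ℂ).injective aK).symm
  have hroots : ∀ r ∈ ((minpoly ℚ a).map (algebraMap ℚ ℂ)).roots, ‖r‖ ≤ 1 := by
    intro r hr
    have hmem : r ∈ (minpoly ℚ aK).rootSet ℂ := by
      rw [Polynomial.rootSet_def, hq]; simpa [Polynomial.aroots] using hr
    rw [← Algebra.IsAlgebraic.range_eval_eq_rootSet_minpoly (A := ℂ) aK] at hmem
    obtain ⟨φ, rfl⟩ := hmem
    exact hle φ
  have hQ := minpoly.isIntegrallyClosed_eq_field_fractions' ℚ hint
  set P := (minpoly ℚ a).map (algebraMap ℚ ℂ) with hP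
  have hmon : P.Monic := (minpoly.monic hint.tower_top).map _
  have hspl : P.Splits := IsAlgClosed.splits P
  have hroota : a ∈ P.roots := by
    rw [Polynomial.mem_roots hmon.ne_zero, Polynomial.IsRoot, hP, Polynomial.eval_map,
      ← Polynomial.aeval_def]
    exact minpoly.aeval ℚ a
  have hc0 : P.coeff 0 = ((minpoly ℤ a).coeff 0 : ℂ) := by
    rw [hP, hQ, Polynomial.coeff_map, Polynomial.coeff_map]; simp
  have hprod : ‖P.roots.prod‖ < 1 := by
    obtain ⟨rest, hrest⟩ := Multiset.exists_cons_of_mem hroota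
    rw [hrest, Multiset.prod_cons, norm_mul]
    refine lt_of_le_of_lt (mul_le_of_le_one_right (norm_nonneg _) ?_) hlt
    have hr : ∀ r ∈ rest, ‖r‖ ≤ 1 := fun r hr => hroots r (by show r ∈ P.roots; rw [hrest]; simp [hr])
    clear hrest
    induction rest using Multiset.induction_on with
    | empty => simp
    | cons x t ih =>
      rw [Multiset.prod_cons, norm_mul]
      exact mul_le_one₀ (hr x (by simp)) (norm_nonneg _) (ih fun r h => hr r (by simp [h]))
  have hcoeff := hspl.coeff_zero_eq_prod_roots_of_monic hmon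
  rw [hc0] at hcoeff
  have hn0 : ‖((minpoly ℤ a).coeff 0 : ℂ)‖ < 1 := by
    rw [hcoeff, norm_mul, norm_pow, norm_neg, norm_one, one_pow, one_mul]; exact hprod
  rw [Complex.norm_intCast, ← Int.cast_abs] at hn0
  have hz : (minpoly ℤ a).coeff 0 = 0 := by
    have : |(minpoly ℤ a).coeff 0| < 1 := by exact_mod_cast hn0
    exact abs_eq_zero.mp (le_antisymm (Int.lt_add_one_iff.mp (by simpa using this)) (abs_nonneg _))
  have hz' : (minpoly ℚ a).coeff 0 = 0 := by rw [hQ, Polynomial.coeff_map, hz, map_zero]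
  exact (minpoly.coeff_zero_eq_zero hint.tower_top).mp hz'

end CfsgLib.Char
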