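import Mathlib
import Cfsg.Prelude.Def_LieExceptional
import Cfsg.Agent.Lib.CFun.QdFree
import Cfsg.Agent.Lib.Coprime.Solvable
import Cfsg.Agent.Lib.Coprime.MinimalNonNilpotent
import Cfsg.Agent.Lib.Coprime.FpfAction
import Cfsg.Agent.Lib.Fusion.PComplement
import Cfsg.Agent.Lib.Fusion.Transfer

/-!
# Local structure of CN groups of odd order
-/

set_option autoImplicit false
set_option linter.unusedSectionVars false
set_option linter.style.haveILetI false

open scoped commutatorElement

namespace CfsgLib.Char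

open Cfsg

universe u

variable {G : Type u} [Group G] [Finite G]

/-- The CN property passes to subgroups. -/
theorem cn_subgroup (hCN : IsCNGroup G) (H : Subgroup G) : IsCNGroup H := by
  intro g hg
  have hle : (Subgroup.centralizer ({g} : Set H)).map H.subtype ≤
      Subgroup.centralizer ({(g : G)} : Set G) := by
    rintro _ ⟨c, hc, rfl⟩
    exact Subgroup.mem_centralizer_singleton_iff.2
      (congrArg Subtype.val (Subgroup.mem_centralizer_singleton_iff.1 hc))
  haveI := CfsgLib.Coprime.isNilpotent_of_le hle (hCN g fun e => hg (Subtype.ext e))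
  exact Group.nilpotent_of_mulEquiv
    ((Subgroup.centralizer ({g} : Set H)).equivMapOfInjective H.subtype H.subtype_injective).symm

/-- Elements of coprime orders centralizing a common non-identity element commute. -/
theorem cn_commute (hCN : IsCNGroup G) {p : ℕ} [Fact p.Prime] {k a b : G} (hk : k ≠ 1)
    (ha : a * k = k * a) (hb : b * k = k * b) (hcop : (orderOf a).Coprime p)
    (hp : IsPGroup p (Subgroup.zpowers b)) : a * b = b * a := by
  set C := Subgroup.centralizer ({k} : Set G) with hC
  haveI : Group.IsNilpotent C := hCN k hk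
  have ha' : a ∈ C := Subgroup.mem_centralizer_singleton_iff.2 ha
  have hb' : b ∈ C := Subgroup.mem_centralizer_singleton_iff.2 hb
  have hP : IsPGroup p (Subgroup.zpowers (⟨b, hb'⟩ : C)) :=
    (hp.comap_of_injective C.subtype C.subtype_injective).to_le
      (Subgroup.zpowers_le.2 (show (⟨b, hb'⟩ : C) ∈ (Subgroup.zpowers b).comap C.subtype from
        Subgroup.mem_zpowers b))
  exact congrArg Subtype.val (CfsgLib.Coprime.commute_of_coprime_pow (b := (⟨a, ha'⟩ : C))
    (by rwa [Subgroup.orderOf_mk]) hP (Subgroup.mem_zpowers (⟨b, hb'⟩ : C))).eq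

theorem isPGroup_zpowers_of_mem {p : ℕ} {P : Subgroup G} (hP : IsPGroup p P) {x : G} (hx : x ∈ P) :
    IsPGroup p (Subgroup.zpowers x) :=
  hP.to_le (Subgroup.zpowers_le.2 hx)

section Local

variable {p : ℕ} [Fact p.Prime]

/-- Without a normal Sylow subgroup the `p'`-core of a CN group with non-trivial `p`-core is trivial. -/
theorem cn_pPrimeCore_eq_bot (hCN : IsCNGroup G) (hD : Cfsg.pCore p G ≠ ⊥)
    (hn : ∀ R : Sylow p G, ¬ (R : Subgroup G).Normal) : Cfsg.pPrimeCore p G = ⊥ := by
  by_contra hK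
  haveI hKn : (Cfsg.pPrimeCore p G).Normal := Subgroup.sSup_normal _ (fun _ h => h.1)
  haveI hDn := CfsgLib.Coprime.pCore_normal' (G := G) p
  set K := Cfsg.pPrimeCore p G
  set D := Cfsg.pCore p G
  obtain ⟨R⟩ := (inferInstance : Nonempty (Sylow p G))
  haveI : Group.IsNilpotent (R : Subgroup G) := R.2.isNilpotent
  have hDR : D ≤ R := CfsgLib.Coprime.pCore_le_sylow R
  have hz : D.subgroupOf (R : Subgroup G) ⊓ Subgroup.center (R : Subgroup G) ≠ ⊥ :=
    CfsgLib.Coprime.nilpotent_inf_center_ne_bot _ fun h => hD (by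
      rw [← Subgroup.map_subgroupOf_eq_of_le hDR, h, Subgroup.map_bot])
  obtain ⟨⟨d, hd⟩, hd1⟩ := Subgroup.ne_bot_iff_exists_ne_one.1 hz
  have hd1' : (d : G) ≠ 1 := fun e => hd1 (Subtype.ext (Subtype.ext e))
  obtain ⟨⟨y, hy⟩, hy1⟩ := Subgroup.ne_bot_iff_exists_ne_one.1 hK
  have hKcop : (Nat.card K).Coprime p := CfsgLib.Coprime.pPrimeCore_coprime (Fact.out : p.Prime)
  have hdis : Disjoint K D := by
    rw [disjoint_iff]
    refine Subgroup.inf_eq_bot_of_coprime ?_
    obtain ⟨n, hn⟩ := IsPGroup.iff_card.1 (CfsgLib.Coprime.pCore_isPGroup (G := G) p)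
    rw [hn]
    exact hKcop.pow_right n
  have hKR : (R : Subgroup G) ≤ Subgroup.centralizer (K : Set G) := by
    intro r hr
    refine Subgroup.mem_centralizer_iff.2 fun k hk => ?_
    refine cn_commute hCN hd1' (Subgroup.commute_of_normal_of_disjoint _ _ hKn hDn hdis k d hk hd.1).eq
      (congrArg Subtype.val (Subgroup.mem_center_iff.1 hd.2 ⟨r, hr⟩))
      ((hKcop.of_dvd_left (Subgroup.orderOf_dvd_natCard K hk)))
      (isPGroup_zpowers_of_mem R.2 hr)
  set X := Subgroup.centralizer (K : Set G) with hX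
  haveI : Group.IsNilpotent X := CfsgLib.Coprime.isNilpotent_of_le
    (fun x hx => Subgroup.mem_centralizer_singleton_iff.2
      (Subgroup.mem_centralizer_iff.1 hx y hy).symm) (hCN y fun e => hy1 (Subtype.ext e))
  have hRn : ((R.subtype hKR : Sylow p X) : Subgroup X).Normal :=
    Sylow.normal_of_normalizerCondition Group.normalizerCondition_of_isNilpotent _
  haveI := (R.subtype hKR).characteristic_of_normal hRn
  refine hn R ?_
  have h := CfsgLib.Coprime.map_subtype_normal_of_characteristic X ((R.subtype hKR : Sylow p X) : Subgroup X)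
  rwa [show ((R.subtype hKR : Sylow p X) : Subgroup X) = (R : Subgroup G).subgroupOf X from rfl,
    Subgroup.map_subgroupOf_eq_of_le hKR] at h

/-- A CN group with non-trivial `p`-core and no normal Sylow subgroup is `p`-constrained. -/
theorem cn_centralizer_pCore_le (hCN : IsCNGroup G) (hD : Cfsg.pCore p G ≠ ⊥)
    (hn : ∀ R : Sylow p G, ¬ (R : Subgroup G).Normal) :
    Subgroup.centralizer (Cfsg.pCore p G : Set G) ≤ Cfsg.pCore p G := by
  haveI := CfsgLib.Coprime.pCore_normal' (G := G) p
  obtain ⟨⟨d, hd⟩, hd1⟩ := Subgroup.ne_bot_iff_exists_ne_one.1 hD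
  refine (CfsgLib.Coprime.le_fitting (CfsgLib.Coprime.isNilpotent_of_le
    (fun x hx => Subgroup.mem_centralizer_singleton_iff.2
      (Subgroup.mem_centralizer_iff.1 hx d hd).symm) (hCN d fun e => hd1 (Subtype.ext e)))).trans
    (CfsgLib.Coprime.fitting_eq_pCore_of_pPrimeCore_eq_bot (cn_pPrimeCore_eq_bot hCN hD hn)).le

variable {D : Subgroup G} (hD : IsPGroup p D) (hC : Subgroup.centralizer (D : Set G) ≤ D)

include hD hC

/-- Elements of order prime to `p` act fixed point freely. -/
theorem cn_fpf (hCN : IsCNGroup G) {y : G} (hy1 : y ≠ 1) (hy : (orderOf y).Coprime p) {d : G}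
    (hd : d ∈ D) (hc : y * d = d * y) : d = 1 := by
  by_contra hd1
  haveI : Nontrivial D := (Subgroup.nontrivial_iff_ne_bot D).2 fun h => hd1 (Subgroup.mem_bot.1 (h ▸ hd))
  haveI := hD.center_nontrivial
  obtain ⟨⟨z, hz⟩, hz1⟩ := exists_ne (1 : Subgroup.center D)
  have hz1' : (z : G) ≠ 1 := fun e => hz1 (Subtype.ext (Subtype.ext e))
  have hzD : ∀ e ∈ D, e * (z : G) = z * e := fun e he =>
    congrArg Subtype.val (Subgroup.mem_center_iff.1 hz ⟨e, he⟩)
  have hyz : y * (z : G) = z * y :=
    cn_commute hCN hd1 hc (hzD d hd).symm hy (isPGroup_zpowers_of_mem hD z.2)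
  have hyD : y ∈ D := hC (Subgroup.mem_centralizer_iff.2 fun e he =>
    (cn_commute hCN hz1' hyz (hzD e he) hy (isPGroup_zpowers_of_mem hD he)).symm)
  obtain ⟨n, hn⟩ := IsPGroup.iff_card.1 hD
  exact hy1 (orderOf_eq_one_iff.1 (Nat.eq_one_of_dvd_coprimes (hy.pow_right n) dvd_rfl
    (hn ▸ Subgroup.orderOf_dvd_natCard D hyD)))

/-- The quotient of a constrained CN group by the `p`-subgroup is again a CN group. -/
theorem cn_quotient [D.Normal] (hCN : IsCNGroup G) : IsCNGroup (G ⧸ D) := by
  classical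
  have lift : ∀ (q : ℕ), q.Prime → q ≠ p → ∀ xq : G ⧸ D, orderOf xq = q → ∃ t : G, t ≠ 1 ∧
      (orderOf t).Coprime p ∧ Subgroup.centralizer ({xq} : Set (G ⧸ D)) ≤
        (Subgroup.centralizer ({t} : Set G)).map (QuotientGroup.mk' D) := by
    intro q hq hqp xq hxq
    haveI := Fact.mk hq
    set E := (Subgroup.zpowers xq).comap (QuotientGroup.mk' D) with hE
    have hqE : q ∣ Nat.card E := by
      have h := Subgroup.card_map_dvd E (QuotientGroup.mk' D)
      rwa [Subgroup.map_comap_eq_self_of_surjective (QuotientGroup.mk'_surjective D),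
        Nat.card_zpowers, hxq] at h
    obtain ⟨⟨t, htE⟩, ht⟩ := exists_prime_orderOf_dvd_card' q hqE
    rw [Subgroup.orderOf_mk] at ht
    have ht1 : t ≠ 1 := fun e => hq.ne_one (by rw [← ht, e, orderOf_one])
    have htp : (orderOf t).Coprime p := ht ▸ (Nat.coprime_primes hq Fact.out).2 hqp
    have htD : t ∉ D := fun h => by
      obtain ⟨n, hn⟩ := IsPGroup.iff_card.1 hD
      exact hqp ((Nat.prime_dvd_prime_iff_eq hq Fact.out).1
        (hq.dvd_of_dvd_pow (ht ▸ hn ▸ Subgroup.orderOf_dvd_natCard D h)))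
    obtain ⟨j, hj⟩ := Subgroup.mem_zpowers_iff.1 (Subgroup.mem_comap.1 htE)
    have hgen : xq ∈ Subgroup.zpowers (QuotientGroup.mk' D t) := by
      haveI : Fact (Nat.card (Subgroup.zpowers xq)).Prime := ⟨by rw [Nat.card_zpowers, hxq]; exact hq⟩
      have h := zpowers_eq_top_of_prime_card (G := Subgroup.zpowers xq) rfl
        (g := ⟨_, htE⟩) (fun e => htD ((QuotientGroup.eq_one_iff t).1 (congrArg Subtype.val e)))
      obtain ⟨i, hi⟩ := Subgroup.mem_zpowers_iff.1
        (h.ge (Subgroup.mem_top (⟨xq, Subgroup.mem_zpowers xq⟩ : Subgroup.zpowers xq)))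
      exact ⟨i, congrArg Subtype.val hi⟩
    refine ⟨t, ht1, htp, fun c hc => ?_⟩
    obtain ⟨g, rfl⟩ := QuotientGroup.mk'_surjective D c
    have hcx : Commute (QuotientGroup.mk' D g) (QuotientGroup.mk' D t) := by
      rw [← hj]
      exact (show Commute _ xq from Subgroup.mem_centralizer_singleton_iff.1 hc).zpow_right j
    -- the conjugates of `t` by `D` fill the coset
    let f : D → D := fun d => ⟨(d : G) * t * (d : G)⁻¹ * t⁻¹, by
      rw [show (d : G) * t * (d : G)⁻¹ * t⁻¹ = d * (t * (d : G)⁻¹ * t⁻¹) by group]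
      exact D.mul_mem d.2 (Subgroup.Normal.conj_mem inferInstance _ (D.inv_mem d.2) t)⟩
    have hf : Function.Injective f := fun a b hab => by
      have h : (a : G) * t * (a : G)⁻¹ = b * t * (b : G)⁻¹ :=
        mul_right_cancel (congrArg Subtype.val hab)
      refine Subtype.ext (inv_mul_eq_one.1 (cn_fpf hD hC hCN ht1 htp (D.mul_mem (D.inv_mem b.2) a.2) ?_)).symm
      calc t * ((b : G)⁻¹ * a) = (b : G)⁻¹ * ((b : G) * t * (b : G)⁻¹) * a := by group
        _ = (b : G)⁻¹ * ((a : G) * t * (a : G)⁻¹) * a := by rw [h]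
        _ = (b : G)⁻¹ * a * t := by group
    have hmem : g * t * g⁻¹ * t⁻¹ ∈ D := by
      rw [← QuotientGroup.ker_mk' D, MonoidHom.mem_ker]
      simp only [map_mul, map_inv]
      rw [hcx.eq, mul_inv_cancel_right, mul_inv_cancel]
    obtain ⟨d, hd⟩ := (Finite.injective_iff_surjective.1 hf) ⟨_, hmem⟩
    have h : (d : G) * t * (d : G)⁻¹ = g * t * g⁻¹ := mul_right_cancel (congrArg Subtype.val hd)
    refine ⟨(d : G)⁻¹ * g, Subgroup.mem_centralizer_singleton_iff.2 ?_, ?_⟩
    · calc (d : G)⁻¹ * g * t = (d : G)⁻¹ * (g * t * g⁻¹) * g := by group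
        _ = t * ((d : G)⁻¹ * g) := by rw [← h]; group
    · rw [map_mul, map_inv, show QuotientGroup.mk' D (d : G) = 1 from
        (QuotientGroup.eq_one_iff _).2 d.2, inv_one, one_mul]
  intro x hx
  obtain ⟨r, hr, hrx⟩ := Nat.exists_prime_and_dvd (fun h => hx (orderOf_eq_one_iff.1 h))
  set xr := x ^ (orderOf x / r) with hxr
  have hxr' : orderOf xr = r := orderOf_pow_orderOf_div (orderOf_pos x).ne' hrx
  suffices h : Group.IsNilpotent (Subgroup.centralizer ({xr} : Set (G ⧸ D))) by
    refine CfsgLib.Coprime.isNilpotent_of_le (fun c hc => ?_) h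
    exact Subgroup.mem_centralizer_singleton_iff.2
      ((show Commute c x from Subgroup.mem_centralizer_singleton_iff.1 hc).pow_right _)
  by_cases hrp : r = p
  · subst hrp
    refine IsPGroup.isNilpotent (p := r) (IsPGroup.iff_card.2 ?_)
    refine ⟨_, Nat.eq_prime_pow_of_unique_prime_dvd Nat.card_pos.ne' fun {q} hq hqd => ?_⟩
    by_contra hqr
    haveI := Fact.mk hq
    obtain ⟨⟨y, hy⟩, hyq⟩ := exists_prime_orderOf_dvd_card' q hqd
    rw [Subgroup.orderOf_mk] at hyq
    obtain ⟨t, ht1, htp, hle⟩ := lift q hq hqr y hyq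
    obtain ⟨x', hx', hx'e⟩ := hle (Subgroup.mem_centralizer_singleton_iff.2
      (Subgroup.mem_centralizer_singleton_iff.1 hy).symm)
    obtain ⟨a, k, hk, hxk⟩ :=
      Nat.exists_eq_pow_mul_and_not_dvd (orderOf_pos x').ne' r (Fact.out : r.Prime).ne_one
    have hx''1 : x' ^ k ≠ 1 := fun e => hk (by
      have h := congrArg (QuotientGroup.mk' D) e
      rw [map_pow, hx'e, map_one] at h
      exact hxr' ▸ orderOf_dvd_of_pow_eq_one h)
    have hP : IsPGroup r (Subgroup.zpowers (x' ^ k)) := by
      refine IsPGroup.of_card (n := a) ?_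
      rw [Nat.card_zpowers, orderOf_pow_of_dvd (fun e => hk (by simp [e])) (Dvd.intro_left _ hxk.symm),
        hxk, Nat.mul_div_cancel _ (Nat.pos_of_ne_zero fun e => hk (by simp [e]))]
    set B := D ⊔ Subgroup.zpowers (x' ^ k) with hB
    haveI : Group.IsNilpotent B := (hD.to_sup_of_normal_left hP).isNilpotent
    have hDB : D ≤ B := le_sup_left
    have hz : D.subgroupOf B ⊓ Subgroup.center B ≠ ⊥ := by
      refine CfsgLib.Coprime.nilpotent_inf_center_ne_bot _ fun h => ht1 ?_
      have hDb : D = ⊥ := by rw [← Subgroup.map_subgroupOf_eq_of_le hDB, h, Subgroup.map_bot]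
      exact Subgroup.mem_bot.1 (hDb ▸ hC (Subgroup.mem_centralizer_iff.2 fun e he => by
        rw [hDb] at he; simp [Subgroup.mem_bot.1 he]))
    obtain ⟨⟨d, hd⟩, hd1⟩ := Subgroup.ne_bot_iff_exists_ne_one.1 hz
    refine hd1 (Subtype.ext (Subtype.ext (cn_fpf hD hC hCN ht1 htp hd.1 ?_)))
    refine cn_commute hCN hx''1 ?_ ?_ htp (isPGroup_zpowers_of_mem hD hd.1)
    · exact (show Commute t x' from (Subgroup.mem_centralizer_singleton_iff.1 hx').symm).pow_right k
    · exact (congrArg Subtype.val (Subgroup.mem_center_iff.1 hd.2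
        ⟨x' ^ k, le_sup_right (a := D) (Subgroup.mem_zpowers _)⟩)).symm
  · obtain ⟨t, ht1, -, hle⟩ := lift r hr hrp xr hxr'
    haveI : Group.IsNilpotent (Subgroup.centralizer ({t} : Set G)) := hCN t ht1
    exact CfsgLib.Coprime.isNilpotent_of_le hle (Group.nilpotent_of_surjective
      ((QuotientGroup.mk' D).subgroupMap _) ((QuotientGroup.mk' D).subgroupMap_surjective _))

/-- A constrained solvable CN group of odd order with Sylow subgroup inside its derived group. -/
theorem cn_sylow_normal_of_le_commutator [Group.IsSolvable G] [D.Normal] (hCN : IsCNGroup G)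
    (hodd : Odd (Nat.card G)) (hcore : Cfsg.pCore p G = D) (P : Sylow p G)
    (hP : (P : Subgroup G) ≤ commutator G) : (P : Subgroup G).Normal := by
  classical
  set π := QuotientGroup.mk' D with hπ
  haveI : Group.IsSolvable (G ⧸ D) :=
    Group.isSolvable_of_surjective (QuotientGroup.mk'_surjective D)
  set F := Cfsg.fittingSubgroup (G ⧸ D) with hF
  haveI hFn : F.Normal := CfsgLib.Coprime.fitting_normal
  haveI : Group.IsNilpotent F := CfsgLib.Coprime.fitting_isNilpotent
  have hpF : ¬ p ∣ Nat.card F := by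
    intro hd
    obtain ⟨S⟩ := (inferInstance : Nonempty (Sylow p F))
    have hSn : (S : Subgroup F).Normal :=
      Sylow.normal_of_normalizerCondition Group.normalizerCondition_of_isNilpotent S
    haveI := S.characteristic_of_normal hSn
    haveI := CfsgLib.Coprime.map_subtype_normal_of_characteristic F (S : Subgroup F)
    have h := CfsgLib.Coprime.le_pCore (N := (S : Subgroup F).map F.subtype) (S.2.map F.subtype)
    have hbot : Cfsg.pCore p (G ⧸ D) = ⊥ := by
      subst hcore
      exact CfsgLib.Coprime.pCore_quotient_eq_bot p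
    rw [hbot, le_bot_iff, Subgroup.map_eq_bot_iff_of_injective _ F.subtype_injective] at h
    exact S.ne_bot_of_dvd_card hd h
  obtain ⟨n, hn⟩ := IsPGroup.iff_card.1 hD
  set F₁ := F.comap π with hF₁
  have hDF : D ≤ F₁ := by
    intro x hx
    rw [hF₁, Subgroup.mem_comap, show π x = 1 from (QuotientGroup.eq_one_iff x).2 hx]
    exact one_mem _
  have hcard : Nat.card F₁ = Nat.card D * Nat.card F := by
    rw [CfsgLib.Coprime.card_eq_card_mul_card_map_mk' D hDF,
      Subgroup.map_comap_eq_self_of_surjective (QuotientGroup.mk'_surjective D)]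
  have hidx : (D.subgroupOf F₁).index = Nat.card F := by
    have h := (D.subgroupOf F₁).card_mul_index
    rw [Nat.card_congr (Subgroup.subgroupOfEquivOfLe hDF).toEquiv, hcard] at h
    exact mul_left_cancel₀ Nat.card_pos.ne' h
  obtain ⟨W, hW⟩ := Subgroup.exists_right_complement'_of_coprime (N := D.subgroupOf F₁) (by
    rw [Nat.card_congr (Subgroup.subgroupOfEquivOfLe hDF).toEquiv, hidx, hn]
    exact ((Fact.out : p.Prime).coprime_iff_not_dvd.2 hpF).pow_left n)
  set W' := W.map F₁.subtype with hW'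
  have hWcard : Nat.card W' = Nat.card F := by
    rw [hW', ← Nat.card_congr (W.equivMapOfInjective F₁.subtype F₁.subtype_injective).toEquiv,
      ← hidx, hW.symm.index_eq_card]
  have hWF : W' ≤ F₁ := Subgroup.map_subtype_le _
  let f : W' →* F := (π.comp W'.subtype).codRestrict F fun w => hWF w.2
  have hf : Function.Injective f := by
    refine (injective_iff_map_eq_one f).2 fun w hw => Subtype.ext ?_
    have h1 : (w : G) ∈ D := (QuotientGroup.eq_one_iff _).1 (congrArg Subtype.val hw)
    refine orderOf_eq_one_iff.1 (Nat.eq_one_of_dvd_coprimes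
      (((Fact.out : p.Prime).coprime_iff_not_dvd.2 hpF).pow_left n) (hn ▸ Subgroup.orderOf_dvd_natCard D h1)
      (hWcard ▸ Subgroup.orderOf_dvd_natCard W' w.2))
  have hfb : Function.Bijective f := by
    rw [Nat.bijective_iff_injective_and_card]
    exact ⟨hf, hWcard⟩
  let e : W' ≃* F := MulEquiv.ofBijective f hfb
  have hfpf : CfsgLib.Coprime.IsFpfOn W' D := by
    intro w hw hw1
    refine (Subgroup.eq_bot_iff_forall _).2 fun d hd => ?_
    refine cn_fpf hD hC hCN hw1 ?_ hd.1 (Subgroup.mem_centralizer_singleton_iff.1 hd.2).symm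
    exact ((Fact.out : p.Prime).coprime_iff_not_dvd.2 hpF).symm.of_dvd_left
      (hWcard ▸ Subgroup.orderOf_dvd_natCard W' hw)
  haveI hcyc : IsCyclic F := by
    by_cases hDb : D = ⊥
    · haveI : Subsingleton G := ⟨fun a b => by
        have h : ∀ x : G, x = 1 := fun x => Subgroup.mem_bot.1 (hDb ▸ hC (Subgroup.mem_centralizer_iff.2
          fun e he => by rw [hDb] at he; simp [Subgroup.mem_bot.1 he]))
        rw [h a, h b]⟩
      haveI : Subsingleton W' := inferInstance
      haveI : Subsingleton F := e.symm.injective.subsingleton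
      exact isCyclic_of_subsingleton
    haveI : Group.IsNilpotent W' := Group.nilpotent_of_mulEquiv e.symm
    haveI : IsZGroup W' := by
      refine ⟨fun r hr S => ?_⟩
      haveI := Fact.mk hr
      rcases CfsgLib.Coprime.IsFpfOn.sylow_cyclic_or_quaternion
        (by rw [Subgroup.normalizer_eq_top]; exact le_top) hfpf hDb S with h | ⟨rfl, -⟩
      · exact h
      · have hS : Nat.card (S : Subgroup W') = 1 := by
          rw [S.card_eq_multiplicity, Nat.factorization_eq_zero_of_not_dvd, pow_zero]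
          have := hodd.of_dvd_nat (Subgroup.card_subgroup_dvd_card W')
          exact fun h2 => Nat.not_even_iff_odd.2 this (even_iff_two_dvd.2 h2)
        haveI := (Nat.card_eq_one_iff_unique.1 hS).1
        exact isCyclic_of_subsingleton
    exact isCyclic_of_surjective e e.surjective
  have hcomm : commutator (G ⧸ D) ≤ F := by
    refine le_trans ?_ (CfsgLib.Coprime.centralizer_fitting_le (G := G ⧸ D))
    rw [commutator_def, Subgroup.commutator_le]
    intro a _ b _
    let _ := (hcyc.mulAutMulEquiv _).toMonoidHom.commGroupOfInjective (hcyc.mulAutMulEquiv _).injective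
    have h : MulAut.conjNormal (H := F) ⁅a, b⁆ = 1 := by
      rw [map_commutatorElement]
      exact commutatorElement_eq_one_iff_commute.2 (mul_comm _ _)
    refine Subgroup.mem_centralizer_iff.2 fun x hx => ?_
    have h2 := congrArg (fun φ : MulAut F => ((φ ⟨x, hx⟩ : F) : G ⧸ D)) h
    simp only [MulAut.conjNormal_apply, MulAut.one_apply] at h2
    exact (mul_inv_eq_iff_eq_mul.1 h2).symm
  have hPD : (P : Subgroup G) ≤ D := by
    intro x hx
    have h1 : π x ∈ F := hcomm (by
      rw [commutator_def]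
      have h2 := Subgroup.mem_map_of_mem π (hP hx)
      rw [commutator_def, Subgroup.map_commutator, Subgroup.map_top_of_surjective _
        (QuotientGroup.mk'_surjective D)] at h2
      exact h2)
    obtain ⟨m, hm⟩ := IsPGroup.iff_card.1 P.2
    refine (QuotientGroup.eq_one_iff x).1 (orderOf_eq_one_iff.1 (Nat.eq_one_of_dvd_coprimes
      (((Fact.out : p.Prime).coprime_iff_not_dvd.2 hpF).pow_left m)
      ((orderOf_map_dvd π x).trans (hm ▸ Subgroup.orderOf_dvd_natCard _ hx))
      (Subgroup.orderOf_dvd_natCard F h1)))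
  rw [le_antisymm hPD (P.is_maximal' hD hPD).le]
  infer_instance

end Local

end CfsgLib.Char
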