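import Mathlib

/-!
# Fixed point dimensions of coprime actions by lifting to characteristic zero approximations

A representation over the field with `p` elements of a group of order prime to `p` lifts to the
integers modulo `p ^ k`, where the trace of an averaging idempotent determines the rank.
-/

set_option autoImplicit false
set_option linter.unusedSectionVars false

namespace CfsgLib.Char

open Matrix

section lift

variable (p k n : ℕ) [hp : Fact p.Prime]

/-- Reduction of matrices modulo `p`. -/
abbrev redMat (hk : 1 ≤ k) :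
    Matrix (Fin n) (Fin n) (ZMod (p ^ k)) →+* Matrix (Fin n) (Fin n) (ZMod p) :=
  (ZMod.castHom (dvd_pow_self p (by omega)) (ZMod p)).mapMatrix

theorem isUnit_of_red (hk : 1 ≤ k) {a : ZMod (p ^ k)}
    (h : ZMod.castHom (dvd_pow_self p (by omega : k ≠ 0)) (ZMod p) a ≠ 0) : IsUnit a := by
  haveI : NeZero (p ^ k) := ⟨pow_ne_zero _ hp.out.ne_zero⟩
  rw [← ZMod.natCast_zmod_val a] at h ⊢
  rw [map_natCast, Ne, ZMod.natCast_eq_zero_iff] at h
  exact (ZMod.isUnit_iff_coprime _ _).2 (((hp.out.coprime_iff_not_dvd).2 h).symm.pow_right k)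

theorem isUnit_mat_of_red (hk : 1 ≤ k) {A : Matrix (Fin n) (Fin n) (ZMod (p ^ k))}
    (h : IsUnit (redMat p k n hk A)) : IsUnit A := by
  rw [Matrix.isUnit_iff_isUnit_det] at h ⊢
  refine isUnit_of_red p k hk ?_
  rw [RingHom.map_det]
  exact h.ne_zero

theorem exists_preimage_mat (hk : 1 ≤ k) (B : Matrix (Fin n) (Fin n) (ZMod p)) :
    ∃ A, redMat p k n hk A = B := by
  have hs : Function.Surjective (ZMod.castHom (dvd_pow_self p (by omega : k ≠ 0)) (ZMod p)) :=
    ZMod.ringHom_surjective _
  choose g hg using fun i j => hs (B i j)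
  exact ⟨Matrix.of g, Matrix.ext fun i j => hg i j⟩

theorem exists_lift_rep {X : Type*} [Group X] [Finite X] (hk : 1 ≤ k) (hX : ¬ p ∣ Nat.card X)
    (ρ : X →* (Matrix (Fin n) (Fin n) (ZMod p))ˣ) :
    ∃ φ : X →* Matrix (Fin n) (Fin n) (ZMod (p ^ k)),
      ∀ x, redMat p k n hk (φ x) = (ρ x : Matrix (Fin n) (Fin n) (ZMod p)) := by
  classical
  haveI : NeZero (p ^ k) := ⟨pow_ne_zero _ hp.out.ne_zero⟩
  set r := redMat p k n hk with hr
  set π := Units.map r.toMonoidHom with hπ
  let L : Subgroup (X × (Matrix (Fin n) (Fin n) (ZMod (p ^ k)))ˣ) :=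
    MonoidHom.eqLocus (π.comp (MonoidHom.snd _ _)) (ρ.comp (MonoidHom.fst _ _))
  let q : L →* X := (MonoidHom.fst _ _).comp L.subtype
  have hq : Function.Surjective q := by
    intro x
    obtain ⟨A, hA⟩ := exists_preimage_mat p k n hk (ρ x : Matrix (Fin n) (Fin n) (ZMod p))
    have hu : IsUnit A := isUnit_mat_of_red p k n hk (by rw [hA]; exact (ρ x).isUnit)
    exact ⟨⟨(x, hu.unit), Units.ext hA⟩, rfl⟩
  haveI : q.ker.Normal := inferInstance
  -- the kernel has `p`-power order
  have hker : ∃ m, Nat.card q.ker = p ^ m := by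
    let D := r.toAddMonoidHom.ker
    have e : q.ker ≃ D :=
      { toFun := fun z => ⟨(z.1.1.2 : Matrix (Fin n) (Fin n) (ZMod (p ^ k))) - 1, by
          have h1 : z.1.1.1 = 1 := z.2
          have h2 : π z.1.1.2 = ρ z.1.1.1 := z.1.2
          rw [h1, map_one] at h2
          have h3 : r (z.1.1.2 : Matrix (Fin n) (Fin n) (ZMod (p ^ k))) = 1 := congrArg Units.val h2
          show r _ = 0
          rw [map_sub, h3, map_one, sub_self]⟩
        invFun := fun d => ⟨⟨(1, (isUnit_mat_of_red p k n hk (A := 1 + d.1) (by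
            have hd : r d.1 = 0 := d.2
            rw [map_add, map_one, hd, add_zero]; exact isUnit_one)).unit), by
            refine Units.ext ?_
            have hd : r d.1 = 0 := d.2
            show r (1 + d.1) = ((ρ 1 : _ˣ) : Matrix (Fin n) (Fin n) (ZMod p))
            rw [map_add, map_one, hd, add_zero, map_one]; rfl⟩, rfl⟩
        left_inv := fun z => by
          refine Subtype.ext (Subtype.ext (Prod.ext (z.2 : z.1.1.1 = 1).symm (Units.ext ?_)))
          show 1 + ((z.1.1.2 : Matrix (Fin n) (Fin n) (ZMod (p ^ k))) - 1) = _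
          abel
        right_inv := fun d => Subtype.ext (by
          show (1 + d.1) - 1 = d.1
          abel) }
    rw [Nat.card_congr e]
    have hdvd : Nat.card D ∣ p ^ (k * (n * n)) := by
      refine (AddSubgroup.card_addSubgroup_dvd_card D).trans (dvd_of_eq ?_)
      simp [Matrix, Nat.card_fun, Nat.card_pi, ← pow_mul, mul_assoc]
    obtain ⟨m, -, hm⟩ := (Nat.dvd_prime_pow hp.out).1 hdvd
    exact ⟨m, hm⟩
  obtain ⟨m, hm⟩ := hker
  have hindex : q.ker.index = Nat.card X := by
    rw [Subgroup.index_ker, MonoidHom.range_eq_top.2 hq, Subgroup.card_top]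
  obtain ⟨C, hC⟩ := Subgroup.exists_left_complement'_of_coprime (N := q.ker)
    (by rw [hm, hindex]; exact ((hp.out.coprime_iff_not_dvd).2 hX).pow_left m)
  have hinj : Function.Injective (q.comp C.subtype) := by
    rw [injective_iff_map_eq_one]
    intro c hc
    exact Subtype.ext ((Subgroup.disjoint_def.1 hC.disjoint) c.2 hc)
  have hsurj : Function.Surjective (q.comp C.subtype) := by
    refine (Nat.bijective_iff_injective_and_card _).2 ⟨hinj, ?_⟩ |>.2
    have h1 := hC.index_eq_card
    rw [← h1, hindex]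
  let e := MulEquiv.ofBijective (q.comp C.subtype) ⟨hinj, hsurj⟩
  refine ⟨(Units.coeHom _).comp ((MonoidHom.snd _ _).comp (L.subtype.comp (C.subtype.comp
    e.symm.toMonoidHom))), fun x => ?_⟩
  have h2 : π (e.symm x).1.1.2 = ρ (e.symm x).1.1.1 := (e.symm x).1.2
  have h3 : (e.symm x).1.1.1 = x := e.apply_symm_apply x
  rw [h3] at h2
  exact congrArg Units.val h2

/-- The trace of a lifted idempotent is the rank of the fixed space. -/
theorem trace_idempotent (hk : 1 ≤ k) {P : Matrix (Fin n) (Fin n) (ZMod (p ^ k))} (hP : P * P = P) :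
    ∃ r : ℕ, r ≤ n ∧ P.trace = (r : ZMod (p ^ k)) ∧
      Nat.card {v : Fin n → ZMod p // redMat p k n hk P *ᵥ v = v} = p ^ r := by
  classical
  set f := Matrix.toLin' (redMat p k n hk P) with hf
  have hff : f ∘ₗ f = f := by rw [hf, ← Matrix.toLin'_mul, ← map_mul, hP]
  have hproj : LinearMap.IsProj (LinearMap.range f) f :=
    ⟨fun v => LinearMap.mem_range_self f v, fun v ⟨w, hw⟩ => by
      rw [← hw]; exact LinearMap.congr_fun hff w⟩
  have hcompl : IsCompl (LinearMap.range f) (LinearMap.ker f) := hproj.isCompl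
  set r := Module.finrank (ZMod p) (LinearMap.range f) with hr
  set s := Module.finrank (ZMod p) (LinearMap.ker f) with hs
  obtain ⟨b, hb0⟩ : ∃ b : Module.Basis (Fin r ⊕ Fin s) (ZMod p) (Fin n → ZMod p),
      ∀ x, f (b x) = Sum.elim (fun _ => (1 : ZMod p)) (fun _ => 0) x • b x := by
    refine ⟨((Module.finBasis (ZMod p) (LinearMap.range f)).prod
      (Module.finBasis (ZMod p) (LinearMap.ker f))).map (Submodule.prodEquivOfIsCompl _ _ hcompl),
      fun x => ?_⟩
    rcases x with a | a
    · simp only [Sum.elim_inl, one_smul, Module.Basis.map_apply, Submodule.coe_prodEquivOfIsCompl']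
      simpa using hproj.map_id _ ((Module.finBasis (ZMod p) (LinearMap.range f)) a).2
    · simp [Module.Basis.map_apply, Submodule.coe_prodEquivOfIsCompl']
  have hrs : r + s = n := by
    have h := Module.finrank_eq_card_basis b
    rw [Module.finrank_fin_fun, Fintype.card_sum, Fintype.card_fin, Fintype.card_fin] at h
    exact h.symm
  let e : Fin n ≃ Fin r ⊕ Fin s := (finCongr hrs.symm).trans finSumFinEquiv.symm
  obtain ⟨b', hb'⟩ : ∃ b' : Module.Basis (Fin n) (ZMod p) (Fin n → ZMod p), ∀ i, b' i = b (e i) :=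
    ⟨b.reindex e.symm, fun i => by simp⟩
  -- eigenvalues of the basis vectors
  let d : Fin n → ZMod (p ^ k) := fun i => Sum.elim (fun _ => 1) (fun _ => 0) (e i)
  have hb : ∀ i, f (b' i) = Sum.elim (fun _ => (1 : ZMod p)) (fun _ => 0) (e i) • b' i := fun i => by
    rw [hb']; exact hb0 (e i)
  obtain ⟨Q₀, hQ₀⟩ := exists_preimage_mat p k n hk (Matrix.of fun i j => b' j i)
  -- the lifted adapted basis
  set Q := P * Q₀ * Matrix.diagonal d + (1 - P) * Q₀ * (1 - Matrix.diagonal d) with hQ
  have hPQ : P * Q = Q * Matrix.diagonal d := by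
    have hdd : Matrix.diagonal d * Matrix.diagonal d = Matrix.diagonal d := by
      rw [Matrix.diagonal_mul_diagonal]
      refine congrArg _ (funext fun i => ?_)
      simp only [d]; rcases e i <;> simp
    have h0 : (1 - Matrix.diagonal d) * Matrix.diagonal d = 0 := by rw [sub_mul, one_mul, hdd, sub_self]
    have h1 : P * (1 - P) = 0 := by rw [mul_sub, mul_one, hP, sub_self]
    rw [hQ]
    calc P * (P * Q₀ * Matrix.diagonal d + (1 - P) * Q₀ * (1 - Matrix.diagonal d))
        = (P * P) * Q₀ * Matrix.diagonal d + (P * (1 - P)) * Q₀ * (1 - Matrix.diagonal d) := by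
          simp only [mul_add, mul_assoc]
      _ = P * Q₀ * Matrix.diagonal d := by rw [hP, h1]; simp
      _ = P * Q₀ * (Matrix.diagonal d * Matrix.diagonal d) +
          (1 - P) * Q₀ * ((1 - Matrix.diagonal d) * Matrix.diagonal d) := by rw [hdd, h0]; simp
      _ = _ := by simp only [add_mul, mul_assoc]
  have hred : redMat p k n hk Q = Matrix.of fun i j => b' j i := by
    rw [hQ, map_add, map_mul, map_mul, map_mul, map_mul, map_sub, map_sub, map_one, hQ₀]
    have hd : redMat p k n hk (Matrix.diagonal d) =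
        Matrix.diagonal (fun i => Sum.elim (fun _ => (1 : ZMod p)) (fun _ => 0) (e i)) := by
      refine (Matrix.diagonal_map (map_zero _)).trans (congrArg _ (funext fun i => ?_))
      simp only [d]; rcases e i <;> simp [ZMod.cast_one (dvd_pow_self p (by omega : k ≠ 0))]
    have hPb : redMat p k n hk P * Matrix.of (fun i j => b' j i) = Matrix.of (fun i j => b' j i) *
        Matrix.diagonal (fun i => Sum.elim (fun _ => (1 : ZMod p)) (fun _ => 0) (e i)) := by
      refine Matrix.ext fun i j => ?_
      have h := congrFun (hb j) i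
      simp only [hf, Matrix.toLin'_apply, Pi.smul_apply, smul_eq_mul] at h
      rw [Matrix.mul_diagonal, Matrix.mul_apply]
      refine h.trans ?_
      rw [Matrix.of_apply, mul_comm]
    rw [hd]
    set D := Matrix.diagonal (fun i => Sum.elim (fun _ => (1 : ZMod p)) (fun _ => 0) (e i))
    have hDD : D * D = D := by
      rw [Matrix.diagonal_mul_diagonal]
      refine congrArg _ (funext fun i => ?_)
      rcases e i <;> simp
    rw [sub_mul, one_mul, hPb, sub_mul, mul_sub, mul_one, mul_sub, mul_one, mul_assoc _ D D, hDD]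
    abel
  have hQu : IsUnit Q := by
    refine isUnit_mat_of_red p k n hk ?_
    rw [hred, Matrix.isUnit_iff_isUnit_det]
    have := (Pi.basisFun (ZMod p) (Fin n)).isUnit_det b'
    rw [Module.Basis.det_apply] at this
    convert this using 2
    refine Matrix.ext fun i j => ?_
    simp [Module.Basis.toMatrix_apply]
  refine ⟨r, by omega, ?_, ?_⟩
  · obtain ⟨u, hu⟩ := hQu
    have hPe : P = (u : Matrix (Fin n) (Fin n) (ZMod (p ^ k))) * Matrix.diagonal d * (↑u⁻¹ : Matrix _ _ _) := by
      rw [hu, ← hPQ, mul_assoc, ← hu, Units.mul_inv, mul_one]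
    rw [hPe, Matrix.trace_mul_cycle, Units.inv_mul, one_mul, Matrix.trace_diagonal,
      ← e.symm.sum_comp]
    simp [d, Fintype.sum_sum_type]
  · rw [Nat.card_congr (show {v : Fin n → ZMod p // redMat p k n hk P *ᵥ v = v} ≃ LinearMap.range f from
      Equiv.subtypeEquivRight fun v => ⟨fun h => ⟨v, (Matrix.toLin'_apply _ _).trans h⟩, fun h =>
        (Matrix.toLin'_apply _ _).symm.trans (hproj.map_id v h)⟩),
      Nat.card_eq_fintype_card, Module.card_eq_pow_finrank (K := ZMod p), ZMod.card]

end lift

end CfsgLib.Char
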