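import Mathlib
import Cfsg.Agent.Lib.Char.FixedPointLift
import Cfsg.Agent.Lib.Coprime.Action

/-!
# The fixed point formula for a Frobenius group of operators of coprime order
-/

set_option autoImplicit false
set_option linter.unusedSectionVars false
set_option linter.style.haveILetI false

namespace CfsgLib.Char

section partition

variable {X : Type*} [Group X] [Fintype X] (U E : Subgroup X) [hU : U.Normal]

theorem sum_frobenius {M : Type*} [AddCommGroup M] (hUE : U ⊓ E = ⊥) (hsup : U ⊔ E = ⊤)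
    (hfpf : ∀ e ∈ E, e ≠ 1 → ∀ u ∈ U, e * u = u * e → u = 1) [Fintype U] [Fintype E] (f : X → M) :
    ∑ x, f x + Nat.card U • f 1 = ∑ u : U, f u + ∑ u : U, ∑ e : E, f (u * e * (u : X)⁻¹) := by
  classical
  have hcard : Fintype.card U * Fintype.card E = Fintype.card X := by
    rw [← Fintype.card_prod]
    refine Fintype.card_of_bijective (f := fun p : U × E => (p.1 : X) * p.2) ⟨?_, ?_⟩
    · rintro ⟨u, e⟩ ⟨u', e'⟩ h
      have h1 : ((u' : X))⁻¹ * u = e' * (e : X)⁻¹ := by
        calc (u' : X)⁻¹ * u = (u' : X)⁻¹ * ((u : X) * e) * (e : X)⁻¹ := by group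
          _ = (u' : X)⁻¹ * ((u' : X) * e') * (e : X)⁻¹ := by rw [show (u : X) * e = u' * e' from h]
          _ = _ := by group
      have h2 : ((u' : X))⁻¹ * u ∈ U ⊓ E :=
        ⟨U.mul_mem (U.inv_mem u'.2) u.2, h1 ▸ E.mul_mem e'.2 (E.inv_mem e.2)⟩
      rw [hUE, Subgroup.mem_bot] at h2
      rw [h2] at h1
      exact Prod.ext (Subtype.ext (inv_mul_eq_one.1 h2).symm) (Subtype.ext (mul_inv_eq_one.1 h1.symm).symm)
    · intro x
      obtain ⟨u, hu, e, he, rfl⟩ := Subgroup.mem_sup_of_normal_left.1 (hsup ▸ Subgroup.mem_top x)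
      exact ⟨(⟨u, hu⟩, ⟨e, he⟩), rfl⟩
  -- the conjugates of the complement partition the outside of the kernel
  set A : Finset (U × E) := Finset.univ.filter fun p => p.2 ≠ 1 with hA
  set B : Finset X := Finset.univ.filter fun x => x ∉ U with hB
  let g : U × E → X := fun p => (p.1 : X) * p.2 * (p.1 : X)⁻¹
  have hg : ∀ p ∈ A, g p ∈ B := by
    intro p hp
    refine Finset.mem_filter.2 ⟨Finset.mem_univ _, fun h => (Finset.mem_filter.1 hp).2 (Subtype.ext ?_)⟩
    have h2 : (p.2 : X) ∈ U := by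
      have := hU.conj_mem _ h ((p.1 : X))⁻¹
      simpa [g, mul_assoc] using this
    have : (p.2 : X) ∈ U ⊓ E := ⟨h2, p.2.2⟩
    rwa [hUE, Subgroup.mem_bot] at this
  have hinj : Set.InjOn g A := by
    rintro ⟨u, e⟩ hp ⟨u', e'⟩ - h
    have he1 : (e : X) ≠ 1 := fun h1 => (Finset.mem_filter.1 hp).2 (Subtype.ext h1)
    set w : X := (u' : X)⁻¹ * u with hw
    have hwU : w ∈ U := U.mul_mem (U.inv_mem u'.2) u.2
    have h1 : w * e * w⁻¹ = e' := by
      have h' : (u : X) * e * (u : X)⁻¹ = (u' : X) * e' * (u' : X)⁻¹ := h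
      calc w * e * w⁻¹ = (u' : X)⁻¹ * ((u : X) * e * (u : X)⁻¹) * u' := by rw [hw]; group
        _ = (e' : X) := by rw [h']; group
    have h2 : (e' : X) * (e : X)⁻¹ ∈ U ⊓ E := by
      refine ⟨?_, E.mul_mem e'.2 (E.inv_mem e.2)⟩
      rw [← h1, show w * e * w⁻¹ * (e : X)⁻¹ = w * ((e : X) * w⁻¹ * (e : X)⁻¹) by group]
      exact U.mul_mem hwU (hU.conj_mem _ (U.inv_mem hwU) _)
    rw [hUE, Subgroup.mem_bot, mul_inv_eq_one] at h2
    have h3 : (e : X) * w = w * e := by
      rw [h2] at h1
      conv_lhs => rw [← h1]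
      group
    have h4 := hfpf e e.2 he1 w hwU h3
    exact Prod.ext (Subtype.ext (inv_mul_eq_one.1 h4).symm) (Subtype.ext h2.symm)
  have hAcard : A.card = Fintype.card U * Fintype.card E - Fintype.card U := by
    rw [hA, show (Finset.univ.filter fun p : U × E => p.2 ≠ 1) =
      (Finset.univ : Finset U) ×ˢ (Finset.univ.filter fun e : E => e ≠ 1) by ext; simp,
      Finset.card_product, Finset.card_univ, Finset.filter_ne', Finset.card_erase_of_mem
      (Finset.mem_univ _), Finset.card_univ, Nat.mul_sub, mul_one]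
  have hBcard : B.card = Fintype.card X - Fintype.card U := by
    rw [hB, Finset.filter_not, Finset.card_sdiff_of_subset (Finset.subset_univ _), Finset.card_univ,
      ← Fintype.card_subtype]
  have himg : A.image g = B := Finset.eq_of_subset_of_card_le (Finset.image_subset_iff.2 hg) (by
    rw [Finset.card_image_of_injOn hinj, hAcard, hBcard, hcard])
  have h1 : ∑ x, f x = ∑ u : U, f u + ∑ p ∈ A, f (g p) := by
    rw [← Finset.sum_image hinj, himg, hB, ← Finset.sum_filter_add_sum_filter_not Finset.univ (· ∈ U)]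
    congr 1
    exact Finset.sum_subtype _ (by simp) f
  have h2 : ∑ u : U, ∑ e : E, f (u * e * (u : X)⁻¹) = ∑ p ∈ A, f (g p) + Nat.card U • f 1 := by
    rw [← Fintype.sum_prod_type' (f := fun (u : U) (e : E) => f (u * e * (u : X)⁻¹)),
      ← Finset.sum_filter_add_sum_filter_not Finset.univ (fun p : U × E => p.2 ≠ 1), ← hA]
    congr 1
    rw [Finset.sum_congr rfl (g := fun _ => f 1) fun p hp => by
      simp only [Finset.mem_filter, not_not] at hp
      simp [hp.2], Finset.sum_const, show (Finset.univ.filter fun p : U × E => ¬p.2 ≠ 1) =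
      (Finset.univ : Finset U) ×ˢ ({1} : Finset E) from Finset.ext fun q => by
        simp only [Finset.mem_filter, Finset.mem_univ, true_and, not_not, Finset.mem_product, Finset.mem_singleton],
      Finset.card_product]
    simp [Nat.card_eq_fintype_card]
  rw [h1, h2, add_assoc]

end partition

section linear

variable {X : Type*} [Group X] [Finite X] (U E : Subgroup X) [hU : U.Normal]

theorem frobenius_fixed_linear {p n : ℕ} [hp : Fact p.Prime] (hpX : ¬ p ∣ Nat.card X)
    (ρ : X →* (Matrix (Fin n) (Fin n) (ZMod p))ˣ) (hUE : U ⊓ E = ⊥) (hsup : U ⊔ E = ⊤)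
    (hfpf : ∀ e ∈ E, e ≠ 1 → ∀ u ∈ U, e * u = u * e → u = 1) :
    Nat.card {v : Fin n → ZMod p // ∀ x : X, (ρ x : Matrix _ _ _).mulVec v = v} ^ Nat.card E *
        Nat.card (Fin n → ZMod p) =
      Nat.card {v : Fin n → ZMod p // ∀ x ∈ E, (ρ x : Matrix _ _ _).mulVec v = v} ^ Nat.card E *
        Nat.card {v : Fin n → ZMod p // ∀ x ∈ U, (ρ x : Matrix _ _ _).mulVec v = v} := by
  classical
  haveI := Fintype.ofFinite X
  set k := n * (Nat.card E + 1) + 1 with hk
  have hk1 : 1 ≤ k := by omega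
  obtain ⟨φ, hφ⟩ := exists_lift_rep p k n hk1 hpX ρ
  let inv : Subgroup X → ZMod (p ^ k) := fun D => Ring.inverse (Nat.card D : ZMod (p ^ k))
  have hinv : ∀ D : Subgroup X, inv D * (Nat.card D : ZMod (p ^ k)) = 1 := fun D => by
    refine Ring.inverse_mul_cancel _ ?_
    refine (ZMod.isUnit_iff_coprime _ _).2 (Nat.Coprime.pow_right k ?_)
    exact ((hp.out.coprime_iff_not_dvd).2 fun h => hpX (h.trans D.card_subgroup_dvd_card)).symm
  let P : Subgroup X → Matrix (Fin n) (Fin n) (ZMod (p ^ k)) := fun D => inv D • ∑ d : D, φ d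
  have hleft : ∀ (D : Subgroup X) (d : D), φ d * ∑ c : D, φ c = ∑ c : D, φ c := fun D d => by
    rw [Finset.mul_sum]
    exact Fintype.sum_equiv (Equiv.mulLeft d) _ _ fun c => by simp
  have hidem : ∀ D, P D * P D = P D := fun D => by
    simp only [P, smul_mul_assoc, mul_smul_comm, smul_smul, Finset.sum_mul, hleft,
      Finset.sum_const, Finset.card_univ, ← Nat.card_eq_fintype_card]
    rw [← Nat.cast_smul_eq_nsmul (ZMod (p ^ k)), smul_smul, mul_assoc, hinv, mul_one]
  have hfixed : ∀ D : Subgroup X, ∀ v : Fin n → ZMod p,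
      (redMat p k n hk1 (P D)).mulVec v = v ↔ ∀ x ∈ D, (ρ x : Matrix _ _ _).mulVec v = v := by
    intro D v
    constructor
    · intro h x hx
      have : φ x * P D = P D := by
        simp only [P, mul_smul_comm]
        rw [show φ x * ∑ c : D, φ c = ∑ c : D, φ c from hleft D ⟨x, hx⟩]
      conv_lhs => rw [← h]
      rw [← hφ, Matrix.mulVec_mulVec, ← map_mul, this, h]
    · intro h
      have hc : redMat p k n hk1 (P D) =
          ZMod.castHom (dvd_pow_self p (by omega : k ≠ 0)) (ZMod p) (inv D) •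
            ∑ d : D, (ρ d : Matrix (Fin n) (Fin n) (ZMod p)) := by
        have hs : ∀ (c : ZMod (p ^ k)) (A : Matrix (Fin n) (Fin n) (ZMod (p ^ k))),
            redMat p k n hk1 (c • A) =
              ZMod.castHom (dvd_pow_self p (by omega : k ≠ 0)) (ZMod p) c • redMat p k n hk1 A :=
          fun c A => Matrix.ext fun i j => by
            simp only [redMat, RingHom.mapMatrix_apply, Matrix.map_apply, Matrix.smul_apply, smul_eq_mul, map_mul]
        simp only [P, hs, map_sum, hφ]
      rw [hc, Matrix.smul_mulVec, Matrix.sum_mulVec, Finset.sum_congr rfl (g := fun _ : D => v) fun d _ => h d d.2,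
        Finset.sum_const, Finset.card_univ, ← Nat.card_eq_fintype_card,
        ← Nat.cast_smul_eq_nsmul (ZMod p), smul_smul, ← map_natCast
          (ZMod.castHom (dvd_pow_self p (by omega : k ≠ 0)) (ZMod p)), ← map_mul, hinv, map_one, one_smul]
  have hrank : ∀ D : Subgroup X, ∃ r : ℕ, r ≤ n ∧ (P D).trace = (r : ZMod (p ^ k)) ∧
      Nat.card {v : Fin n → ZMod p // ∀ x ∈ D, (ρ x : Matrix _ _ _).mulVec v = v} = p ^ r := fun D => by
    obtain ⟨r, h1, h2, h3⟩ := trace_idempotent p k n hk1 (hidem D)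
    exact ⟨r, h1, h2, (Nat.card_congr (Equiv.subtypeEquivRight fun v => (hfixed D v).symm)).trans h3⟩
  obtain ⟨a, ha, hat, hac⟩ := hrank ⊤
  obtain ⟨g, hg, hgt, hgc⟩ := hrank U
  obtain ⟨h, hh, hht, hhc⟩ := hrank E
  have htr : ∀ D : Subgroup X, ∑ d : D, (φ d).trace = (Nat.card D : ZMod (p ^ k)) * (P D).trace :=
    fun D => by
      simp only [P, Matrix.trace_smul, Matrix.trace_sum, smul_eq_mul, ← mul_assoc]
      rw [mul_comm (Nat.card D : ZMod (p ^ k)), hinv, one_mul]
  have key := sum_frobenius U E hUE hsup hfpf (fun x => (φ x).trace)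
  have hconj : ∀ (u : U) (e : E), (φ (u * e * (u : X)⁻¹)).trace = (φ e).trace := fun u e => by
    rw [map_mul, map_mul, Matrix.trace_mul_cycle, ← map_mul, inv_mul_cancel, map_one, one_mul]
  simp only [hconj, Finset.sum_const, Finset.card_univ, ← Nat.card_eq_fintype_card, htr, map_one,
    Matrix.trace_one, Nat.card_fin, hgt, hht] at key
  rw [show ∑ x : X, (φ x).trace = (Nat.card X : ZMod (p ^ k)) * (a : ZMod (p ^ k)) by
    rw [← hat, ← Subgroup.card_top (G := X), ← htr ⊤]
    exact Fintype.sum_equiv Subgroup.topEquiv.toEquiv.symm _ _ fun x => rfl] at key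
  have hcard : Nat.card X = Nat.card U * Nat.card E := by
    rw [← U.card_mul_index]
    congr 1
    have hc : Subgroup.IsComplement' E U := (Subgroup.isComplement'_of_disjoint_and_mul_eq_univ
      (disjoint_iff.2 hUE) (by rw [← Subgroup.normal_mul, hsup]; simp)).symm
    exact hc.index_eq_card
  rw [hcard] at key
  simp only [nsmul_eq_mul, Nat.cast_mul] at key
  have key2 : ((Nat.card E * a + n : ℕ) : ZMod (p ^ k)) = ((g + Nat.card E * h : ℕ) : ZMod (p ^ k)) := by
    have := congrArg (fun z => inv U * z) key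
    simp only [mul_add, ← mul_assoc, hinv, one_mul] at this
    push_cast
    exact this
  haveI : NeZero (p ^ k) := ⟨pow_ne_zero _ hp.out.ne_zero⟩
  have hlt : k < p ^ k := Nat.lt_pow_self hp.out.one_lt
  have key3 : Nat.card E * a + n = g + Nat.card E * h := by
    have hb1 : Nat.card E * a ≤ Nat.card E * n := Nat.mul_le_mul_left _ ha
    have hb2 : Nat.card E * h ≤ Nat.card E * n := Nat.mul_le_mul_left _ hh
    have hb3 : n * (Nat.card E + 1) = Nat.card E * n + n := by ring
    have h' := congrArg ZMod.val key2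
    rwa [ZMod.val_cast_of_lt (by omega), ZMod.val_cast_of_lt (by omega)] at h'
  rw [hhc, hgc, show Nat.card {v : Fin n → ZMod p // ∀ x : X, (ρ x : Matrix _ _ _).mulVec v = v} = p ^ a
    from (Nat.card_congr (Equiv.subtypeEquivRight fun v => by simp)).trans hac,
    Nat.card_fun, Nat.card_zmod, Nat.card_fin, ← pow_mul, ← pow_mul, ← pow_add, ← pow_add,
    mul_comm a, key3, mul_comm h, add_comm]

end linear

end CfsgLib.Char
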