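import Mathlib
import Cfsg.Agent.Lib.Char.FrobeniusFixed

/-!
# Wielandt's fixed point formula for Frobenius groups acting on solvable groups
-/

set_option autoImplicit false
set_option linter.unusedSectionVars false
set_option linter.style.haveILetI false

namespace CfsgLib.Char

universe u

variable {G : Type u} [Group G] [Finite G]

theorem exists_normal_elementary_le (H : Subgroup G) [H.Normal] (hH : H ≠ ⊥)
    (hsolv : Group.IsSolvable H) :
    ∃ (N : Subgroup G) (p : ℕ), N.Normal ∧ p.Prime ∧ N ≤ H ∧ N ≠ ⊥ ∧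
      (∀ a ∈ N, ∀ b ∈ N, a * b = b * a) ∧ ∀ a ∈ N, a ^ p = 1 := by
  classical
  obtain ⟨m, hm⟩ := (Group.isSolvable_def H).1 hsolv
  have hex : ∃ m, derivedSeries H m = ⊥ := ⟨m, hm⟩
  have h0 : Nat.find hex ≠ 0 := fun h => by
    have := Nat.find_spec hex
    rw [h, derivedSeries_zero] at this
    exact hH (by rw [← H.range_subtype, MonoidHom.range_eq_map, this, Subgroup.map_bot])
  obtain ⟨k, hk⟩ := Nat.exists_eq_succ_of_ne_zero h0
  set A := derivedSeries H k with hA
  have hAne : A ≠ ⊥ := Nat.find_min hex (show k < Nat.find hex by omega)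
  have hAab : ⁅A, A⁆ = ⊥ := by
    have := Nat.find_spec hex
    rwa [hk, derivedSeries_succ] at this
  haveI : A.Characteristic := derivedSeries_characteristic (G := H) k
  haveI hA' : (A.map H.subtype).Normal := ConjAct.normal_of_characteristic_of_normal
  set p := (Nat.card A).minFac
  haveI hp : Fact p.Prime := ⟨Nat.minFac_prime fun h => hAne (Subgroup.card_eq_one.1 h)⟩
  obtain ⟨a, ha⟩ := exists_prime_orderOf_dvd_card' (G := A) p (Nat.minFac_dvd _)
  have hcomm : ∀ x ∈ A.map H.subtype, ∀ y ∈ A.map H.subtype, x * y = y * x := by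
    rintro x ⟨x, hx, rfl⟩ y ⟨y, hy, rfl⟩
    have h := Subgroup.commutator_mem_commutator hx hy
    rw [hAab, Subgroup.mem_bot] at h
    simp only [← map_mul, (commutatorElement_eq_one_iff_mul_comm.1 h)]
  let N : Subgroup G :=
    { carrier := {x | x ∈ A.map H.subtype ∧ x ^ p = 1}
      one_mem' := ⟨one_mem _, one_pow p⟩
      mul_mem' := fun {x y} hx hy => ⟨mul_mem hx.1 hy.1, by
        rw [(show Commute x y from hcomm x hx.1 y hy.1).mul_pow, hx.2, hy.2, one_mul]⟩
      inv_mem' := fun {x} hx => ⟨inv_mem hx.1, by rw [inv_pow, hx.2, inv_one]⟩ }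
  refine ⟨N, p, ⟨fun x hx g => ⟨hA'.conj_mem x hx.1 g, by rw [conj_pow, hx.2]; group⟩⟩, hp.out,
    fun x hx => ?_, fun h => ?_, fun x hx y hy => hcomm x hx.1 y hy.1, fun x hx => hx.2⟩
  · obtain ⟨⟨y, hy, rfl⟩, -⟩ := hx
    exact y.2
  · have hmem : ((a : H) : G) ∈ N := ⟨⟨a.1, a.2, rfl⟩, by
      rw [← SubgroupClass.coe_pow, ← SubgroupClass.coe_pow, ← ha, pow_orderOf_eq_one]; rfl⟩
    rw [h, Subgroup.mem_bot] at hmem
    have : a = 1 := Subtype.ext (Subtype.ext hmem)
    rw [this, orderOf_one] at ha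
    exact hp.out.ne_one ha.symm

theorem card_inf_centralizer_eq (N : Subgroup G) (D : Subgroup G) (X : Subgroup G) (hDX : D ≤ X)
    {β : Type*} (f : N → β) (hf : Function.Bijective f) (P : β → Prop)
    (hiff : ∀ a : N, (∀ x ∈ D, x * (a : G) * x⁻¹ = a) ↔ P (f a)) :
    Nat.card ↥(N ⊓ Subgroup.centralizer (D : Set G)) = Nat.card {v // P v} := by
  have := hDX
  refine Nat.card_congr (Equiv.trans ?_ ((Equiv.ofBijective f hf).subtypeEquiv hiff))
  exact
    { toFun := fun a => ⟨⟨a.1, a.2.1⟩, fun x hx => by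
        rw [mul_inv_eq_iff_eq_mul]; exact (Subgroup.mem_centralizer_iff.1 a.2.2 x hx)⟩
      invFun := fun a => ⟨a.1.1, a.1.2, Subgroup.mem_centralizer_iff.2 fun x hx => by
        have := a.2 x hx
        rwa [mul_inv_eq_iff_eq_mul] at this⟩
      left_inv := fun _ => rfl
      right_inv := fun _ => rfl }

theorem exists_matrix_rep {X : Type*} [Group X] {V : Type*} [AddCommGroup V] [Finite V] {p : ℕ}
    [Fact p.Prime] [Module (ZMod p) V] (act : X → V →+ V) (hone : ∀ v, act 1 v = v)
    (hmul : ∀ x y v, act (x * y) v = act x (act y v)) :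
    ∃ (n : ℕ) (L : V → (Fin n → ZMod p)) (ρ : X →* (Matrix (Fin n) (Fin n) (ZMod p))ˣ),
      Function.Bijective L ∧ ∀ x v, (ρ x : Matrix _ _ _).mulVec (L v) = L (act x v) := by
  haveI : Module.Finite (ZMod p) V := ⟨⟨(Set.finite_univ (α := V)).toFinset, by simp⟩⟩
  let b := Module.finBasis (ZMod p) V
  let φ : X →* Matrix (Fin (Module.finrank (ZMod p) V)) (Fin (Module.finrank (ZMod p) V)) (ZMod p) :=
    { toFun := fun x => LinearMap.toMatrix b b ((act x).toZModLinearMap p)
      map_one' := by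
        rw [← LinearMap.toMatrix_one b]
        congr 1
        exact LinearMap.ext fun a => hone a
      map_mul' := fun x y => by
        rw [← LinearMap.toMatrix_mul]
        congr 1
        exact LinearMap.ext fun a => hmul x y a }
  refine ⟨_, fun v => b.repr v, φ.toHomUnits, b.equivFun.bijective, fun x v => ?_⟩
  exact LinearMap.toMatrix_mulVec_repr b b _ v

theorem frobenius_fixed_elementary (N : Subgroup G) [hN : N.Normal] {p : ℕ} [hp : Fact p.Prime]
    (hcomm : ∀ a ∈ N, ∀ b ∈ N, a * b = b * a) (hpow : ∀ a ∈ N, a ^ p = 1) (U E : Subgroup G)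
    (hUE : U ⊓ E = ⊥) (hUn : ∀ e ∈ E, ∀ u ∈ U, e * u * e⁻¹ ∈ U)
    (hfpf : ∀ e ∈ E, e ≠ 1 → ∀ u ∈ U, e * u = u * e → u = 1)
    (hcop : (Nat.card N).Coprime (Nat.card ↥(U ⊔ E))) :
    Nat.card ↥(N ⊓ Subgroup.centralizer ((U ⊔ E : Subgroup G) : Set G)) ^ Nat.card E * Nat.card N =
      Nat.card ↥(N ⊓ Subgroup.centralizer (E : Set G)) ^ Nat.card E *
        Nat.card ↥(N ⊓ Subgroup.centralizer (U : Set G)) := by
  classical
  by_cases hbot : N = ⊥
  · subst hbot; simp
  set X := U ⊔ E with hX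
  letI : CommGroup N := { (inferInstance : Group N) with mul_comm := fun a b => Subtype.ext (hcomm a a.2 b b.2) }
  have hz : ∀ a : Additive N, p • a = 0 := fun a => by
    show Additive.ofMul (a.toMul ^ p) = Additive.ofMul 1
    exact congrArg _ (Subtype.ext (hpow _ a.toMul.2))
  haveI : Finite (Additive N) := inferInstanceAs (Finite N)
  letI := AddCommGroup.zmodModule hz
  obtain ⟨n, L, ρ, hL, hρ⟩ := exists_matrix_rep (X := X) (p := p) (V := Additive N)
    (fun x => MonoidHom.toAdditive (MulAut.conjNormal (x : G) : MulAut N).toMonoidHom)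
    (fun v => by
      show Additive.ofMul (MulAut.conjNormal (((1 : X) : G)) v.toMul) = v
      rw [OneMemClass.coe_one, map_one]; rfl)
    (fun x y v => by
      show Additive.ofMul (MulAut.conjNormal (((x * y : X) : G)) v.toMul) = _
      rw [Subgroup.coe_mul, map_mul]; rfl)
  have hpX : ¬ p ∣ Nat.card X := fun h => by
    obtain ⟨a, ha⟩ : ∃ a : N, a ≠ 1 := by
      haveI := (Subgroup.nontrivial_iff_ne_bot N).2 hbot
      exact exists_ne 1
    have h1 : orderOf a = p := orderOf_eq_prime (Subtype.ext (hpow a a.2)) ha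
    exact hp.out.ne_one (Nat.eq_one_of_dvd_coprimes hcop (h1 ▸ orderOf_dvd_natCard a) h)
  have hUX : U ≤ X := le_sup_left
  have hEX : E ≤ X := le_sup_right
  haveI : (U.subgroupOf X).Normal := by
    rw [Subgroup.normal_subgroupOf_iff_le_normalizer hUX]
    refine sup_le Subgroup.le_normalizer fun e he => Subgroup.mem_normalizer_iff.2 fun u =>
      ⟨hUn e he u, fun h => ?_⟩
    have := hUn e⁻¹ (E.inv_mem he) _ h
    simpa [mul_assoc] using this
  have key := frobenius_fixed_linear (U.subgroupOf X) (E.subgroupOf X) hpX ρ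
    (by rw [show (U.subgroupOf X ⊓ E.subgroupOf X) = (U ⊓ E).subgroupOf X from rfl, hUE, Subgroup.bot_subgroupOf])
    (by rw [← Subgroup.subgroupOf_sup hUX hEX, Subgroup.subgroupOf_self])
    (fun e he he1 u hu h => Subtype.ext (hfpf e he (fun h1 => he1 (Subtype.ext h1)) u hu
      (congrArg Subtype.val h)))
  rw [Nat.card_congr (Subgroup.subgroupOfEquivOfLe hEX).toEquiv] at key
  have hf : Function.Bijective (fun a : N => L (Additive.ofMul a)) :=
    hL.comp Additive.ofMul.bijective
  have hact : ∀ (x : X) (a : N), (ρ x : Matrix _ _ _).mulVec (L (Additive.ofMul a)) =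
      L (Additive.ofMul (MulAut.conjNormal (x : G) a)) := fun x a => hρ x _
  have hiff : ∀ D ≤ X, ∀ a : N, (∀ x ∈ D, x * (a : G) * x⁻¹ = a) ↔
      ∀ x ∈ D.subgroupOf X, (ρ x : Matrix _ _ _).mulVec (L (Additive.ofMul a)) =
        L (Additive.ofMul a) := by
    intro D hD a
    simp only [hact, hL.1.eq_iff, Additive.ofMul.injective.eq_iff]
    refine ⟨fun h x hx => Subtype.ext ?_, fun h x hx => ?_⟩
    · rw [MulAut.conjNormal_apply]; exact h x hx
    · have := congrArg Subtype.val (h ⟨x, hD hx⟩ hx)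
      rwa [MulAut.conjNormal_apply] at this
  have e := fun (D : Subgroup G) (hD : D ≤ X) => card_inf_centralizer_eq N D X hD
    (fun a : N => L (Additive.ofMul a)) hf
    (fun v => ∀ x ∈ D.subgroupOf X, (ρ x : Matrix _ _ _).mulVec v = v) (hiff D hD)
  have e1 := e X le_rfl
  have e2 := e E hEX
  have e3 := e U hUX
  rw [e1, e2, e3, Nat.card_eq_of_bijective _ hf]
  refine Eq.trans ?_ key
  congr 2
  exact Nat.card_congr (Equiv.subtypeEquivRight fun v =>
    ⟨fun h x => h x (Subgroup.mem_subgroupOf.2 x.2), fun h x _ => h x⟩)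

theorem card_centralizer_quotient (H N D : Subgroup G) [H.Normal] [N.Normal] (hNH : N ≤ H)
    (hcop : (Nat.card D).Coprime (Nat.card N)) (hsolv : Group.IsSolvable N) :
    Nat.card ↥(H ⊓ Subgroup.centralizer (D : Set G)) =
      Nat.card ↥(N ⊓ Subgroup.centralizer (D : Set G)) *
        Nat.card ↥(H.map (QuotientGroup.mk' N) ⊓
          Subgroup.centralizer ((D.map (QuotientGroup.mk' N) : Subgroup (G ⧸ N)) : Set (G ⧸ N))) := by
  set q := QuotientGroup.mk' N with hq
  set C := H ⊓ Subgroup.centralizer (D : Set G) with hC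
  have himg : C.map q = H.map q ⊓ Subgroup.centralizer ((D.map q : Subgroup (G ⧸ N)) : Set (G ⧸ N)) := by
    refine le_antisymm ?_ ?_
    · rintro _ ⟨x, hx, rfl⟩
      refine ⟨⟨x, hx.1, rfl⟩, Subgroup.mem_centralizer_iff.2 ?_⟩
      rintro _ ⟨d, hd, rfl⟩
      rw [← map_mul, ← map_mul, Subgroup.mem_centralizer_iff.1 hx.2 d hd]
    · rintro _ ⟨⟨x, hx, rfl⟩, hc⟩
      have hfix : ∀ a ∈ D, a * x * a⁻¹ * x⁻¹ ∈ N := fun a ha => by
        rw [← QuotientGroup.eq_one_iff]
        have := Subgroup.mem_centralizer_iff.1 hc (q a) ⟨a, ha, rfl⟩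
        show q (a * x * a⁻¹ * x⁻¹) = 1
        rw [map_mul, map_mul, map_mul, map_inv, map_inv, this]
        group
      obtain ⟨n, hn, hnc⟩ := CfsgLib.Coprime.exists_fixed_in_coset
        (by rw [Subgroup.normalizer_eq_top N]; exact le_top) hcop (Or.inr hsolv)
        (by rw [Subgroup.normalizer_eq_top N]; trivial) hfix
      refine ⟨x * n, ⟨H.mul_mem hx (hNH hn), hnc⟩, ?_⟩
      rw [map_mul, show q n = 1 from (QuotientGroup.eq_one_iff n).2 hn, mul_one]
  rw [← himg, ← Subgroup.card_mul_index ((N ⊓ Subgroup.centralizer (D : Set G)).subgroupOf C)]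
  congr 1
  · exact Nat.card_congr (Subgroup.subgroupOfEquivOfLe (inf_le_inf_right _ hNH)).toEquiv
  · have hker : (N ⊓ Subgroup.centralizer (D : Set G)).subgroupOf C = (q.comp C.subtype).ker := by
      ext z
      refine ⟨fun h => (QuotientGroup.eq_one_iff _).2 h.1, fun h => ?_⟩
      exact ⟨(QuotientGroup.eq_one_iff _).1 h, z.2.2⟩
    rw [hker, Subgroup.index_ker, MonoidHom.range_eq_map, ← Subgroup.map_map,
      ← MonoidHom.range_eq_map, Subgroup.range_subtype]

theorem frobenius_fixed_solvable : ∀ (G : Type u) [Group G] [Finite G] (H : Subgroup G) [H.Normal]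
    (U E : Subgroup G), U ⊓ E = ⊥ → (∀ e ∈ E, ∀ u ∈ U, e * u * e⁻¹ ∈ U) →
    (∀ e ∈ E, e ≠ 1 → ∀ u ∈ U, e * u = u * e → u = 1) → Group.IsSolvable H →
    (Nat.card H).Coprime (Nat.card ↥(U ⊔ E)) →
    Nat.card ↥(H ⊓ Subgroup.centralizer ((U ⊔ E : Subgroup G) : Set G)) ^ Nat.card E * Nat.card H =
      Nat.card ↥(H ⊓ Subgroup.centralizer (E : Set G)) ^ Nat.card E *
        Nat.card ↥(H ⊓ Subgroup.centralizer (U : Set G)) := by
  intro G _ _ H _ U E hUE hUn hfpf hsolv hcop
  induction hn : Nat.card H using Nat.strong_induction_on generalizing G with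
  | _ n ih =>
    subst hn
    by_cases hbot : H = ⊥
    · subst hbot; simp
    obtain ⟨N, p, hN, hp, hNH, hN1, hcomm, hpow⟩ := exists_normal_elementary_le H hbot hsolv
    haveI := hN
    haveI : Fact p.Prime := ⟨hp⟩
    have hcopN : (Nat.card N).Coprime (Nat.card ↥(U ⊔ E)) :=
      hcop.coprime_dvd_left (Subgroup.card_dvd_of_le hNH)
    have hsolN : Group.IsSolvable N := by
      haveI := hsolv
      exact solvable_of_solvable_injective (f := Subgroup.inclusion hNH) (Subgroup.inclusion_injective hNH)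
    have base := frobenius_fixed_elementary N hcomm hpow U E hUE hUn hfpf hcopN
    set q := QuotientGroup.mk' N with hq
    have hinj : ∀ a ∈ U ⊔ E, q a = 1 → a = 1 := fun a ha h => by
      have haN : a ∈ N := (QuotientGroup.eq_one_iff a).1 h
      refine orderOf_eq_one_iff.1 (Nat.eq_one_of_dvd_coprimes hcopN ?_ ?_)
      · rw [← Subgroup.orderOf_mk a haN]; exact orderOf_dvd_natCard _
      · rw [← Subgroup.orderOf_mk a ha]; exact orderOf_dvd_natCard _
    have hcardq : ∀ D : Subgroup G, D ≤ U ⊔ E → Nat.card ↥(D.map q) = Nat.card D := fun D hD => by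
      refine (Nat.card_congr (Equiv.ofBijective (fun d : D => (⟨q d, d, d.2, rfl⟩ : D.map q))
        ⟨fun a b h => ?_, fun y => ?_⟩)).symm
      · have h' : q a = q b := congrArg Subtype.val h
        have := hinj ((a : G) * (b : G)⁻¹) (hD (D.mul_mem a.2 (D.inv_mem b.2)))
          (by rw [map_mul, map_inv, h', mul_inv_cancel])
        exact Subtype.ext (mul_inv_eq_one.1 this)
      · obtain ⟨_, d, hd, rfl⟩ := y
        exact ⟨⟨d, hd⟩, rfl⟩
    haveI : (H.map q).Normal := Subgroup.Normal.map ‹H.Normal› q (QuotientGroup.mk'_surjective N)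
    have hHcard : Nat.card H = Nat.card N * Nat.card ↥(H.map q) := by
      have := card_centralizer_quotient H N ⊥ hNH (by simp) hsolN
      have hb : ∀ {K : Type u} [Group K], Subgroup.centralizer ((⊥ : Subgroup K) : Set K) = ⊤ := fun {K} _ =>
        eq_top_iff.2 fun x _ => Subgroup.mem_centralizer_iff.2 fun y hy => by
          rw [Subgroup.coe_bot, Set.mem_singleton_iff] at hy
          rw [hy, one_mul, mul_one]
      rwa [Subgroup.map_bot, hb, hb, inf_top_eq, inf_top_eq, inf_top_eq] at this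
    have hlt : Nat.card ↥(H.map q) < Nat.card H := by
      rw [hHcard]
      haveI := (Subgroup.nontrivial_iff_ne_bot N).2 hN1
      exact lt_mul_left Nat.card_pos Finite.one_lt_card
    have hsolq : Group.IsSolvable ↥(H.map q) := by
      haveI := hsolv
      exact solvable_of_surjective (f := (q.subgroupMap H)) (q.subgroupMap_surjective H)
    have hquot := ih _ hlt (G ⧸ N) (H.map q) (U.map q) (E.map q)
      (by
        refine (Subgroup.eq_bot_iff_forall _).2 ?_
        rintro _ ⟨⟨u, hu, rfl⟩, e, he, hee⟩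
        have := hinj ((e : G) * u⁻¹) ((U ⊔ E).mul_mem (Subgroup.mem_sup_right he)
          ((U ⊔ E).inv_mem (Subgroup.mem_sup_left hu))) (by rw [map_mul, map_inv, hee, mul_inv_cancel])
        rw [mul_inv_eq_one] at this
        have hu' : u ∈ U ⊓ E := ⟨hu, this ▸ he⟩
        rw [hUE, Subgroup.mem_bot] at hu'
        rw [hu', map_one])
      (by
        rintro _ ⟨e, he, rfl⟩ _ ⟨u, hu, rfl⟩
        exact ⟨_, hUn e he u hu, by simp⟩)
      (by
        rintro _ ⟨e, he, rfl⟩ he1 _ ⟨u, hu, rfl⟩ h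
        rw [← map_mul, ← map_mul] at h
        have := hinj ((e * u) * (u * e)⁻¹)
          ((U ⊔ E).mul_mem ((U ⊔ E).mul_mem (Subgroup.mem_sup_right he) (Subgroup.mem_sup_left hu))
            ((U ⊔ E).inv_mem ((U ⊔ E).mul_mem (Subgroup.mem_sup_left hu) (Subgroup.mem_sup_right he))))
          (by rw [map_mul, map_inv, h, mul_inv_cancel])
        rw [mul_inv_eq_one] at this
        rw [hfpf e he (fun e1 => he1 (by rw [e1, map_one])) u hu this, map_one])
      hsolq (by
        rw [← Subgroup.map_sup, hcardq _ le_rfl]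
        exact hcop.coprime_dvd_left ⟨Nat.card N, by rw [hHcard, mul_comm]⟩) rfl
    have hc : ∀ D : Subgroup G, D ≤ U ⊔ E → (Nat.card D).Coprime (Nat.card N) := fun D hD =>
      hcopN.symm.coprime_dvd_left (Subgroup.card_dvd_of_le hD)
    rw [card_centralizer_quotient H N _ hNH (hc _ le_rfl) hsolN,
      card_centralizer_quotient H N _ hNH (hc _ le_sup_right) hsolN,
      card_centralizer_quotient H N _ hNH (hc _ le_sup_left) hsolN, Subgroup.map_sup, hHcard]
    rw [hcardq E le_sup_right] at hquot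
    calc _ = (Nat.card ↥(N ⊓ Subgroup.centralizer ((U ⊔ E : Subgroup G) : Set G)) ^ Nat.card E *
          Nat.card N) * (Nat.card ↥(H.map q ⊓ Subgroup.centralizer
            ((U.map q ⊔ E.map q : Subgroup (G ⧸ N)) : Set (G ⧸ N))) ^ Nat.card E *
          Nat.card ↥(H.map q)) := by rw [mul_pow]; ring
      _ = _ := by rw [base, hquot]; ring

theorem frobenius_fixed_formula (U E H : Subgroup G) (hUE : U ⊓ E = ⊥)
    (hUn : ∀ e ∈ E, ∀ u ∈ U, e * u * e⁻¹ ∈ U)
    (hfpf : ∀ e ∈ E, e ≠ 1 → ∀ u ∈ U, e * u = u * e → u = 1)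
    (hHn : ∀ x ∈ U ⊔ E, ∀ h ∈ H, x * h * x⁻¹ ∈ H) (hsolv : Group.IsSolvable H)
    (hcop : (Nat.card H).Coprime (Nat.card ↥(U ⊔ E))) :
    Nat.card ↥(H ⊓ Subgroup.centralizer ((U ⊔ E : Subgroup G) : Set G)) ^ Nat.card E * Nat.card H =
      Nat.card ↥(H ⊓ Subgroup.centralizer (E : Set G)) ^ Nat.card E *
        Nat.card ↥(H ⊓ Subgroup.centralizer (U : Set G)) := by
  set M := Subgroup.normalizer (H : Set G) with hM
  have hX : U ⊔ E ≤ M := fun x hx => Subgroup.mem_normalizer_iff.2 fun h =>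
    ⟨hHn x hx h, fun h' => by
      have := hHn x⁻¹ ((U ⊔ E).inv_mem hx) _ h'
      simpa [mul_assoc] using this⟩
  have hUM := le_sup_left.trans hX
  have hEM := le_sup_right.trans hX
  haveI : (H.subgroupOf M).Normal := Subgroup.normal_in_normalizer
  have hcardD : ∀ D ≤ M, Nat.card (D.subgroupOf M) = Nat.card D := fun D hD =>
    Nat.card_congr (Subgroup.subgroupOfEquivOfLe hD).toEquiv
  have hC : ∀ D ≤ M, Nat.card ↥(H.subgroupOf M ⊓
      Subgroup.centralizer ((D.subgroupOf M : Subgroup ↥M) : Set ↥M)) =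
      Nat.card ↥(H ⊓ Subgroup.centralizer (D : Set G)) := fun D hD => by
    rw [← hcardD (H ⊓ Subgroup.centralizer (D : Set G)) (inf_le_left.trans Subgroup.le_normalizer)]
    congr 1
    congr 1
    ext z
    simp only [Subgroup.mem_inf, Subgroup.mem_subgroupOf, Subgroup.mem_centralizer_iff, SetLike.mem_coe]
    refine and_congr_right fun _ => ⟨fun h d hd => ?_, fun h d hd => Subtype.ext (h d hd)⟩
    exact congrArg Subtype.val (h ⟨d, hD hd⟩ hd)
  have key := frobenius_fixed_solvable ↥M (H.subgroupOf M) (U.subgroupOf M) (E.subgroupOf M)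
    (by rw [show (U.subgroupOf M ⊓ E.subgroupOf M) = (U ⊓ E).subgroupOf M from rfl, hUE, Subgroup.bot_subgroupOf])
    (fun e he u hu => hUn e he u hu)
    (fun e he he1 u hu h => Subtype.ext (hfpf e he (fun h1 => he1 (Subtype.ext h1)) u hu
      (congrArg Subtype.val h)))
    (by
      haveI := hsolv
      exact solvable_of_solvable_injective (f := (Subgroup.subgroupOfEquivOfLe
        (Subgroup.le_normalizer (H := H))).toMonoidHom) (Subgroup.subgroupOfEquivOfLe _).injective)
    (by rw [← Subgroup.subgroupOf_sup hUM hEM, hcardD _ hX, hcardD _ Subgroup.le_normalizer]; exact hcop)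
  rwa [← Subgroup.subgroupOf_sup hUM hEM, hC _ hX, hC _ hEM, hC _ hUM, hcardD _ hEM,
    hcardD _ Subgroup.le_normalizer] at key

end CfsgLib.Char
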