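import Cfsg.Agent.Lib.Char.TI

/-!
# Exceptional characters from an isometry
-/

set_option autoImplicit false
set_option linter.unusedSectionVars false

namespace CfsgLib.Char

open scoped ComplexConjugate
open Representation Module Cfsg

universe u

variable {G : Type u} [Group G] [Fintype G]

theorem exists_diff_of_norm_two {τ : G → ℂ} (h : IsGeneralizedCharacter G τ) (h1 : τ 1 = 0)
    (h2 : classInner τ τ = 2) :
    ∃ a b : IrrCharacter G, a ≠ b ∧ τ = (a : G → ℂ) - b := by
  classical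
  have := Fintype.ofFinite (IrrCharacter G)
  obtain ⟨m, hm, hexp, hnorm⟩ := generalized_expand h
  rw [h2] at hnorm
  have hsq : ∑ ψ : IrrCharacter G, (m ψ) ^ 2 = 2 := by exact_mod_cast hnorm.symm
  have hle : ∀ ψ, m ψ = 0 ∨ m ψ = 1 ∨ m ψ = -1 := by
    intro ψ
    have h3 : m ψ ^ 2 ≤ 2 := hsq ▸ Finset.single_le_sum (fun i _ => sq_nonneg (m i)) (Finset.mem_univ ψ)
    have h4 : -1 ≤ m ψ := by nlinarith
    have h5 : m ψ ≤ 1 := by nlinarith
    omega
  set S := Finset.univ.filter fun ψ => m ψ ≠ 0 with hS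
  have hcard : S.card = 2 := by
    have : ∑ ψ : IrrCharacter G, (m ψ) ^ 2 = ∑ ψ : IrrCharacter G, if m ψ ≠ 0 then (1 : ℤ) else 0 :=
      Finset.sum_congr rfl fun ψ _ => by rcases hle ψ with e | e | e <;> simp [e]
    rw [this, Finset.sum_boole] at hsq
    exact_mod_cast hsq
  obtain ⟨a, b, hab, hSab⟩ := Finset.card_eq_two.mp hcard
  have hτ : τ = (m a : ℂ) • (a : G → ℂ) + (m b : ℂ) • (b : G → ℂ) := by
    rw [hexp, ← Finset.sum_subset (Finset.subset_univ S), hSab, Finset.sum_pair hab]
    intro x _ hx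
    simp only [S, Finset.mem_filter, Finset.mem_univ, true_and, not_not] at hx
    simp [hx]
  obtain ⟨da, hda, hea⟩ := isIrrCharacter_degree a.2
  obtain ⟨db, hdb, heb⟩ := isIrrCharacter_degree b.2
  have hsum : m a * (da : ℤ) + m b * (db : ℤ) = 0 := by
    have := congrFun hτ 1
    simp only [Pi.add_apply, Pi.smul_apply, smul_eq_mul, h1, hea, heb] at this
    exact_mod_cast this.symm
  have ha : m a ≠ 0 := (Finset.mem_filter.mp (show a ∈ S by simp [hSab])).2
  have hb : m b ≠ 0 := (Finset.mem_filter.mp (show b ∈ S by simp [hSab])).2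
  rcases hle a with e | e | e
  · exact absurd e ha
  · rcases hle b with e' | e' | e'
    · exact absurd e' hb
    · rw [e, e'] at hsum; omega
    · exact ⟨a, b, hab, by rw [hτ, e, e']; push_cast; rw [one_smul, neg_one_smul, sub_eq_add_neg]⟩
  · rcases hle b with e' | e' | e'
    · exact absurd e' hb
    · exact ⟨b, a, hab.symm, by
        rw [hτ, e, e']; push_cast; rw [one_smul, neg_one_smul, sub_eq_add_neg, add_comm]⟩
    · rw [e, e'] at hsum; omega

theorem exceptional_of_isometry {n : ℕ} (i₀ : Fin n) (τ : Fin n → (G → ℂ)) (h0 : τ i₀ = 0)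
    (hgen : ∀ i, IsGeneralizedCharacter G (τ i)) (hone : ∀ i, τ i 1 = 0)
    (hgram : ∀ i j, i ≠ i₀ → j ≠ i₀ → classInner (τ i) (τ j) = if i = j then 2 else 1) :
    ∃ ε : ℂ, (ε = 1 ∨ ε = -1) ∧ ∃ μ : Fin n → (G → ℂ), (∀ i, IsIrrCharacter G (μ i)) ∧
      Function.Injective μ ∧ ∀ i, τ i = ε • (μ i - μ i₀) := by
  classical
  have hd : ∀ i : Fin n, i ≠ i₀ → ∃ a b : IrrCharacter G, a ≠ b ∧ τ i = (a : G → ℂ) - b := fun i hi =>
    exists_diff_of_norm_two (hgen i) (hone i) (by rw [hgram i i hi hi, if_pos rfl])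
  choose a b hab hτ using hd
  have pair : ∀ i j (hi : i ≠ i₀) (hj : j ≠ i₀), i ≠ j →
      ((a i hi = a j hj ∧ b i hi ≠ b j hj) ∨ (a i hi ≠ a j hj ∧ b i hi = b j hj)) := by
    intro i j hi hj hij
    have h := hgram i j hi hj
    rw [if_neg hij, hτ i hi, hτ j hj, classInner_sub_left, classInner_sub_right,
      classInner_sub_right, classInner_irr, classInner_irr, classInner_irr, classInner_irr] at h
    have h1 := hab i hi
    have h2 := hab j hj
    by_cases e1 : a i hi = a j hj <;> by_cases e2 : b i hi = b j hj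
    · have e3 : a i hi ≠ b j hj := fun e => h1 (e.trans e2.symm)
      have e4 : b i hi ≠ a j hj := fun e => h1 (e1.trans e.symm)
      simp [e1, e2, e3, e4] at h
      rw [if_neg (fun e => h2 (by rw [e])), if_neg (fun e => h2 (by rw [e]))] at h
      norm_num at h
    · exact Or.inl ⟨e1, e2⟩
    · exact Or.inr ⟨e1, e2⟩
    · simp only [if_neg e1, if_neg e2] at h
      split_ifs at h <;> norm_num at h
  rcases Classical.em (∃ i : Fin n, i ≠ i₀) with ⟨i₁, hi₁⟩ | hno
  · have uni : (∀ j (hj : j ≠ i₀), a j hj = a i₁ hi₁) ∨ (∀ j (hj : j ≠ i₀), b j hj = b i₁ hi₁) := by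
      by_contra hc
      push Not at hc
      obtain ⟨⟨j, hj, hja⟩, ⟨k, hk, hkb⟩⟩ := hc
      have hjne : j ≠ i₁ := fun e => hja (by subst e; rfl)
      have hkne : k ≠ i₁ := fun e => hkb (by subst e; rfl)
      have hjb : b j hj = b i₁ hi₁ := ((pair j i₁ hj hi₁ hjne).resolve_left fun h => hja h.1).2
      have hka : a k hk = a i₁ hi₁ := ((pair k i₁ hk hi₁ hkne).resolve_right fun h => hkb h.2).1
      have hjk : j ≠ k := fun e => by subst e; exact hja hka
      rcases pair j k hj hk hjk with ⟨e, _⟩ | ⟨_, e⟩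
      · exact hja (e.trans hka)
      · exact hkb (e.symm.trans hjb)
    have mk : ∀ (ε : ℂ) (c : IrrCharacter G) (d : ∀ i : Fin n, i ≠ i₀ → IrrCharacter G),
        (∀ i hi, d i hi ≠ c) → (∀ i j hi hj, d i hi = d j hj → i = j) →
        (∀ i hi, τ i = ε • ((d i hi : G → ℂ) - c)) →
        ∃ μ : Fin n → (G → ℂ), (∀ i, IsIrrCharacter G (μ i)) ∧
          Function.Injective μ ∧ ∀ i, τ i = ε • (μ i - μ i₀) := by
      intro ε c d hne hinj heq
      let ν : Fin n → IrrCharacter G := fun i => if h : i = i₀ then c else d i h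
      refine ⟨fun i => (ν i : G → ℂ), fun i => (ν i).2, fun i j e => ?_, fun i => ?_⟩
      · have e' : ν i = ν j := Subtype.ext e
        by_cases hi : i = i₀ <;> by_cases hj : j = i₀ <;> simp only [ν, hi, hj, dite_true, dite_false] at e'
        · rw [hi, hj]
        · exact absurd e'.symm (hne j hj)
        · exact absurd e' (hne i hi)
        · exact hinj i j hi hj e'
      · by_cases hi : i = i₀
        · subst hi; simp [h0]
        · simp only [ν, hi, dite_true, dite_false]
          exact heq i hi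
    rcases uni with hA | hB
    · refine ⟨-1, Or.inr rfl, mk (-1) (a i₁ hi₁) b (fun i hi e => hab i hi ((hA i hi).trans e.symm))
        (fun i j hi hj e => by_contra fun hij => ?_) fun i hi => ?_⟩
      · rcases pair i j hi hj hij with ⟨_, h⟩ | ⟨h, _⟩
        · exact h e
        · exact h ((hA i hi).trans (hA j hj).symm)
      · rw [hτ i hi, hA i hi, neg_one_smul, neg_sub]
    · refine ⟨1, Or.inl rfl, mk 1 (b i₁ hi₁) a (fun i hi e => hab i hi (e.trans (hB i hi).symm))
        (fun i j hi hj e => by_contra fun hij => ?_) fun i hi => ?_⟩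
      · rcases pair i j hi hj hij with ⟨_, h⟩ | ⟨h, _⟩
        · exact h ((hB i hi).trans (hB j hj).symm)
        · exact h e
      · rw [hτ i hi, hB i hi, one_smul]
  · push Not at hno
    refine ⟨1, Or.inl rfl, fun _ => fun _ => 1, fun _ => isIrrCharacter_one,
      fun i j _ => (hno i).trans (hno j).symm, fun i => ?_⟩
    rw [hno i, h0]; simp

theorem exceptional_TI (S : Set G)
    (hTI : ∀ g : G, g ∉ Subgroup.normalizer S → ∀ s ∈ S, g * s * g⁻¹ ∈ S → s = 1) {n : ℕ}
    (hn : 1 ≤ n) (χ : Fin n → (Subgroup.normalizer S → ℂ))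
    (hirr : ∀ i, IsIrrCharacter (Subgroup.normalizer S) (χ i)) (hinj : Function.Injective χ)
    (hvan : ∀ i, ∀ x : Subgroup.normalizer S, (x : G) ∉ S → χ i x = 0)
    (hdeg : ∀ i j, χ i 1 = χ j 1) :
    ∃ ε : ℂ, (ε = 1 ∨ ε = -1) ∧ ∃ θ : Fin n → (G → ℂ), (∀ i, IsIrrCharacter G (θ i)) ∧
      Function.Injective θ ∧ ∀ i j, indFun (Subgroup.normalizer S) (χ i) -
        indFun (Subgroup.normalizer S) (χ j) = ε • (θ i - θ j) := by
  classical
  have : Fintype (Subgroup.normalizer S) := Fintype.ofFinite _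
  let i₀ : Fin n := ⟨0, hn⟩
  have hgc : ∀ i, IsGeneralizedCharacter (Subgroup.normalizer S) (χ i - χ i₀) := fun i =>
    ⟨_, _, isCharacter_of_isIrr (hirr i), isCharacter_of_isIrr (hirr i₀), rfl⟩
  obtain ⟨ε, hε, θ, hθ, hθi, he⟩ := exceptional_of_isometry i₀
    (fun i => indFun (Subgroup.normalizer S) (χ i - χ i₀)) (by simp [indFun_zero])
    (fun i => isGeneralizedCharacter_indFun _ (hgc i))
    (fun i => by rw [indFun_one, Pi.sub_apply, hdeg i i₀, sub_self, mul_zero]) fun i j hi hj => by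
      rw [classInner_indFun_TI S hTI _ _ (isClassFunction_of_isGeneralized (hgc j))
        (fun x hx => by simp [hvan _ x hx]) (fun x hx => by simp [hvan _ x hx])
        (by simp [hdeg i i₀])]
      have hci : ∀ k l, classInner (χ k) (χ l) = if k = l then (1 : ℂ) else 0 := fun k l => by
        have := classInner_irr (⟨χ k, hirr k⟩ : IrrCharacter _) ⟨χ l, hirr l⟩
        simpa [Subtype.ext_iff, hinj.eq_iff] using this
      rw [classInner_sub_left, classInner_sub_right, classInner_sub_right, hci, hci, hci, hci,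
        if_neg hi, if_neg (Ne.symm hj), if_pos rfl]
      split_ifs <;> norm_num
  refine ⟨ε, hε, θ, hθ, hθi, fun i j => ?_⟩
  have e1 := he i
  have e2 := he j
  simp only [indFun_sub] at e1 e2
  rw [← sub_sub_sub_cancel_right _ _ (indFun (Subgroup.normalizer S) (χ i₀)), e1, e2, ← smul_sub,
    sub_sub_sub_cancel_right]

end CfsgLib.Char
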