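import Cfsg.Agent.Lib.Char.Induction

/-!
# Induction from the normalizer of a trivial intersection set
-/

set_option autoImplicit false
set_option linter.unusedSectionVars false

namespace CfsgLib.Char

open scoped ComplexConjugate
open Representation Module Cfsg

universe u

variable {G : Type u} [Group G] [Fintype G]

theorem indFun_TI_apply (T : Set G)
    (hTI : ∀ g : G, g ∉ Subgroup.normalizer T → ∀ t ∈ T, g * t * g⁻¹ ∈ T → t = 1)
    (ψ : Subgroup.normalizer T → ℂ) (hψ : IsClassFunction (Subgroup.normalizer T) ψ)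
    (hψT : ∀ x : Subgroup.normalizer T, (x : G) ∉ T → ψ x = 0) (t : Subgroup.normalizer T)
    (htT : (t : G) ∈ T) (ht1 : t ≠ 1) :
    indFun (Subgroup.normalizer T) ψ t = ψ t := by
  classical
  let N : Subgroup G := Subgroup.normalizer T
  have h1 : ∀ x : G, x ∉ N → extendByZero N ψ (x⁻¹ * t * x) = 0 := by
    intro x hx
    by_cases hm : x⁻¹ * (t : G) * x ∈ N
    · rw [extendByZero_mem N ψ hm]
      refine hψT _ fun hT => ht1 (Subtype.ext ?_)
      exact hTI x⁻¹ (fun h => hx (by simpa using N.inv_mem h)) t htT (by simpa using hT)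
    · exact extendByZero_not_mem N ψ hm
  have h2 : ∀ x : G, x ∈ N → extendByZero N ψ (x⁻¹ * t * x) = ψ t := by
    intro x hx
    rw [extendByZero_mem N ψ (N.mul_mem (N.mul_mem (N.inv_mem hx) t.2) hx)]
    rw [show (⟨x⁻¹ * t * x, _⟩ : N) = (⟨x, hx⟩ : N)⁻¹ * t * (⟨x, hx⟩ : N)⁻¹⁻¹ from
      Subtype.ext (by simp), hψ]
  rw [indFun, Finset.sum_congr rfl (g := fun x => if x ∈ N then ψ t else 0) fun x _ => by
    split_ifs with h
    · exact h2 x h
    · exact h1 x h]
  rw [← Finset.sum_filter, Finset.sum_const, nsmul_eq_mul, ← Fintype.card_subtype,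
    ← Nat.card_eq_fintype_card, ← mul_assoc, inv_mul_cancel₀ (by exact_mod_cast Nat.card_pos.ne'),
    one_mul]

theorem classInner_indFun_TI (T : Set G)
    (hTI : ∀ g : G, g ∉ Subgroup.normalizer T → ∀ t ∈ T, g * t * g⁻¹ ∈ T → t = 1)
    [Fintype (Subgroup.normalizer T)] (ψ θ : Subgroup.normalizer T → ℂ)
    (hθ : IsClassFunction (Subgroup.normalizer T) θ)
    (hψT : ∀ x : Subgroup.normalizer T, (x : G) ∉ T → ψ x = 0)
    (hθT : ∀ x : Subgroup.normalizer T, (x : G) ∉ T → θ x = 0) (hψ1 : ψ 1 = 0) :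
    classInner (indFun (Subgroup.normalizer T) ψ) (indFun (Subgroup.normalizer T) θ) =
      classInner ψ θ := by
  rw [classInner_indFun _ _ _ (isClassFunction_indFun _ _)]
  simp only [classInner]
  congr 1
  refine Finset.sum_congr rfl fun x _ => ?_
  by_cases hx1 : x = 1
  · rw [hx1, hψ1, zero_mul, zero_mul]
  by_cases hxT : (x : G) ∈ T
  · rw [indFun_TI_apply T hTI θ hθ hθT x hxT hx1]
  · rw [hψT x hxT, zero_mul, zero_mul]

end CfsgLib.Char
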