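import Mathlib
import Cfsg.Agent.Lib.Char.TI
import Cfsg.Agent.Lib.Coprime.Solvable

/-!
# TI subgroups containing the centralizers of their non-identity elements
-/

set_option autoImplicit false
set_option linter.unusedSectionVars false

namespace CfsgLib.Char

open Cfsg

universe u

variable {G : Type u} [Group G] [Fintype G]

theorem index_coprime_of_centralizer_le (K : Subgroup G) (hC : ∀ k ∈ K, k ≠ 1 →
    Subgroup.centralizer ({k} : Set G) ≤ K) :
    (Nat.card K).Coprime (K.subgroupOf (Subgroup.normalizer (K : Set G))).index := by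
  set N := Subgroup.normalizer (K : Set G) with hN
  set K' := K.subgroupOf N with hK'
  haveI : K'.Normal := Subgroup.normal_in_normalizer
  have hcard : Nat.card K' = Nat.card K :=
    Nat.card_congr (Subgroup.subgroupOfEquivOfLe Subgroup.le_normalizer).toEquiv
  rw [← hcard]
  refine Nat.coprime_of_dvd fun p hp hpK hpi => ?_
  haveI : Fact p.Prime := ⟨hp⟩
  obtain ⟨P⟩ : Nonempty (Sylow p ↥N) := inferInstance
  have hP : ¬ p ∣ P.1.index := P.not_dvd_index
  refine hP (hpi.trans (Subgroup.index_dvd_of_le ?_))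
  obtain ⟨x, hx⟩ := exists_prime_orderOf_dvd_card' (G := K') p hpK
  obtain ⟨Q, hQ⟩ := (IsPGroup.of_card (n := 1)
    (by rw [pow_one, Nat.card_zpowers, Subgroup.orderOf_coe, hx] :
      Nat.card (Subgroup.zpowers (x : ↥N)) = p ^ 1)).exists_le_sylow
  obtain ⟨g, rfl⟩ := MulAction.exists_smul_eq ↥N Q P
  have hne : Nontrivial ↥(K'.subgroupOf (g • Q : Sylow p ↥N).1) := by
    refine ⟨⟨⟨⟨g * x * g⁻¹, ?_⟩, ?_⟩, 1, fun h => ?_⟩⟩
    · rw [Sylow.coe_subgroup_smul]
      exact ⟨_, hQ (Subgroup.mem_zpowers _), rfl⟩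
    · exact ‹K'.Normal›.conj_mem _ x.2 g
    · have h' : g * (x : ↥N) * g⁻¹ = 1 := congrArg (fun t => ((t.1 : _) : ↥N)) h
      have h1 : (x : ↥N) = 1 := by simpa using conj_eq_one_iff.1 h'
      rw [← Subgroup.orderOf_coe, h1, orderOf_one] at hx
      exact hp.ne_one hx.symm
  obtain ⟨z, hz, hz1⟩ : ∃ z : ↥(g • Q : Sylow p ↥N).1, z ∈ K'.subgroupOf _ ⊓ Subgroup.center _ ∧
      z ≠ 1 := by
    by_contra! hcon
    have hbot : K'.subgroupOf (g • Q : Sylow p ↥N).1 ⊓ Subgroup.center _ = ⊥ :=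
      (Subgroup.eq_bot_iff_forall _).2 hcon
    haveI : Group.IsNilpotent ↥(g • Q : Sylow p ↥N).1 := (g • Q : Sylow p ↥N).2.isNilpotent
    exact CfsgLib.Coprime.nilpotent_inf_center_ne_bot (K'.subgroupOf (g • Q : Sylow p ↥N).1)
      ((Subgroup.nontrivial_iff_ne_bot _).1 hne) hbot
  intro y hy
  refine hC ((z : ↥N) : G) hz.1 (fun h => hz1 (Subtype.ext (Subtype.ext h))) ?_
  rw [Subgroup.mem_centralizer_singleton_iff]
  exact (congrArg (fun t => ((t.1 : ↥N) : G)) (Subgroup.mem_center_iff.1 hz.2 ⟨y, hy⟩))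

theorem not_conj_of_not_mem (K : Subgroup G) (hC : ∀ k ∈ K, k ≠ 1 →
    Subgroup.centralizer ({k} : Set G) ≤ K) (x : G) (hx : x ∈ Subgroup.normalizer (K : Set G))
    (hxK : x ∉ K) (g : G) : g * x * g⁻¹ ∉ K := by
  intro h
  set N := Subgroup.normalizer (K : Set G)
  haveI : (K.subgroupOf N).Normal := Subgroup.normal_in_normalizer
  have h1 : orderOf (QuotientGroup.mk (s := K.subgroupOf N) (⟨x, hx⟩ : ↥N)) ∣
      (K.subgroupOf N).index := by
    rw [Subgroup.index_eq_card]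
    exact orderOf_dvd_natCard _
  have h2 : orderOf (QuotientGroup.mk (s := K.subgroupOf N) (⟨x, hx⟩ : ↥N)) ∣ Nat.card K := by
    refine (orderOf_map_dvd (QuotientGroup.mk' _) _).trans ?_
    rw [Subgroup.orderOf_mk, ← (show orderOf (g * x * g⁻¹) = orderOf x from
      (MulAut.conj g).orderOf_eq x), ← Subgroup.orderOf_mk _ h]
    exact orderOf_dvd_natCard _
  have h3 := Nat.eq_one_of_dvd_coprimes (index_coprime_of_centralizer_le K hC) h2 h1
  exact hxK (Subgroup.mem_subgroupOf.1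
    ((QuotientGroup.eq_one_iff (⟨x, hx⟩ : ↥N)).1 (orderOf_eq_one_iff.1 h3)))

theorem indFun_eq_self_of_vanish (K : Subgroup G)
    (hTI : ∀ g : G, g ∉ Subgroup.normalizer (K : Set G) → ∀ k ∈ K, g * k * g⁻¹ ∈ K → k = 1)
    (hC : ∀ k ∈ K, k ≠ 1 → Subgroup.centralizer ({k} : Set G) ≤ K)
    (θ : Subgroup.normalizer (K : Set G) → ℂ) (hθ : IsClassFunction (Subgroup.normalizer (K : Set G)) θ)
    (hv : ∀ x : Subgroup.normalizer (K : Set G), (x : G) ∉ K → θ x = 0) (h1 : θ 1 = 0)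
    (x : Subgroup.normalizer (K : Set G)) :
    indFun (Subgroup.normalizer (K : Set G)) θ x = θ x := by
  by_cases hx1 : x = 1
  · rw [hx1, Subgroup.coe_one, indFun_one, h1, mul_zero]
  by_cases hxK : (x : G) ∈ K
  · exact indFun_TI_apply (K : Set G) hTI θ hθ hv x hxK hx1
  · rw [hv x hxK, indFun, Finset.sum_eq_zero, mul_zero]
    intro g _
    by_cases hm : g⁻¹ * (x : G) * g ∈ Subgroup.normalizer (K : Set G)
    · rw [extendByZero_mem _ θ hm]
      exact hv _ (by
        have := not_conj_of_not_mem K hC x x.2 hxK g⁻¹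
        simpa using this)
    · exact extendByZero_not_mem _ θ hm

/-- Sums of an induced function over products of conjugates of two involutions. -/
theorem sum_indFun_involution_pairs (H : Subgroup G) (S : Set G) (hSH : S ⊆ H)
    (hTI : ∀ g : G, g ∉ H → ∀ s ∈ S, g * s * g⁻¹ ∉ S) (hinv : ∀ s ∈ S, s⁻¹ ∈ S)
    (φ : H → ℂ) (hφS : ∀ x : H, (x : G) ∉ S → φ x = 0)
    (u v : G) (hu : orderOf u = 2) (hv : orderOf v = 2) :
    ∑ᶠ p ∈ {p : G × G | IsConj u p.1 ∧ IsConj v p.2}, indFun H φ (p.1 * p.2) =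
      (H.index : ℂ) * ∑ᶠ p ∈ {p : H × H | IsConj u (p.1 : G) ∧ IsConj v (p.2 : G)},
        φ (p.1 * p.2) := by
  classical
  haveI := Fintype.ofFinite H
  set P := Finset.univ.filter fun p : G × G => IsConj u p.1 ∧ IsConj v p.2 with hP
  have e1 : ({p : G × G | IsConj u p.1 ∧ IsConj v p.2} : Set _).toFinset = P := by ext; simp [hP]
  rw [finsum_mem_eq_toFinset_sum, finsum_mem_eq_toFinset_sum, e1]
  simp only [indFun, ← Finset.mul_sum]
  rw [Finset.sum_comm]
  have hx : ∀ x : G, ∑ p ∈ P, extendByZero H φ (x⁻¹ * (p.1 * p.2) * x) =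
      ∑ p ∈ P, extendByZero H φ (p.1 * p.2) := fun x => by
    refine Finset.sum_equiv ((MulAut.conj x⁻¹).toEquiv.prodCongr (MulAut.conj x⁻¹).toEquiv)
      (fun p => ?_) fun p _ => ?_
    · have key : ∀ w a : G, IsConj w (x⁻¹ * a * x) ↔ IsConj w a := fun w a => by
        have h : IsConj a (x⁻¹ * a * x) := isConj_iff.2 ⟨x⁻¹, by simp⟩
        exact ⟨fun h' => h'.trans h.symm, fun h' => h'.trans h⟩
      simp only [hP, Finset.mem_filter, Finset.mem_univ, true_and, Equiv.prodCongr_apply, Prod.map,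
        MulEquiv.toEquiv_eq_coe, MulEquiv.coe_toEquiv, MulAut.conj_apply, inv_inv, key]
    · simp only [Equiv.prodCongr_apply, Prod.map, MulEquiv.toEquiv_eq_coe, MulEquiv.coe_toEquiv,
        MulAut.conj_apply, inv_inv]
      congr 1
      group
  simp only [hx, Finset.sum_const, Finset.card_univ, nsmul_eq_mul, ← Nat.card_eq_fintype_card]
  rw [← mul_assoc, show (Nat.card G : ℂ) = (Nat.card H : ℂ) * (H.index : ℂ) by
    exact_mod_cast (H.card_mul_index).symm]
  rw [← mul_assoc (Nat.card H : ℂ)⁻¹, inv_mul_cancel₀ (by exact_mod_cast Nat.card_pos.ne'), one_mul]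
  congr 1
  have key : ∀ p ∈ P, extendByZero H φ (p.1 * p.2) ≠ 0 → p.1 ∈ H ∧ p.2 ∈ H := by
    intro p hp hne
    obtain ⟨hp1, hp2⟩ := (Finset.mem_filter.1 hp).2
    have hm : p.1 * p.2 ∈ H := by_contra fun h => hne (extendByZero_not_mem H φ h)
    have hS : p.1 * p.2 ∈ S := by_contra fun h => hne (by
      rw [extendByZero_mem H φ hm]; exact hφS _ h)
    have hsq : ∀ w a : G, orderOf w = 2 → IsConj w a → a * a = 1 := fun w a hw h => by
      obtain ⟨c, rfl⟩ := isConj_iff.1 h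
      have hw2 : w * w = 1 := by rw [← sq, ← hw]; exact pow_orderOf_eq_one w
      calc c * w * c⁻¹ * (c * w * c⁻¹) = c * (w * w) * c⁻¹ := by group
        _ = 1 := by rw [hw2]; group
    have h1 := hsq u p.1 hu hp1
    have h2 := hsq v p.2 hv hp2
    have hm1 : p.1 ∈ H := by
      by_contra hn
      refine hTI p.1 hn _ hS ?_
      have : p.1 * (p.1 * p.2) * p.1⁻¹ = (p.1 * p.2)⁻¹ := by
        rw [mul_inv_rev, ← mul_assoc, h1, one_mul, inv_eq_of_mul_eq_one_right h2]
      rw [this]; exact hinv _ hS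
    exact ⟨hm1, by simpa using H.mul_mem (H.inv_mem hm1) hm⟩
  rw [← Finset.sum_filter_of_ne key]
  symm
  refine Finset.sum_bij (fun p _ => ((p.1 : G), (p.2 : G))) (fun p hp => ?_) (fun p _ q _ h => ?_)
    (fun p hp => ?_) fun p hp => ?_
  · simp [hP] at hp ⊢; exact hp
  · simp only [Prod.mk.injEq] at h
    exact Prod.ext (Subtype.ext h.1) (Subtype.ext h.2)
  · obtain ⟨hp, h1, h2⟩ := Finset.mem_filter.1 hp
    refine ⟨(⟨p.1, h1⟩, ⟨p.2, h2⟩), ?_, rfl⟩
    simp [hP] at hp ⊢; exact hp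
  · exact (extendByZero_mem H φ (p.1 * p.2).2).symm

end CfsgLib.Char
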