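import Cfsg.Agent.Lib.Char.Linear

/-!
# Vanishing, faithful characters, fixed vectors
-/

set_option autoImplicit false
set_option linter.unusedSectionVars false

namespace CfsgLib.Char

open scoped ComplexConjugate
open Representation Module Cfsg

universe u v

variable {G : Type u} [Group G]

theorem char_eq_zero_of_fpf [Finite G] {V : Type v} [AddCommGroup V] [Module ℂ V]
    [FiniteDimensional ℂ V] (ρ : Representation ℂ G V) [ρ.IsIrreducible] (H : Subgroup G) [hN : H.Normal]
    (hker : ∃ h ∈ H, ρ h ≠ LinearMap.id) (g : G) (hg : ∀ h ∈ H, h * g = g * h → h = 1) :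
    ρ.character g = 0 := by
  classical
  have := Fintype.ofFinite H
  obtain ⟨h₀, hh₀, hne⟩ := hker
  set S : V →ₗ[ℂ] V := ∑ h : H, ρ h with hS
  obtain ⟨c, hc⟩ := schur_scalar ρ S fun x => by
    simp only [hS, Finset.sum_mul, Finset.mul_sum, ← map_mul]
    refine Fintype.sum_bijective
      (fun h : H => (⟨x⁻¹ * h * x, by simpa using hN.conj_mem h h.2 x⁻¹⟩ : H)) ⟨fun a b e => ?_, fun b => ?_⟩ _ _
      fun h => ?_
    · exact Subtype.ext (by simpa using congrArg Subtype.val e)
    · exact ⟨⟨x * b * x⁻¹, hN.conj_mem b b.2 x⟩, Subtype.ext (by simp [mul_assoc])⟩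
    · simp [mul_assoc]
  have habs : ρ h₀ * S = S := by
    simp only [hS, Finset.mul_sum, ← map_mul]
    exact Fintype.sum_bijective (fun h : H => (⟨h₀, hh₀⟩ : H) * h) (Group.mulLeft_bijective _) _ _
      fun h => rfl
  have hS0 : S = 0 := by
    by_contra hS0
    have hc0 : c ≠ 0 := fun e => hS0 (by rw [hc, e, zero_smul])
    refine hne (LinearMap.ext fun v => ?_)
    have h1 := LinearMap.congr_fun habs v
    rw [hc] at h1
    simp only [Module.End.mul_apply, LinearMap.smul_apply, LinearMap.id_apply, map_smul] at h1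
    exact smul_right_injective V hc0 h1
  let f : H → H := fun h => ⟨g⁻¹ * h * g * (h : G)⁻¹,
    H.mul_mem (by simpa using hN.conj_mem h h.2 g⁻¹) (H.inv_mem h.2)⟩
  have hf : Function.Bijective f := by
    refine Finite.injective_iff_bijective.mp fun a b e => ?_
    have e' : g⁻¹ * (a : G) * g * (a : G)⁻¹ = g⁻¹ * b * g * (b : G)⁻¹ := congrArg Subtype.val e
    have h1 : ((b : G)⁻¹ * a) * g = g * ((b : G)⁻¹ * a) := by
      have := congrArg (fun t => (b : G)⁻¹ * g * t * a) e'
      simp only [mul_assoc, mul_inv_cancel_left, inv_mul_cancel, mul_one, inv_mul_cancel_left] at this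
      simpa [mul_assoc] using this
    exact Subtype.ext (inv_mul_eq_one.mp (hg _ (H.mul_mem (H.inv_mem b.2) a.2) h1)).symm
  have hsum : ∑ h : H, ρ.character (g * h) = (Nat.card H : ℂ) * ρ.character g := by
    rw [← hf.sum_comp (fun h : H => ρ.character (g * h)), Finset.sum_congr rfl fun h _ => ?_]
    · rw [Finset.sum_const, Finset.card_univ, nsmul_eq_mul, ← Nat.card_eq_fintype_card]
    · show ρ.character (g * (g⁻¹ * h * g * (h : G)⁻¹)) = ρ.character g
      rw [show g * (g⁻¹ * (h : G) * g * (h : G)⁻¹) = (h : G) * g * (h : G)⁻¹ by group]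
      exact Representation.char_conj ρ g h
  have hsum0 : ∑ h : H, ρ.character (g * h) = 0 := by
    simp only [Representation.character, map_mul, ← map_sum, ← Finset.mul_sum, ← hS, hS0, mul_zero,
      map_zero]
  rw [hsum0] at hsum
  exact (mul_eq_zero.mp hsum.symm).resolve_left (by exact_mod_cast Nat.card_pos.ne')

theorem exists_degree_eq_card_mul [Fintype G] {χ : G → ℂ} (hχ : IsCharacter G χ) (P : Subgroup G)
    (hvan : ∀ g : G, g ∈ P → g ≠ 1 → χ g = 0) : ∃ k : ℕ, χ 1 = (Nat.card P : ℂ) * k := by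
  classical
  have := Fintype.ofFinite P
  obtain ⟨k, hk⟩ := classInner_isCharacter (isCharacter_comp hχ P.subtype)
    (isCharacter_of_isIrr (isIrrCharacter_one (G := P)))
  refine ⟨k, ?_⟩
  rw [classInner] at hk
  simp only [Subgroup.coe_subtype, map_one, mul_one] at hk
  rw [Finset.sum_eq_single (1 : P) (fun x _ hx => hvan x x.2 fun e => hx (Subtype.ext e))
    (fun h => absurd (Finset.mem_univ _) h), OneMemClass.coe_one] at hk
  rw [← hk, ← mul_assoc, mul_inv_cancel₀ (by exact_mod_cast Nat.card_pos.ne'), one_mul]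

theorem burnside_brauer [Fintype G] {V : Type v} [AddCommGroup V] [Module ℂ V] [FiniteDimensional ℂ V]
    (ρ : Representation ℂ G V) (hfaith : Function.Injective ρ) {ψ : G → ℂ}
    (hψ : IsIrrCharacter G ψ) :
    ∃ i : ℕ, i < Nat.card (Set.range ρ.character) ∧
      classInner (fun g => ρ.character g ^ i) ψ ≠ 0 := by
  classical
  by_contra hc
  push Not at hc
  set n : ℂ := (finrank ℂ V : ℂ) with hn
  let S : Finset ℂ := Finset.univ.image ρ.character
  have hcard : Nat.card (Set.range ρ.character) = S.card := by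
    rw [Nat.card_eq_card_toFinset, Set.toFinset_range]
  let P : Polynomial ℂ := ∏ a ∈ S.erase n, (Polynomial.X - Polynomial.C a)
  have hnS : n ∈ S := Finset.mem_image.mpr ⟨1, Finset.mem_univ _, Representation.char_one ρ⟩
  have hdeg : P.natDegree < S.card := by
    have : P.natDegree = (S.erase n).card := Polynomial.natDegree_finset_prod_X_sub_C_eq_card _ _
    rw [this]
    exact Finset.card_erase_lt_of_mem hnS
  have h0 : classInner (fun g => P.eval (ρ.character g)) ψ = 0 := by
    have e : (fun g => P.eval (ρ.character g)) =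
        ∑ i ∈ Finset.range S.card, P.coeff i • (fun g => ρ.character g ^ i) := by
      funext g
      simp [Polynomial.eval_eq_sum_range' hdeg, Finset.sum_apply]
    rw [e, classInner_sum_left]
    refine Finset.sum_eq_zero fun i hi => ?_
    rw [classInner_smul_left, hc i (hcard ▸ Finset.mem_range.mp hi), mul_zero]
  have hP : ∀ g : G, g ≠ 1 → P.eval (ρ.character g) = 0 := by
    intro g hg
    rw [Polynomial.eval_prod]
    refine Finset.prod_eq_zero (i := ρ.character g) (Finset.mem_erase.mpr ⟨fun e => hg ?_, ?_⟩) (by simp)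
    · exact hfaith (by rw [(char_eq_degree_iff ρ g).mp e, map_one]; rfl)
    · exact Finset.mem_image.mpr ⟨g, Finset.mem_univ _, rfl⟩
  rw [classInner, Finset.sum_eq_single (1 : G) (fun g _ hg => by simp only [hP g hg, zero_mul])
    (fun h => absurd (Finset.mem_univ _) h)] at h0
  rcases mul_eq_zero.mp h0 with h | h
  · exact inv_ne_zero card_ne_zero' h
  rcases mul_eq_zero.mp h with h | h
  · rw [Representation.char_one, Polynomial.eval_prod, Finset.prod_eq_zero_iff] at h
    obtain ⟨a, ha, he⟩ := h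
    rw [Polynomial.eval_sub, Polynomial.eval_X, Polynomial.eval_C, sub_eq_zero] at he
    exact (Finset.mem_erase.mp ha).1 he.symm
  · exact irr_one_ne_zero ⟨ψ, hψ⟩ (by simpa using h)

theorem comm_of_small_faithful [Finite G] {V : Type v} [AddCommGroup V] [Module ℂ V]
    [FiniteDimensional ℂ V] (ρ : Representation ℂ G V) (hfaith : Function.Injective ρ)
    (hdeg : ∀ p : ℕ, p.Prime → p ∣ Nat.card G → finrank ℂ V < p) (a b : G) : a * b = b * a := by
  classical
  have := Fintype.ofFinite G
  have := Fintype.ofFinite (IrrCharacter G)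
  choose d hd0 hd using fun ψ : IrrCharacter G => isIrrCharacter_degree ψ.2
  choose m hm using classInner_char_irr_nat (isCharacter_character ρ)
  have hexp : ∀ g : G, ρ.character g = ∑ ψ : IrrCharacter G, (m ψ : ℂ) * (ψ : G → ℂ) g := fun g => by
    conv_lhs => rw [classFun_expand (isClassFunction_of_isCharacter (isCharacter_character ρ))]
    simp [hm, Finset.sum_apply]
  have hn : finrank ℂ V = ∑ ψ : IrrCharacter G, m ψ * d ψ := by
    have h1 := hexp 1
    rw [Representation.char_one] at h1
    simp only [hd] at h1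
    exact_mod_cast h1
  have hone : ∀ ψ : IrrCharacter G, m ψ ≠ 0 → d ψ = 1 := by
    intro ψ hψ
    by_contra h1
    obtain ⟨p, hp, hpd⟩ := Nat.exists_prime_and_dvd h1
    have h2 : d ψ ≤ finrank ℂ V := by
      rw [hn]
      exact (Nat.le_mul_of_pos_left _ (Nat.pos_of_ne_zero hψ)).trans
        (Finset.single_le_sum (f := fun ψ => m ψ * d ψ) (fun x _ => Nat.zero_le _) (Finset.mem_univ ψ))
    exact absurd (Nat.le_of_dvd (hd0 ψ) hpd)
      (not_le.mpr (lt_of_le_of_lt h2 (hdeg p hp (hpd.trans (degree_dvd_card ψ (hd ψ))))))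
  have hcomm : ρ.character (a * b * a⁻¹ * b⁻¹) = (finrank ℂ V : ℂ) := by
    rw [hexp, hn, Nat.cast_sum]
    refine Finset.sum_congr rfl fun ψ _ => ?_
    by_cases hψ : m ψ = 0
    · simp [hψ]
    obtain ⟨lam, hlam⟩ := linearCharEquiv.surjective
      (⟨ψ, by rw [hd, hone ψ hψ, Nat.cast_one]⟩ : {χ : IrrCharacter G // (χ : G → ℂ) 1 = 1})
    have e : (ψ : G → ℂ) (a * b * a⁻¹ * b⁻¹) = (lam (a * b * a⁻¹ * b⁻¹) : ℂ) :=
      (congrFun (congrArg (fun z => ((z.1 : IrrCharacter G) : G → ℂ)) hlam) _).symm
    have hl : lam (a * b * a⁻¹ * b⁻¹) = 1 := by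
      rw [map_mul, map_mul, map_mul, map_inv, map_inv, mul_right_comm (lam a) (lam b), mul_inv_cancel,
        one_mul, mul_inv_cancel]
    rw [e, hl, hone ψ hψ]
    simp
  have h1 : a * b * a⁻¹ * b⁻¹ = 1 :=
    hfaith (by rw [(char_eq_degree_iff ρ _).mp hcomm, map_one]; rfl)
  exact commutatorElement_eq_one_iff_commute.mp (by rw [commutatorElement_def]; exact h1)

theorem classInner_one_eq_finrank_fixed [Fintype G] {V : Type v} [AddCommGroup V] [Module ℂ V]
    [FiniteDimensional ℂ V] (ρ : Representation ℂ G V) :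
    classInner ρ.character (fun _ => 1) = (finrank ℂ (Representation.invariants ρ) : ℂ) := by
  have : Invertible (Fintype.card G : ℂ) := invertibleOfNonzero (by simp)
  rw [← (Representation.isProj_averageMap ρ).trace]
  simp [classInner, Representation.character, Representation.averageMap, GroupAlgebra.average,
    Representation.asAlgebraHom_single, Finset.mul_sum, map_sum, Nat.card_eq_fintype_card]

theorem sup_ne_top_of_fixed [Fintype G] [IsSimpleGroup G] (H₁ H₂ : Subgroup G) [Fintype H₁]
    [Fintype H₂] [Fintype ↥(H₁ ⊓ H₂)] {χ : G → ℂ} (hχ : IsIrrCharacter G χ) (hχ1 : χ ≠ fun _ => 1)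
    (hlt : (classInner (fun x : ↥(H₁ ⊓ H₂) => χ x) (fun _ => 1)).re <
      (classInner (fun x : H₁ => χ x) (fun _ => 1)).re + (classInner (fun x : H₂ => χ x) (fun _ => 1)).re) :
    H₁ ⊔ H₂ ≠ ⊤ := by
  obtain ⟨n, ρ, hρ, rfl⟩ := hχ
  have key : ∀ (H : Subgroup G) [Fintype H], (classInner (fun x : H => ρ.character x) (fun _ => 1)).re =
      (finrank ℂ (Representation.invariants (ρ.comp H.subtype : Representation ℂ H (Fin n → ℂ))) : ℝ) := by
    intro H _
    have e : (fun x : H => ρ.character x) =
        Representation.character (ρ.comp H.subtype : Representation ℂ H (Fin n → ℂ)) := rfl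
    rw [e, classInner_one_eq_finrank_fixed, Complex.natCast_re]
  rw [key, key, key] at hlt
  have hlt' : finrank ℂ (Representation.invariants (ρ.comp (H₁ ⊓ H₂).subtype : Representation ℂ _ (Fin n → ℂ))) <
      finrank ℂ (Representation.invariants (ρ.comp H₁.subtype : Representation ℂ _ (Fin n → ℂ))) +
      finrank ℂ (Representation.invariants (ρ.comp H₂.subtype : Representation ℂ _ (Fin n → ℂ))) := by
    exact_mod_cast hlt
  set U₁ := Representation.invariants (ρ.comp H₁.subtype : Representation ℂ _ (Fin n → ℂ))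
  set U₂ := Representation.invariants (ρ.comp H₂.subtype : Representation ℂ _ (Fin n → ℂ))
  set U := Representation.invariants (ρ.comp (H₁ ⊓ H₂).subtype : Representation ℂ _ (Fin n → ℂ))
  have hsup : U₁ ⊔ U₂ ≤ U := by
    refine sup_le (fun v hv x => ?_) (fun v hv x => ?_)
    · exact hv ⟨x.1, x.2.1⟩
    · exact hv ⟨x.1, x.2.2⟩
  have h1 := Submodule.finrank_sup_add_finrank_inf_eq U₁ U₂
  have h2 := Submodule.finrank_mono hsup
  have hpos : 0 < finrank ℂ ↥(U₁ ⊓ U₂) := by omega
  have hne : U₁ ⊓ U₂ ≠ ⊥ := fun e => by rw [e, finrank_bot] at hpos; omega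
  obtain ⟨v, hv, hv0⟩ := Submodule.exists_mem_ne_zero_of_ne_bot hne
  intro htop
  let K : Subgroup G :=
    { carrier := {g | ρ g v = v}
      one_mem' := by simp
      mul_mem' := fun {a b} (ha : ρ a v = v) (hb : ρ b v = v) => by
        show ρ (a * b) v = v
        rw [map_mul, Module.End.mul_apply, hb, ha]
      inv_mem' := fun {a} (ha : ρ a v = v) => by
        show ρ a⁻¹ v = v
        conv_lhs => rw [← ha, ← Module.End.mul_apply, ← map_mul, inv_mul_cancel, map_one,
          Module.End.one_apply] }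
  have hK : H₁ ⊔ H₂ ≤ K := sup_le (fun g hg => hv.1 ⟨g, hg⟩) (fun g hg => hv.2 ⟨g, hg⟩)
  rw [htop] at hK
  let T : Subrepresentation ρ := ⟨ℂ ∙ v, fun g w hw => by
    obtain ⟨c, rfl⟩ := Submodule.mem_span_singleton.mp hw
    rw [map_smul, (hK (Subgroup.mem_top g) : ρ g v = v)]
    exact hw⟩
  rcases hρ.eq_bot_or_eq_top T with e | e
  · exact hv0 (Submodule.span_singleton_eq_bot.mp (congrArg Subrepresentation.toSubmodule e))
  · have e' : (ℂ ∙ v) = (⊤ : Submodule ℂ (Fin n → ℂ)) := congrArg Subrepresentation.toSubmodule e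
    refine hχ1 (funext fun g => ?_)
    have hid : ρ g = LinearMap.id := LinearMap.ext fun w => by
      obtain ⟨c, rfl⟩ := Submodule.mem_span_singleton.mp (e' ▸ Submodule.mem_top (x := w))
      rw [map_smul, (hK (Subgroup.mem_top g) : ρ g v = v)]
      rfl
    have hd : finrank ℂ (Fin n → ℂ) = 1 := by
      have := finrank_span_singleton (K := ℂ) hv0
      rwa [e', finrank_top] at this
    rw [Representation.character, hid, LinearMap.trace_id, hd, Nat.cast_one]

end CfsgLib.Char
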