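import Mathlib
import Cfsg.Agent.Lib.Char.TiInduced
import Cfsg.Agent.Lib.Char.Vanish
import Cfsg.Agent.Lib.Char.Degree
import Cfsg.Agent.Lib.Char.Exceptional

/-!
# Exceptional characters of an abelian TI subgroup containing its centralizers
-/

set_option autoImplicit false
set_option linter.unusedSectionVars false

namespace CfsgLib.Char

open Cfsg

universe u

variable {G : Type u} [Group G] [Fintype G]

theorem vanish_of_nonconst (K : Subgroup G) [K.Normal]
    (hC : ∀ k ∈ K, k ≠ 1 → Subgroup.centralizer ({k} : Set G) ≤ K) {χ : G → ℂ}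
    (hχ : IsIrrCharacter G χ) (hk : ∃ k ∈ K, χ k ≠ χ 1) {g : G} (hg : g ∉ K) : χ g = 0 := by
  obtain ⟨n, ρ, hρ, rfl⟩ := hχ
  haveI := hρ
  obtain ⟨k, hk, hne⟩ := hk
  refine char_eq_zero_of_fpf ρ K ⟨k, hk, fun h => hne ?_⟩ g fun h hh hcomm => ?_
  · simp only [Representation.character, h, map_one]
    rfl
  · by_contra h1
    exact hg (hC h hh h1 (Subgroup.mem_centralizer_singleton_iff.2 hcomm.symm))

theorem index_dvd_degree_of_nonconst (K : Subgroup G) [K.Normal]
    (hC : ∀ k ∈ K, k ≠ 1 → Subgroup.centralizer ({k} : Set G) ≤ K)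
    (hcop : (Nat.card K).Coprime K.index) {χ : G → ℂ}
    (hχ : IsIrrCharacter G χ) (hk : ∃ k ∈ K, χ k ≠ χ 1) {d : ℕ} (hd : χ 1 = d) : K.index ∣ d := by
  have hd0 : 0 < d := by
    obtain ⟨d', hd0, hd'⟩ := isIrrCharacter_degree hχ
    rw [hd] at hd'
    rwa [Nat.cast_inj.1 hd']
  refine (Nat.factorization_prime_le_iff_dvd Subgroup.index_ne_zero_of_finite hd0.ne').1
    fun p hp => ?_
  haveI : Fact p.Prime := ⟨hp⟩
  by_cases hpi : p ∣ K.index
  · obtain ⟨P⟩ : Nonempty (Sylow p G) := inferInstance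
    obtain ⟨m, hm⟩ := exists_degree_eq_card_mul (isCharacter_of_isIrr hχ) P.1 fun g hg hg1 => by
      refine vanish_of_nonconst K hC hχ hk fun hgK => hg1 (orderOf_eq_one_iff.1 ?_)
      obtain ⟨j, hj⟩ := (IsPGroup.iff_orderOf.1 P.2) ⟨g, hg⟩
      rw [Subgroup.orderOf_mk] at hj
      rcases Nat.eq_zero_or_pos j with rfl | hj0
      · rw [hj, pow_zero]
      · exfalso
        have hpK : p ∣ Nat.card K := by
          refine dvd_trans ?_ (Subgroup.orderOf_mk g hgK ▸ orderOf_dvd_natCard (⟨g, hgK⟩ : K))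
          exact hj ▸ dvd_pow_self p hj0.ne'
        exact hp.ne_one (Nat.eq_one_of_dvd_coprimes hcop hpK hpi)
    rw [hd, P.card_eq_multiplicity] at hm
    have hm' : d = p ^ (Nat.card G).factorization p * m := by exact_mod_cast hm
    have hle : p ^ (Nat.card G).factorization p ∣ d := ⟨m, hm'⟩
    refine le_trans ?_ ((hp.pow_dvd_iff_le_factorization hd0.ne').1 hle)
    exact (Nat.factorization_le_iff_dvd Subgroup.index_ne_zero_of_finite Nat.card_pos.ne').2
      (K.index_dvd_card) p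
  · rw [Nat.factorization_eq_zero_of_not_dvd hpi]; exact Nat.zero_le _

theorem degree_eq_index_of_nonconst (K : Subgroup G) [K.Normal]
    (hC : ∀ k ∈ K, k ≠ 1 → Subgroup.centralizer ({k} : Set G) ≤ K)
    (hcop : (Nat.card K).Coprime K.index) (hab : ∀ a ∈ K, ∀ b ∈ K, a * b = b * a) {χ : G → ℂ}
    (hχ : IsIrrCharacter G χ) (hk : ∃ k ∈ K, χ k ≠ χ 1) : χ 1 = (K.index : ℂ) := by
  obtain ⟨d, hd0, hd⟩ := isIrrCharacter_degree hχ
  have h1 : d ∣ K.index := degree_dvd_index_abelian G K hab χ hχ d hd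
  have h2 : K.index ∣ d := index_dvd_degree_of_nonconst K hC hcop hχ hk hd
  rw [hd, Nat.dvd_antisymm h1 h2]

theorem abelian_tifn_exceptional (K : Subgroup G)
    (hTI : ∀ g : G, g ∉ Subgroup.normalizer (K : Set G) → ∀ k ∈ K, g * k * g⁻¹ ∈ K → k = 1)
    (hC : ∀ k ∈ K, k ≠ 1 → Subgroup.centralizer ({k} : Set G) ≤ K)
    (hab : ∀ a ∈ K, ∀ b ∈ K, a * b = b * a) :
    ∃ (ε : ℂ) (f : {χ : IrrCharacter (Subgroup.normalizer (K : Set G)) //
        ∃ k : Subgroup.normalizer (K : Set G), (k : G) ∈ K ∧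
          (χ : ↥(Subgroup.normalizer (K : Set G)) → ℂ) k ≠
            (χ : ↥(Subgroup.normalizer (K : Set G)) → ℂ) 1} → IrrCharacter G),
      (ε = 1 ∨ ε = -1) ∧ Function.Injective f ∧ ∀ χ ξ,
        indFun (Subgroup.normalizer (K : Set G)) ((χ.1 : ↥(Subgroup.normalizer (K : Set G)) → ℂ) -
          (ξ.1 : ↥(Subgroup.normalizer (K : Set G)) → ℂ)) =
          ε • ((f χ : G → ℂ) - (f ξ : G → ℂ)) := by
  classical
  set N := Subgroup.normalizer (K : Set G) with hN
  haveI : Fintype N := Fintype.ofFinite N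
  set K' := K.subgroupOf N with hK'
  haveI : K'.Normal := Subgroup.normal_in_normalizer
  have hC' : ∀ k ∈ K', k ≠ 1 → Subgroup.centralizer ({k} : Set N) ≤ K' := fun k hk hk1 x hx => by
    refine hC (k : G) hk (fun h => hk1 (Subtype.ext h)) ?_
    rw [Subgroup.mem_centralizer_singleton_iff] at hx ⊢
    exact congrArg Subtype.val hx
  have hcop : (Nat.card K').Coprime K'.index := by
    rw [Nat.card_congr (Subgroup.subgroupOfEquivOfLe Subgroup.le_normalizer).toEquiv]
    exact index_coprime_of_centralizer_le K hC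
  let X := {χ : IrrCharacter N // ∃ k : N, (k : G) ∈ K ∧ (χ : N → ℂ) k ≠ (χ : N → ℂ) 1}
  haveI : Finite X := Subtype.finite
  let e := Finite.equivFin X
  rcases Nat.eq_zero_or_pos (Nat.card X) with h0 | hpos
  · haveI : IsEmpty X := (Finite.card_eq_zero_iff).1 h0
    exact ⟨1, isEmptyElim, Or.inl rfl, fun a => isEmptyElim a, fun a => isEmptyElim a⟩
  obtain ⟨ε, hε, θ, hθ, hθi, he⟩ := exceptional_TI (K : Set G) hTI hpos (fun i => ((e.symm i).1 : N → ℂ))
    (fun i => (e.symm i).1.2) (fun i j h => e.symm.injective (Subtype.ext (Subtype.ext h)))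
    (fun i x hx => vanish_of_nonconst K' hC' (e.symm i).1.2 (e.symm i).2 hx)
    (fun i j => by
      rw [degree_eq_index_of_nonconst K' hC' hcop (fun a ha b hb => Subtype.ext (hab a ha b hb))
          (e.symm i).1.2 (e.symm i).2,
        degree_eq_index_of_nonconst K' hC' hcop (fun a ha b hb => Subtype.ext (hab a ha b hb))
          (e.symm j).1.2 (e.symm j).2])
  refine ⟨ε, fun χ => ⟨θ (e χ), hθ _⟩, hε, fun a b h => e.injective (hθi (congrArg Subtype.val h)),
    fun χ ξ => ?_⟩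
  have h := he (e χ) (e ξ)
  simp only [Equiv.symm_apply_apply] at h
  rw [indFun_sub]
  exact h

end CfsgLib.Char
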