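import Mathlib
import Cfsg.Agent.Lib.Char.AbelianTifn
import Cfsg.Agent.Lib.Char.CoherenceBasic
import Cfsg.Agent.Lib.Char.Virtual
import Cfsg.Agent.Lib.Char.Galois

/-!
# Coherent exceptional characters of a TI subgroup containing its centralizers
-/

set_option autoImplicit false
set_option linter.unusedSectionVars false

namespace CfsgLib.Char

open scoped ComplexConjugate
open Cfsg

universe u v

section kernel

open scoped Classical

variable {N : Type u} [Group N] [Fintype N] (K : Subgroup N) [K.Normal]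

theorem sum_subgroup_eq_zero_of_nonconst
    (hC : ∀ k ∈ K, k ≠ 1 → Subgroup.centralizer ({k} : Set N) ≤ K) {ξ : N → ℂ}
    (hξ : IsIrrCharacter N ξ) (hne : ∃ k ∈ K, ξ k ≠ ξ 1) [Fintype K] : ∑ k : K, ξ k = 0 := by
  classical
  have h1 : (⟨ξ, hξ⟩ : IrrCharacter N) ≠ ⟨_, isIrrCharacter_one⟩ := by
    intro e
    obtain ⟨k, hk, hne⟩ := hne
    have e' : ξ = fun _ => 1 := congrArg Subtype.val e
    exact hne (by rw [e'])
  have h := classInner_irr_ne h1
  rw [classInner, mul_eq_zero] at h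
  have h2 := h.resolve_left (inv_ne_zero card_ne_zero')
  simp only [map_one, mul_one] at h2
  rw [← h2]
  refine Eq.trans ?_ (Finset.sum_subset_zero_on_sdiff (s₁ := Finset.univ.map ⟨((↑) : K → N), Subtype.val_injective⟩)
    (Finset.subset_univ _) (fun g hg => ?_) (fun g _ => rfl))
  swap
  · simp only [Finset.mem_sdiff, Finset.mem_univ, Finset.mem_map, Function.Embedding.coeFn_mk,
      true_and, not_exists] at hg
    exact vanish_of_nonconst K hC hξ hne fun hgK => hg ⟨g, hgK⟩ rfl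
  · rw [Finset.sum_map]; rfl

theorem sum_exceptional_degree_mul [Fintype (IrrCharacter N)] {k : N} (hk : k ∈ K) (hk1 : k ≠ 1) :
    (∑ χ ∈ Finset.univ.filter (fun χ : IrrCharacter N => ∃ a ∈ K, (χ : N → ℂ) a ≠ (χ : N → ℂ) 1),
        (χ : N → ℂ) k * (χ : N → ℂ) 1) =
      -∑ χ ∈ Finset.univ.filter (fun χ : IrrCharacter N => ¬∃ a ∈ K, (χ : N → ℂ) a ≠ (χ : N → ℂ) 1),
        (χ : N → ℂ) 1 ^ 2 := by
  classical
  have h := sum_irr_mul_conj k (1 : N)
  rw [if_neg (fun e => hk1 (isConj_one_left.1 e))] at h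
  simp only [conj_irr_one] at h
  rw [← Finset.sum_filter_add_sum_filter_not Finset.univ
    (fun χ : IrrCharacter N => ∃ a ∈ K, (χ : N → ℂ) a ≠ (χ : N → ℂ) 1)] at h
  refine eq_neg_of_add_eq_zero_left (Eq.trans ?_ h)
  congr 1
  refine Finset.sum_congr rfl fun χ hχ => ?_
  have h' := (Finset.mem_filter.1 hχ).2
  push Not at h'
  rw [h' k hk, sq]

theorem const_of_prop_inner {f : N → ℂ} (hf : IsClassFunction N f) (r : ℂ)
    (h : ∀ ξ : IrrCharacter N, (∃ a ∈ K, (ξ : N → ℂ) a ≠ (ξ : N → ℂ) 1) →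
      classInner f (ξ : N → ℂ) = r * (ξ : N → ℂ) 1) {k k' : N} (hk : k ∈ K) (hk1 : k ≠ 1)
    (hk' : k' ∈ K) (hk'1 : k' ≠ 1) : f k = f k' := by
  classical
  have := Fintype.ofFinite (IrrCharacter N)
  have key : ∀ x ∈ K, x ≠ 1 → f x =
      r * (-∑ χ ∈ Finset.univ.filter (fun χ : IrrCharacter N =>
        ¬∃ a ∈ K, (χ : N → ℂ) a ≠ (χ : N → ℂ) 1), (χ : N → ℂ) 1 ^ 2) +
      ∑ χ ∈ Finset.univ.filter (fun χ : IrrCharacter N =>
        ¬∃ a ∈ K, (χ : N → ℂ) a ≠ (χ : N → ℂ) 1), classInner f (χ : N → ℂ) * (χ : N → ℂ) 1 := by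
    intro x hx hx1
    have hexp := congrFun (classFun_expand hf) x
    simp only [Finset.sum_apply, Pi.smul_apply, smul_eq_mul] at hexp
    rw [hexp, ← Finset.sum_filter_add_sum_filter_not Finset.univ
      (fun χ : IrrCharacter N => ∃ a ∈ K, (χ : N → ℂ) a ≠ (χ : N → ℂ) 1),
      ← sum_exceptional_degree_mul K hx hx1, Finset.mul_sum]
    congr 1
    · refine Finset.sum_congr rfl fun χ hχ => ?_
      rw [h χ (Finset.mem_filter.1 hχ).2]; ring
    · refine Finset.sum_congr rfl fun χ hχ => ?_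
      have h' := (Finset.mem_filter.1 hχ).2
      push Not at h'
      rw [h' x hx]
  rw [key k hk hk1, key k' hk' hk'1]

theorem sum_sq_exceptional (hC : ∀ k ∈ K, k ≠ 1 → Subgroup.centralizer ({k} : Set N) ≤ K)
    [Fintype (IrrCharacter N)] :
    (∑ χ ∈ Finset.univ.filter (fun χ : IrrCharacter N => ∃ a ∈ K, (χ : N → ℂ) a ≠ (χ : N → ℂ) 1),
        (χ : N → ℂ) 1 ^ 2) = (K.index : ℂ) * ((Nat.card K : ℂ) - 1) := by
  classical
  have := Fintype.ofFinite K
  set T := ∑ χ ∈ Finset.univ.filter (fun χ : IrrCharacter N =>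
    ¬∃ a ∈ K, (χ : N → ℂ) a ≠ (χ : N → ℂ) 1), (χ : N → ℂ) 1 ^ 2 with hT
  set E := ∑ χ ∈ Finset.univ.filter (fun χ : IrrCharacter N =>
    ∃ a ∈ K, (χ : N → ℂ) a ≠ (χ : N → ℂ) 1), (χ : N → ℂ) 1 ^ 2 with hE
  have hET : E + T = (Nat.card N : ℂ) := by
    rw [hE, hT, Finset.sum_filter_add_sum_filter_not]; exact sum_degree_sq
  -- sum the vanishing column relation over the kernel
  have hsum : ∑ k : K, (∑ χ ∈ Finset.univ.filter (fun χ : IrrCharacter N =>
      ∃ a ∈ K, (χ : N → ℂ) a ≠ (χ : N → ℂ) 1), (χ : N → ℂ) (k : N) * (χ : N → ℂ) 1) = 0 := by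
    rw [Finset.sum_comm]
    refine Finset.sum_eq_zero fun χ hχ => ?_
    rw [← Finset.sum_mul, sum_subgroup_eq_zero_of_nonconst K hC χ.2 (Finset.mem_filter.1 hχ).2, zero_mul]
  rw [← Finset.add_sum_erase _ _ (Finset.mem_univ (1 : K))] at hsum
  rw [Finset.sum_congr rfl (g := fun _ : K => -T) fun k hk =>
    sum_exceptional_degree_mul K k.2 fun e => (Finset.mem_erase.1 hk).1 (Subtype.ext e)] at hsum
  rw [Finset.sum_const, Finset.card_erase_of_mem (Finset.mem_univ _), Finset.card_univ,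
    ← Nat.card_eq_fintype_card, nsmul_eq_mul, Nat.cast_sub Nat.card_pos, Nat.cast_one,
    show (∑ χ ∈ Finset.univ.filter (fun χ : IrrCharacter N =>
      ∃ a ∈ K, (χ : N → ℂ) a ≠ (χ : N → ℂ) 1), (χ : N → ℂ) ((1 : K) : N) * (χ : N → ℂ) 1) = E from
      Finset.sum_congr rfl fun χ _ => by rw [OneMemClass.coe_one, sq]] at hsum
  have hN : (Nat.card N : ℂ) = (Nat.card K : ℂ) * (K.index : ℂ) := by
    exact_mod_cast K.card_mul_index.symm
  have hTe : T = (K.index : ℂ) := by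
    refine mul_left_cancel₀ (b := T) (card_ne_zero' (G := K)) ?_
    linear_combination hET + hN - hsum
  linear_combination hsum + ((Nat.card K : ℂ) - 1) * hTe

theorem int_multiple (hC : ∀ k ∈ K, k ≠ 1 → Subgroup.centralizer ({k} : Set N) ≤ K)
    (hcop : (Nat.card K).Coprime K.index) {ξ₀ : IrrCharacter N}
    (hξ₀ : ∃ a ∈ K, (ξ₀ : N → ℂ) a ≠ (ξ₀ : N → ℂ) 1) (D : IrrCharacter N → ℤ)
    (hD : ∀ ξ : IrrCharacter N, (∃ a ∈ K, (ξ : N → ℂ) a ≠ (ξ : N → ℂ) 1) →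
      (ξ₀ : N → ℂ) 1 * (D ξ : ℂ) = (ξ : N → ℂ) 1 * (D ξ₀ : ℂ)) :
    ∃ m : ℤ, ∀ ξ : IrrCharacter N, (∃ a ∈ K, (ξ : N → ℂ) a ≠ (ξ : N → ℂ) 1) →
      (D ξ : ℂ) = (m : ℂ) * (ξ : N → ℂ) 1 / (K.index : ℂ) := by
  classical
  have := Fintype.ofFinite (IrrCharacter N)
  set e := K.index with he
  have he0 : e ≠ 0 := Subgroup.index_ne_zero_of_finite
  have hf : ∀ ξ : IrrCharacter N, (∃ a ∈ K, (ξ : N → ℂ) a ≠ (ξ : N → ℂ) 1) →
      ∃ f : ℕ, 0 < f ∧ (ξ : N → ℂ) 1 = ((e * f : ℕ) : ℂ) ∧ f ∣ Nat.card K := by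
    intro ξ hξ
    obtain ⟨d, hd0, hd⟩ := isIrrCharacter_degree ξ.2
    obtain ⟨f, rfl⟩ := index_dvd_degree_of_nonconst K hC hcop ξ.2 hξ hd
    refine ⟨f, Nat.pos_of_mul_pos_left hd0, hd, ?_⟩
    have h := degree_dvd_index_abelian N (⊥ : Subgroup N) (by simp) _ ξ.2 _ hd
    rw [Subgroup.index_bot, ← K.card_mul_index, mul_comm (Nat.card K)] at h
    exact Nat.dvd_of_mul_dvd_mul_left (Nat.pos_of_ne_zero he0) h
  choose f hf0 hf1 hf2 using hf
  set q : ℚ := (D ξ₀ : ℚ) / (f ξ₀ hξ₀ : ℚ) with hq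
  have hqD : ∀ ξ hξ, q * (f ξ hξ : ℚ) = (D ξ : ℚ) := by
    intro ξ hξ
    have h := hD ξ hξ
    rw [hf1 ξ₀ hξ₀, hf1 ξ hξ] at h
    push_cast at h
    have h2 : (f ξ₀ hξ₀ : ℂ) * (D ξ : ℂ) = (f ξ hξ : ℂ) * (D ξ₀ : ℂ) :=
      mul_left_cancel₀ (Nat.cast_ne_zero.2 he0 : (e : ℂ) ≠ 0) (by linear_combination h)
    have h3 : (f ξ₀ hξ₀ : ℚ) * (D ξ : ℚ) = (f ξ hξ : ℚ) * (D ξ₀ : ℚ) := by exact_mod_cast h2
    have h4 : (f ξ₀ hξ₀ : ℚ) ≠ 0 := Nat.cast_ne_zero.2 (hf0 ξ₀ hξ₀).ne'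
    rw [hq]; field_simp
    linear_combination -h3
  have hden : ∀ ξ hξ, q.den ∣ f ξ hξ := by
    intro ξ hξ
    have h := hqD ξ hξ
    have h4 : (f ξ hξ : ℚ) ≠ 0 := Nat.cast_ne_zero.2 (hf0 ξ hξ).ne'
    have hq' : q = ((D ξ : ℤ) : ℚ) / (((f ξ hξ : ℕ) : ℤ) : ℚ) := by
      push_cast; field_simp; linear_combination h
    rw [hq', ← Rat.divInt_eq_div]
    exact_mod_cast Rat.den_dvd (D ξ) (f ξ hξ : ℤ)
  have hS := sum_sq_exceptional K hC
  rw [Finset.sum_congr rfl (g := fun χ : IrrCharacter N =>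
      if hχ : ∃ a ∈ K, (χ : N → ℂ) a ≠ (χ : N → ℂ) 1 then (((e * f χ hχ) ^ 2 : ℕ) : ℂ) else 0)
    fun χ hχ => by rw [dif_pos (Finset.mem_filter.1 hχ).2]; refine (congrArg (· ^ 2) (hf1 χ (Finset.mem_filter.1 hχ).2)).trans ?_; push_cast; ring]
    at hS
  have hS' : (∑ χ ∈ Finset.univ.filter (fun χ : IrrCharacter N =>
      ∃ a ∈ K, (χ : N → ℂ) a ≠ (χ : N → ℂ) 1),
      if hχ : ∃ a ∈ K, (χ : N → ℂ) a ≠ (χ : N → ℂ) 1 then (e * f χ hχ) ^ 2 else 0) =
      e * (Nat.card K - 1) := by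
    have h1 : ((e * (Nat.card K - 1) : ℕ) : ℂ) = (e : ℂ) * ((Nat.card K : ℂ) - 1) := by
      rw [Nat.cast_mul, Nat.cast_sub Nat.card_pos, Nat.cast_one]
    apply Nat.cast_injective (R := ℂ)
    rw [h1, ← hS, Nat.cast_sum]
    refine Finset.sum_congr rfl fun χ _ => ?_
    split_ifs <;> simp
  have hb1 : q.den ∣ Nat.card K := (hden ξ₀ hξ₀).trans (hf2 ξ₀ hξ₀)
  have hb2 : q.den ∣ Nat.card K - 1 := by
    have h : e * q.den ∣ e * (Nat.card K - 1) := by
      rw [← hS']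
      refine Finset.dvd_sum fun χ hχ => ?_
      rw [dif_pos (Finset.mem_filter.1 hχ).2, sq]
      exact Dvd.dvd.mul_right (mul_dvd_mul_left e (hden _ _)) _
    exact Nat.dvd_of_mul_dvd_mul_left (Nat.pos_of_ne_zero he0) h
  have hden1 : q.den = 1 := by
    have := Nat.dvd_sub hb1 hb2
    rw [Nat.sub_sub_self Nat.card_pos] at this
    exact Nat.dvd_one.1 this
  refine ⟨q.num, fun ξ hξ => ?_⟩
  have h := hqD ξ hξ
  rw [← Rat.coe_int_num_of_den_eq_one hden1] at h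
  have h' : (q.num : ℂ) * (f ξ hξ : ℂ) = (D ξ : ℂ) := by exact_mod_cast h
  rw [hf1 ξ hξ, ← h']
  have : (e : ℂ) ≠ 0 := Nat.cast_ne_zero.2 he0
  push_cast
  field_simp

end kernel

section group

variable {G : Type u} [Group G] [Fintype G] (K : Subgroup G)

/-- The exceptional set of the normalizer. -/
abbrev ExcSet : Set (↥(Subgroup.normalizer (K : Set G)) → ℂ) :=
  {χ | IsIrrCharacter ↥(Subgroup.normalizer (K : Set G)) χ ∧
    ∃ k : ↥(Subgroup.normalizer (K : Set G)), (k : G) ∈ K ∧ χ k ≠ χ 1}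

variable [Fintype ↥(Subgroup.normalizer (K : Set G))]
  (star : (↥(Subgroup.normalizer (K : Set G)) → ℂ) → (G → ℂ))

theorem exc_data (hC : ∀ k ∈ K, k ≠ 1 → Subgroup.centralizer ({k} : Set G) ≤ K) :
    (∀ k ∈ K.subgroupOf (Subgroup.normalizer (K : Set G)), k ≠ 1 →
      Subgroup.centralizer ({k} : Set ↥(Subgroup.normalizer (K : Set G))) ≤
        K.subgroupOf (Subgroup.normalizer (K : Set G))) ∧
    (Nat.card (K.subgroupOf (Subgroup.normalizer (K : Set G)))).Coprime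
      (K.subgroupOf (Subgroup.normalizer (K : Set G))).index := by
  refine ⟨fun k hk hk1 x hx => ?_, ?_⟩
  · refine hC (k : G) hk (fun h => hk1 (Subtype.ext h)) ?_
    rw [Subgroup.mem_centralizer_singleton_iff] at hx ⊢
    exact congrArg Subtype.val hx
  · rw [Nat.card_congr (Subgroup.subgroupOfEquivOfLe Subgroup.le_normalizer).toEquiv]
    exact index_coprime_of_centralizer_le K hC

theorem alpha_mem {χ ξ : ↥(Subgroup.normalizer (K : Set G)) → ℂ} (hχ : χ ∈ ExcSet K) (hξ : ξ ∈ ExcSet K) :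
    ξ 1 • χ - χ 1 • ξ ∈ zspanOn (ExcSet K) {1}ᶜ := by
  obtain ⟨a, -, ha⟩ := isIrrCharacter_degree hχ.1
  obtain ⟨b, -, hb⟩ := isIrrCharacter_degree hξ.1
  rw [ha, hb]
  exact mem_zspanOn_one_iff.mpr
    ⟨zspan_sub (zspan_natSmul b (zspan_subset_mem hχ)) (zspan_natSmul a (zspan_subset_mem hξ)), by
      simp only [Pi.sub_apply, Pi.smul_apply, smul_eq_mul, ha, hb]; ring⟩

theorem star_alpha (hstar : IsLinearIsometryOn (zspan (ExcSet K)) star)
    {χ ξ : ↥(Subgroup.normalizer (K : Set G)) → ℂ} (hχ : χ ∈ ExcSet K) (hξ : ξ ∈ ExcSet K) :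
    star (ξ 1 • χ - χ 1 • ξ) = ξ 1 • star χ - χ 1 • star ξ := by
  obtain ⟨a, -, ha⟩ := isIrrCharacter_degree hχ.1
  obtain ⟨b, -, hb⟩ := isIrrCharacter_degree hξ.1
  rw [ha, hb, iso_sub_zspan hstar (zspan_natSmul b (zspan_subset_mem hχ))
    (zspan_natSmul a (zspan_subset_mem hξ)), iso_natSmul hstar (zspan_subset_mem hχ),
    iso_natSmul hstar (zspan_subset_mem hξ)]

theorem star_sub_const (hC : ∀ k ∈ K, k ≠ 1 → Subgroup.centralizer ({k} : Set G) ≤ K)
    (hstar : IsLinearIsometryOn (zspan (ExcSet K)) star)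
    (hext : ∀ α ∈ zspanOn (ExcSet K) {1}ᶜ, star α = indFun (Subgroup.normalizer (K : Set G)) α)
    {χ : ↥(Subgroup.normalizer (K : Set G)) → ℂ} (hχ : χ ∈ ExcSet K)
    {k k' : ↥(Subgroup.normalizer (K : Set G))} (hk : (k : G) ∈ K) (hk1 : k ≠ 1)
    (hk' : (k' : G) ∈ K) (hk'1 : k' ≠ 1) :
    star χ k - χ k = star χ k' - χ k' := by
  haveI : (K.subgroupOf (Subgroup.normalizer (K : Set G))).Normal := Subgroup.normal_in_normalizer
  have hcfG := isClassFunction_of_isGeneralized (hstar.2.2.2 χ (zspan_subset_mem hχ))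
  let f : ↥(Subgroup.normalizer (K : Set G)) → ℂ := fun x => star χ x - χ x
  have hf : IsClassFunction _ f := fun a b => by
    show star χ ((b * a * b⁻¹ : ↥(Subgroup.normalizer (K : Set G))) : G) - _ = _
    rw [Subgroup.coe_mul, Subgroup.coe_mul, Subgroup.coe_inv, hcfG (a : G) (b : G),
      isClassFunction_of_isGeneralized (isGeneralizedCharacter_of_isCharacter
        (isCharacter_of_isIrr hχ.1)) a b]
  obtain ⟨d, hd0, hd⟩ := isIrrCharacter_degree hχ.1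
  refine const_of_prop_inner (K.subgroupOf (Subgroup.normalizer (K : Set G))) hf
    (classInner f χ / χ 1) (fun ξ hξ => ?_) hk hk1 hk' hk'1
  obtain ⟨a, ha, hne⟩ := hξ
  have hξ' : (ξ : ↥(Subgroup.normalizer (K : Set G)) → ℂ) ∈ ExcSet K := ⟨ξ.2, a, ha, hne⟩
  have hzero : classInner f ((ξ : ↥(Subgroup.normalizer (K : Set G)) → ℂ) 1 • χ - χ 1 • (ξ : ↥(Subgroup.normalizer (K : Set G)) → ℂ)) = 0 := by
    have hα := alpha_mem K hχ hξ'
    have e1 : classInner (fun x : ↥(Subgroup.normalizer (K : Set G)) => star χ x)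
        ((ξ : ↥(Subgroup.normalizer (K : Set G)) → ℂ) 1 • χ - χ 1 • (ξ : ↥(Subgroup.normalizer (K : Set G)) → ℂ)) = classInner χ ((ξ : ↥(Subgroup.normalizer (K : Set G)) → ℂ) 1 • χ - χ 1 • (ξ : ↥(Subgroup.normalizer (K : Set G)) → ℂ)) := by
      rw [← classInner_indFun_right _ _ (star χ) hcfG, ← hext _ hα]
      exact hstar.2.2.1 χ (zspan_subset_mem hχ) _ hα.1
    show classInner ((fun x : ↥(Subgroup.normalizer (K : Set G)) => star χ x) - χ) _ = 0
    rw [classInner_sub_left, e1, sub_self]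
  rw [classInner_sub_right, classInner_smul_right, classInner_smul_right, conj_irr_one ξ,
    conj_irr_one ⟨χ, hχ.1⟩, sub_eq_zero] at hzero
  have hχ1 : χ 1 ≠ 0 := by rw [hd]; exact Nat.cast_ne_zero.2 hd0.ne'
  show classInner f (ξ : ↥(Subgroup.normalizer (K : Set G)) → ℂ) = _
  simp only at hzero
  field_simp
  linear_combination -hzero

theorem degree_cross (hTI : ∀ g : G, g ∉ Subgroup.normalizer (K : Set G) → ∀ k ∈ K, g * k * g⁻¹ ∈ K → k = 1)
    (hC : ∀ k ∈ K, k ≠ 1 → Subgroup.centralizer ({k} : Set G) ≤ K)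
    (hstar : IsLinearIsometryOn (zspan (ExcSet K)) star)
    (hext : ∀ α ∈ zspanOn (ExcSet K) {1}ᶜ, star α = indFun (Subgroup.normalizer (K : Set G)) α)
    {χ ξ : ↥(Subgroup.normalizer (K : Set G)) → ℂ} (hχ : χ ∈ ExcSet K) (hξ : ξ ∈ ExcSet K)
    (k : ↥(Subgroup.normalizer (K : Set G))) :
    ξ 1 * (star χ k - χ k) = χ 1 * (star ξ k - ξ k) := by
  haveI : (K.subgroupOf (Subgroup.normalizer (K : Set G))).Normal := Subgroup.normal_in_normalizer
  obtain ⟨hC', -⟩ := exc_data K hC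
  have hα := alpha_mem K hχ hξ
  have hv : ∀ η ∈ ExcSet K, ∀ x : ↥(Subgroup.normalizer (K : Set G)), (x : G) ∉ K → η x = 0 :=
    fun η ⟨hη, a, ha, hne⟩ x hx =>
      vanish_of_nonconst (K.subgroupOf _) hC' hη ⟨a, ha, hne⟩ hx
  have hcf : ∀ η ∈ ExcSet K, IsClassFunction ↥(Subgroup.normalizer (K : Set G)) η := fun η hη =>
    isClassFunction_of_isGeneralized (isGeneralizedCharacter_of_isCharacter (isCharacter_of_isIrr hη.1))
  have h := congrFun (hext _ hα) k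
  rw [star_alpha K star hstar hχ hξ, indFun_eq_self_of_vanish K hTI hC _ (fun a b => by
      simp only [Pi.sub_apply, Pi.smul_apply, smul_eq_mul, hcf χ hχ a b, hcf ξ hξ a b])
    (fun x hx => by simp [hv χ hχ x hx, hv ξ hξ x hx]) (hα.2 1 (by simp)) k] at h
  simp only [Pi.sub_apply, Pi.smul_apply, smul_eq_mul] at h
  linear_combination h

theorem exists_int_const (hC : ∀ k ∈ K, k ≠ 1 → Subgroup.centralizer ({k} : Set G) ≤ K)
    (hstar : IsLinearIsometryOn (zspan (ExcSet K)) star)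
    (hext : ∀ α ∈ zspanOn (ExcSet K) {1}ᶜ, star α = indFun (Subgroup.normalizer (K : Set G)) α)
    {χ : ↥(Subgroup.normalizer (K : Set G)) → ℂ} (hχ : χ ∈ ExcSet K)
    {k₀ : ↥(Subgroup.normalizer (K : Set G))} (hk₀ : (k₀ : G) ∈ K) (hk₀1 : k₀ ≠ 1) :
    ∃ c : ℤ, star χ k₀ - χ k₀ = c := by
  classical
  have := Fintype.ofFinite (K.subgroupOf (Subgroup.normalizer (K : Set G)))
  set c := star χ k₀ - χ k₀ with hc
  have hgen : IsGeneralizedCharacter (K.subgroupOf (Subgroup.normalizer (K : Set G))) (fun x => star χ ((x : ↥(Subgroup.normalizer (K : Set G))) : G) - χ (x : ↥(Subgroup.normalizer (K : Set G)))) :=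
    isGeneralizedCharacter_sub
      (isGeneralizedCharacter_comp (hstar.2.2.2 χ (zspan_subset_mem hχ))
        ((Subgroup.normalizer (K : Set G)).subtype.comp (K.subgroupOf (Subgroup.normalizer (K : Set G))).subtype))
      (isGeneralizedCharacter_of_isCharacter (isCharacter_comp (isCharacter_of_isIrr hχ.1)
        (K.subgroupOf (Subgroup.normalizer (K : Set G))).subtype))
  obtain ⟨z, hz⟩ := classInner_generalized_int hgen
    (isGeneralizedCharacter_of_isCharacter (isCharacter_of_isIrr isIrrCharacter_one))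
  obtain ⟨a, ha⟩ : ∃ a : ℤ, star χ 1 = a := by
    obtain ⟨u, v, hu, hv, e⟩ := hstar.2.2.2 χ (zspan_subset_mem hχ)
    obtain ⟨n₁, ρ₁, rfl⟩ := hu
    obtain ⟨n₂, ρ₂, rfl⟩ := hv
    exact ⟨(Module.finrank ℂ (Fin n₁ → ℂ) : ℤ) - (Module.finrank ℂ (Fin n₂ → ℂ) : ℤ), by
      rw [e]; simp [Representation.char_one]⟩
  obtain ⟨d, -, hd⟩ := isIrrCharacter_degree hχ.1
  rw [classInner, ← Finset.add_sum_erase _ _ (Finset.mem_univ (1 : K.subgroupOf (Subgroup.normalizer (K : Set G))))] at hz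
  rw [Finset.sum_congr rfl (g := fun _ => c) fun x hx => by
    simp only [map_one, mul_one]
    exact star_sub_const K star hC hstar hext hχ x.2
      (fun e => (Finset.mem_erase.1 hx).1 (Subtype.ext e)) hk₀ hk₀1] at hz
  simp only [OneMemClass.coe_one, map_one, mul_one, ha, hd, Finset.sum_const,
    Finset.card_erase_of_mem (Finset.mem_univ _), Finset.card_univ, nsmul_eq_mul,
    ← Nat.card_eq_fintype_card, Nat.cast_sub Nat.card_pos, Nat.cast_one] at hz
  have hn : (Nat.card (K.subgroupOf (Subgroup.normalizer (K : Set G))) : ℂ) ≠ 0 := card_ne_zero'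
  have hK1 : (Nat.card (K.subgroupOf (Subgroup.normalizer (K : Set G))) : ℤ) - 1 ≠ 0 := by
    have : Nontrivial (K.subgroupOf (Subgroup.normalizer (K : Set G))) := ⟨⟨⟨k₀, hk₀⟩, 1, fun e => hk₀1 (congrArg Subtype.val e)⟩⟩
    have : 1 < Nat.card (K.subgroupOf (Subgroup.normalizer (K : Set G))) := Finite.one_lt_card
    omega
  set n : ℤ := (Nat.card (K.subgroupOf (Subgroup.normalizer (K : Set G))) : ℤ) with hn'
  have hcq : c = (((z * n - a + d : ℤ) : ℚ) / ((n - 1 : ℤ) : ℚ) : ℚ) := by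
    have hn1 : ((n - 1 : ℤ) : ℂ) ≠ 0 := Int.cast_ne_zero.2 hK1
    push_cast [hn'] at hn1 ⊢
    rw [eq_div_iff hn1]
    field_simp at hz
    linear_combination hz
  have hint : IsIntegral ℤ c :=
    (generalized_isIntegral (hstar.2.2.2 χ (zspan_subset_mem hχ)) _).sub
      (generalized_isIntegral (isGeneralizedCharacter_of_isCharacter (isCharacter_of_isIrr hχ.1)) _)
  rw [hcq] at hint ⊢
  generalize (((z * n - a + d : ℤ) : ℚ) / ((n - 1 : ℤ) : ℚ) : ℚ) = q at hint ⊢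
  obtain ⟨m, hm⟩ := IsIntegrallyClosed.isIntegral_iff.mp
    ((isIntegral_algebraMap_iff (algebraMap ℚ ℂ).injective).mp (by simpa using hint : IsIntegral ℤ (algebraMap ℚ ℂ q)))
  exact ⟨m, by rw [← hm]; simp⟩

theorem coherent_restriction_constant
    (hTI : ∀ g : G, g ∉ Subgroup.normalizer (K : Set G) → ∀ k ∈ K, g * k * g⁻¹ ∈ K → k = 1)
    (hC : ∀ k ∈ K, k ≠ 1 → Subgroup.centralizer ({k} : Set G) ≤ K)
    (hne : (ExcSet K).Nonempty) (hstar : IsLinearIsometryOn (zspan (ExcSet K)) star)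
    (hext : ∀ α ∈ zspanOn (ExcSet K) {1}ᶜ, star α = indFun (Subgroup.normalizer (K : Set G)) α) :
    ∃ m : ℤ, ∀ χ ∈ ExcSet K, ∀ k : ↥(Subgroup.normalizer (K : Set G)), (k : G) ∈ K → k ≠ 1 →
      star χ k - χ k = (m : ℂ) * χ 1 / ((K.subgroupOf (Subgroup.normalizer (K : Set G))).index : ℂ) := by
  classical
  haveI : (K.subgroupOf (Subgroup.normalizer (K : Set G))).Normal := Subgroup.normal_in_normalizer
  obtain ⟨χ₀, hχ₀, k₀, hk₀, hne₀⟩ := hne
  have hk₀1 : k₀ ≠ 1 := fun e => hne₀ (by rw [e])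
  obtain ⟨hC', hcop⟩ := exc_data K hC
  choose D hD using fun ξ (h : ξ ∈ ExcSet K) => exists_int_const K star hC hstar hext h hk₀ hk₀1
  obtain ⟨m, hm⟩ := int_multiple (K.subgroupOf (Subgroup.normalizer (K : Set G))) hC' hcop
    (ξ₀ := ⟨χ₀, hχ₀⟩) ⟨k₀, hk₀, hne₀⟩
    (fun ξ => if h : (ξ : ↥(Subgroup.normalizer (K : Set G)) → ℂ) ∈ ExcSet K then D _ h else 0) (fun ξ hξ => by
      obtain ⟨a, ha, hne⟩ := hξ
      have h1 : (ξ : ↥(Subgroup.normalizer (K : Set G)) → ℂ) ∈ ExcSet K := ⟨ξ.2, a, ha, hne⟩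
      have h0 : χ₀ ∈ ExcSet K := ⟨hχ₀, k₀, hk₀, hne₀⟩
      simp only [dif_pos h1, dif_pos h0, ← hD]
      exact degree_cross K star hTI hC hstar hext h1 h0 k₀)
  refine ⟨m, fun χ hχ k hk hk1 => ?_⟩
  obtain ⟨hirr, a, ha, hne⟩ := hχ
  have h1 : χ ∈ ExcSet K := ⟨hirr, a, ha, hne⟩
  have := hm ⟨χ, hirr⟩ ⟨a, ha, hne⟩
  simp only [dif_pos h1, ← hD] at this
  rw [star_sub_const K star hC hstar hext h1 hk hk1 hk₀ hk₀1, this]

theorem coherent_exceptional_iff
    (hC : ∀ k ∈ K, k ≠ 1 → Subgroup.centralizer ({k} : Set G) ≤ K)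
    (htwo : ∃ χ ∈ ExcSet K, ∃ ξ ∈ ExcSet K, χ ≠ ξ)
    (hstar : IsLinearIsometryOn (zspan (ExcSet K)) star)
    (hext : ∀ α ∈ zspanOn (ExcSet K) {1}ᶜ, star α = indFun (Subgroup.normalizer (K : Set G)) α)
    {ψ : G → ℂ} (hψ : IsIrrCharacter G ψ) :
    (∃ χ ∈ ExcSet K, ψ = star χ ∨ ψ = -star χ) ↔ ∃ a ∈ K, ∃ b ∈ K, a ≠ 1 ∧ b ≠ 1 ∧ ψ a ≠ ψ b := by
  classical
  haveI : (K.subgroupOf (Subgroup.normalizer (K : Set G))).Normal := Subgroup.normal_in_normalizer
  obtain ⟨hC', -⟩ := exc_data K hC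
  have := Fintype.ofFinite (K.subgroupOf (Subgroup.normalizer (K : Set G)))
  constructor
  · rintro ⟨χ, hχ, h⟩
    by_contra! hcon
    obtain ⟨hirr, k₀, hk₀, hne₀⟩ := hχ
    have hk₀1 : k₀ ≠ 1 := fun e => hne₀ (by rw [e])
    have hconst : ∀ k : ↥(Subgroup.normalizer (K : Set G)), (k : G) ∈ K → k ≠ 1 → χ k = χ k₀ := by
      intro k hk hk1
      have h1 := star_sub_const K star hC hstar hext ⟨hirr, k₀, hk₀, hne₀⟩ hk hk1 hk₀ hk₀1
      have h2 := hcon k hk k₀ hk₀ (fun e => hk1 (Subtype.ext e)) (fun e => hk₀1 (Subtype.ext e))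
      rcases h with rfl | rfl
      · linear_combination h2 - h1
      · simp only [Pi.neg_apply, neg_inj] at h2
        linear_combination h2 - h1
    -- a second exceptional character is orthogonal to `χ`
    obtain ⟨ξ, hξ, hξne⟩ : ∃ ξ ∈ ExcSet K, ξ ≠ χ := by
      obtain ⟨a, ha, b, hb, hab⟩ := htwo
      by_cases h : a = χ
      · exact ⟨b, hb, fun e => hab (h.trans e.symm)⟩
      · exact ⟨a, ha, h⟩
    obtain ⟨hξirr, k₁, hk₁, hne₁⟩ := hξ
    have h0 := classInner_irr_ne (χ := ⟨ξ, hξirr⟩) (ψ := ⟨χ, hirr⟩) fun e => hξne (congrArg Subtype.val e)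
    rw [classInner, mul_eq_zero] at h0
    have h0' := h0.resolve_left (inv_ne_zero card_ne_zero')
    have hsupp : ∑ g : ↥(Subgroup.normalizer (K : Set G)), ξ g * starRingEnd ℂ (χ g) =
        ∑ g : K.subgroupOf (Subgroup.normalizer (K : Set G)), ξ g * starRingEnd ℂ (χ g) := by
      refine Eq.trans ?_ (Finset.sum_map Finset.univ ⟨((↑) : K.subgroupOf (Subgroup.normalizer (K : Set G)) → ↥(Subgroup.normalizer (K : Set G))), Subtype.val_injective⟩
        fun g => ξ g * starRingEnd ℂ (χ g))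
      refine (Finset.sum_subset (Finset.subset_univ _) fun g _ hg => ?_).symm
      rw [vanish_of_nonconst (K.subgroupOf (Subgroup.normalizer (K : Set G))) hC' hξirr ⟨k₁, hk₁, hne₁⟩ fun hgK => hg
        (Finset.mem_map.2 ⟨⟨g, hgK⟩, Finset.mem_univ _, rfl⟩), zero_mul]
    have hχs := sum_subgroup_eq_zero_of_nonconst (K.subgroupOf (Subgroup.normalizer (K : Set G))) hC' hirr ⟨k₀, hk₀, hne₀⟩
    have hξs := sum_subgroup_eq_zero_of_nonconst (K.subgroupOf (Subgroup.normalizer (K : Set G))) hC' hξirr ⟨k₁, hk₁, hne₁⟩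
    rw [hsupp, ← Finset.add_sum_erase _ _ (Finset.mem_univ (1 : K.subgroupOf (Subgroup.normalizer (K : Set G))))] at h0'
    rw [← Finset.add_sum_erase _ _ (Finset.mem_univ (1 : K.subgroupOf (Subgroup.normalizer (K : Set G))))] at hξs
    have herase : ∑ g ∈ Finset.univ.erase (1 : K.subgroupOf (Subgroup.normalizer (K : Set G))), ξ g * starRingEnd ℂ (χ g) =
        (∑ g ∈ Finset.univ.erase (1 : K.subgroupOf (Subgroup.normalizer (K : Set G))), ξ g) * starRingEnd ℂ (χ k₀) := by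
      rw [Finset.sum_mul]
      refine Finset.sum_congr rfl fun g hg => ?_
      rw [hconst g g.2 fun e => (Finset.mem_erase.1 hg).1 (Subtype.ext e)]
    simp only [OneMemClass.coe_one] at hξs h0'
    rw [herase, eq_neg_of_add_eq_zero_right hξs, conj_irr_one ⟨χ, hirr⟩] at h0'
    obtain ⟨d, hd0, hd⟩ := isIrrCharacter_degree hξirr
    have hξ1 : ξ 1 ≠ 0 := by rw [hd]; exact Nat.cast_ne_zero.2 hd0.ne'
    have : starRingEnd ℂ (χ k₀) = χ 1 := mul_left_cancel₀ hξ1 (by linear_combination -h0')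
    apply hne₀
    have h2 := congrArg (starRingEnd ℂ) this
    rwa [Complex.conj_conj, conj_irr_one ⟨χ, hirr⟩] at h2
  · rintro ⟨a, ha, b, hb, ha1, hb1, hab⟩
    by_contra! hcon
    apply hab
    let f : ↥(Subgroup.normalizer (K : Set G)) → ℂ := fun x => ψ x
    have hcfG := isClassFunction_of_isGeneralized
      (isGeneralizedCharacter_of_isCharacter (isCharacter_of_isIrr hψ))
    have hf : IsClassFunction _ f := fun x y => by simp only [f, Subgroup.coe_mul, Subgroup.coe_inv]; exact hcfG _ _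
    obtain ⟨χ, hχ, -⟩ := htwo
    obtain ⟨d, hd0, hd⟩ := isIrrCharacter_degree hχ.1
    refine const_of_prop_inner (K.subgroupOf (Subgroup.normalizer (K : Set G))) hf (classInner f χ / χ 1) (fun ξ hξ => ?_)
      (k := ⟨a, Subgroup.le_normalizer ha⟩) (k' := ⟨b, Subgroup.le_normalizer hb⟩) ha
      (fun e => ha1 (congrArg Subtype.val e)) hb (fun e => hb1 (congrArg Subtype.val e))
    obtain ⟨k, hk, hne⟩ := hξ
    have hξ' : (ξ : ↥(Subgroup.normalizer (K : Set G)) → ℂ) ∈ ExcSet K := ⟨ξ.2, k, hk, hne⟩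
    have horth : ∀ η ∈ ExcSet K, classInner ψ (star η) = 0 := by
      intro η hη
      have hn : classInner (star η) (star η) = 1 := by
        rw [hstar.2.2.1 η (zspan_subset_mem hη) η (zspan_subset_mem hη)]
        exact classInner_irr_self ⟨η, hη.1⟩
      rcases irr_or_neg_of_norm_one (hstar.2.2.2 η (zspan_subset_mem hη)) hn with h | h
      · exact classInner_irr_ne (χ := ⟨ψ, hψ⟩) (ψ := ⟨_, h⟩)
          fun e => (hcon η hη).1 (congrArg Subtype.val e)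
      · have := classInner_irr_ne (χ := ⟨ψ, hψ⟩) (ψ := ⟨_, h⟩)
          fun e => (hcon η hη).2 (congrArg Subtype.val e)
        rwa [classInner_neg_right, neg_eq_zero] at this
    have hα := alpha_mem K hχ hξ'
    have hzero : classInner f ((ξ : ↥(Subgroup.normalizer (K : Set G)) → ℂ) 1 • χ - χ 1 • (ξ : ↥(Subgroup.normalizer (K : Set G)) → ℂ)) = 0 := by
      rw [← classInner_indFun_right _ _ ψ hcfG, ← hext _ hα, star_alpha K star hstar hχ hξ',
        classInner_sub_right, classInner_smul_right, classInner_smul_right, horth χ hχ,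
        horth _ hξ', mul_zero, mul_zero, sub_zero]
    rw [classInner_sub_right, classInner_smul_right, classInner_smul_right, conj_irr_one ξ,
      conj_irr_one ⟨χ, hχ.1⟩, sub_eq_zero] at hzero
    have hχ1 : χ 1 ≠ 0 := by rw [hd]; exact Nat.cast_ne_zero.2 hd0.ne'
    simp only at hzero
    field_simp
    linear_combination -hzero

end group

end CfsgLib.Char
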