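import Cfsg.Agent.Lib.Char.Orthogonality

/-!
# Subgroups equal to the centralizers of their non-identity elements
-/

set_option autoImplicit false
set_option linter.unusedSectionVars false

namespace CfsgLib.Char

universe u

variable {G : Type u} [Group G] [Finite G]

theorem ca_ti (A : Subgroup G) (hA : ∀ x ∈ A, x ≠ 1 → Subgroup.centralizer ({x} : Set G) = A)
    (g : G) (hg : g ∉ Subgroup.normalizer (A : Set G)) (x : G) (hx : x ∈ A)
    (hgx : g * x * g⁻¹ ∈ A) : x = 1 := by
  by_contra hx1
  apply hg
  have h1 := hA x hx hx1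
  have h2 := hA _ hgx (by simpa using hx1)
  rw [Subgroup.mem_normalizer_iff]
  intro a
  have e : ∀ b, b ∈ A ↔ g * b * g⁻¹ ∈ A := by
    intro b
    conv_lhs => rw [← h1, Subgroup.mem_centralizer_singleton_iff]
    conv_rhs => rw [← h2, Subgroup.mem_centralizer_singleton_iff]
    constructor <;> intro h
    · calc g * b * g⁻¹ * (g * x * g⁻¹) = g * (b * x) * g⁻¹ := by group
        _ = _ := by rw [h]; group
    · have := congrArg (fun t => g⁻¹ * t * g) h
      simpa [mul_assoc] using this
  exact e a

theorem ca_index_dvd (A : Subgroup G) (hA : ∀ x ∈ A, x ≠ 1 → Subgroup.centralizer ({x} : Set G) = A) :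
    (A.subgroupOf (Subgroup.normalizer (A : Set G))).index ∣ Nat.card A - 1 := by
  classical
  set N := Subgroup.normalizer (A : Set G) with hN
  have hAN : A ≤ N := Subgroup.le_normalizer
  have := Fintype.ofFinite A
  have hmem : ∀ (n : N) (a : A), (n : G) * a * (n : G)⁻¹ ∈ A := fun n a =>
    (Subgroup.mem_normalizer_iff.mp n.2 a).mp a.2
  let rel : Setoid {a : A // a ≠ 1} :=
    { r := fun a b => ∃ n : N, (n : G) * (a.1 : G) * (n : G)⁻¹ = b.1
      iseqv :=
        ⟨fun a => ⟨1, by simp⟩, fun {a b} ⟨n, hn⟩ => ⟨n⁻¹, by rw [← hn]; simp [mul_assoc]⟩,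
          fun {a b c} ⟨n, hn⟩ ⟨m, hm⟩ => ⟨m * n, by rw [← hm, ← hn]; simp [mul_assoc]⟩⟩ }
  have hfib : ∀ q : Quotient rel, Nat.card {a // Quotient.mk rel a = q} = (A.subgroupOf N).index := by
    intro q
    induction q using Quotient.inductionOn with
    | h a =>
      let F : N ⧸ A.subgroupOf N → {b // Quotient.mk rel b = Quotient.mk rel a} := fun q =>
        Quotient.liftOn' q (fun n => ⟨⟨⟨_, hmem n a.1⟩, fun e => a.2 (Subtype.ext (by
            have := congrArg Subtype.val e
            simpa using this))⟩, Quotient.sound ⟨n⁻¹, by simp [mul_assoc]⟩⟩)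
          (fun n m hnm => by
            rw [QuotientGroup.leftRel_apply, Subgroup.mem_subgroupOf] at hnm
            refine Subtype.ext (Subtype.ext (Subtype.ext ?_))
            have hne : ((a.1 : A) : G) ≠ 1 := fun e => a.2 (Subtype.ext e)
            have hc : ((n⁻¹ * m : N) : G) ∈ Subgroup.centralizer ({((a.1 : A) : G)} : Set G) := by
              rw [hA _ a.1.2 hne]; exact hnm
            rw [Subgroup.mem_centralizer_singleton_iff] at hc
            simp only [Subgroup.coe_mul, InvMemClass.coe_inv] at hc
            have h3 := congrArg (fun t => (n : G) * t * (m : G)⁻¹) hc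
            simp only [mul_assoc, mul_inv_cancel_left, mul_inv_cancel, mul_one, inv_mul_cancel_left] at h3
            simpa [mul_assoc] using h3.symm)
      refine (Nat.card_congr (Equiv.ofBijective F ⟨?_, ?_⟩)).symm
      · intro q₁ q₂ h
        induction q₁ using Quotient.inductionOn' with
        | h n =>
          induction q₂ using Quotient.inductionOn' with
          | h m =>
            have e : (n : G) * (a.1 : G) * (n : G)⁻¹ = (m : G) * (a.1 : G) * (m : G)⁻¹ :=
              congrArg (fun b => ((b.1.1 : A) : G)) h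
            refine QuotientGroup.eq.mpr (Subgroup.mem_subgroupOf.mpr ?_)
            have hne : ((a.1 : A) : G) ≠ 1 := fun e => a.2 (Subtype.ext e)
            rw [← hA _ a.1.2 hne, Subgroup.mem_centralizer_singleton_iff]
            have h3 := congrArg (fun t => (n : G)⁻¹ * t * (m : G)) e
            simpa [mul_assoc] using h3.symm
      · rintro ⟨b, hb⟩
        obtain ⟨n, hn⟩ := Quotient.exact hb
        refine ⟨(n⁻¹ : N), Subtype.ext (Subtype.ext (Subtype.ext ?_))⟩
        show ((n⁻¹ : N) : G) * (a.1 : G) * ((n⁻¹ : N) : G)⁻¹ = b.1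
        rw [← hn]; simp [mul_assoc]
  have hcard : Nat.card A - 1 = Nat.card {a : A // a ≠ 1} := by
    simp [Nat.card_eq_fintype_card, Fintype.card_subtype_compl]
  rw [hcard, ← Nat.card_congr (Equiv.sigmaFiberEquiv (Quotient.mk rel)), Nat.card_sigma]
  exact Finset.dvd_sum fun q _ => by rw [hfib q]

end CfsgLib.Char
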