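import Mathlib
import Cfsg.Agent.Lib.Char.CoherentTifn
import Cfsg.Agent.Lib.Char.Malnormal

/-!
# Exceptional characters of an abelian subgroup equal to the centralizers of its elements
-/

set_option autoImplicit false
set_option linter.unusedSectionVars false
set_option linter.style.haveILetI false

namespace CfsgLib.Char

open scoped ComplexConjugate
open Cfsg

universe u

variable {G : Type u} [Group G] [Fintype G]

/-- A generalized character constant off the identity has an integral constant. -/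
theorem int_of_const_generalized {H : Type u} [Group H] [Fintype H] {f : H → ℂ}
    (hf : IsGeneralizedCharacter H f) {k : H} (hk : k ≠ 1) (hconst : ∀ x : H, x ≠ 1 → f x = f k) :
    ∃ m : ℤ, f k = m := by
  classical
  obtain ⟨z, hz⟩ := classInner_generalized_int hf
    (isGeneralizedCharacter_of_isCharacter (isCharacter_of_isIrr (isIrrCharacter_one (G := H))))
  obtain ⟨a, ha⟩ : ∃ a : ℤ, f 1 = a := by
    obtain ⟨u, v, hu, hv, e⟩ := hf
    obtain ⟨n₁, ρ₁, rfl⟩ := hu
    obtain ⟨n₂, ρ₂, rfl⟩ := hv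
    exact ⟨(Module.finrank ℂ (Fin n₁ → ℂ) : ℤ) - (Module.finrank ℂ (Fin n₂ → ℂ) : ℤ), by
      rw [e]; simp [Representation.char_one]⟩
  rw [classInner, ← Finset.add_sum_erase _ _ (Finset.mem_univ (1 : H))] at hz
  rw [Finset.sum_congr rfl (g := fun _ => f k) fun x hx => by
    simp only [map_one, mul_one]; exact hconst x (Finset.mem_erase.1 hx).1] at hz
  simp only [map_one, mul_one, ha, Finset.sum_const, Finset.card_erase_of_mem (Finset.mem_univ _),
    Finset.card_univ, nsmul_eq_mul, ← Nat.card_eq_fintype_card, Nat.cast_sub Nat.card_pos,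
    Nat.cast_one] at hz
  haveI : Nontrivial H := ⟨⟨k, 1, hk⟩⟩
  have hn : (Nat.card H : ℂ) ≠ 0 := card_ne_zero'
  have h1 : 1 < Nat.card H := Finite.one_lt_card
  set n : ℤ := (Nat.card H : ℤ) with hn'
  have hn1 : ((n - 1 : ℤ) : ℂ) ≠ 0 := Int.cast_ne_zero.2 (by omega)
  have hcq : f k = (((z * n - a : ℤ) : ℚ) / ((n - 1 : ℤ) : ℚ) : ℚ) := by
    push_cast [hn'] at hn1 ⊢
    rw [eq_div_iff hn1]
    field_simp at hz
    linear_combination hz
  have hint : IsIntegral ℤ (f k) := generalized_isIntegral hf _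
  rw [hcq] at hint ⊢
  generalize (((z * n - a : ℤ) : ℚ) / ((n - 1 : ℤ) : ℚ) : ℚ) = q at hint ⊢
  obtain ⟨m, hm⟩ := IsIntegrallyClosed.isIntegral_iff.mp
    ((isIntegral_algebraMap_iff (algebraMap ℚ ℂ).injective).mp
      (by simpa using hint : IsIntegral ℤ (algebraMap ℚ ℂ q)))
  exact ⟨m, by rw [← hm]; simp⟩

variable (A : Subgroup G)

/-- The exceptional characters of the normalizer. -/
abbrev Exc : Type u :=
  {χ : IrrCharacter (Subgroup.normalizer (A : Set G)) //
    ∃ k : Subgroup.normalizer (A : Set G), (k : G) ∈ A ∧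
      (χ : ↥(Subgroup.normalizer (A : Set G)) → ℂ) k ≠ (χ : ↥(Subgroup.normalizer (A : Set G)) → ℂ) 1}

/-- The exceptional index `|N(A) : A|`. -/
noncomputable abbrev excIndex : ℕ := (A.subgroupOf (Subgroup.normalizer (A : Set G))).index

/-- The data of exceptional characters. -/
structure ExcData where
  ε : ℤ
  θ : Exc A → IrrCharacter G
  sign : ε = 1 ∨ ε = -1
  inj : Function.Injective θ
  ind : ∀ χ ξ : Exc A, indFun (Subgroup.normalizer (A : Set G))
    ((χ.1 : ↥(Subgroup.normalizer (A : Set G)) → ℂ) - (ξ.1 : ↥(Subgroup.normalizer (A : Set G)) → ℂ)) =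
      (ε : ℂ) • ((θ χ : G → ℂ) - (θ ξ : G → ℂ))

variable (hA : ∀ x ∈ A, x ≠ 1 → Subgroup.centralizer ({x} : Set G) = A)
  (hab : ∀ a ∈ A, ∀ b ∈ A, a * b = b * a)

include hA hab

theorem nonempty_excData : Nonempty (ExcData A) := by
  obtain ⟨ε, f, hε, hf, he⟩ := abelian_tifn_exceptional A (fun g hg k hk h => ca_ti A hA g hg k hk h)
    (fun k hk h => (hA k hk h).le) hab
  rcases hε with rfl | rfl
  · exact ⟨⟨1, f, Or.inl rfl, hf, fun χ ξ => by rw [he, Int.cast_one]⟩⟩
  · exact ⟨⟨-1, f, Or.inr rfl, hf, fun χ ξ => by rw [he, Int.cast_neg, Int.cast_one]⟩⟩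

theorem exc_vanish (χ : Exc A) (x : ↥(Subgroup.normalizer (A : Set G))) (hx : (x : G) ∉ A) :
    (χ.1 : ↥(Subgroup.normalizer (A : Set G)) → ℂ) x = 0 := by
  haveI : (A.subgroupOf (Subgroup.normalizer (A : Set G))).Normal := Subgroup.normal_in_normalizer
  haveI : Fintype ↥(Subgroup.normalizer (A : Set G)) := Fintype.ofFinite _
  exact vanish_of_nonconst (A.subgroupOf _) (exc_data A fun k hk h => (hA k hk h).le).1 χ.1.2
    (χ.2.imp fun _ h => h) hx

theorem exc_degree (χ : Exc A) :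
    (χ.1 : ↥(Subgroup.normalizer (A : Set G)) → ℂ) 1 = (excIndex A : ℂ) := by
  haveI : (A.subgroupOf (Subgroup.normalizer (A : Set G))).Normal := Subgroup.normal_in_normalizer
  haveI : Fintype ↥(Subgroup.normalizer (A : Set G)) := Fintype.ofFinite _
  obtain ⟨h1, h2⟩ := exc_data A fun k hk h => (hA k hk h).le
  exact degree_eq_index_of_nonconst _ h1 h2 (fun a ha b hb => Subtype.ext (hab a ha b hb)) χ.1.2
    (χ.2.imp fun _ h => h)

theorem exc_diff_ind (χ ξ : Exc A) (x : ↥(Subgroup.normalizer (A : Set G))) :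
    indFun (Subgroup.normalizer (A : Set G))
      ((χ.1 : ↥(Subgroup.normalizer (A : Set G)) → ℂ) - (ξ.1 : ↥(Subgroup.normalizer (A : Set G)) → ℂ)) x =
      (χ.1 : ↥(Subgroup.normalizer (A : Set G)) → ℂ) x - (ξ.1 : ↥(Subgroup.normalizer (A : Set G)) → ℂ) x := by
  have hcf := fun η : Exc A => isClassFunction_of_isGeneralized
    (isGeneralizedCharacter_of_isCharacter (isCharacter_irr η.1))
  refine indFun_eq_self_of_vanish A (fun g hg k hk h => ca_ti A hA g hg k hk h)
    (fun k hk h => (hA k hk h).le) _ (fun a b => by simp only [Pi.sub_apply, hcf χ a b, hcf ξ a b])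
    (fun y hy => by simp only [Pi.sub_apply, exc_vanish A hA hab _ y hy, sub_self]) ?_ x
  simp only [Pi.sub_apply, exc_degree A hA hab, sub_self]

theorem exc_diff_vanish (χ ξ : Exc A) (x : G) (hx : ∀ y : G, y * x * y⁻¹ ∈ A → y * x * y⁻¹ = 1) :
    indFun (Subgroup.normalizer (A : Set G))
      ((χ.1 : ↥(Subgroup.normalizer (A : Set G)) → ℂ) - (ξ.1 : ↥(Subgroup.normalizer (A : Set G)) → ℂ)) x = 0 := by
  rw [indFun, Finset.sum_eq_zero, mul_zero]
  intro y _
  by_cases hm : y⁻¹ * x * y ∈ Subgroup.normalizer (A : Set G)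
  · rw [extendByZero_mem _ _ hm, Pi.sub_apply]
    by_cases hA' : y⁻¹ * x * y ∈ A
    · have h := hx y⁻¹ (by simpa using hA')
      rw [inv_inv] at h
      rw [show (⟨y⁻¹ * x * y, hm⟩ : ↥(Subgroup.normalizer (A : Set G))) = 1 from Subtype.ext h,
        exc_degree A hA hab, exc_degree A hA hab, sub_self]
    · rw [exc_vanish A hA hab _ _ hA', exc_vanish A hA hab _ _ hA', sub_self]
  · exact extendByZero_not_mem _ _ hm

theorem exc_not_one [Nontrivial (Exc A)] (D : ExcData A) (χ : Exc A) :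
    (D.θ χ : G → ℂ) ≠ fun _ => 1 := by
  classical
  intro h
  obtain ⟨ξ, hξ⟩ := exists_ne χ
  have h1 : classInner (fun _ : G => (1 : ℂ)) (indFun (Subgroup.normalizer (A : Set G))
      ((χ.1 : ↥(Subgroup.normalizer (A : Set G)) → ℂ) - (ξ.1 : ↥(Subgroup.normalizer (A : Set G)) → ℂ))) = 0 := by
    haveI := Fintype.ofFinite (Subgroup.normalizer (A : Set G))
    rw [classInner_indFun_right _ _ (fun _ : G => (1 : ℂ)) fun _ _ => rfl, classInner_sub_right]
    have hne : ∀ η : Exc A, classInner (fun _ : ↥(Subgroup.normalizer (A : Set G)) => (1 : ℂ))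
        (η.1 : ↥(Subgroup.normalizer (A : Set G)) → ℂ) = 0 := fun η =>
      classInner_irr_ne (χ := ⟨_, isIrrCharacter_one⟩) (ψ := η.1) fun e => by
        obtain ⟨k, -, hk⟩ := η.2
        exact hk (by rw [← e])
    rw [hne, hne, sub_self]
  rw [D.ind, classInner_smul_right, classInner_sub_right, ← h, classInner_irr_self,
    classInner_irr_ne (fun e => hξ (D.inj e).symm), sub_zero, mul_one, map_intCast] at h1
  rcases D.sign with hs | hs <;> rw [hs] at h1 <;> simp at h1

theorem card_exc : Nat.card (Exc A) * excIndex A = Nat.card A - 1 := by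
  classical
  haveI : (A.subgroupOf (Subgroup.normalizer (A : Set G))).Normal := Subgroup.normal_in_normalizer
  haveI := Fintype.ofFinite (IrrCharacter ↥(Subgroup.normalizer (A : Set G)))
  haveI : Fintype ↥(Subgroup.normalizer (A : Set G)) := Fintype.ofFinite _
  obtain ⟨h1, -⟩ := exc_data A fun k hk h => (hA k hk h).le
  have h := sum_sq_exceptional (A.subgroupOf (Subgroup.normalizer (A : Set G))) h1
  rw [Finset.sum_congr rfl (g := fun _ => (excIndex A : ℂ) ^ 2) fun χ hχ => by
    rw [show (χ : ↥(Subgroup.normalizer (A : Set G)) → ℂ) 1 = (excIndex A : ℂ) from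
      exc_degree A hA hab ⟨χ, ((Finset.mem_filter.1 hχ).2).imp fun _ h => h⟩],
    Finset.sum_const, ← Fintype.card_subtype, ← Nat.card_eq_fintype_card, nsmul_eq_mul] at h
  have he : (excIndex A : ℂ) ≠ 0 := Nat.cast_ne_zero.2 Subgroup.index_ne_zero_of_finite
  rw [Nat.card_congr (Subgroup.subgroupOfEquivOfLe Subgroup.le_normalizer).toEquiv] at h
  apply Nat.cast_injective (R := ℂ)
  rw [Nat.cast_mul, Nat.cast_sub Nat.card_pos, Nat.cast_one]
  replace h : (Nat.card (Exc A) : ℂ) * (excIndex A : ℂ) ^ 2 = (excIndex A : ℂ) * ((Nat.card A : ℂ) - 1) := h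
  refine mul_left_cancel₀ he ?_
  linear_combination h

theorem sum_exc_column [Fintype (Exc A)] {k : ↥(Subgroup.normalizer (A : Set G))} (hk : (k : G) ∈ A)
    (hk1 : k ≠ 1) :
    (∑ χ : Exc A, (χ.1 : ↥(Subgroup.normalizer (A : Set G)) → ℂ) k) = -1 ∧
      (∑ χ : Exc A, (χ.1 : ↥(Subgroup.normalizer (A : Set G)) → ℂ) k *
        conj ((χ.1 : ↥(Subgroup.normalizer (A : Set G)) → ℂ) k)) = (Nat.card A : ℂ) - (excIndex A : ℂ) := by
  classical
  haveI : (A.subgroupOf (Subgroup.normalizer (A : Set G))).Normal := Subgroup.normal_in_normalizer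
  haveI := Fintype.ofFinite (IrrCharacter ↥(Subgroup.normalizer (A : Set G)))
  haveI : Fintype ↥(Subgroup.normalizer (A : Set G)) := Fintype.ofFinite _
  obtain ⟨h1, -⟩ := exc_data A fun k hk h => (hA k hk h).le
  set P : IrrCharacter ↥(Subgroup.normalizer (A : Set G)) → Prop := fun χ =>
    ∃ a ∈ A.subgroupOf (Subgroup.normalizer (A : Set G)),
      (χ : ↥(Subgroup.normalizer (A : Set G)) → ℂ) a ≠ (χ : ↥(Subgroup.normalizer (A : Set G)) → ℂ) 1 with hP
  have hsum : ∀ F : IrrCharacter ↥(Subgroup.normalizer (A : Set G)) → ℂ,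
      ∑ χ ∈ Finset.univ.filter P, F χ = ∑ χ : Exc A, F χ.1 := fun F =>
    Finset.sum_subtype _ (fun χ => by simp only [Finset.mem_filter, Finset.mem_univ, true_and]; rfl) F
  have hT : ∑ χ ∈ Finset.univ.filter (fun χ => ¬P χ),
      (χ : ↥(Subgroup.normalizer (A : Set G)) → ℂ) 1 ^ 2 = (excIndex A : ℂ) := by
    have h2 := sum_sq_exceptional (A.subgroupOf (Subgroup.normalizer (A : Set G))) h1
    have h3 := sum_degree_sq (G := ↥(Subgroup.normalizer (A : Set G)))
    rw [← Finset.sum_filter_add_sum_filter_not Finset.univ P] at h3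
    rw [← (A.subgroupOf (Subgroup.normalizer (A : Set G))).card_mul_index, Nat.cast_mul] at h3
    linear_combination h3 - h2
  have he : (excIndex A : ℂ) ≠ 0 := Nat.cast_ne_zero.2 Subgroup.index_ne_zero_of_finite
  refine ⟨?_, ?_⟩
  · have h := sum_exceptional_degree_mul (A.subgroupOf (Subgroup.normalizer (A : Set G))) hk hk1
    rw [hsum (fun χ => (χ : ↥(Subgroup.normalizer (A : Set G)) → ℂ) k *
      (χ : ↥(Subgroup.normalizer (A : Set G)) → ℂ) 1), hT,
      Finset.sum_congr rfl (g := fun χ : Exc A => (χ.1 : ↥(Subgroup.normalizer (A : Set G)) → ℂ) k *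
        (excIndex A : ℂ)) fun χ _ => by rw [exc_degree A hA hab χ], ← Finset.sum_mul] at h
    exact mul_right_cancel₀ he (by linear_combination h)
  · have h := sum_irr_mul_conj k k
    rw [if_pos (IsConj.refl k), ← Finset.sum_filter_add_sum_filter_not Finset.univ P,
      hsum (fun χ => (χ : ↥(Subgroup.normalizer (A : Set G)) → ℂ) k *
        conj ((χ : ↥(Subgroup.normalizer (A : Set G)) → ℂ) k)),
      Finset.sum_congr rfl (g := fun χ : IrrCharacter ↥(Subgroup.normalizer (A : Set G)) =>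
        (χ : ↥(Subgroup.normalizer (A : Set G)) → ℂ) 1 ^ 2) (s₁ := Finset.univ.filter fun χ => ¬P χ)
        fun χ hχ => by
          have h' := (Finset.mem_filter.1 hχ).2
          simp only [hP] at h'
          push Not at h'
          rw [h' k hk, conj_irr_one, sq], hT] at h
    have hc : Subgroup.centralizer ({k} : Set ↥(Subgroup.normalizer (A : Set G))) =
        A.subgroupOf (Subgroup.normalizer (A : Set G)) := by
      refine le_antisymm (h1 k hk hk1) fun x hx => ?_
      rw [Subgroup.mem_centralizer_singleton_iff]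
      exact Subtype.ext (hab _ hx _ hk)
    rw [hc, Nat.card_congr (Subgroup.subgroupOfEquivOfLe Subgroup.le_normalizer).toEquiv] at h
    linear_combination h

theorem exists_const_value [Nontrivial A] (D : ExcData A) (ψ : IrrCharacter G) :
    ∃ c : ℤ, ∀ k : ↥(Subgroup.normalizer (A : Set G)), (k : G) ∈ A → k ≠ 1 →
      (∀ χ : Exc A, D.θ χ = ψ → (ψ : G → ℂ) k =
        (D.ε : ℂ) * (χ.1 : ↥(Subgroup.normalizer (A : Set G)) → ℂ) k + c) ∧
      ((∀ χ : Exc A, D.θ χ ≠ ψ) → (ψ : G → ℂ) k = c) := by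
  classical
  haveI : Fintype ↥(Subgroup.normalizer (A : Set G)) := Fintype.ofFinite _
  haveI : Fintype ↥(A.subgroupOf (Subgroup.normalizer (A : Set G))) := Fintype.ofFinite _
  haveI : (A.subgroupOf (Subgroup.normalizer (A : Set G))).Normal := Subgroup.normal_in_normalizer
  -- the correction term
  obtain ⟨φ, hφgen, hφ1, hφ0, hφinner⟩ : ∃ φ : ↥(Subgroup.normalizer (A : Set G)) → ℂ,
      IsGeneralizedCharacter _ φ ∧
      (∀ χ : Exc A, D.θ χ = ψ → φ = (D.ε : ℂ) • (χ.1 : ↥(Subgroup.normalizer (A : Set G)) → ℂ)) ∧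
      ((∀ χ : Exc A, D.θ χ ≠ ψ) → φ = 0) ∧
      ∀ χ ξ : Exc A, classInner φ ((χ.1 : ↥(Subgroup.normalizer (A : Set G)) → ℂ) -
        (ξ.1 : ↥(Subgroup.normalizer (A : Set G)) → ℂ)) =
        (D.ε : ℂ) * ((if D.θ χ = ψ then 1 else 0) - (if D.θ ξ = ψ then 1 else 0)) := by
    by_cases h : ∃ χ : Exc A, D.θ χ = ψ
    · obtain ⟨χ₀, hχ₀⟩ := h
      refine ⟨(D.ε : ℂ) • (χ₀.1 : ↥(Subgroup.normalizer (A : Set G)) → ℂ),
        isGeneralizedCharacter_zsmul (isGeneralizedCharacter_of_isCharacter (isCharacter_irr _)) _,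
        fun χ hχ => by rw [D.inj (hχ.trans hχ₀.symm)], fun hall => absurd hχ₀ (hall χ₀), fun χ ξ => ?_⟩
      rw [classInner_smul_left, classInner_sub_right, classInner_irr, classInner_irr]
      have : ∀ η : Exc A, (if χ₀.1 = η.1 then (1 : ℂ) else 0) = if D.θ η = ψ then 1 else 0 := fun η =>
        if_congr ⟨fun e => by rw [← Subtype.ext e, hχ₀], fun e =>
          congrArg Subtype.val (D.inj (hχ₀.trans e.symm))⟩ rfl rfl
      rw [this, this]
    · simp only [not_exists] at h
      refine ⟨0, isGeneralizedCharacter_zero, fun χ hχ => absurd hχ (h χ), fun _ => rfl, fun χ ξ => ?_⟩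
      rw [classInner_zero_left, if_neg (h χ), if_neg (h ξ), sub_self, mul_zero]
  let f : ↥(Subgroup.normalizer (A : Set G)) → ℂ :=
    (fun x : ↥(Subgroup.normalizer (A : Set G)) => (ψ : G → ℂ) x) - φ
  have hgen : IsGeneralizedCharacter _ f := isGeneralizedCharacter_sub
    (isGeneralizedCharacter_comp (isGeneralizedCharacter_of_isCharacter (isCharacter_irr ψ))
      (Subgroup.normalizer (A : Set G)).subtype) hφgen
  have hperp : ∀ χ ξ : Exc A, classInner f (χ.1 : ↥(Subgroup.normalizer (A : Set G)) → ℂ) =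
      classInner f (ξ.1 : ↥(Subgroup.normalizer (A : Set G)) → ℂ) := by
    intro χ ξ
    rw [← sub_eq_zero, ← classInner_sub_right]
    show classInner ((fun x : ↥(Subgroup.normalizer (A : Set G)) => (ψ : G → ℂ) x) - φ) _ = 0
    rw [classInner_sub_left, hφinner, ← classInner_indFun_right _ _ (ψ : G → ℂ)
      (isClassFunction_of_isGeneralized (isGeneralizedCharacter_of_isCharacter (isCharacter_irr ψ))),
      D.ind, classInner_smul_right, classInner_sub_right, classInner_irr, classInner_irr,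
      map_intCast]
    simp only [eq_comm (a := ψ)]
    ring
  obtain ⟨a, ha⟩ := exists_ne (1 : A)
  let k₀ : ↥(Subgroup.normalizer (A : Set G)) := ⟨(a : G), Subgroup.le_normalizer a.2⟩
  have hk₀ : k₀ ≠ 1 := fun e => ha (Subtype.ext (congrArg (fun z : ↥(Subgroup.normalizer (A : Set G)) => (z : G)) e))
  have hconst : ∀ k : ↥(Subgroup.normalizer (A : Set G)), (k : G) ∈ A → k ≠ 1 → f k = f k₀ := by
    intro k hk hk1
    by_cases hne : IsEmpty (Exc A)
    · exact const_of_prop_inner (A.subgroupOf _) (isClassFunction_of_isGeneralized hgen) 0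
        (fun ξ hξ => (hne.false ⟨ξ, hξ.imp fun _ h => h⟩).elim) hk hk1 (k' := k₀) a.2 hk₀
    · rw [not_isEmpty_iff] at hne
      obtain ⟨χ₀⟩ := hne
      refine const_of_prop_inner (A.subgroupOf _) (isClassFunction_of_isGeneralized hgen)
        (classInner f (χ₀.1 : ↥(Subgroup.normalizer (A : Set G)) → ℂ) / (excIndex A : ℂ))
        (fun ξ hξ => ?_) hk hk1 (k' := k₀) a.2 hk₀
      rw [show (ξ : ↥(Subgroup.normalizer (A : Set G)) → ℂ) 1 = (excIndex A : ℂ) from
        exc_degree A hA hab ⟨ξ, hξ.imp fun _ h => h⟩,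
        div_mul_cancel₀ _ (Nat.cast_ne_zero.2 Subgroup.index_ne_zero_of_finite)]
      exact hperp ⟨ξ, hξ.imp fun _ h => h⟩ χ₀
  obtain ⟨c, hc⟩ := int_of_const_generalized (H := ↥(A.subgroupOf (Subgroup.normalizer (A : Set G))))
    (isGeneralizedCharacter_comp hgen (A.subgroupOf (Subgroup.normalizer (A : Set G))).subtype)
    (k := ⟨k₀, a.2⟩) (fun e => hk₀ (congrArg Subtype.val e))
    (fun x hx => hconst x x.2 fun e => hx (Subtype.ext e))
  refine ⟨c, fun k hk hk1 => ?_⟩
  have h := (hconst k hk hk1).trans hc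
  simp only [f, Pi.sub_apply] at h
  refine ⟨fun χ hχ => ?_, fun hall => ?_⟩
  · rw [hφ1 χ hχ, Pi.smul_apply, smul_eq_mul] at h
    linear_combination h
  · rw [hφ0 hall, Pi.zero_apply, sub_zero] at h
    exact h

end CfsgLib.Char
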