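import Mathlib
import Cfsg.Agent.Lib.Char.ExceptionalConst
import Cfsg.Agent.Lib.Char.Integrality

/-!
# A congruence for characters constant on a central subgroup of a TI Sylow subgroup
-/

set_option autoImplicit false
set_option linter.unusedSectionVars false
set_option linter.style.haveILetI false

namespace CfsgLib.Char

open scoped ComplexConjugate
open Cfsg

universe u v

/-- An invariant function supported on free orbits has a sum divisible by the order of the group. -/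
theorem sum_free_action {P : Type u} [Group P] [Finite P] {α : Type v} [MulAction P α] [Fintype α]
    (f : α → ℂ) (hinv : ∀ (u : P) (a : α), f (u • a) = f a)
    (hfree : ∀ a, f a ≠ 0 → ∀ u : P, u • a = a → u = 1) (hint : ∀ a, IsIntegral ℤ (f a)) :
    ∃ r : ℂ, IsIntegral ℤ r ∧ ∑ a, f a = (Nat.card P : ℂ) * r := by
  classical
  haveI := Fintype.ofFinite (Quotient (MulAction.orbitRel P α))
  refine ⟨∑ q : Quotient (MulAction.orbitRel P α), f q.out, IsIntegral.sum _ fun q _ => hint _, ?_⟩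
  rw [← Finset.sum_fiberwise Finset.univ (fun a => Quotient.mk (MulAction.orbitRel P α) a), Finset.mul_sum]
  refine Finset.sum_congr rfl fun q _ => ?_
  have hmem : ∀ a, Quotient.mk (MulAction.orbitRel P α) a = q ↔ ∃ u : P, u • q.out = a := fun a => by
    conv_lhs => rw [← q.out_eq, Quotient.eq]
    exact MulAction.orbitRel_apply
  rw [Finset.sum_congr rfl (g := fun _ => f q.out) fun a ha => by
    obtain ⟨u, rfl⟩ := (hmem a).1 (Finset.mem_filter.1 ha).2
    exact hinv u _, Finset.sum_const, nsmul_eq_mul]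
  by_cases h0 : f q.out = 0
  · rw [h0, mul_zero, mul_zero]
  congr 1
  rw [Nat.cast_inj, ← Fintype.card_subtype, ← Nat.card_eq_fintype_card]
  refine (Nat.card_congr (Equiv.ofBijective (fun u : P => (⟨u • q.out, (hmem _).2 ⟨u, rfl⟩⟩ :
    {a : α // Quotient.mk (MulAction.orbitRel P α) a = q})) ⟨fun u v e => ?_, fun a => ?_⟩)).symm
  · have e' : u • q.out = v • q.out := congrArg Subtype.val e
    exact (inv_mul_eq_one.1 (hfree _ h0 (v⁻¹ * u) (by rw [mul_smul, e', inv_smul_smul]))).symm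
  · obtain ⟨u, hu⟩ := (hmem a.1).1 a.2
    exact ⟨u, Subtype.ext hu⟩

variable {G : Type u} [Group G] [Fintype G] {p : ℕ} [Fact p.Prime] (P : Sylow p G)
  (hTI : ∀ g : G, g ∉ Subgroup.normalizer ((P : Subgroup G) : Set G) →
    ∀ x ∈ (P : Subgroup G), g * x * g⁻¹ ∈ (P : Subgroup G) → x = 1)
  (Z : Subgroup G) (hZP : Z ≤ P)
  (hZn : ∀ x ∈ Subgroup.normalizer ((P : Subgroup G) : Set G), ∀ z ∈ Z, x * z * x⁻¹ ∈ Z)

include hTI hZP hZn

theorem mem_central_of_centralized {z u x : G} (hz : z ∈ Z) (hz1 : z ≠ 1) (hx : IsConj z x)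
    (hu : u ∈ (P : Subgroup G)) (hu1 : u ≠ 1) (hux : u * x * u⁻¹ = x) : x ∈ Z := by
  obtain ⟨g, rfl⟩ := isConj_iff.1 hx
  set x := g * z * g⁻¹ with hx_
  have hxu : x * u * x⁻¹ = u := by
    calc x * u * x⁻¹ = (u * x * u⁻¹) * u * x⁻¹ := by rw [hux]
      _ = u := by group
  have hxN : x ∈ Subgroup.normalizer ((P : Subgroup G) : Set G) := by
    by_contra h
    exact hu1 (hTI x h u hu (by rw [hxu]; exact hu))
  have hxP : x ∈ (P : Subgroup G) := by
    have hQ : IsPGroup p (Subgroup.zpowers x) := by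
      have h := P.2.map (MulAut.conj g).toMonoidHom
      refine h.to_le ?_
      rw [Subgroup.zpowers_le]
      exact ⟨z, hZP hz, rfl⟩
    have := hQ.inf_normalizer_sylow P
    have hm : x ∈ Subgroup.zpowers x ⊓ Subgroup.normalizer ((P : Subgroup G) : Set G) :=
      ⟨Subgroup.mem_zpowers x, hxN⟩
    exact (this.le hm).2
  refine hZn g ?_ z hz
  by_contra h
  exact hz1 (hTI g h z (hZP hz) hxP)

/-- The character sum over pairs from two classes of central elements. -/
theorem omega_mul_central (ψ : IrrCharacter G) {a b : G} (ha : a ∈ Z) (hb : b ∈ Z) (ha1 : a ≠ 1) (hb1 : b ≠ 1)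
    (n : ℂ) (hn : ∀ z ∈ Z, z ≠ 1 → (ψ : G → ℂ) z = n) :
    ∃ (S : ℕ) (r : ℂ), IsIntegral ℤ r ∧
      omega (ψ : G → ℂ) a * omega (ψ : G → ℂ) b * (ψ : G → ℂ) 1 =
        (classConst a b 1 : ℂ) * (ψ : G → ℂ) 1 + (S : ℂ) * n + (Nat.card (P : Subgroup G) : ℂ) * r ∧
      ∃ r₀ : ℕ, Nat.card {x : G // IsConj a x} * Nat.card {x : G // IsConj b x} =
        classConst a b 1 + S + Nat.card (P : Subgroup G) * r₀ := by
  classical
  set U : Set G := {w | w ≠ 1 ∧ ∃ g : G, g * w * g⁻¹ ∈ Z} with hU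
  set pairs := Finset.univ.filter (fun q : G × G => IsConj a q.1 ∧ IsConj b q.2) with hpairs
  let P' : Subgroup (ConjAct G) := (P : Subgroup G).map ConjAct.toConjAct.toMonoidHom
  have hP' : Nat.card P' = Nat.card (P : Subgroup G) :=
    (Nat.card_congr ((P : Subgroup G).equivMapOfInjective _ ConjAct.toConjAct.injective).toEquiv).symm
  have key : ∀ φ : G → ℂ, IsClassFunction G φ → (∀ g, IsIntegral ℤ (φ g)) →
      ∃ r : ℂ, IsIntegral ℤ r ∧
        ∑ q ∈ pairs.filter (fun q => q.1 * q.2 ≠ 1 ∧ q.1 * q.2 ∉ U), φ (q.1 * q.2) = (Nat.card P' : ℂ) * r := by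
    intro φ hφ hi
    set T := pairs.filter (fun q : G × G => q.1 * q.2 ≠ 1 ∧ q.1 * q.2 ∉ U) with hT
    suffices hsum : ∃ r : ℂ, IsIntegral ℤ r ∧
        ∑ q : G × G, (if q ∈ T then φ (q.1 * q.2) else 0) = (Nat.card P' : ℂ) * r by
      obtain ⟨r, hr, he⟩ := hsum
      exact ⟨r, hr, by rw [← he, ← Finset.sum_filter, Finset.filter_univ_mem]⟩
    refine sum_free_action (P := P') (α := G × G)
      (fun q => if q ∈ T then φ (q.1 * q.2) else 0) (fun u q => ?_) (fun q hq u hu => ?_)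
      (fun q => by split_ifs; exacts [hi _, isIntegral_zero])
    · obtain ⟨u, v, hv, rfl⟩ := u
      have hc : ∀ w : G, (⟨ConjAct.toConjAct.toMonoidHom v, v, hv, rfl⟩ : P') • w = v * w * v⁻¹ := fun w => rfl
      have e1 : ((⟨ConjAct.toConjAct.toMonoidHom v, v, hv, rfl⟩ : P') • q).1 = v * q.1 * v⁻¹ := hc _
      have e2 : ((⟨ConjAct.toConjAct.toMonoidHom v, v, hv, rfl⟩ : P') • q).2 = v * q.2 * v⁻¹ := hc _
      have e3 : v * q.1 * v⁻¹ * (v * q.2 * v⁻¹) = v * (q.1 * q.2) * v⁻¹ := by group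
      have hmem : (⟨ConjAct.toConjAct.toMonoidHom v, v, hv, rfl⟩ : P') • q ∈ T ↔ q ∈ T := by
        simp only [hT, hpairs, Finset.mem_filter, Finset.mem_univ, true_and, e1, e2, e3, hU, Set.mem_ofPred_eq]
        refine and_congr (and_congr ⟨fun h => h.trans (isConj_iff.2 ⟨v⁻¹, by group⟩),
          fun h => h.trans (isConj_iff.2 ⟨v, rfl⟩)⟩ ⟨fun h => h.trans (isConj_iff.2 ⟨v⁻¹, by group⟩),
          fun h => h.trans (isConj_iff.2 ⟨v, rfl⟩)⟩) (and_congr (not_congr conj_eq_one_iff) (not_congr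
            (and_congr (not_congr conj_eq_one_iff) ⟨fun ⟨g, hg⟩ => ⟨g * v, ?_⟩, fun ⟨g, hg⟩ => ⟨g * v⁻¹, ?_⟩⟩)))
        · convert hg using 1; group
        · convert hg using 1; group
      refine if_congr hmem ?_ rfl
      rw [e1, e2, e3, hφ]
    · obtain ⟨u, v, hv, rfl⟩ := u
      by_contra hne
      have hqT : q ∈ T := by
        by_contra h
        exact hq (if_neg h)
      have hv1 : v ≠ 1 := fun e => hne (Subtype.ext (by simp [e]))
      simp only [hT, hpairs, Finset.mem_filter, Finset.mem_univ, true_and] at hqT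
      have h1 := mem_central_of_centralized P hTI Z hZP hZn ha ha1 hqT.1.1 hv hv1
        (congrArg Prod.fst hu)
      have h2 := mem_central_of_centralized P hTI Z hZP hZn hb hb1 hqT.1.2 hv hv1
        (congrArg Prod.snd hu)
      exact hqT.2.2 ⟨hqT.2.1, 1, by simpa using Z.mul_mem h1 h2⟩
  have hdecomp : ∀ φ : G → ℂ, (∀ w ∈ U, φ w = φ w) →
      ∑ q ∈ pairs, φ (q.1 * q.2) = (∑ q ∈ pairs.filter (fun q => q.1 * q.2 = 1), φ (q.1 * q.2)) +
        ((∑ q ∈ pairs.filter (fun q => q.1 * q.2 ∈ U), φ (q.1 * q.2)) +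
          ∑ q ∈ pairs.filter (fun q => q.1 * q.2 ≠ 1 ∧ q.1 * q.2 ∉ U), φ (q.1 * q.2)) := by
    intro φ _
    rw [← Finset.sum_filter_add_sum_filter_not pairs (fun q => q.1 * q.2 = 1)]
    congr 1
    have e1 : (pairs.filter fun q => ¬ q.1 * q.2 = 1).filter (fun q => q.1 * q.2 ∈ U) =
        pairs.filter (fun q => q.1 * q.2 ∈ U) := by
      ext q
      simp only [Finset.mem_filter]
      exact ⟨fun h => ⟨h.1.1, h.2⟩, fun h => ⟨⟨h.1, h.2.1⟩, h.2⟩⟩
    have e2 : (pairs.filter fun q => ¬ q.1 * q.2 = 1).filter (fun q => ¬ q.1 * q.2 ∈ U) =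
        pairs.filter (fun q => q.1 * q.2 ≠ 1 ∧ q.1 * q.2 ∉ U) := by
      ext q
      simp only [Finset.mem_filter, and_assoc, ne_eq]
    rw [← Finset.sum_filter_add_sum_filter_not (pairs.filter fun q => ¬ q.1 * q.2 = 1)
      (fun q => q.1 * q.2 ∈ U), e1, e2]
  have hone : (pairs.filter fun q => q.1 * q.2 = 1).card = classConst a b 1 := by
    rw [classConst, Nat.card_eq_fintype_card, Fintype.card_subtype, hpairs, Finset.filter_filter]
    exact congrArg Finset.card (Finset.filter_congr fun q _ => and_assoc)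
  obtain ⟨r, hr, her⟩ := key (ψ : G → ℂ) (isClassFunction_irr ψ) (fun g => isCharacter_isIntegral (isCharacter_irr ψ) g)
  refine ⟨(pairs.filter fun q => q.1 * q.2 ∈ U).card, r, hr, ?_, ?_⟩
  · have hω : omega (ψ : G → ℂ) a * omega (ψ : G → ℂ) b * (ψ : G → ℂ) 1 =
        ∑ q ∈ pairs, (ψ : G → ℂ) (q.1 * q.2) := by
      rw [omega_mul, Finset.sum_mul, ← Finset.sum_fiberwise pairs (fun q => q.1 * q.2)]
      refine Finset.sum_congr rfl fun z _ => ?_
      rw [div_mul_cancel₀ _ (irr_one_ne_zero ψ), Finset.sum_congr rfl (g := fun _ => (ψ : G → ℂ) z) fun q hq => by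
        rw [(Finset.mem_filter.1 hq).2], Finset.sum_const, nsmul_eq_mul, classConst, Nat.card_eq_fintype_card,
        Fintype.card_subtype, hpairs, Finset.filter_filter]
      congr 2
      exact congrArg Finset.card (Finset.filter_congr fun q _ => and_assoc.symm)
    rw [hω, hdecomp _ fun _ _ => rfl, her, hP',
      Finset.sum_congr rfl (s₁ := pairs.filter fun q => q.1 * q.2 = 1) (g := fun _ => (ψ : G → ℂ) 1)
        (fun q hq => by rw [(Finset.mem_filter.1 hq).2]),
      Finset.sum_congr rfl (s₁ := pairs.filter fun q => q.1 * q.2 ∈ U) (g := fun _ => n) (fun q hq => by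
        obtain ⟨hne, g, hg⟩ := (Finset.mem_filter.1 hq).2
        rw [← isClassFunction_irr ψ (q.1 * q.2) g]
        exact hn _ hg fun e => hne (conj_eq_one_iff.1 e)),
      Finset.sum_const, Finset.sum_const, nsmul_eq_mul, nsmul_eq_mul, hone]
    ring
  · obtain ⟨r', hr', her'⟩ := key (fun _ => 1) (fun _ _ => rfl) (fun _ => isIntegral_one)
    have h := hdecomp (fun _ => 1) fun _ _ => rfl
    rw [her', hP', Finset.sum_const, Finset.sum_const, Finset.sum_const, hone] at h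
    simp only [nsmul_eq_mul, mul_one] at h her'
    have hcard : pairs.card = Nat.card {x : G // IsConj a x} * Nat.card {x : G // IsConj b x} := by
      rw [Nat.card_eq_fintype_card, Nat.card_eq_fintype_card, Fintype.card_subtype, Fintype.card_subtype,
        ← Finset.card_product, hpairs, ← Finset.univ_product_univ, Finset.filter_product]
    set F := pairs.filter (fun q => q.1 * q.2 ≠ 1 ∧ q.1 * q.2 ∉ U) with hF
    have hdvd : Nat.card (P : Subgroup G) ∣ F.card := by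
      have e : (F.card : ℂ) = (Nat.card (P : Subgroup G) : ℂ) * r' := by
        rw [← hP', ← her']; simp
      have hP0 : (Nat.card (P : Subgroup G) : ℂ) ≠ 0 := Nat.cast_ne_zero.2 Nat.card_pos.ne'
      have hq : r' = (((F.card : ℚ) / (Nat.card (P : Subgroup G) : ℚ) : ℚ) : ℂ) := by
        push_cast; rw [eq_div_iff hP0, e]; ring
      rw [hq, show ((((F.card : ℚ) / (Nat.card (P : Subgroup G) : ℚ) : ℚ) : ℂ)) =
        algebraMap ℚ ℂ ((F.card : ℚ) / (Nat.card (P : Subgroup G) : ℚ)) from rfl,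
        isIntegral_algebraMap_iff (algebraMap ℚ ℂ).injective, IsIntegrallyClosed.isIntegral_iff] at hr'
      obtain ⟨k, hk⟩ := hr'
      rw [eq_intCast, eq_div_iff (Nat.cast_ne_zero.2 Nat.card_pos.ne')] at hk
      exact Int.natCast_dvd_natCast.1 ⟨k, by rw [mul_comm]; exact_mod_cast hk.symm⟩
    obtain ⟨r₀, hr₀⟩ := hdvd
    refine ⟨r₀, ?_⟩
    rw [← hcard, ← hr₀]
    have h' : ((pairs.card : ℕ) : ℂ) =
        ((classConst a b 1 + (pairs.filter fun q => q.1 * q.2 ∈ U).card + F.card : ℕ) : ℂ) := by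
      have e : (F.card : ℂ) = (Nat.card (P : Subgroup G) : ℂ) * r' := by rw [← hP', ← her']; simp
      push_cast
      rw [e]
      linear_combination h
    exact_mod_cast h'

/-- The congruence. -/
theorem central_congruence (hodd : Odd (Nat.card (Subgroup.normalizer ((P : Subgroup G) : Set G))))
    (hZc : ∀ z ∈ Z, ∀ y ∈ (P : Subgroup G), z * y = y * z)
    (hCL : ∀ z ∈ Z, ∀ z' ∈ Z, z ≠ 1 → z' ≠ 1 →
      Nat.card ↥(Subgroup.normalizer ((P : Subgroup G) : Set G) ⊓ Subgroup.centralizer ({z} : Set G)) =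
        Nat.card ↥(Subgroup.normalizer ((P : Subgroup G) : Set G) ⊓ Subgroup.centralizer ({z'} : Set G)))
    (ψ : IrrCharacter G)
    (hconst : ∀ z ∈ Z, ∀ z' ∈ Z, z ≠ 1 → z' ≠ 1 → (ψ : G → ℂ) z = (ψ : G → ℂ) z')
    {z : G} (hz : z ∈ Z) (hz1 : z ≠ 1) :
    ∃ n d : ℤ, (ψ : G → ℂ) z = n ∧ (ψ : G → ℂ) 1 = d ∧ (Nat.card (P : Subgroup G) : ℤ) ∣ d - n := by
  classical
  obtain ⟨d, -, hd⟩ := isIrrCharacter_degree ψ.2
  haveI := Fintype.ofFinite Z
  obtain ⟨n, hn⟩ := int_of_const_generalized (H := Z)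
    (isGeneralizedCharacter_comp (isGeneralizedCharacter_of_isCharacter (isCharacter_irr ψ)) Z.subtype)
    (k := ⟨z, hz⟩) (fun e => hz1 (congrArg Subtype.val e))
    (fun x hx => hconst x x.2 z hz (fun e => hx (Subtype.ext e)) hz1)
  replace hn : (ψ : G → ℂ) z = n := hn
  refine ⟨n, d, hn, by rw [hd]; norm_cast, ?_⟩
  have hval : ∀ w ∈ Z, w ≠ 1 → (ψ : G → ℂ) w = n := fun w hw hw1 => (hconst w hw z hz hw1 hz1).trans hn
  have hC : ∀ w ∈ Z, w ≠ 1 → Subgroup.centralizer ({w} : Set G) ≤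
      Subgroup.normalizer ((P : Subgroup G) : Set G) := by
    intro w hw hw1 y hy
    by_contra h
    refine hw1 (hTI y h w (hZP hw) ?_)
    rw [Subgroup.mem_centralizer_singleton_iff.1 hy, mul_inv_cancel_right]
    exact hZP hw
  have hzi : z⁻¹ ≠ 1 := inv_ne_one.2 hz1
  set h := Nat.card {x : G // IsConj z x} with hh
  have hh' : Nat.card {x : G // IsConj z⁻¹ x} = h := by
    rw [hh, card_isConj, card_isConj]
    have e := hCL z hz z⁻¹ (Z.inv_mem hz) hz1 hzi
    rw [inf_eq_right.2 (hC z hz hz1), inf_eq_right.2 (hC _ (Z.inv_mem hz) hzi)] at e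
    have e1 := (Subgroup.centralizer ({z} : Set G)).card_mul_index
    have e2 := (Subgroup.centralizer ({z⁻¹} : Set G)).card_mul_index
    rw [← e] at e2
    exact Nat.eq_of_mul_eq_mul_left Nat.card_pos (e2.trans e1.symm)
  have hcop : Nat.Coprime h (Nat.card (P : Subgroup G)) := by
    rw [P.card_eq_multiplicity]
    refine Nat.Coprime.pow_right _ ((Nat.Prime.coprime_iff_not_dvd Fact.out).2 (fun hdv => ?_)).symm
    refine P.not_dvd_index (hdv.trans ?_)
    rw [hh, card_isConj]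
    exact Subgroup.index_dvd_of_le fun y hy => Subgroup.mem_centralizer_singleton_iff.2 (hZc z hz y hy).symm
  obtain ⟨S, r, hr, he, r₀, hr₀⟩ := omega_mul_central P hTI Z hZP hZn ψ hz hz hz1 hz1 n hval
  obtain ⟨S', r', hr', he', r₀', hr₀'⟩ :=
    omega_mul_central P hTI Z hZP hZn ψ hz (Z.inv_mem hz) hz1 hzi n hval
  have hc0 : classConst z z 1 = 0 := by
    rw [classConst, Nat.card_eq_zero]
    refine Or.inl ⟨fun ⟨⟨x, y⟩, hx, hy, hxy⟩ => ?_⟩
    obtain rfl : y = x⁻¹ := eq_inv_of_mul_eq_one_right hxy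
    obtain ⟨g₁, rfl⟩ := isConj_iff.1 hx
    obtain ⟨g₂, hg₂⟩ := isConj_iff.1 hy
    set t := g₁⁻¹ * g₂ with ht
    have hti : t * z * t⁻¹ = z⁻¹ := by
      calc t * z * t⁻¹ = g₁⁻¹ * (g₂ * z * g₂⁻¹) * g₁ := by rw [ht]; group
        _ = z⁻¹ := by rw [hg₂]; group
    have htN : t ∈ Subgroup.normalizer ((P : Subgroup G) : Set G) := by
      by_contra hN
      exact hz1 (hTI t hN z (hZP hz) (hti ▸ hZP (Z.inv_mem hz)))
    have h2 : t ^ 2 ∈ Subgroup.centralizer ({z} : Set G) := by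
      rw [Subgroup.mem_centralizer_singleton_iff, pow_two, ← mul_inv_eq_iff_eq_mul]
      calc t * t * z * (t * t)⁻¹ = t * (t * z * t⁻¹) * t⁻¹ := by group
        _ = t * z⁻¹ * t⁻¹ := by rw [hti]
        _ = (t * z * t⁻¹)⁻¹ := by group
        _ = z := by rw [hti, inv_inv]
    obtain ⟨k, hk⟩ : Odd (orderOf t) := hodd.of_dvd_nat (by
      rw [← Subgroup.orderOf_mk t htN]; exact orderOf_dvd_natCard _)
    have htc : t ∈ Subgroup.centralizer ({z} : Set G) := by
      have e : t = (t ^ 2) ^ (k + 1) := by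
        rw [← pow_mul, show 2 * (k + 1) = orderOf t + 1 by omega, pow_succ, pow_orderOf_eq_one, one_mul]
      rw [e]
      exact pow_mem h2 _
    have hzz : z⁻¹ = z := by
      rw [← hti, Subgroup.mem_centralizer_singleton_iff.1 htc, mul_inv_cancel_right]
    obtain ⟨l, hl⟩ : Odd (orderOf z) := hodd.of_dvd_nat (by
      rw [← Subgroup.orderOf_mk z (Subgroup.le_normalizer (hZP hz))]; exact orderOf_dvd_natCard _)
    have h2' : z ^ 2 = 1 := by
      rw [pow_two]
      nth_rw 1 [← hzz]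
      exact inv_mul_cancel z
    rcases (Nat.dvd_prime Nat.prime_two).1 (orderOf_dvd_of_pow_eq_one h2') with ho | ho
    · exact hz1 (orderOf_eq_one_iff.1 ho)
    · omega
  have hc1 : classConst z z⁻¹ 1 = h := by
    rw [classConst, hh]
    refine Nat.card_congr
      { toFun := fun q => ⟨q.1.1, q.2.1⟩
        invFun := fun x => ⟨(x.1, x.1⁻¹), x.2, ?_, mul_inv_cancel _⟩
        left_inv := fun q => Subtype.ext (Prod.ext rfl (eq_inv_of_mul_eq_one_right q.2.2.2).symm)
        right_inv := fun x => rfl }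
    obtain ⟨g, hg⟩ := isConj_iff.1 x.2
    exact isConj_iff.2 ⟨g, by rw [← hg]; group⟩
  rw [← hh, hc0, zero_add] at hr₀
  rw [← hh, hh', hc1] at hr₀'
  rw [hc0, Nat.cast_zero, zero_mul, zero_add] at he
  rw [hc1] at he'
  have homega : omega (ψ : G → ℂ) z⁻¹ = omega (ψ : G → ℂ) z := by
    simp only [omega, hh', ← hh, hval z hz hz1, hval z⁻¹ (Z.inv_mem hz) hzi]
  rw [homega] at he'
  have hr₀c : (h : ℂ) * h = S + (Nat.card (P : Subgroup G) : ℂ) * r₀ := by exact_mod_cast hr₀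
  have hr₀c' : (h : ℂ) * h = h + S' + (Nat.card (P : Subgroup G) : ℂ) * r₀' := by exact_mod_cast hr₀'
  set Pc : ℂ := (Nat.card (P : Subgroup G) : ℂ) with hPc
  have hmain : ((h * (n - d) : ℤ) : ℂ) = Pc * (r' - r₀' * n - (r - r₀ * n)) := by
    rw [hd] at he he'
    push_cast
    linear_combination he' - he + (n : ℂ) * hr₀c - (n : ℂ) * hr₀c'
  have hZi : ∀ k : ℤ, IsIntegral ℤ (k : ℂ) := fun k => isIntegral_algebraMap (x := k)
  have hint : IsIntegral ℤ (r' - r₀' * n - (r - r₀ * n) : ℂ) := by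
    have e : ∀ k : ℕ, IsIntegral ℤ ((k : ℂ) * (n : ℂ)) := fun k =>
      (Int.cast_natCast (R := ℂ) k ▸ hZi k : IsIntegral ℤ (k : ℂ)).mul (hZi n)
    exact (hr'.sub (e r₀')).sub (hr.sub (e r₀))
  have hP0 : Pc ≠ 0 := Nat.cast_ne_zero.2 Nat.card_pos.ne'
  have hq : (r' - r₀' * n - (r - r₀ * n) : ℂ) =
      algebraMap ℚ ℂ (((h * (n - d) : ℤ) : ℚ) / (Nat.card (P : Subgroup G) : ℚ)) := by
    rw [eq_ratCast]
    push_cast at hmain ⊢
    rw [eq_div_iff hP0, hmain]
    ring
  rw [hq, isIntegral_algebraMap_iff (algebraMap ℚ ℂ).injective, IsIntegrallyClosed.isIntegral_iff] at hint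
  obtain ⟨k, hk⟩ := hint
  rw [eq_intCast, eq_div_iff (Nat.cast_ne_zero.2 Nat.card_pos.ne')] at hk
  have hk' : k * (Nat.card (P : Subgroup G) : ℤ) = h * (n - d) := by exact_mod_cast hk
  have hdiv : (Nat.card (P : Subgroup G) : ℤ) ∣ (h : ℤ) * (n - d) := ⟨k, by rw [← hk', mul_comm]⟩
  have := Int.dvd_of_dvd_mul_right_of_gcd_one hdiv (by
    rw [Int.gcd_natCast_natCast]; exact hcop.symm)
  exact (dvd_neg.2 this).trans (by rw [neg_sub])

end CfsgLib.Char
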