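import Mathlib
import Cfsg.Agent.Lib.Char.InducedSet
import Cfsg.Agent.Lib.Char.Determine

/-!
# Coherence descends through central sections
-/

set_option autoImplicit false
set_option linter.unusedSectionVars false
set_option linter.style.haveILetI false

namespace CfsgLib.Char

open scoped ComplexConjugate commutatorElement
open Cfsg

universe u v

variable {L : Type u} [Group L] [Fintype L] {G : Type v} [Group G] [Fintype G]

/-- A degree is bounded by a central section. -/
theorem degree_sq_le_of_central_section {K B C D : Subgroup L} (θ : IrrCharacter K) [B.Normal]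
    (hB : ∀ a : K, (a : L) ∈ B → (θ : K → ℂ) a = (θ : K → ℂ) 1) (hDC : D ≤ C) (hCK : C ≤ K)
    (hcent : ∀ x ∈ D, ∀ y ∈ C, x * y * x⁻¹ * y⁻¹ ∈ B) {b : ℕ} (hb : (θ : K → ℂ) 1 = b) :
    b ^ 2 ≤ C.relIndex K ^ 2 * D.relIndex C := by
  classical
  haveI := Fintype.ofFinite K
  set C' := C.subgroupOf K with hC'
  haveI := Fintype.ofFinite C'
  have hθC : IsCharacter C' (fun c : C' => (θ : K → ℂ) c) := isCharacter_comp (isCharacter_irr θ) C'.subtype
  obtain ⟨ψ, hψ⟩ := exists_irr_inner_ne_zero hθC fun h => irr_one_ne_zero θ (congrFun h 1)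
  obtain ⟨c, hc0, hc⟩ := isIrrCharacter_degree ψ.2
  have hle : b ≤ C'.index * c := by
    refine (degree_le_of_constituent (isCharacter_indFun C' (isCharacter_irr ψ)) θ ?_
      (a := C'.index * c) (by rw [indFun_one, hc, Nat.cast_mul]) hb).1
    rw [classInner_indFun C' _ _ (isClassFunction_irr θ), ← classInner_conj]
    exact fun h => hψ (by simpa using h)
  have hD := card_mul_degree_sq_le ψ ((D.subgroupOf K).subgroupOf C') (fun d hd x =>
    constituent_kernel hθC ψ hψ (hB _ (hcent ((d : K) : L) hd ((x : K) : L) x.2))) hc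
  have hrel : ((D.subgroupOf K).subgroupOf C').index = D.relIndex C := by
    show (D.subgroupOf K).relIndex C' = _
    exact Subgroup.relIndex_subgroupOf hCK
  rw [← ((D.subgroupOf K).subgroupOf C').card_mul_index, hrel] at hD
  have hc2 : c ^ 2 ≤ D.relIndex C := Nat.le_of_mul_le_mul_left hD Nat.card_pos
  calc b ^ 2 ≤ (C'.index * c) ^ 2 := Nat.pow_le_pow_left hle 2
    _ = C.relIndex K ^ 2 * c ^ 2 := by rw [mul_pow]; rfl
    _ ≤ C.relIndex K ^ 2 * D.relIndex C := Nat.mul_le_mul_left _ hc2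

variable (K : Subgroup L) [K.Normal] (hsolv : Group.IsSolvable K) {τ : (L → ℂ) → (G → ℂ)}
  {R : (L → ℂ) → Finset (G → ℂ)} (hS : IsCoherenceSystem (inducedIrrAbove K ⊥) τ R)

include hsolv hS

theorem inducedIrrAbove_nonempty {A : Subgroup L} [A.Normal] (hA : A.relIndex K ≠ 1) :
    (inducedIrrAbove K A).Nonempty :=
  let ⟨φ, h, _⟩ := exists_inducedIrrAbove_degree K hsolv A hA
  ⟨φ, h⟩

omit hsolv hS in
theorem relIndex_ne_one_of_lt {A : Subgroup L} (h : A < K) : A.relIndex K ≠ 1 :=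
  fun e => h.not_ge (Subgroup.relIndex_eq_one.1 e)

/-- Enlarging a coherent set when all new degrees are small. -/
theorem coherent_of_small_degrees {A B : Subgroup L} [A.Normal] [B.Normal] (hA : A.relIndex K ≠ 1)
    (hB : B.relIndex K ≠ 1) (hcoh : IsCoherent (inducedIrrAbove K A) {1}ᶜ τ)
    (hsmall : ∀ θ : K → ℂ, IsIrrCharacter K θ → (∀ a : K, (a : L) ∈ B → θ a = θ 1) →
      ∀ b : ℕ, θ 1 = b → 2 * K.index * b < A.relIndex K - 1) :
    IsCoherent (inducedIrrAbove K B) {1}ᶜ τ := by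
  classical
  have hsub : ∀ X : Subgroup L, inducedIrrAbove K X ⊆ inducedIrrAbove K ⊥ := fun X =>
    inducedIrrAbove_mono K bot_le
  have hd : ∀ φ, ∃ d : ℕ, φ ∈ inducedIrrAbove K ⊥ → φ 1 = d := fun φ => by
    by_cases h : φ ∈ inducedIrrAbove K ⊥
    · exact (isCharacter_degree (hS.isCharacter φ h)).imp fun _ hd _ => hd
    · exact ⟨0, fun h' => absurd h' h⟩
  choose d hd using hd
  have hfin : ∀ X : Subgroup L, (inducedIrrAbove K X).Finite := fun X => (cs_finite hS).subset (hsub X)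
  set sA := (hfin A).toFinset with hsA
  have hsA' : (sA : Set (L → ℂ)) = inducedIrrAbove K A := (hfin A).coe_toFinset
  obtain ⟨χ₁, hχ₁, hχ₁d⟩ := exists_inducedIrrAbove_degree K hsolv A hA
  have hd1 : d χ₁ = K.index := Nat.cast_injective (R := ℂ) ((hd χ₁ (hsub A hχ₁)).symm.trans hχ₁d)
  have hsum : ∑ φ ∈ sA, (φ 1 ^ 2 / classInner φ φ).re = (K.index : ℝ) * ((A.relIndex K : ℝ) - 1) := by
    rw [← Complex.re_sum, sum_sq_inducedIrrAbove K A sA hsA']
    simp
  obtain ⟨S₂, -, h2, h3, h4, h5⟩ := coherent_adjoin hS d hd sA (by rw [hsA']; exact hsub A)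
    (fun φ hφ => (hfin A).mem_toFinset.2 (inducedIrrAbove_conj_mem K A ((hfin A).mem_toFinset.1 hφ)))
    (by rwa [hsA']) ((hfin A).mem_toFinset.2 hχ₁) (hfin B).toFinset
    (by rw [(hfin B).coe_toFinset]; exact hsub B)
    (fun χ hχ => by
      have hχ' := (hfin B).mem_toFinset.1 hχ
      obtain ⟨b, -, hb⟩ := inducedIrrAbove_degree K hχ'
      rw [hd1, Nat.cast_injective (R := ℂ) ((hd χ (hsub B hχ')).symm.trans hb)]
      exact dvd_mul_right _ _)
    (fun χ hχ => by
      have hχ' := (hfin B).mem_toFinset.1 hχ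
      obtain ⟨θ, h1, -, h3, rfl⟩ := (hfin B).mem_toFinset.1 hχ
      haveI := Fintype.ofFinite K
      obtain ⟨b, hb0, hb⟩ := isIrrCharacter_degree h1
      have hdb : d (indFun K θ) = K.index * b := Nat.cast_injective (R := ℂ) ((hd _ (hsub B hχ')).symm.trans
        (by rw [indFun_one, hb, Nat.cast_mul]))
      rw [hsum, hd1, hdb]
      have hlt := hsmall θ h1 h3 b hb
      have he : 0 < K.index := Nat.pos_of_ne_zero Subgroup.index_ne_zero_of_finite
      have h' : ((2 * K.index * b + 1 : ℕ) : ℝ) < (A.relIndex K : ℝ) := Nat.cast_lt.2 (by omega)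
      push_cast at h' ⊢
      have : (0 : ℝ) < K.index := Nat.cast_pos.2 he
      nlinarith)
  exact coherent_mono hS h5 (fun φ hφ => h2 ((hfin B).mem_toFinset.2 hφ)) (hsub B)
    (inducedIrrAbove_nonempty K hsolv hS hB) fun φ hφ => inducedIrrAbove_conj_mem K B hφ

/-- Coherence descends through a central step. -/
theorem coherent_central_step {A B C D : Subgroup L} [A.Normal] [B.Normal] (hAK : A < K) (hBK : B < K)
    (hDC : D ≤ C) (hCK : C ≤ K) (hcent : ∀ x ∈ D, ∀ y ∈ C, x * y * x⁻¹ * y⁻¹ ∈ B)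
    (hA : IsCoherent (inducedIrrAbove K A) {1}ᶜ τ)
    (hlt : 4 * C.index ^ 2 * D.relIndex C < (A.relIndex K - 1) ^ 2) :
    IsCoherent (inducedIrrAbove K B) {1}ᶜ τ := by
  refine coherent_of_small_degrees K hsolv hS (relIndex_ne_one_of_lt K hAK) (relIndex_ne_one_of_lt K hBK)
    hA fun θ hθ hker b hb => ?_
  have h := degree_sq_le_of_central_section ⟨θ, hθ⟩ hker hDC hCK hcent hb
  have hC : C.relIndex K * K.index = C.index := Subgroup.relIndex_mul_index hCK
  by_contra hge
  have h2 : (A.relIndex K - 1) ^ 2 ≤ (2 * K.index * b) ^ 2 := Nat.pow_le_pow_left (not_lt.1 hge) 2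
  have h3 : (2 * K.index * b) ^ 2 ≤ 4 * C.index ^ 2 * D.relIndex C := by
    rw [← hC]
    calc (2 * K.index * b) ^ 2 = 4 * K.index ^ 2 * b ^ 2 := by ring
      _ ≤ 4 * K.index ^ 2 * (C.relIndex K ^ 2 * D.relIndex C) := Nat.mul_le_mul_left _ h
      _ = 4 * (C.relIndex K * K.index) ^ 2 * D.relIndex C := by ring
  omega

/-- Coherence descends through a nilpotent section. -/
theorem coherent_nilpotent_section {M H₁ H : Subgroup L} [M.Normal] [H₁.Normal] [H.Normal]
    (hMH₁ : M ≤ H₁) (hH₁H : H₁ ≤ H) (hHK : H ≤ K) [(M.subgroupOf H).Normal]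
    (hnil : Group.IsNilpotent (↥H ⧸ M.subgroupOf H)) (hcoh : IsCoherent (inducedIrrAbove K H₁) {1}ᶜ τ)
    (hbig : 4 * K.index ^ 2 + 1 < H₁.relIndex H) : IsCoherent (inducedIrrAbove K M) {1}ᶜ τ := by
  classical
  suffices h : ∀ n (A : Subgroup L), A.Normal → Nat.card A = n → M ≤ A → A ≤ H₁ →
      IsCoherent (inducedIrrAbove K A) {1}ᶜ τ → IsCoherent (inducedIrrAbove K M) {1}ᶜ τ from
    h _ H₁ inferInstance rfl hMH₁ le_rfl hcoh
  intro n
  induction n using Nat.strong_induction_on with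
  | _ n ih =>
  intro A hAn hn hMA hAH hA
  rcases eq_or_ne A M with rfl | hne
  · exact hA
  haveI := hAn
  set B := ⁅A, H⁆ ⊔ M with hB
  have hBA : B ≤ A := sup_le (Subgroup.commutator_le_left A H) hMA
  have hBne : B ≠ A := by
    intro hBe
    obtain ⟨c, hc⟩ := Subgroup.nilpotent_iff_lowerCentralSeries.1 hnil
    have key : ∀ k, ∀ a ∈ A, ∀ ha : a ∈ H, QuotientGroup.mk' (M.subgroupOf H) ⟨a, ha⟩ ∈
        Subgroup.lowerCentralSeries (⊤ : Subgroup (↥H ⧸ M.subgroupOf H)) k := by
      intro k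
      induction k with
      | zero => intro a _ ha; simp
      | succ k ihk =>
        have hle : B ≤ (((Subgroup.lowerCentralSeries (⊤ : Subgroup (↥H ⧸ M.subgroupOf H)) (k + 1)).comap
            (QuotientGroup.mk' (M.subgroupOf H))).map H.subtype) := by
          refine sup_le (Subgroup.commutator_le.2 fun x hx y hy => ?_) fun m hm => ?_
          · refine ⟨⁅(⟨x, (hAH.trans hH₁H) hx⟩ : H), ⟨y, hy⟩⁆, ?_, rfl⟩
            rw [SetLike.mem_coe, Subgroup.mem_comap, map_commutatorElement, Subgroup.lowerCentralSeries_succ]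
            exact Subgroup.commutator_mem_commutator (ihk x hx _) trivial
          · refine ⟨⟨m, hH₁H (hMH₁ hm)⟩, ?_, rfl⟩
            rw [SetLike.mem_coe, Subgroup.mem_comap, QuotientGroup.mk'_apply, (QuotientGroup.eq_one_iff (N := M.subgroupOf H)
              ⟨m, hH₁H (hMH₁ hm)⟩).2 hm]
            exact one_mem _
        intro a ha haH
        obtain ⟨z, hz, hza⟩ := hle (hBe.symm ▸ ha)
        obtain rfl : z = ⟨a, haH⟩ := Subtype.ext hza
        exact hz
    refine hne (le_antisymm (fun a ha => ?_) hMA)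
    have := key c a ha (hH₁H (hAH ha))
    rw [hc, Subgroup.mem_bot] at this
    exact (QuotientGroup.eq_one_iff (N := M.subgroupOf H) ⟨a, hH₁H (hAH ha)⟩).1 this
  have hlt : B < A := lt_of_le_of_ne hBA hBne
  have hAK : A < K := by
    refine lt_of_le_of_ne (hAH.trans (hH₁H.trans hHK)) fun e => ?_
    rw [Subgroup.relIndex_eq_one.2 (hHK.trans (e ▸ hAH))] at hbig
    omega
  have hcard : Nat.card B < n := hn ▸ Set.Finite.card_lt_card (Set.toFinite (A : Set L)) hlt
  refine ih _ hcard B inferInstance rfl le_sup_right (hBA.trans hAH) ?_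
  refine coherent_central_step K hsolv hS hAK (hlt.trans hAK) (C := H) (D := A) (hAH.trans hH₁H) hHK
    (fun x hx y hy => le_sup_left (a := ⁅A, H⁆) (b := M) (by
      rw [← commutatorElement_def]; exact Subgroup.commutator_mem_commutator hx hy)) hA ?_
  set h := A.relIndex H with hh
  set k := H.relIndex K with hk
  have hkh : h * k = A.relIndex K := Subgroup.relIndex_mul_relIndex _ _ _ (hAH.trans hH₁H) hHK
  have hHi : k * K.index = H.index := Subgroup.relIndex_mul_index hHK
  have hge : 4 * K.index ^ 2 + 2 ≤ h := by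
    refine le_trans (by omega) (Nat.le_of_dvd ?_ (Subgroup.relIndex_dvd_of_le_left H hAH))
    exact Nat.pos_of_ne_zero Subgroup.index_ne_zero_of_finite
  have hkpos : 1 ≤ k := Nat.pos_of_ne_zero Subgroup.index_ne_zero_of_finite
  rw [← hkh, ← hHi]
  obtain ⟨h', he'⟩ : ∃ h', h = h' + 1 := ⟨h - 1, by omega⟩
  rw [he'] at hge ⊢
  calc 4 * (k * K.index) ^ 2 * (h' + 1) = k ^ 2 * (4 * K.index ^ 2 * (h' + 1)) := by ring
    _ < k ^ 2 * h' ^ 2 := Nat.mul_lt_mul_of_pos_left (by nlinarith) (by positivity)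
    _ = (h' * k) ^ 2 := by ring
    _ ≤ ((h' + 1) * k - 1) ^ 2 := Nat.pow_le_pow_left (by rw [add_mul]; omega) 2

end CfsgLib.Char
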