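import Mathlib
import Cfsg.Agent.Lib.Char.CoherenceDescend
import Cfsg.Agent.Lib.Coprime.FrattiniExtra

/-!
# Coherence of the characters of a nilpotent kernel
-/

set_option autoImplicit false
set_option linter.unusedSectionVars false
set_option linter.style.haveILetI false

namespace CfsgLib.Char

open scoped ComplexConjugate commutatorElement
open Cfsg

universe u v

section Groups

variable {Γ : Type u} [Group Γ] [Finite Γ]

theorem eq_top_of_pow_index (hnil : Group.IsNilpotent Γ) {p : ℕ} [Fact p.Prime] {a : ℕ}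
    (h : (commutator Γ).index = p ^ a) : ∃ m, Nat.card Γ = p ^ m := by
  haveI := hnil
  obtain ⟨P⟩ : Nonempty (Sylow p Γ) := inferInstance
  suffices hP : (P : Subgroup Γ) = ⊤ by
    obtain ⟨m, hm⟩ := IsPGroup.iff_card.1 P.2
    exact ⟨m, by rwa [hP, Subgroup.card_top] at hm⟩
  by_contra hne
  obtain ⟨M, hM, hPM⟩ := (IsCoatomic.eq_top_or_exists_le_coatom (P : Subgroup Γ)).resolve_left hne
  have hcM : commutator Γ ≤ M :=
    (CfsgLib.Coprime.commutator_le_frattini_of_isNilpotent (G := Γ)).trans (frattini_le_coatom hM)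
  obtain ⟨k, -, hk⟩ := (Nat.dvd_prime_pow Fact.out).1 (h ▸ Subgroup.index_dvd_of_le hcM)
  have hd : M.index ∣ (P : Subgroup Γ).index := Subgroup.index_dvd_of_le hPM
  rcases Nat.eq_zero_or_pos k with rfl | hk0
  · exact hM.1 (Subgroup.index_eq_one.1 (by rw [hk, pow_zero]))
  · exact P.not_dvd_index ((dvd_pow_self p hk0.ne').trans (hk ▸ hd))

theorem comm_of_prime_index (hnil : Group.IsNilpotent Γ) {p : ℕ} (hp : p.Prime)
    (h : (commutator Γ).index = p) : ∀ a b : Γ, a * b = b * a := by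
  haveI := hnil
  obtain ⟨x, -, hx⟩ := SetLike.exists_of_lt (lt_top_iff_ne_top.2 fun e : commutator Γ = ⊤ => hp.ne_one
    (by rw [← h, e, Subgroup.index_top]))
  have hsup : Subgroup.zpowers x ⊔ commutator Γ = ⊤ := by
    have hd : (Subgroup.zpowers x ⊔ commutator Γ).index ∣ p := h ▸ Subgroup.index_dvd_of_le le_sup_right
    rcases hp.eq_one_or_self_of_dvd _ hd with h1 | h1
    · exact Subgroup.index_eq_one.1 h1
    · have he : Subgroup.zpowers x ⊔ commutator Γ = commutator Γ := by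
        refine (Subgroup.eq_of_le_of_card_ge le_sup_right ?_).symm
        have e1 := (commutator Γ).card_mul_index
        have e2 := (Subgroup.zpowers x ⊔ commutator Γ).card_mul_index
        rw [h] at e1
        rw [h1, ← e1] at e2
        exact (Nat.eq_of_mul_eq_mul_right hp.pos e2).le
      exact absurd (he ▸ Subgroup.mem_sup_left (Subgroup.mem_zpowers x)) hx
  have htop : Subgroup.zpowers x = ⊤ := frattini_nongenerating
    (eq_top_iff.2 (hsup ▸ sup_le_sup_left CfsgLib.Coprime.commutator_le_frattini_of_isNilpotent _))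
  intro a b
  obtain ⟨i, rfl⟩ := Subgroup.mem_zpowers_iff.1 (htop ▸ Subgroup.mem_top a)
  obtain ⟨j, rfl⟩ := Subgroup.mem_zpowers_iff.1 (htop ▸ Subgroup.mem_top b)
  exact (Commute.zpow_zpow_self x i j).eq

end Groups

variable {L : Type u} [Group L] [Fintype L] {G : Type v} [Group G] [Fintype G]

/-- A section on which `L/K` acts without fixed points. -/
theorem index_dvd_relIndex_sub_one (K H₁ N : Subgroup L) [K.Normal] [H₁.Normal] [hNn : N.Normal] (hNK : N ≤ K)
    (hab : ∀ x ∈ K, ∀ y ∈ K, x * y * x⁻¹ * y⁻¹ ∈ H₁)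
    (hfrob : ∀ k ∈ K, k ∉ H₁ → ∀ x : L, x * k * x⁻¹ * k⁻¹ ∈ H₁ → x ∈ K) (hH₁K : H₁ ≤ K) :
    K.index ∣ H₁.relIndex N - 1 := by
  classical
  set π := QuotientGroup.mk' H₁ with hπ
  set Nb := N.map π with hNb
  haveI : Nb.Normal := hNn.map π (QuotientGroup.mk'_surjective H₁)
  haveI := Fintype.ofFinite (L ⧸ H₁)
  have hcard : Nat.card Nb = H₁.relIndex N := by
    rw [hNb, ← Subgroup.relIndex_ker, hπ, QuotientGroup.ker_mk']
  rw [← hcard]
  set s := (Finset.univ : Finset (L ⧸ H₁)).filter (fun q => q ∈ Nb ∧ q ≠ 1) with hs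
  have hscard : s.card = Nat.card Nb - 1 := by
    have : insert 1 s = Finset.univ.filter (fun q => q ∈ Nb) := by
      ext q
      by_cases hq : q = 1
      · subst hq; simp [hs, Nb.one_mem]
      · simp [hs, hq]
    rw [Nat.card_eq_fintype_card, Fintype.card_subtype, ← this, Finset.card_insert_of_notMem (by simp [hs])]
    rfl
  rw [← hscard, Finset.card_eq_sum_card_image ConjClasses.mk s]
  refine Finset.dvd_sum fun c hc => ?_
  obtain ⟨q, hq, rfl⟩ := Finset.mem_image.1 hc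
  obtain ⟨hqN, hq1⟩ := (Finset.mem_filter.1 hq).2
  have hcls : s.filter (fun r => ConjClasses.mk r = ConjClasses.mk q) = Finset.univ.filter (fun r => IsConj q r) := by
    ext r
    simp only [Finset.mem_filter, Finset.mem_univ, true_and, ConjClasses.mk_eq_mk_iff_isConj]
    refine ⟨fun h => h.2.symm, fun h => ⟨?_, h.symm⟩⟩
    obtain ⟨y, rfl⟩ := isConj_iff.1 h
    exact Finset.mem_filter.2 ⟨Finset.mem_univ _, ‹Nb.Normal›.conj_mem q hqN y,
      fun e => hq1 (conj_eq_one_iff.1 e)⟩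
  rw [hcls, ← Fintype.card_subtype, ← Nat.card_eq_fintype_card, card_isConj]
  obtain ⟨k, hk, rfl⟩ := hqN
  have hk1 : k ∉ H₁ := fun h => hq1 ((QuotientGroup.eq_one_iff k).2 h)
  have hcent : Subgroup.centralizer ({π k} : Set (L ⧸ H₁)) = K.map π := by
    ext r
    obtain ⟨x, rfl⟩ := QuotientGroup.mk'_surjective H₁ r
    have hiff : ∀ y, π y * π k = π k * π y ↔ y * k * y⁻¹ * k⁻¹ ∈ H₁ := fun y => by
      rw [← commutatorElement_eq_one_iff_mul_comm, ← map_commutatorElement, hπ, QuotientGroup.mk'_apply,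
        QuotientGroup.eq_one_iff]
      rfl
    rw [Subgroup.mem_centralizer_singleton_iff, ← hπ]
    constructor
    · exact fun h => ⟨x, hfrob k (hNK hk) hk1 x ((hiff x).1 h), rfl⟩
    · rintro ⟨y, hy, e⟩
      rw [← e]
      exact (hiff y).2 (hab y hy k (hNK hk))
  rw [hcent, Subgroup.index_map_eq _ (QuotientGroup.mk'_surjective H₁) (by rw [QuotientGroup.ker_mk']; exact hH₁K)]

variable (K : Subgroup L) [K.Normal] (hsolv : Group.IsSolvable K) {τ : (L → ℂ) → (G → ℂ)}
  {R : (L → ℂ) → Finset (G → ℂ)} (hS : IsCoherenceSystem (inducedIrrAbove K ⊥) τ R)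

include hsolv hS

theorem coherent_abelian_section {A : Subgroup L} [A.Normal] (hA : A.relIndex K ≠ 1)
    (hab : ∀ x ∈ K, ∀ y ∈ K, x * y * x⁻¹ * y⁻¹ ∈ A) : IsCoherent (inducedIrrAbove K A) {1}ᶜ τ := by
  refine coherent_constant_degree (cs_mono hS (inducedIrrAbove_mono K bot_le)
    (inducedIrrAbove_nonempty K hsolv hS hA) fun φ h => inducedIrrAbove_conj_mem K A h) ?_
  have key : ∀ φ ∈ inducedIrrAbove K A, φ 1 = (K.index : ℂ) := by
    rintro φ ⟨θ, h1, -, h3, rfl⟩
    haveI := Fintype.ofFinite K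
    obtain ⟨b, hb0, hb⟩ := isIrrCharacter_degree h1
    have h := degree_sq_le_of_central_section ⟨θ, h1⟩ h3 (D := K) (C := K) le_rfl le_rfl hab hb
    rw [Subgroup.relIndex_self, one_pow, one_mul] at h
    have hb1 : b = 1 := by nlinarith
    rw [indFun_one, hb, hb1, Nat.cast_one, mul_one]
  exact fun φ hφ ψ hψ => (key φ hφ).trans (key ψ hψ).symm

/-- Coherence of the kernel characters, up to a small prime power section. -/
theorem coherent_or_small_pgroup (hodd : Odd (Nat.card L)) {M : Subgroup L} [M.Normal] (hMK : M ≤ K)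
    [(M.subgroupOf K).Normal] (hnil : Group.IsNilpotent (↥K ⧸ M.subgroupOf K))
    (hH₁K : ⁅K, K⁆ ⊔ M < K)
    (hfrob : ∀ k ∈ K, k ∉ ⁅K, K⁆ ⊔ M → ∀ x : L, x * k * x⁻¹ * k⁻¹ ∈ ⁅K, K⁆ ⊔ M → x ∈ K) :
    IsCoherent (inducedIrrAbove K M) {1}ᶜ τ ∨
      ((¬ ∃ N : Subgroup L, N.Normal ∧ ⁅K, K⁆ ⊔ M < N ∧ N < K) ∧
        (⁅K, K⁆ ⊔ M).relIndex K ≤ 4 * K.index ^ 2 + 1 ∧ ¬ ⁅K, K⁆ ≤ M ∧
        ∃ p m : ℕ, p.Prime ∧ M.relIndex K = p ^ m ∧ ¬ K.index ∣ p - 1 ∧
          ∃ a, 0 < a ∧ (⁅K, K⁆ ⊔ M).relIndex K = p ^ a ∧ Nat.Coprime K.index p) := by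
  classical
  set H₁ := ⁅K, K⁆ ⊔ M with hH₁
  set e := K.index with he
  have hab : ∀ x ∈ K, ∀ y ∈ K, x * y * x⁻¹ * y⁻¹ ∈ H₁ := fun x hx y hy =>
    Subgroup.mem_sup_left (Subgroup.commutator_mem_commutator hx hy)
  have hr1 : H₁.relIndex K ≠ 1 := relIndex_ne_one_of_lt K hH₁K
  have hr0 : H₁.relIndex K ≠ 0 := Subgroup.index_ne_zero_of_finite
  have hcohH : IsCoherent (inducedIrrAbove K H₁) {1}ᶜ τ := coherent_abelian_section K hsolv hS hr1 hab
  have he1 : Odd e := hodd.of_dvd_nat (Subgroup.index_dvd_card K)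
  have hKodd : Odd (Nat.card K) := hodd.of_dvd_nat (Subgroup.card_subgroup_dvd_card K)
  have hge : ∀ n : ℕ, Odd n → n ≠ 1 → e ∣ n - 1 → 2 * e + 1 ≤ n := by
    rintro n hn hn1 ⟨t, ht⟩
    obtain ⟨u, hu⟩ := hn
    obtain ⟨w, hw⟩ := he1
    have htt : t ≠ 0 := fun h => by subst h; omega
    have : t ≠ 1 := fun h => by subst h; omega
    have : e * 2 ≤ e * t := Nat.mul_le_mul_left _ (by omega)
    omega
  by_cases hbig : 4 * e ^ 2 + 1 < H₁.relIndex K
  · exact Or.inl (coherent_nilpotent_section K hsolv hS le_sup_right hH₁K.le le_rfl hnil hcohH hbig)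
  by_cases hKM : ⁅K, K⁆ ≤ M
  · left
    rwa [show H₁ = M from sup_eq_right.2 hKM] at hcohH
  have hdvdK := index_dvd_relIndex_sub_one K H₁ K le_rfl hab hfrob hH₁K.le
  have hnoN : ¬ ∃ N : Subgroup L, N.Normal ∧ H₁ < N ∧ N < K := by
    rintro ⟨N, hN, hHN, hNK⟩
    have h1 := index_dvd_relIndex_sub_one K H₁ N hNK.le hab hfrob hH₁K.le
    have hmul : H₁.relIndex N * N.relIndex K = H₁.relIndex K :=
      Subgroup.relIndex_mul_relIndex _ _ _ hHN.le hNK.le
    have hodd1 : Odd (H₁.relIndex N) := hodd.of_dvd_nat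
      ((Subgroup.relIndex_dvd_card _ _).trans (Subgroup.card_subgroup_dvd_card _))
    have hodd2 : Odd (N.relIndex K) := hKodd.of_dvd_nat (Subgroup.relIndex_dvd_card _ _)
    obtain ⟨t, ht⟩ := h1
    obtain ⟨t', ht'⟩ := hdvdK
    have h2 : e ∣ N.relIndex K - 1 := by
      have hx : H₁.relIndex N = e * t + 1 := by
        have : 0 < H₁.relIndex N := hodd1.pos
        rw [← he] at ht; omega
      have hy : H₁.relIndex K = e * t' + 1 := by rw [← he] at ht'; omega
      rw [hx, hy] at hmul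
      have hpos : 0 < N.relIndex K := hodd2.pos
      refine (Nat.dvd_add_right (Dvd.intro (t * N.relIndex K) rfl : e ∣ e * (t * N.relIndex K))).1 ?_
      have : e * (t * N.relIndex K) + (N.relIndex K - 1) = e * t' := by
        rw [add_mul, one_mul, mul_assoc] at hmul
        omega
      rw [this]
      exact Dvd.intro t' rfl
    have hA := hge _ hodd1 (relIndex_ne_one_of_lt N hHN) (Dvd.intro t ht.symm)
    have hB := hge _ hodd2 (relIndex_ne_one_of_lt K hNK) h2
    have : (2 * e + 1) * (2 * e + 1) ≤ H₁.relIndex K := hmul ▸ Nat.mul_le_mul hA hB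
    have : 0 < e := he1.pos
    nlinarith
  -- the abelian section is a power of one prime
  set h := H₁.relIndex K with hh
  set p := h.minFac with hp_
  haveI hp : Fact p.Prime := ⟨Nat.minFac_prime hr1⟩
  set a := h.factorization p with ha_
  have hpa : h = p ^ a := by
    by_contra hne
    refine hnoN ?_
    let π := QuotientGroup.mk' H₁
    have hcomm : ∀ x ∈ K.map π, ∀ y ∈ K.map π, x * y = y * x := by
      rintro _ ⟨x, hx, rfl⟩ _ ⟨y, hy, rfl⟩
      rw [← commutatorElement_eq_one_iff_mul_comm, ← map_commutatorElement]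
      exact (QuotientGroup.eq_one_iff _).2 (hab x hx y hy)
    haveI : (K.map π).Normal := ‹K.Normal›.map π (QuotientGroup.mk'_surjective H₁)
    let P : Subgroup (L ⧸ H₁) :=
      { carrier := {q | q ∈ K.map π ∧ q ^ p ^ a = 1}
        one_mem' := ⟨one_mem _, one_pow _⟩
        mul_mem' := fun {x y} hx hy => ⟨mul_mem hx.1 hy.1, by
          rw [(show Commute x y from hcomm x hx.1 y hy.1).mul_pow, hx.2, hy.2, one_mul]⟩
        inv_mem' := fun {x} hx => ⟨inv_mem hx.1, by rw [inv_pow, hx.2, inv_one]⟩ }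
    haveI : P.Normal := ⟨fun x hx g => ⟨‹(K.map π).Normal›.conj_mem x hx.1 g, by
      rw [conj_pow, hx.2]; group⟩⟩
    have hKc : Nat.card (K.map π) = h := by
      rw [← Subgroup.relIndex_ker, QuotientGroup.ker_mk']
    refine ⟨P.comap π, inferInstance, lt_of_le_of_ne (fun x hx => ?_) fun e' => ?_,
      lt_of_le_of_ne (fun x hx => ?_) fun e' => ?_⟩
    · have : π x = 1 := (QuotientGroup.eq_one_iff x).2 hx
      show π x ∈ P
      rw [this]; exact one_mem _
    · obtain ⟨u, hyo⟩ := exists_prime_orderOf_dvd_card' (G := K.map π) p (hKc ▸ Nat.minFac_dvd h)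
      rw [← Subgroup.orderOf_coe] at hyo
      obtain ⟨x, hx, hxy⟩ := u.2
      have hmem : π x ∈ P := ⟨⟨x, hx, rfl⟩, by
        rw [hxy]
        refine orderOf_dvd_iff_pow_eq_one.1 ?_
        rw [hyo]
        exact dvd_pow_self p (hp.out.factorization_pos_of_dvd hr0 (Nat.minFac_dvd h)).ne'⟩
      have hx1 : π x = 1 := (QuotientGroup.eq_one_iff x).2 (show x ∈ H₁ by rw [e']; exact hmem)
      rw [hxy] at hx1
      rw [hx1, orderOf_one] at hyo
      exact hp.out.ne_one hyo.symm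
    · obtain ⟨z, hz, hzx⟩ := hx.1
      have : z⁻¹ * x ∈ H₁ := QuotientGroup.eq.1 hzx
      simpa using K.mul_mem hz (hH₁K.le this)
    · obtain ⟨r, hr, hrd⟩ : ∃ r, r.Prime ∧ r ∣ h / p ^ a := Nat.exists_prime_and_dvd fun h1 => hne (by
        rw [← Nat.ordProj_mul_ordCompl_eq_self h p, h1, mul_one])
      haveI := Fact.mk hr
      obtain ⟨u, hyo⟩ := exists_prime_orderOf_dvd_card' (G := K.map π) r
        (hKc ▸ hrd.trans (Nat.ordCompl_dvd h p))
      rw [← Subgroup.orderOf_coe] at hyo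
      obtain ⟨x, hx, hxy⟩ := u.2
      rw [← hxy] at hyo
      have hxP : x ∈ P.comap π := by rw [e']; exact hx
      have hdvd : r ∣ p ^ a := hyo ▸ orderOf_dvd_of_pow_eq_one hxP.2
      obtain rfl := (Nat.prime_dvd_prime_iff_eq hr hp.out).1 (hr.dvd_of_dvd_pow hdvd)
      exact Nat.not_dvd_ordCompl hp.out hr0 hrd
  have ha0 : 0 < a := Nat.pos_of_ne_zero fun h0 => hr1 (by rw [hpa, h0, pow_zero])
  have hcom : (commutator (↥K ⧸ M.subgroupOf K)).index = h := by
    have hmap : commutator (↥K ⧸ M.subgroupOf K) = (commutator K).map (QuotientGroup.mk' (M.subgroupOf K)) := by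
      rw [commutator_def, commutator_def, Subgroup.map_commutator,
        Subgroup.map_top_of_surjective _ (QuotientGroup.mk'_surjective _)]
    have hcK : commutator K = ⁅K, K⁆.subgroupOf K := by
      apply Subgroup.map_injective K.subtype_injective
      rw [commutator_def, Subgroup.map_commutator, ← MonoidHom.range_eq_map, K.range_subtype,
        Subgroup.subgroupOf_map_subtype, inf_eq_left.2 (Subgroup.commutator_le_self K)]
    rw [hmap, Subgroup.index_map, MonoidHom.range_eq_top.2 (QuotientGroup.mk'_surjective _),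
      Subgroup.index_top, mul_one, QuotientGroup.ker_mk', hcK,
      ← Subgroup.subgroupOf_sup (Subgroup.commutator_le_self K) hMK]
    rfl
  obtain ⟨m, hm⟩ := eq_top_of_pow_index hnil (hcom.trans hpa)
  have hm' : M.relIndex K = p ^ m := by
    rw [Subgroup.relIndex, Subgroup.index_eq_card]
    exact hm
  have hcop : Nat.Coprime e p := by
    refine (Nat.Prime.coprime_iff_not_dvd hp.out).2 (fun hpe => ?_) |>.symm
    have h1 : p ∣ h - 1 := hpe.trans hdvdK
    have h2 : p ∣ h := Nat.minFac_dvd h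
    have : p ∣ 1 := by
      have := Nat.dvd_sub h2 h1
      rwa [show h - (h - 1) = 1 by omega] at this
    exact hp.out.ne_one (Nat.dvd_one.1 this)
  refine Or.inr ⟨hnoN, not_lt.1 hbig, hKM, p, m, hp.out, hm', fun hep => ?_, a, ha0, hpa, hcop⟩
  have hpodd : Odd p := hKodd.of_dvd_nat ((Nat.minFac_dvd h).trans (Subgroup.relIndex_dvd_card _ _))
  have hp2 := hge p hpodd hp.out.ne_one hep
  rcases (show a = 1 ∨ 2 ≤ a by omega) with ha1 | ha2
  · apply hKM
    rw [ha1, pow_one] at hpa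
    have hc := comm_of_prime_index hnil hp.out (hcom.trans hpa)
    refine Subgroup.commutator_le.2 fun x hx y hy => ?_
    have := (commutatorElement_eq_one_iff_mul_comm.2
      (hc (QuotientGroup.mk' (M.subgroupOf K) ⟨x, hx⟩) (QuotientGroup.mk' (M.subgroupOf K) ⟨y, hy⟩)))
    rw [← map_commutatorElement] at this
    exact (QuotientGroup.eq_one_iff (N := M.subgroupOf K) _).1 this
  · apply hbig
    calc 4 * e ^ 2 + 1 < (2 * e + 1) ^ 2 := by have : 0 < e := he1.pos; nlinarith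
      _ ≤ p ^ 2 := Nat.pow_le_pow_left hp2 2
      _ ≤ p ^ a := Nat.pow_le_pow_right hp.out.pos ha2
      _ = h := hpa.symm

/-- The criterion for coherence of the kernel characters. -/
theorem coherent_kernel_of_good (hodd : Odd (Nat.card L)) {M : Subgroup L} [M.Normal] (hMK : M ≤ K)
    [(M.subgroupOf K).Normal] (hnil : Group.IsNilpotent (↥K ⧸ M.subgroupOf K))
    (hH₁K : ⁅K, K⁆ ⊔ M < K)
    (hfrob : ∀ k ∈ K, k ∉ ⁅K, K⁆ ⊔ M → ∀ x : L, x * k * x⁻¹ * k⁻¹ ∈ ⁅K, K⁆ ⊔ M → x ∈ K)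
    (hgood : (∃ N : Subgroup L, N.Normal ∧ ⁅K, K⁆ ⊔ M < N ∧ N < K) ∨
      4 * K.index ^ 2 + 1 < (⁅K, K⁆ ⊔ M).relIndex K ∨
      (¬ ∃ p m : ℕ, p.Prime ∧ M.relIndex K = p ^ m) ∨ ⁅K, K⁆ ≤ M ∨
      (∃ p m : ℕ, p.Prime ∧ M.relIndex K = p ^ m ∧ K.index ∣ p - 1)) :
    IsCoherent (inducedIrrAbove K M) {1}ᶜ τ := by
  rcases coherent_or_small_pgroup K hsolv hS hodd hMK hnil hH₁K hfrob with h |
    ⟨hN, hsmall, hKM, p, m, hp, hm, hnd, a, ha, hpa, -⟩
  · exact h
  rcases hgood with h | h | h | h | ⟨q, n, hq, hn, hd⟩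
  · exact absurd h hN
  · omega
  · exact absurd ⟨p, m, hp, hm⟩ h
  · exact absurd h hKM
  · exfalso
    apply hnd
    rcases Nat.eq_zero_or_pos m with rfl | hm0
    · rw [pow_zero] at hm
      exact absurd (Subgroup.relIndex_eq_one.1 hm) fun hle => hH₁K.not_ge (hle.trans le_sup_right)
    · have : p ∣ q ^ n := hn ▸ hm ▸ dvd_pow_self p hm0.ne'
      rwa [(Nat.prime_dvd_prime_iff_eq hp hq).1 (hp.dvd_of_dvd_pow this)]

end CfsgLib.Char
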