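import Mathlib
import Cfsg.Agent.Lib.Char.CoherenceKernel

/-!
# Coherence of the characters that are non-trivial on a central subgroup
-/

set_option autoImplicit false
set_option linter.unusedSectionVars false
set_option linter.style.haveILetI false

namespace CfsgLib.Char

open scoped ComplexConjugate commutatorElement
open Cfsg

universe u v

variable {L : Type u} [Group L] [Fintype L] {G : Type v} [Group G] [Fintype G]
  (K : Subgroup L) [K.Normal]

theorem classInner_restrict_indFun_self_ne_zero [Fintype K] {θ : K → ℂ} (hθ : IsIrrCharacter K θ) :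
    classInner (fun n : K => indFun K θ n) θ ≠ 0 := by
  rw [classInner_restrict_indFun K hθ hθ]
  refine mul_ne_zero (inv_ne_zero card_ne_zero') (Nat.cast_ne_zero.2 ?_)
  haveI : Nonempty {x : L // conjFun K θ x = θ} := ⟨⟨1, conjFun_one K _⟩⟩
  exact Nat.card_pos.ne'

/-- An induced character trivial on a normal subgroup comes from a character trivial on it. -/
theorem mem_inducedIrrAbove_of_trivial {Z : Subgroup L} {θ : K → ℂ} (hθ : IsIrrCharacter K θ)
    (hθ1 : θ ≠ fun _ => 1) (h : ∀ z ∈ Z, z ∈ K → indFun K θ z = indFun K θ 1) :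
    indFun K θ ∈ inducedIrrAbove K Z := by
  haveI := Fintype.ofFinite K
  refine ⟨θ, hθ, hθ1, fun a ha => ?_, rfl⟩
  exact constituent_kernel (isCharacter_comp (isCharacter_indFun K (isCharacter_of_isIrr hθ)) K.subtype)
    ⟨θ, hθ⟩ (classInner_restrict_indFun_self_ne_zero K hθ) (g := a) (by
      show indFun K θ (a : L) = indFun K θ ((1 : K) : L)
      rw [OneMemClass.coe_one]; exact h _ ha a.2)

/-- Induced characters of a character trivial on a normal subgroup are trivial on it. -/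
theorem trivial_of_mem_inducedIrrAbove {Z : Subgroup L} [Z.Normal] (hZK : Z ≤ K) {φ : L → ℂ}
    (hφ : φ ∈ inducedIrrAbove K Z) {z : L} (hz : z ∈ Z) : φ z = φ 1 := by
  obtain ⟨θ, h1, -, h3, rfl⟩ := hφ
  haveI := Fintype.ofFinite K
  simp only [indFun]
  congr 1
  refine Finset.sum_congr rfl fun y _ => ?_
  have hm : y⁻¹ * z * y ∈ Z := by simpa using ‹Z.Normal›.conj_mem z hz y⁻¹
  rw [extendByZero_mem _ _ (hZK hm), h3 _ hm, extendByZero_mem _ _ (by simp [K.one_mem])]
  exact congrArg θ (Subtype.ext (by simp))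

/-- The induced characters that are non-trivial on `Z` are exactly the irreducible ones doing so. -/
theorem diff_inducedIrrAbove_eq {Z : Subgroup L} [Z.Normal] (hZK : Z ≤ K)
    (hirr : ∀ χ ∈ inducedIrrAbove K ⊥ \ inducedIrrAbove K Z, IsIrrCharacter L χ) :
    inducedIrrAbove K ⊥ \ inducedIrrAbove K Z =
      {χ | IsIrrCharacter L χ ∧ ∃ z ∈ Z, χ z ≠ χ 1} := by
  classical
  haveI := Fintype.ofFinite K
  haveI := Fintype.ofFinite (IrrCharacter K)
  ext χ
  constructor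
  · intro hχ
    refine ⟨hirr χ hχ, ?_⟩
    by_contra! hall
    obtain ⟨θ, h1, h2, -, rfl⟩ := hχ.1
    exact hχ.2 (mem_inducedIrrAbove_of_trivial K h1 h2 fun z hz _ => hall z hz)
  · rintro ⟨hχ, z, hz, hne⟩
    have hres : IsCharacter K (fun k : K => χ k) := isCharacter_comp (isCharacter_of_isIrr hχ) K.subtype
    obtain ⟨θ, hθ, hθz⟩ : ∃ θ : IrrCharacter K, classInner (fun k : K => χ k) (θ : K → ℂ) ≠ 0 ∧
        (θ : K → ℂ) ⟨z, hZK hz⟩ ≠ (θ : K → ℂ) 1 := by
      by_contra! hall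
      have h := classFun_expand (isClassFunction_of_isCharacter hres)
      apply hne
      have h1 := congrFun h ⟨z, hZK hz⟩
      have h2 := congrFun h 1
      simp only [Finset.sum_apply, Pi.smul_apply, smul_eq_mul, OneMemClass.coe_one] at h1 h2
      rw [h1, h2]
      refine Finset.sum_congr rfl fun θ _ => ?_
      by_cases h0 : classInner (fun k : K => χ k) (θ : K → ℂ) = 0
      · rw [h0, zero_mul, zero_mul]
      · rw [hall θ h0]
    have hθ1 : (θ : K → ℂ) ≠ fun _ => 1 := fun e => hθz (by rw [e])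
    have hnot : indFun K (θ : K → ℂ) ∉ inducedIrrAbove K Z := fun hmem =>
      hθz (constituent_kernel (isCharacter_comp (isCharacter_indFun K (isCharacter_irr θ)) K.subtype) θ
        (classInner_restrict_indFun_self_ne_zero K θ.2) (g := ⟨z, hZK hz⟩) (by
          show indFun K (θ : K → ℂ) z = indFun K (θ : K → ℂ) ((1 : K) : L)
          rw [OneMemClass.coe_one]; exact trivial_of_mem_inducedIrrAbove K hZK hmem hz))
    have hmem : indFun K (θ : K → ℂ) ∈ inducedIrrAbove K ⊥ \ inducedIrrAbove K Z :=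
      ⟨⟨θ, θ.2, hθ1, fun a ha => by rw [show a = 1 from Subtype.ext (Subgroup.mem_bot.1 ha)], rfl⟩, hnot⟩
    have hinner : classInner (indFun K (θ : K → ℂ)) χ ≠ 0 := by
      rw [classInner_indFun K _ _ (isClassFunction_of_isCharacter (isCharacter_of_isIrr hχ)), ← classInner_conj]
      exact fun h => hθ (by simpa using h)
    have := congrArg Subtype.val
      (irr_eq_of_inner_ne_zero (χ := ⟨_, hirr _ hmem⟩) (ψ := ⟨χ, hχ⟩) hinner)
    rw [← show indFun K (θ : K → ℂ) = χ from this]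
    exact hmem

variable (hsolv : Group.IsSolvable K) {τ : (L → ℂ) → (G → ℂ)}
  {R : (L → ℂ) → Finset (G → ℂ)} (hS : IsCoherenceSystem (inducedIrrAbove K ⊥) τ R)

include hsolv hS

/-- The `p`-group case of the coherence of the characters non-trivial on a central subgroup. -/
theorem coherent_central_pgroup (hodd : Odd (Nat.card L)) {p m : ℕ} (hp : p.Prime) (hm : Nat.card K = p ^ m)
    (hcop : Nat.Coprime K.index p) {Z : Subgroup L} [Z.Normal] (hZ1 : Z ≠ ⊥) (hZK : Z ≤ K)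
    (hZc : ∀ z ∈ Z, ∀ k ∈ K, z * k = k * z)
    (hirr : ∀ χ ∈ inducedIrrAbove K ⊥ \ inducedIrrAbove K Z, IsIrrCharacter L χ) :
    IsCoherent (inducedIrrAbove K ⊥ \ inducedIrrAbove K Z) {1}ᶜ τ := by
  classical
  haveI := Fintype.ofFinite K
  set S := inducedIrrAbove K (⊥ : Subgroup L) with hSdef
  set SZ := inducedIrrAbove K Z with hSZ
  set e := K.index with he
  have hfin : S.Finite := cs_finite hS
  have hZsub : SZ ⊆ S := inducedIrrAbove_mono K bot_le
  set s := hfin.toFinset with hs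
  set t := (hfin.subset hZsub).toFinset with ht
  set X := s \ t with hX
  have hXset : (X : Set (L → ℂ)) = S \ SZ := by
    rw [hX, Finset.coe_sdiff, Set.Finite.coe_toFinset, Set.Finite.coe_toFinset]
  have hXmem : ∀ φ, φ ∈ X ↔ φ ∈ S \ SZ := fun φ => by rw [← hXset, Finset.mem_coe]
  have hXconj : ∀ φ ∈ X, Cfsg.conjFun φ ∈ X := fun φ hφ => (hXmem _).2
    ⟨inducedIrrAbove_conj_mem K ⊥ ((hXmem φ).1 hφ).1, fun h => ((hXmem φ).1 hφ).2
      (cs_conj_conj φ ▸ inducedIrrAbove_conj_mem K Z h)⟩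
  have hp3 : 3 ≤ p ∨ m = 0 := by
    rcases Nat.eq_zero_or_pos m with h | h
    · exact Or.inr h
    · left
      have hpo : Odd p := hodd.of_dvd_nat
        ((dvd_pow_self p h.ne').trans (hm ▸ Subgroup.card_subgroup_dvd_card K))
      have := hp.two_le
      obtain ⟨u, hu⟩ := hpo
      omega
  -- degrees
  have hdeg : ∀ φ, ∃ i : ℕ, φ ∈ X → φ 1 = ((e * p ^ i : ℕ) : ℂ) ∧ p ^ (2 * i) ∣ Z.relIndex K := by
    intro φ
    by_cases hφ : φ ∈ X
    · obtain ⟨θ, h1, -, -, rfl⟩ := ((hXmem φ).1 hφ).1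
      obtain ⟨b, hb0, hb⟩ := isIrrCharacter_degree h1
      have hbdvd : b ∣ p ^ m := hm ▸ degree_dvd_card ⟨θ, h1⟩ hb
      obtain ⟨i, -, rfl⟩ := (Nat.dvd_prime_pow hp).1 hbdvd
      refine ⟨i, fun _ => ⟨by rw [indFun_one, hb, Nat.cast_mul], ?_⟩⟩
      have h := degree_sq_le_of_central_section (B := ⊥) (C := K) (D := Z) ⟨θ, h1⟩
        (fun a ha => by rw [show a = 1 from Subtype.ext (Subgroup.mem_bot.1 ha)]) hZK le_rfl
        (fun x hx y hy => by rw [Subgroup.mem_bot, ← commutatorElement_def, commutatorElement_eq_one_iff_mul_comm]; exact hZc x hx y hy)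
        hb
      rw [Subgroup.relIndex_self, one_pow, one_mul, ← pow_mul] at h
      obtain ⟨j, -, hj⟩ := (Nat.dvd_prime_pow hp).1 (hm ▸ Subgroup.relIndex_dvd_card Z K)
      rw [hj] at h ⊢
      rw [mul_comm i 2] at h
      exact pow_dvd_pow p ((Nat.pow_le_pow_iff_right hp.one_lt).1 h)
    · exact ⟨0, fun h => absurd h hφ⟩
  choose ex hex using hdeg
  set d : (L → ℂ) → ℕ := fun φ => if φ ∈ X then e * p ^ ex φ else 0 with hd_
  have hdX : ∀ φ ∈ X, d φ = e * p ^ ex φ := fun φ h => if_pos h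
  have hd : ∀ φ ∈ X, φ 1 = (d φ : ℂ) := fun φ h => by rw [hdX φ h]; exact (hex φ h).1
  have he0 : 0 < e := Nat.pos_of_ne_zero Subgroup.index_ne_zero_of_finite
  -- the total weight
  have htotal : ∑ φ ∈ X, d φ ^ 2 = e * Z.relIndex K * (Nat.card Z - 1) := by
    apply Nat.cast_injective (R := ℂ)
    have h1 : ∑ φ ∈ X, φ 1 ^ 2 / classInner φ φ = ∑ φ ∈ X, ((d φ : ℂ) ^ 2) :=
      Finset.sum_congr rfl fun φ hφ => by
        rw [show classInner φ φ = 1 from classInner_irr_self ⟨φ, hirr φ ((hXmem φ).1 hφ)⟩, div_one, hd φ hφ]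
    have h2 := sum_sq_inducedIrrAbove K (⊥ : Subgroup L) s hfin.coe_toFinset
    have h3 := sum_sq_inducedIrrAbove K Z t (hfin.subset hZsub).coe_toFinset
    rw [← Finset.sum_sdiff (show t ⊆ s by
      intro x hx; exact hfin.mem_toFinset.2 (hZsub ((hfin.subset hZsub).mem_toFinset.1 hx))), h3,
      h1, Subgroup.relIndex_bot_left] at h2
    have hc : Z.relIndex K * Nat.card Z = Nat.card K := by
      rw [← Subgroup.relIndex_bot_left Z, mul_comm, Subgroup.relIndex_mul_relIndex _ _ _ bot_le hZK,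
        Subgroup.relIndex_bot_left]
    rw [← hc] at h2
    push_cast [Nat.cast_sub (show 1 ≤ Nat.card Z from Nat.card_pos)] at h2 ⊢
    linear_combination h2
  have hXne : X.Nonempty := by
    by_contra h
    rw [Finset.not_nonempty_iff_eq_empty] at h
    rw [h, Finset.sum_empty] at htotal
    have hz : 1 < Nat.card Z := (Subgroup.one_lt_card_iff_ne_bot Z).2 hZ1
    have hr : 0 < Z.relIndex K := Nat.pos_of_ne_zero Subgroup.index_ne_zero_of_finite
    have := Nat.mul_pos (Nat.mul_pos he0 hr) (Nat.sub_pos_of_lt hz)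
    omega
  obtain ⟨χ₀, hχ₀, hmin⟩ := Finset.exists_min_image X ex hXne
  have hsub : (X : Set (L → ℂ)) ⊆ S := fun φ h => ((hXmem φ).1 h).1
  have hSX : IsCoherenceSystem (X : Set (L → ℂ)) τ R := cs_mono hS hsub ⟨χ₀, hχ₀⟩ hXconj
  have hexc : ∀ φ ∈ X, ex (Cfsg.conjFun φ) = ex φ := fun φ hφ => by
    have h := cs_conj_one hSX (φ := φ) hφ
    rw [hd _ (hXconj φ hφ), hd φ hφ, Nat.cast_inj, hdX _ (hXconj φ hφ), hdX φ hφ] at h
    exact Nat.pow_right_injective hp.two_le (Nat.eq_of_mul_eq_mul_left he0 h)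
  have hblock : ∀ i, ex χ₀ ≤ i →
      IsCoherent (↑(X.filter fun φ => ex φ ≤ i) : Set (L → ℂ)) {1}ᶜ τ := by
    intro i hi
    induction i, hi using Nat.le_induction with
    | base =>
      refine coherent_constant_degree (cs_mono hSX (Finset.coe_subset.2 (Finset.filter_subset _ _)) ⟨χ₀, by simp [hχ₀]⟩ fun φ hφ => ?_) ?_
      · simp only [Finset.coe_filter, Set.mem_ofPred_eq] at hφ ⊢
        exact ⟨hXconj φ hφ.1, by rw [hexc φ hφ.1]; exact hφ.2⟩
      · intro φ hφ ψ hψ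
        simp only [Finset.coe_filter, Set.mem_ofPred_eq] at hφ hψ
        rw [hd φ hφ.1, hd ψ hψ.1, hdX φ hφ.1, hdX ψ hψ.1, le_antisymm hφ.2 (hmin φ hφ.1),
          le_antisymm hψ.2 (hmin ψ hψ.1)]
    | succ i hi ih =>
      set S₁ := X.filter fun φ => ex φ ≤ i with hS₁
      set T := X.filter fun φ => ex φ = i + 1 with hT
      by_cases hTe : T = ∅
      · rwa [show X.filter (fun φ => ex φ ≤ i + 1) = S₁ from Finset.filter_congr fun φ hφ => by
          refine ⟨fun h => ?_, fun h => by omega⟩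
          by_contra h'
          exact Finset.notMem_empty φ (hTe ▸ Finset.mem_filter.2 ⟨hφ, by omega⟩)]
      obtain ⟨χ, hχ⟩ := Finset.nonempty_iff_ne_empty.2 hTe
      obtain ⟨hχX, hχi⟩ := Finset.mem_filter.1 hχ
      have hm0 : m ≠ 0 := by
        intro h0
        have h1 := (hex χ hχX).2
        have h2 := Subgroup.relIndex_dvd_card Z K
        rw [hm, h0, pow_zero, Nat.dvd_one] at h2
        rw [h2, hχi, Nat.dvd_one, Nat.pow_eq_one] at h1
        rcases h1 with h1 | h1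
        · exact hp.ne_one h1
        · omega
      have hp3' : 3 ≤ p := hp3.resolve_right hm0
      have hdvd : p ^ (2 * (i + 1)) ∣ ∑ φ ∈ S₁, d φ ^ 2 := by
        have hall : p ^ (2 * (i + 1)) ∣ ∑ φ ∈ X, d φ ^ 2 := by
          rw [htotal, mul_comm e, mul_assoc]
          exact Dvd.dvd.mul_right (hχi ▸ (hex χ hχX).2) _
        have hrest : p ^ (2 * (i + 1)) ∣ ∑ φ ∈ X.filter (fun φ => ¬ ex φ ≤ i), d φ ^ 2 :=
          Finset.dvd_sum fun φ hφ => by
            obtain ⟨hφX, hφi⟩ := Finset.mem_filter.1 hφ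
            rw [hdX φ hφX, mul_pow, ← pow_mul]
            exact Dvd.dvd.mul_left (pow_dvd_pow p (by omega)) _
        rw [← Finset.sum_filter_add_sum_filter_not X (fun φ => ex φ ≤ i)] at hall
        exact (Nat.dvd_add_left hrest).1 hall
      have hdvde : e ^ 2 ∣ ∑ φ ∈ S₁, d φ ^ 2 := Finset.dvd_sum fun φ hφ => by
        rw [hdX φ (Finset.mem_filter.1 hφ).1, mul_pow]
        exact dvd_mul_right _ _
      have hχ₀S : χ₀ ∈ S₁ := Finset.mem_filter.2 ⟨hχ₀, hi⟩
      have hbig : e ^ 2 * p ^ (2 * (i + 1)) ≤ ∑ φ ∈ S₁, d φ ^ 2 := by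
        refine Nat.le_of_dvd ?_ ((Nat.Coprime.pow 2 _ hcop).mul_dvd_of_dvd_of_dvd hdvde hdvd)
        refine lt_of_lt_of_le ?_ (Finset.single_le_sum (fun φ _ => Nat.zero_le _) hχ₀S)
        rw [hdX χ₀ hχ₀]
        have : 0 < p := hp.pos
        positivity
      obtain ⟨S₂, h12, hT2, h2S, -, h5⟩ := coherent_adjoin hSX d hd S₁
        (Finset.coe_subset.2 (Finset.filter_subset _ _))
        (fun φ hφ => by
          obtain ⟨h1, h2⟩ := Finset.mem_filter.1 hφ
          exact Finset.mem_filter.2 ⟨hXconj φ h1, by rw [hexc φ h1]; exact h2⟩)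
        ih hχ₀S T (Finset.coe_subset.2 (Finset.filter_subset _ _))
        (fun φ hφ => by
          obtain ⟨hφX, hφi⟩ := Finset.mem_filter.1 hφ
          rw [hdX φ hφX, hdX χ₀ hχ₀]
          exact Nat.mul_dvd_mul_left e (pow_dvd_pow p (hmin φ hφX)))
        (fun φ hφ => by
          obtain ⟨hφX, hφi⟩ := Finset.mem_filter.1 hφ
          rw [Finset.sum_congr rfl (g := fun ξ => ((d ξ ^ 2 : ℕ) : ℝ)) fun ξ hξ => by
            have hξX := (Finset.mem_filter.1 hξ).1
            rw [show classInner ξ ξ = 1 from classInner_irr_self ⟨ξ, hirr ξ ((hXmem ξ).1 hξX)⟩, div_one,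
              hd ξ hξX, ← Nat.cast_pow, Complex.natCast_re], ← Nat.cast_sum]
          refine lt_of_lt_of_le (b := ((e ^ 2 * p ^ (2 * (i + 1)) : ℕ) : ℝ)) ?_ (Nat.cast_le.2 hbig)
          rw [hdX φ hφX, hdX χ₀ hχ₀, hφi]
          obtain ⟨r, hr⟩ := Nat.exists_eq_add_of_le (show ex χ₀ + 1 ≤ i + 1 by omega)
          have hlt : 2 * (e * p ^ (i + 1)) * (e * p ^ ex χ₀) < e ^ 2 * p ^ (2 * (i + 1)) := by
            rw [hr]
            have h1 : 0 < e ^ 2 * p ^ (2 * ex χ₀ + 1 + r) := by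
              have : 0 < p := hp.pos
              positivity
            have h2 : 2 < p ^ (1 + r) := lt_of_lt_of_le (by omega) (Nat.le_self_pow (by omega) p)
            calc 2 * (e * p ^ (ex χ₀ + 1 + r)) * (e * p ^ ex χ₀)
                = e ^ 2 * p ^ (2 * ex χ₀ + 1 + r) * 2 := by ring
              _ < e ^ 2 * p ^ (2 * ex χ₀ + 1 + r) * p ^ (1 + r) := Nat.mul_lt_mul_of_pos_left h2 h1
              _ = e ^ 2 * p ^ (2 * (ex χ₀ + 1 + r)) := by ring
          calc (2 * ((e * p ^ (i + 1) : ℕ) : ℝ) * ((e * p ^ ex χ₀ : ℕ) : ℝ))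
              = ((2 * (e * p ^ (i + 1)) * (e * p ^ ex χ₀) : ℕ) : ℝ) := by push_cast; ring
            _ < _ := Nat.cast_lt.2 hlt)
      refine coherent_mono hSX h5 (fun φ hφ => ?_) (Finset.coe_subset.2 (Finset.filter_subset _ _))
        ⟨χ₀, by simp only [Finset.coe_filter, Set.mem_ofPred_eq]; exact ⟨hχ₀, by omega⟩⟩ fun φ hφ => ?_
      · obtain ⟨h1, h2⟩ := Finset.mem_filter.1 hφ
        rcases Nat.lt_or_ge i (ex φ) with h' | h'
        · exact hT2 (Finset.mem_filter.2 ⟨h1, by omega⟩)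
        · exact h12 (Finset.mem_filter.2 ⟨h1, h'⟩)
      · obtain ⟨h1, h2⟩ := Finset.mem_filter.1 hφ
        exact Finset.mem_filter.2 ⟨hXconj φ h1, by rw [hexc φ h1]; exact h2⟩
  obtain ⟨N, hN⟩ : ∃ N, ∀ φ ∈ X, ex φ ≤ N := ⟨X.sup ex, fun φ h => Finset.le_sup h⟩
  have := hblock N (hN χ₀ hχ₀)
  rwa [Finset.filter_true_of_mem hN, hXset] at this

/-- The characters non-trivial on a central subgroup are coherent. -/
theorem coherent_central (hodd : Odd (Nat.card L)) (hnil : Group.IsNilpotent K) (hH₁K : ⁅K, K⁆ < K)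
    (hfrob : ∀ k ∈ K, k ∉ ⁅K, K⁆ → ∀ x : L, x * k * x⁻¹ * k⁻¹ ∈ ⁅K, K⁆ → x ∈ K)
    {Z : Subgroup L} [Z.Normal] (hZ1 : Z ≠ ⊥) (hZK : Z ≤ K) (hZc : ∀ z ∈ Z, ∀ k ∈ K, z * k = k * z)
    (hirr : ∀ χ ∈ inducedIrrAbove K ⊥ \ inducedIrrAbove K Z, IsIrrCharacter L χ) :
    IsCoherent (inducedIrrAbove K ⊥ \ inducedIrrAbove K Z) {1}ᶜ τ := by
  haveI := Fintype.ofFinite K
  haveI := hnil
  haveI : ((⊥ : Subgroup L).subgroupOf K).Normal := by rw [Subgroup.bot_subgroupOf]; infer_instance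
  rcases coherent_or_small_pgroup K hsolv hS hodd (M := ⊥) bot_le
      (Group.nilpotent_of_surjective (QuotientGroup.mk' _) (QuotientGroup.mk'_surjective _))
      (by rwa [sup_bot_eq]) (by rwa [sup_bot_eq]) with h | ⟨-, -, -, p, m, hp, hm, -, -, -, -, hcop⟩
  · have hdiff := diff_inducedIrrAbove_eq K hZK hirr
    refine coherent_mono hS h Set.sdiff_subset Set.sdiff_subset ?_ fun φ hφ =>
      ⟨inducedIrrAbove_conj_mem K ⊥ hφ.1, fun h' => hφ.2 (cs_conj_conj φ ▸ inducedIrrAbove_conj_mem K Z h')⟩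
    obtain ⟨z, hz, hz1⟩ : ∃ z ∈ Z, z ≠ 1 := by
      obtain ⟨⟨z, hz⟩, hne⟩ := Subgroup.ne_bot_iff_exists_ne_one.1 hZ1
      exact ⟨z, hz, fun e => hne (Subtype.ext e)⟩
    obtain ⟨χ, hχ⟩ : ∃ χ : IrrCharacter L, (χ : L → ℂ) z ≠ (χ : L → ℂ) 1 := by
      by_contra! hall
      exact hz1 (isConj_one_left.1 (isConj_of_irr_agree hall))
    exact ⟨χ, hdiff ▸ ⟨χ.2, z, hz, hχ⟩⟩
  · rw [Subgroup.relIndex_bot_left] at hm
    exact coherent_central_pgroup K hsolv hS hodd hp hm hcop hZ1 hZK hZc hirr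

end CfsgLib.Char
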