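import Cfsg.Agent.Lib.Char.Clifford
import Cfsg.Agent.Lib.Char.Counting

/-!
# Characters and classes of Frobenius groups
-/

set_option autoImplicit false
set_option linter.unusedSectionVars false

namespace CfsgLib.Char

open scoped ComplexConjugate
open Representation Module Cfsg

universe u

variable {G : Type u} [Group G] [Finite G] (K H : Subgroup G) [hN : K.Normal]

theorem frob_decomp (hKH' : K ⊔ H = ⊤) (g : G) : ∃ k ∈ K, ∃ h ∈ H, k * h = g := by
  have : g ∈ ((K ⊔ H : Subgroup G) : Set G) := by rw [hKH']; exact Set.mem_univ _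
  rw [Subgroup.normal_mul] at this
  exact Set.mem_mul.mp this

theorem frob_unique (hKH : K ⊓ H = ⊥) {k k' h h' : G} (hk : k ∈ K) (hk' : k' ∈ K) (hh : h ∈ H)
    (hh' : h' ∈ H) (e : k * h = k' * h') : k = k' ∧ h = h' := by
  have h1 : k'⁻¹ * k = h' * h⁻¹ := by
    calc k'⁻¹ * k = k'⁻¹ * (k * h) * h⁻¹ := by group
      _ = _ := by rw [e]; group
  have h2 : k'⁻¹ * k ∈ K ⊓ H :=
    ⟨K.mul_mem (K.inv_mem hk') hk, h1 ▸ H.mul_mem hh' (H.inv_mem hh)⟩
  rw [hKH, Subgroup.mem_bot] at h2
  have hk2 : k = k' := (inv_mul_eq_one.mp h2).symm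
  exact ⟨hk2, mul_left_cancel (hk2 ▸ e)⟩

variable (hfpf : ∀ h ∈ H, h ≠ 1 → ∀ k ∈ K, h * k = k * h → k = 1)
include hfpf

theorem frob_conj {h : G} (hh : h ∈ H) (h1 : h ≠ 1) {u : G} (hu : u ∈ K) :
    ∃ x ∈ K, u * h = x * h * x⁻¹ := by
  let f : K → K := fun x => ⟨(x : G) * h * (x : G)⁻¹ * h⁻¹, by
    have := hN.conj_mem _ (K.inv_mem x.2) h
    simpa [mul_assoc] using K.mul_mem x.2 this⟩
  have hf : Function.Injective f := by
    intro a b e
    have e' : (a : G) * h * (a : G)⁻¹ = b * h * (b : G)⁻¹ := mul_right_cancel (congrArg Subtype.val e)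
    have h2 : h * ((b : G)⁻¹ * a) = ((b : G)⁻¹ * a) * h := by
      have := congrArg (fun t => (b : G)⁻¹ * t * a) e'
      simpa [mul_assoc] using this.symm
    exact Subtype.ext (inv_mul_eq_one.mp (hfpf h hh h1 _ (K.mul_mem (K.inv_mem b.2) a.2) h2)).symm
  obtain ⟨x, hx⟩ := (Finite.injective_iff_bijective.mp hf).2 ⟨u, hu⟩
  refine ⟨x, x.2, ?_⟩
  have : (x : G) * h * (x : G)⁻¹ * h⁻¹ = u := congrArg Subtype.val hx
  rw [← this, inv_mul_cancel_right]

theorem frob_fixed_eq_one {h u k : G} (hh : h ∈ H) (h1 : h ≠ 1) (hu : u ∈ K) (hk : k ∈ K)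
    (hc : u * h * k = k * (u * h)) : k = 1 := by
  obtain ⟨x, hx, e⟩ := frob_conj K H hfpf hh h1 hu
  rw [e] at hc
  have h2 : h * (x⁻¹ * k * x) = (x⁻¹ * k * x) * h := by
    have := congrArg (fun t => x⁻¹ * t * x) hc
    simpa [mul_assoc] using this
  have := hfpf h hh h1 _ (K.mul_mem (K.mul_mem (K.inv_mem hx) hk) hx) h2
  simpa [mul_assoc] using congrArg (fun t => x * t * x⁻¹) this

theorem frob_inertia (hKH' : K ⊔ H = ⊤) {τ : K → ℂ} (hτ : IsIrrCharacter K τ)
    (hτ1 : τ ≠ fun _ => 1) : inertia K τ = K := by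
  refine le_antisymm (fun g hg => ?_)
    (le_inertia K (isClassFunction_of_isCharacter (isCharacter_of_isIrr hτ)))
  obtain ⟨k, hk, h, hh, rfl⟩ := frob_decomp K H hKH' g
  by_contra hg'
  have h1 : h ≠ 1 := fun e => hg' (by rw [e, mul_one]; exact hk)
  have hkI : k ∈ inertia K τ :=
    le_inertia K (isClassFunction_of_isCharacter (isCharacter_of_isIrr hτ)) hk
  have hhI : conjFun K τ h = τ := by
    have := (inertia K τ).mul_mem ((inertia K τ).inv_mem hkI) hg
    rw [inv_mul_cancel_left] at this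
    exact this
  let α : K ≃* K := MulEquiv.ofBijective (normalConjHom K h)
    ⟨fun a b e => Subtype.ext (by simpa [normalConjHom] using congrArg Subtype.val e),
      normalConjHom_surjective K h⟩
  have hcount := card_fixed_classes_aut α
  have hfix : ∀ C : ConjClasses K, ConjClasses.map α.toMonoidHom C = C → C = ConjClasses.mk 1 := by
    intro C hC
    obtain ⟨y, rfl⟩ := ConjClasses.exists_rep C
    obtain ⟨u, hu⟩ := isConj_iff.mp (ConjClasses.mk_eq_mk_iff_isConj.mp hC)
    have e : (u : G) * (h * y * h⁻¹) * (u : G)⁻¹ = y := congrArg Subtype.val hu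
    have hy := frob_fixed_eq_one K H hfpf hh h1 u.2 y.2 (by
      conv_rhs => rw [← e]
      group)
    exact congrArg ConjClasses.mk (Subtype.ext hy)
  have hle : Nat.card {C : ConjClasses K // ConjClasses.map α.toMonoidHom C = C} ≤ 1 :=
    Finite.card_le_one_iff_subsingleton.mpr
      ⟨fun a b => Subtype.ext ((hfix a.1 a.2).trans (hfix b.1 b.2).symm)⟩
  rw [hcount] at hle
  have hs := Finite.card_le_one_iff_subsingleton.mp hle
  exact hτ1 (congrArg (fun z => ((z.1 : IrrCharacter K) : K → ℂ))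
    (Subsingleton.elim (⟨⟨τ, hτ⟩, hhI⟩ : {χ : IrrCharacter K // (χ : K → ℂ) ∘ α = (χ : K → ℂ)})
      ⟨⟨fun _ => 1, isIrrCharacter_one⟩, rfl⟩))

theorem isIrr_indFun_frob [Fintype G] (hKH' : K ⊔ H = ⊤) {τ : K → ℂ} (hτ : IsIrrCharacter K τ)
    (hτ1 : τ ≠ fun _ => 1) : IsIrrCharacter G (indFun K τ) := by
  have := Fintype.ofFinite K
  refine isIrr_of_isCharacter_norm_one (isCharacter_indFun K (isCharacter_of_isIrr hτ)) ?_
  have h := card_smul_classInner_indFun_self K hτ
  rw [frob_inertia K H hfpf hKH' hτ hτ1] at h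
  exact (mul_eq_left₀ (by exact_mod_cast Nat.card_pos.ne')).mp h

omit hfpf in
theorem sum_card_centralizer (A : Type u) [Group A] [Fintype A] :
    ∑ a : A, Nat.card (Subgroup.centralizer ({a} : Set A)) = Nat.card (ConjClasses A) * Nat.card A := by
  rw [← card_comm_eq_card_conjClasses_mul_card, ← Nat.card_sigma]
  exact Nat.card_congr
    { toFun := fun x => ⟨(x.1, x.2.1), (Subgroup.mem_centralizer_singleton_iff.mp x.2.2).symm⟩
      invFun := fun p => ⟨p.1.1, p.1.2, Subgroup.mem_centralizer_singleton_iff.mpr p.2.eq.symm⟩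
      left_inv := fun x => rfl
      right_inv := fun p => rfl }

theorem card_classes_frob (hKH : K ⊓ H = ⊥) (hKH' : K ⊔ H = ⊤) :
    Nat.card H * Nat.card (ConjClasses G) + 1 =
      Nat.card H * Nat.card (ConjClasses H) + Nat.card (ConjClasses K) := by
  classical
  have := Fintype.ofFinite G
  have := Fintype.ofFinite K
  have := Fintype.ofFinite H
  let P : K × H ≃ G := Equiv.ofBijective (fun p => (p.1 : G) * p.2)
    ⟨fun p q e => by
      obtain ⟨e1, e2⟩ := frob_unique K H hKH p.1.2 q.1.2 p.2.2 q.2.2 e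
      exact Prod.ext (Subtype.ext e1) (Subtype.ext e2),
    fun g => by
      obtain ⟨k, hk, h, hh, e⟩ := frob_decomp K H hKH' g
      exact ⟨(⟨k, hk⟩, ⟨h, hh⟩), e⟩⟩
  have hG : Nat.card G = Nat.card K * Nat.card H := by rw [← Nat.card_congr P, Nat.card_prod]
  have hk1 : ∀ k : K, k ≠ 1 → Nat.card (Subgroup.centralizer ({(k : G)} : Set G)) =
      Nat.card (Subgroup.centralizer ({k} : Set K)) := by
    intro k hk
    refine Nat.card_congr
      { toFun := fun z => ⟨⟨z.1, ?_⟩, ?_⟩
        invFun := fun z => ⟨(z.1 : G), Subgroup.mem_centralizer_singleton_iff.mpr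
          (congrArg Subtype.val (Subgroup.mem_centralizer_singleton_iff.mp z.2))⟩
        left_inv := fun z => rfl
        right_inv := fun z => rfl }
    · obtain ⟨u, hu, h, hh, e⟩ := frob_decomp K H hKH' z.1
      by_cases h1 : h = 1
      · rw [← e, h1, mul_one]; exact hu
      · refine absurd (Subtype.ext ?_) hk
        refine frob_fixed_eq_one K H hfpf hh h1 hu k.2 ?_
        rw [e]
        exact Subgroup.mem_centralizer_singleton_iff.mp z.2
    · exact Subgroup.mem_centralizer_singleton_iff.mpr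
        (Subtype.ext (Subgroup.mem_centralizer_singleton_iff.mp z.2))
  have hk2 : ∀ (k : K) (h : H), h ≠ 1 → Nat.card (Subgroup.centralizer ({(k : G) * h} : Set G)) =
      Nat.card (Subgroup.centralizer ({h} : Set H)) := by
    intro k h h1
    have h1' : (h : G) ≠ 1 := fun e => h1 (Subtype.ext e)
    obtain ⟨x, hx, e⟩ := frob_conj K H hfpf h.2 h1' k.2
    refine Nat.card_congr
      { toFun := fun z => ⟨⟨x⁻¹ * z.1 * x, ?_⟩, ?_⟩
        invFun := fun z => ⟨x * (z.1 : G) * x⁻¹, Subgroup.mem_centralizer_singleton_iff.mpr ?_⟩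
        left_inv := fun z => Subtype.ext (by simp [mul_assoc])
        right_inv := fun z => Subtype.ext (Subtype.ext (by simp [mul_assoc])) }
    · obtain ⟨w, hw⟩ := z
      have hz := Subgroup.mem_centralizer_singleton_iff.mp hw
      rw [e] at hz
      have hz' : (x⁻¹ * w * x) * (h : G) = (h : G) * (x⁻¹ * w * x) := by
        have := congrArg (fun t => x⁻¹ * t * x) hz
        simpa [mul_assoc] using this
      obtain ⟨a, ha, b, hb, eab⟩ := frob_decomp K H hKH' (x⁻¹ * w * x)
      show x⁻¹ * w * x ∈ H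
      rw [← eab] at hz' ⊢
      have hconj : (h : G) * a * (h : G)⁻¹ ∈ K := hN.conj_mem a ha h
      obtain ⟨e1, -⟩ := frob_unique K H hKH ha hconj (H.mul_mem hb h.2) (H.mul_mem h.2 hb)
        (by rw [← mul_assoc, hz']; group)
      have : a = 1 := hfpf h h.2 h1' a ha (by
        conv_rhs => rw [e1]
        group)
      rw [this, one_mul]; exact hb
    · refine Subgroup.mem_centralizer_singleton_iff.mpr (Subtype.ext ?_)
      obtain ⟨w, hw⟩ := z
      have hz := Subgroup.mem_centralizer_singleton_iff.mp hw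
      rw [e] at hz
      have := congrArg (fun t => x⁻¹ * t * x) hz
      simpa [mul_assoc] using this
    · have hz : (z.1 : G) * h = h * z.1 :=
        congrArg Subtype.val (Subgroup.mem_centralizer_singleton_iff.mp z.2)
      rw [e]
      calc x * (z.1 : G) * x⁻¹ * (x * h * x⁻¹) = x * ((z.1 : G) * h) * x⁻¹ := by group
        _ = _ := by rw [hz]; group
  have hsum := sum_card_centralizer G
  rw [← Equiv.sum_comp P, Fintype.sum_prod_type] at hsum
  have hinner : ∀ k : K, ∑ h : H, Nat.card (Subgroup.centralizer ({P (k, h)} : Set G)) =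
      Nat.card (Subgroup.centralizer ({(k : G)} : Set G)) +
        ∑ h ∈ (Finset.univ : Finset H).erase 1, Nat.card (Subgroup.centralizer ({h} : Set H)) := by
    intro k
    rw [← Finset.add_sum_erase _ _ (Finset.mem_univ (1 : H))]
    congr 1
    · rw [show P (k, 1) = (k : G) from mul_one _]
    · exact Finset.sum_congr rfl fun h hh => hk2 k h (Finset.mem_erase.mp hh).1
  rw [Finset.sum_congr rfl fun k _ => hinner k, Finset.sum_add_distrib, Finset.sum_const,
    Finset.card_univ, ← Nat.card_eq_fintype_card, smul_eq_mul,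
    ← Finset.add_sum_erase _ _ (Finset.mem_univ (1 : K)),
    Finset.sum_congr rfl fun k hk => hk1 k (Finset.mem_erase.mp hk).1] at hsum
  have hone : ∀ (A : Type u) [Group A], Nat.card (Subgroup.centralizer ({1} : Set A)) = Nat.card A := by
    intro A _
    exact Nat.card_congr
      { toFun := fun z => z.1
        invFun := fun a => ⟨a, Subgroup.mem_centralizer_singleton_iff.mpr (by simp)⟩
        left_inv := fun z => rfl
        right_inv := fun a => rfl }
  have hsK := sum_card_centralizer K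
  rw [← Finset.add_sum_erase _ _ (Finset.mem_univ (1 : K)), hone] at hsK
  have hsH := sum_card_centralizer H
  rw [← Finset.add_sum_erase _ _ (Finset.mem_univ (1 : H)), hone] at hsH
  rw [OneMemClass.coe_one, hone, hG] at hsum
  set SK := ∑ k ∈ (Finset.univ : Finset K).erase 1, Nat.card (Subgroup.centralizer ({k} : Set K))
  set SH := ∑ h ∈ (Finset.univ : Finset H).erase 1, Nat.card (Subgroup.centralizer ({h} : Set H))
  have hK0 : 0 < Nat.card K := Nat.card_pos
  apply Nat.eq_of_mul_eq_mul_left hK0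
  zify at hsum hsK hsH ⊢
  linear_combination (-1 : ℤ) * hsum + hsK + (Nat.card K : ℤ) * hsH

end CfsgLib.Char
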