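import Mathlib
import Cfsg.Agent.Lib.Char.CoherenceCentral
import Cfsg.Agent.Lib.Char.FrobeniusGroup
import Cfsg.Agent.Lib.Char.RealChar
import Cfsg.Agent.Lib.Char.TiInduced
import Cfsg.Agent.Lib.Coprime.FpfAction

/-!
# The characters induced from a Frobenius kernel
-/

set_option autoImplicit false
set_option linter.unusedSectionVars false
set_option linter.style.haveILetI false

namespace CfsgLib.Char

open scoped ComplexConjugate commutatorElement
open Cfsg

universe u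

variable {L : Type u} [Group L] [Fintype L] (K : Subgroup L) [hKn : K.Normal]
  (hC : ∀ k ∈ K, k ≠ 1 → Subgroup.centralizer ({k} : Set L) ≤ K)

include hC

theorem exists_fpf_complement : ∃ W : Subgroup L, K.IsComplement' W ∧
    ∀ w ∈ W, w ≠ 1 → ∀ k ∈ K, w * k = k * w → k = 1 := by
  have hcop : (Nat.card K).Coprime K.index := by
    have h := index_coprime_of_centralizer_le K hC
    rwa [Subgroup.normalizer_eq_top, ← Subgroup.relIndex, Subgroup.relIndex_top_right] at h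
  obtain ⟨W, hW⟩ := Subgroup.exists_right_complement'_of_coprime hcop
  refine ⟨W, hW, fun w hw hw1 k hk hc => ?_⟩
  by_contra hk1
  exact hw1 (Subgroup.disjoint_def.1 hW.disjoint
    (hC k hk hk1 (Subgroup.mem_centralizer_singleton_iff.2 hc)) hw)

theorem isIrr_inducedIrrAbove {A : Subgroup L} {φ : L → ℂ} (hφ : φ ∈ inducedIrrAbove K A) :
    IsIrrCharacter L φ := by
  obtain ⟨W, hW, hfpf⟩ := exists_fpf_complement K hC
  obtain ⟨θ, h1, h2, -, rfl⟩ := hφ
  exact isIrr_indFun_frob K W hfpf hW.sup_eq_top h1 h2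

theorem conjFun_ne_inducedIrrAbove (hodd : Odd (Nat.card L)) (hK : K ≠ ⊤) {A : Subgroup L} {φ : L → ℂ}
    (hφ : φ ∈ inducedIrrAbove K A) : Cfsg.conjFun φ ≠ φ := by
  intro he
  have h := irr_eq_one_of_real hodd ⟨φ, isIrr_inducedIrrAbove K hC hφ⟩ fun g => congrFun he g
  obtain ⟨b, -, hb⟩ := inducedIrrAbove_degree K hφ
  rw [show φ 1 = (1 : ℂ) from congrFun h 1] at hb
  have h1 : 1 = K.index * b := Nat.cast_injective (R := ℂ) (Nat.cast_one.trans hb)
  exact hK (Subgroup.index_eq_one.1 (Nat.eq_one_of_mul_eq_one_right h1.symm))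

/-- A complement acts without fixed points on the abelianisation of the kernel. -/
theorem mem_of_commutator_mem {B : Subgroup L} [B.Normal] (hBK : B ≤ K)
    (hab : ∀ x ∈ K, ∀ y ∈ K, x * y * x⁻¹ * y⁻¹ ∈ B) {k : L} (hk : k ∈ K) (hkB : k ∉ B) {x : L}
    (hx : x * k * x⁻¹ * k⁻¹ ∈ B) : x ∈ K := by
  obtain ⟨W, hW, hfpf⟩ := exists_fpf_complement K hC
  obtain ⟨u, hu, w, hw, rfl⟩ := frob_decomp K W hW.sup_eq_top x
  by_cases hw1 : w = 1
  · simpa [hw1] using hu
  exfalso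
  have h1 : w * k * w⁻¹ * k⁻¹ ∈ B := by
    have e : w * k * w⁻¹ * k⁻¹ = u⁻¹ * (u * w * k * (u * w)⁻¹ * k⁻¹) * (u⁻¹)⁻¹ * (u⁻¹ * k * (u⁻¹)⁻¹ * k⁻¹) := by group
    rw [e]
    exact B.mul_mem (‹B.Normal›.conj_mem _ hx _) (hab _ (K.inv_mem hu) _ hk)
  let f : B → B := fun a => ⟨(a : L) * w * (a : L)⁻¹ * w⁻¹, by
    have := ‹B.Normal›.conj_mem _ (B.inv_mem a.2) w
    simpa [mul_assoc] using B.mul_mem a.2 this⟩
  have hinj : ∀ a b : L, a ∈ K → b ∈ K → a * w * a⁻¹ * w⁻¹ = b * w * b⁻¹ * w⁻¹ → a = b := by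
    intro a b ha hb e
    have h2 : w * (b⁻¹ * a) = b⁻¹ * a * w := by
      have := congrArg (fun t => b⁻¹ * t * a) (mul_right_cancel e)
      simpa [mul_assoc] using this.symm
    exact (inv_mul_eq_one.1 (hfpf w hw hw1 _ (K.mul_mem (K.inv_mem hb) ha) h2)).symm
  have hf : Function.Injective f := fun a b e =>
    Subtype.ext (hinj a b (hBK a.2) (hBK b.2) (congrArg Subtype.val e))
  obtain ⟨a, ha⟩ := (Finite.injective_iff_bijective.1 hf).2
    ⟨(w * k * w⁻¹ * k⁻¹)⁻¹, B.inv_mem h1⟩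
  have : (a : L) = k := hinj a k (hBK a.2) hk ((congrArg Subtype.val ha).trans (by group))
  exact hkB (this ▸ a.2)

theorem index_dvd_card_sub_one {Z : Subgroup L} [Z.Normal] (hZK : Z ≤ K) : K.index ∣ Nat.card Z - 1 := by
  obtain ⟨W, hW, hfpf⟩ := exists_fpf_complement K hC
  have hfp : CfsgLib.Coprime.IsFpfOn W Z := fun w hw hw1 => (Subgroup.eq_bot_iff_forall _).2 fun v hv =>
    hfpf w hw hw1 v (hZK hv.1) (Subgroup.mem_centralizer_singleton_iff.1 hv.2).symm
  have h := hfp.card_mod (by rw [Subgroup.normalizer_eq_top]; exact le_top)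
  rw [hW.symm.index_eq_card]
  exact (Nat.modEq_iff_dvd' Nat.card_pos).1 (Nat.ModEq.symm h)

end CfsgLib.Char
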