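import Mathlib
import Cfsg.Agent.Lib.Char.FrobeniusKernelSet
import Cfsg.Agent.Lib.Char.TI
import Cfsg.Agent.Lib.Char.CentralCongruence

/-!
# Induction from the normalizer of a TI subgroup; a variant of a coherence isometry
-/

set_option autoImplicit false
set_option linter.unusedSectionVars false
set_option linter.style.haveILetI false

namespace CfsgLib.Char

open scoped ComplexConjugate
open Cfsg

universe u v

variable {L : Type u} [Group L] [Fintype L] {G : Type v} [Group G] [Fintype G]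

theorem zspan_generalized {S : Set (L → ℂ)} (hS : ∀ φ ∈ S, IsCharacter L φ) {a : L → ℂ} (ha : a ∈ zspan S) :
    IsGeneralizedCharacter L a := by
  induction ha using Submodule.span_induction with
  | mem x hx => exact isGeneralizedCharacter_of_isCharacter (hS x hx)
  | zero => exact isGeneralizedCharacter_zero
  | add x y _ _ hx hy => exact isGeneralizedCharacter_add hx hy
  | smul n x _ hx =>
    rw [← Int.cast_smul_eq_zsmul ℂ n x]
    exact isGeneralizedCharacter_zsmul hx n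

theorem conjFun_zspan {S : Set (L → ℂ)} (hS : ∀ φ ∈ S, Cfsg.conjFun φ ∈ S) {a : L → ℂ} (ha : a ∈ zspan S) :
    Cfsg.conjFun a ∈ zspan S := by
  induction ha using Submodule.span_induction with
  | mem x hx => exact zspan_subset_mem (hS x hx)
  | zero =>
    rw [show Cfsg.conjFun (0 : L → ℂ) = 0 from funext fun x => map_zero _]
    exact zspan_zero
  | add x y _ _ hx hy =>
    rw [show Cfsg.conjFun (x + y) = Cfsg.conjFun x + Cfsg.conjFun y from funext fun t => map_add conj (x t) (y t)]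
    exact zspan_add hx hy
  | smul n x _ hx =>
    rw [show Cfsg.conjFun (n • x) = n • Cfsg.conjFun x from funext fun t => map_zsmul conj n (x t)]
    exact zspan_zsmul n hx

theorem conj_classInner_conjFun (a b : L → ℂ) :
    classInner (Cfsg.conjFun a) (Cfsg.conjFun b) = conj (classInner a b) := by
  simp only [classInner, Cfsg.conjFun, map_mul, map_inv₀, map_natCast, map_sum]

/-- On two conjugate characters the sign and the labelling of an isometry may be flipped. -/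
theorem exists_flip {X : Set (L → ℂ)} (hX : ∀ φ ∈ X, IsCharacter L φ) {c : L → ℂ}
    (hXc : ∀ φ ∈ X, φ = c ∨ φ = Cfsg.conjFun c) (hc : c ∈ X) (hc' : Cfsg.conjFun c ∈ X)
    (hdeg : Cfsg.conjFun c 1 = c 1) (hd0 : c 1 ≠ 0) {τ σ : (L → ℂ) → (G → ℂ)}
    (hσ : IsLinearIsometryOn (zspan X) σ) (hag : ∀ α ∈ zspanOn X {1}ᶜ, σ α = τ α) :
    IsLinearIsometryOn (zspan X) (fun f => -σ (Cfsg.conjFun f)) ∧
      ∀ α ∈ zspanOn X {1}ᶜ, -σ (Cfsg.conjFun α) = τ α := by
  have hcl : ∀ φ ∈ X, Cfsg.conjFun φ ∈ X := fun φ hφ => by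
    rcases hXc φ hφ with rfl | rfl
    · exact hc'
    · rwa [cs_conj_conj]
  refine ⟨⟨fun a ha b hb => ?_, fun a ha n => ?_, fun a ha b hb => ?_, fun a ha =>
    isGeneralizedCharacter_neg (hσ.2.2.2 _ (conjFun_zspan hcl ha))⟩, fun α hα => ?_⟩
  · simp only [show Cfsg.conjFun (a + b) = Cfsg.conjFun a + Cfsg.conjFun b from
      funext fun t => map_add conj (a t) (b t), hσ.1 _ (conjFun_zspan hcl ha) _ (conjFun_zspan hcl hb), neg_add]
  · simp only [show Cfsg.conjFun (n • a) = n • Cfsg.conjFun a from funext fun t => map_zsmul conj n (a t),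
      hσ.2.1 _ (conjFun_zspan hcl ha) n, smul_neg]
  · obtain ⟨m, hm⟩ := classInner_generalized_int (zspan_generalized hX ha) (zspan_generalized hX hb)
    rw [classInner_neg_left, classInner_neg_right, neg_neg,
      hσ.2.2.1 _ (conjFun_zspan hcl ha) _ (conjFun_zspan hcl hb), conj_classInner_conjFun, hm, map_intCast]
  · obtain ⟨hα1, hα2⟩ := mem_zspanOn_one_iff.1 hα
    have hsub : (Submodule.span ℤ X : Submodule ℤ (L → ℂ)) ≤ Submodule.span ℤ {c, Cfsg.conjFun c} :=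
      Submodule.span_mono fun φ hφ => by rcases hXc φ hφ with rfl | rfl <;> simp
    obtain ⟨m, n, hmn⟩ := Submodule.mem_span_pair.1 (hsub hα1)
    have hsum : ((m + n : ℤ) : ℂ) * c 1 = 0 := by
      rw [← hmn] at hα2
      simp only [Pi.add_apply, Pi.smul_apply, hdeg] at hα2
      simp only [zsmul_eq_mul] at hα2
      push_cast
      linear_combination hα2
    have hn : n = -m := by
      have h0 : m + n = 0 := Int.cast_eq_zero.1 ((mul_eq_zero.1 hsum).resolve_right hd0)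
      omega
    subst hn
    have hca : Cfsg.conjFun α = -α := by
      rw [← hmn]
      funext t
      simp only [Cfsg.conjFun, Pi.add_apply, Pi.neg_apply, Pi.smul_apply, map_add, map_zsmul, Complex.conj_conj]
      simp only [zsmul_eq_mul]
      push_cast
      ring
    rw [hca, show σ (-α) = -σ α by rw [← neg_one_zsmul, hσ.2.1 α hα1 (-1), neg_one_zsmul], neg_neg]
    exact hag α hα

variable {Γ : Type u} [Group Γ] [Fintype Γ] (H : Subgroup Γ) [Fintype ↥(Subgroup.normalizer (H : Set Γ))]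

/-- Induction is an isometry on the functions of a TI subgroup vanishing at one. -/
theorem indFun_isometry_TI (hTI : IsTISubset (H : Set Γ)) {S : Set (↥(Subgroup.normalizer (H : Set Γ)) → ℂ)}
    (hS : ∀ φ ∈ S, IsCharacter _ φ)
    (hvan : ∀ φ ∈ S, ∀ x : ↥(Subgroup.normalizer (H : Set Γ)), (x : Γ) ∉ H → φ x = 0) :
    IsLinearIsometryOn (zspanOn S {1}ᶜ) (fun α => indFun (Subgroup.normalizer (H : Set Γ)) α) ∧
      ∀ α ∈ zspanOn S {1}ᶜ, indFun (Subgroup.normalizer (H : Set Γ)) α 1 = 0 := by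
  have hv : ∀ α ∈ zspan S, ∀ x : ↥(Subgroup.normalizer (H : Set Γ)), (x : Γ) ∉ H → α x = 0 := by
    intro α hα x hx
    induction hα using Submodule.span_induction with
    | mem y hy => exact hvan y hy x hx
    | zero => rfl
    | add y z _ _ hy hz => rw [Pi.add_apply, hy, hz, add_zero]
    | smul n y _ hy => rw [Pi.smul_apply, hy, smul_zero]
  refine ⟨⟨fun a _ b _ => indFun_add _ a b, fun a _ n => ?_, fun a ha b hb => ?_, fun a ha =>
    isGeneralizedCharacter_indFun _ (zspan_generalized hS ha.1)⟩, fun α hα => ?_⟩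
  · simp only [← Int.cast_smul_eq_zsmul ℂ n, indFun_smul]
  · exact classInner_indFun_TI (H : Set Γ) hTI a b
      (isClassFunction_of_isGeneralized (zspan_generalized hS hb.1)) (hv a ha.1) (hv b hb.1)
      (mem_zspanOn_one_iff.1 ha).2
  · rw [indFun_one, (mem_zspanOn_one_iff.1 hα).2, mul_zero]

/-- The multiplicity of a member of a coherent set of characters non-trivial on a central subgroup, in the
restriction of an orthogonal irreducible character, is divisible by its degree. -/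
theorem dvd_inner_of_central {p : ℕ} [Fact p.Prime] (P : Sylow p Γ)
    [Fintype ↥(Subgroup.normalizer ((P : Subgroup Γ) : Set Γ))]
    (hTI : IsTISubset ((P : Subgroup Γ) : Set Γ))
    (hodd : Odd (Nat.card (Subgroup.normalizer ((P : Subgroup Γ) : Set Γ))))
    (hC : ∀ k ∈ (P : Subgroup Γ), k ≠ 1 →
      Subgroup.normalizer ((P : Subgroup Γ) : Set Γ) ⊓ Subgroup.centralizer ({k} : Set Γ) ≤ P)
    (Z : Subgroup ↥(Subgroup.normalizer ((P : Subgroup Γ) : Set Γ))) [Z.Normal] (hZ1 : Z ≠ ⊥)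
    (hZP : Z ≤ (P : Subgroup Γ).subgroupOf (Subgroup.normalizer ((P : Subgroup Γ) : Set Γ)))
    (hZc : ∀ z ∈ Z, ∀ k ∈ (P : Subgroup Γ).subgroupOf (Subgroup.normalizer ((P : Subgroup Γ) : Set Γ)),
      z * k = k * z)
    (X : Finset (↥(Subgroup.normalizer ((P : Subgroup Γ) : Set Γ)) → ℂ))
    (hX : ∀ χ, χ ∈ X ↔ IsIrrCharacter _ χ ∧ ∃ z ∈ Z, χ z ≠ χ 1)
    {a : ℕ} (ha : 0 < a) (e : ℕ)
    (hde : ((P : Subgroup Γ).subgroupOf (Subgroup.normalizer ((P : Subgroup Γ) : Set Γ))).index = e)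
    (hsum : ∑ χ ∈ X, χ 1 ^ 2 = (e : ℂ) * (Nat.card (P : Subgroup Γ) : ℂ) -
      (e : ℂ) * ((Z.relIndex ((P : Subgroup Γ).subgroupOf (Subgroup.normalizer ((P : Subgroup Γ) : Set Γ))) : ℕ) : ℂ))
    (ψ : IrrCharacter Γ) (k : ℤ)
    (hinner : ∀ χ ∈ X, classInner (fun x : ↥(Subgroup.normalizer ((P : Subgroup Γ) : Set Γ)) => (ψ : Γ → ℂ) x) χ =
      χ 1 * (k : ℂ) / ((e * a : ℕ) : ℂ)) :
    (a : ℤ) ∣ k := by
  classical
  haveI := Fintype.ofFinite (IrrCharacter ↥(Subgroup.normalizer ((P : Subgroup Γ) : Set Γ)))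
  have hcardK : Nat.card ((P : Subgroup Γ).subgroupOf (Subgroup.normalizer ((P : Subgroup Γ) : Set Γ))) = Nat.card (P : Subgroup Γ) :=
    Nat.card_congr (Subgroup.subgroupOfEquivOfLe Subgroup.le_normalizer).toEquiv
  have he0 : e ≠ 0 := hde ▸ Subgroup.index_ne_zero_of_finite
  have hcardN : (Nat.card ↥(Subgroup.normalizer ((P : Subgroup Γ) : Set Γ)) : ℂ) = (e : ℂ) * (Nat.card (P : Subgroup Γ) : ℂ) := by
    rw [← hcardK, ← hde, ← Nat.cast_mul, Subgroup.index_mul_card]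
  set f : ↥(Subgroup.normalizer ((P : Subgroup Γ) : Set Γ)) → ℂ := fun x => (ψ : Γ → ℂ) x with hf
  have hfcf : IsClassFunction ↥(Subgroup.normalizer ((P : Subgroup Γ) : Set Γ)) f :=
    isClassFunction_of_isCharacter (isCharacter_comp (isCharacter_irr ψ) (Subgroup.normalizer ((P : Subgroup Γ) : Set Γ)).subtype)
  set XX := (Finset.univ.filter fun χ : IrrCharacter ↥(Subgroup.normalizer ((P : Subgroup Γ) : Set Γ)) => (χ : ↥(Subgroup.normalizer ((P : Subgroup Γ) : Set Γ)) → ℂ) ∈ X) with hXX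
  have hXsum : ∀ F : (↥(Subgroup.normalizer ((P : Subgroup Γ) : Set Γ)) → ℂ) → ℂ, ∑ χ ∈ XX, F (χ : ↥(Subgroup.normalizer ((P : Subgroup Γ) : Set Γ)) → ℂ) = ∑ χ ∈ X, F χ := fun F =>
    Finset.sum_bij (fun χ _ => (χ : ↥(Subgroup.normalizer ((P : Subgroup Γ) : Set Γ)) → ℂ)) (fun χ h => (Finset.mem_filter.1 h).2)
      (fun _ _ _ _ h => Subtype.ext h)
      (fun χ h => ⟨⟨χ, ((hX χ).1 h).1⟩, Finset.mem_filter.2 ⟨Finset.mem_univ _, h⟩, rfl⟩) fun _ _ => rfl
  have htriv : ∀ χ : IrrCharacter ↥(Subgroup.normalizer ((P : Subgroup Γ) : Set Γ)), χ ∉ XX → ∀ z ∈ Z, (χ : ↥(Subgroup.normalizer ((P : Subgroup Γ) : Set Γ)) → ℂ) z = (χ : ↥(Subgroup.normalizer ((P : Subgroup Γ) : Set Γ)) → ℂ) 1 := fun χ hχ z hz => by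
    by_contra h
    exact hχ (Finset.mem_filter.2 ⟨Finset.mem_univ _, (hX _).2 ⟨χ.2, z, hz, h⟩⟩)
  set D : ℂ := ∑ χ ∈ X, χ 1 ^ 2 with hD
  have hcol : ∀ z ∈ Z, z ≠ 1 → ∑ χ ∈ XX, (χ : ↥(Subgroup.normalizer ((P : Subgroup Γ) : Set Γ)) → ℂ) 1 * (χ : ↥(Subgroup.normalizer ((P : Subgroup Γ) : Set Γ)) → ℂ) z = D - (Nat.card ↥(Subgroup.normalizer ((P : Subgroup Γ) : Set Γ)) : ℂ) := by
    intro z hz hz1
    have h1 : ∑ χ : IrrCharacter ↥(Subgroup.normalizer ((P : Subgroup Γ) : Set Γ)), (χ : ↥(Subgroup.normalizer ((P : Subgroup Γ) : Set Γ)) → ℂ) z * conj ((χ : ↥(Subgroup.normalizer ((P : Subgroup Γ) : Set Γ)) → ℂ) 1) = 0 := by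
      rw [sum_irr_mul_conj, if_neg fun h => hz1 (isConj_one_left.1 h)]
    have h2 := sum_degree_sq (G := ↥(Subgroup.normalizer ((P : Subgroup Γ) : Set Γ)))
    rw [← Finset.sum_add_sum_compl XX] at h1 h2
    rw [Finset.sum_congr rfl (s₁ := XXᶜ) (g := fun χ => (χ : ↥(Subgroup.normalizer ((P : Subgroup Γ) : Set Γ)) → ℂ) 1 ^ 2) fun χ hχ => by
      rw [htriv χ (Finset.mem_compl.1 hχ) z hz, conj_irr_one, sq],
      Finset.sum_congr rfl (s₁ := XX) (g := fun χ => (χ : ↥(Subgroup.normalizer ((P : Subgroup Γ) : Set Γ)) → ℂ) 1 * (χ : ↥(Subgroup.normalizer ((P : Subgroup Γ) : Set Γ)) → ℂ) z) fun χ _ => by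
      rw [conj_irr_one, mul_comm]] at h1
    rw [hXsum (fun χ => χ 1 ^ 2), ← hD] at h2
    linear_combination h1 - h2
  set C : ℂ := ∑ χ ∈ XXᶜ, classInner f (χ : ↥(Subgroup.normalizer ((P : Subgroup Γ) : Set Γ)) → ℂ) * (χ : ↥(Subgroup.normalizer ((P : Subgroup Γ) : Set Γ)) → ℂ) 1 with hCdef
  have hval : ∀ z ∈ Z, z ≠ 1 → f z = (k : ℂ) / ((e * a : ℕ) : ℂ) * (D - (Nat.card ↥(Subgroup.normalizer ((P : Subgroup Γ) : Set Γ)) : ℂ)) + C := by
    intro z hz hz1
    have h := congrFun (classFun_expand hfcf) z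
    simp only [Finset.sum_apply, Pi.smul_apply, smul_eq_mul] at h
    rw [h, ← Finset.sum_add_sum_compl XX]
    congr 1
    · rw [← hcol z hz hz1, Finset.mul_sum]
      refine Finset.sum_congr rfl fun χ hχ => ?_
      rw [hinner _ (Finset.mem_filter.1 hχ).2]
      ring
    · exact Finset.sum_congr rfl fun χ hχ => by rw [htriv χ (Finset.mem_compl.1 hχ) z hz]
  have hone : f 1 = (k : ℂ) / ((e * a : ℕ) : ℂ) * D + C := by
    have h := congrFun (classFun_expand hfcf) 1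
    simp only [Finset.sum_apply, Pi.smul_apply, smul_eq_mul] at h
    rw [h, ← Finset.sum_add_sum_compl XX, hD, ← hXsum, Finset.mul_sum]
    congr 1
    refine Finset.sum_congr rfl fun χ hχ => ?_
    rw [hinner _ (Finset.mem_filter.1 hχ).2]
    ring
  -- the congruence
  set ZG : Subgroup Γ := Z.map (Subgroup.normalizer ((P : Subgroup Γ) : Set Γ)).subtype with hZG
  have hZGP : ZG ≤ (P : Subgroup Γ) := by
    rintro _ ⟨z, hz, rfl⟩
    exact hZP hz
  obtain ⟨z₀, hz₀⟩ : ∃ z₀ : Z, z₀ ≠ 1 := Subgroup.ne_bot_iff_exists_ne_one.1 hZ1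
  have hmem₀ : ((z₀ : ↥(Subgroup.normalizer ((P : Subgroup Γ) : Set Γ))) : Γ) ∈ ZG := ⟨z₀, z₀.2, rfl⟩
  have hne₀ : ((z₀ : ↥(Subgroup.normalizer ((P : Subgroup Γ) : Set Γ))) : Γ) ≠ 1 := fun h => hz₀ (Subtype.ext (Subtype.ext h))
  have hcent : ∀ z ∈ ZG, z ≠ 1 → Subgroup.normalizer ((P : Subgroup Γ) : Set Γ) ⊓ Subgroup.centralizer ({z} : Set Γ) = (P : Subgroup Γ) := by
    intro z hz hz1
    refine le_antisymm (hC z (hZGP hz) hz1) fun y hy => ⟨Subgroup.le_normalizer hy, ?_⟩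
    obtain ⟨w, hw, rfl⟩ := hz
    refine Subgroup.mem_centralizer_singleton_iff.2 ?_
    exact (congrArg Subtype.val (hZc w hw ⟨y, Subgroup.le_normalizer hy⟩ hy)).symm
  obtain ⟨n, d, hn, hd, hdvd⟩ := central_congruence P hTI ZG hZGP
    (fun x hx z hz => by
      obtain ⟨w, hw, rfl⟩ := hz
      exact ⟨⟨x, hx⟩ * w * (⟨x, hx⟩ : ↥(Subgroup.normalizer ((P : Subgroup Γ) : Set Γ)))⁻¹, ‹Z.Normal›.conj_mem w hw _, rfl⟩)
    hodd
    (fun z hz y hy => by
      obtain ⟨w, hw, rfl⟩ := hz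
      exact congrArg Subtype.val (hZc w hw ⟨y, Subgroup.le_normalizer hy⟩ hy))
    (fun z hz z' hz' h1 h1' => by rw [hcent z hz h1, hcent z' hz' h1'])
    ψ (fun z hz z' hz' h1 h1' => by
      obtain ⟨w, hw, rfl⟩ := hz
      obtain ⟨w', hw', rfl⟩ := hz'
      have hne : w ≠ 1 := fun h => h1 (by rw [h]; rfl)
      have hne' : w' ≠ 1 := fun h => h1' (by rw [h]; rfl)
      exact (hval w hw hne).trans (hval w' hw' hne').symm) hmem₀ hne₀
  have hdiff : ((d - n : ℤ) : ℂ) = (k : ℂ) * (Nat.card (P : Subgroup Γ) : ℂ) / (a : ℂ) := by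
    have h1 : f 1 = (d : ℂ) := hd
    have h2 : f z₀ = (n : ℂ) := hn
    have hzN : (z₀ : ↥(Subgroup.normalizer ((P : Subgroup Γ) : Set Γ))) ≠ 1 := fun h => hz₀ (Subtype.ext h)
    rw [hval _ z₀.2 hzN] at h2
    rw [hone] at h1
    push_cast
    rw [← h1, ← h2, hcardN]
    have hae : (a : ℂ) ≠ 0 := Nat.cast_ne_zero.2 ha.ne'
    have hee : (e : ℂ) ≠ 0 := Nat.cast_ne_zero.2 he0
    push_cast
    field_simp
    ring
  obtain ⟨t, ht⟩ := hdvd
  rw [ht] at hdiff
  push_cast at hdiff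
  rw [eq_div_iff (Nat.cast_ne_zero.2 ha.ne' : (a : ℂ) ≠ 0)] at hdiff
  refine ⟨t, ?_⟩
  have hP0 : (Nat.card (P : Subgroup Γ) : ℂ) ≠ 0 := Nat.cast_ne_zero.2 Nat.card_pos.ne'
  apply Int.cast_injective (α := ℂ)
  push_cast
  exact mul_left_cancel₀ hP0 (by linear_combination -hdiff)

end CfsgLib.Char
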