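import Mathlib
import Cfsg.Agent.Lib.Char.SibleyBase

/-!
# Coherence of the characters of a TI Frobenius kernel (odd order)
-/

set_option autoImplicit false
set_option linter.unusedSectionVars false
set_option linter.style.haveILetI false

namespace CfsgLib.Char

open scoped ComplexConjugate commutatorElement
open Cfsg

universe u v

theorem exists_coherenceSystem_TI {G : Type u} [Group G] [Fintype G] (H : Subgroup G)
    [Fintype ↥(Subgroup.normalizer (H : Set G))] (hTI : IsTISubset (H : Set G))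
    (hodd : Odd (Nat.card (Subgroup.normalizer (H : Set G)))) (hnil : Group.IsNilpotent H) (hH : H ≠ ⊥)
    (hC : ∀ k ∈ H, k ≠ 1 → Subgroup.normalizer (H : Set G) ⊓ Subgroup.centralizer ({k} : Set G) ≤ H)
    (hlt : H < Subgroup.normalizer (H : Set G)) :
    (∀ k ∈ H.subgroupOf (Subgroup.normalizer (H : Set G)), k ≠ 1 →
      Subgroup.centralizer ({k} : Set ↥(Subgroup.normalizer (H : Set G))) ≤
        H.subgroupOf (Subgroup.normalizer (H : Set G))) ∧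
    Group.IsSolvable (H.subgroupOf (Subgroup.normalizer (H : Set G))) ∧
    Group.IsNilpotent (H.subgroupOf (Subgroup.normalizer (H : Set G))) ∧
    H.subgroupOf (Subgroup.normalizer (H : Set G)) ≠ ⊤ ∧
    H.subgroupOf (Subgroup.normalizer (H : Set G)) ≠ ⊥ ∧
    ∃ R, IsCoherenceSystem (inducedIrrAbove (H.subgroupOf (Subgroup.normalizer (H : Set G))) ⊥)
      (fun α => indFun (Subgroup.normalizer (H : Set G)) α) R := by
  haveI := Subgroup.normal_in_normalizer (H := H)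
  have hC' : ∀ k ∈ H.subgroupOf (Subgroup.normalizer (H : Set G)), k ≠ 1 →
      Subgroup.centralizer ({k} : Set ↥(Subgroup.normalizer (H : Set G))) ≤
        H.subgroupOf (Subgroup.normalizer (H : Set G)) := fun k hk hk1 x hx =>
    hC (k : G) hk (fun h => hk1 (Subtype.ext h)) ⟨x.2, Subgroup.mem_centralizer_singleton_iff.2
      (congrArg Subtype.val (Subgroup.mem_centralizer_singleton_iff.1 hx))⟩
  haveI := hnil
  have hnil' : Group.IsNilpotent (H.subgroupOf (Subgroup.normalizer (H : Set G))) :=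
    Group.nilpotent_of_mulEquiv (Subgroup.subgroupOfEquivOfLe Subgroup.le_normalizer).symm
  haveI := hnil'
  have hsolv : Group.IsSolvable (H.subgroupOf (Subgroup.normalizer (H : Set G))) := inferInstance
  have htop : H.subgroupOf (Subgroup.normalizer (H : Set G)) ≠ ⊤ := fun h =>
    hlt.not_ge (Subgroup.subgroupOf_eq_top.1 h)
  have hbot : H.subgroupOf (Subgroup.normalizer (H : Set G)) ≠ ⊥ := fun h =>
    hH (disjoint_self.1 ((Subgroup.subgroupOf_eq_bot.1 h).mono_right Subgroup.le_normalizer))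
  refine ⟨hC', hsolv, hnil', htop, hbot, ?_⟩
  have hirr : ∀ φ ∈ inducedIrrAbove (H.subgroupOf (Subgroup.normalizer (H : Set G))) ⊥, IsIrrCharacter _ φ :=
    fun φ hφ => isIrr_inducedIrrAbove _ hC' hφ
  obtain ⟨h1, h2⟩ := indFun_isometry_TI H hTI (fun φ hφ => isCharacter_of_isIrr (hirr φ hφ))
    (fun φ hφ x hx => by
      obtain ⟨θ, -, -, -, rfl⟩ := hφ
      exact indFun_normal_not_mem _ θ hx)
  have hne : (inducedIrrAbove (H.subgroupOf (Subgroup.normalizer (H : Set G))) ⊥).Nonempty := by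
    obtain ⟨φ, hφ, -⟩ := exists_inducedIrrAbove_degree (H.subgroupOf (Subgroup.normalizer (H : Set G))) hsolv ⊥
      (by rw [Subgroup.relIndex_bot_left]; exact fun h => hbot (Subgroup.card_eq_one.1 h))
    exact ⟨φ, hφ⟩
  exact exists_coherenceSystem_irr _ hne hirr
    (fun φ hφ => ⟨inducedIrrAbove_conj_mem _ ⊥ hφ, conjFun_ne_inducedIrrAbove _ hC' hodd htop hφ⟩) _ h1 h2

section Glue

variable {L : Type u} [Group L] [Fintype L] {G : Type v} [Group G] [Fintype G]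

/-- Gluing two coherent sets by a norm argument. -/
theorem coherent_glue {S : Set (L → ℂ)} {τ : (L → ℂ) → (G → ℂ)} {R : (L → ℂ) → Finset (G → ℂ)}
    (hS : IsCoherenceSystem S τ R) (hirr : ∀ ξ ∈ S, IsIrrCharacter L ξ)
    (hlin : ∀ (c : ℂ) (f : L → ℂ), τ (c • f) = c • τ f)
    (X Y : Finset (L → ℂ)) (hXS : ↑X ⊆ S) (hYS : ↑Y ⊆ S) (hXY : Disjoint X Y)
    (hXc : ∀ χ ∈ X, Cfsg.conjFun χ ∈ X) (hYc : ∀ χ ∈ Y, Cfsg.conjFun χ ∈ Y)
    (hcX : IsCoherent (↑X : Set (L → ℂ)) {1}ᶜ τ) (hcY : IsCoherent (↑Y : Set (L → ℂ)) {1}ᶜ τ)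
    {χ₁ η₁ : L → ℂ} (hχ₁ : χ₁ ∈ X) (hη₁ : η₁ ∈ Y) {e a : ℕ} (he : 0 < e) (ha : 0 < a)
    (hχd : χ₁ 1 = ((e * a : ℕ) : ℂ)) (hYd : ∀ η ∈ Y, η 1 = (e : ℂ))
    (hmin : ∀ χ ∈ X, ∃ d : ℕ, χ 1 = (d : ℂ) ∧ e * a ≤ d)
    (hdvd : ∀ (σ : (L → ℂ) → (G → ℂ)) (τY : (L → ℂ) → (G → ℂ)),
      IsLinearIsometryOn (zspan (↑X : Set (L → ℂ))) σ → IsLinearIsometryOn (zspan (↑Y : Set (L → ℂ))) τY →
      (∀ α ∈ zspanOn (↑X : Set (L → ℂ)) {1}ᶜ, σ α = τ α) →
      (∀ α ∈ zspanOn (↑Y : Set (L → ℂ)) {1}ᶜ, τY α = τ α) →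
      (∀ χ ∈ X, classInner (σ χ) (τY η₁) = 0) →
      ∀ z : ℤ, classInner (τ (χ₁ - (a : ℂ) • η₁)) (τY η₁) = z → (a : ℤ) ∣ z) :
    IsCoherent (↑X ∪ ↑Y : Set (L → ℂ)) {1}ᶜ τ := by
  classical
  obtain ⟨-, σ, hσ, hσα⟩ := hcX
  obtain ⟨-, τY, hτ, hτα⟩ := hcY
  have hne : ∀ φ ∈ S, Cfsg.conjFun φ ≠ φ := hS.conj_ne
  have hdisj : Disjoint (↑X : Set (L → ℂ)) (↑Y : Set (L → ℂ)) := Finset.disjoint_coe.2 hXY
  have hX2 : ∃ x ∈ (↑X : Set (L → ℂ)), ∃ y ∈ (↑X : Set (L → ℂ)), x ≠ y :=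
    ⟨χ₁, hχ₁, _, hXc χ₁ hχ₁, (hne χ₁ (hXS hχ₁)).symm⟩
  have hY2 : ∃ x ∈ (↑Y : Set (L → ℂ)), ∃ y ∈ (↑Y : Set (L → ℂ)), x ≠ y :=
    ⟨η₁, hη₁, _, hYc η₁ hη₁, (hne η₁ (hYS hη₁)).symm⟩
  have hunion := fun (σ' τ' : (L → ℂ) → (G → ℂ)) h1 h2 h3 h4 =>
    coherent_union (↑X : Set (L → ℂ)) (↑Y : Set (L → ℂ)) hirr hXS hYS hdisj hX2 hY2 τ hS.isometry hS.map_one
      σ' τ' h1 h2 h3 h4
  have horth : ∀ ξ ∈ S, ∀ η ∈ S, classInner ξ η = if ξ = η then 1 else 0 := by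
    intro ξ hξ η hη
    rw [classInner_irr ⟨ξ, hirr ξ hξ⟩ ⟨η, hirr η hη⟩]
    exact if_congr ⟨fun h => congrArg Subtype.val h, fun h => Subtype.ext h⟩ rfl rfl
  have hne' : ∀ χ ∈ X, ∀ η ∈ Y, χ ≠ η := fun χ hχ η hη h => Finset.disjoint_left.1 hXY hχ (h ▸ hη)
  have hβmem : χ₁ - (a : ℂ) • η₁ ∈ zspanOn S {1}ᶜ := mem_zspanOn_one_iff.2
    ⟨zspan_sub (zspan_subset_mem (hXS hχ₁)) (zspan_natSmul a (zspan_subset_mem (hYS hη₁))), by
      rw [Pi.sub_apply, Pi.smul_apply, smul_eq_mul, hχd, hYd η₁ hη₁]; push_cast; ring⟩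
  set β := τ (χ₁ - (a : ℂ) • η₁) with hβ
  have hβg : IsGeneralizedCharacter G β := hS.isometry.2.2.2 _ hβmem
  have hββ : classInner β β = 1 + (a : ℂ) * a := by
    rw [hβ, hS.isometry.2.2.1 _ hβmem _ hβmem]
    simp only [classInner_sub_left, classInner_sub_right, classInner_smul_left, classInner_smul_right,
      map_natCast, horth _ (hXS hχ₁) _ (hXS hχ₁), horth _ (hXS hχ₁) _ (hYS hη₁),
      horth _ (hYS hη₁) _ (hXS hχ₁), horth _ (hYS hη₁) _ (hYS hη₁), if_pos, if_neg (hne' _ hχ₁ _ hη₁),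
      if_neg (hne' _ hχ₁ _ hη₁).symm]
    ring
  -- the final step
  have hfinish : ∀ σ' τ', IsLinearIsometryOn (zspan (↑X : Set (L → ℂ))) σ' →
      (∀ α ∈ zspanOn (↑X : Set (L → ℂ)) {1}ᶜ, σ' α = τ α) →
      IsLinearIsometryOn (zspan (↑Y : Set (L → ℂ))) τ' →
      (∀ α ∈ zspanOn (↑Y : Set (L → ℂ)) {1}ᶜ, τ' α = τ α) →
      classInner β (σ' χ₁) = 1 → classInner β (τ' η₁) = -(a : ℂ) →
      IsCoherent (↑X ∪ ↑Y : Set (L → ℂ)) {1}ᶜ τ := by
    intro σ' τ' h1 h2 h3 h4 hx hy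
    obtain ⟨horth', hcoh⟩ := hunion σ' τ' h1 h2 h3 h4
    have e11 : classInner (σ' χ₁) (σ' χ₁) = 1 := by
      rw [h1.2.2.1 _ (zspan_subset_mem (Finset.mem_coe.2 hχ₁)) _ (zspan_subset_mem (Finset.mem_coe.2 hχ₁)),
        horth _ (hXS hχ₁) _ (hXS hχ₁), if_pos rfl]
    have e22 : classInner (τ' η₁) (τ' η₁) = 1 := by
      rw [h3.2.2.1 _ (zspan_subset_mem (Finset.mem_coe.2 hη₁)) _ (zspan_subset_mem (Finset.mem_coe.2 hη₁)),
        horth _ (hYS hη₁) _ (hYS hη₁), if_pos rfl]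
    have e12 := horth' χ₁ hχ₁ η₁ hη₁
    have e21 : classInner (τ' η₁) (σ' χ₁) = 0 := by rw [← classInner_conj, e12, map_zero]
    have hx' : classInner (σ' χ₁) β = 1 := by rw [← classInner_conj, hx, map_one]
    have hy' : classInner (τ' η₁) β = -(a : ℂ) := by rw [← classInner_conj, hy, map_neg, map_natCast]
    have hz : β = σ' χ₁ - (a : ℂ) • τ' η₁ := by
      rw [← sub_eq_zero]
      refine classInner_self_eq_zero ?_
      simp only [classInner_sub_left, classInner_sub_right, classInner_smul_left, classInner_smul_right,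
        map_natCast, hββ, e11, e22, e12, e21, hx, hy, hx', hy']
      ring
    refine hcoh ⟨χ₁, hχ₁, η₁, hη₁, ?_⟩
    rw [hχd, hYd η₁ hη₁]
    rw [show ((e * a : ℕ) : ℂ) • η₁ - (e : ℂ) • χ₁ = (-(e : ℂ)) • (χ₁ - (a : ℂ) • η₁) by
      push_cast; module, hlin, ← hβ, hz]
    push_cast
    module
  -- the coefficients
  obtain ⟨horthστ, -⟩ := hunion σ τY hσ hσα hτ hτα
  have hσg := hσ.2.2.2 _ (zspan_subset_mem (S := (↑X : Set (L → ℂ))) hχ₁)
  have hτg := hτ.2.2.2 _ (zspan_subset_mem (S := (↑Y : Set (L → ℂ))) hη₁)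
  obtain ⟨x', hx'⟩ := classInner_generalized_int hβg hσg
  obtain ⟨y', hy'⟩ := classInner_generalized_int hβg hτg
  obtain ⟨w, hw⟩ := hdvd σ τY hσ hτ hσα hτα (fun χ hχ => horthστ χ hχ η₁ hη₁) y' hy'
  set x : ℤ := x' - 1 with hx_
  set y : ℤ := y' + a with hy_
  choose! d hd hdmin using hmin
  have hd1 : d χ₁ = e * a := Nat.cast_injective (R := ℂ) ((hd χ₁ hχ₁).symm.trans hχd)
  have hcX : ∀ χ ∈ X, classInner β (σ χ) =
      ((((if χ = χ₁ then 1 else 0) : ℝ) + (d χ : ℝ) * (x : ℝ) / (e * a : ℝ) : ℝ) : ℂ) := by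
    intro χ hχ
    have hz1 := zspan_subset_mem (S := (↑X : Set (L → ℂ))) hχ
    have hz2 := zspan_subset_mem (S := (↑X : Set (L → ℂ))) hχ₁
    set γ := ((e * a : ℕ) : ℂ) • χ - (d χ : ℂ) • χ₁ with hγ
    have hγm : γ ∈ zspanOn (↑X : Set (L → ℂ)) {1}ᶜ := mem_zspanOn_one_iff.2
      ⟨zspan_sub (zspan_natSmul _ hz1) (zspan_natSmul _ hz2), by
        rw [hγ, Pi.sub_apply, Pi.smul_apply, Pi.smul_apply, smul_eq_mul, smul_eq_mul, hd χ hχ, hχd]; ring⟩
    have h := hS.isometry.2.2.1 _ hβmem _ (zspanOn_mono hXS hγm)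
    rw [← hβ, ← hσα γ hγm, hγ, iso_sub_zspan hσ (zspan_natSmul _ hz1) (zspan_natSmul _ hz2),
      iso_natSmul hσ hz1, iso_natSmul hσ hz2] at h
    simp only [classInner_sub_left, classInner_sub_right, classInner_smul_left, classInner_smul_right,
      map_natCast, horth _ (hXS hχ₁) _ (hXS hχ), horth _ (hXS hχ₁) _ (hXS hχ₁),
      horth _ (hYS hη₁) _ (hXS hχ), horth _ (hYS hη₁) _ (hXS hχ₁), if_pos, if_neg (hne' _ hχ _ hη₁).symm,
      if_neg (hne' _ hχ₁ _ hη₁).symm, hx', eq_comm (a := χ₁) (b := χ)] at h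
    have hea : ((e * a : ℕ) : ℂ) ≠ 0 := Nat.cast_ne_zero.2 (Nat.mul_pos he ha).ne'
    have he' : (e : ℂ) ≠ 0 := Nat.cast_ne_zero.2 he.ne'
    have ha' : (a : ℂ) ≠ 0 := Nat.cast_ne_zero.2 ha.ne'
    apply mul_left_cancel₀ hea
    push_cast [apply_ite (fun r : ℝ => (r : ℂ)), hx_] at h hea ⊢
    field_simp
    linear_combination h
  have hcY : ∀ η ∈ Y, classInner β (τY η) =
      (((y : ℝ) - (if η = η₁ then (a : ℝ) else 0) : ℝ) : ℂ) := by
    intro η hη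
    have hz1 := zspan_subset_mem (S := (↑Y : Set (L → ℂ))) hη
    have hz2 := zspan_subset_mem (S := (↑Y : Set (L → ℂ))) hη₁
    have hγm : η - η₁ ∈ zspanOn (↑Y : Set (L → ℂ)) {1}ᶜ := mem_zspanOn_one_iff.2
      ⟨zspan_sub hz1 hz2, by rw [Pi.sub_apply, hYd η hη, hYd η₁ hη₁, sub_self]⟩
    have h := hS.isometry.2.2.1 _ hβmem _ (zspanOn_mono hYS hγm)
    rw [← hβ, ← hτα _ hγm, iso_sub_zspan hτ hz1 hz2] at h
    simp only [classInner_sub_left, classInner_sub_right, classInner_smul_left,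
      horth _ (hXS hχ₁) _ (hYS hη), horth _ (hXS hχ₁) _ (hYS hη₁), horth _ (hYS hη₁) _ (hYS hη),
      horth _ (hYS hη₁) _ (hYS hη₁), if_pos, if_neg (hne' _ hχ₁ _ hη),
      if_neg (hne' _ hχ₁ _ hη₁), hy', eq_comm (a := η₁) (b := η)] at h
    push_cast [apply_ite (fun r : ℝ => (r : ℂ)), hy_]
    split_ifs with h' <;> simp only [h', if_true, if_false] at h ⊢ <;> linear_combination h
  -- Bessel
  have hres := residual_norm (X.disjSum Y) (Sum.elim σ τY) (fun _ => 1) (fun _ _ => one_ne_zero)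
    (fun i hi => by
      rcases Finset.mem_disjSum.1 hi with ⟨χ, hχ, rfl⟩ | ⟨η, hη, rfl⟩
      · simp only [Sum.elim_inl, hσ.2.2.1 _ (zspan_subset_mem (Finset.mem_coe.2 hχ)) _
          (zspan_subset_mem (Finset.mem_coe.2 hχ)), horth _ (hXS hχ) _ (hXS hχ), if_pos, Complex.ofReal_one]
      · simp only [Sum.elim_inr, hτ.2.2.1 _ (zspan_subset_mem (Finset.mem_coe.2 hη)) _
          (zspan_subset_mem (Finset.mem_coe.2 hη)), horth _ (hYS hη) _ (hYS hη), if_pos, Complex.ofReal_one])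
    (fun i hi j hj hij => by
      rcases Finset.mem_disjSum.1 hi with ⟨χ, hχ, rfl⟩ | ⟨η, hη, rfl⟩ <;>
        rcases Finset.mem_disjSum.1 hj with ⟨χ', hχ', rfl⟩ | ⟨η', hη', rfl⟩
      · simp only [Sum.elim_inl, hσ.2.2.1 _ (zspan_subset_mem (Finset.mem_coe.2 hχ)) _
          (zspan_subset_mem (Finset.mem_coe.2 hχ')), horth _ (hXS hχ) _ (hXS hχ'),
          if_neg (fun h => hij (congrArg Sum.inl h))]
      · exact horthστ χ hχ η' hη'
      · simp only [Sum.elim_inl, Sum.elim_inr]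
        rw [← classInner_conj, horthστ χ' hχ' η hη, map_zero]
      · simp only [Sum.elim_inr, hτ.2.2.1 _ (zspan_subset_mem (Finset.mem_coe.2 hη)) _
          (zspan_subset_mem (Finset.mem_coe.2 hη')), horth _ (hYS hη) _ (hYS hη'),
          if_neg (fun h => hij (congrArg Sum.inr h))])
    β (Sum.elim (fun χ => ((if χ = χ₁ then 1 else 0) : ℝ) + (d χ : ℝ) * (x : ℝ) / (e * a : ℝ))
      (fun η => (y : ℝ) - (if η = η₁ then (a : ℝ) else 0)))
    (fun i hi => by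
      rcases Finset.mem_disjSum.1 hi with ⟨χ, hχ, rfl⟩ | ⟨η, hη, rfl⟩
      · simpa using hcX χ hχ
      · simpa using hcY η hη)
  have hre : (classInner β β).re = 1 + (a : ℝ) * a := by rw [hββ]; simp
  set Q : ℝ := ∑ χ ∈ X, ((d χ : ℝ) / (e * a : ℝ)) ^ 2 with hQ
  have hea' : (0 : ℝ) < (e : ℝ) * a := by positivity
  have hsumX : ∑ χ ∈ X, ((if χ = χ₁ then (1 : ℝ) else 0) + (d χ : ℝ) * (x : ℝ) / (e * a : ℝ)) ^ 2 =
      1 + 2 * x + (x : ℝ) ^ 2 * Q := by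
    rw [← Finset.add_sum_erase _ _ hχ₁, hQ, ← Finset.add_sum_erase (f := fun χ => ((d χ : ℝ) / (e * a : ℝ)) ^ 2) _ hχ₁,
      Finset.sum_congr rfl (s₁ := X.erase χ₁) (g := fun χ => (x : ℝ) ^ 2 * ((d χ : ℝ) / (e * a : ℝ)) ^ 2)
        fun χ hχ => by rw [if_neg (Finset.mem_erase.1 hχ).1]; ring,
      ← Finset.mul_sum, if_pos rfl, hd1]
    push_cast
    field_simp
    ring
  have hsumY : ∑ η ∈ Y, ((y : ℝ) - (if η = η₁ then (a : ℝ) else 0)) ^ 2 =
      (Y.card : ℝ) * (y : ℝ) ^ 2 - 2 * a * y + (a : ℝ) * a := by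
    rw [← Finset.add_sum_erase _ _ hη₁, if_pos rfl, Finset.sum_congr rfl (g := fun _ => (y : ℝ) ^ 2)
      fun η hη => by rw [if_neg (Finset.mem_erase.1 hη).1, sub_zero], Finset.sum_const, nsmul_eq_mul,
      Finset.card_erase_of_mem hη₁, Nat.cast_sub (Finset.card_pos.2 ⟨η₁, hη₁⟩), Nat.cast_one]
    ring
  have hineq : (x : ℝ) ^ 2 * Q + 2 * x + ((Y.card : ℝ) * (y : ℝ) ^ 2 - 2 * a * y) ≤ 0 := by
    have h := classInner_self_re_nonneg (β - ∑ i ∈ X.disjSum Y, (((Sum.elim (fun χ => ((if χ = χ₁ then 1 else 0) : ℝ) + (d χ : ℝ) * (x : ℝ) / (e * a : ℝ))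
      (fun η => (y : ℝ) - (if η = η₁ then (a : ℝ) else 0)) i) / 1 : ℝ) : ℂ) • Sum.elim σ τY i)
    rw [hres.2, hre, Finset.sum_disjSum] at h
    simp only [Sum.elim_inl, Sum.elim_inr, div_one, hsumX, hsumY] at h
    linarith
  -- two conjugate elements of minimal degree
  have hQ2 : ((X.filter fun χ => χ = χ₁ ∨ χ = Cfsg.conjFun χ₁).card : ℝ) = 2 := by
    rw [show X.filter (fun χ => χ = χ₁ ∨ χ = Cfsg.conjFun χ₁) = {χ₁, Cfsg.conjFun χ₁} by
      ext φ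
      simp only [Finset.mem_filter, Finset.mem_insert, Finset.mem_singleton, and_iff_right_iff_imp]
      rintro (rfl | rfl); exacts [hχ₁, hXc _ hχ₁],
      Finset.card_pair (hne χ₁ (hXS hχ₁)).symm]
    norm_num
  have hQge : (X.card : ℝ) ≤ Q := by
    rw [Finset.cast_card, hQ]
    refine Finset.sum_le_sum fun χ hχ => ?_
    rw [one_le_sq_iff₀ (by positivity), one_le_div hea']
    exact_mod_cast hdmin χ hχ
  have hX2' : (2 : ℝ) ≤ (X.card : ℝ) := by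
    rw [← hQ2]; exact Nat.cast_le.2 (Finset.card_filter_le _ _)
  have hY2' : (2 : ℤ) ≤ (Y.card : ℤ) := by
    have h : ({η₁, Cfsg.conjFun η₁} : Finset (L → ℂ)) ⊆ Y := by
      simp [Finset.insert_subset_iff, hη₁, hYc η₁ hη₁]
    have := Finset.card_le_card h
    rw [Finset.card_pair (hne η₁ (hYS hη₁)).symm] at this
    exact_mod_cast this
  have hxnn : (0 : ℝ) ≤ (x : ℝ) ^ 2 * Q + 2 * x := by
    rcases (show x = -1 ∨ x = 0 ∨ 1 ≤ x ∨ x ≤ -2 by omega) with h | h | h | h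
    · rw [h]; push_cast; linarith
    · rw [h]; simp
    · have : (1 : ℝ) ≤ (x : ℝ) := by exact_mod_cast h
      nlinarith
    · have : (x : ℝ) ≤ -2 := by exact_mod_cast h
      nlinarith
  have hy_div : (y : ℤ) = a * (w + 1) := by rw [hy_, hw]; ring
  set k : ℤ := w + 1 with hk
  have hyR : (y : ℝ) = (a : ℝ) * (k : ℝ) := by rw [hy_div]; push_cast; ring
  rw [hyR] at hineq
  have haR : (0 : ℝ) < a := Nat.cast_pos.2 ha
  have hk0 : k * ((Y.card : ℤ) * k - 2) ≤ 0 := by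
    have : (k : ℝ) * ((Y.card : ℝ) * k - 2) ≤ 0 := by
      by_contra h
      have := mul_pos (mul_pos haR haR) (not_le.1 h)
      nlinarith
    exact_mod_cast this
  have hkcases : k = 0 ∨ (k = 1 ∧ (Y.card : ℤ) = 2) := by
    rcases (show k ≤ -1 ∨ k = 0 ∨ k = 1 ∨ 2 ≤ k by omega) with h | h | h | h
    · have h1 : (Y.card : ℤ) * k ≤ 2 * k := mul_le_mul_of_nonpos_right hY2' (by omega)
      nlinarith
    · exact Or.inl h
    · rw [h] at hk0; exact Or.inr ⟨h, by omega⟩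
    · have h1 : 2 * k ≤ (Y.card : ℤ) * k := mul_le_mul_of_nonneg_right hY2' (by omega)
      nlinarith
  have hy0 : (Y.card : ℝ) * ((a : ℝ) * k) ^ 2 - 2 * a * ((a : ℝ) * k) = 0 := by
    rcases hkcases with h | ⟨h, h'⟩
    · rw [h]; simp
    · rw [h, show (Y.card : ℝ) = 2 by exact_mod_cast h']; push_cast; ring
  have hxcases : x = 0 ∨ (x = -1 ∧ X.filter (fun χ => χ = χ₁ ∨ χ = Cfsg.conjFun χ₁) = X) := by
    rcases (show x = -1 ∨ x = 0 ∨ 1 ≤ x ∨ x ≤ -2 by omega) with h | h | h | h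
    · refine Or.inr ⟨h, Finset.eq_of_subset_of_card_le (Finset.filter_subset _ _) ?_⟩
      rw [h] at hineq
      push_cast at hineq
      have hX : (X.card : ℝ) ≤ 2 := by linarith
      exact_mod_cast hX.trans hQ2.symm.le
    · exact Or.inl h
    · have : (1 : ℝ) ≤ (x : ℝ) := by exact_mod_cast h
      nlinarith
    · have : (x : ℝ) ≤ -2 := by exact_mod_cast h
      nlinarith
  -- choose the isometries
  obtain ⟨σ', hσ', hσ'α, hx1⟩ : ∃ σ', IsLinearIsometryOn (zspan (↑X : Set (L → ℂ))) σ' ∧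
      (∀ α ∈ zspanOn (↑X : Set (L → ℂ)) {1}ᶜ, σ' α = τ α) ∧ classInner β (σ' χ₁) = 1 := by
    rcases hxcases with h | ⟨h, hX⟩
    · exact ⟨σ, hσ, hσα, by rw [hx', show x' = 1 by omega, Int.cast_one]⟩
    · obtain ⟨h1, h2⟩ := exists_flip (fun φ hφ => hS.isCharacter φ (hXS hφ))
        (fun φ hφ => (Finset.mem_filter.1 ((Finset.ext_iff.1 hX φ).2 (Finset.mem_coe.1 hφ))).2) hχ₁ (hXc χ₁ hχ₁)
        (cs_conj_one hS (hXS hχ₁)) (cs_degree_pos hS (hXS hχ₁)) hσ hσα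
      refine ⟨_, h1, h2, ?_⟩
      show classInner β (-σ (Cfsg.conjFun χ₁)) = 1
      have hdc : d (Cfsg.conjFun χ₁) = e * a := Nat.cast_injective (R := ℂ)
        ((hd _ (hXc χ₁ hχ₁)).symm.trans ((cs_conj_one hS (hXS hχ₁)).trans hχd))
      rw [classInner_neg_right, hcX _ (hXc χ₁ hχ₁), if_neg (hne χ₁ (hXS hχ₁)), hdc, h]
      have he' : (e : ℂ) ≠ 0 := Nat.cast_ne_zero.2 he.ne'
      have ha' : (a : ℂ) ≠ 0 := Nat.cast_ne_zero.2 ha.ne'
      push_cast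
      field_simp
      ring
  obtain ⟨τ', hτ', hτ'α, hy1⟩ : ∃ τ', IsLinearIsometryOn (zspan (↑Y : Set (L → ℂ))) τ' ∧
      (∀ α ∈ zspanOn (↑Y : Set (L → ℂ)) {1}ᶜ, τ' α = τ α) ∧ classInner β (τ' η₁) = -(a : ℂ) := by
    rcases hkcases with h | ⟨h, hY⟩
    · refine ⟨τY, hτ, hτα, ?_⟩
      rw [hy', hw, show w = -1 by omega]
      push_cast; ring
    · have hYeq : ({η₁, Cfsg.conjFun η₁} : Finset (L → ℂ)) = Y := by
        refine Finset.eq_of_subset_of_card_le (by simp [Finset.insert_subset_iff, hη₁, hYc η₁ hη₁]) ?_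
        rw [Finset.card_pair (hne η₁ (hYS hη₁)).symm]
        exact_mod_cast hY.le
      obtain ⟨h1, h2⟩ := exists_flip (fun φ hφ => hS.isCharacter φ (hYS hφ))
        (fun φ hφ => by
          have := Finset.mem_coe.1 hφ
          rw [← hYeq] at this
          simpa using this) hη₁ (hYc η₁ hη₁)
        (cs_conj_one hS (hYS hη₁)) (cs_degree_pos hS (hYS hη₁)) hτ hτα
      refine ⟨_, h1, h2, ?_⟩
      show classInner β (-τY (Cfsg.conjFun η₁)) = -(a : ℂ)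
      rw [classInner_neg_right, hcY _ (hYc η₁ hη₁), if_neg (hne η₁ (hYS hη₁)), sub_zero, hyR, h]
      push_cast; ring
  exact hfinish σ' τ' hσ' hσ'α hτ' hτ'α hx1 hy1

end Glue

end CfsgLib.Char
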