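import Mathlib
import Cfsg.Agent.Lib.Char.SibleyTI

/-!
# Sibley's theorem for TI Frobenius kernels of odd order normalizers
-/

set_option autoImplicit false
set_option linter.unusedSectionVars false
set_option linter.style.haveILetI false

namespace CfsgLib.Char

open scoped ComplexConjugate commutatorElement
open Cfsg

universe u

variable {G : Type u} [Group G] [Fintype G]

theorem exists_sylow_eq (H : Subgroup G) [Fintype ↥(Subgroup.normalizer (H : Set G))] {p : ℕ} [Fact p.Prime]
    (hpg : IsPGroup p H) (hcop : Nat.Coprime (H.subgroupOf (Subgroup.normalizer (H : Set G))).index p) :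
    ∃ P : Sylow p G, (P : Subgroup G) = H := by
  obtain ⟨Q, hQ⟩ := hpg.exists_le_sylow
  refine ⟨Q, le_antisymm ?_ hQ⟩
  haveI : Group.IsNilpotent (Q : Subgroup G) := Q.2.isNilpotent
  by_contra hne
  have hlt : H.subgroupOf Q < ⊤ := lt_top_iff_ne_top.2 fun h => hne (Subgroup.subgroupOf_eq_top.1 h)
  obtain ⟨x, hxn, hx⟩ := SetLike.exists_of_lt (Group.normalizerCondition_of_isNilpotent _ hlt)
  have hxN : (x : G) ∈ Subgroup.normalizer (H : Set G) := by
    rw [Subgroup.mem_normalizer_iff]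
    intro h
    constructor
    · intro hh
      have := (Subgroup.mem_normalizer_iff.1 hxn ⟨h, hQ hh⟩).1 hh
      exact this
    · intro hh
      have hhQ : h ∈ (Q : Subgroup G) := by
        have := (Q : Subgroup G).mul_mem ((Q : Subgroup G).mul_mem ((Q : Subgroup G).inv_mem x.2) (hQ hh)) x.2
        simpa [mul_assoc] using this
      exact (Subgroup.mem_normalizer_iff.1 hxn ⟨h, hhQ⟩).2 hh
  haveI : (H.subgroupOf (Subgroup.normalizer (H : Set G))).Normal := Subgroup.normal_in_normalizer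
  have h1 : orderOf (QuotientGroup.mk (s := H.subgroupOf (Subgroup.normalizer (H : Set G)))
      (⟨x, hxN⟩ : ↥(Subgroup.normalizer (H : Set G)))) ∣ (H.subgroupOf (Subgroup.normalizer (H : Set G))).index := by
    rw [Subgroup.index_eq_card]
    exact orderOf_dvd_natCard _
  obtain ⟨n, hn⟩ := IsPGroup.iff_card.1 Q.2
  have h2 : orderOf (QuotientGroup.mk (s := H.subgroupOf (Subgroup.normalizer (H : Set G)))
      (⟨x, hxN⟩ : ↥(Subgroup.normalizer (H : Set G)))) ∣ p ^ n := by
    refine (orderOf_map_dvd (QuotientGroup.mk' _) _).trans ?_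
    rw [Subgroup.orderOf_mk, Subgroup.orderOf_coe, ← hn]
    exact orderOf_dvd_natCard _
  have h3 := Nat.eq_one_of_dvd_coprimes (hcop.pow_right n) h1 h2
  exact hx (Subgroup.mem_subgroupOf.2
    ((QuotientGroup.eq_one_iff (⟨(x : G), hxN⟩ : ↥(Subgroup.normalizer (H : Set G)))).1 (orderOf_eq_one_iff.1 h3)))

/-- The case of a non-abelian kernel of prime power order. -/
theorem sibley_pgroup {p : ℕ} [Fact p.Prime] (P : Sylow p G)
    [Fintype ↥(Subgroup.normalizer ((P : Subgroup G) : Set G))] (hTI : IsTISubset ((P : Subgroup G) : Set G))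
    (hodd : Odd (Nat.card (Subgroup.normalizer ((P : Subgroup G) : Set G))))
    (hC : ∀ k ∈ (P : Subgroup G), k ≠ 1 →
      Subgroup.normalizer ((P : Subgroup G) : Set G) ⊓ Subgroup.centralizer ({k} : Set G) ≤ P)
    (hlt : (P : Subgroup G) < Subgroup.normalizer ((P : Subgroup G) : Set G))
    (hP : (P : Subgroup G) ≠ ⊥)
    (hnab : ⁅(P : Subgroup G).subgroupOf (Subgroup.normalizer ((P : Subgroup G) : Set G)),
      (P : Subgroup G).subgroupOf (Subgroup.normalizer ((P : Subgroup G) : Set G))⁆ ≠ ⊥) :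
    IsCoherent (inducedIrrAbove ((P : Subgroup G).subgroupOf (Subgroup.normalizer ((P : Subgroup G) : Set G))) ⊥)
      {1}ᶜ (fun α => indFun (Subgroup.normalizer ((P : Subgroup G) : Set G)) α) := by
  classical
  haveI := Subgroup.normal_in_normalizer (H := (P : Subgroup G))
  obtain ⟨hC', hsolv, hnil, htop, hbot, R, hS⟩ :=
    exists_coherenceSystem_TI (P : Subgroup G) hTI hodd P.2.isNilpotent hP hC hlt
  set τ : (↥(Subgroup.normalizer ((P : Subgroup G) : Set G)) → ℂ) → (G → ℂ) :=
    fun α => indFun (Subgroup.normalizer ((P : Subgroup G) : Set G)) α with hτ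
  have hnormal : ((P : Subgroup G).subgroupOf (Subgroup.normalizer ((P : Subgroup G) : Set G))).Normal :=
    inferInstance
  have hcardK : Nat.card ((P : Subgroup G).subgroupOf (Subgroup.normalizer ((P : Subgroup G) : Set G))) =
      Nat.card (P : Subgroup G) :=
    Nat.card_congr (Subgroup.subgroupOfEquivOfLe Subgroup.le_normalizer).toEquiv
  generalize hKdef : (P : Subgroup G).subgroupOf (Subgroup.normalizer ((P : Subgroup G) : Set G)) = K at *
  haveI := hnormal
  haveI := hnil
  haveI := hsolv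
  haveI : Fintype K := Fintype.ofFinite K
  set e := K.index with he
  have he0 : 0 < e := Nat.pos_of_ne_zero Subgroup.index_ne_zero_of_finite
  have hirr : ∀ φ ∈ inducedIrrAbove K ⊥, IsIrrCharacter _ φ := fun φ hφ => isIrr_inducedIrrAbove K hC' hφ
  -- the central subgroup
  set Z := ⁅K, K⁆ ⊓ Subgroup.centralizer (K : Set ↥(Subgroup.normalizer ((P : Subgroup G) : Set G))) with hZ
  have hZK : Z ≤ K := inf_le_left.trans (Subgroup.commutator_le_self K)
  have hZc : ∀ z ∈ Z, ∀ k ∈ K, z * k = k * z := fun z hz k hk =>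
    ((Subgroup.mem_centralizer_iff.1 hz.2) k hk).symm
  have hH₁K : ⁅K, K⁆ < K := by
    haveI : Nontrivial K := (Subgroup.nontrivial_iff_ne_bot K).2 hbot
    refine lt_of_le_of_ne (Subgroup.commutator_le_self K) fun h => ?_
    refine (Group.IsSolvable.commutator_lt_top_of_nontrivial K).ne ?_
    apply Subgroup.map_injective K.subtype_injective
    rw [commutator_def, Subgroup.map_commutator, ← MonoidHom.range_eq_map, K.range_subtype, h]
  have hZne : Z ≠ ⊥ := by
    intro hbot'
    apply CfsgLib.Coprime.nilpotent_inf_center_ne_bot (G := K) (⁅K, K⁆.subgroupOf K)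
      (fun h => hnab (disjoint_self.1
        ((Subgroup.subgroupOf_eq_bot.1 h).mono_right (Subgroup.commutator_le_self K))))
    rw [Subgroup.eq_bot_iff_forall]
    intro x hx
    have : (x : ↥(Subgroup.normalizer ((P : Subgroup G) : Set G))) ∈ Z := ⟨hx.1, Subgroup.mem_centralizer_iff.2
      fun k hk => congrArg Subtype.val (Subgroup.mem_center_iff.1 hx.2 ⟨k, hk⟩)⟩
    rw [hbot', Subgroup.mem_bot] at this
    exact Subtype.ext this
  have hab : ∀ x ∈ K, ∀ y ∈ K, x * y * x⁻¹ * y⁻¹ ∈ ⁅K, K⁆ := fun x hx y hy =>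
    Subgroup.commutator_mem_commutator hx hy
  have hfrob : ∀ k ∈ K, k ∉ ⁅K, K⁆ → ∀ x, x * k * x⁻¹ * k⁻¹ ∈ ⁅K, K⁆ → x ∈ K := fun k hk hk' x hx =>
    mem_of_commutator_mem K hC' (Subgroup.commutator_le_self K) hab hk hk' hx
  have hdiff := diff_inducedIrrAbove_eq K hZK (Z := Z) fun χ hχ => hirr χ hχ.1
  have hcX := coherent_central K hsolv hS hodd hnil hH₁K hfrob hZne hZK hZc fun χ hχ => hirr χ hχ.1
  have hcY := coherent_abelian_section K hsolv hS (relIndex_ne_one_of_lt K hH₁K) hab
  have hfin := cs_finite hS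
  set X := hfin.toFinset.filter (fun φ => φ ∉ inducedIrrAbove K Z) with hX
  have hXset : (X : Set (↥(Subgroup.normalizer ((P : Subgroup G) : Set G)) → ℂ)) =
      inducedIrrAbove K ⊥ \ inducedIrrAbove K Z := by
    ext φ
    rw [hX, Finset.coe_filter, Set.mem_ofPred_eq, hfin.mem_toFinset]
    rfl
  set Y := (hfin.subset (inducedIrrAbove_mono K (bot_le : ⊥ ≤ ⁅K, K⁆))).toFinset with hY
  have hYset : (Y : Set (↥(Subgroup.normalizer ((P : Subgroup G) : Set G)) → ℂ)) = inducedIrrAbove K ⁅K, K⁆ :=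
    Set.Finite.coe_toFinset _
  have hXm : ∀ φ, φ ∈ X ↔ φ ∈ inducedIrrAbove K ⊥ ∧ φ ∉ inducedIrrAbove K Z := fun φ => by
    rw [hX, Finset.mem_filter, hfin.mem_toFinset]
  have hYm : ∀ φ, φ ∈ Y ↔ φ ∈ inducedIrrAbove K ⁅K, K⁆ := fun φ => by rw [← Finset.mem_coe, hYset]
  have hXc : ∀ φ ∈ X, Cfsg.conjFun φ ∈ X := fun φ hφ => (hXm _).2
    ⟨inducedIrrAbove_conj_mem K ⊥ ((hXm φ).1 hφ).1, fun h => ((hXm φ).1 hφ).2
      (cs_conj_conj φ ▸ inducedIrrAbove_conj_mem K Z h)⟩
  have hYc : ∀ φ ∈ Y, Cfsg.conjFun φ ∈ Y := fun φ hφ => (hYm _).2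
    (inducedIrrAbove_conj_mem K _ ((hYm φ).1 hφ))
  have hXY : Disjoint X Y := Finset.disjoint_left.2 fun φ h1 h2 => ((hXm φ).1 h1).2
    (inducedIrrAbove_mono K inf_le_left ((hYm φ).1 h2))
  -- the weight of `X`
  set t := (hfin.subset (inducedIrrAbove_mono K (bot_le : ⊥ ≤ Z))).toFinset with ht
  have hXsum : ∑ χ ∈ X, χ 1 ^ 2 = (e : ℂ) * (Nat.card (P : Subgroup G) : ℂ) - (e : ℂ) * (Z.relIndex K : ℂ) := by
    have h2 := sum_sq_inducedIrrAbove K ⊥ hfin.toFinset hfin.coe_toFinset
    have h3 := sum_sq_inducedIrrAbove K Z t (Set.Finite.coe_toFinset _)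
    rw [← Finset.sum_filter_add_sum_filter_not hfin.toFinset (fun φ => φ ∉ inducedIrrAbove K Z), ← hX,
      Subgroup.relIndex_bot_left, hcardK] at h2
    rw [show hfin.toFinset.filter (fun φ => ¬ φ ∉ inducedIrrAbove K Z) = t by
      ext φ
      simp only [ht, Finset.mem_filter, Set.Finite.mem_toFinset, not_not]
      exact ⟨fun h => h.2, fun h => ⟨inducedIrrAbove_mono K bot_le h, h⟩⟩, h3] at h2
    rw [Finset.sum_congr rfl (g := fun χ => χ 1 ^ 2) fun χ hχ => by
      rw [show classInner χ χ = 1 from classInner_irr_self ⟨χ, hirr χ ((hXm χ).1 hχ).1⟩, div_one]] at h2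
    linear_combination h2
  -- the elements of least degree
  have hd : ∀ φ, ∃ b : ℕ, φ ∈ inducedIrrAbove K ⊥ → 0 < b ∧ φ 1 = ((e * b : ℕ) : ℂ) := fun φ => by
    by_cases h : φ ∈ inducedIrrAbove K ⊥
    · exact (inducedIrrAbove_degree K h).imp fun _ h' _ => h'
    · exact ⟨0, fun h' => absurd h' h⟩
  choose b hb using hd
  have hXne : X.Nonempty := by
    obtain ⟨φ, hφ⟩ : (inducedIrrAbove K ⊥ \ inducedIrrAbove K Z).Nonempty := by
      obtain ⟨z, hz⟩ := Subgroup.ne_bot_iff_exists_ne_one.1 hZne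
      obtain ⟨χ, hχ⟩ : ∃ χ : IrrCharacter ↥(Subgroup.normalizer ((P : Subgroup G) : Set G)),
          (χ : ↥(Subgroup.normalizer ((P : Subgroup G) : Set G)) → ℂ) z ≠
            (χ : ↥(Subgroup.normalizer ((P : Subgroup G) : Set G)) → ℂ) 1 := by
        by_contra! hall
        exact hz (Subtype.ext (isConj_one_left.1 (isConj_of_irr_agree hall)))
      exact ⟨χ, hdiff ▸ ⟨χ.2, z, z.2, hχ⟩⟩
    exact ⟨φ, (hXm φ).2 hφ⟩
  obtain ⟨χ₁, hχ₁, hmin⟩ := Finset.exists_min_image X b hXne
  obtain ⟨ha, hχd⟩ := hb χ₁ ((hXm χ₁).1 hχ₁).1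
  obtain ⟨η₁, hη₁, hη₁d⟩ := exists_inducedIrrAbove_degree K hsolv ⁅K, K⁆ (relIndex_ne_one_of_lt K hH₁K)
  have hYd : ∀ η ∈ Y, η 1 = (e : ℂ) := by
    intro η hη
    obtain ⟨θ, h1, -, h3, rfl⟩ := (hYm η).1 hη
    obtain ⟨c, hc0, hc⟩ := isIrrCharacter_degree h1
    have h := degree_sq_le_of_central_section ⟨θ, h1⟩ h3 (D := K) (C := K) le_rfl le_rfl hab hc
    rw [Subgroup.relIndex_self, one_pow, one_mul] at h
    rw [indFun_one, hc, show c = 1 by nlinarith, Nat.cast_one, mul_one]
  have hlin : ∀ (c : ℂ) (f : ↥(Subgroup.normalizer ((P : Subgroup G) : Set G)) → ℂ), τ (c • f) = c • τ f :=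
    fun c f => indFun_smul _ c f
  have hXS : ↑X ⊆ inducedIrrAbove K ⊥ := fun φ h => ((hXm φ).1 h).1
  have hYS : ↑Y ⊆ inducedIrrAbove K ⊥ := fun φ h => inducedIrrAbove_mono K bot_le ((hYm φ).1 h)
  have hunion := coherent_glue hS hirr hlin X Y hXS hYS hXY hXc hYc (by rwa [hXset]) (by rwa [hYset])
    hχ₁ ((hYm η₁).2 hη₁) he0 ha hχd hYd
    (fun χ hχ => ⟨e * b χ, (hb χ (hXS hχ)).2, Nat.mul_le_mul_left e (hmin χ hχ)⟩)
    (fun σ τY hσ hτY hσα hτα horth z hz => by
      have hη : η₁ ∈ Y := (hYm η₁).2 hη₁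
      have hm := zspan_subset_mem (S := (↑Y : Set (↥(Subgroup.normalizer ((P : Subgroup G) : Set G)) → ℂ))) hη
      obtain ⟨ε, hε, hεirr⟩ : ∃ ε : ℤ, (ε = 1 ∨ ε = -1) ∧ IsIrrCharacter G ((ε : ℂ) • τY η₁) := by
        rcases irr_or_neg_of_norm_one (hτY.2.2.2 _ hm) (by
          rw [hτY.2.2.1 _ hm _ hm]; exact classInner_irr_self ⟨η₁, hirr _ (hYS hη)⟩) with h | h
        · exact ⟨1, Or.inl rfl, by rwa [Int.cast_one, one_smul]⟩
        · exact ⟨-1, Or.inr rfl, by rwa [Int.cast_neg, Int.cast_one, neg_one_smul]⟩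
      have hεε : (ε : ℂ) * ε = 1 := by rcases hε with h | h <;> simp [h]
      set ψ : IrrCharacter G := ⟨_, hεirr⟩ with hψ
      set f : ↥(Subgroup.normalizer ((P : Subgroup G) : Set G)) → ℂ := fun x => (ψ : G → ℂ) x with hf
      have hfc : IsCharacter ↥(Subgroup.normalizer ((P : Subgroup G) : Set G)) f :=
        isCharacter_comp (isCharacter_irr ψ) (Subgroup.normalizer ((P : Subgroup G) : Set G)).subtype
      have hgen : ∀ φ ∈ inducedIrrAbove K ⊥, ∃ k : ℕ, classInner f φ = k := fun φ hφ =>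
        classInner_isCharacter hfc (isCharacter_of_isIrr (hirr φ hφ))
      have hrec : ∀ φ, classInner f φ = conj (classInner (τ φ) (ψ : G → ℂ)) := fun φ => by
        show classInner f φ = conj (classInner (indFun _ φ) (ψ : G → ℂ))
        rw [classInner_conj, classInner_indFun_right _ _ _ (isClassFunction_irr ψ)]
      obtain ⟨k, hk⟩ := hgen χ₁ (hXS hχ₁)
      obtain ⟨m, hm'⟩ := hgen η₁ (hYS hη)
      have hinner : ∀ χ ∈ X, classInner f χ = χ 1 * ((k : ℤ) : ℂ) / ((e * b χ₁ : ℕ) : ℂ) := by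
        intro χ hχ
        have hd := (hb χ (hXS hχ)).2
        set γ := ((e * b χ₁ : ℕ) : ℂ) • χ - ((e * b χ : ℕ) : ℂ) • χ₁ with hγ
        have hz1 := zspan_subset_mem (S := (↑X : Set (↥(Subgroup.normalizer ((P : Subgroup G) : Set G)) → ℂ))) hχ
        have hz2 := zspan_subset_mem (S := (↑X : Set (↥(Subgroup.normalizer ((P : Subgroup G) : Set G)) → ℂ))) hχ₁
        have hγm : γ ∈ zspanOn (↑X : Set (↥(Subgroup.normalizer ((P : Subgroup G) : Set G)) → ℂ)) {1}ᶜ :=
          mem_zspanOn_one_iff.2 ⟨zspan_sub (zspan_natSmul _ hz1) (zspan_natSmul _ hz2), by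
            rw [hγ, Pi.sub_apply, Pi.smul_apply, Pi.smul_apply, smul_eq_mul, smul_eq_mul, hd, hχd]; ring⟩
        have h0 : classInner f γ = 0 := by
          rw [hrec, ← hσα γ hγm, hγ, iso_sub_zspan hσ (zspan_natSmul _ hz1) (zspan_natSmul _ hz2),
            iso_natSmul hσ hz1, iso_natSmul hσ hz2]
          show conj (classInner _ ((ε : ℂ) • τY η₁)) = 0
          rw [classInner_smul_right, classInner_sub_left, classInner_smul_left, classInner_smul_left,
            horth χ hχ, horth χ₁ hχ₁]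
          simp
        rw [hγ, classInner_sub_right, classInner_smul_right, classInner_smul_right, map_natCast, map_natCast,
          hk] at h0
        rw [eq_div_iff (Nat.cast_ne_zero.2 (Nat.mul_pos he0 ha).ne'), hd]
        push_cast at h0 ⊢
        linear_combination h0
      have hdvd := dvd_inner_of_central P hTI hodd hC Z hZne
        (by rw [hKdef]; exact hZK) (by rw [hKdef]; exact hZc) X
        (fun χ => by rw [← Finset.mem_coe, hXset, hdiff]; rfl) ha e (by rw [hKdef])
        (by rw [hKdef]; exact hXsum) ψ k hinner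
      have hzk : z = ε * ((k : ℤ) - (b χ₁ : ℤ) * m) := by
        apply Int.cast_injective (α := ℂ)
        push_cast
        have h1 : classInner f (χ₁ - (b χ₁ : ℂ) • η₁) = (ε : ℂ) * (z : ℂ) := by
          rw [hrec]
          show conj (classInner (τ _) ((ε : ℂ) • τY η₁)) = _
          rw [classInner_smul_right, hz, map_intCast, map_mul, map_intCast, map_intCast]
        rw [classInner_sub_right, classInner_smul_right, map_natCast, hk, hm'] at h1
        linear_combination (-(ε : ℂ)) * h1 - (z : ℂ) * hεε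
      rw [hzk]
      exact Dvd.dvd.mul_left (dvd_sub hdvd (dvd_mul_right _ _)) _)
  -- adjoin the remaining characters
  set d : (↥(Subgroup.normalizer ((P : Subgroup G) : Set G)) → ℂ) → ℕ := fun φ => e * b φ with hd_
  have hη : η₁ ∈ Y := (hYm η₁).2 hη₁
  have hbη : b η₁ = 1 := by
    have h := (hb η₁ (hYS hη)).2
    rw [hYd η₁ hη, Nat.cast_inj] at h
    exact (Nat.mul_eq_left he0.ne').1 h.symm
  have hZcard : 2 * e + 1 ≤ Nat.card Z := by
    obtain ⟨w, hw⟩ := index_dvd_card_sub_one K hC' hZK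
    have h1 : 1 < Nat.card Z := (Subgroup.one_lt_card_iff_ne_bot Z).2 hZne
    obtain ⟨o, ho⟩ : Odd (Nat.card Z) := hodd.of_dvd_nat (Subgroup.card_subgroup_dvd_card Z)
    obtain ⟨o', ho'⟩ : Odd e := hodd.of_dvd_nat (Subgroup.index_dvd_card K)
    rw [← he] at hw
    have : w ≠ 0 := fun h => by subst h; omega
    have : w ≠ 1 := fun h => by subst h; omega
    have : e * 2 ≤ e * w := Nat.mul_le_mul_left _ (by omega)
    omega
  have hZr : 2 ≤ Z.relIndex K := by
    have h1 : Z.relIndex K ≠ 1 := fun h =>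
      (inf_le_left.trans_lt hH₁K).not_ge (Subgroup.relIndex_eq_one.1 h)
    have h0 : Z.relIndex K ≠ 0 := Subgroup.index_ne_zero_of_finite
    omega
  obtain ⟨S₂, h12, hT2, h2S, -, h5⟩ := coherent_adjoin hS d (fun φ hφ => (hb φ hφ).2) (X ∪ Y)
    (by rw [Finset.coe_union]; exact Set.union_subset hXS hYS)
    (fun φ hφ => by
      rcases Finset.mem_union.1 hφ with h | h
      · exact Finset.mem_union_left _ (hXc φ h)
      · exact Finset.mem_union_right _ (hYc φ h))
    (by rwa [Finset.coe_union]) (Finset.mem_union_right X hη) hfin.toFinset hfin.coe_toFinset.subset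
    (fun χ _ => by simp only [hd_, hbη, mul_one]; exact dvd_mul_right _ _)
    (fun χ hχ => by
      have hχS := hfin.mem_toFinset.1 hχ
      obtain ⟨hb0, hbd⟩ := hb χ hχS
      have hb2 : b χ ^ 2 ≤ Z.relIndex K := by
        obtain ⟨θ, h1, -, -, hχe⟩ := hχS
        obtain ⟨c, hc0, hc⟩ := isIrrCharacter_degree h1
        have hbc : b χ = c := by
          have h := hbd
          rw [hχe, indFun_one, hc, ← Nat.cast_mul, Nat.cast_inj] at h
          rw [hχe]
          exact Nat.eq_of_mul_eq_mul_left he0 h.symm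
        have h := degree_sq_le_of_central_section (B := ⊥) (C := K) (D := Z) ⟨θ, h1⟩
          (fun a ha => by rw [show a = 1 from Subtype.ext (Subgroup.mem_bot.1 ha)]) hZK le_rfl
          (fun x hx y hy => by rw [Subgroup.mem_bot, ← commutatorElement_def, commutatorElement_eq_one_iff_mul_comm]; exact hZc x hx y hy)
          hc
        rw [Subgroup.relIndex_self, one_pow, one_mul] at h
        rwa [hbc]
      refine lt_of_lt_of_le ?_ (Finset.sum_le_sum_of_subset_of_nonneg Finset.subset_union_left fun φ hφ _ => ?_)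
      · have hcast : ∑ φ ∈ X, (φ 1 ^ 2 / classInner φ φ).re = (e : ℝ) * ((Z.relIndex K : ℝ) * ((Nat.card Z : ℝ) - 1)) := by
          rw [← Complex.re_sum, Finset.sum_congr rfl (g := fun χ => χ 1 ^ 2) fun χ hχ => by
            rw [show classInner χ χ = 1 from classInner_irr_self ⟨χ, hirr χ (hXS hχ)⟩, div_one], hXsum, ← hcardK]
          have hc : (Nat.card K : ℂ) = (Z.relIndex K : ℂ) * (Nat.card Z : ℂ) := by
            have h := Subgroup.relIndex_mul_relIndex ⊥ Z K bot_le hZK
            rw [Subgroup.relIndex_bot_left, Subgroup.relIndex_bot_left] at h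
            rw [← h, Nat.cast_mul, mul_comm]
          rw [hc]
          simp
          ring
        rw [hcast]
        simp only [hd_, hbη, mul_one]
        push_cast
        have h1 : (2 * e + 1 : ℝ) ≤ (Nat.card Z : ℝ) := by exact_mod_cast hZcard
        have h2 : (b χ : ℝ) ^ 2 ≤ (Z.relIndex K : ℝ) := by exact_mod_cast hb2
        have h3 : (2 : ℝ) ≤ (Z.relIndex K : ℝ) := by exact_mod_cast hZr
        have h4 : (1 : ℝ) ≤ (b χ : ℝ) := Nat.one_le_cast.2 hb0
        have hepos : (0 : ℝ) < e := Nat.cast_pos.2 he0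
        have h5 : (b χ : ℝ) < (Z.relIndex K : ℝ) := by nlinarith
        have h6 : 2 * (e : ℝ) * b χ < (Z.relIndex K : ℝ) * ((Nat.card Z : ℝ) - 1) := by nlinarith
        nlinarith
      · have hφS : φ ∈ inducedIrrAbove K ⊥ := by
          rcases Finset.mem_union.1 hφ with h | h
          · exact hXS h
          · exact hYS h
        rw [(hb φ hφS).2, show classInner φ φ = 1 from classInner_irr_self ⟨φ, hirr φ hφS⟩, div_one,
          ← Nat.cast_pow, Complex.natCast_re]
        positivity)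
  exact coherent_mono hS h5 (fun φ hφ => hT2 (hfin.mem_toFinset.2 hφ)) subset_rfl hS.nonempty hS.conj_mem

/-- Sibley's coherence theorem. -/
theorem sibley_coherence (H : Subgroup G) [Fintype ↥(Subgroup.normalizer (H : Set G))]
    (hTI : IsTISubset (H : Set G)) (hodd : Odd (Nat.card (Subgroup.normalizer (H : Set G))))
    (hnil : Group.IsNilpotent H) (hH : H ≠ ⊥)
    (hC : ∀ k ∈ H, k ≠ 1 → Subgroup.normalizer (H : Set G) ⊓ Subgroup.centralizer ({k} : Set G) ≤ H)
    (hlt : H < Subgroup.normalizer (H : Set G)) :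
    IsCoherent (inducedIrrAbove (H.subgroupOf (Subgroup.normalizer (H : Set G))) ⊥)
      {1}ᶜ (fun α => indFun (Subgroup.normalizer (H : Set G)) α) := by
  haveI := Subgroup.normal_in_normalizer (H := H)
  obtain ⟨hC', hsolv, hnil', htop, hbot, R, hS⟩ := exists_coherenceSystem_TI H hTI hodd hnil hH hC hlt
  set K := H.subgroupOf (Subgroup.normalizer (H : Set G)) with hK
  haveI := hnil'
  haveI := hsolv
  haveI : ((⊥ : Subgroup ↥(Subgroup.normalizer (H : Set G))).subgroupOf K).Normal := by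
    rw [Subgroup.bot_subgroupOf]; infer_instance
  have hH₁K : ⁅K, K⁆ < K := by
    haveI : Nontrivial K := (Subgroup.nontrivial_iff_ne_bot K).2 hbot
    refine lt_of_le_of_ne (Subgroup.commutator_le_self K) fun h => ?_
    refine (Group.IsSolvable.commutator_lt_top_of_nontrivial K).ne ?_
    apply Subgroup.map_injective K.subtype_injective
    rw [commutator_def, Subgroup.map_commutator, ← MonoidHom.range_eq_map, K.range_subtype, h]
  rcases coherent_or_small_pgroup K hsolv hS hodd (M := ⊥) bot_le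
      (Group.nilpotent_of_surjective (QuotientGroup.mk' _) (QuotientGroup.mk'_surjective _))
      (by rwa [sup_bot_eq]) (by
        rw [sup_bot_eq]
        exact fun k hk hk' x hx => mem_of_commutator_mem K hC' (Subgroup.commutator_le_self K)
          (fun x hx y hy => Subgroup.commutator_mem_commutator hx hy) hk hk' hx) with
    h | ⟨-, -, hnab, p, m, hp, hm, -, -, -, -, hcop⟩
  · exact h
  haveI := Fact.mk hp
  rw [Subgroup.relIndex_bot_left, hK, Nat.card_congr (Subgroup.subgroupOfEquivOfLe Subgroup.le_normalizer).toEquiv] at hm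
  obtain ⟨P, rfl⟩ := exists_sylow_eq H (IsPGroup.of_card hm) hcop
  exact sibley_pgroup P hTI hodd hC hlt hH fun h => hnab (le_bot_iff.2 h)

end CfsgLib.Char
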