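import Mathlib
import Cfsg.Agent.Lib.Char.SibleyMain
import Cfsg.Agent.Lib.Char.ExceptionalConst
import Cfsg.Agent.Lib.PGroup.FixedPointFree

/-!
# Exceptional characters of a TI Frobenius kernel of odd order normalizer
-/

set_option autoImplicit false
set_option linter.unusedSectionVars false
set_option linter.style.haveILetI false

namespace CfsgLib.Char

open scoped ComplexConjugate
open Cfsg

universe u

variable {G : Type u} [Group G] [Fintype G]

/-- A TI subgroup, proper in its normalizer, containing the centralizers of its non-identity elements. -/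
structure IsTIKernel (H : Subgroup G) : Prop where
  ti : IsTISubset (H : Set G)
  cent : ∀ k ∈ H, k ≠ 1 → Subgroup.centralizer ({k} : Set G) ≤ H
  ne_bot : H ≠ ⊥
  lt : H < Subgroup.normalizer (H : Set G)

/-- The data of a coherent exceptional set. -/
structure KData (H : Subgroup G) where
  ε : ℤ
  θ : Exc H → IrrCharacter G
  sign : ε = 1 ∨ ε = -1
  inj : Function.Injective θ
  ind : ∀ χ ξ : Exc H, indFun (Subgroup.normalizer (H : Set G))
    ((ξ.1 : ↥(Subgroup.normalizer (H : Set G)) → ℂ) 1 • (χ.1 : ↥(Subgroup.normalizer (H : Set G)) → ℂ) -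
      (χ.1 : ↥(Subgroup.normalizer (H : Set G)) → ℂ) 1 • (ξ.1 : ↥(Subgroup.normalizer (H : Set G)) → ℂ)) =
    (ε : ℂ) • ((ξ.1 : ↥(Subgroup.normalizer (H : Set G)) → ℂ) 1 • (θ χ : G → ℂ) -
      (χ.1 : ↥(Subgroup.normalizer (H : Set G)) → ℂ) 1 • (θ ξ : G → ℂ))
  c : ℤ
  own : ∀ (χ : Exc H) (k : ↥(Subgroup.normalizer (H : Set G))), (k : G) ∈ H → k ≠ 1 →
    (θ χ : G → ℂ) k = (ε : ℂ) * (χ.1 : ↥(Subgroup.normalizer (H : Set G)) → ℂ) k +
      (c : ℂ) * (χ.1 : ↥(Subgroup.normalizer (H : Set G)) → ℂ) 1 / (excIndex H : ℂ)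
  other : ∀ ψ : IrrCharacter G, (∀ χ, θ χ ≠ ψ) → ∃ m : ℤ, ∀ k ∈ H, k ≠ 1 → (ψ : G → ℂ) k = m
  lin : ∃ χ : Exc H, (χ.1 : ↥(Subgroup.normalizer (H : Set G)) → ℂ) 1 = (excIndex H : ℂ)
  two : Nontrivial (Exc H)

variable (H : Subgroup G) (hK : IsTIKernel H)

include hK

theorem kernel_centralizer_le : ∀ k ∈ H.subgroupOf (Subgroup.normalizer (H : Set G)), k ≠ 1 →
    Subgroup.centralizer ({k} : Set ↥(Subgroup.normalizer (H : Set G))) ≤
      H.subgroupOf (Subgroup.normalizer (H : Set G)) := by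
  haveI : Fintype ↥(Subgroup.normalizer (H : Set G)) := Fintype.ofFinite _
  exact (exc_data H hK.cent).1

/-- The kernel is nilpotent (Thompson). -/
theorem kernel_isNilpotent : Group.IsNilpotent H := by
  haveI : Fintype ↥(Subgroup.normalizer (H : Set G)) := Fintype.ofFinite _
  haveI := Subgroup.normal_in_normalizer (H := H)
  obtain ⟨W, hW, hfpf⟩ := exists_fpf_complement _ (kernel_centralizer_le H hK)
  have hWne : W ≠ ⊥ := by
    intro h
    rw [h, Subgroup.isComplement'_bot_right] at hW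
    exact hK.lt.not_ge (Subgroup.subgroupOf_eq_top.1 hW)
  obtain ⟨r, hr, hrW⟩ := Nat.exists_prime_and_dvd (fun h => hWne (Subgroup.card_eq_one.1 h) : Nat.card W ≠ 1)
  haveI := Fact.mk hr
  obtain ⟨a, ha⟩ := exists_prime_orderOf_dvd_card' r hrW
  have ha' : (a : ↥(Subgroup.normalizer (H : Set G))) ≠ 1 := fun h => hr.ne_one (by
    rw [← ha, ← Subgroup.orderOf_coe, h, orderOf_one])
  set K := H.subgroupOf (Subgroup.normalizer (H : Set G)) with hKdef
  let φ : K ≃* K := MulAut.conjNormal (a : ↥(Subgroup.normalizer (H : Set G)))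
  have hcoe : ∀ (n : ℕ) (k : K), ((φ^[n] k : K) : ↥(Subgroup.normalizer (H : Set G))) =
      (a : ↥(Subgroup.normalizer (H : Set G))) ^ n * k * ((a : ↥(Subgroup.normalizer (H : Set G))) ^ n)⁻¹ := by
    intro n k
    induction n with
    | zero => simp
    | succ n ih =>
      rw [Function.iterate_succ_apply', show (φ (φ^[n] k) : K) = MulAut.conjNormal (a : ↥(Subgroup.normalizer (H : Set G))) (φ^[n] k) from rfl,
        MulAut.conjNormal_apply, ih, pow_succ']
      group
  haveI : Group.IsNilpotent K := CfsgLib.PGroup.isNilpotent_of_fixedPointFree hr K φ (fun k hk => by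
    refine Subtype.ext (hfpf a a.2 ha' k k.2 ?_)
    have h1 := hcoe 1 k
    rw [Function.iterate_one, hk, pow_one] at h1
    exact (eq_mul_inv_iff_mul_eq.1 h1).symm) fun k => by
    refine Subtype.ext ((hcoe r k).trans ?_)
    rw [← SubgroupClass.coe_pow, ← ha, pow_orderOf_eq_one]
    simp
  exact Group.nilpotent_of_mulEquiv (Subgroup.subgroupOfEquivOfLe Subgroup.le_normalizer)

theorem kernel_vanish (χ : Exc H) (x : ↥(Subgroup.normalizer (H : Set G))) (hx : (x : G) ∉ H) :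
    (χ.1 : ↥(Subgroup.normalizer (H : Set G)) → ℂ) x = 0 := by
  haveI := Subgroup.normal_in_normalizer (H := H)
  haveI : Fintype ↥(Subgroup.normalizer (H : Set G)) := Fintype.ofFinite _
  exact vanish_of_nonconst (H.subgroupOf (Subgroup.normalizer (H : Set G))) (kernel_centralizer_le H hK) χ.1.2
    (χ.2.imp fun _ h => h) hx

theorem kernel_diff_vanish (χ ξ : Exc H) (x : G) (hx : ∀ y : G, y * x * y⁻¹ ∈ H → y * x * y⁻¹ = 1) :
    indFun (Subgroup.normalizer (H : Set G))
      ((ξ.1 : ↥(Subgroup.normalizer (H : Set G)) → ℂ) 1 • (χ.1 : ↥(Subgroup.normalizer (H : Set G)) → ℂ) -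
        (χ.1 : ↥(Subgroup.normalizer (H : Set G)) → ℂ) 1 • (ξ.1 : ↥(Subgroup.normalizer (H : Set G)) → ℂ)) x = 0 := by
  rw [indFun, Finset.sum_eq_zero, mul_zero]
  intro y _
  by_cases hm : y⁻¹ * x * y ∈ Subgroup.normalizer (H : Set G)
  · rw [extendByZero_mem _ _ hm, Pi.sub_apply, Pi.smul_apply, Pi.smul_apply, smul_eq_mul, smul_eq_mul]
    by_cases hA' : y⁻¹ * x * y ∈ H
    · have h := hx y⁻¹ (by simpa using hA')
      rw [inv_inv] at h
      rw [show (⟨y⁻¹ * x * y, hm⟩ : ↥(Subgroup.normalizer (H : Set G))) = 1 from Subtype.ext h]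
      ring
    · rw [kernel_vanish H hK χ ⟨_, hm⟩ hA', kernel_vanish H hK ξ ⟨_, hm⟩ hA', mul_zero, mul_zero, sub_zero]
  · exact extendByZero_not_mem _ _ hm

theorem inducedIrrAbove_eq_excSet [Fintype ↥(Subgroup.normalizer (H : Set G))] :
    inducedIrrAbove (H.subgroupOf (Subgroup.normalizer (H : Set G))) ⊥ = ExcSet H := by
  haveI := Subgroup.normal_in_normalizer (H := H)
  set K := H.subgroupOf (Subgroup.normalizer (H : Set G))
  have hC := kernel_centralizer_le H hK
  have he : inducedIrrAbove K K = ∅ := by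
    refine Set.eq_empty_iff_forall_notMem.2 ?_
    rintro _ ⟨θ, h1, h2, h3, rfl⟩
    obtain ⟨b, hb0, hb⟩ := isIrrCharacter_degree h1
    have h := degree_sq_le_of_central_section (B := K) ⟨θ, h1⟩ h3 (D := K) (C := K) le_rfl le_rfl
      (fun x hx y hy => K.mul_mem (K.mul_mem (K.mul_mem hx hy) (K.inv_mem hx)) (K.inv_mem hy)) hb
    rw [Subgroup.relIndex_self, one_pow, one_mul] at h
    refine h2 (funext fun a => ?_)
    rw [h3 a a.2, hb, show b = 1 by nlinarith, Nat.cast_one]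
  have h := diff_inducedIrrAbove_eq K (le_refl K) fun χ hχ => isIrr_inducedIrrAbove K hC hχ.1
  rw [he, Set.sdiff_empty] at h
  rw [h]
  rfl

theorem nonempty_kData (hodd : Odd (Nat.card G)) : Nonempty (KData H) := by
  classical
  haveI := Subgroup.normal_in_normalizer (H := H)
  haveI : Fintype ↥(Subgroup.normalizer (H : Set G)) := Fintype.ofFinite _
  have hoddN : Odd (Nat.card (Subgroup.normalizer (H : Set G))) :=
    hodd.of_dvd_nat (Subgroup.card_subgroup_dvd_card _)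
  have hnil := kernel_isNilpotent H hK
  have hcoh := sibley_coherence H hK.ti hoddN hnil hK.ne_bot (fun k hk hk1 => inf_le_right.trans (hK.cent k hk hk1)) hK.lt
  obtain ⟨hC', hsolv, -, htop, hbot, R, hS⟩ := exists_coherenceSystem_TI H hK.ti hoddN hnil hK.ne_bot
    (fun k hk hk1 => inf_le_right.trans (hK.cent k hk hk1)) hK.lt
  rw [inducedIrrAbove_eq_excSet H hK] at hcoh hS
  obtain ⟨-, star, hstar, hext⟩ := hcoh
  replace hext : ∀ α ∈ zspanOn (ExcSet H) {1}ᶜ, star α = indFun (Subgroup.normalizer (H : Set G)) α := hext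
  have hirr : ∀ χ ∈ ExcSet H, IsIrrCharacter _ χ := fun χ h => h.1
  have hmap1 : ∀ α ∈ zspan (ExcSet H), α 1 = 0 → star α 1 = 0 := fun α hα h1 => by
    rw [hext α (mem_zspanOn_one_iff.2 ⟨hα, h1⟩), indFun_one, h1, mul_zero]
  obtain ⟨ε₀, hε₀, hirrG, hinj, -, -⟩ := coherent_signs hirr hS.nonempty hstar hmap1
  obtain ⟨ε, hε, rfl⟩ : ∃ ε : ℤ, (ε = 1 ∨ ε = -1) ∧ ε₀ = (ε : ℂ) := by
    rcases hε₀ with rfl | rfl
    · exact ⟨1, Or.inl rfl, by simp⟩
    · exact ⟨-1, Or.inr rfl, by simp⟩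
  have hεε : (ε : ℂ) * ε = 1 := by rcases hε with h | h <;> simp [h]
  have hmem : ∀ χ : Exc H, (χ.1 : ↥(Subgroup.normalizer (H : Set G)) → ℂ) ∈ ExcSet H := fun χ => ⟨χ.1.2, χ.2⟩
  have hTI : ∀ g : G, g ∉ Subgroup.normalizer (H : Set G) → ∀ k ∈ H, g * k * g⁻¹ ∈ H → k = 1 := hK.ti
  obtain ⟨m₀, hm₀⟩ := coherent_restriction_constant H star hTI hK.cent hS.nonempty hstar hext
  obtain ⟨φ, hφ⟩ := hS.nonempty
  have hφ' := hS.conj_mem φ hφ
  have hne := hS.conj_ne φ hφ
  obtain ⟨χl, hχl, hχld⟩ := exists_inducedIrrAbove_degree (H.subgroupOf (Subgroup.normalizer (H : Set G))) hsolv ⊥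
    (by rw [Subgroup.relIndex_bot_left]; exact fun h => hbot (Subgroup.card_eq_one.1 h))
  rw [inducedIrrAbove_eq_excSet H hK] at hχl
  refine ⟨{
    ε := ε
    θ := fun χ => ⟨_, hirrG _ (hmem χ)⟩
    sign := hε
    inj := fun χ ξ h => Subtype.ext (Subtype.ext (hinj _ (hmem χ) _ (hmem ξ) (by
      have e := congrArg (fun t : IrrCharacter G => (ε : ℂ) • (t : G → ℂ)) h
      simpa only [smul_smul, hεε, one_smul] using e)))
    ind := fun χ ξ => by
      rw [← hext _ (alpha_mem H (hmem χ) (hmem ξ)), star_alpha H star hstar (hmem χ) (hmem ξ), smul_sub,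
        smul_smul, smul_smul, smul_smul, smul_smul,
        show (ε : ℂ) * (ξ.1 : ↥(Subgroup.normalizer (H : Set G)) → ℂ) 1 * ε =
          (ξ.1 : ↥(Subgroup.normalizer (H : Set G)) → ℂ) 1 by linear_combination (ξ.1 : ↥(Subgroup.normalizer (H : Set G)) → ℂ) 1 * hεε,
        show (ε : ℂ) * (χ.1 : ↥(Subgroup.normalizer (H : Set G)) → ℂ) 1 * ε =
          (χ.1 : ↥(Subgroup.normalizer (H : Set G)) → ℂ) 1 by linear_combination (χ.1 : ↥(Subgroup.normalizer (H : Set G)) → ℂ) 1 * hεε]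
    c := ε * m₀
    own := fun χ k hk hk1 => by
      have h := hm₀ _ (hmem χ) k hk hk1
      show (ε : ℂ) * star _ k = _
      push_cast
      linear_combination (ε : ℂ) * h
    other := fun ψ hψ => by
      obtain ⟨z, hz⟩ := Subgroup.ne_bot_iff_exists_ne_one.1 hK.ne_bot
      have hno : ¬ ∃ χ ∈ ExcSet H, (ψ : G → ℂ) = star χ ∨ (ψ : G → ℂ) = -star χ := by
        rintro ⟨χ, hχ, h⟩
        refine hψ ⟨⟨χ, hχ.1⟩, hχ.2⟩ (Subtype.ext ?_)
        show (ε : ℂ) • star χ = (ψ : G → ℂ)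
        have h0 := hirrG χ hχ
        obtain ⟨d, hd, hd'⟩ := isIrrCharacter_degree h0
        obtain ⟨d2, hd2, hd2'⟩ := isIrrCharacter_degree ψ.2
        rcases hε with rfl | rfl <;> rcases h with h | h
        · simp [h]
        · exfalso
          rw [h, Pi.neg_apply] at hd2'
          rw [Pi.smul_apply, Int.cast_one, one_smul] at hd'
          rw [hd'] at hd2'
          have : ((d + d2 : ℕ) : ℂ) = 0 := by push_cast; linear_combination -hd2'
          rw [Nat.cast_eq_zero] at this; omega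
        · exfalso
          rw [h] at hd2'
          rw [Pi.smul_apply, Int.cast_neg, Int.cast_one, neg_one_smul] at hd'
          have : ((d + d2 : ℕ) : ℂ) = 0 := by push_cast; linear_combination -hd' - hd2'
          rw [Nat.cast_eq_zero] at this; omega
        · simp [h]
      rw [coherent_exceptional_iff H star hK.cent ⟨φ, hφ, _, hφ', hne.symm⟩ hstar hext ψ.2] at hno
      push Not at hno
      haveI := Fintype.ofFinite H
      obtain ⟨m, hm⟩ := int_of_const_generalized (H := H)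
        (isGeneralizedCharacter_comp (isGeneralizedCharacter_of_isCharacter (isCharacter_irr ψ)) H.subtype)
        (k := z) hz (fun x hx => hno x x.2 z z.2 (fun e => hx (Subtype.ext e)) (fun e => hz (Subtype.ext e)))
      exact ⟨m, fun k hk hk1 => (hno k hk z z.2 hk1 (fun e => hz (Subtype.ext e))).trans hm⟩
    lin := ⟨⟨⟨χl, hχl.1⟩, hχl.2⟩, hχld⟩
    two := ⟨⟨⟨φ, hφ.1⟩, hφ.2⟩, ⟨⟨_, hφ'.1⟩, hφ'.2⟩, fun e => hne.symm (congrArg (fun t : Exc H => (t.1 : ↥(Subgroup.normalizer (H : Set G)) → ℂ)) e)⟩ }⟩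

end CfsgLib.Char
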