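import Mathlib
import Cfsg.Agent.Lib.Char.KernelData
import Cfsg.Agent.Lib.Char.RealChar

/-!
# Column relations for a covering family of TI Frobenius kernels in a group of odd order
-/

set_option autoImplicit false
set_option linter.unusedSectionVars false
set_option linter.style.haveILetI false

namespace CfsgLib.Char

open scoped ComplexConjugate
open Cfsg

universe u v

/-- A covering family of TI Frobenius kernels of coprime orders. -/
structure KernelFamily (G : Type u) [Group G] (ι : Type v) where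
  H : ι → Subgroup G
  ker : ∀ i, IsTIKernel (H i)
  cover : ∀ x : G, x ≠ 1 → ∃ i, ∃ y : G, y * x * y⁻¹ ∈ H i
  cop : ∀ i l, i ≠ l → Nat.Coprime (Nat.card (H i)) (Nat.card (H l))

variable {G : Type u} [Group G] [Fintype G] {ι : Type v} [Fintype ι] (F : KernelFamily G ι)

theorem KernelFamily.sep (i l : ι) (x y : G) (hx : x ∈ F.H i) (hx1 : x ≠ 1) (hy : y * x * y⁻¹ ∈ F.H l) :
    i = l := by
  by_contra h
  refine hx1 (orderOf_eq_one_iff.1 (Nat.eq_one_of_dvd_coprimes (F.cop i l h) ?_ ?_))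
  · rw [← Subgroup.orderOf_mk x hx]
    exact orderOf_dvd_natCard _
  · rw [← (show orderOf (y * x * y⁻¹) = orderOf x from (MulAut.conj y).orderOf_eq x),
      ← Subgroup.orderOf_mk _ hy]
    exact orderOf_dvd_natCard _

theorem KernelFamily.exists_ne_one (i : ι) : ∃ x ∈ F.H i, x ≠ 1 := by
  obtain ⟨⟨x, hx⟩, hx1⟩ := Subgroup.ne_bot_iff_exists_ne_one.1 (F.ker i).ne_bot
  exact ⟨x, hx, fun e => hx1 (Subtype.ext e)⟩

theorem KernelFamily.sum_class_function [∀ i, Fintype (F.H i)] {f : G → ℂ}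
    (hf : IsClassFunction G f) [DecidableEq G] :
    ∑ x : G, f x = f 1 + ∑ i, (Nat.card G : ℂ) / (Nat.card (Subgroup.normalizer (F.H i : Set G)) : ℂ) *
      ∑ k ∈ Finset.univ.filter (fun k : F.H i => k ≠ 1), f k := by
  classical
  rw [← Finset.add_sum_erase _ _ (Finset.mem_univ (1 : G))]
  congr 1
  set c : ι → ℂ := fun i => ((Nat.card (Subgroup.normalizer (F.H i : Set G)) : ℂ))⁻¹ with hc
  have h1 : ∀ i, (Nat.card G : ℂ) / (Nat.card (Subgroup.normalizer (F.H i : Set G)) : ℂ) *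
      ∑ k ∈ Finset.univ.filter (fun k : F.H i => k ≠ 1), f k =
      c i * ∑ y : G, ∑ k ∈ Finset.univ.filter (fun k : F.H i => k ≠ 1), f (y * k * y⁻¹) := by
    intro i
    simp only [hf _ _, Finset.sum_const, Finset.card_univ, nsmul_eq_mul, ← Nat.card_eq_fintype_card, hc]
    ring
  rw [Finset.sum_congr rfl fun i _ => h1 i]
  have h2 : ∀ i (y : G), ∑ k ∈ Finset.univ.filter (fun k : F.H i => k ≠ 1), f (y * k * y⁻¹) =
      ∑ x ∈ Finset.univ.erase (1 : G), if y⁻¹ * x * y ∈ F.H i then f x else 0 := by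
    intro i y
    rw [← Finset.sum_filter]
    refine Finset.sum_bij (fun k _ => y * (k : G) * y⁻¹) (fun k hk => ?_) (fun a _ b _ h => ?_)
      (fun x hx => ?_) fun k _ => rfl
    · simp only [Finset.mem_filter, Finset.mem_univ, true_and] at hk
      refine Finset.mem_filter.2 ⟨Finset.mem_erase.2 ⟨fun e => hk (Subtype.ext (conj_eq_one_iff.1 e)),
        Finset.mem_univ _⟩, ?_⟩
      simp [mul_assoc]
    · exact Subtype.ext (mul_left_cancel (mul_right_cancel h))
    · obtain ⟨hx1, hxA⟩ := Finset.mem_filter.1 hx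
      refine ⟨⟨_, hxA⟩, Finset.mem_filter.2 ⟨Finset.mem_univ _, fun e => (Finset.mem_erase.1 hx1).1 ?_⟩,
        by group⟩
      have h : y⁻¹ * x * y = 1 := congrArg Subtype.val e
      calc x = y * (y⁻¹ * x * y) * y⁻¹ := by group
        _ = 1 := by rw [h]; group
  simp only [h2, Finset.mul_sum]
  have h3 : ∀ x ∈ Finset.univ.erase (1 : G),
      (∑ i, ∑ y : G, c i * if y⁻¹ * x * y ∈ F.H i then f x else 0) = f x := by
    intro x hx
    have hx1 := (Finset.mem_erase.1 hx).1
    obtain ⟨i, y₀, hy₀⟩ := F.cover x hx1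
    rw [Finset.sum_eq_single i]
    · rw [← Finset.mul_sum, ← Finset.sum_filter, Finset.sum_const, nsmul_eq_mul]
      have hcard : (Finset.univ.filter fun y : G => y⁻¹ * x * y ∈ F.H i).card =
          Nat.card (Subgroup.normalizer (F.H i : Set G)) := by
        rw [← Fintype.card_subtype, Nat.card_eq_fintype_card]
        refine Fintype.card_congr
          { toFun := fun y => ⟨y₀ * y.1, ?_⟩
            invFun := fun n => ⟨y₀⁻¹ * n.1, ?_⟩
            left_inv := fun y => Subtype.ext (by group)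
            right_inv := fun n => Subtype.ext (by group) }
        · by_contra hn
          have h := (F.ker i).ti _ hn _ y.2 (by
            have e : y₀ * y.1 * (y.1⁻¹ * x * y.1) * (y₀ * y.1)⁻¹ = y₀ * x * y₀⁻¹ := by group
            rw [e]; exact hy₀)
          refine hx1 ?_
          calc x = y.1 * (y.1⁻¹ * x * y.1) * y.1⁻¹ := by group
            _ = 1 := by rw [h]; group
        · have := (Subgroup.mem_normalizer_iff''.1 n.2 (y₀ * x * y₀⁻¹)).1 hy₀
          simpa [mul_assoc] using this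
      rw [hcard, hc, ← mul_assoc, inv_mul_cancel₀ (Nat.cast_ne_zero.2 Nat.card_pos.ne'), one_mul]
    · intro l _ hl
      refine Finset.sum_eq_zero fun y _ => ?_
      rw [if_neg, mul_zero]
      intro hy
      refine hl (F.sep l i (y⁻¹ * x * y) (y₀ * y) hy (fun e => hx1 ?_) ?_)
      · calc x = y * (y⁻¹ * x * y) * y⁻¹ := by group
          _ = 1 := by rw [e]; group
      · have e : y₀ * y * (y⁻¹ * x * y) * (y₀ * y)⁻¹ = y₀ * x * y₀⁻¹ := by group
        rw [e]; exact hy₀
    · exact fun h => absurd (Finset.mem_univ _) h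
  rw [← Finset.sum_congr rfl h3, Finset.sum_comm]
  exact Finset.sum_congr rfl fun i _ => Finset.sum_comm

section Single

variable (H : Subgroup G) (hK : IsTIKernel H)

include hK

theorem kernel_index_facts (hodd : Odd (Nat.card G)) :
    ∃ s : ℕ, s * excIndex H = Nat.card H - 1 ∧ Even s ∧ 2 ≤ s ∧ 3 ≤ excIndex H ∧ Odd (excIndex H) := by
  haveI := Subgroup.normal_in_normalizer (H := H)
  haveI : Fintype ↥(Subgroup.normalizer (H : Set G)) := Fintype.ofFinite _
  obtain ⟨s, hs⟩ := index_dvd_card_sub_one _ (kernel_centralizer_le H hK) (le_refl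
    (H.subgroupOf (Subgroup.normalizer (H : Set G))))
  rw [Nat.card_congr (Subgroup.subgroupOfEquivOfLe Subgroup.le_normalizer).toEquiv] at hs
  have he1 : excIndex H ≠ 1 := fun h => hK.lt.not_ge (Subgroup.subgroupOf_eq_top.1 (Subgroup.index_eq_one.1 h))
  have hodde : Odd (excIndex H) := hodd.of_dvd_nat
    ((Subgroup.index_dvd_card _).trans (Subgroup.card_subgroup_dvd_card _))
  obtain ⟨o, ho⟩ := hodde
  obtain ⟨u, hu⟩ : Odd (Nat.card H) := hodd.of_dvd_nat (Subgroup.card_subgroup_dvd_card _)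
  have h1 : 1 < Nat.card H := (Subgroup.one_lt_card_iff_ne_bot H).2 hK.ne_bot
  have heq : s * excIndex H = Nat.card H - 1 := by rw [mul_comm]; exact hs.symm
  have hse : Even s := by
    rcases Nat.even_or_odd s with h | ⟨w, hw⟩
    · exact h
    · exfalso
      obtain ⟨z, hz⟩ : Odd (s * excIndex H) := Odd.mul ⟨w, hw⟩ ⟨o, ho⟩
      omega
  refine ⟨s, heq, hse, ?_, by omega, ⟨o, ho⟩⟩
  obtain ⟨w, hw⟩ := hse
  rcases Nat.eq_zero_or_pos w with rfl | hw0
  · rw [hw, add_zero, zero_mul] at heq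
    omega
  · omega

theorem kernel_exc_column [Fintype (Exc H)] {k : ↥(Subgroup.normalizer (H : Set G))} (hk : (k : G) ∈ H)
    (hk1 : k ≠ 1) :
    (∑ χ : Exc H, (χ.1 : ↥(Subgroup.normalizer (H : Set G)) → ℂ) k *
        (χ.1 : ↥(Subgroup.normalizer (H : Set G)) → ℂ) 1) = -(excIndex H : ℂ) ∧
      (∑ χ : Exc H, (χ.1 : ↥(Subgroup.normalizer (H : Set G)) → ℂ) k *
        conj ((χ.1 : ↥(Subgroup.normalizer (H : Set G)) → ℂ) k)) =
          (Nat.card (Subgroup.centralizer ({(k : G)} : Set G)) : ℂ) - (excIndex H : ℂ) ∧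
      (∑ χ : Exc H, (χ.1 : ↥(Subgroup.normalizer (H : Set G)) → ℂ) 1 ^ 2) =
        (excIndex H : ℂ) * ((Nat.card H : ℂ) - 1) := by
  classical
  haveI : (H.subgroupOf (Subgroup.normalizer (H : Set G))).Normal := Subgroup.normal_in_normalizer
  haveI := Fintype.ofFinite (IrrCharacter ↥(Subgroup.normalizer (H : Set G)))
  haveI : Fintype ↥(Subgroup.normalizer (H : Set G)) := Fintype.ofFinite _
  have h1 := kernel_centralizer_le H hK
  set P : IrrCharacter ↥(Subgroup.normalizer (H : Set G)) → Prop := fun χ =>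
    ∃ a ∈ H.subgroupOf (Subgroup.normalizer (H : Set G)),
      (χ : ↥(Subgroup.normalizer (H : Set G)) → ℂ) a ≠ (χ : ↥(Subgroup.normalizer (H : Set G)) → ℂ) 1 with hP
  have hsum : ∀ F : IrrCharacter ↥(Subgroup.normalizer (H : Set G)) → ℂ,
      ∑ χ ∈ Finset.univ.filter P, F χ = ∑ χ : Exc H, F χ.1 := fun F =>
    Finset.sum_subtype _ (fun χ => by simp only [Finset.mem_filter, Finset.mem_univ, true_and]; rfl) F
  have h2 := sum_sq_exceptional (H.subgroupOf (Subgroup.normalizer (H : Set G))) h1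
  rw [Nat.card_congr (Subgroup.subgroupOfEquivOfLe Subgroup.le_normalizer).toEquiv,
    hsum (fun χ => (χ : ↥(Subgroup.normalizer (H : Set G)) → ℂ) 1 ^ 2)] at h2
  have hT : ∑ χ ∈ Finset.univ.filter (fun χ => ¬P χ),
      (χ : ↥(Subgroup.normalizer (H : Set G)) → ℂ) 1 ^ 2 = (excIndex H : ℂ) := by
    have h3 := sum_degree_sq (G := ↥(Subgroup.normalizer (H : Set G)))
    rw [← Finset.sum_filter_add_sum_filter_not Finset.univ P,
      hsum (fun χ => (χ : ↥(Subgroup.normalizer (H : Set G)) → ℂ) 1 ^ 2), h2] at h3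
    rw [← (H.subgroupOf (Subgroup.normalizer (H : Set G))).card_mul_index, Nat.cast_mul,
      Nat.card_congr (Subgroup.subgroupOfEquivOfLe Subgroup.le_normalizer).toEquiv] at h3
    linear_combination h3
  refine ⟨?_, ?_, h2⟩
  · have h := sum_exceptional_degree_mul (H.subgroupOf (Subgroup.normalizer (H : Set G))) hk hk1
    rw [hsum (fun χ => (χ : ↥(Subgroup.normalizer (H : Set G)) → ℂ) k *
      (χ : ↥(Subgroup.normalizer (H : Set G)) → ℂ) 1), hT] at h
    exact h
  · have h := sum_irr_mul_conj k k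
    rw [if_pos (IsConj.refl k), ← Finset.sum_filter_add_sum_filter_not Finset.univ P,
      hsum (fun χ => (χ : ↥(Subgroup.normalizer (H : Set G)) → ℂ) k *
        conj ((χ : ↥(Subgroup.normalizer (H : Set G)) → ℂ) k)),
      Finset.sum_congr rfl (g := fun χ : IrrCharacter ↥(Subgroup.normalizer (H : Set G)) =>
        (χ : ↥(Subgroup.normalizer (H : Set G)) → ℂ) 1 ^ 2) (s₁ := Finset.univ.filter fun χ => ¬P χ)
        fun χ hχ => by
          have h' := (Finset.mem_filter.1 hχ).2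
          simp only [hP] at h'
          push Not at h'
          rw [h' k hk, conj_irr_one, sq], hT] at h
    have hc : Nat.card (Subgroup.centralizer ({k} : Set ↥(Subgroup.normalizer (H : Set G)))) =
        Nat.card (Subgroup.centralizer ({(k : G)} : Set G)) := by
      refine Nat.card_congr
        { toFun := fun x => ⟨(x.1 : G), Subgroup.mem_centralizer_singleton_iff.2
            (congrArg Subtype.val (Subgroup.mem_centralizer_singleton_iff.1 x.2))⟩
          invFun := fun x => ⟨⟨x.1, Subgroup.le_normalizer (hK.cent k hk (fun e => hk1 (Subtype.ext e)) x.2)⟩,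
            Subgroup.mem_centralizer_singleton_iff.2 (Subtype.ext (Subgroup.mem_centralizer_singleton_iff.1 x.2))⟩
          left_inv := fun x => rfl
          right_inv := fun x => rfl }
    rw [hc] at h
    linear_combination h

end Single

variable (D : ∀ i, KData (F.H i))

theorem kTheta_ne {i l : ι} (h : i ≠ l) (χ : Exc (F.H i)) (η : Exc (F.H l)) :
    (D i).θ χ ≠ (D l).θ η := by
  classical
  intro hEq
  haveI := (D i).two
  haveI := (D l).two
  obtain ⟨χ', hχ'⟩ := exists_ne χ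
  obtain ⟨η', hη'⟩ := exists_ne η
  obtain ⟨a, ha0, ha⟩ := isIrrCharacter_degree χ.1.2
  obtain ⟨a', ha0', ha'⟩ := isIrrCharacter_degree χ'.1.2
  obtain ⟨b, hb0, hb⟩ := isIrrCharacter_degree η.1.2
  obtain ⟨b', hb0', hb'⟩ := isIrrCharacter_degree η'.1.2
  have hzero : classInner (indFun (Subgroup.normalizer (F.H i : Set G))
      ((χ'.1 : ↥(Subgroup.normalizer (F.H i : Set G)) → ℂ) 1 • (χ.1 : ↥(Subgroup.normalizer (F.H i : Set G)) → ℂ) -
        (χ.1 : ↥(Subgroup.normalizer (F.H i : Set G)) → ℂ) 1 • (χ'.1 : ↥(Subgroup.normalizer (F.H i : Set G)) → ℂ)))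
      (indFun (Subgroup.normalizer (F.H l : Set G))
      ((η'.1 : ↥(Subgroup.normalizer (F.H l : Set G)) → ℂ) 1 • (η.1 : ↥(Subgroup.normalizer (F.H l : Set G)) → ℂ) -
        (η.1 : ↥(Subgroup.normalizer (F.H l : Set G)) → ℂ) 1 • (η'.1 : ↥(Subgroup.normalizer (F.H l : Set G)) → ℂ))) = 0 := by
    rw [classInner, Finset.sum_eq_zero, mul_zero]
    intro x _
    by_cases hx : ∃ y : G, y * x * y⁻¹ ∈ F.H i ∧ y * x * y⁻¹ ≠ 1
    · obtain ⟨y, hy, hy1⟩ := hx
      rw [kernel_diff_vanish (F.H l) (F.ker l) η η' x fun z hz => by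
        by_contra hz1
        refine h (F.sep i l (y * x * y⁻¹) (z * y⁻¹) hy hy1 ?_)
        have e : z * y⁻¹ * (y * x * y⁻¹) * (z * y⁻¹)⁻¹ = z * x * z⁻¹ := by group
        rw [e]; exact hz, map_zero, mul_zero]
    · simp only [not_exists, not_and, not_not] at hx
      rw [kernel_diff_vanish (F.H i) (F.ker i) χ χ' x hx, zero_mul]
  rw [(D i).ind, (D l).ind, ha, ha', hb, hb'] at hzero
  simp only [classInner_smul_left, classInner_smul_right, classInner_sub_left,
    classInner_sub_right, classInner_irr, map_intCast, map_natCast, if_pos hEq,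
    if_neg (fun e : (D i).θ χ = (D l).θ η' => hη' ((D l).inj (hEq.symm.trans e)).symm),
    if_neg (fun e : (D i).θ χ' = (D l).θ η => hχ' ((D i).inj (e.trans hEq.symm))), mul_zero, mul_one,
    sub_zero] at hzero
  have hi : ((D i).ε : ℂ) ≠ 0 := by rcases (D i).sign with e | e <;> rw [e] <;> simp
  have hl : ((D l).ε : ℂ) ≠ 0 := by rcases (D l).sign with e | e <;> rw [e] <;> simp
  rcases mul_eq_zero.1 hzero with h0 | h0
  · exact hl h0
  split_ifs at h0
  · have h1 : ((a' * b' + a * b : ℕ) : ℂ) = 0 := by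
      refine (mul_eq_zero.1 (?_ : ((D i).ε : ℂ) * _ = 0)).resolve_left hi
      push_cast; linear_combination h0
    rw [Nat.cast_eq_zero] at h1
    have := Nat.mul_pos ha0' hb0'
    omega
  · have h1 : ((a' * b' : ℕ) : ℂ) = 0 := by
      refine (mul_eq_zero.1 (?_ : ((D i).ε : ℂ) * _ = 0)).resolve_left hi
      push_cast; linear_combination h0
    rw [Nat.cast_eq_zero] at h1
    have := Nat.mul_pos ha0' hb0'
    omega

theorem kExc_not_one {i : ι} (χ : Exc (F.H i)) : ((D i).θ χ : G → ℂ) ≠ fun _ => 1 := by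
  classical
  intro h
  haveI := (D i).two
  haveI : Fintype ↥(Subgroup.normalizer (F.H i : Set G)) := Fintype.ofFinite _
  obtain ⟨ξ, hξ⟩ := exists_ne χ
  obtain ⟨b, hb0, hb⟩ := isIrrCharacter_degree ξ.1.2
  have h1 : classInner (fun _ : G => (1 : ℂ)) (indFun (Subgroup.normalizer (F.H i : Set G))
      ((ξ.1 : ↥(Subgroup.normalizer (F.H i : Set G)) → ℂ) 1 • (χ.1 : ↥(Subgroup.normalizer (F.H i : Set G)) → ℂ) -
        (χ.1 : ↥(Subgroup.normalizer (F.H i : Set G)) → ℂ) 1 • (ξ.1 : ↥(Subgroup.normalizer (F.H i : Set G)) → ℂ))) = 0 := by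
    rw [classInner_indFun_right _ _ (fun _ : G => (1 : ℂ)) fun _ _ => rfl, classInner_sub_right,
      classInner_smul_right, classInner_smul_right]
    have hne : ∀ η : Exc (F.H i), classInner (fun _ : ↥(Subgroup.normalizer (F.H i : Set G)) => (1 : ℂ))
        (η.1 : ↥(Subgroup.normalizer (F.H i : Set G)) → ℂ) = 0 := fun η =>
      classInner_irr_ne (χ := ⟨_, isIrrCharacter_one⟩) (ψ := η.1) fun e => by
        obtain ⟨k, -, hk⟩ := η.2
        exact hk (by rw [← e])
    rw [hne, hne, mul_zero, mul_zero, sub_self]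
  rw [(D i).ind, classInner_smul_right, classInner_sub_right, classInner_smul_right, classInner_smul_right,
    ← h, classInner_irr_self, classInner_irr_ne (fun e => hξ ((D i).inj e).symm), mul_zero, sub_zero,
    mul_one, map_intCast, hb, map_natCast] at h1
  rcases mul_eq_zero.1 h1 with h2 | h2
  · rcases (D i).sign with hs | hs <;> rw [hs] at h2 <;> simp at h2
  · exact hb0.ne' (Nat.cast_eq_zero.1 h2)

theorem exists_kValues (l i : ι) (h : l ≠ i) :
    ∃ m : ℤ, ∀ (χ : Exc (F.H l)) (k : G), k ∈ F.H i → k ≠ 1 → ((D l).θ χ : G → ℂ) k =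
      (χ.1 : ↥(Subgroup.normalizer (F.H l : Set G)) → ℂ) 1 / (excIndex (F.H l) : ℂ) * m := by
  obtain ⟨χ₀, hχ₀⟩ := (D l).lin
  obtain ⟨m, hm⟩ := (D i).other ((D l).θ χ₀) fun η e => kTheta_ne F D h χ₀ η e.symm
  refine ⟨m, fun χ k hk hk1 => ?_⟩
  have hd := congrFun ((D l).ind χ χ₀) k
  rw [kernel_diff_vanish (F.H l) (F.ker l) χ χ₀ k fun y hy => by
    by_contra hy1
    exact h (F.sep i l k y hk hk1 hy).symm, Pi.smul_apply, Pi.sub_apply, Pi.smul_apply, Pi.smul_apply,
    smul_eq_mul, smul_eq_mul, smul_eq_mul, hχ₀, hm k hk hk1] at hd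
  have hl : ((D l).ε : ℂ) ≠ 0 := by rcases (D l).sign with e | e <;> rw [e] <;> simp
  rw [eq_comm, mul_eq_zero, or_iff_right hl, sub_eq_zero] at hd
  have he : (excIndex (F.H l) : ℂ) ≠ 0 := Nat.cast_ne_zero.2 Subgroup.index_ne_zero_of_finite
  field_simp
  linear_combination hd

theorem kIrr_cases (hodd : Odd (Nat.card G)) (ψ : IrrCharacter G) :
    (ψ : G → ℂ) = (fun _ => 1) ∨ ∃ l, ∃ χ : Exc (F.H l), (D l).θ χ = ψ := by
  classical
  refine or_iff_not_imp_right.2 fun hno => irr_eq_one_of_real hodd ψ fun g => ?_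
  by_cases hg : g = 1
  · subst hg; exact conj_irr_one ψ
  obtain ⟨i, y, hy⟩ := F.cover g hg
  obtain ⟨m, hm⟩ := (D i).other ψ fun χ e => hno ⟨i, χ, e⟩
  rw [← isClassFunction_irr ψ g y, hm _ hy fun e => hg (conj_eq_one_iff.1 e), map_intCast]

theorem kSum_irr_split (hodd : Odd (Nat.card G)) [Fintype (IrrCharacter G)]
    [∀ l, Fintype (Exc (F.H l))] (Φ : IrrCharacter G → ℂ) :
    ∑ ψ, Φ ψ = Φ ⟨fun _ => 1, isIrrCharacter_one⟩ + ∑ l, ∑ χ : Exc (F.H l), Φ ((D l).θ χ) := by
  classical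
  set one : IrrCharacter G := ⟨fun _ => 1, isIrrCharacter_one⟩ with hone
  let g : Option (Σ l, Exc (F.H l)) → IrrCharacter G := fun o => o.elim one fun p => (D p.1).θ p.2
  have hg : Function.Bijective g := by
    refine ⟨?_, fun ψ => ?_⟩
    · have hne : ∀ p : Σ l, Exc (F.H l), (D p.1).θ p.2 ≠ one := fun p e =>
        kExc_not_one F D p.2 (congrArg Subtype.val e)
      rintro (_ | ⟨l, χ⟩) (_ | ⟨i, η⟩) e
      · rfl
      · exact absurd e.symm (hne ⟨i, η⟩)
      · exact absurd e (hne ⟨l, χ⟩)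
      · rcases eq_or_ne l i with rfl | h
        · exact congrArg _ (congrArg (Sigma.mk l) ((D l).inj e))
        · exact absurd e (kTheta_ne F D h χ η)
    · rcases kIrr_cases F D hodd ψ with h | ⟨l, χ, h⟩
      · exact ⟨none, Subtype.ext h.symm⟩
      · exact ⟨some ⟨l, χ⟩, h⟩
  rw [← hg.sum_comp, Fintype.sum_option, Fintype.sum_sigma]
  rfl

variable (s : ι → ℕ) (hs : ∀ i, s i * excIndex (F.H i) = Nat.card (F.H i) - 1) (hs2 : ∀ i, 2 ≤ s i)
  (m : ι → ι → ℤ)
  (hm : ∀ l i, l ≠ i → ∀ (χ : Exc (F.H l)) (k : G), k ∈ F.H i → k ≠ 1 → ((D l).θ χ : G → ℂ) k =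
    (χ.1 : ↥(Subgroup.normalizer (F.H l : Set G)) → ℂ) 1 / (excIndex (F.H l) : ℂ) * m l i)

include hs

theorem kSum_weights (l : ι) [Fintype (Exc (F.H l))] :
    ∑ χ : Exc (F.H l), ((χ.1 : ↥(Subgroup.normalizer (F.H l : Set G)) → ℂ) 1 / (excIndex (F.H l) : ℂ)) ^ 2 =
      (s l : ℂ) := by
  obtain ⟨x, hx, hx1⟩ := F.exists_ne_one l
  obtain ⟨-, -, h⟩ := kernel_exc_column (F.H l) (F.ker l) (k := ⟨x, Subgroup.le_normalizer hx⟩) hx
    (fun e => hx1 (congrArg Subtype.val e))
  simp only [div_pow, ← Finset.sum_div, h]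
  have he : (excIndex (F.H l) : ℂ) ≠ 0 := Nat.cast_ne_zero.2 Subgroup.index_ne_zero_of_finite
  have hsc : (s l : ℂ) * (excIndex (F.H l) : ℂ) = (Nat.card (F.H l) : ℂ) - 1 := by
    rw [← Nat.cast_mul, hs, Nat.cast_sub Nat.card_pos, Nat.cast_one]
  rw [← hsc]
  field_simp

include hs2 hm

theorem kColumn_le (hodd : Odd (Nat.card G)) [DecidableEq ι] (i : ι) :
    ∑ l ∈ Finset.univ.erase i, (s l : ℤ) * m l i ^ 2 ≤ (excIndex (F.H i) : ℤ) - 1 := by
  classical
  haveI := Fintype.ofFinite (IrrCharacter G)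
  haveI : ∀ l, Fintype (Exc (F.H l)) := fun l => Fintype.ofFinite _
  obtain ⟨a, ha, ha1⟩ := F.exists_ne_one i
  set k : ↥(Subgroup.normalizer (F.H i : Set G)) := ⟨a, Subgroup.le_normalizer ha⟩ with hk
  have hk1 : k ≠ 1 := fun e => ha1 (congrArg Subtype.val e)
  obtain ⟨h1, h2, -⟩ := kernel_exc_column (F.H i) (F.ker i) (k := k) ha hk1
  set e : ℂ := (excIndex (F.H i) : ℂ) with he
  have he0 : e ≠ 0 := Nat.cast_ne_zero.2 Subgroup.index_ne_zero_of_finite
  have hee : ((D i).ε : ℂ) * (D i).ε = 1 := by rcases (D i).sign with h | h <;> rw [h] <;> simp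
  have hcol := sum_irr_mul_conj a a
  rw [if_pos (IsConj.refl a), kSum_irr_split F D hodd, ← Finset.add_sum_erase _ _ (Finset.mem_univ i)] at hcol
  have h1' : ∑ χ : Exc (F.H i), conj ((χ.1 : ↥(Subgroup.normalizer (F.H i : Set G)) → ℂ) k) *
      (χ.1 : ↥(Subgroup.normalizer (F.H i : Set G)) → ℂ) 1 = -e := by
    have := congrArg conj h1
    simp only [he, map_sum, map_mul, conj_irr_one, map_neg, map_natCast] at this ⊢
    exact this
  have hown : ∑ χ : Exc (F.H i), ((D i).θ χ : G → ℂ) a * conj (((D i).θ χ : G → ℂ) a) =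
      ((Nat.card (Subgroup.centralizer ({a} : Set G)) : ℂ) - e) +
        ((s i : ℂ) * ((D i).c : ℂ) ^ 2 - 2 * ((D i).ε : ℂ) * (D i).c) := by
    have hterm : ∀ χ : Exc (F.H i), ((D i).θ χ : G → ℂ) a * conj (((D i).θ χ : G → ℂ) a) =
        (χ.1 : ↥(Subgroup.normalizer (F.H i : Set G)) → ℂ) k *
            conj ((χ.1 : ↥(Subgroup.normalizer (F.H i : Set G)) → ℂ) k) +
          (((D i).ε : ℂ) * (D i).c / e) * ((χ.1 : ↥(Subgroup.normalizer (F.H i : Set G)) → ℂ) k *
            (χ.1 : ↥(Subgroup.normalizer (F.H i : Set G)) → ℂ) 1) +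
          (((D i).ε : ℂ) * (D i).c / e) * (conj ((χ.1 : ↥(Subgroup.normalizer (F.H i : Set G)) → ℂ) k) *
            (χ.1 : ↥(Subgroup.normalizer (F.H i : Set G)) → ℂ) 1) +
          ((D i).c : ℂ) ^ 2 * ((χ.1 : ↥(Subgroup.normalizer (F.H i : Set G)) → ℂ) 1 / e) ^ 2 := fun χ => by
      rw [show ((D i).θ χ : G → ℂ) a = _ from (D i).own χ k ha hk1, he]
      simp only [map_add, map_div₀, map_mul, map_intCast, map_natCast, conj_irr_one]
      linear_combination ((χ.1 : ↥(Subgroup.normalizer (F.H i : Set G)) → ℂ) k *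
        conj ((χ.1 : ↥(Subgroup.normalizer (F.H i : Set G)) → ℂ) k)) * hee
    simp only [hterm, Finset.sum_add_distrib, ← Finset.mul_sum, h1, h1', h2, he, kSum_weights F s hs i,
      show (k : G) = a from rfl]
    rw [he] at he0
    field_simp
    ring
  rw [hown, Finset.sum_congr rfl (g := fun l => (((s l : ℤ) * m l i ^ 2 : ℤ) : ℂ)) fun l hl => by
      rw [Finset.sum_congr rfl (g := fun χ : Exc (F.H l) => ((m l i : ℂ) ^ 2) *
        ((χ.1 : ↥(Subgroup.normalizer (F.H l : Set G)) → ℂ) 1 / (excIndex (F.H l) : ℂ)) ^ 2) fun χ _ => by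
          rw [hm l i (Finset.mem_erase.1 hl).1 χ a ha ha1]
          simp only [map_mul, map_div₀, conj_irr_one, map_natCast, map_intCast]
          ring, ← Finset.mul_sum, kSum_weights F s hs l]
      push_cast
      ring, ← Int.cast_sum] at hcol
  simp only [map_one, mul_one] at hcol
  set S := ∑ l ∈ Finset.univ.erase i, (s l : ℤ) * m l i ^ 2 with hS
  have hint : 1 - (excIndex (F.H i) : ℤ) + ((s i : ℤ) * (D i).c ^ 2 - 2 * (D i).ε * (D i).c) + S = 0 := by
    apply Int.cast_injective (α := ℂ)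
    push_cast [he] at hcol ⊢
    linear_combination hcol
  have hnn : 0 ≤ (s i : ℤ) * (D i).c ^ 2 - 2 * (D i).ε * (D i).c := by
    have h2' : (2 : ℤ) ≤ (s i : ℤ) := by exact_mod_cast hs2 i
    have hcc : 0 ≤ (D i).c ^ 2 - (D i).ε * (D i).c := by
      rcases lt_trichotomy (D i).c 0 with h | h | h <;> rcases (D i).sign with e | e <;> rw [e] <;>
        nlinarith
    nlinarith
  omega

theorem kValues_ne_zero (hodd : Odd (Nat.card G)) (hev : ∀ l, Even (s l)) {i j : ι} (hij : i ≠ j) :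
    m i j ≠ 0 ∨ m j i ≠ 0 := by
  classical
  by_contra! h
  haveI := Fintype.ofFinite (IrrCharacter G)
  haveI : ∀ l, Fintype (Exc (F.H l)) := fun l => Fintype.ofFinite _
  obtain ⟨a, ha, ha1⟩ := F.exists_ne_one i
  obtain ⟨b, hb, hb1⟩ := F.exists_ne_one j
  have hcol := sum_irr_mul_conj a b
  rw [if_neg (fun hc => hij (by
      obtain ⟨y, hy⟩ := isConj_iff.1 hc
      exact F.sep i j a y ha ha1 (hy ▸ hb))), kSum_irr_split F D hodd,
    ← Finset.add_sum_erase _ _ (Finset.mem_univ i),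
    ← Finset.add_sum_erase _ _ (Finset.mem_erase.2 ⟨hij.symm, Finset.mem_univ j⟩)] at hcol
  have hi0 : ∑ χ : Exc (F.H i), ((D i).θ χ : G → ℂ) a * conj (((D i).θ χ : G → ℂ) b) = 0 :=
    Finset.sum_eq_zero fun χ _ => by rw [hm i j hij χ b hb hb1, h.1]; simp
  have hj0 : ∑ χ : Exc (F.H j), ((D j).θ χ : G → ℂ) a * conj (((D j).θ χ : G → ℂ) b) = 0 :=
    Finset.sum_eq_zero fun χ _ => by rw [hm j i hij.symm χ a ha ha1, h.2]; simp
  rw [hi0, hj0, zero_add, zero_add, Finset.sum_congr rfl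
    (g := fun l => (((s l : ℤ) * (m l i * m l j) : ℤ) : ℂ)) fun l hl => by
      obtain ⟨hlj, hl'⟩ := Finset.mem_erase.1 hl
      rw [Finset.sum_congr rfl (g := fun χ : Exc (F.H l) => ((m l i : ℂ) * (m l j : ℂ)) *
        ((χ.1 : ↥(Subgroup.normalizer (F.H l : Set G)) → ℂ) 1 / (excIndex (F.H l) : ℂ)) ^ 2) fun χ _ => by
          rw [hm l i (Finset.mem_erase.1 hl').1 χ a ha ha1, hm l j hlj χ b hb hb1]
          simp only [map_mul, map_div₀, conj_irr_one, map_natCast, map_intCast]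
          ring, ← Finset.mul_sum, kSum_weights F s hs l]
      push_cast
      ring, ← Int.cast_sum] at hcol
  simp only [map_one, mul_one] at hcol
  have hint : 1 + ∑ l ∈ (Finset.univ.erase i).erase j, (s l : ℤ) * (m l i * m l j) = 0 := by
    apply Int.cast_injective (α := ℂ)
    push_cast at hcol ⊢
    linear_combination hcol
  obtain ⟨t, ht⟩ : (2 : ℤ) ∣ ∑ l ∈ (Finset.univ.erase i).erase j, (s l : ℤ) * (m l i * m l j) := by
    refine Finset.dvd_sum fun l _ => Dvd.dvd.mul_right ?_ _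
    obtain ⟨t, ht⟩ := hev l
    exact ⟨t, by omega⟩
  omega

/-- The weight of the conjugates of a member. -/
noncomputable def KernelFamily.weight (F : KernelFamily G ι) (i : ι) : ℝ :=
  ((Nat.card (F.H i) : ℝ) - 1) / ((Nat.card (F.H i) : ℝ) * (excIndex (F.H i) : ℝ))

theorem kNorm_le (hodd : Odd (Nat.card G)) [DecidableEq ι] (l : ι) :
    ∑ i ∈ Finset.univ.erase l, F.weight i * (m l i : ℝ) ^ 2 ≤
      (excIndex (F.H l) : ℝ) / (Nat.card (F.H l) : ℝ) := by
  classical
  haveI : ∀ i, Fintype (F.H i) := fun i => Fintype.ofFinite _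
  haveI : Fintype ↥(Subgroup.normalizer (F.H l : Set G)) := Fintype.ofFinite _
  haveI := Subgroup.normal_in_normalizer (H := F.H l)
  obtain ⟨χ, hχ⟩ := (D l).lin
  have hCl := kernel_centralizer_le (F.H l) (F.ker l)
  set N := Subgroup.normalizer (F.H l : Set G) with hN
  let K : Subgroup ↥(Subgroup.normalizer (F.H l : Set G)) :=
    (F.H l).subgroupOf (Subgroup.normalizer (F.H l : Set G))
  haveI := Fintype.ofFinite K
  have hcN : ∀ i, (Nat.card (Subgroup.normalizer (F.H i : Set G)) : ℂ) =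
      (Nat.card (F.H i) : ℂ) * (excIndex (F.H i) : ℂ) := fun i => by
    rw [← Nat.cast_mul, ← (Subgroup.subgroupOf (F.H i) (Subgroup.normalizer (F.H i : Set G))).card_mul_index,
      Nat.card_congr (Subgroup.subgroupOfEquivOfLe Subgroup.le_normalizer).toEquiv]
  -- the sums of the exceptional character over its kernel
  have hv := kernel_vanish (F.H l) (F.ker l) χ
  have hsum1 : ∑ k : K, (χ.1 : ↥(Subgroup.normalizer (F.H l : Set G)) → ℂ) k = 0 :=
    sum_subgroup_eq_zero_of_nonconst K hCl χ.1.2 (χ.2.imp fun _ h => h)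
  have hsum2 : ∑ k : K, (χ.1 : ↥(Subgroup.normalizer (F.H l : Set G)) → ℂ) k *
      conj ((χ.1 : ↥(Subgroup.normalizer (F.H l : Set G)) → ℂ) k) =
      (Nat.card (F.H l) : ℂ) * (excIndex (F.H l) : ℂ) := by
    have h := classInner_irr_self χ.1
    rw [classInner, inv_mul_eq_one₀ card_ne_zero'] at h
    rw [← hcN, h]
    refine Eq.trans (Finset.sum_map Finset.univ ⟨((↑) : K → ↥(Subgroup.normalizer (F.H l : Set G))),
      Subtype.val_injective⟩ fun g => (χ.1 : ↥(Subgroup.normalizer (F.H l : Set G)) → ℂ) g *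
        conj ((χ.1 : ↥(Subgroup.normalizer (F.H l : Set G)) → ℂ) g)).symm ?_
    refine Finset.sum_subset (Finset.subset_univ _) fun g _ hg => ?_
    rw [hv g fun hgK => hg (Finset.mem_map.2 ⟨⟨g, hgK⟩, Finset.mem_univ _, rfl⟩), zero_mul]
  let f : G → ℂ := fun x => ((D l).θ χ : G → ℂ) x * conj (((D l).θ χ : G → ℂ) x)
  have hf : IsClassFunction G f := fun a b => by simp only [f, isClassFunction_irr _ a b]
  have hnorm : ∑ x : G, f x = (Nat.card G : ℂ) := by
    have h := classInner_irr_self ((D l).θ χ)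
    rw [classInner, inv_mul_eq_one₀ card_ne_zero'] at h
    exact h.symm
  have hown : ∑ k ∈ Finset.univ.filter (fun k : F.H l => k ≠ 1), f k =
      (Nat.card (F.H l) : ℂ) * (excIndex (F.H l) : ℂ) - (excIndex (F.H l) : ℂ) ^ 2 +
        (((Nat.card (F.H l) : ℂ) - 1) * ((D l).c : ℂ) ^ 2 -
          2 * ((D l).ε : ℂ) * (D l).c * (excIndex (F.H l) : ℂ)) := by
    have e0 : ∑ k ∈ Finset.univ.filter (fun k : F.H l => k ≠ 1), f k =
        ∑ k ∈ Finset.univ.erase (1 : K), f ((k : ↥(Subgroup.normalizer (F.H l : Set G))) : G) := by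
      rw [Finset.filter_ne']
      exact Finset.sum_nbij' (fun k => ⟨⟨k.1, Subgroup.le_normalizer k.2⟩, k.2⟩) (fun k => ⟨k.1.1, k.2⟩)
        (fun k hk => Finset.mem_erase.2 ⟨fun e => (Finset.mem_erase.1 hk).1
          (Subtype.ext (congrArg (fun t : K => ((t : ↥(Subgroup.normalizer (F.H l : Set G))) : G)) e)), Finset.mem_univ _⟩)
        (fun k hk => Finset.mem_erase.2 ⟨fun e => (Finset.mem_erase.1 hk).1
          (Subtype.ext (Subtype.ext (congrArg (fun t : F.H l => (t : G)) e))), Finset.mem_univ _⟩)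
        (fun _ _ => rfl) (fun _ _ => rfl) fun _ _ => rfl
    have hee : ((D l).ε : ℂ) * (D l).ε = 1 := by rcases (D l).sign with h | h <;> rw [h] <;> simp
    have he0 : (excIndex (F.H l) : ℂ) ≠ 0 := Nat.cast_ne_zero.2 Subgroup.index_ne_zero_of_finite
    have hsum1' : ∑ k : K, conj ((χ.1 : ↥(Subgroup.normalizer (F.H l : Set G)) → ℂ) k) = 0 := by
      rw [← map_sum, hsum1, map_zero]
    rw [← Finset.add_sum_erase _ _ (Finset.mem_univ (1 : K)), OneMemClass.coe_one, hχ] at hsum1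
    rw [← Finset.add_sum_erase _ _ (Finset.mem_univ (1 : K)), OneMemClass.coe_one, hχ, map_natCast] at hsum2 hsum1'
    rw [e0, Finset.sum_congr rfl (g := fun k : K => (χ.1 : ↥(Subgroup.normalizer (F.H l : Set G)) → ℂ) k *
        conj ((χ.1 : ↥(Subgroup.normalizer (F.H l : Set G)) → ℂ) k) +
        ((D l).ε : ℂ) * (D l).c * (χ.1 : ↥(Subgroup.normalizer (F.H l : Set G)) → ℂ) k +
        ((D l).ε : ℂ) * (D l).c * conj ((χ.1 : ↥(Subgroup.normalizer (F.H l : Set G)) → ℂ) k) +
        ((D l).c : ℂ) ^ 2) fun k hk => by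
      simp only [f, (D l).own χ k k.2 fun e => (Finset.mem_erase.1 hk).1 (Subtype.ext e), hχ,
        mul_div_assoc, div_self he0, mul_one, map_add, map_mul, map_intCast]
      linear_combination ((χ.1 : ↥(Subgroup.normalizer (F.H l : Set G)) → ℂ) k *
        conj ((χ.1 : ↥(Subgroup.normalizer (F.H l : Set G)) → ℂ) k)) * hee]
    simp only [Finset.sum_add_distrib, ← Finset.mul_sum, Finset.sum_const,
      Finset.card_erase_of_mem (Finset.mem_univ _), Finset.card_univ, nsmul_eq_mul,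
      ← Nat.card_eq_fintype_card, Nat.cast_sub Nat.card_pos, Nat.cast_one]
    rw [show Nat.card K = Nat.card (F.H l) from
      Nat.card_congr (Subgroup.subgroupOfEquivOfLe Subgroup.le_normalizer).toEquiv]
    linear_combination hsum2 + ((D l).ε : ℂ) * (D l).c * hsum1 + ((D l).ε : ℂ) * (D l).c * hsum1'
  have hother : ∀ i, l ≠ i → ∑ k ∈ Finset.univ.filter (fun k : F.H i => k ≠ 1), f k =
      ((Nat.card (F.H i) : ℂ) - 1) * (m l i : ℂ) ^ 2 := by
    intro i hi
    have he0 : (excIndex (F.H l) : ℂ) ≠ 0 := Nat.cast_ne_zero.2 Subgroup.index_ne_zero_of_finite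
    rw [Finset.sum_congr rfl (g := fun _ => (m l i : ℂ) ^ 2) fun k hk => by
      simp only [f, hm l i hi χ k k.2 (fun e => (Finset.mem_filter.1 hk).2 (Subtype.ext e)), hχ,
        div_self he0, one_mul, map_intCast]
      ring, Finset.sum_const, Finset.filter_ne', Finset.card_erase_of_mem (Finset.mem_univ _),
      Finset.card_univ, nsmul_eq_mul, Nat.card_eq_fintype_card, Nat.cast_sub Fintype.card_pos, Nat.cast_one]
  have h := F.sum_class_function hf
  rw [hnorm, ← Finset.add_sum_erase _ _ (Finset.mem_univ l), hown,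
    Finset.sum_congr rfl (s₁ := Finset.univ.erase l) (fun i hi => congrArg _ (hother i (Finset.mem_erase.1 hi).1.symm)),
    show f 1 = ((Complex.normSq (((D l).θ χ : G → ℂ) 1) : ℝ) : ℂ) from Complex.mul_conj _] at h
  simp only [hcN] at h
  set g : ℝ := (Nat.card G : ℝ) with hg_
  set a : ℝ := (Nat.card (F.H l) : ℝ) with ha_
  set e : ℝ := (excIndex (F.H l) : ℝ) with he_
  set T : ℝ := ∑ i ∈ Finset.univ.erase l, F.weight i * (m l i : ℝ) ^ 2 with hT
  set Y : ℝ := (a - 1) * ((D l).c : ℝ) ^ 2 - 2 * ((D l).ε : ℝ) * (D l).c * e with hY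
  have h' : g = Complex.normSq (((D l).θ χ : G → ℂ) 1) + (g / (a * e) * (a * e - e ^ 2 + Y) + g * T) := by
    apply Complex.ofReal_injective
    simp only [hT, KernelFamily.weight, hg_, ha_, he_, hY]
    push_cast at h ⊢
    rw [Finset.mul_sum]
    exact h.trans (congrArg _ (congrArg _ (Finset.sum_congr rfl fun i _ => by ring)))
  have ha0 : 0 < a := Nat.cast_pos.2 Nat.card_pos
  have he0 : 0 < e := Nat.cast_pos.2 (Nat.pos_of_ne_zero Subgroup.index_ne_zero_of_finite)
  have hg0 : 0 < g := Nat.cast_pos.2 Nat.card_pos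
  have hY0 : 0 ≤ Y := by
    have hse : 2 * e ≤ a - 1 := by
      have h2 : (2 : ℝ) ≤ (s l : ℝ) := Nat.ofNat_le_cast.2 (hs2 l)
      have h3 : (s l : ℝ) * e = a - 1 := by
        rw [he_, ha_, ← Nat.cast_mul, hs, Nat.cast_sub Nat.card_pos, Nat.cast_one]
      nlinarith
    have hcc : (0 : ℝ) ≤ ((D l).c : ℝ) ^ 2 - ((D l).ε : ℝ) * (D l).c := by
      have : (0 : ℤ) ≤ (D l).c ^ 2 - (D l).ε * (D l).c := by
        rcases lt_trichotomy (D l).c 0 with h | h | h <;> rcases (D l).sign with e | e <;> rw [e] <;>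
          nlinarith
      exact_mod_cast this
    rw [hY]
    nlinarith [sq_nonneg ((D l).c : ℝ)]
  have hr0 := Complex.normSq_nonneg (((D l).θ χ : G → ℂ) 1)
  have h2 : g / (a * e) * (a * e - e ^ 2 + Y) = g * ((a * e - e ^ 2 + Y) / (a * e)) := by ring
  rw [h2] at h'
  have h3 : (a * e - e ^ 2 + Y) / (a * e) + T ≤ 1 := by nlinarith
  have h4 : 1 - e / a ≤ (a * e - e ^ 2 + Y) / (a * e) := by
    rw [le_div_iff₀ (by positivity), show (1 - e / a) * (a * e) = a * e - e ^ 2 by field_simp]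
    linarith
  linarith

end CfsgLib.Char
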