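import Mathlib
import Cfsg.Agent.Lib.Char.KernelFamily
import Cfsg.Agent.Lib.Coprime.FpfAction

/-!
# No group of odd order is covered by conjugates of coprime TI Frobenius kernels
-/

set_option autoImplicit false
set_option linter.unusedSectionVars false
set_option linter.style.haveILetI false

namespace CfsgLib.Char

open scoped ComplexConjugate
open Cfsg

universe u v

variable {G : Type u} [Group G] [Fintype G] {ι : Type v} [Fintype ι] (F : KernelFamily G ι)

theorem kernel_card_normalizer (i : ι) :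
    Nat.card (Subgroup.normalizer (F.H i : Set G)) = Nat.card (F.H i) * excIndex (F.H i) := by
  rw [← (Subgroup.subgroupOf (F.H i) (Subgroup.normalizer (F.H i : Set G))).card_mul_index,
    Nat.card_congr (Subgroup.subgroupOfEquivOfLe Subgroup.le_normalizer).toEquiv]

theorem sum_kernel_weight : ∑ i, F.weight i = 1 - 1 / (Nat.card G : ℝ) := by
  classical
  haveI : ∀ i, Fintype (F.H i) := fun i => Fintype.ofFinite _
  have h := F.sum_class_function (f := fun _ => (1 : ℂ)) (fun _ _ => rfl)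
  simp only [Finset.filter_ne', Finset.card_erase_of_mem (Finset.mem_univ _), Finset.sum_const,
    Finset.card_univ, nsmul_eq_mul, mul_one, Nat.cast_sub Fintype.card_pos, Nat.cast_one,
    ← Nat.card_eq_fintype_card, kernel_card_normalizer F, Nat.cast_mul] at h
  have hg : (Nat.card G : ℝ) ≠ 0 := Nat.cast_ne_zero.2 Nat.card_pos.ne'
  have h' : (Nat.card G : ℝ) = 1 + (Nat.card G : ℝ) * ∑ i, F.weight i := by
    apply Complex.ofReal_injective
    simp only [KernelFamily.weight]
    push_cast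
    rw [Finset.mul_sum]
    exact h.trans (congrArg _ (Finset.sum_congr rfl fun i _ => by
      rw [Nat.cast_sub Nat.card_pos, Nat.cast_one]
      ring))
  field_simp
  linarith

theorem kWeight_le (i : ι) : 0 ≤ F.weight i ∧ F.weight i ≤ 1 / (excIndex (F.H i) : ℝ) := by
  have ha : (1 : ℝ) ≤ (Nat.card (F.H i) : ℝ) := Nat.one_le_cast.2 Nat.card_pos
  have he : (0 : ℝ) < (excIndex (F.H i) : ℝ) :=
    Nat.cast_pos.2 (Nat.pos_of_ne_zero Subgroup.index_ne_zero_of_finite)
  refine ⟨div_nonneg (by linarith) (by positivity), ?_⟩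
  rw [KernelFamily.weight, div_le_div_iff₀ (by positivity) he]
  nlinarith

/-- The normalizer of a member is proper as soon as there are two members. -/
theorem kNormalizer_ne_top {i : ι} (hex : ∃ j, j ≠ i) : Subgroup.normalizer (F.H i : Set G) ≠ ⊤ := by
  classical
  intro htop
  haveI := Subgroup.normalizer_eq_top_iff.1 htop
  obtain ⟨j₀, hj₀⟩ := hex
  obtain ⟨x₀, hx₀, hx₀1⟩ := F.exists_ne_one j₀
  obtain ⟨W, hW, hfpf⟩ := exists_fpf_complement (F.H i) (F.ker i).cent
  have hWne : W ≠ ⊥ := by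
    intro h
    rw [h, Subgroup.isComplement'_bot_right] at hW
    exact (F.ker i).lt.ne (hW.trans htop.symm)
  have hcen : Subgroup.center W ≠ ⊥ := by
    refine CfsgLib.Coprime.frob_complement_center_ne_bot hW (F.ker i).ne_bot hWne fun a ha ha1 => ?_
    refine (Subgroup.eq_bot_iff_forall _).2 fun k hk => ?_
    exact hfpf a ha ha1 k hk.1 (Subgroup.mem_centralizer_singleton_iff.1 hk.2).symm
  obtain ⟨⟨a, ha⟩, ha1⟩ := Subgroup.ne_bot_iff_exists_ne_one.1 hcen
  have ha1' : (a : G) ≠ 1 := fun e => ha1 (Subtype.ext (Subtype.ext e))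
  obtain ⟨j, y, hy⟩ := F.cover a ha1'
  have hya : y * (a : G) * y⁻¹ ≠ 1 := fun e => ha1' (conj_eq_one_iff.1 e)
  have hji : j ≠ i := by
    rintro rfl
    have h := Subgroup.Normal.conj_mem (H := F.H j) inferInstance _ hy y⁻¹
    refine ha1' (Subgroup.disjoint_def.1 hW.disjoint ?_ a.2)
    simpa [mul_assoc] using h
  have hWJ : ∀ w ∈ W, y * w * y⁻¹ ∈ F.H j := by
    intro w hw
    refine (F.ker j).cent _ hy hya (Subgroup.mem_centralizer_singleton_iff.2 ?_)
    have hc : w * (a : G) = (a : G) * w :=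
      congrArg Subtype.val (Subgroup.mem_center_iff.1 ha ⟨w, hw⟩)
    calc y * w * y⁻¹ * (y * (a : G) * y⁻¹) = y * (w * (a : G)) * y⁻¹ := by group
      _ = y * ((a : G) * w) * y⁻¹ := by rw [hc]
      _ = y * (a : G) * y⁻¹ * (y * w * y⁻¹) := by group
  have hdis : ∀ x, x ∈ F.H i → x ∈ F.H j → x = 1 := fun x hi hj => by
    by_contra hx1
    exact hji (F.sep j i x 1 hj hx1 (by simpa using hi))
  obtain ⟨x, hxN, hxJ⟩ := SetLike.exists_of_lt (F.ker j).lt
  obtain ⟨⟨⟨k, hk⟩, ⟨w, hw⟩⟩, hkw, -⟩ := hW.existsUnique (y⁻¹ * x * y)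
  replace hkw : k * w = y⁻¹ * x * y := hkw
  have hx : x = y * k * y⁻¹ * (y * w * y⁻¹) := by
    calc x = y * (y⁻¹ * x * y) * y⁻¹ := by group
      _ = y * (k * w) * y⁻¹ := by rw [hkw]
      _ = _ := by group
  set k' := y * k * y⁻¹ with hk'def
  have hk' : k' ∈ F.H i := Subgroup.Normal.conj_mem inferInstance k hk y
  have hk'N : k' ∈ Subgroup.normalizer (F.H j : Set G) := by
    have e : k' = x * (y * w * y⁻¹)⁻¹ := by rw [hx, mul_inv_cancel_right]
    rw [e]
    exact Subgroup.mul_mem _ hxN (Subgroup.inv_mem _ (Subgroup.le_normalizer (hWJ w hw)))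
  have hcomm : k' * (y * (a : G) * y⁻¹) = y * (a : G) * y⁻¹ * k' := by
    set b := y * (a : G) * y⁻¹
    refine mul_inv_eq_one.1 ?_
    refine hdis _ ?_ ?_
    · have e : k' * b * (b * k')⁻¹ = k' * (b * k'⁻¹ * b⁻¹) := by group
      rw [e]
      exact (F.H i).mul_mem hk' (Subgroup.Normal.conj_mem inferInstance _ ((F.H i).inv_mem hk') b)
    · have e : k' * b * (b * k')⁻¹ = (k' * b * k'⁻¹) * b⁻¹ := by group
      rw [e]
      exact (F.H j).mul_mem ((Subgroup.mem_normalizer_iff.1 hk'N b).1 hy) ((F.H j).inv_mem hy)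
  refine hxJ ?_
  rw [hx]
  exact (F.H j).mul_mem ((F.ker j).cent _ hy hya (Subgroup.mem_centralizer_singleton_iff.2 hcomm))
    (hWJ w hw)

theorem kernel_card_sq_le {i : ι} (hex : ∃ j, j ≠ i) : Nat.card (F.H i) ^ 2 ≤ Nat.card G := by
  obtain ⟨y, -, hy⟩ := SetLike.exists_of_lt (lt_top_iff_ne_top.2 (kNormalizer_ne_top F hex))
  rw [sq, ← Nat.card_prod]
  refine Nat.card_le_card_of_injective (fun q : F.H i × F.H i => (q.1 : G) * (y * q.2 * y⁻¹))
    fun q q' h => ?_
  replace h : (q.1 : G) * (y * q.2 * y⁻¹) = q'.1 * (y * q'.2 * y⁻¹) := h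
  have hmem : y * ((q.2 : G) * (q'.2 : G)⁻¹) * y⁻¹ ∈ F.H i := by
    have e : y * ((q.2 : G) * (q'.2 : G)⁻¹) * y⁻¹ = (q.1 : G)⁻¹ * q'.1 := by
      rw [eq_inv_mul_iff_mul_eq]
      calc (q.1 : G) * (y * ((q.2 : G) * (q'.2 : G)⁻¹) * y⁻¹)
          = (q.1 : G) * (y * q.2 * y⁻¹) * (y * (q'.2 : G)⁻¹ * y⁻¹) := by group
        _ = q'.1 := by rw [h]; group
    rw [e]
    exact (F.H i).mul_mem ((F.H i).inv_mem q.1.2) q'.1.2
  have h2 : q.2 = q'.2 := Subtype.ext (mul_inv_eq_one.1
    ((F.ker i).ti y hy _ ((F.H i).mul_mem q.2.2 ((F.H i).inv_mem q'.2.2)) hmem))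
  rw [h2] at h
  exact Prod.ext (Subtype.ext (mul_right_cancel h)) h2

include F in
/-- No group of odd order has a covering family of at least two coprime TI Frobenius kernels. -/
theorem kernelFamily_odd_false [Nontrivial ι] (hodd : Odd (Nat.card G)) : False := by
  classical
  have D : ∀ i, KData (F.H i) := fun i => (nonempty_kData (F.H i) (F.ker i) hodd).some
  choose s hs hev hs2 he3 hodde using fun i => kernel_index_facts (F.H i) (F.ker i) hodd
  have hex : ∀ l i, ∃ m : ℤ, l ≠ i → ∀ (χ : Exc (F.H l)) (k : G), k ∈ F.H i → k ≠ 1 →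
      ((D l).θ χ : G → ℂ) k = (χ.1 : ↥(Subgroup.normalizer (F.H l : Set G)) → ℂ) 1 /
        (excIndex (F.H l) : ℂ) * m := fun l i => by
    by_cases h : l = i
    · exact ⟨0, fun h' => absurd h h'⟩
    · exact (exists_kValues F D l i h).imp fun _ hm _ => hm
  choose m hm using hex
  obtain ⟨o, -, ho⟩ := Finset.exists_min_image Finset.univ (fun i => excIndex (F.H i)) Finset.univ_nonempty
  set a : ℝ := (Nat.card (F.H o) : ℝ) with ha_
  set e : ℝ := (excIndex (F.H o) : ℝ) with he_
  set g : ℝ := (Nat.card G : ℝ) with hg_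
  have he : (3 : ℝ) ≤ e := by rw [he_]; exact_mod_cast he3 o
  have hsa : (s o : ℝ) * e = a - 1 := by
    rw [ha_, he_, ← Nat.cast_mul, hs, Nat.cast_sub Nat.card_pos, Nat.cast_one]
  have hga : a ^ 2 ≤ g := by rw [ha_, hg_]; exact_mod_cast kernel_card_sq_le F (exists_ne o)
  set L := (Finset.univ.erase o).filter fun l => m l o ≠ 0 with hL
  set B := (Finset.univ.erase o).filter fun i => m o i ≠ 0 with hB
  have hsq1 : ∀ {z : ℤ}, z ≠ 0 → (1 : ℤ) ≤ z ^ 2 := fun {z} hz =>
    Int.add_one_le_iff.2 (lt_of_le_of_ne (sq_nonneg z) (Ne.symm (pow_ne_zero 2 hz)))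
  -- the column bound
  have hLs : ∑ l ∈ L, (s l : ℝ) ≤ e - 1 := by
    have h := kColumn_le F D s hs hs2 m hm hodd o
    have h' : ∑ l ∈ L, (s l : ℤ) ≤ (excIndex (F.H o) : ℤ) - 1 := by
      refine le_trans ?_ h
      refine le_trans (Finset.sum_le_sum fun l hl => ?_) (Finset.sum_le_sum_of_subset_of_nonneg
        (Finset.filter_subset _ _) fun l _ _ => mul_nonneg (Int.natCast_nonneg _) (sq_nonneg _))
      exact le_mul_of_one_le_right (Int.natCast_nonneg _) (hsq1 (Finset.mem_filter.1 hl).2)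
    have h'' : ((∑ l ∈ L, (s l : ℤ) : ℤ) : ℝ) ≤ (((excIndex (F.H o) : ℤ) - 1 : ℤ) : ℝ) := Int.cast_le.2 h'
    simpa [he_] using h''
  -- the norm bound
  have hBw : ∑ i ∈ B, F.weight i ≤ e / a := by
    refine le_trans ?_ (kNorm_le F D s hs hs2 m hm hodd o)
    refine le_trans (Finset.sum_le_sum fun i hi => ?_) (Finset.sum_le_sum_of_subset_of_nonneg
      (Finset.filter_subset _ _) fun i _ _ => mul_nonneg (kWeight_le F i).1 (sq_nonneg _))
    refine le_mul_of_one_le_right (kWeight_le F i).1 ?_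
    exact_mod_cast hsq1 (Finset.mem_filter.1 hi).2
  have hsplit : 1 - 1 / g - F.weight o ≤ ∑ l ∈ L, F.weight l + ∑ i ∈ B, F.weight i := by
    rw [← sum_kernel_weight F, ← Finset.add_sum_erase _ _ (Finset.mem_univ o), add_sub_cancel_left,
      ← Finset.sum_union_inter]
    refine le_trans (Finset.sum_le_sum_of_subset_of_nonneg ?_ fun i _ _ => (kWeight_le F i).1)
      (le_add_of_nonneg_right (Finset.sum_nonneg fun i _ => (kWeight_le F i).1))
    intro i hi
    rcases kValues_ne_zero F D s hs hs2 m hm hodd hev (Finset.mem_erase.1 hi).1 with h | h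
    · exact Finset.mem_union_left _ (Finset.mem_filter.2 ⟨hi, h⟩)
    · exact Finset.mem_union_right _ (Finset.mem_filter.2 ⟨hi, h⟩)
  have hmin : ∀ l, e ≤ (excIndex (F.H l) : ℝ) := fun l => Nat.cast_le.2 (ho l (Finset.mem_univ l))
  have hwo : F.weight o = (s o : ℝ) / a := by
    rw [KernelFamily.weight, ← ha_, ← he_, ← hsa]
    field_simp
  have hw : ∀ l, F.weight l ≤ 1 / e := fun l =>
    (kWeight_le F l).2.trans (one_div_le_one_div_of_le (by linarith) (hmin l))
  obtain ⟨t, ht⟩ := hev o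
  rcases (show t = 1 ∨ 2 ≤ t by have := hs2 o; omega) with rfl | ht2
  · have hso : (s o : ℝ) = 2 := by rw [ht]; norm_num
    rw [hso] at hsa hwo
    have hwl : ∀ l ∈ L, F.weight l ≤ (s l : ℝ) / (2 * (e + 2)) := by
      intro l hl
      obtain ⟨t', ht'⟩ := hev l
      rcases (show t' = 1 ∨ 2 ≤ t' by have := hs2 l; omega) with rfl | ht2'
      · have hne : excIndex (F.H o) ≠ excIndex (F.H l) := fun hE => by
          have h1 := hs o
          have h2 := hs l
          rw [ht] at h1
          rw [ht', ← hE] at h2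
          have hc : Nat.card (F.H l) = Nat.card (F.H o) := by
            have := Nat.card_pos (α := F.H o)
            have := Nat.card_pos (α := F.H l)
            omega
          have hcp := F.cop o l (Finset.mem_erase.1 (Finset.mem_filter.1 hl).1).1.symm
          rw [hc, Nat.coprime_self] at hcp
          exact (F.ker o).ne_bot (Subgroup.card_eq_one.1 hcp)
        have hle : excIndex (F.H o) + 2 ≤ excIndex (F.H l) := by
          obtain ⟨u, hu⟩ := hodde o
          obtain ⟨v, hv⟩ := hodde l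
          have := ho l (Finset.mem_univ l)
          omega
        have hsl : (s l : ℝ) = 2 := by rw [ht']; norm_num
        refine (kWeight_le F l).2.trans ?_
        rw [hsl, div_mul_cancel_left₀ two_ne_zero, ← one_div]
        exact one_div_le_one_div_of_le (by linarith) (by rw [he_]; exact_mod_cast hle)
      · have hsl : (4 : ℝ) ≤ (s l : ℝ) := by
          rw [ht']
          exact_mod_cast (show 4 ≤ t' + t' by omega)
        refine (hw l).trans ?_
        rw [div_le_div_iff₀ (by linarith) (by linarith)]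
        nlinarith
    have hLw : ∑ l ∈ L, F.weight l ≤ (e - 1) / (2 * (e + 2)) := by
      refine (Finset.sum_le_sum hwl).trans ?_
      rw [← Finset.sum_div]
      exact div_le_div_of_nonneg_right hLs (by linarith)
    have hae : a = 2 * e + 1 := by linarith
    have key : 1 - 1 / g ≤ (e - 1) / (2 * (e + 2)) + e / a + 2 / a := by linarith
    rw [hae] at key hga
    have hg1 : 1 / g ≤ 1 / (2 * e + 1) ^ 2 := one_div_le_one_div_of_le (by positivity) hga
    have hlt : (e - 1) / (2 * (e + 2)) + e / (2 * e + 1) + 2 / (2 * e + 1) + 1 / (2 * e + 1) ^ 2 < 1 := by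
      rw [div_add_div _ _ (by positivity) (by positivity), div_add_div _ _ (by positivity) (by positivity),
        div_add_div _ _ (by positivity) (by positivity), div_lt_one (by positivity)]
      nlinarith [mul_nonneg (mul_nonneg (sq_nonneg (2 * e + 1)) (sq_nonneg (2 * e + 1))) (sub_nonneg.2 he)]
    linarith
  · have hso : (4 : ℝ) ≤ (s o : ℝ) := by
      rw [ht]
      exact_mod_cast (show 4 ≤ t + t by omega)
    have hwl : ∀ l ∈ L, F.weight l ≤ (s l : ℝ) / (2 * e) := fun l _ => by
      refine (hw l).trans ?_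
      have h2 : (2 : ℝ) ≤ (s l : ℝ) := Nat.ofNat_le_cast.2 (hs2 l)
      rw [div_le_div_iff₀ (by linarith) (by linarith)]
      nlinarith
    have hLw : ∑ l ∈ L, F.weight l ≤ (e - 1) / (2 * e) := by
      refine (Finset.sum_le_sum hwl).trans ?_
      rw [← Finset.sum_div]
      exact div_le_div_of_nonneg_right hLs (by linarith)
    have hae : 4 * e + 1 ≤ a := by nlinarith
    have h1 : e / a ≤ 1 / 4 := by rw [div_le_div_iff₀ (by linarith) (by norm_num)]; linarith
    have h2 : (e - 1) / (2 * e) + 1 / e = 1 / 2 + 1 / (2 * e) := by field_simp; ring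
    have h3 : 1 / (2 * e) ≤ 1 / 6 := one_div_le_one_div_of_le (by norm_num) (by linarith)
    have h4 : 1 / g ≤ 1 / 169 := one_div_le_one_div_of_le (by norm_num) (by nlinarith)
    have h5 := hw o
    linarith

end CfsgLib.Char
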