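import Mathlib
import Cfsg.Prelude.Def_OddOrder
import Cfsg.Agent.Lib.Char.CNLocal
import Cfsg.Agent.Lib.Char.PartitionOdd
import Cfsg.Agent.Lib.Char.FrobeniusFormula
import Cfsg.Agent.Lib.CFun.LocalGlobal

/-!
# Feit, Hall and Thompson: CN groups of odd order are solvable
-/

set_option autoImplicit false
set_option linter.unusedSectionVars false
set_option linter.style.haveILetI false

open scoped commutatorElement

namespace CfsgLib.Char

open Cfsg

universe u

variable {G : Type u} [Group G] [Finite G]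

/-- A group of odd order does not involve `Qd(p)`. -/
theorem qdFree_of_odd {p : ℕ} [Fact p.Prime] (hp : p ≠ 2) (hodd : Odd (Nat.card G)) :
    ¬ Cfsg.Involves ↥(Cfsg.qd p) G := by
  rintro ⟨K, R, hR, ⟨e⟩⟩
  haveI := hR
  have h1 : Nat.card ↥(Cfsg.qd p) ∣ Nat.card G := by
    rw [← Nat.card_congr e.toEquiv]
    exact (Subgroup.card_quotient_dvd_card _).trans (Subgroup.card_subgroup_dvd_card K)
  haveI : Fact (2 < p) := ⟨lt_of_le_of_ne (Fact.out : p.Prime).two_le (Ne.symm hp)⟩
  let M : Matrix.SpecialLinearGroup (Fin 3) (ZMod p) :=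
    ⟨Matrix.diagonal ![-1, -1, 1], by simp [Matrix.det_diagonal, Fin.prod_univ_three]⟩
  have hM : M ∈ Cfsg.qd p := Subgroup.subset_closure
    ⟨Matrix.diagonal_apply_ne _ (by decide), Matrix.diagonal_apply_ne _ (by decide),
      (Matrix.diagonal_apply_eq _ _).trans (by simp)⟩
  have hM1 : M ≠ 1 := fun e => ZMod.neg_one_ne_one (n := p)
    (by simpa [M] using congrArg (fun A : Matrix.SpecialLinearGroup (Fin 3) (ZMod p) =>
      (A : Matrix (Fin 3) (Fin 3) (ZMod p)) 0 0) e)
  have hM2 : M ^ 2 = 1 := by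
    rw [sq]
    refine Subtype.ext ?_
    show Matrix.diagonal ![(-1 : ZMod p), -1, 1] * Matrix.diagonal ![(-1 : ZMod p), -1, 1] = 1
    rw [Matrix.diagonal_mul_diagonal, ← Matrix.diagonal_one]
    congr 1
    funext i
    fin_cases i <;> simp
  have h2 : 2 ∣ Nat.card ↥(Cfsg.qd p) := by
    haveI := Fact.mk Nat.prime_two
    rw [← orderOf_eq_prime hM2 hM1]
    exact Subgroup.orderOf_dvd_natCard _ hM
  exact Nat.not_even_iff_odd.2 hodd (even_iff_two_dvd.2 (h2.trans h1))

/-- The `p`-part of an element. -/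
theorem exists_pow_isPGroup (p : ℕ) [Fact p.Prime] (x : G) :
    ∃ k : ℕ, ¬ p ∣ k ∧ IsPGroup p (Subgroup.zpowers (x ^ k)) := by
  obtain ⟨a, k, hk, hxk⟩ :=
    Nat.exists_eq_pow_mul_and_not_dvd (orderOf_pos x).ne' p (Fact.out : p.Prime).ne_one
  refine ⟨k, hk, IsPGroup.of_card (n := a) ?_⟩
  rw [Nat.card_zpowers, orderOf_pow_of_dvd (fun e => hk (by simp [e])) (Dvd.intro_left _ hxk.symm),
    hxk, Nat.mul_div_cancel _ (Nat.pos_of_ne_zero fun e => hk (by simp [e]))]

theorem coprime_orderOf_of_isPGroup {p q : ℕ} [Fact p.Prime] [Fact q.Prime] {x : G} (h : q ≠ p)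
    (hx : IsPGroup q (Subgroup.zpowers x)) : (orderOf x).Coprime p := by
  obtain ⟨n, hn⟩ := IsPGroup.iff_card.1 hx
  rw [Nat.card_zpowers] at hn
  rw [hn]
  exact ((Nat.coprime_primes (Fact.out : q.Prime) Fact.out).2 h).pow_left n

section Kernels

/-- Kernels with a common non-identity element coincide up to the given conjugation. -/
theorem kernel_conj_mem [Fintype G] {H H' : Subgroup G} (hK : IsTIKernel H) (hK' : IsTIKernel H')
    {y k : G} (hk : k ∈ H) (hk1 : k ≠ 1) (hy : y * k * y⁻¹ ∈ H') :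
    ∀ x ∈ H, y * x * y⁻¹ ∈ H' := by
  intro x hx
  haveI := kernel_isNilpotent H hK
  haveI : Nontrivial H := (Subgroup.nontrivial_iff_ne_bot H).2 hK.ne_bot
  have hc : (⊤ : Subgroup H) ⊓ Subgroup.center H ≠ ⊥ :=
    CfsgLib.Coprime.nilpotent_inf_center_ne_bot _ top_ne_bot
  obtain ⟨⟨z, hz⟩, hz1⟩ := Subgroup.ne_bot_iff_exists_ne_one.1 hc
  have hz1' : (z : G) ≠ 1 := fun e => hz1 (Subtype.ext (Subtype.ext e))
  have hzk : ∀ w ∈ H, w * (z : G) = z * w := fun w hw =>
    congrArg Subtype.val (Subgroup.mem_center_iff.1 hz.2 ⟨w, hw⟩)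
  have hconj : ∀ a b : G, a * b = b * a →
      y * a * y⁻¹ * (y * b * y⁻¹) = y * b * y⁻¹ * (y * a * y⁻¹) := fun a b h => by
    calc y * a * y⁻¹ * (y * b * y⁻¹) = y * (a * b) * y⁻¹ := by group
      _ = y * (b * a) * y⁻¹ := by rw [h]
      _ = y * b * y⁻¹ * (y * a * y⁻¹) := by group
  have hyz : y * (z : G) * y⁻¹ ∈ H' := hK'.cent _ hy (fun e => hk1 (conj_eq_one_iff.1 e))
    (Subgroup.mem_centralizer_singleton_iff.2 (hconj _ _ (hzk k hk).symm))
  exact hK'.cent _ hyz (fun e => hz1' (conj_eq_one_iff.1 e))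
    (Subgroup.mem_centralizer_singleton_iff.2 (hconj _ _ (hzk x hx)))

/-- A kernel contains a Sylow subgroup for each prime dividing its order. -/
theorem kernel_sylow_le {H : Subgroup G} (hK : IsTIKernel H) {q : ℕ} [Fact q.Prime]
    (hq : q ∣ Nat.card H) : ∃ Q : Sylow q G, (Q : Subgroup G) ≤ H := by
  obtain ⟨⟨k, hk⟩, hkq⟩ := exists_prime_orderOf_dvd_card' q hq
  rw [Subgroup.orderOf_mk] at hkq
  have hk1 : k ≠ 1 := fun e => (Fact.out : q.Prime).ne_one (by rw [← hkq, e, orderOf_one])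
  obtain ⟨Q, hQ⟩ := (IsPGroup.of_card (n := 1) (p := q) (G := Subgroup.zpowers k)
    (by rw [Nat.card_zpowers, hkq, pow_one])).exists_le_sylow
  refine ⟨Q, fun x hx => ?_⟩
  haveI : Nontrivial (Q : Subgroup G) :=
    (Subgroup.nontrivial_iff_ne_bot _).2 fun h => hk1 (Subgroup.mem_bot.1 (h ▸ hQ (Subgroup.mem_zpowers k)))
  haveI := Q.2.center_nontrivial
  obtain ⟨⟨w, hw⟩, hw1⟩ := exists_ne (1 : Subgroup.center (Q : Subgroup G))
  have hwQ : ∀ v ∈ (Q : Subgroup G), v * (w : G) = w * v := fun v hv =>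
    congrArg Subtype.val (Subgroup.mem_center_iff.1 hw ⟨v, hv⟩)
  have hwH : (w : G) ∈ H := hK.cent k hk hk1
    (Subgroup.mem_centralizer_singleton_iff.2 (hwQ k (hQ (Subgroup.mem_zpowers k))).symm)
  exact hK.cent _ hwH (fun e => hw1 (Subtype.ext (Subtype.ext e)))
    (Subgroup.mem_centralizer_singleton_iff.2 (hwQ x hx))

end Kernels

section Simple

variable [IsSimpleGroup G] (hodd : Odd (Nat.card G)) (hnc : ¬ ∀ a b : G, a * b = b * a)
  (hCN : IsCNGroup G) (hsol : ∀ H : Subgroup G, H ≠ ⊤ → Group.IsSolvable H)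

include hnc

theorem cn_not_isNilpotent : ¬ Group.IsNilpotent G := by
  intro h
  have hc : (⊤ : Subgroup G) ⊓ Subgroup.center G ≠ ⊥ :=
    CfsgLib.Coprime.nilpotent_inf_center_ne_bot _ top_ne_bot
  rcases (inferInstance : (Subgroup.center G).Normal).eq_bot_or_eq_top with h' | h'
  · exact hc (by rw [h', inf_bot_eq])
  · exact hnc fun a b => (Subgroup.mem_center_iff.1 (h' ▸ Subgroup.mem_top b) a)

include hodd hCN hsol

/-- In the normalizer of a non-trivial `p`-subgroup the Sylow subgroup is normal. -/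
theorem cn_local_normal_sylow {p : ℕ} [Fact p.Prime] (U : Subgroup G) (hU : IsPGroup p U)
    (hU1 : U ≠ ⊥) : ∃ R : Sylow p (Subgroup.normalizer (U : Set G)),
      (R : Subgroup (Subgroup.normalizer (U : Set G))).Normal := by
  classical
  by_contra hcon
  have hp2 : p ≠ 2 := by
    rintro rfl
    obtain ⟨⟨u, hu⟩, hu1⟩ := Subgroup.ne_bot_iff_exists_ne_one.1 hU1
    obtain ⟨n, hn⟩ := IsPGroup.iff_card.1 hU
    rcases Nat.eq_zero_or_pos n with rfl | hn0
    · exact hU1 (Subgroup.card_eq_one.1 (by rw [hn, pow_zero]))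
    · exact Nat.not_even_iff_odd.2 hodd (even_iff_two_dvd.2
        (((dvd_pow_self 2 hn0.ne').trans hn.symm.dvd).trans (Subgroup.card_subgroup_dvd_card U)))
  set B : Set (Subgroup G) := {V | IsPGroup p V ∧ V ≠ ⊥ ∧
    ∀ R : Sylow p (Subgroup.normalizer (V : Set G)), ¬ (R : Subgroup (Subgroup.normalizer (V : Set G))).Normal} with hB
  have hmem : U ∈ B := ⟨hU, hU1, fun R hR => hcon ⟨R, hR⟩⟩
  obtain ⟨V, hV, hmax⟩ := Set.exists_max_image B
    (fun V => (Nat.card (Subgroup.normalizer (V : Set G))).factorization p) (Set.toFinite _) ⟨U, hmem⟩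
  obtain ⟨hVp, hV1, hVn⟩ := hV
  set W : Subgroup G → Subgroup G := Cfsg.inducedFunctor Cfsg.kInfLower with hW
  have hchar := CfsgLib.CFun.kInfLower_isCharPFunctor (p := p)
  -- the functor of a Sylow subgroup of the normalizer is normal in it
  have hkey : ∀ (V : Subgroup G), IsPGroup p V → V ≠ ⊥ →
      (∀ R : Sylow p (Subgroup.normalizer (V : Set G)), ¬ (R : Subgroup (Subgroup.normalizer (V : Set G))).Normal) →
      ∀ R : Sylow p (Subgroup.normalizer (V : Set G)),
        Subgroup.normalizer (V : Set G) ≤ Subgroup.normalizer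
          ((W ((R : Subgroup (Subgroup.normalizer (V : Set G))).map (Subgroup.normalizer (V : Set G)).subtype) : Subgroup G) : Set G) ∧
        (R : Subgroup (Subgroup.normalizer (V : Set G))).map (Subgroup.normalizer (V : Set G)).subtype ≠ ⊥ := by
    intro V hVp hV1
    set N := Subgroup.normalizer (V : Set G) with hN
    intro hVn R
    haveI : (V.subgroupOf N).Normal := Subgroup.normal_in_normalizer
    have hVN : V.subgroupOf N ≠ ⊥ := fun h => hV1 (by
      rw [← Subgroup.map_subgroupOf_eq_of_le (Subgroup.le_normalizer : V ≤ N), h, Subgroup.map_bot])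
    have hVc : V.subgroupOf N ≤ Cfsg.pCore p N :=
      CfsgLib.Coprime.le_pCore (hVp.of_equiv (Subgroup.subgroupOfEquivOfLe Subgroup.le_normalizer).symm)
    have hD : Cfsg.pCore p N ≠ ⊥ := fun h => hVN (le_bot_iff.1 (h ▸ hVc))
    have hfree : ¬ Cfsg.Involves ↥(Cfsg.qd p) N :=
      qdFree_of_odd hp2 (hodd.of_dvd_nat (Subgroup.card_subgroup_dvd_card N))
    have hcon' := cn_centralizer_pCore_le (cn_subgroup hCN N) hD hVn
    have hn := (CfsgLib.CFun.kInf_normal_of_qdFree hp2 hfree hcon' R).1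
    refine ⟨?_, fun h => hD (le_bot_iff.1 ?_)⟩
    · rw [hW, CfsgLib.CFun.induced_map hchar R.2 N.subtype N.subtype_injective]
      have h := Subgroup.le_normalizer_map N.subtype (H := Cfsg.inducedFunctor Cfsg.kInfLower (R : Subgroup N))
      haveI := hn
      rw [Subgroup.normalizer_eq_top, ← MonoidHom.range_eq_map, Subgroup.range_subtype] at h
      exact h
    · rw [← (Subgroup.map_eq_bot_iff_of_injective _ N.subtype_injective).1 h]
      exact CfsgLib.Coprime.pCore_le_sylow R
  obtain ⟨R⟩ := (inferInstance : Nonempty (Sylow p (Subgroup.normalizer (V : Set G))))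
  obtain ⟨hle, hR1⟩ := hkey V hVp hV1 hVn R
  set R' := (R : Subgroup (Subgroup.normalizer (V : Set G))).map (Subgroup.normalizer (V : Set G)).subtype with hR'
  have hR'p : IsPGroup p R' := R.2.map _
  set M := Subgroup.normalizer ((W R' : Subgroup G) : Set G) with hM
  have hWB : W R' ∈ B := by
    refine ⟨hR'p.to_le (CfsgLib.CFun.induced_le _ _), CfsgLib.CFun.induced_ne_bot hchar hR'p hR1, ?_⟩
    intro S hS
    haveI := hS
    -- a normal Sylow subgroup of the larger normalizer restricts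
    set N := Subgroup.normalizer (V : Set G)
    let φ : N →* M := Subgroup.inclusion hle
    have hRS : (R : Subgroup N) ≤ (S : Subgroup M).comap φ := by
      have h := S.is_maximal' ((R.2.map φ).to_sup_of_normal_right S.2) le_sup_right
      exact Subgroup.map_le_iff_le_comap.1 (le_sup_left.trans h.le)
    have h := R.is_maximal' (S.2.comap_of_injective φ (Subgroup.inclusion_injective hle)) hRS
    refine hVn R ?_
    rw [← h]
    infer_instance
  obtain ⟨P, hP⟩ := hR'p.exists_le_sylow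
  have hR'P : R' = P := by
    by_contra hne
    have hlt := CfsgLib.CFun.lt_inf_normalizer_sylow P hP hne
    set X := (P : Subgroup G) ⊓ Subgroup.normalizer (R' : Set G)
    have hXM : X ≤ M := inf_le_right.trans
      (CfsgLib.CFun.cfun_normalizer_le (CfsgLib.CFun.isConjugacyFunctor_induced hchar) hR'p)
    obtain ⟨m, hm⟩ := IsPGroup.iff_card.1 (P.2.to_le (inf_le_left (b := Subgroup.normalizer (R' : Set G))) :
      IsPGroup p X)
    obtain ⟨a, ha⟩ := IsPGroup.iff_card.1 hR'p
    have h1 : a < m := by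
      have h := CfsgLib.CFun.card_lt_card hlt
      rw [hm, ha] at h
      exact (Nat.pow_lt_pow_iff_right (Fact.out : p.Prime).one_lt).1 h
    have h2 : m ≤ (Nat.card M).factorization p :=
      ((Fact.out : p.Prime).pow_dvd_iff_le_factorization Nat.card_pos.ne').1 (hm ▸ Subgroup.card_dvd_of_le hXM)
    have h3 : (Nat.card (Subgroup.normalizer (V : Set G))).factorization p = a := by
      have h := R.card_eq_multiplicity
      rw [← Subgroup.card_map_of_injective (Subgroup.normalizer (V : Set G)).subtype_injective, ← hR', ha] at h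
      exact (Nat.pow_right_injective (Fact.out : p.Prime).two_le h).symm
    have h4 := hmax _ hWB
    simp only [← hM] at h4
    omega
  rw [hR'P] at hM hWB
  obtain ⟨hWp, hW1, hWn⟩ := hWB
  have hPM : (P : Subgroup G) ≤ M := by
    rw [hM]
    exact Subgroup.le_normalizer.trans
      (CfsgLib.CFun.cfun_normalizer_le (CfsgLib.CFun.isConjugacyFunctor_induced hchar) P.2)
  have hMtop : M ≠ ⊤ := by
    intro h
    rw [hM] at h
    haveI := Subgroup.normalizer_eq_top_iff.1 h
    rcases (inferInstance : (W (P : Subgroup G)).Normal).eq_bot_or_eq_top with h' | h'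
    · exact hW1 h'
    · rw [h'] at hWp
      exact cn_not_isNilpotent hnc (hWp.of_equiv Subgroup.topEquiv).isNilpotent
  haveI := hsol M hMtop
  -- transfer
  have hres : Cfsg.pResidual p G = ⊤ := by
    haveI := CfsgLib.Fusion.pResidual_normal (G := G) (p := p)
    rcases (inferInstance : (Cfsg.pResidual p G).Normal).eq_bot_or_eq_top with h | h
    · exfalso
      refine cn_not_isNilpotent hnc (IsPGroup.isNilpotent (p := p) fun x => ?_)
      obtain ⟨k, hk⟩ := CfsgLib.Fusion.exists_pow_p_mem_pResidual (p := p) x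
      exact ⟨k, Subgroup.mem_bot.1 (h ▸ hk)⟩
    · exact h
  have hfoc : (P : Subgroup G) ≤ ⁅(P : Subgroup G), M⁆ := by
    refine (CfsgLib.Fusion.le_focalSubgroup_of_pResidual_eq_top P hres).trans
      (CfsgLib.Fusion.focalSubgroup_le_of_control fun x hx g hg => ?_)
    have hstr := CfsgLib.CFun.strongAt_of_ctrl hchar
      (CfsgLib.CFun.strongCtrl_kInf_of_qdFree hp2 (qdFree_of_odd hp2 hodd)).1 P
    obtain ⟨n, hn, he⟩ := hstr {x} g (fun a ha => by rw [Set.mem_singleton_iff.1 ha]; exact hx)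
      (fun a ha => by rw [Set.mem_singleton_iff.1 ha]; exact hg)
    exact ⟨n, hM ▸ hn, he x rfl⟩
  let PM : Sylow p M := P.subtype hPM
  have hPc : (PM : Subgroup M) ≤ commutator M := by
    intro x hx
    have h1 : (x : G) ∈ ⁅(⊤ : Subgroup M).map M.subtype, (⊤ : Subgroup M).map M.subtype⁆ := by
      rw [← MonoidHom.range_eq_map, Subgroup.range_subtype]
      exact Subgroup.commutator_mono hPM le_rfl (hfoc hx)
    rw [← Subgroup.map_commutator, ← commutator_def] at h1
    obtain ⟨y, hy, hyx⟩ := h1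
    rwa [← M.subtype_injective hyx]
  have hWn' : ∀ S : Sylow p M, ¬ (S : Subgroup M).Normal := by rw [hM]; exact hWn
  have hDM : Cfsg.pCore p M ≠ ⊥ := by
    intro h
    refine hW1 (le_bot_iff.1 ?_)
    have hle' : W (P : Subgroup G) ≤ M := hM ▸ Subgroup.le_normalizer
    haveI : ((W (P : Subgroup G)).subgroupOf M).Normal :=
      (Subgroup.normal_subgroupOf_iff_le_normalizer hle').2 hM.le
    rw [← Subgroup.map_subgroupOf_eq_of_le hle',
      le_bot_iff.1 ((CfsgLib.Coprime.le_pCore (hWp.of_equiv (Subgroup.subgroupOfEquivOfLe hle').symm)).trans h.le),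
      Subgroup.map_bot]
  haveI := CfsgLib.Coprime.pCore_normal' (G := M) p
  exact hWn' PM (cn_sylow_normal_of_le_commutator (CfsgLib.Coprime.pCore_isPGroup p)
    (cn_centralizer_pCore_le (cn_subgroup hCN M) hDM hWn') (cn_subgroup hCN M)
    (hodd.of_dvd_nat (Subgroup.card_subgroup_dvd_card M)) rfl PM hPc)

/-- Sylow subgroups meet trivially. -/
theorem cn_sylow_eq_of_mem {p : ℕ} [Fact p.Prime] {P Q : Sylow p G} {x : G} (hxP : x ∈ P)
    (hxQ : x ∈ Q) (hx1 : x ≠ 1) : P = Q := by
  classical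
  by_contra hPQ
  set S : Set (Sylow p G × Sylow p G) :=
    {q | q.1 ≠ q.2 ∧ (q.1 : Subgroup G) ⊓ (q.2 : Subgroup G) ≠ ⊥}
  have hmem : (P, Q) ∈ S := ⟨hPQ, fun h => hx1 (Subgroup.mem_bot.1 (h ▸ (⟨hxP, hxQ⟩ : x ∈ (P : Subgroup G) ⊓ Q)))⟩
  obtain ⟨⟨A, B⟩, ⟨hAB, hD⟩, hmax⟩ := Set.exists_max_image S
    (fun q => Nat.card ((q.1 : Subgroup G) ⊓ (q.2 : Subgroup G) : Subgroup G)) (Set.toFinite _) ⟨_, hmem⟩
  set D := (A : Subgroup G) ⊓ (B : Subgroup G) with hDdef
  set N := Subgroup.normalizer (D : Set G) with hN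
  obtain ⟨R, hR⟩ : ∃ R : Sylow p N, (R : Subgroup N).Normal :=
    cn_local_normal_sylow hodd hnc hCN hsol D (A.2.to_le inf_le_left) hD
  haveI := hR
  obtain ⟨T, hT⟩ := (R.2.map N.subtype).exists_le_sylow
  have key : ∀ E : Sylow p G, D ≤ E → D ≠ E → T ≠ E → False := by
    intro E hDE hne hTE
    have hlt := CfsgLib.CFun.lt_inf_normalizer_sylow E hDE hne
    have hXT : (E : Subgroup G) ⊓ N ≤ T := by
      refine le_trans ?_ hT
      rw [← Subgroup.map_subgroupOf_eq_of_le (inf_le_right : (E : Subgroup G) ⊓ N ≤ N)]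
      refine Subgroup.map_mono (le_sup_left.trans (R.is_maximal' ?_ le_sup_right).le)
      exact ((E.2.to_le inf_le_left).of_equiv (Subgroup.subgroupOfEquivOfLe inf_le_right).symm).to_sup_of_normal_right R.2
    have h1 := CfsgLib.CFun.card_lt_card hlt
    have h2 : Nat.card ((E : Subgroup G) ⊓ N : Subgroup G) ≤ Nat.card ((T : Subgroup G) ⊓ (E : Subgroup G) : Subgroup G) :=
      Nat.le_of_dvd Nat.card_pos (Subgroup.card_dvd_of_le (le_inf hXT inf_le_left))
    have h3 : (T, E) ∈ S := ⟨hTE, fun h => hD (le_bot_iff.1 (h ▸ le_inf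
      ((le_inf hDE Subgroup.le_normalizer).trans hXT) hDE))⟩
    have h4 := hmax _ h3
    simp only [← hDdef] at h4
    rw [← hN] at h1
    omega
  have hDA : D ≠ A := by
    intro h
    refine hAB (Sylow.ext (A.is_maximal' B.2 ?_).symm)
    rw [← h]; exact inf_le_right
  have hDB : D ≠ B := by
    intro h
    refine hAB (Sylow.ext (B.is_maximal' A.2 ?_))
    rw [← h]; exact inf_le_left
  by_cases h : T = A
  · exact key B inf_le_right hDB (h ▸ hAB)
  · exact key A inf_le_left hDA h

/-- The kernel attached to a prime. -/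
theorem exists_cn_kernel (p : ℕ) [Fact p.Prime] (hp : p ∣ Nat.card G) :
    ∃ H : Subgroup G, IsTIKernel H ∧ p ∣ Nat.card H := by
  obtain ⟨P⟩ := (inferInstance : Nonempty (Sylow p G))
  have hPne : (P : Subgroup G) ≠ ⊥ := P.ne_bot_of_dvd_card hp
  haveI : Nontrivial (P : Subgroup G) := (Subgroup.nontrivial_iff_ne_bot _).2 hPne
  haveI := P.2.center_nontrivial
  obtain ⟨⟨⟨z, hzP⟩, hz⟩, hz1⟩ := exists_ne (1 : Subgroup.center (P : Subgroup G))
  have hz1' : z ≠ 1 := fun e => hz1 (Subtype.ext (Subtype.ext e))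
  set H := Subgroup.centralizer ({z} : Set G) with hH
  have hzp : IsPGroup p (Subgroup.zpowers z) := isPGroup_zpowers_of_mem P.2 hzP
  have hPH : (P : Subgroup G) ≤ H := fun v hv => Subgroup.mem_centralizer_singleton_iff.2
    (congrArg Subtype.val (Subgroup.mem_center_iff.1 hz ⟨v, hv⟩))
  haveI hnil : Group.IsNilpotent H := hCN z hz1'
  have hcent : ∀ k ∈ H, k ≠ 1 → Subgroup.centralizer ({k} : Set G) ≤ H := by
    intro k hk hk1 c hc
    refine CfsgLib.PGroup.mem_of_forall_prime_pow_mem fun r hr => ?_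
    haveI := Fact.mk hr
    obtain ⟨m, hm, hcm⟩ := exists_pow_isPGroup r c
    refine ⟨m, hm, ?_⟩
    have hck : c ^ m * k = k * c ^ m :=
      ((show Commute c k from Subgroup.mem_centralizer_singleton_iff.1 hc).pow_left m).eq
    have hzk : z * k = k * z := (Subgroup.mem_centralizer_singleton_iff.1 hk).symm
    by_cases hrp : r = p
    · subst hrp
      set C := Subgroup.centralizer ({k} : Set G)
      haveI : Group.IsNilpotent C := hCN k hk1
      obtain ⟨T⟩ := (inferInstance : Nonempty (Sylow r C))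
      haveI hTn : (T : Subgroup C).Normal :=
        Sylow.normal_of_normalizerCondition Group.normalizerCondition_of_isNilpotent T
      obtain ⟨T', hT'⟩ := (T.2.map C.subtype).exists_le_sylow
      have hin : ∀ w : G, w * k = k * w → IsPGroup r (Subgroup.zpowers w) → w ∈ T' := by
        intro w hw hwp
        have hwC : w ∈ C := Subgroup.mem_centralizer_singleton_iff.2 hw
        have hX : IsPGroup r ((Subgroup.zpowers w).comap C.subtype) :=
          hwp.comap_of_injective C.subtype C.subtype_injective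
        have h : (⟨w, hwC⟩ : C) ∈ (T : Subgroup C) :=
          (le_sup_left.trans (T.is_maximal' (hX.to_sup_of_normal_right T.2) le_sup_right).le)
            (show (⟨w, hwC⟩ : C) ∈ (Subgroup.zpowers w).comap C.subtype from Subgroup.mem_zpowers w)
        exact hT' ⟨_, h, rfl⟩
      have hPT := cn_sylow_eq_of_mem hodd hnc hCN hsol hzP (hin z hzk hzp) hz1'
      exact hPH (hPT ▸ hin _ hck hcm)
    · exact Subgroup.mem_centralizer_singleton_iff.2
        (cn_commute hCN hk1 hck hzk (coprime_orderOf_of_isPGroup hrp hcm) hzp)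
  have hne : H ≠ ⊥ := fun h => hz1' (Subgroup.mem_bot.1 (h ▸ hPH hzP))
  have hti : ∀ g : G, ∀ k ∈ H, k ≠ 1 → g * k * g⁻¹ ∈ H → g ∈ Subgroup.normalizer (H : Set G) := by
    intro g k hk hk1 hgk
    have hgz : g * z * g⁻¹ ∈ H := hcent _ hgk (fun e => hk1 (conj_eq_one_iff.1 e))
      (Subgroup.mem_centralizer_singleton_iff.2 (by
        calc g * z * g⁻¹ * (g * k * g⁻¹) = g * (z * k) * g⁻¹ := by group
          _ = g * (k * z) * g⁻¹ := by rw [(Subgroup.mem_centralizer_singleton_iff.1 hk).symm]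
          _ = g * k * g⁻¹ * (g * z * g⁻¹) := by group))
    have hmap : H.map (MulAut.conj g).toMonoidHom ≤ H := by
      rintro _ ⟨v, hv, rfl⟩
      refine hcent _ hgz (fun e => hz1' (conj_eq_one_iff.1 e)) (Subgroup.mem_centralizer_singleton_iff.2 ?_)
      show g * v * g⁻¹ * (g * z * g⁻¹) = g * z * g⁻¹ * (g * v * g⁻¹)
      calc g * v * g⁻¹ * (g * z * g⁻¹) = g * (v * z) * g⁻¹ := by group
        _ = g * (z * v) * g⁻¹ := by rw [Subgroup.mem_centralizer_singleton_iff.1 hv]
        _ = g * z * g⁻¹ * (g * v * g⁻¹) := by group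
    exact CfsgLib.Fusion.conjBy_eq_iff.1 (Subgroup.eq_of_le_of_card_ge hmap
      (Subgroup.card_map_of_injective (MulAut.conj g).injective).ge)
  refine ⟨H, ⟨fun g hg k hk hgk => ?_, hcent, hne, ?_⟩, (P.dvd_card_of_dvd_card hp).trans (Subgroup.card_dvd_of_le hPH)⟩
  · by_contra hk1
    exact hg (hti g k hk hk1 hgk)
  refine lt_of_le_of_ne Subgroup.le_normalizer fun hN => ?_
  have hnpc : Cfsg.HasNormalPComplement p G := by
    refine CfsgLib.Fusion.hasNormalPComplement_of_locallyPNilpotentAction P fun Q hQ g hg hcop => ?_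
    refine Subgroup.mem_centralizer_iff.2 fun v hv => ?_
    by_cases hv1 : v = 1
    · simp [hv1]
    have hgH : g ∈ H := hN ▸ hti g v (hPH (hQ hv)) hv1 (hPH (hQ ((Subgroup.mem_normalizer_iff.1 hg v).1 hv)))
    exact (cn_commute hCN hz1' (Subgroup.mem_centralizer_singleton_iff.1 hgH)
      (Subgroup.mem_centralizer_singleton_iff.1 (hPH (hQ hv))) hcop (isPGroup_zpowers_of_mem P.2 (hQ hv))).symm
  obtain ⟨S, K, hKn, hKS⟩ := hnpc
  haveI := hKn
  rcases hKn.eq_bot_or_eq_top with h | h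
  · rw [h, Subgroup.isComplement'_bot_left] at hKS
    exact cn_not_isNilpotent hnc ((S.2.of_equiv ((MulEquiv.subgroupCongr hKS).trans Subgroup.topEquiv)).isNilpotent)
  · rw [h, Subgroup.isComplement'_top_left] at hKS
    exact S.ne_bot_of_dvd_card hp hKS

/-- No non-abelian simple CN group of odd order has all proper subgroups solvable. -/
theorem simple_cn_odd_false : False := by
  classical
  haveI := Fintype.ofFinite G
  have hG1 : Nat.card G ≠ 1 := fun h => hnc fun a b => by
    haveI := (Nat.card_eq_one_iff_unique.1 h).1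
    exact Subsingleton.elim _ _
  have hex : ∀ p : ℕ, ∃ H : Subgroup G, p.Prime → p ∣ Nat.card G → IsTIKernel H ∧ p ∣ Nat.card H := fun p => by
    by_cases h : p.Prime ∧ p ∣ Nat.card G
    · haveI := Fact.mk h.1
      exact (exists_cn_kernel hodd hnc hCN hsol p h.2).imp fun _ hH _ _ => hH
    · exact ⟨⊥, fun h1 h2 => absurd ⟨h1, h2⟩ h⟩
  choose H hH using hex
  -- kernels with a common prime are conjugate
  have hconj : ∀ p q : ℕ, p.Prime → p ∣ Nat.card G → q.Prime → q ∣ Nat.card G → ∀ r : ℕ, r.Prime →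
      r ∣ Nat.card (H p) → r ∣ Nat.card (H q) →
      ∃ y : G, ∀ x ∈ H p, y * x * y⁻¹ ∈ H q := by
    intro p q hp hpG hq hqG r hr hrp hrq
    haveI := Fact.mk hr
    obtain ⟨Q₁, hQ₁⟩ := kernel_sylow_le (hH p hp hpG).1 hrp
    obtain ⟨Q₂, hQ₂⟩ := kernel_sylow_le (hH q hq hqG).1 hrq
    obtain ⟨y, hy⟩ := MulAction.exists_smul_eq G Q₁ Q₂
    obtain ⟨⟨k, hk⟩, hk1⟩ := Subgroup.ne_bot_iff_exists_ne_one.1
      (Q₁.ne_bot_of_dvd_card (hrp.trans (Subgroup.card_subgroup_dvd_card _)))
    refine ⟨y, kernel_conj_mem (hH p hp hpG).1 (hH q hq hqG).1 (hQ₁ hk) (fun e => hk1 (Subtype.ext e)) (hQ₂ ?_)⟩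
    rw [← hy, Sylow.coe_subgroup_smul]
    exact Subgroup.smul_mem_pointwise_smul k (MulAut.conj y) _ hk
  have hcard : ∀ p q : ℕ, p.Prime → p ∣ Nat.card G → q.Prime → q ∣ Nat.card G → ∀ r : ℕ, r.Prime →
      r ∣ Nat.card (H p) → r ∣ Nat.card (H q) → Nat.card (H p) = Nat.card (H q) := by
    intro p q hp hpG hq hqG r hr hrp hrq
    have : ∀ a b : ℕ, (∃ y : G, ∀ x ∈ H a, y * x * y⁻¹ ∈ H b) → Nat.card (H a) ≤ Nat.card (H b) := by
      rintro a b ⟨y, hy⟩
      refine Nat.card_le_card_of_injective (fun x : H a => (⟨y * x * y⁻¹, hy x x.2⟩ : H b)) fun u v huv => ?_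
      exact Subtype.ext (mul_left_cancel (mul_right_cancel (congrArg Subtype.val huv)))
    exact le_antisymm (this p q (hconj p q hp hpG hq hqG r hr hrp hrq))
      (this q p (hconj q p hq hqG hp hpG r hr hrq hrp))
  let ι := {p : ℕ // p ∈ (Nat.card G).primeFactors.filter fun p => (Nat.card (H p)).minFac = p}
  have hι : ∀ i : ι, i.1.Prime ∧ i.1 ∣ Nat.card G ∧ (Nat.card (H i.1)).minFac = i.1 := fun i => by
    obtain ⟨h1, h2⟩ := Finset.mem_filter.1 i.2
    exact ⟨Nat.prime_of_mem_primeFactors h1, Nat.dvd_of_mem_primeFactors h1, h2⟩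
  -- every kernel is conjugate into a representative
  have hrep : ∀ r : ℕ, r.Prime → r ∣ Nat.card G →
      ∃ i : ι, r ∣ Nat.card (H i.1) ∧ ∃ y : G, ∀ x ∈ H r, y * x * y⁻¹ ∈ H i.1 := by
    intro r hr hrG
    obtain ⟨hKr, hrd⟩ := hH r hr hrG
    have hne1 : Nat.card (H r) ≠ 1 := fun h => hKr.ne_bot (Subgroup.card_eq_one.1 h)
    set q := (Nat.card (H r)).minFac with hq_
    have hq : q.Prime := Nat.minFac_prime hne1
    have hqr : q ∣ Nat.card (H r) := Nat.minFac_dvd _
    have hqG : q ∣ Nat.card G := hqr.trans (Subgroup.card_subgroup_dvd_card _)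
    have he := hcard r q hr hrG hq hqG q hq hqr (hH q hq hqG).2
    exact ⟨⟨q, Finset.mem_filter.2 ⟨Nat.mem_primeFactors.2 ⟨hq, hqG, Nat.card_pos.ne'⟩, by rw [← he]⟩⟩,
      he ▸ hrd, hconj r q hr hrG hq hqG q hq hqr (hH q hq hqG).2⟩
  let F : KernelFamily G ι :=
    { H := fun i => H i.1
      ker := fun i => (hH i.1 (hι i).1 (hι i).2.1).1
      cover := fun x hx => by
        obtain ⟨r, hr, hrx⟩ := Nat.exists_prime_and_dvd (fun h => hx (orderOf_eq_one_iff.1 h))
        haveI := Fact.mk hr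
        have hrG := hrx.trans (orderOf_dvd_natCard x)
        obtain ⟨Q, hQ⟩ := kernel_sylow_le (hH r hr hrG).1 (hH r hr hrG).2
        set x' := x ^ (orderOf x / r) with hx'
        have hx'o : orderOf x' = r := orderOf_pow_orderOf_div (orderOf_pos x).ne' hrx
        have hx'1 : x' ≠ 1 := fun e => hr.ne_one (by rw [← hx'o, e, orderOf_one])
        obtain ⟨T, hT⟩ := (IsPGroup.of_card (n := 1) (p := r) (G := Subgroup.zpowers x')
          (by rw [Nat.card_zpowers, hx'o, pow_one])).exists_le_sylow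
        obtain ⟨y, hy⟩ := MulAction.exists_smul_eq G T Q
        have hyx' : y * x' * y⁻¹ ∈ H r := hQ (by
          rw [← hy, Sylow.coe_subgroup_smul]
          exact Subgroup.smul_mem_pointwise_smul x' (MulAut.conj y) _ (hT (Subgroup.mem_zpowers _)))
        have hyx : y * x * y⁻¹ ∈ H r := by
          refine (hH r hr hrG).1.cent _ hyx' (fun e => hx'1 (conj_eq_one_iff.1 e))
            (Subgroup.mem_centralizer_singleton_iff.2 ?_)
          calc y * x * y⁻¹ * (y * x' * y⁻¹) = y * (x * x') * y⁻¹ := by group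
            _ = y * (x' * x) * y⁻¹ := by rw [hx', (Commute.self_pow x _).eq]
            _ = y * x' * y⁻¹ * (y * x * y⁻¹) := by group
        obtain ⟨i, -, w, hw⟩ := hrep r hr hrG
        exact ⟨i, w * y, by simpa [mul_assoc] using hw _ hyx⟩
      cop := fun i l hil => by
        refine Nat.coprime_of_dvd fun r hr hri hrl => hil (Subtype.ext ?_)
        rw [← (hι i).2.2, ← (hι l).2.2, hcard i.1 l.1 (hι i).1 (hι i).2.1 (hι l).1 (hι l).2.1 r hr hri hrl] }
  obtain ⟨r₀, hr₀, hr₀G⟩ := Nat.exists_prime_and_dvd hG1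
  obtain ⟨i, -⟩ := hrep r₀ hr₀ hr₀G
  haveI : Nontrivial ι := by
    by_contra hN
    haveI := not_nontrivial_iff_subsingleton.1 hN
    have hK := (hH i.1 (hι i).1 (hι i).2.1).1
    have hd : Nat.card G ∣ Nat.card (H i.1) := by
      rw [← Nat.factorization_le_iff_dvd Nat.card_pos.ne' Nat.card_pos.ne']
      intro r
      by_cases hr : r.Prime ∧ r ∣ Nat.card G
      · haveI := Fact.mk hr.1
        obtain ⟨j, hj, -⟩ := hrep r hr.1 hr.2
        rw [Subsingleton.elim j i] at hj
        obtain ⟨Q, hQ⟩ := kernel_sylow_le hK hj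
        have h := Subgroup.card_dvd_of_le hQ
        rw [Q.card_eq_multiplicity] at h
        exact (hr.1.pow_dvd_iff_le_factorization Nat.card_pos.ne').1 h
      · rw [Nat.factorization_eq_zero_iff _ _ |>.2 (by tauto)]
        exact Nat.zero_le _
    have htop : H i.1 = ⊤ := Subgroup.eq_top_of_card_eq _
      (Nat.dvd_antisymm (Subgroup.card_subgroup_dvd_card _) hd)
    haveI := kernel_isNilpotent _ hK
    exact cn_not_isNilpotent hnc (Group.nilpotent_of_mulEquiv
      ((MulEquiv.subgroupCongr htop).trans Subgroup.topEquiv))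
  exact kernelFamily_odd_false F hodd

end Simple

/-- Feit, Hall and Thompson: CN groups of odd order are solvable. -/
theorem isSolvable_of_cn_odd {G : Type u} [Group G] [Finite G] (hodd : Odd (Nat.card G))
    (hCN : IsCNGroup G) : Group.IsSolvable G := by
  classical
  induction hn : Nat.card G using Nat.strong_induction_on generalizing G with
  | _ n ih =>
  subst hn
  by_cases htriv : ∀ a b : G, a * b = b * a
  · exact Group.isSolvable_of_comm htriv
  haveI : Nontrivial G := not_subsingleton_iff_nontrivial.1 fun h => htriv fun a b => Subsingleton.elim _ _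
  have hsol : ∀ H : Subgroup G, H ≠ ⊤ → Group.IsSolvable H := fun H hH =>
    ih (Nat.card H) (lt_of_le_of_ne (Nat.le_of_dvd Nat.card_pos (Subgroup.card_subgroup_dvd_card _))
      fun h => hH (Subgroup.eq_top_of_card_eq H h))
      (hodd.of_dvd_nat (Subgroup.card_subgroup_dvd_card _)) (cn_subgroup hCN H) rfl
  by_cases hsimp : IsSimpleGroup G
  · exact (simple_cn_odd_false hodd htriv hCN hsol).elim
  obtain ⟨N, hNn, hNb, hNt⟩ : ∃ N : Subgroup G, N.Normal ∧ N ≠ ⊥ ∧ N ≠ ⊤ := by
    by_contra! h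
    exact hsimp ⟨fun N hN => (eq_or_ne N ⊥).imp id (h N hN)⟩
  obtain ⟨A, p, hAn, hp, -, hAne, -, hAp⟩ := exists_normal_elementary_le N hNb (hsol N hNt)
  haveI := Fact.mk hp
  have hAP : IsPGroup p A := fun a => ⟨1, Subtype.ext (by simpa using hAp a a.2)⟩
  have hD : Cfsg.pCore p G ≠ ⊥ := fun h => hAne (le_bot_iff.1 (h ▸ CfsgLib.Coprime.le_pCore hAP))
  haveI hDn := CfsgLib.Coprime.pCore_normal' (G := G) p
  by_cases hn : ∃ R : Sylow p G, (R : Subgroup G).Normal
  · obtain ⟨R, hR⟩ := hn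
    haveI := hR
    have hR1 : (R : Subgroup G) ≠ ⊥ := fun h => hD (le_bot_iff.1 (h ▸ CfsgLib.Coprime.pCore_le_sylow R))
    obtain ⟨E, hE⟩ := Subgroup.exists_right_complement'_of_coprime R.card_coprime_index
    have hEt : E ≠ ⊤ := fun h => by
      rw [h, Subgroup.isComplement'_top_right] at hE
      exact hR1 hE
    haveI : Group.IsNilpotent (R : Subgroup G) := R.2.isNilpotent
    haveI := hsol E hEt
    rw [Group.isSolvable_iff_subgroup_quotient (R : Subgroup G)]
    exact ⟨inferInstance, Group.isSolvable_of_surjective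
      (f := ((hE.symm.QuotientMulEquiv).symm : E →* G ⧸ (R : Subgroup G)))
      (hE.symm.QuotientMulEquiv).symm.surjective⟩
  · simp only [not_exists] at hn
    have hC := cn_centralizer_pCore_le hCN hD hn
    have h1 : 1 < Nat.card (Cfsg.pCore p G) := (Subgroup.one_lt_card_iff_ne_bot _).2 hD
    have hlt : Nat.card (G ⧸ Cfsg.pCore p G) < Nat.card G := by
      rw [Subgroup.card_eq_card_quotient_mul_card_subgroup (Cfsg.pCore p G)]
      exact lt_mul_of_one_lt_right Nat.card_pos h1
    haveI : Group.IsNilpotent (Cfsg.pCore p G) := (CfsgLib.Coprime.pCore_isPGroup p).isNilpotent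
    rw [Group.isSolvable_iff_subgroup_quotient (Cfsg.pCore p G)]
    exact ⟨inferInstance, ih _ hlt (hodd.of_dvd_nat (Subgroup.card_quotient_dvd_card _))
      (cn_quotient (CfsgLib.Coprime.pCore_isPGroup p) hC hCN) rfl⟩

/-- A minimal simple group of odd order is not a CN group. -/
theorem not_isMinSimpleOddOrder_of_cn {G : Type u} [Group G] [Finite G] (hG : Cfsg.IsMinSimpleOddOrder G)
    (hCN : IsCNGroup G) : False := by
  obtain ⟨hodd, hsimple, hnc, hsol⟩ := hG
  haveI := hsimple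
  exact simple_cn_odd_false hodd (fun h => hnc ⟨⟨h⟩⟩) hCN hsol

end CfsgLib.Char
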