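import Cfsg.Agent.Lib.Char.Solomon
import Cfsg.Agent.Lib.Char.NilMonomial
import Cfsg.Agent.Lib.Char.Degree
import Cfsg.Agent.Lib.Char.FrobeniusGroup

/-!
# Brauer's induction theorem and the characterization of characters
-/

set_option autoImplicit false
set_option linter.unusedSectionVars false

namespace CfsgLib.Char

open scoped ComplexConjugate
open Representation Module Cfsg

universe u

section Coprime

variable {G : Type u} [Group G] [Finite G] {p : ℕ} [Fact p.Prime]

theorem hom_eq_one_of_fixed_kernel (C P : Subgroup G) [hC : C.Normal] (hP : IsPGroup p P)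
    (hcop : Nat.Coprime (Nat.card C) p) (hCP : C ⊔ P = ⊤) (lam : C →* ℂˣ)
    (hinv : ∀ (g : G) (c : C), lam ⟨g * c * g⁻¹, hC.conj_mem (c : G) c.2 g⟩ = lam c)
    (hker : ∀ c : C, (c : G) ∈ Subgroup.centralizer (P : Set G) → lam c = 1) (c : C) : lam c = 1 := by
  classical
  let act : P → {x : C // lam x = lam c} → {x : C // lam x = lam c} := fun u x =>
    ⟨⟨u * x.1 * (u : G)⁻¹, hC.conj_mem _ x.1.2 u⟩, (hinv u x.1).trans x.2⟩
  let inst : MulAction P {x : C // lam x = lam c} :=
    { smul := act
      one_smul := fun x => Subtype.ext (Subtype.ext (by show (1 : G) * x.1 * (1 : G)⁻¹ = x.1; simp))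
      mul_smul := fun a b x => Subtype.ext (Subtype.ext (by
        show ((a * b : P) : G) * x.1 * ((a * b : P) : G)⁻¹ = a * (b * x.1 * (b : G)⁻¹) * (a : G)⁻¹
        simp [mul_assoc])) }
  have hcard : ¬ p ∣ Nat.card {x : C // lam x = lam c} := by
    intro h
    have e : Nat.card {x : C // lam x = lam c} = Nat.card lam.ker := Nat.card_congr
      { toFun := fun x => ⟨x.1 * c⁻¹, by rw [MonoidHom.mem_ker, map_mul, map_inv, x.2, mul_inv_cancel]⟩
        invFun := fun y => ⟨y.1 * c, by rw [map_mul, MonoidHom.mem_ker.mp y.2, one_mul]⟩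
        left_inv := fun x => Subtype.ext (inv_mul_cancel_right _ _)
        right_inv := fun y => Subtype.ext (mul_inv_cancel_right _ _) }
    have h2 : p ∣ Nat.card C := (e ▸ h).trans (Subgroup.card_subgroup_dvd_card lam.ker)
    exact (Fact.out : p.Prime).one_lt.ne' (Nat.dvd_one.mp (hcop.gcd_eq_one ▸ Nat.dvd_gcd h2 dvd_rfl))
  obtain ⟨⟨x, hx⟩, hfix⟩ := hP.nonempty_fixed_point_of_prime_not_dvd_card _ hcard
  rw [← hx]
  refine hker x (Subgroup.mem_centralizer_iff.mpr fun u hu => ?_)
  have h := congrArg (fun z : {x : C // lam x = lam c} => ((z.1 : C) : G)) (hfix ⟨u, hu⟩)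
  exact mul_inv_eq_iff_eq_mul.mp h

theorem lin_eq_one_of_fixed_kernel (C P : Subgroup G) [hC : C.Normal] (hP : IsPGroup p P)
    (hcop : Nat.Coprime (Nat.card C) p) (hCP : C ⊔ P = ⊤) (lam : C → ℂ)
    (hlam : IsCharacter C lam ∧ lam 1 = 1)
    (hinv : ∀ (g : G) (c : C), lam ⟨g * c * g⁻¹, hC.conj_mem (c : G) c.2 g⟩ = lam c)
    (hker : ∀ c : C, (c : G) ∈ Subgroup.centralizer (P : Set G) → lam c = 1) : lam = fun _ => 1 := by
  have hirr : IsIrrCharacter C lam := by
    obtain ⟨⟨n, ρ, rfl⟩, h1⟩ := hlam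
    have hd : finrank ℂ (Fin n → ℂ) = 1 := by
      have := (Representation.char_one ρ).symm.trans h1
      exact_mod_cast this
    have := isIrreducible_of_finrank_eq_one ρ hd
    exact ⟨n, ρ, this, rfl⟩
  obtain ⟨μ, hμ⟩ := linearCharEquiv.surjective
    (⟨⟨lam, hirr⟩, hlam.2⟩ : {χ : IrrCharacter C // (χ : C → ℂ) 1 = 1})
  have e : (fun c : C => (μ c : ℂ)) = lam :=
    congrArg (fun z => ((z.1 : IrrCharacter C) : C → ℂ)) hμ
  funext c
  rw [← congrFun e c]
  have h1 := hom_eq_one_of_fixed_kernel C P hP hcop hCP μ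
    (fun g x => Units.ext (by rw [congrFun e, congrFun e]; exact hinv g x))
    (fun x hx => Units.ext (by rw [congrFun e, Units.val_one]; exact hker x hx)) c
  rw [h1, Units.val_one]

end Coprime

variable {G : Type u} [Group G] [Finite G] {p : ℕ}

theorem isElementary_of_equiv {A B : Type u} [Group A] [Group B] (e : A ≃* B)
    (h : IsElementary p A) : IsElementary p B := by
  obtain ⟨x, hx, hcop, k, hk⟩ := h
  refine ⟨e x, ?_, ?_, k, ?_⟩
  · refine Subgroup.mem_center_iff.mpr fun g => e.symm.injective ?_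
    simpa using Subgroup.mem_center_iff.mp hx (e.symm g)
  · rwa [show orderOf (e x) = orderOf x from orderOf_injective e.toMonoidHom e.injective x]
  · rw [← hk, show e x = e.toMonoidHom x from rfl, ← MonoidHom.map_zpowers e.toMonoidHom x]
    exact Subgroup.index_map_of_bijective e.bijective _

theorem isNilpotent_of_isElementary (hp : p.Prime) {E : Type u} [Group E] [Finite E]
    (h : IsElementary p E) : Group.IsNilpotent E := by
  obtain ⟨x, hx, -, k, hk⟩ := h
  have hle : Subgroup.zpowers x ≤ Subgroup.center E := Subgroup.zpowers_le.mpr hx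
  have hN : (Subgroup.zpowers x).Normal := ⟨fun y hy g => by
    rwa [Subgroup.mem_center_iff.mp (hle hy) g, mul_inv_cancel_right]⟩
  have : Fact p.Prime := ⟨hp⟩
  have hQ : IsPGroup p (E ⧸ Subgroup.zpowers x) :=
    IsPGroup.of_card (n := k) (by rw [← Subgroup.index_eq_card, hk])
  have := hQ.isNilpotent
  exact Subgroup.isNilpotent_of_ker_le_center (QuotientGroup.mk' (Subgroup.zpowers x))
    (by rw [QuotientGroup.ker_mk']; exact hle)

theorem isElementary_subgroup (hp : p.Prime) {E : Type u} [Group E] [Finite E]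
    (h : IsElementary p E) (U : Subgroup E) : IsElementary p U := by
  obtain ⟨x, hx, hcop, k, hk⟩ := h
  have hle : Subgroup.zpowers x ≤ Subgroup.center E := Subgroup.zpowers_le.mpr hx
  have hN : (Subgroup.zpowers x).Normal := ⟨fun y hy g => by
    rwa [Subgroup.mem_center_iff.mp (hle hy) g, mul_inv_cancel_right]⟩
  set W := (Subgroup.zpowers x).subgroupOf U with hW
  have hcyc : IsCyclic W := isCyclic_of_injective
    (({ toFun := fun w => ⟨(w : U), Subgroup.mem_subgroupOf.mp w.2⟩
        map_one' := rfl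
        map_mul' := fun _ _ => rfl } : W →* Subgroup.zpowers x))
    (fun a b e => Subtype.ext (Subtype.ext (congrArg (fun z : Subgroup.zpowers x => (z : E)) e)))
  obtain ⟨w, hw⟩ := hcyc.exists_generator
  refine ⟨(w : U), Subgroup.mem_center_iff.mpr fun u => Subtype.ext
    (Subgroup.mem_center_iff.mp (hle (Subgroup.mem_subgroupOf.mp w.2)) u), ?_, ?_⟩
  · refine Nat.Coprime.of_dvd_left ?_ hcop
    rw [← Nat.card_zpowers x]
    obtain ⟨w, hw'⟩ := w
    have := orderOf_dvd_natCard (⟨(w : E), Subgroup.mem_subgroupOf.mp hw'⟩ : Subgroup.zpowers x)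
    rwa [← Subgroup.orderOf_coe, Subgroup.coe_mk, Subgroup.orderOf_coe] at this
  · have e : Subgroup.zpowers (w : U) = W := by
      refine le_antisymm (Subgroup.zpowers_le.mpr w.2) fun y hy => ?_
      obtain ⟨i, hi⟩ := hw ⟨y, hy⟩
      exact ⟨i, by simpa using congrArg Subtype.val hi⟩
    obtain ⟨j, -, hj⟩ := (Nat.dvd_prime_pow hp).mp
      (hk ▸ Subgroup.relIndex_dvd_index_of_normal (Subgroup.zpowers x) U)
    exact ⟨j, by rw [e]; exact hj⟩

theorem isElementary_map_subtype {T : Subgroup G} (E : Subgroup T) (h : IsElementary p E) :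
    IsElementary p (E.map T.subtype) :=
  isElementary_of_equiv (mapSubtypeEquiv T E) h

/-- On a quasi-elementary group the constant one is induced from elementary subgroups. -/
theorem one_mem_indSpan_quasiElem (hp : p.Prime) : ∀ (H : Type u) [Group H] [Fintype H]
    (C : Subgroup H), C.Normal → IsCyclic C → Nat.Coprime (Nat.card C) p →
    (∃ k : ℕ, C.index = p ^ k) →
    (fun _ : H => (1 : ℂ)) ∈ IndSpan (fun E : Subgroup H => IsElementary p E) := by
  intro H _ _ C hC hcyc hcop hidx
  induction hn : Nat.card H using Nat.strong_induction_on generalizing H with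
  | _ m ih =>
    subst hn
    classical
    have : Fact p.Prime := ⟨hp⟩
    obtain ⟨k, hk⟩ := hidx
    let P : Sylow p H := default
    have hPcard : Nat.card P = p ^ k := by
      rw [P.card_eq_multiplicity]
      congr 1
      rw [← C.card_mul_index, Nat.factorization_mul Nat.card_pos.ne' Subgroup.index_ne_zero_of_finite,
        hk, Finsupp.add_apply, Nat.Prime.factorization_pow hp, Finsupp.single_eq_same,
        Nat.factorization_eq_zero_of_not_dvd, zero_add]
      exact fun h => hp.one_lt.ne' (Nat.dvd_one.mp (hcop.gcd_eq_one ▸ Nat.dvd_gcd h dvd_rfl))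
    have hinf : C ⊓ (P : Subgroup H) = ⊥ := by
      refine Subgroup.inf_eq_bot_of_coprime ?_
      rw [hPcard]
      exact hcop.pow_right k
    have hsup : C ⊔ (P : Subgroup H) = ⊤ := by
      refine Subgroup.eq_top_of_card_eq _ (le_antisymm (Subgroup.card_le_card_group _) ?_)
      rw [← C.card_mul_index, hk, ← hPcard]
      refine Nat.le_of_dvd Nat.card_pos (Nat.Coprime.mul_dvd_of_dvd_of_dvd ?_
        (Subgroup.card_dvd_of_le le_sup_left) (Subgroup.card_dvd_of_le le_sup_right))
      rw [hPcard]; exact hcop.pow_right k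
    have hdec := frob_decomp C (P : Subgroup H) hsup
    let cg : CommGroup C := hcyc.commGroup
    have hCcomm : ∀ a ∈ C, ∀ b ∈ C, a * b = b * a := fun a ha b hb =>
      congrArg Subtype.val (mul_comm (⟨a, ha⟩ : C) ⟨b, hb⟩)
    set Z := C ⊓ Subgroup.centralizer ((P : Subgroup H) : Set H) with hZ
    have hZC : Z ≤ C := inf_le_left
    have hZP : ∀ z ∈ Z, ∀ u ∈ (P : Subgroup H), u * z = z * u := fun z hz u hu =>
      Subgroup.mem_centralizer_iff.mp hz.2 u hu
    have hZcen : ∀ z ∈ Z, ∀ g : H, g * z = z * g := by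
      intro z hz g
      obtain ⟨c, hc, u, hu, rfl⟩ := hdec g
      rw [mul_assoc, hZP z hz u hu, ← mul_assoc, hCcomm c hc z (hZC hz), mul_assoc]
    set E := Z ⊔ (P : Subgroup H) with hE
    let ZP : Z × (P : Subgroup H) →* E :=
      { toFun := fun q => ⟨q.1 * q.2, E.mul_mem (le_sup_left (a := Z) q.1.2) (le_sup_right (a := Z) q.2.2)⟩
        map_one' := Subtype.ext (by simp)
        map_mul' := fun a b => Subtype.ext (by
          show ((a.1 : H) * b.1) * ((a.2 : H) * b.2) = (a.1 * a.2) * (b.1 * b.2)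
          calc ((a.1 : H) * b.1) * ((a.2 : H) * b.2) = a.1 * ((b.1 : H) * a.2) * b.2 := by group
            _ = _ := by rw [← hZP b.1 b.1.2 a.2 a.2.2]; group) }
    have hZPinj : Function.Injective ZP := by
      intro a b e
      have e' : (a.1 : H) * a.2 = b.1 * b.2 := congrArg Subtype.val e
      obtain ⟨e1, e2⟩ := frob_unique C (P : Subgroup H) hinf (hZC a.1.2) (hZC b.1.2) a.2.2 b.2.2 e'
      exact Prod.ext (Subtype.ext e1) (Subtype.ext e2)
    have hEdec : ∀ e ∈ E, ∃ z ∈ Z, ∃ u ∈ (P : Subgroup H), z * u = e := by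
      intro e he
      have hle : E ≤ ZP.range.map E.subtype := sup_le
        (fun z hz => ⟨ZP (⟨z, hz⟩, 1), ⟨_, rfl⟩, by simp [ZP]⟩)
        (fun u hu => ⟨ZP (1, ⟨u, hu⟩), ⟨_, rfl⟩, by simp [ZP]⟩)
      obtain ⟨_, ⟨q, rfl⟩, rfl⟩ := hle he
      exact ⟨q.1, q.1.2, q.2, q.2.2, rfl⟩
    have hEC : ∀ c ∈ C, c ∈ E → c ∈ Z := by
      intro c hc hcE
      obtain ⟨z, hz, u, hu, e⟩ := hEdec c hcE
      obtain ⟨e1, -⟩ := frob_unique C (P : Subgroup H) hinf (hZC hz) hc hu (Subgroup.one_mem _)
        (by rw [e, mul_one])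
      exact e1 ▸ hz
    have hEcard : Nat.card E = Nat.card Z * p ^ k := by
      rw [← hPcard, ← Nat.card_prod]
      refine (Nat.card_congr (Equiv.ofBijective ZP ⟨hZPinj, ?_⟩)).symm
      rintro ⟨e, he⟩
      obtain ⟨z, hz, u, hu, rfl⟩ := hEdec e he
      exact ⟨(⟨z, hz⟩, ⟨u, hu⟩), rfl⟩
    have hEelem : IsElementary p E := by
      have hcycZ : IsCyclic Z := isCyclic_of_injective (Subgroup.inclusion hZC)
        (Subgroup.inclusion_injective _)
      obtain ⟨z₀, hz₀⟩ := hcycZ.exists_generator
      have hz₀card : orderOf z₀ = Nat.card Z := by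
        rw [← Nat.card_zpowers, (Subgroup.eq_top_iff' _).mpr hz₀, Subgroup.card_top]
      have hoz : orderOf (⟨(z₀ : H), le_sup_left (a := Z) z₀.2⟩ : E) = Nat.card Z := by
        rw [← Subgroup.orderOf_coe, ← hz₀card, ← Subgroup.orderOf_coe]
      refine ⟨⟨(z₀ : H), le_sup_left (a := Z) z₀.2⟩, Subgroup.mem_center_iff.mpr fun g =>
        Subtype.ext (hZcen _ z₀.2 g), ?_, k, ?_⟩
      · rw [hoz]; exact Nat.Coprime.of_dvd_left (Subgroup.card_dvd_of_le hZC) hcop
      · have h1 := (Subgroup.zpowers (⟨(z₀ : H), le_sup_left (a := Z) z₀.2⟩ : E)).card_mul_index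
        rw [Nat.card_zpowers, hoz, hEcard] at h1
        exact Nat.eq_of_mul_eq_mul_left Nat.card_pos h1
    set f := indFun E (fun _ => (1 : ℂ)) with hf
    have hfC : ∀ c ∈ C, f c = if c ∈ Z then (E.index : ℂ) else 0 := by
      intro c hc
      have h1 : ∀ x : H, extendByZero E (fun _ => (1 : ℂ)) (x⁻¹ * c * x) = if c ∈ Z then 1 else 0 := by
        intro x
        split_ifs with hcZ
        · refine extendByZero_mem E _ ?_
          rw [mul_assoc, ← hZcen c hcZ x, inv_mul_cancel_left]
          exact le_sup_left (a := Z) hcZ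
        · refine extendByZero_not_mem E _ fun hm => hcZ ?_
          have hz := hEC _ (by simpa using hC.conj_mem c hc x⁻¹) hm
          have h2 := hZcen _ hz x
          have h3 : x * (x⁻¹ * c * x) = c * x := by group
          rw [h3] at h2
          exact mul_right_cancel h2 ▸ hz
      rw [hf, indFun, Finset.sum_congr rfl fun x _ => h1 x]
      split_ifs with hcZ
      · rw [Finset.sum_const, Finset.card_univ, nsmul_eq_mul, mul_one, ← Nat.card_eq_fintype_card,
          ← E.index_mul_card, Nat.cast_mul]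
        have : (Nat.card E : ℂ) ≠ 0 := by exact_mod_cast Nat.card_pos.ne'
        field_simp
      · simp
    have hfchar : IsCharacter H f :=
      isCharacter_indFun E (isCharacter_of_isIrr isIrrCharacter_one)
    let one : IrrCharacter H := ⟨fun _ => 1, isIrrCharacter_one⟩
    have hf1 : classInner f (one : H → ℂ) = 1 := by
      have := Fintype.ofFinite E
      rw [hf, classInner_indFun E _ _ (isClassFunction_irr one)]
      exact classInner_irr_self (⟨fun _ => 1, isIrrCharacter_one⟩ : IrrCharacter E)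
    have hfC1 : classInner (fun c : C => f c) (fun _ => 1) = 1 := by
      have h1 : ∑ c : C, f c = (Nat.card Z : ℂ) * (E.index : ℂ) := by
        rw [Finset.sum_congr rfl fun (c : C) _ => hfC c c.2, ← Finset.sum_filter, Finset.sum_const,
          nsmul_eq_mul, ← Fintype.card_subtype, ← Nat.card_eq_fintype_card]
        congr 1
        rw [Nat.cast_inj]
        exact Nat.card_congr
          { toFun := fun c => ⟨c.1, c.2⟩
            invFun := fun z => ⟨⟨z.1, hZC z.2⟩, z.2⟩
            left_inv := fun c => rfl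
            right_inv := fun z => rfl }
      have h2 : Nat.card Z * E.index = Nat.card C := by
        have e1 := E.card_mul_index
        have e2 := C.card_mul_index
        rw [hk] at e2
        rw [hEcard, ← e2, mul_right_comm] at e1
        exact Nat.eq_of_mul_eq_mul_right (pow_pos hp.pos k) e1
      simp only [classInner, map_one, mul_one]
      rw [h1, ← Nat.cast_mul, h2, inv_mul_cancel₀ (by exact_mod_cast Nat.card_pos.ne')]
    have := Fintype.ofFinite (IrrCharacter H)
    choose m hm using classInner_char_irr_nat hfchar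
    choose a ha using fun ξ : IrrCharacter H => classInner_isCharacter
      (isCharacter_comp (isCharacter_irr ξ) C.subtype) (isCharacter_of_isIrr (isIrrCharacter_one (G := C)))
    have hexp := classFun_expand (isClassFunction_of_isCharacter hfchar)
    simp only [hm] at hexp
    have hsum1 : ∑ ξ : IrrCharacter H, m ξ * a ξ = 1 := by
      have e : (fun c : C => f c) = ∑ ξ : IrrCharacter H, (m ξ : ℂ) • fun c : C => (ξ : H → ℂ) c := by
        funext c
        have h := congrFun hexp c
        simp only [Finset.sum_apply, Pi.smul_apply] at h ⊢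
        exact h
      rw [e, classInner_sum_left] at hfC1
      have : ((∑ ξ : IrrCharacter H, m ξ * a ξ : ℕ) : ℂ) = 1 := by
        rw [Nat.cast_sum, ← hfC1]
        refine Finset.sum_congr rfl fun ξ _ => ?_
        rw [classInner_smul_left, Nat.cast_mul, ← ha]
        rfl
      exact_mod_cast this
    have hm1 : m one = 1 := by exact_mod_cast (hm one).symm.trans hf1
    have ha1 : a one = 1 := by
      have h := ha one
      have e : classInner (fun c : C => (one : H → ℂ) (C.subtype c)) (fun _ => (1 : ℂ)) = 1 :=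
        classInner_irr_self (⟨fun _ => 1, isIrrCharacter_one⟩ : IrrCharacter C)
      exact_mod_cast h.symm.trans e
    have hfspan : f ∈ IndSpan (fun E : Subgroup H => IsElementary p E) :=
      indFun_mem_indSpan hEelem (isGeneralizedCharacter_of_isCharacter
        (isCharacter_of_isIrr isIrrCharacter_one))
    have hone : (fun _ : H => (1 : ℂ)) =
        f - ∑ ξ ∈ (Finset.univ : Finset (IrrCharacter H)).erase one, (m ξ : ℂ) • (ξ : H → ℂ) := by
      rw [eq_sub_iff_add_eq]
      conv_rhs => rw [hexp, ← Finset.add_sum_erase _ _ (Finset.mem_univ one), hm1, Nat.cast_one, one_smul]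
    rw [hone]
    refine sub_mem hfspan (AddSubgroup.sum_mem _ fun ξ hξ => ?_)
    rw [Nat.cast_smul_eq_nsmul ℂ]
    rcases Nat.eq_zero_or_pos (m ξ) with h0 | h0
    · rw [h0, zero_smul]; exact zero_mem _
    refine AddSubgroup.nsmul_mem _ ?_ _
    have haξ : a ξ = 0 := by
      have h := Finset.add_sum_erase _ (fun ξ => m ξ * a ξ) (Finset.mem_univ one)
      rw [hsum1, hm1, ha1] at h
      have h2 : m ξ * a ξ ≤ ∑ x ∈ (Finset.univ : Finset (IrrCharacter H)).erase one, m x * a x :=
        Finset.single_le_sum (f := fun x => m x * a x) (fun x _ => Nat.zero_le _) hξ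
      rcases Nat.mul_eq_zero.mp (by omega : m ξ * a ξ = 0) with e | e
      · omega
      · exact e
    obtain ⟨φ, hφ1, hφ⟩ := exists_linear_constituent (θ := (ξ : H → ℂ)) ξ.2 C hCcomm
    have hξone : classInner (fun c : C => (ξ : H → ℂ) c) (fun _ => 1) = 0 := by
      have := ha ξ
      rw [haξ, Nat.cast_zero] at this
      exact this
    have hφne : (φ : C → ℂ) ≠ fun _ => 1 := fun e => hφ (by rw [e]; exact hξone)
    have hker : ∀ z : C, (z : H) ∈ Z → (φ : C → ℂ) z = 1 := by
      intro z hz
      have hval : ((ξ : H → ℂ) z).re = ((ξ : H → ℂ) 1).re := by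
        have h1 := hfC (z : H) z.2
        rw [if_pos hz, show (E.index : ℂ) = f 1 by rw [hf, indFun_one, mul_one]] at h1
        rw [hexp] at h1
        simp only [Finset.sum_apply, Pi.smul_apply, smul_eq_mul] at h1
        have h2 := congrArg Complex.re h1
        simp only [Complex.re_sum, Complex.mul_re, Complex.natCast_re, Complex.natCast_im, zero_mul,
          sub_zero] at h2
        have hle : ∀ η ∈ (Finset.univ : Finset (IrrCharacter H)),
            (m η : ℝ) * ((η : H → ℂ) z).re ≤ (m η : ℝ) * ((η : H → ℂ) 1).re := by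
          intro η _
          refine mul_le_mul_of_nonneg_left ?_ (Nat.cast_nonneg _)
          obtain ⟨n, σ, hσ, hσe⟩ := η.2
          rw [← hσe]
          refine (Complex.re_le_norm _).trans ((norm_char_le σ _).trans ?_)
          rw [Representation.char_one, Complex.natCast_re]
        have := (Finset.sum_eq_sum_iff_of_le hle).mp h2 ξ (Finset.mem_univ _)
        exact mul_left_cancel₀ (by exact_mod_cast h0.ne') this
      obtain ⟨χ, n, σ, hσ, rfl⟩ := ξ
      change (σ.character (z : H)).re = (σ.character 1).re at hval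
      have hid : σ.character (z : H) = (finrank ℂ (Fin n → ℂ) : ℂ) := by
        rw [Representation.char_one, Complex.natCast_re] at hval
        have hn := norm_char_le σ (z : H)
        apply Complex.ext
        · rw [Complex.natCast_re, hval]
        · rw [Complex.natCast_im]
          have h3 : (σ.character (z : H)).re ^ 2 + (σ.character (z : H)).im ^ 2 =
              ‖σ.character (z : H)‖ ^ 2 := by
            rw [Complex.sq_norm, Complex.normSq_apply]; ring
          rw [hval] at h3
          nlinarith [norm_nonneg (σ.character (z : H))]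
      have hσz := (char_eq_degree_iff σ _).mp hid
      obtain ⟨φ, l, τ, hτ, rfl⟩ := φ
      obtain ⟨g, hg⟩ := exists_injective_of_inner_ne_zero
        (σ.comp C.subtype : Representation ℂ C (Fin n → ℂ)) τ hφ
      have hτz : τ z = LinearMap.id := LinearMap.ext fun v => hg (by
        rw [g.isIntertwining τ (σ.comp C.subtype : Representation ℂ C (Fin n → ℂ)) z v]
        show σ (z : H) (g v) = g v
        rw [hσz]
        rfl)
      show τ.character z = 1
      rw [Representation.character, hτz, LinearMap.trace_id, ← Representation.char_one τ]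
      exact hφ1
    have hT : inertia C (φ : C → ℂ) ≠ ⊤ := by
      intro e
      refine hφne (lin_eq_one_of_fixed_kernel C (P : Subgroup H) P.isPGroup' hcop hsup φ
        ⟨isCharacter_irr φ, hφ1⟩ (fun g c => ?_) fun c hc => hker c ⟨c.2, hc⟩)
      exact congrFun ((mem_inertia C (φ : C → ℂ) g).mp (e ▸ Subgroup.mem_top g)) c
    obtain ⟨ψ, hψ, hξψ⟩ := exists_inertia_correspondent C ξ.2 φ.2 hφ
    let T := inertia C (φ : C → ℂ)
    have := Fintype.ofFinite T
    have hCT : C ≤ T := le_inertia C (isClassFunction_irr φ)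
    have hlt : Nat.card T < Nat.card H := by
      rcases Nat.lt_or_ge (Nat.card T) (Nat.card H) with h | h
      · exact h
      · exact absurd (Subgroup.eq_top_of_card_eq T (le_antisymm (Subgroup.card_le_card_group T) h)) hT
    have hcycT : IsCyclic (C.subgroupOf T) :=
      isCyclic_of_surjective (Subgroup.subgroupOfEquivOfLe hCT).symm.toMonoidHom
        (Subgroup.subgroupOfEquivOfLe hCT).symm.surjective
    have hidxT : ∃ j : ℕ, (C.subgroupOf T).index = p ^ j := by
      obtain ⟨j, -, hj⟩ := (Nat.dvd_prime_pow hp).mp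
        (hk ▸ Subgroup.relIndex_dvd_index_of_normal C T)
      exact ⟨j, hj⟩
    have h1 := ih _ hlt T (C.subgroupOf T) inferInstance hcycT
      (by rwa [Nat.card_congr (Subgroup.subgroupOfEquivOfLe hCT).toEquiv]) hidxT rfl
    have h2 := indSpan_mul_character h1
      (isGeneralizedCharacter_of_isCharacter (isCharacter_of_isIrr hψ))
    change (1 : T → ℂ) * ψ ∈ IndSpan _ at h2
    rw [one_mul] at h2
    rw [hξψ]
    exact indFun_indSpan (fun E hE => isElementary_map_subtype E hE) h2

variable [Fintype G]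

/-- Solomon's local induction theorem. -/
theorem solomon_local (hp : p.Prime) : ∃ (m : ℤ) (a : Subgroup G → ℤ), ¬ (p : ℤ) ∣ m ∧
    (∀ H, a H ≠ 0 → IsQuasiElem p H) ∧
    (fun _ : G => (m : ℂ)) = ∑ H : Subgroup G, (a H : ℂ) • indFun H (fun _ => 1) := by
  classical
  let J : Set (G → ℂ) := {f | ∃ a : Subgroup G → ℤ, (∀ H, a H ≠ 0 → IsQuasiElem p H) ∧
    f = ∑ H : Subgroup G, (a H : ℂ) • indFun H (fun _ => 1)}
  let R : AddSubgroup (G → ℂ) :=
    { carrier := J
      zero_mem' := ⟨0, fun H h => absurd rfl h, by simp⟩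
      add_mem' := fun {f g} ⟨a, ha, hf⟩ ⟨b, hb, hg⟩ => ⟨a + b, fun H h => by
        by_cases h1 : a H = 0
        · exact hb H fun h2 => h (by simp [h1, h2])
        · exact ha H h1, by simp [hf, hg, add_smul, Finset.sum_add_distrib]⟩
      neg_mem' := fun {f} ⟨a, ha, hf⟩ => ⟨-a, fun H h => ha H (by simpa using h),
        by simp [hf]⟩ }
  have hgen : ∀ H : Subgroup G, IsQuasiElem p H → indFun H (fun _ => (1 : ℂ)) ∈ R := fun H hH =>
    ⟨fun K => if K = H then 1 else 0, fun K h => by
      by_cases e : K = H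
      · rw [e]; exact hH
      · simp [e] at h, by simp⟩
  have hmulgen : ∀ H K : Subgroup G, IsQuasiElem p H →
      indFun H (fun _ => (1 : ℂ)) * indFun K (fun _ => (1 : ℂ)) ∈ R := by
    intro H K hH
    obtain ⟨ι, _, U, hU, he⟩ := exists_subgroups_indFun_mul H K
    rw [he]
    exact AddSubgroup.sum_mem _ fun i _ => hgen _ (isQuasiElem_of_le hp hH (hU i))
  have hmul : ∀ f ∈ R, ∀ g ∈ R, f * g ∈ R := by
    rintro f ⟨a, ha, rfl⟩ g ⟨b, hb, rfl⟩
    rw [Finset.sum_mul]
    refine AddSubgroup.sum_mem _ fun H _ => ?_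
    rw [Finset.mul_sum]
    refine AddSubgroup.sum_mem _ fun K _ => ?_
    rw [smul_mul_smul_comm, ← Int.cast_mul, Int.cast_smul_eq_zsmul ℂ]
    rcases eq_or_ne (a H) 0 with h | h
    · rw [h, zero_mul, zero_smul]; exact zero_mem _
    · exact AddSubgroup.zsmul_mem _ (hmulgen H K (ha H h)) _
  let ev : (G → ℤ) →+ (G → ℂ) :=
    { toFun := fun f x => (f x : ℂ)
      map_zero' := by funext x; simp
      map_add' := fun f g => by funext x; simp }
  let RZ : AddSubgroup (G → ℤ) := R.comap ev
  have hmulZ : ∀ f ∈ RZ, ∀ g ∈ RZ, f * g ∈ RZ := fun f hf g hg => by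
    show ev (f * g) ∈ R
    have e : ev (f * g) = ev f * ev g := by funext x; simp [ev]
    rw [e]
    exact hmul _ hf _ hg
  have hval : ∀ x : G, ∃ f ∈ RZ, ¬ (p : ℤ) ∣ f x := by
    intro x
    obtain ⟨H, hH, n, hn, hpn⟩ := quasiElem_perm_not_dvd hp x
    have hint : ∀ y : G, ∃ z : ℤ, indFun H (fun _ => (1 : ℂ)) y = z := by
      intro y
      rw [show indFun H (fun _ => (1 : ℂ)) = permChar G (G ⧸ H) from by
        rw [permChar_eq_indFun (G ⧸ H) ((1 : G) : G ⧸ H)]
        exact indFun_congr (MulAction.stabilizer_quotient H).symm _ _ fun _ _ _ => rfl]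
      exact ⟨(Nat.card (MulAction.fixedBy (G ⧸ H) y) : ℤ), by simp [permChar]⟩
    choose z hz using hint
    refine ⟨z, ?_, ?_⟩
    · show ev z ∈ R
      rw [show ev z = indFun H (fun _ => (1 : ℂ)) from funext fun y => (hz y).symm]
      exact hgen H hH
    · intro h
      have : z x = (n : ℤ) := by exact_mod_cast (hz x).symm.trans hn
      rw [this] at h
      exact hpn (Int.natCast_dvd_natCast.mp h)
  choose f hf hfx using hval
  have hprod := prod_mem_of_values RZ hmulZ f hf
  obtain ⟨a, ha, he⟩ := hprod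
  refine ⟨∏ x, f x x, a, ?_, ha, he⟩
  intro h
  obtain ⟨x, -, hx⟩ := (Nat.prime_iff_prime_int.mp hp).exists_mem_finset_dvd h
  exact hfx x hx

theorem quasiElem_one_mem (hp : p.Prime) {H : Subgroup G} (hH : IsQuasiElem p H) :
    indFun H (fun _ => (1 : ℂ)) ∈ IndSpan (fun E : Subgroup G => IsElementary p E) := by
  obtain ⟨C, hCH, hHN, hcyc, hcop, k, hk⟩ := hH
  have := Fintype.ofFinite H
  have hn : (C.subgroupOf H).Normal := Subgroup.normal_subgroupOf_of_le_normalizer hHN
  have hcycH : IsCyclic (C.subgroupOf H) :=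
    isCyclic_of_surjective (Subgroup.subgroupOfEquivOfLe hCH).symm.toMonoidHom
      (Subgroup.subgroupOfEquivOfLe hCH).symm.surjective
  exact indFun_indSpan (fun E hE => isElementary_map_subtype E hE)
    (one_mem_indSpan_quasiElem hp H (C.subgroupOf H) hn hcycH
      (by rwa [Nat.card_congr (Subgroup.subgroupOfEquivOfLe hCH).toEquiv]) ⟨k, hk⟩)

theorem brauer_local (hp : p.Prime) : ∃ m : ℤ, ¬ (p : ℤ) ∣ m ∧
    (fun _ : G => (m : ℂ)) ∈ IndSpan (fun E : Subgroup G => IsElementary p E) := by
  obtain ⟨m, a, hm, ha, he⟩ := solomon_local (G := G) hp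
  refine ⟨m, hm, ?_⟩
  rw [he]
  refine AddSubgroup.sum_mem _ fun H _ => ?_
  rw [Int.cast_smul_eq_zsmul ℂ]
  rcases eq_or_ne (a H) 0 with h | h
  · rw [h, zero_smul]; exact zero_mem _
  · exact AddSubgroup.zsmul_mem _ (quasiElem_one_mem hp (ha H h)) _

/-- Elementary subgroups, for any prime. -/
def IsElem {G : Type u} [Group G] (E : Subgroup G) : Prop := ∃ p : ℕ, p.Prime ∧ IsElementary p E

theorem one_mem_indSpan_elem : (fun _ : G => (1 : ℂ)) ∈ IndSpan (fun E : Subgroup G => IsElem E) := by
  classical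
  let ev : ℤ →+ (G → ℂ) :=
    { toFun := fun m _ => (m : ℂ)
      map_zero' := by funext x; simp
      map_add' := fun a b => by funext x; simp }
  let I : AddSubgroup ℤ := (IndSpan (fun E : Subgroup G => IsElem E)).comap ev
  have hI : ∀ p : ℕ, p.Prime → ∃ m ∈ I, ¬ (p : ℤ) ∣ m := by
    intro p hp
    obtain ⟨m, hm, hmem⟩ := brauer_local (G := G) hp
    refine ⟨m, ?_, hm⟩
    refine AddSubgroup.closure_mono ?_ hmem
    rintro f ⟨E, φ, hE, hφ, e⟩
    exact ⟨E, φ, ⟨p, hp, hE⟩, hφ, e⟩
  obtain ⟨a, ha⟩ := Int.subgroup_cyclic I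
  have hdvd : ∀ m ∈ I, a ∣ m := fun m hm => by
    rw [ha] at hm
    obtain ⟨n, hn⟩ := AddSubgroup.mem_closure_singleton.mp hm
    exact ⟨n, by rw [← hn, smul_eq_mul, mul_comm]⟩
  have ha1 : a.natAbs = 1 := by
    by_contra hne
    obtain ⟨p, hp, hpa⟩ := Nat.exists_prime_and_dvd hne
    obtain ⟨m, hm, hnd⟩ := hI p hp
    exact hnd ((Int.natCast_dvd.mpr hpa).trans (hdvd m hm))
  have hmem : a ∈ I := ha ▸ AddSubgroup.subset_closure rfl
  have h1 : (1 : ℤ) ∈ I := by
    rcases Int.natAbs_eq_iff.mp ha1 with e | e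
    · simpa [e] using hmem
    · simpa [e] using neg_mem hmem
  have h2 : ev 1 ∈ IndSpan (fun E : Subgroup G => IsElem E) := h1
  simpa [ev] using h2

/-- Brauer's characterization of characters. -/
theorem isGeneralizedCharacter_of_elementary {θ : G → ℂ} (hθ : IsClassFunction G θ)
    (hE : ∀ (E : Subgroup G) (p : ℕ), p.Prime → IsElementary p E →
      IsGeneralizedCharacter E (fun e : E => θ e)) : IsGeneralizedCharacter G θ := by
  have h := indSpan_mul (one_mem_indSpan_elem (G := G)) hθ fun E ⟨p, hp, hpE⟩ => hE E p hp hpE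
  rw [show (fun _ : G => (1 : ℂ)) * θ = θ from one_mul θ] at h
  exact indSpan_le_generalized _ h

theorem exists_monomial_list {χ : G → ℂ} (hχ : IsGeneralizedCharacter G χ) :
    ∃ l : List ((E : Subgroup G) × ((E →* ℂˣ) × ℤ)),
      (∀ t ∈ l, ∃ p : ℕ, p.Prime ∧ IsElementary p t.1) ∧
      χ = (l.map fun t => (t.2.2 : ℂ) • indFun t.1 (fun e => (t.2.1 e : ℂ))).sum := by
  classical
  let K : AddSubgroup (G → ℂ) := AddSubgroup.closure
    {f | ∃ (E : Subgroup G) (lam : E →* ℂˣ), IsElem E ∧ f = indFun E (fun e => (lam e : ℂ))}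
  have hK : IndSpan (fun E : Subgroup G => IsElem E) ≤ K := by
    refine (AddSubgroup.closure_le _).mpr ?_
    rintro f ⟨E, φ, ⟨p, hp, hE⟩, hφ, rfl⟩
    have := Fintype.ofFinite E
    have := Fintype.ofFinite (IrrCharacter E)
    have := isNilpotent_of_isElementary hp hE
    rw [classFun_expand (isClassFunction_of_isCharacter hφ), indFun_sum]
    refine AddSubgroup.sum_mem _ fun ψ _ => ?_
    obtain ⟨m, hm⟩ := classInner_char_irr_nat hφ ψ
    rw [hm, indFun_smul, Nat.cast_smul_eq_nsmul ℂ]
    refine AddSubgroup.nsmul_mem _ ?_ _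
    obtain ⟨U, lam, hU⟩ := nilpotent_monomial E (ψ : E → ℂ) ψ.2
    rw [hU, indFun_map]
    exact AddSubgroup.subset_closure ⟨U.map E.subtype, lam.comp (mapSubtypeEquiv E U).symm.toMonoidHom,
      ⟨p, hp, isElementary_map_subtype U (isElementary_subgroup hp hE U)⟩, rfl⟩
  have hmem : χ ∈ K := hK (by
    have h := indSpan_mul_character (one_mem_indSpan_elem (G := G)) hχ
    rwa [show (fun _ : G => (1 : ℂ)) * χ = χ from one_mul χ] at h)
  clear hχ
  induction hmem using AddSubgroup.closure_induction with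
  | mem x hx =>
    obtain ⟨E, lam, hE, rfl⟩ := hx
    exact ⟨[⟨E, lam, 1⟩], fun t ht => by rw [List.mem_singleton.mp ht]; exact hE, by simp⟩
  | zero => exact ⟨[], by simp, by simp⟩
  | add x y _ _ hx hy =>
    obtain ⟨l, hl, rfl⟩ := hx
    obtain ⟨l', hl', rfl⟩ := hy
    refine ⟨l ++ l', fun t ht => ?_, by simp⟩
    rcases List.mem_append.mp ht with h | h
    · exact hl t h
    · exact hl' t h
  | neg x _ hx =>
    obtain ⟨l, hl, rfl⟩ := hx
    refine ⟨l.map fun t => ⟨t.1, t.2.1, -t.2.2⟩, fun t ht => ?_, ?_⟩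
    · obtain ⟨s, hs, rfl⟩ := List.mem_map.mp ht
      exact hl s hs
    · rw [List.sum_neg, List.map_map, List.map_map]
      congr 1
      refine List.map_congr_left fun t _ => ?_
      simp

end CfsgLib.Char
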