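import Cfsg.Agent.Lib.Char.ExtendCriteria
import Cfsg.Agent.Lib.Char.Brauer
import Mathlib.GroupTheory.FiniteAbelian.Duality
import Mathlib.RingTheory.RootsOfUnity.AlgebraicallyClosed

/-!
# Extending across a quotient of prime power order

An invariant irreducible character of a normal subgroup of prime power index extends as soon as
the linear characters of a suitable `p`-subgroup extend.
-/

set_option autoImplicit false
set_option linter.unusedSectionVars false

namespace CfsgLib.Char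

open scoped ComplexConjugate
open Representation Module Cfsg

universe u

section Monomial

variable {X : Type u} [Group X] [Fintype X]

theorem classInner_sum_map {ι : Type*} (M : Subgroup X) [Fintype M] (φ : M → ℂ) (l : List ι)
    (a : ι → ℤ) (f : ι → X → ℂ) :
    classInner (fun m : M => (l.map fun t => (a t : ℂ) • f t).sum m) φ =
      (l.map fun t => (a t : ℂ) * classInner (fun m : M => f t m) φ).sum := by
  induction l with
  | nil => simp [classInner]
  | cons t l ih =>
    simp only [List.map_cons, List.sum_cons]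
    rw [← ih]
    simp only [classInner, Pi.add_apply, Pi.smul_apply, smul_eq_mul, add_mul, Finset.sum_add_distrib,
      mul_add, Finset.mul_sum]
    congr 1
    exact Finset.sum_congr rfl fun m _ => by ring

theorem exists_not_dvd_of_list_sum {ι : Type*} (l : List ι) (a : ι → ℤ) (n : ι → ℂ) (p : ℕ)
    (hp : p.Prime) (hn : ∀ t ∈ l, ∃ m : ℤ, n t = m) (h : (l.map fun t => (a t : ℂ) * n t).sum = 1) :
    ∃ t ∈ l, ∀ k : ℤ, n t ≠ (p : ℂ) * k := by
  by_contra hc
  push Not at hc
  have key : ∀ l' : List ι, (∀ t ∈ l', ∃ k : ℤ, n t = (p : ℂ) * k) →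
      ∃ k : ℤ, (l'.map fun t => (a t : ℂ) * n t).sum = (p : ℂ) * k := by
    intro l'
    induction l' with
    | nil => exact fun _ => ⟨0, by simp⟩
    | cons t l' ih =>
      intro hl
      obtain ⟨k, hk⟩ := hl t (List.mem_cons_self ..)
      obtain ⟨k', hk'⟩ := ih fun s hs => hl s (List.mem_cons_of_mem _ hs)
      exact ⟨a t * k + k', by rw [List.map_cons, List.sum_cons, hk', hk]; push_cast; ring⟩
  obtain ⟨k, hk⟩ := key l hc
  rw [h] at hk
  have h1 : (p : ℤ) * k = 1 := by exact_mod_cast hk.symm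
  have := hp.two_le
  rcases Int.eq_one_or_neg_one_of_mul_eq_one h1 with e | e <;> omega

/-- A monomial summand of multiplicity prime to `p`. -/
theorem exists_monomial_cover {p : ℕ} (hp : p.Prime) (M : Subgroup X) [M.Normal] [Fintype M]
    (hidx : ∃ j : ℕ, M.index = p ^ j) {χ : X → ℂ} (hχ : IsCharacter X χ)
    (h1 : classInner (fun m : M => χ m) (fun m : M => χ m) = 1) :
    ∃ (E : Subgroup X) (ψ : E →* ℂˣ), E ⊔ M = ⊤ ∧
      ∀ (c : X) (hc : c ∈ E) (ω : ℂ), c ∈ M → (∀ g, g * c = c * g) →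
        (∀ g, χ (g * c) = ω * χ g) → ω * conj ω = 1 → (ψ ⟨c, hc⟩ : ℂ) = ω := by
  classical
  obtain ⟨l, -, hl⟩ := exists_monomial_list (isGeneralizedCharacter_of_isCharacter hχ)
  have hφ : IsGeneralizedCharacter M (fun m : M => χ m) :=
    isGeneralizedCharacter_comp (isGeneralizedCharacter_of_isCharacter hχ) M.subtype
  let f : (E : Subgroup X) × ((E →* ℂˣ) × ℤ) → X → ℂ := fun t => indFun t.1 fun e => (t.2.1 e : ℂ)
  have hsum : (l.map fun t => (t.2.2 : ℂ) * classInner (fun m : M => f t m) (fun m : M => χ m)).sum = 1 := by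
    rw [← classInner_sum_map M (fun m : M => χ m) l (fun t => t.2.2) f, ← h1]
    exact congrArg (fun F : X → ℂ => classInner (fun m : M => F m) fun m : M => χ m) hl.symm
  obtain ⟨⟨E, ψ, a⟩, -, hE⟩ := exists_not_dvd_of_list_sum l (fun t => t.2.2)
    (fun t => classInner (fun m : M => f t m) (fun m : M => χ m)) p hp
    (fun t _ => classInner_generalized_int (isGeneralizedCharacter_comp
      (isGeneralizedCharacter_indFun t.1 (isGeneralizedCharacter_of_isCharacter (isCharacter_hom t.2.1)))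
      M.subtype) hφ) hsum
  simp only [f] at hE
  refine ⟨E, ψ, ?_, ?_⟩
  · by_contra hne
    set L := E ⊔ M with hL
    haveI := Fintype.ofFinite L
    have hML : M ≤ L := le_sup_right
    let η : L → ℂ := indFun (E.subgroupOf L) fun x => (ψ ⟨(x : L), Subgroup.mem_subgroupOf.mp x.2⟩ : ℂ)
    have hη : indFun L η = indFun E (fun e => (ψ e : ℂ)) :=
      indFun_trans E L le_sup_left (fun e => (ψ e : ℂ))
    let ψ' : (E.subgroupOf L) →* ℂˣ := ψ.comp (Subgroup.subgroupOfEquivOfLe le_sup_left).toMonoidHom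
    have hηg : IsGeneralizedCharacter L η :=
      isGeneralizedCharacter_indFun _ (isGeneralizedCharacter_of_isCharacter (isCharacter_hom ψ'))
    obtain ⟨n, hn⟩ := classInner_generalized_int
      (isGeneralizedCharacter_comp hηg (Subgroup.inclusion hML)) hφ
    obtain ⟨j, hj⟩ := hidx
    obtain ⟨i, -, hi⟩ := (Nat.dvd_prime_pow hp).1 (hj ▸ Subgroup.index_dvd_of_le hML : L.index ∣ p ^ j)
    obtain ⟨i, rfl⟩ : ∃ i', i = i' + 1 := by
      refine Nat.exists_eq_succ_of_ne_zero fun e => hne ?_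
      rw [e, pow_zero] at hi
      exact Subgroup.index_eq_one.1 hi
    refine hE (p ^ i * n) ?_
    have hcl := isClassFunction_of_isCharacter hχ
    have hmem : ∀ (x : X) (m : M), x⁻¹ * m * x ∈ M := fun x m => by
      have := (inferInstance : M.Normal).conj_mem _ m.2 x⁻¹
      rwa [inv_inv] at this
    have hval : ∀ m : M, indFun L η m =
        (Nat.card L : ℂ)⁻¹ * ∑ x : X, η ⟨x⁻¹ * m * x, hML (hmem x m)⟩ := fun m => by
      rw [indFun]
      congr 1
      exact Finset.sum_congr rfl fun x _ => extendByZero_mem L η (hML (hmem x m))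
    have hconj : ∀ x : X, ∑ m : M, η ⟨x⁻¹ * m * x, hML (hmem x m)⟩ * conj (χ m) =
        ∑ m : M, η (Subgroup.inclusion hML m) * conj (χ m) := by
      intro x
      have hb : Function.Bijective fun m : M => (⟨x⁻¹ * m * x, hmem x m⟩ : M) :=
        (Finite.injective_iff_bijective).1 fun a b e =>
          Subtype.ext (mul_left_cancel (mul_right_cancel (congrArg Subtype.val e)))
      refine Fintype.sum_bijective _ hb _ _ fun m => ?_
      show η _ * conj (χ (m : X)) = η _ * conj (χ (x⁻¹ * m * x))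
      congr 2
      have := hcl (m : X) x⁻¹
      rw [inv_inv] at this
      exact this.symm
    have hidxL : (Nat.card L : ℂ)⁻¹ * (Nat.card X : ℂ) = (p : ℂ) ^ (i + 1) := by
      have hL0 : (Nat.card L : ℂ) ≠ 0 := by exact_mod_cast Nat.card_pos.ne'
      rw [← L.card_mul_index, hi]
      push_cast
      field_simp
    have e1 : ∑ m : M, indFun L η m * conj (χ m) = (Nat.card L : ℂ)⁻¹ *
        ((Nat.card X : ℂ) * ∑ m : M, η (Subgroup.inclusion hML m) * conj (χ m)) := by
      rw [Finset.sum_congr (s₁ := (Finset.univ : Finset M)) rfl fun m _ => show indFun L η m * conj (χ m) = (Nat.card L : ℂ)⁻¹ *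
          ∑ x : X, η ⟨x⁻¹ * m * x, hML (hmem x m)⟩ * conj (χ m) by
        rw [hval m, mul_assoc, Finset.sum_mul], ← Finset.mul_sum, Finset.sum_comm,
        Finset.sum_congr rfl fun x _ => hconj x, Finset.sum_const, Finset.card_univ, nsmul_eq_mul,
        ← Nat.card_eq_fintype_card]
    rw [← hη, classInner, e1]
    rw [classInner] at hn
    push_cast
    rw [← hn]
    linear_combination (Nat.card M : ℂ)⁻¹ * (∑ m : M, η (Subgroup.inclusion hML m) * conj (χ m)) * hidxL
  · intro c hc ω hcM hcomm hω hω1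
    have hshift : ∀ g : X, indFun E (fun e => (ψ e : ℂ)) (g * c) =
        (ψ ⟨c, hc⟩ : ℂ) * indFun E (fun e => (ψ e : ℂ)) g := by
      intro g
      simp only [indFun, Finset.mul_sum]
      refine Finset.sum_congr rfl fun x _ => ?_
      rw [show x⁻¹ * (g * c) * x = x⁻¹ * g * x * c by
        rw [← mul_assoc, mul_assoc _ c x, ← hcomm x, ← mul_assoc]]
      by_cases hm : x⁻¹ * g * x ∈ E
      · rw [extendByZero_mem E _ hm, extendByZero_mem E _ (E.mul_mem hm hc),
          show (⟨x⁻¹ * g * x * c, E.mul_mem hm hc⟩ : E) = ⟨x⁻¹ * g * x, hm⟩ * ⟨c, hc⟩ from rfl,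
          map_mul, Units.val_mul]
        ring
      · rw [extendByZero_not_mem E _ hm,
          extendByZero_not_mem E _ fun h => hm ((E.mul_mem_cancel_right hc).1 h)]
        ring
    set F := indFun E (fun e => (ψ e : ℂ)) with hF
    have h2 : ∑ m : M, F m * conj (χ m) =
        (ψ ⟨c, hc⟩ : ℂ) * conj ω * ∑ m : M, F m * conj (χ m) := by
      conv_lhs => rw [← Equiv.sum_comp (Equiv.mulRight (⟨c, hcM⟩ : M))]
      rw [Finset.mul_sum]
      refine Finset.sum_congr rfl fun m _ => ?_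
      show F ((m : X) * c) * conj (χ ((m : X) * c)) = _
      rw [hshift, hω, map_mul]
      ring
    have hne : ∑ m : M, F m * conj (χ m) ≠ 0 := fun e => hE 0 (by
      rw [classInner]
      show _ * ∑ m : M, F m * conj (χ m) = _
      rw [e]
      simp)
    have h3 : (ψ ⟨c, hc⟩ : ℂ) * conj ω = 1 := mul_right_cancel₀ hne (h2.symm.trans (one_mul _).symm)
    linear_combination ω * h3 - (ψ ⟨c, hc⟩ : ℂ) * hω1

end Monomial

/-- A representation irreducible on the image of a homomorphism is irreducible. -/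
theorem irreducible_of_comp_eq {A B : Type*} [Group A] [Group B] {V : Type*} [AddCommGroup V] [Module ℂ V]
    (σ : Representation ℂ B V) (τ : Representation ℂ A V) [hτ : τ.IsIrreducible] (f : A →* B)
    (h : ∀ a, σ (f a) = τ a) : σ.IsIrreducible := by
  have hV := nontrivial_of_irreducible τ
  let r : Subrepresentation σ → Subrepresentation τ := fun S =>
    ⟨S.toSubmodule, fun a v hv => h a ▸ S.apply_mem_toSubmodule (f a) hv⟩
  have hne : Nontrivial (Subrepresentation σ) := by
    refine ⟨⊥, ⊤, fun e => ?_⟩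
    have e' : (⊥ : Submodule ℂ V) = ⊤ := congrArg Subrepresentation.toSubmodule e
    exact bot_ne_top e'
  refine ⟨fun S => ?_⟩
  rcases hτ.eq_bot_or_eq_top (r S) with e | e
  · have e' : S.toSubmodule = ⊥ := congrArg Subrepresentation.toSubmodule e
    exact Or.inl (Subrepresentation.toSubmodule_injective e')
  · have e' : S.toSubmodule = ⊤ := congrArg Subrepresentation.toSubmodule e
    exact Or.inr (Subrepresentation.toSubmodule_injective e')

/-- A linear character of a subgroup of a finite abelian group extends. -/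
theorem exists_linear_extension {A : Type u} [CommGroup A] [Finite A] (B : Subgroup A) (f : B →* ℂˣ) :
    ∃ g : A →* ℂˣ, ∀ b : B, g b = f b := by
  obtain ⟨g, hg⟩ := MonoidHom.restrict_surjective (M := ℂ) B f
  exact ⟨g, fun b => DFunLike.congr_fun hg b⟩

variable {G : Type u} [Group G] [Finite G] (N : Subgroup G) [hN : N.Normal] {d : ℕ}
  (ρ : Representation ℂ N (Fin d → ℂ)) [hρ : ρ.IsIrreducible]

/-- The elements of `extGroup` with determinant a bounded root of unity. -/
noncomputable def finExt : Subgroup (extGroup N ρ) :=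
  (((Units.map (LinearMap.det : ((Fin d → ℂ) →ₗ[ℂ] (Fin d → ℂ)) →* ℂ)).comp (extOp N ρ)) ^
    orderOf (detHom ρ)).ker

theorem extEmb_mem_finExt (n : N) : extEmb N ρ n ∈ finExt N ρ := by
  rw [finExt, MonoidHom.mem_ker, MonoidHom.pow_apply, MonoidHom.comp_apply, extOp_emb]
  exact DFunLike.congr_fun (pow_orderOf_eq_one (detHom ρ)) n

omit hρ in
theorem det_scal (c : ℂˣ) :
    ((Units.map (LinearMap.det : ((Fin d → ℂ) →ₗ[ℂ] (Fin d → ℂ)) →* ℂ)).comp (extOp N ρ))
      (extScal N ρ c) = c ^ d := by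
  refine Units.ext ?_
  rw [MonoidHom.comp_apply, extOp_scal, Units.coe_map, scalU_coe, Algebra.algebraMap_eq_smul_one,
    LinearMap.det_smul, map_one, mul_one, Units.val_pow_eq_pow_val]
  simp

theorem degree_order_pos : 0 < d * orderOf (detHom ρ) := by
  refine Nat.mul_pos ?_ (orderOf_pos_iff.2 (isOfFinOrder_iff_pow_eq_one.2 ⟨Nat.card N, Nat.card_pos,
    MonoidHom.ext fun n => by rw [MonoidHom.pow_apply, ← map_pow, pow_card_eq_one', map_one, MonoidHom.one_apply]⟩))
  have := nontrivial_coord N ρ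
  by_contra hd
  obtain rfl : d = 0 := by omega
  exact not_subsingleton (Fin 0 → ℂ) inferInstance

theorem exists_scal_mem_finExt (e : extGroup N ρ) : ∃ c : ℂˣ, e * extScal N ρ c ∈ finExt N ρ := by
  set f := (Units.map (LinearMap.det : ((Fin d → ℂ) →ₗ[ℂ] (Fin d → ℂ)) →* ℂ)).comp (extOp N ρ)
  obtain ⟨z, hz⟩ := IsAlgClosed.exists_pow_nat_eq (((f e)⁻¹ ^ orderOf (detHom ρ) : ℂˣ) : ℂ)
    (degree_order_pos N ρ)
  have hz0 : z ≠ 0 := by
    rintro rfl
    rw [zero_pow (degree_order_pos N ρ).ne'] at hz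
    exact Units.ne_zero _ hz.symm
  refine ⟨Units.mk0 z hz0, ?_⟩
  rw [finExt, MonoidHom.mem_ker, MonoidHom.pow_apply, map_mul, det_scal, mul_pow, ← pow_mul]
  rw [mul_eq_one_iff_eq_inv, ← inv_inj, inv_inv, ← inv_pow]
  exact Units.ext (by rw [← hz]; simp)

theorem finExt_proj_surjective (hinv : IsInvariant N ρ) (g : G) :
    ∃ e : finExt N ρ, extProj N ρ e = g := by
  obtain ⟨e, rfl⟩ := extProj_surjective N ρ hinv g
  obtain ⟨c, hc⟩ := exists_scal_mem_finExt N ρ e
  exact ⟨⟨_, hc⟩, by rw [map_mul, extProj_scal, mul_one]⟩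

theorem scal_mem_finExt_pow {c : ℂˣ} (hc : extScal N ρ c ∈ finExt N ρ) :
    c ^ (d * orderOf (detHom ρ)) = 1 := by
  rw [finExt, MonoidHom.mem_ker, MonoidHom.pow_apply, det_scal, ← pow_mul] at hc
  exact hc

theorem finite_finExt (hinv : IsInvariant N ρ) : Finite (finExt N ρ) := by
  haveI : NeZero (d * orderOf (detHom ρ)) := ⟨(degree_order_pos N ρ).ne'⟩
  choose s hs using finExt_proj_surjective N ρ hinv
  have hk : ∀ e : finExt N ρ, extProj N ρ ((s (extProj N ρ e) : extGroup N ρ)⁻¹ * e) = 1 := fun e => by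
    rw [map_mul, map_inv, hs (extProj N ρ e), inv_mul_cancel]
  choose c hc using fun e : finExt N ρ => eq_scal_of_proj_eq_one N ρ (hk e)
  refine Finite.of_injective (α := finExt N ρ) (β := G × rootsOfUnity (d * orderOf (detHom ρ)) ℂ)
    (fun e => (extProj N ρ e, ⟨c e, (mem_rootsOfUnity _ _).2 (scal_mem_finExt_pow N ρ
      (hc e ▸ (finExt N ρ).mul_mem ((finExt N ρ).inv_mem (s _).2) e.2))⟩)) ?_
  intro a b hab
  simp only [Prod.mk.injEq, Subtype.mk.injEq] at hab
  obtain ⟨h1, h2⟩ := hab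
  have ea := hc a
  have eb := hc b
  rw [h2] at ea
  rw [← eb, h1] at ea
  exact Subtype.ext (mul_left_cancel ea)

/-- Some `p`-subgroup covers the quotient and carries a splitting of the scalars. -/
theorem exists_partial_tau (hinv : IsInvariant N ρ) {p : ℕ} [hp : Fact p.Prime]
    (hidx : ∃ j : ℕ, N.index = p ^ j) :
    ∃ (Q : Subgroup G) (f : Q.comap (extProj N ρ) →* ℂˣ), IsPGroup p Q ∧ Q ⊔ N = ⊤ ∧
      ∀ (c : ℂˣ) (h : extScal N ρ c ∈ Q.comap (extProj N ρ)), f ⟨_, h⟩ = c := by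
  classical
  haveI := finite_finExt N ρ hinv
  haveI := Fintype.ofFinite (finExt N ρ)
  let π : finExt N ρ →* G := (extProj N ρ).comp (finExt N ρ).subtype
  have hπ : Function.Surjective π := finExt_proj_surjective N ρ hinv
  let M : Subgroup (finExt N ρ) := N.comap π
  haveI : M.Normal := hN.comap π
  haveI := Fintype.ofFinite M
  let R : Representation ℂ (finExt N ρ) (Fin d → ℂ) :=
    (Units.coeHom _).comp ((extOp N ρ).comp (finExt N ρ).subtype)
  let RM : Representation ℂ M (Fin d → ℂ) := R.comp M.subtype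
  have hn : ∀ n : N, (⟨extEmb N ρ n, extEmb_mem_finExt N ρ n⟩ : finExt N ρ) ∈ M := fun n => by
    show extProj N ρ (extEmb N ρ n) ∈ N
    rw [extProj_emb]
    exact n.2
  haveI : RM.IsIrreducible := irreducible_of_comp_eq RM ρ
    (((extEmb N ρ).codRestrict (finExt N ρ) (extEmb_mem_finExt N ρ)).codRestrict M hn) fun n => rfl
  have h1 : classInner (fun m : M => R.character m) (fun m : M => R.character m) = 1 :=
    classInner_irr_self ⟨RM.character, ⟨d, RM, inferInstance, rfl⟩⟩
  obtain ⟨E, ψ, hEM, hψ⟩ := exists_monomial_cover hp.out M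
    (by rw [Subgroup.index_comap_of_surjective N hπ]; exact hidx) ⟨d, R, rfl⟩ h1
  -- a Sylow subgroup of the image
  set Ebar := E.map π with hEbar
  have hEN : Ebar ⊔ N = ⊤ := by
    rw [← Subgroup.map_comap_eq_self_of_surjective hπ N, hEbar, ← Subgroup.map_sup, hEM,
      Subgroup.map_top_of_surjective π hπ]
  obtain ⟨P0⟩ : Nonempty (Sylow p Ebar) := inferInstance
  set Q : Subgroup G := (P0 : Subgroup Ebar).map Ebar.subtype with hQ
  have hQN : Q ⊔ N = ⊤ := by
    let g : Ebar →* G ⧸ N := (QuotientGroup.mk' N).comp Ebar.subtype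
    have hg : Function.Surjective g := by
      intro y
      obtain ⟨x, rfl⟩ := QuotientGroup.mk'_surjective N y
      obtain ⟨a, ha, n, hn, rfl⟩ := Subgroup.mem_sup_of_normal_right.1 (hEN.symm ▸ Subgroup.mem_top x : x ∈ Ebar ⊔ N)
      refine ⟨⟨a, ha⟩, ?_⟩
      show (a : G ⧸ N) = ((a * n : G) : G ⧸ N)
      rw [QuotientGroup.eq, inv_mul_cancel_left]
      exact hn
    have hq : IsPGroup p (G ⧸ N) := by
      obtain ⟨j, hj⟩ := hidx
      exact IsPGroup.of_card (by rw [← Subgroup.index_eq_card, hj])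
    have htop : (P0.mapSurjective hg : Subgroup (G ⧸ N)) = ⊤ :=
      ((P0.mapSurjective hg).is_maximal' (IsPGroup.to_subgroup hq ⊤) le_top).symm
    refine eq_top_iff.2 fun x _ => ?_
    have hx : (x : G ⧸ N) ∈ (P0.mapSurjective hg : Subgroup (G ⧸ N)) := htop ▸ Subgroup.mem_top _
    rw [Sylow.coe_mapSurjective] at hx
    obtain ⟨a, ha, e⟩ := hx
    refine Subgroup.mem_sup_of_normal_right.2 ⟨(a : G), ⟨a, ha, rfl⟩, _, QuotientGroup.eq.1 e, mul_inv_cancel_left _ _⟩
  -- glue the character and the scalars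
  let F : E × ℂˣ →* extGroup N ρ :=
    { toFun := fun z => (((z.1 : E) : finExt N ρ) : extGroup N ρ) * extScal N ρ z.2
      map_one' := by simp
      map_mul' := fun a b => by
        simp only [Prod.fst_mul, Prod.snd_mul, Subgroup.coe_mul, map_mul]
        rw [mul_assoc, mul_assoc, ← mul_assoc (((b.1 : E) : finExt N ρ) : extGroup N ρ),
          ← extScal_comm N ρ a.2, mul_assoc] }
  let Ψ : E × ℂˣ →* ℂˣ := (ψ.comp (MonoidHom.fst _ _)) * MonoidHom.snd _ _
  have hker : F.rangeRestrict.ker ≤ Ψ.ker := by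
    rintro ⟨x, c⟩ hz
    rw [MonoidHom.mem_ker] at hz ⊢
    have hz' : ((x : finExt N ρ) : extGroup N ρ) * extScal N ρ c = 1 := congrArg Subtype.val hz
    have hxs : ((x : finExt N ρ) : extGroup N ρ) = extScal N ρ c⁻¹ := by
      rw [map_inv]; exact eq_inv_of_mul_eq_one_left hz'
    have hpos : c⁻¹ ^ (d * orderOf (detHom ρ)) = 1 :=
      scal_mem_finExt_pow N ρ (hxs ▸ (x : finExt N ρ).2)
    have e := hψ (x : finExt N ρ) x.2 ((c⁻¹ : ℂˣ) : ℂ) (by
        show extProj N ρ ((x : finExt N ρ) : extGroup N ρ) ∈ N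
        rw [hxs, extProj_scal]
        exact N.one_mem)
      (fun g => Subtype.ext (by
        show (g : extGroup N ρ) * ((x : finExt N ρ) : extGroup N ρ) =
          ((x : finExt N ρ) : extGroup N ρ) * (g : extGroup N ρ)
        rw [hxs, extScal_comm]))
      (fun g => by
        show LinearMap.trace ℂ _ (R (g * (x : finExt N ρ))) = _ * LinearMap.trace ℂ _ (R g)
        refine (congrArg (LinearMap.trace ℂ _) ?_).trans
          ((LinearMap.map_smul (LinearMap.trace ℂ (Fin d → ℂ)) ((c⁻¹ : ℂˣ) : ℂ) (R g)).trans (smul_eq_mul _ _))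
        show ((extOp N ρ ((g : extGroup N ρ) * ((x : finExt N ρ) : extGroup N ρ)) : _ˣ) :
          (Fin d → ℂ) →ₗ[ℂ] (Fin d → ℂ)) = _
        rw [hxs, map_mul, extOp_scal, Units.val_mul, scalU_coe, Algebra.algebraMap_eq_smul_one,
          mul_smul_comm, mul_one]
        rfl)
      (by
        rw [Complex.mul_conj', Complex.norm_eq_one_of_pow_eq_one
          (congrArg Units.val hpos) (degree_order_pos N ρ).ne']
        norm_num)
    show ψ x * c = 1
    rw [show ψ x = c⁻¹ from Units.ext e, inv_mul_cancel]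
  let f₀ : F.range →* ℂˣ := F.rangeRestrict.liftOfSurjective F.rangeRestrict_surjective ⟨Ψ, hker⟩
  have hf₀ : ∀ z, f₀ (F.rangeRestrict z) = Ψ z := fun z =>
    MonoidHom.liftOfRightInverse_comp_apply _ _ _ ⟨Ψ, hker⟩ z
  have hle : Q.comap (extProj N ρ) ≤ F.range := by
    intro e he
    obtain ⟨a, -, ha⟩ := he
    obtain ⟨x, hx, hxa⟩ := a.2
    obtain ⟨c, hc⟩ := eq_scal_of_proj_eq_one N ρ (e := ((x : extGroup N ρ))⁻¹ * e) (by
      rw [map_mul, map_inv, ← ha]
      show (π x)⁻¹ * (a : G) = 1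
      rw [hxa, inv_mul_cancel])
    exact ⟨(⟨x, hx⟩, c), by show (x : extGroup N ρ) * _ = e; rw [← hc, mul_inv_cancel_left]⟩
  refine ⟨Q, f₀.comp (Subgroup.inclusion hle), IsPGroup.map P0.2 _, hQN, fun c h => ?_⟩
  show f₀ ⟨extScal N ρ c, _⟩ = c
  rw [show (⟨extScal N ρ c, hle h⟩ : F.range) = F.rangeRestrict (1, c) from Subtype.ext (by
    show extScal N ρ c = ((1 : finExt N ρ) : extGroup N ρ) * extScal N ρ c
    rw [OneMemClass.coe_one, one_mul]), hf₀]
  show ψ 1 * c = c
  rw [map_one, one_mul]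

/-- The extension theorem. -/
theorem extends_of_sylow_linear (hinv : IsInvariant N ρ) {p : ℕ} [hp : Fact p.Prime]
    (hidx : ∃ j : ℕ, N.index = p ^ j) (P : Sylow p G)
    (hcomm : ∀ a ∈ (P : Subgroup G) ⊓ N, ∀ b ∈ (P : Subgroup G) ⊓ N, a * b = b * a)
    (hlin : ∀ lam : ((P : Subgroup G) ⊓ N : Subgroup G) →* ℂˣ, ∃ μ : (P : Subgroup G) →* ℂˣ,
      ∀ x : ((P : Subgroup G) ⊓ N : Subgroup G), μ ⟨(x : G), x.2.1⟩ = lam x) :
    ∃ σ : Representation ℂ G (Fin d → ℂ), ∀ n : N, σ n = ρ n := by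
  classical
  obtain ⟨Q, f, hQ, hQN, hf⟩ := exists_partial_tau N ρ hinv hidx
  obtain ⟨P', hP'⟩ := hQ.exists_le_sylow
  obtain ⟨g, hg⟩ := MulAction.exists_smul_eq G P' P
  have hQP : ∀ q ∈ Q, g * q * g⁻¹ ∈ (P : Subgroup G) := fun q hq => by
    rw [← hg, Sylow.coe_subgroup_smul]
    exact ⟨q, hP' hq, rfl⟩
  -- the obstruction on the intersection
  let A : Subgroup G := (P : Subgroup G) ⊓ N
  letI : CommGroup A :=
    { (inferInstance : Group A) with mul_comm := fun a b => Subtype.ext (hcomm _ a.2 _ b.2) }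
  let B : Subgroup A := ((Q ⊓ N).map (MulAut.conj g).toMonoidHom).subgroupOf A
  have hB : ∀ b : B, g⁻¹ * ((b : A) : G) * g ∈ Q ⊓ N := fun b => by
    obtain ⟨q, hq, e⟩ := Subgroup.mem_subgroupOf.1 b.2
    change g * q * g⁻¹ = _ at e
    rw [← e]
    simpa [mul_assoc] using hq
  let lam0 : B →* ℂˣ :=
    { toFun := fun b => f ⟨extEmb N ρ ⟨_, (hB b).2⟩, by
        show extProj N ρ _ ∈ Q
        rw [extProj_emb]
        exact (hB b).1⟩
      map_one' := by
        rw [← map_one f]
        congr 1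
        refine Subtype.ext ?_
        show extEmb N ρ _ = 1
        rw [← map_one (extEmb N ρ)]
        congr 1
        exact Subtype.ext (by simp)
      map_mul' := fun a b => by
        rw [← map_mul f]
        congr 1
        refine Subtype.ext ?_
        show extEmb N ρ _ = extEmb N ρ _ * extEmb N ρ _
        rw [← map_mul]
        congr 1
        exact Subtype.ext (by simp [mul_assoc]) }
  obtain ⟨lam, hlam⟩ := exists_linear_extension B lam0
  obtain ⟨μ, hμ⟩ := hlin lam
  let cQ : Q →* (P : Subgroup G) :=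
    ((MulAut.conj g).toMonoidHom.comp Q.subtype).codRestrict _ fun q => hQP q q.2
  let π : Q.comap (extProj N ρ) →* Q :=
    ((extProj N ρ).comp (Subgroup.subtype _)).codRestrict Q fun e => e.2
  let h : Q.comap (extProj N ρ) →* ℂˣ := f * ((μ.comp cQ).comp π)⁻¹
  have hscal : ∀ c hc, h ⟨extScal N ρ c, hc⟩ = c := fun c hc => by
    show f _ * (μ (cQ (π _)))⁻¹ = c
    rw [hf, show π ⟨extScal N ρ c, hc⟩ = 1 from Subtype.ext (extProj_scal N ρ c), map_one, map_one,
      inv_one, mul_one]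
  have hemb : ∀ n hn, h ⟨extEmb N ρ n, hn⟩ = 1 := fun n hn => by
    have hnQ : (n : G) ∈ Q := by
      have h2 : extProj N ρ (extEmb N ρ n) ∈ Q := hn
      rwa [extProj_emb] at h2
    have hbA : g * n * g⁻¹ ∈ A := ⟨hQP _ hnQ, hN.conj_mem _ n.2 g⟩
    have hbB : (⟨_, hbA⟩ : A) ∈ B := Subgroup.mem_subgroupOf.2 ⟨n, ⟨hnQ, n.2⟩, rfl⟩
    show f _ * (μ (cQ (π _)))⁻¹ = 1
    rw [show μ (cQ (π ⟨extEmb N ρ n, hn⟩)) = lam ⟨_, hbA⟩ from hμ ⟨_, hbA⟩, hlam ⟨_, hbB⟩, mul_inv_eq_one]
    show f _ = f _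
    congr 1
    refine Subtype.ext ?_
    show extEmb N ρ n = extEmb N ρ _
    congr 1
    exact Subtype.ext (by simp [mul_assoc])
  -- spread to the whole of `extGroup`
  have hdec : ∀ e : extGroup N ρ, ∃ n : N, (extEmb N ρ n)⁻¹ * e ∈ Q.comap (extProj N ρ) := by
    intro e
    obtain ⟨q, hq, n, hn, hqn⟩ :=
      Subgroup.mem_sup_of_normal_right.1 (show extProj N ρ e ∈ Q ⊔ N from hQN.symm ▸ Subgroup.mem_top _)
    refine ⟨⟨q * n * q⁻¹, hN.conj_mem n hn q⟩, ?_⟩
    show extProj N ρ _ ∈ Q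
    rw [map_mul, map_inv, extProj_emb, ← hqn]
    simpa [mul_assoc] using hq
  choose s hs using hdec
  have huniq : ∀ e n (hn : (extEmb N ρ n)⁻¹ * e ∈ Q.comap (extProj N ρ)),
      h ⟨_, hs e⟩ = h ⟨_, hn⟩ := by
    intro e n hn
    have hm : extEmb N ρ ((s e)⁻¹ * n) ∈ Q.comap (extProj N ρ) := by
      rw [show extEmb N ρ ((s e)⁻¹ * n) = ((extEmb N ρ (s e))⁻¹ * e) * ((extEmb N ρ n)⁻¹ * e)⁻¹ by
        rw [map_mul, map_inv]; group]
      exact Subgroup.mul_mem _ (hs e) (Subgroup.inv_mem _ hn)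
    rw [show (⟨_, hs e⟩ : Q.comap (extProj N ρ)) = ⟨_, hm⟩ * ⟨_, hn⟩ from Subtype.ext (by
      show _ = extEmb N ρ ((s e)⁻¹ * n) * ((extEmb N ρ n)⁻¹ * e)
      rw [map_mul, map_inv]; group), map_mul, hemb, one_mul]
  have hconj : ∀ (x : Q.comap (extProj N ρ)) (n : N),
      (x : extGroup N ρ) * extEmb N ρ n =
        extEmb N ρ (normalConjHom N (extProj N ρ x) n) * x := fun x n => by
    rw [← extEmb_conj]; group
  let τ : extGroup N ρ →* ℂˣ := MonoidHom.mk' (fun e => h ⟨_, hs e⟩) fun a b => by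
    set xa : Q.comap (extProj N ρ) := ⟨_, hs a⟩
    set xb : Q.comap (extProj N ρ) := ⟨_, hs b⟩
    set n := s a * normalConjHom N (extProj N ρ xa) (s b)
    have hprod : (extEmb N ρ n)⁻¹ * (a * b) = ((xa * xb : Q.comap (extProj N ρ)) : extGroup N ρ) := by
      rw [inv_mul_eq_iff_eq_mul, map_mul, Subgroup.coe_mul]
      calc a * b = extEmb N ρ (s a) * ((xa : extGroup N ρ) * extEmb N ρ (s b)) * xb := by
            simp only [xa, xb]; group
        _ = _ := by rw [hconj]; group
    have hn : (extEmb N ρ n)⁻¹ * (a * b) ∈ Q.comap (extProj N ρ) := hprod ▸ (xa * xb).2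
    rw [huniq (a * b) n hn, show (⟨_, hn⟩ : Q.comap (extProj N ρ)) = xa * xb from Subtype.ext hprod,
      map_mul]
  refine extends_of_tau N ρ hinv τ (fun c => ?_) fun n => ?_
  · show h _ = c
    have hc : (extEmb N ρ 1)⁻¹ * extScal N ρ c ∈ Q.comap (extProj N ρ) := by
      show extProj N ρ _ ∈ Q
      rw [map_one, inv_one, one_mul, extProj_scal]
      exact Q.one_mem
    rw [huniq _ 1 hc]
    have hc' : extScal N ρ c ∈ Q.comap (extProj N ρ) := by rwa [map_one, inv_one, one_mul] at hc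
    rw [show (⟨_, hc⟩ : Q.comap (extProj N ρ)) = ⟨_, hc'⟩ from Subtype.ext (by simp), hscal]
  · show h _ = 1
    have hn : (extEmb N ρ n)⁻¹ * extEmb N ρ n ∈ Q.comap (extProj N ρ) := by
      rw [inv_mul_cancel]; exact Subgroup.one_mem _
    rw [huniq _ n hn, show (⟨_, hn⟩ : Q.comap (extProj N ρ)) = 1 from Subtype.ext (inv_mul_cancel _),
      map_one]

end CfsgLib.Char
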