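import Cfsg.Agent.Lib.Invol.BrauerSuzuki

/-!
# Generalised quaternion Sylow 2-subgroups: the normal subgroup over the odd core
-/

open Subgroup

set_option autoImplicit false

namespace CfsgLib.Char

open Cfsg CfsgLib.Invol

universe u

variable {G : Type u} [Group G] [Finite G]

/-- Brauer–Suzuki in the form: a normal subgroup of order twice an odd number containing all
involutions of `G`. -/
theorem exists_normal_two_odd_of_quaternion (S : Sylow 2 G) {N : ℕ} [NeZero N]
    (e : (S : Subgroup G) ≃* QuaternionGroup N) :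
    ∃ M : Subgroup G, M.Normal ∧ (∀ x : G, orderOf x = 2 → x ∈ M) ∧
      (∃ x : G, orderOf x = 2 ∧ x ∈ M) ∧ ¬ 4 ∣ Nat.card M := by
  haveI : Fact (Nat.Prime 2) := ⟨Nat.prime_two⟩
  set z' : (S : Subgroup G) := e.symm (.a (N : ZMod (2 * N))) with hz'
  have huniq : ∀ x : (S : Subgroup G), x * x = 1 → x = 1 ∨ x = z' := fun x hx => by
    rcases quaternion_sq_one (q := e x) (by rw [← map_mul, hx, map_one]) with h | h
    · exact Or.inl (e.injective (h.trans (map_one e).symm))
    · exact Or.inr (by rw [hz', ← h, e.symm_apply_apply])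
  have hzz : z' * z' = 1 := by
    rw [hz', ← map_mul, QuaternionGroup.a_mul_a, ← map_one e.symm]
    congr 1
    rw [QuaternionGroup.one_def]
    congr 1
    rw [← Nat.cast_add, ← two_mul, ZMod.natCast_self]
  have hz'1 : z' ≠ 1 := fun h => by
    have h' : QuaternionGroup.a (N : ZMod (2 * N)) = 1 :=
      e.symm.injective (h.trans (map_one _).symm)
    rw [QuaternionGroup.one_def] at h'
    injection h' with h'
    rw [ZMod.natCast_eq_zero_iff] at h'
    have := Nat.le_of_dvd (Nat.pos_of_ne_zero (NeZero.ne N)) h'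
    have := Nat.pos_of_ne_zero (NeZero.ne N)
    omega
  set z : G := (z' : G) with hz
  have hzo : orderOf z = 2 := by
    rw [hz, Subgroup.orderOf_coe]
    exact invol_iff.2 ⟨hzz, hz'1⟩
  have huniqG : ∀ x ∈ (S : Subgroup G), orderOf x = 2 → x = z := fun x hx hxo => by
    rcases huniq ⟨x, hx⟩ (Subtype.ext (invol_mul_self hxo)) with h | h
    · exact absurd (congrArg Subtype.val h) (invol_ne_one hxo)
    · exact congrArg Subtype.val h
  have hzc : IsZCentral z := zcentral_of_unique_invol S hzo huniqG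
  set O : Subgroup G := pPrimeCore 2 G with hO
  haveI hOn : O.Normal := by
    haveI := Coprime.pPrimeCore_characteristic (G := G) 2
    infer_instance
  refine ⟨O ⊔ Subgroup.zpowers z, ?_, ?_, ⟨z, hzo, mem_sup_right (mem_zpowers z)⟩, ?_⟩
  · constructor
    intro y hy g
    have key : O ⊔ Subgroup.zpowers z ≤
        (O ⊔ Subgroup.zpowers z).comap (MulAut.conj g).toMonoidHom := by
      refine sup_le (fun w hw => ?_) (zpowers_le.2 ?_)
      · exact mem_comap.2 (mem_sup_left (hOn.conj_mem w hw g))
      · rw [mem_comap]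
        have h1 : g * z * g⁻¹ = (z * g * z⁻¹ * g⁻¹)⁻¹ * z := by group
        show g * z * g⁻¹ ∈ _
        rw [h1]
        exact mul_mem (mem_sup_left (inv_mem (hzc g))) (mem_sup_right (mem_zpowers z))
    exact key hy
  · intro x hx
    obtain ⟨g, hg⟩ := exists_conj_le_sylow (Q := Subgroup.zpowers x)
      (IsPGroup.of_card (n := 1) (by rw [Nat.card_zpowers, hx, pow_one])) S
    have h1 := huniqG _ (hg x (mem_zpowers x)) (invol_conj hx g)
    have h2 : x = (g⁻¹ * z * g * z⁻¹) * z := by rw [← h1]; group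
    rw [h2]
    refine mul_mem (mem_sup_left ?_) (mem_sup_right (mem_zpowers z))
    have h3 : g⁻¹ * z * g * z⁻¹ = g⁻¹ * (z * g * z⁻¹ * g⁻¹) * g⁻¹⁻¹ := by group
    rw [h3]
    exact hOn.conj_mem _ (hzc g) _
  · intro h4
    have hodd := Coprime.pPrimeCore_not_dvd (G := G) Nat.prime_two
    have hd : Nat.card (O ⊔ Subgroup.zpowers z : Subgroup G) ∣ 2 * Nat.card O := by
      rw [sup_comm, ← hzo, ← Nat.card_zpowers]
      exact Coprime.card_sup_dvd_of_normal (zpowers z) O
    obtain ⟨c, hc⟩ := h4.trans hd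
    exact hodd ⟨c, by linarith⟩

end CfsgLib.Char
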