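import Mathlib

/-!
# The element orders of the alternating group of degree ten
-/

set_option autoImplicit false

namespace CfsgLib.Char

/-- The possible element orders of `A₁₀`. -/
def altTenOrders : Finset ℕ := {1, 2, 3, 4, 5, 6, 7, 8, 9, 10, 12, 15, 21}

/-- All lists of cycle lengths `≥ lo` in increasing order of total at most `r`. -/
def cycleLists : ℕ → ℕ → ℕ → List (List ℕ)
  | 0, _, _ => [[]]
  | fuel + 1, r, lo => [] :: (List.range (r + 1)).flatMap fun a =>
      if lo ≤ a then (cycleLists fuel (r - a) a).map (fun l => a :: l) else []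

theorem mem_cycleLists : ∀ (fuel r lo : ℕ) (l : List ℕ), l.length ≤ fuel → l.sum ≤ r → l.Pairwise (· ≤ ·) →
    (∀ a ∈ l, lo ≤ a) → l ∈ cycleLists fuel r lo := by
  intro fuel
  induction fuel with
  | zero =>
    intro r lo l hl _ _ _
    rw [List.length_eq_zero_iff.mp (Nat.le_zero.mp hl)]
    simp [cycleLists]
  | succ fuel ih =>
    intro r lo l hl hs hp hlo
    cases l with
    | nil => simp [cycleLists]
    | cons a t =>
      rw [List.sum_cons] at hs
      rw [List.length_cons] at hl
      rw [List.pairwise_cons] at hp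
      simp only [cycleLists, List.mem_cons, List.mem_flatMap, List.mem_range]
      refine Or.inr ⟨a, by omega, ?_⟩
      rw [if_pos (hlo a List.mem_cons_self), List.mem_map]
      exact ⟨t, ih (r - a) a t (by omega) (by omega) hp.2 hp.1, rfl⟩

theorem cycleLists_check : ((cycleLists 5 10 2).all fun l =>
    decide ((l.sum + l.length) % 2 = 1) || decide (l.foldr Nat.lcm 1 ∈ altTenOrders)) = true := by
  decide +kernel

theorem lcm_coe_eq_foldr (l : List ℕ) : (l : Multiset ℕ).lcm = l.foldr Nat.lcm 1 := by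
  induction l with
  | nil => simp
  | cons a t ih => rw [← Multiset.cons_coe, Multiset.lcm_cons, ih]; rfl

theorem orderOf_mem_altTenOrders (g : alternatingGroup (Fin 10)) : orderOf g ∈ altTenOrders := by
  set σ : Equiv.Perm (Fin 10) := g.1 with hσ
  obtain ⟨l, hl, hsort⟩ : ∃ l : List ℕ, (l : Multiset ℕ) = σ.cycleType ∧ l.Pairwise (· ≤ ·) :=
    ⟨σ.cycleType.sort (· ≤ ·), Multiset.sort_eq _ _, Multiset.pairwise_sort _ _⟩
  have h2 : ∀ a ∈ l, 2 ≤ a := fun a ha => Equiv.Perm.two_le_of_mem_cycleType (σ := σ) (by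
    rw [← hl]; exact ha)
  have hs : l.sum ≤ 10 := by
    have h := Equiv.Perm.sum_cycleType σ
    rw [← hl, Multiset.sum_coe] at h
    rw [h]
    exact le_of_le_of_eq (Finset.card_le_univ _) (Fintype.card_fin 10)
  have hlen : l.length ≤ 5 := by
    have h : l.length * 2 ≤ l.sum := by
      simpa using List.card_nsmul_le_sum l 2 h2
    omega
  have hmem := mem_cycleLists 5 10 2 l hlen hs hsort h2
  have h := List.all_eq_true.mp cycleLists_check l hmem
  rw [Bool.or_eq_true, decide_eq_true_eq, decide_eq_true_eq] at h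
  have hev : (l.sum + l.length) % 2 = 0 := by
    have h1 : Equiv.Perm.sign σ = 1 := g.2
    rw [Equiv.Perm.sign_of_cycleType, ← hl, Multiset.sum_coe, Multiset.coe_card] at h1
    rcases Nat.even_or_odd (l.sum + l.length) with he | ho
    · exact Nat.even_iff.mp he
    · rw [ho.neg_one_pow] at h1
      exact absurd h1 (by decide)
  have h3 := h.resolve_left (by omega)
  rw [← Subgroup.orderOf_coe, ← hσ, ← Equiv.Perm.lcm_cycleType, ← hl, lcm_coe_eq_foldr]
  exact h3

theorem exists_altTen_orderOf {n : ℕ} (hn : n ∈ altTenOrders) :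
    ∃ g : alternatingGroup (Fin 10), orderOf g = n := by
  simp only [altTenOrders, Finset.mem_insert, Finset.mem_singleton] at hn
  have key : ∀ (m : ℕ) (g : Equiv.Perm (Fin 10)) (hm : 0 < m), Equiv.Perm.sign g = 1 → g ^ m = 1 →
      (∀ j : Fin m, 0 < j.val → g ^ j.val ≠ 1) → ∃ a : alternatingGroup (Fin 10), orderOf a = m :=
    fun m g hm hs hp hj => ⟨⟨g, hs⟩, by
      rw [← Subgroup.orderOf_coe]
      exact (orderOf_eq_iff hm).mpr ⟨hp, fun j hjm hj0 => hj ⟨j, hjm⟩ hj0⟩⟩
  rcases hn with rfl | rfl | rfl | rfl | rfl | rfl | rfl | rfl | rfl | rfl | rfl | rfl | rfl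
  · exact ⟨1, orderOf_one⟩
  · exact key 2 (c[0, 1] * c[2, 3]) (by norm_num) (by decide +kernel) (by decide +kernel) (by decide +kernel)
  · exact key 3 c[0, 1, 2] (by norm_num) (by decide +kernel) (by decide +kernel) (by decide +kernel)
  · exact key 4 (c[0, 1, 2, 3] * c[4, 5]) (by norm_num) (by decide +kernel) (by decide +kernel) (by decide +kernel)
  · exact key 5 c[0, 1, 2, 3, 4] (by norm_num) (by decide +kernel) (by decide +kernel) (by decide +kernel)
  · exact key 6 (c[0, 1, 2] * c[3, 4] * c[5, 6]) (by norm_num) (by decide +kernel) (by decide +kernel) (by decide +kernel)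
  · exact key 7 c[0, 1, 2, 3, 4, 5, 6] (by norm_num) (by decide +kernel) (by decide +kernel) (by decide +kernel)
  · exact key 8 (c[0, 1, 2, 3, 4, 5, 6, 7] * c[8, 9]) (by norm_num) (by decide +kernel) (by decide +kernel) (by decide +kernel)
  · exact key 9 c[0, 1, 2, 3, 4, 5, 6, 7, 8] (by norm_num) (by decide +kernel) (by decide +kernel) (by decide +kernel)
  · exact key 10 (c[0, 1, 2, 3, 4] * c[5, 6] * c[7, 8]) (by norm_num) (by decide +kernel) (by decide +kernel) (by decide +kernel)
  · exact key 12 (c[0, 1, 2, 3] * c[4, 5, 6] * c[7, 8]) (by norm_num) (by decide +kernel) (by decide +kernel) (by decide +kernel)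
  · exact key 15 (c[0, 1, 2, 3, 4] * c[5, 6, 7]) (by norm_num) (by decide +kernel) (by decide +kernel) (by decide +kernel)
  · exact key 21 (c[0, 1, 2, 3, 4, 5, 6] * c[7, 8, 9]) (by norm_num) (by decide +kernel) (by decide +kernel) (by decide +kernel)

theorem range_orderOf_altTen :
    Set.range (orderOf : alternatingGroup (Fin 10) → ℕ) = ↑altTenOrders := by
  ext n
  exact ⟨fun ⟨g, hg⟩ => hg ▸ orderOf_mem_altTenOrders g, fun h => exists_altTen_orderOf h⟩

end CfsgLib.Char
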