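import Mathlib
import Cfsg.Agent.Lib.Lie.PSL2Two

/-!
# Element orders in `PGL(2,q)` and `PSL(2,q)`, `q` odd

Everything follows from `(2M - t)^2 = t^2 - 4 det M` and the Frobenius map.
-/

set_option autoImplicit false
set_option linter.unusedSectionVars false

namespace CfsgLib.Char.TwoByTwo

open Matrix CfsgLib.PSL2Two

variable {F : Type*} [Field F]

/-- Discriminant of the characteristic polynomial. -/
def disc (M : Matrix (Fin 2) (Fin 2) F) : F := M.trace ^ 2 - 4 * M.det

/-- `2M - t`. -/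
def centred (M : Matrix (Fin 2) (Fin 2) F) : Matrix (Fin 2) (Fin 2) F :=
  (2 : F) • M - M.trace • (1 : Matrix (Fin 2) (Fin 2) F)

theorem centred_mul_self (M : Matrix (Fin 2) (Fin 2) F) :
    centred M * centred M = disc M • (1 : Matrix (Fin 2) (Fin 2) F) := by
  ext i j
  fin_cases i <;> fin_cases j <;>
    simp [centred, disc, Matrix.mul_apply, Fin.sum_univ_two, Matrix.trace_fin_two, Matrix.det_fin_two] <;> ring

theorem two_smul_eq (M : Matrix (Fin 2) (Fin 2) F) :
    (2 : F) • M = M.trace • (1 : Matrix (Fin 2) (Fin 2) F) + centred M := by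
  simp [centred]

theorem two_smul_pow_char {p : ℕ} [Fact p.Prime] [CharP F p] (n : ℕ) (M : Matrix (Fin 2) (Fin 2) F) :
    ((2 : F) ^ p ^ n) • M ^ p ^ n =
      (M.trace ^ p ^ n) • (1 : Matrix (Fin 2) (Fin 2) F) + centred M ^ p ^ n := by
  have hc : Commute (M.trace • (1 : Matrix (Fin 2) (Fin 2) F)) (centred M) :=
    Commute.smul_left (Commute.one_left _) _
  rw [← smul_pow, two_smul_eq, add_pow_char_pow_of_commute (p := p) (n := n) hc, smul_pow, one_pow]

theorem centred_pow_two_mul (M : Matrix (Fin 2) (Fin 2) F) (h : ℕ) :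
    centred M ^ (2 * h) = (disc M ^ h) • (1 : Matrix (Fin 2) (Fin 2) F) := by
  rw [pow_mul, pow_two, centred_mul_self, smul_pow, one_pow]

variable [Fintype F]

/-- A power `M^q` in terms of the discriminant. -/
theorem two_smul_pow_card (hodd : Fintype.card F % 2 = 1) (M : Matrix (Fin 2) (Fin 2) F) :
    (2 : F) • M ^ Fintype.card F = M.trace • (1 : Matrix (Fin 2) (Fin 2) F) +
      (disc M ^ (Fintype.card F / 2)) • centred M := by
  obtain ⟨p, hc⟩ := CharP.exists F
  obtain ⟨n, hp, hn⟩ := FiniteField.card F p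
  haveI : Fact p.Prime := ⟨hp⟩
  have h := two_smul_pow_char (p := p) (n : ℕ) M
  rw [← hn, FiniteField.pow_card, FiniteField.pow_card] at h
  rw [h]
  congr 1
  have h2 : Fintype.card F = 2 * (Fintype.card F / 2) + 1 := by omega
  conv_lhs => rw [h2, pow_succ, centred_pow_two_mul, smul_mul_assoc, one_mul]

theorem pow_card_of_disc_eq_zero (hodd : Fintype.card F % 2 = 1) {p : ℕ} [Fact p.Prime] [CharP F p]
    {M : Matrix (Fin 2) (Fin 2) F} (hD : disc M = 0) :
    ∃ c : F, M ^ p = c • (1 : Matrix (Fin 2) (Fin 2) F) := by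
  have h2 := two_ne_zero_of_odd hodd
  have h := two_smul_pow_char (p := p) 1 M
  rw [pow_one] at h
  have hN : centred M ^ p = 0 := by
    obtain ⟨k, hk⟩ := Nat.exists_eq_add_of_le (Fact.out : p.Prime).two_le
    rw [hk, pow_add, pow_two, centred_mul_self, hD, zero_smul, zero_mul]
  rw [hN, add_zero] at h
  refine ⟨M.trace ^ p / (2 : F) ^ p, ?_⟩
  have := congrArg (fun X => ((2 : F) ^ p)⁻¹ • X) h
  simp only [smul_smul, inv_mul_cancel₀ (pow_ne_zero p h2), one_smul] at this
  rw [this, div_eq_inv_mul]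

theorem pow_card_sub_one_of_disc_sq (hodd : Fintype.card F % 2 = 1) {M : Matrix (Fin 2) (Fin 2) F}
    (hdet : M.det ≠ 0) (hD : disc M ^ (Fintype.card F / 2) = 1) : M ^ (Fintype.card F - 1) = 1 := by
  have h2 := two_ne_zero_of_odd hodd
  have h := two_smul_pow_card hodd M
  rw [hD, one_smul, ← two_smul_eq] at h
  have h1 : M ^ Fintype.card F = M := smul_right_injective _ h2 h
  have hu : IsUnit M := (Matrix.isUnit_iff_isUnit_det M).mpr (isUnit_iff_ne_zero.mpr hdet)
  refine hu.mul_right_cancel ?_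
  rw [← pow_succ, Nat.sub_add_cancel Fintype.card_pos, h1, one_mul]

theorem pow_card_add_one_of_disc_nonsq (hodd : Fintype.card F % 2 = 1) {M : Matrix (Fin 2) (Fin 2) F}
    (hD : disc M ^ (Fintype.card F / 2) = -1) :
    M ^ (Fintype.card F + 1) = M.det • (1 : Matrix (Fin 2) (Fin 2) F) := by
  have h2 := two_ne_zero_of_odd hodd
  have h := two_smul_pow_card hodd M
  rw [hD] at h
  have h1 : M ^ Fintype.card F = M.trace • (1 : Matrix (Fin 2) (Fin 2) F) - M := by
    refine smul_right_injective _ h2 (h.trans ?_)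
    simp only [centred, neg_smul, one_smul, smul_sub, smul_smul]
    module
  rw [pow_succ, h1]
  ext i j
  fin_cases i <;> fin_cases j <;>
    simp [Matrix.sub_mul, Matrix.mul_apply, Fin.sum_univ_two, Matrix.trace_fin_two, Matrix.det_fin_two] <;> ring

theorem disc_cases (hodd : Fintype.card F % 2 = 1) (M : Matrix (Fin 2) (Fin 2) F) :
    disc M = 0 ∨ disc M ^ (Fintype.card F / 2) = 1 ∨ disc M ^ (Fintype.card F / 2) = -1 := by
  by_cases h : disc M = 0
  · exact Or.inl h
  · exact Or.inr (FiniteField.pow_dichotomy (fun hc => by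
      have := FiniteField.even_card_of_char_two hc; omega) h)

/-- A determinant one matrix of square one is scalar. -/
theorem eq_one_or_neg_of_sq_one (h2 : (2 : F) ≠ 0) {P : SL2 F} (h : P.1 * P.1 = 1) : P.1 = 1 ∨ P.1 = -1 := by
  have hc := centred_mul_self P.1
  have htP : P.1.trace • P.1 = (2 : F) • (1 : Matrix (Fin 2) (Fin 2) F) := by
    have e : centred P.1 * centred P.1 = (4 : F) • (P.1 * P.1) - (4 * P.1.trace) • P.1 +
        (P.1.trace ^ 2) • (1 : Matrix (Fin 2) (Fin 2) F) := by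
      simp only [centred, sub_mul, mul_sub, smul_mul_assoc, mul_smul_comm, one_mul, mul_one, smul_sub,
        smul_smul]
      module
    rw [e, h, disc, P.2, mul_one] at hc
    have h4 : (4 : F) ≠ 0 := by
      rw [show (4 : F) = 2 * 2 by norm_num]; exact mul_ne_zero h2 h2
    refine smul_right_injective _ h4 ?_
    show (4 : F) • (P.1.trace • P.1) = (4 : F) • ((2 : F) • (1 : Matrix (Fin 2) (Fin 2) F))
    rw [smul_smul, smul_smul]
    linear_combination (norm := module) -hc
  have ht : P.1.trace ≠ 0 := fun h0 => by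
    rw [h0, zero_smul] at htP
    have := congrFun (congrFun htP 0) 0
    simp at this
    exact h2 this.symm
  have hP : P.1 = (2 / P.1.trace) • (1 : Matrix (Fin 2) (Fin 2) F) := by
    refine smul_right_injective _ ht ?_
    show P.1.trace • P.1 = P.1.trace • ((2 / P.1.trace) • (1 : Matrix (Fin 2) (Fin 2) F))
    rw [smul_smul, mul_div_cancel₀ _ ht, htP]
  rw [hP, smul_mul_smul_comm, one_mul] at h
  have hc2 : (2 / P.1.trace) * (2 / P.1.trace) = 1 := by
    have := congrFun (congrFun h 0) 0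
    simpa using this
  rcases mul_self_eq_one_iff.mp hc2 with hh | hh
  · exact Or.inl (by rw [hP, hh, one_smul])
  · exact Or.inr (by rw [hP, hh, neg_one_smul])

/-- Every element of `PSL(2,q)` has order dividing `p`, `(q-1)/2` or `(q+1)/2`. -/
theorem psl_pow_cases (hodd : Fintype.card F % 2 = 1) {p : ℕ} [Fact p.Prime] [CharP F p] (g : PSL2 F) :
    g ^ p = 1 ∨ g ^ ((Fintype.card F - 1) / 2) = 1 ∨ g ^ ((Fintype.card F + 1) / 2) = 1 := by
  have h2 := two_ne_zero_of_odd hodd
  obtain ⟨A, rfl⟩ := π_surjective g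
  simp only [← map_pow, π_eq_one_iff]
  have hsq : ∀ m : ℕ, A.1 ^ (2 * m) = 1 → (A ^ m).1 = 1 ∨ (A ^ m).1 = -1 := fun m hm =>
    eq_one_or_neg_of_sq_one h2 (by
      rw [← val_mul, ← pow_add, ← two_mul, Matrix.SpecialLinearGroup.coe_pow]; exact hm)
  rcases disc_cases hodd A.1 with h | h | h
  · obtain ⟨c, hc⟩ := pow_card_of_disc_eq_zero hodd (p := p) h
    have hd := congrArg Matrix.det hc
    rw [Matrix.det_pow, A.2, one_pow, Matrix.det_smul, Matrix.det_one, mul_one, Fintype.card_fin] at hd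
    refine Or.inl ?_
    rw [Matrix.SpecialLinearGroup.coe_pow, hc]
    rcases mul_self_eq_one_iff.mp ((pow_two c).symm.trans hd.symm) with hh | hh
    · exact Or.inl (by rw [hh, one_smul])
    · exact Or.inr (by rw [hh, neg_one_smul])
  · refine Or.inr (Or.inl (hsq _ ?_))
    rw [show 2 * ((Fintype.card F - 1) / 2) = Fintype.card F - 1 by omega]
    exact pow_card_sub_one_of_disc_sq hodd (by rw [A.2]; exact one_ne_zero) h
  · refine Or.inr (Or.inr (hsq _ ?_))
    rw [show 2 * ((Fintype.card F + 1) / 2) = Fintype.card F + 1 by omega,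
      pow_card_add_one_of_disc_nonsq hodd h, A.2, one_smul]

/-- `PGL(2,F)`. -/
abbrev PGL2 (F : Type*) [Field F] :=
  Matrix.GeneralLinearGroup (Fin 2) F ⧸ Subgroup.center (Matrix.GeneralLinearGroup (Fin 2) F)

theorem mem_center_iff_scalar {M : GL (Fin 2) F} :
    M ∈ Subgroup.center (GL (Fin 2) F) ↔ ∃ c : F, (M : Matrix (Fin 2) (Fin 2) F) = c • 1 := by
  constructor
  · intro h
    have key : ∀ A : GL (Fin 2) F, (A : Matrix (Fin 2) (Fin 2) F) * M.1 = M.1 * A.1 := fun A =>
      congrArg Units.val (Subgroup.mem_center_iff.mp h A)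
    let T : GL (Fin 2) F := Matrix.GeneralLinearGroup.mkOfDetNeZero !![1, 1; 0, 1] (by simp [Matrix.det_fin_two])
    let U : GL (Fin 2) F := Matrix.GeneralLinearGroup.mkOfDetNeZero !![1, 0; 1, 1] (by simp [Matrix.det_fin_two])
    have hT : (T : Matrix (Fin 2) (Fin 2) F) = !![1, 1; 0, 1] := rfl
    have hU : (U : Matrix (Fin 2) (Fin 2) F) = !![1, 0; 1, 1] := rfl
    have e1 := congrFun (congrFun (key T) 0) 0
    have e2 := congrFun (congrFun (key U) 1) 1
    have e3 := congrFun (congrFun (key T) 0) 1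
    simp [hT, hU, Matrix.mul_apply, Fin.sum_univ_two] at e1 e2 e3
    refine ⟨M.1 0 0, ?_⟩
    ext i j
    fin_cases i <;> fin_cases j <;> simp
    · exact e2
    · exact e1
    · linear_combination e3
  · rintro ⟨c, hc⟩
    rw [Subgroup.mem_center_iff]
    intro A
    refine Units.ext ?_
    rw [Units.val_mul, Units.val_mul, hc, mul_smul_comm, smul_mul_assoc, mul_one, one_mul]

theorem pgl_mk_pow_eq_one_iff (M : GL (Fin 2) F) (n : ℕ) :
    (QuotientGroup.mk M : PGL2 F) ^ n = 1 ↔
      ∃ c : F, (M : Matrix (Fin 2) (Fin 2) F) ^ n = c • 1 := by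
  rw [← QuotientGroup.mk_pow, QuotientGroup.eq_one_iff, mem_center_iff_scalar, Units.val_pow_eq_pow_val]

/-- Every element of `PGL(2,q)` has order dividing `p`, `q-1` or `q+1`. -/
theorem pgl_pow_cases (hodd : Fintype.card F % 2 = 1) {p : ℕ} [Fact p.Prime] [CharP F p] (g : PGL2 F) :
    g ^ p = 1 ∨ g ^ (Fintype.card F - 1) = 1 ∨ g ^ (Fintype.card F + 1) = 1 := by
  obtain ⟨M, rfl⟩ := QuotientGroup.mk_surjective g
  simp only [pgl_mk_pow_eq_one_iff]
  rcases disc_cases hodd (M : Matrix (Fin 2) (Fin 2) F) with h | h | h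
  · exact Or.inl (pow_card_of_disc_eq_zero hodd h)
  · exact Or.inr (Or.inl ⟨1, by
      rw [pow_card_sub_one_of_disc_sq hodd (Matrix.GeneralLinearGroup.det_ne_zero M) h, one_smul]⟩)
  · exact Or.inr (Or.inr ⟨_, pow_card_add_one_of_disc_nonsq hodd h⟩)

end CfsgLib.Char.TwoByTwo
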