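import Cfsg.Agent.Lib.Char.NaturalModule
import Cfsg.Agent.Lib.Char.TwoByTwoOrders
import Cfsg.Agent.Lib.Char.AltTenSpectrum

/-!
# Some small spectra
-/

set_option autoImplicit false
set_option linter.unusedSectionVars false
set_option linter.style.haveILetI false

namespace CfsgLib.Char.TwoChars

open Matrix CfsgLib.Char CfsgLib.PSL2Two

variable {F : Type*} [Field F] [Fintype F] [DecidableEq F]

/-- A single vector. -/
def vecConst (v : Fin 2 → F) : Vec2 (Fin 1) F := fun _ => v

theorem card_psl_odd (hodd : Odd (Fintype.card F)) :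
    Nat.card (Matrix.ProjectiveSpecialLinearGroup (Fin 2) F) * 2 =
      (Fintype.card F + 1) * ((Fintype.card F - 1) * Fintype.card F) := by
  rw [← card_sl_two]
  have hc : Nat.card (Subgroup.center (Matrix.SpecialLinearGroup (Fin 2) F)) = 2 := by
    rw [Nat.card_eq_two_iff]
    refine ⟨1, ⟨negS, (sl_mem_center_iff _).2 scalar_negS⟩, fun h => negS_ne_one hodd (congrArg Subtype.val h).symm,
      Set.eq_univ_of_forall fun x => ?_⟩
    rcases scalar_cases ((sl_mem_center_iff _).1 x.2) with h | h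
    · exact Or.inl (Subtype.ext h)
    · exact Or.inr (Subtype.ext h)
  have h := Subgroup.card_eq_card_quotient_mul_card_subgroup (Subgroup.center (Matrix.SpecialLinearGroup (Fin 2) F))
  rw [hc] at h
  exact h.symm

theorem not_pq_dvd_prime_pow {p q r k : ℕ} (hp : p.Prime) (hq : q.Prime) (hr : r.Prime) (hpq : p ≠ q)
    (h : p * q ∣ r ^ k) : False :=
  hpq (((Nat.prime_dvd_prime_iff_eq hp hr).1 (hp.dvd_of_dvd_pow (dvd_trans (dvd_mul_right p q) h))).trans
    ((Nat.prime_dvd_prime_iff_eq hq hr).1 (hq.dvd_of_dvd_pow (dvd_trans (dvd_mul_left q p) h))).symm)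

theorem psl_seven_no_pq (h7 : Fintype.card F = 7) {p q : ℕ} (hp : p.Prime) (hq : q.Prime) (hpq : p ≠ q) :
    ¬ ∃ g : Matrix.ProjectiveSpecialLinearGroup (Fin 2) F, orderOf g = p * q := by
  rintro ⟨g, hg⟩
  obtain ⟨r, hc⟩ := CharP.exists F
  obtain ⟨n, hr, hn⟩ := FiniteField.card F r
  haveI : Fact r.Prime := ⟨hr⟩
  have hr7 : r = 7 := (Nat.prime_dvd_prime_iff_eq hr (by norm_num)).1 (h7 ▸ hn ▸ dvd_pow_self r n.pos.ne')
  rcases TwoByTwo.psl_pow_cases (p := r) (by rw [h7]) g with h | h | h <;>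
    have h' := orderOf_dvd_of_pow_eq_one h <;> rw [hg] at h'
  · rw [hr7] at h'; exact not_pq_dvd_prime_pow hp hq (r := 7) (k := 1) (by norm_num) hpq (by simpa using h')
  · rw [h7] at h'; exact not_pq_dvd_prime_pow hp hq (r := 3) (k := 1) (by norm_num) hpq (by simpa using h')
  · rw [h7] at h'; exact not_pq_dvd_prime_pow hp hq (r := 2) (k := 2) (by norm_num) hpq (by simpa using h')

theorem sl_eight_no_pq [CharP F 2] (h8 : Fintype.card F = 8) {p q : ℕ} (hp : p.Prime) (hq : q.Prime) (hpq : p ≠ q) :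
    ¬ ∃ g : Matrix.SpecialLinearGroup (Fin 2) F, orderOf g = p * q := by
  rintro ⟨g, hg⟩
  rcases sl_pow_cases_two g with h | h | h <;>
    have h' := orderOf_dvd_of_pow_eq_one h <;> rw [hg] at h'
  · exact not_pq_dvd_prime_pow hp hq (r := 2) (k := 1) (by norm_num) hpq (by simpa using h')
  · rw [h8] at h'; exact not_pq_dvd_prime_pow hp hq (r := 7) (k := 1) (by norm_num) hpq (by simpa using h')
  · rw [h8] at h'; exact not_pq_dvd_prime_pow hp hq (r := 3) (k := 2) (by norm_num) hpq (by simpa using h')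

/-- Unboundedly many groups with the prime graph of `PSL(2,7)`. -/
theorem exists_large_graph_psl_seven (h7 : Fintype.card F = 7) (N : ℕ) :
    ∃ (H : Type) (_ : Group H) (_ : Finite H), N < Nat.card H ∧
      (∀ p : ℕ, p.Prime → (p ∣ Nat.card (Matrix.ProjectiveSpecialLinearGroup (Fin 2) F) ↔ p ∣ Nat.card H)) ∧
      (∀ p q : ℕ, p.Prime → q.Prime → p ≠ q →
        ((∃ g : Matrix.ProjectiveSpecialLinearGroup (Fin 2) F, orderOf g = p * q) ↔ ∃ g : H, orderOf g = p * q)) := by
  classical
  haveI : Fintype (GaloisField 2 3) := Fintype.ofFinite _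
  haveI : Fact (Nat.Prime 2) := ⟨Nat.prime_two⟩
  have h8 : Fintype.card (GaloisField 2 3) = 8 := by
    rw [← Nat.card_eq_fintype_card, GaloisField.card 2 3 (by norm_num)]; norm_num
  obtain ⟨H, i, j, hN, hd, hpq⟩ := exists_large_graph_natural (F := GaloisField 2 3) N
  refine ⟨H, i, j, hN, fun p hp => ?_, fun p q hp hq hne => ?_⟩
  · rw [← hd p hp, card_sl_two, h8]
    have h := card_psl_odd (F := F) (h7 ▸ by decide)
    rw [h7] at h
    simp only [Nat.reduceAdd, Nat.reduceSub, Nat.reduceMul] at h ⊢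
    rw [show Nat.card (Matrix.ProjectiveSpecialLinearGroup (Fin 2) F) = 2 ^ 3 * (3 * 7) by omega,
      show (504 : ℕ) = 2 ^ 3 * (3 ^ 2 * 7) by norm_num, hp.dvd_mul, hp.dvd_mul, hp.dvd_mul, hp.dvd_mul]
    exact or_congr Iff.rfl (or_congr ⟨fun h => h.trans (dvd_pow_self 3 two_ne_zero), hp.dvd_of_dvd_pow⟩ Iff.rfl)
  · rw [← hpq p q hp hq hne]
    exact iff_of_false (psl_seven_no_pq h7 hp hq hne) (sl_eight_no_pq h8 hp hq hne)

/-- The possible element orders of `A₆`. -/
def altSixOrders : Finset ℕ := {1, 2, 3, 4, 5}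

theorem cycleLists_check_six : ((cycleLists 3 6 2).all fun l =>
    decide ((l.sum + l.length) % 2 = 1) || decide (l.foldr Nat.lcm 1 ∈ altSixOrders)) = true := by
  decide +kernel

theorem orderOf_mem_altSixOrders (g : alternatingGroup (Fin 6)) : orderOf g ∈ altSixOrders := by
  set σ : Equiv.Perm (Fin 6) := g.1 with hσ
  obtain ⟨l, hl, hsort⟩ : ∃ l : List ℕ, (l : Multiset ℕ) = σ.cycleType ∧ l.Pairwise (· ≤ ·) :=
    ⟨σ.cycleType.sort (· ≤ ·), Multiset.sort_eq _ _, Multiset.pairwise_sort _ _⟩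
  have h2 : ∀ a ∈ l, 2 ≤ a := fun a ha => Equiv.Perm.two_le_of_mem_cycleType (σ := σ) (by
    rw [← hl]; exact ha)
  have hs : l.sum ≤ 6 := by
    have h := Equiv.Perm.sum_cycleType σ
    rw [← hl, Multiset.sum_coe] at h
    rw [h]
    exact le_of_le_of_eq (Finset.card_le_univ _) (Fintype.card_fin 6)
  have hlen : l.length ≤ 3 := by
    have h : l.length * 2 ≤ l.sum := by
      simpa using List.card_nsmul_le_sum l 2 h2
    omega
  have hmem := mem_cycleLists 3 6 2 l hlen hs hsort h2
  have h := List.all_eq_true.mp cycleLists_check_six l hmem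
  rw [Bool.or_eq_true, decide_eq_true_eq, decide_eq_true_eq] at h
  have hev : (l.sum + l.length) % 2 = 0 := by
    have h1 : Equiv.Perm.sign σ = 1 := g.2
    rw [Equiv.Perm.sign_of_cycleType, ← hl, Multiset.sum_coe, Multiset.coe_card] at h1
    rcases Nat.even_or_odd (l.sum + l.length) with he | ho
    · exact Nat.even_iff.mp he
    · rw [ho.neg_one_pow] at h1
      exact absurd h1 (by decide)
  rw [← Subgroup.orderOf_coe, ← hσ, ← Equiv.Perm.lcm_cycleType, ← hl, lcm_coe_eq_foldr]
  exact h.resolve_left (by omega)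

theorem range_orderOf_altSix : Set.range (orderOf : alternatingGroup (Fin 6) → ℕ) = ↑altSixOrders := by
  ext n
  refine ⟨fun ⟨g, hg⟩ => hg ▸ orderOf_mem_altSixOrders g, fun hn => ?_⟩
  simp only [altSixOrders, Finset.coe_insert, Finset.coe_singleton, Set.mem_insert_iff, Set.mem_singleton_iff] at hn
  have key : ∀ (m : ℕ) (g : Equiv.Perm (Fin 6)) (hm : 0 < m), Equiv.Perm.sign g = 1 → g ^ m = 1 →
      (∀ j : Fin m, 0 < j.val → g ^ j.val ≠ 1) → ∃ a : alternatingGroup (Fin 6), orderOf a = m :=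
    fun m g hm hs hp hj => ⟨⟨g, hs⟩, by
      rw [← Subgroup.orderOf_coe]
      exact (orderOf_eq_iff hm).mpr ⟨hp, fun j hjm hj0 => hj ⟨j, hjm⟩ hj0⟩⟩
  rcases hn with rfl | rfl | rfl | rfl | rfl
  · exact ⟨1, orderOf_one⟩
  · exact key 2 (c[0, 1] * c[2, 3]) (by norm_num) (by decide +kernel) (by decide +kernel) (by decide +kernel)
  · exact key 3 c[0, 1, 2] (by norm_num) (by decide +kernel) (by decide +kernel) (by decide +kernel)
  · exact key 4 (c[0, 1, 2, 3] * c[4, 5]) (by norm_num) (by decide +kernel) (by decide +kernel) (by decide +kernel)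
  · exact key 5 c[0, 1, 2, 3, 4] (by norm_num) (by decide +kernel) (by decide +kernel) (by decide +kernel)

theorem range_orderOf_semi_four [CharP F 2] (h4 : Fintype.card F = 4) :
    Set.range (orderOf : Semi (Matrix.SpecialLinearGroup (Fin 2) F) (Vec2 (Fin 1) F) → ℕ) = ↑altSixOrders := by
  classical
  have hS : Nat.card (Matrix.SpecialLinearGroup (Fin 2) F) = 60 := by rw [card_sl_two, h4]
  ext n
  constructor
  · rintro ⟨x, rfl⟩
    have hr : orderOf x.right ∈ ({1, 2, 3, 5} : Finset ℕ) := by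
      rcases sl_pow_cases_two x.right with h | h | h <;> have h' := orderOf_dvd_of_pow_eq_one h
      · rcases (Nat.dvd_prime Nat.prime_two).1 h' with e | e <;> simp [e]
      · rw [h4] at h'; rcases (Nat.dvd_prime Nat.prime_three).1 h' with e | e <;> simp [e]
      · rw [h4] at h'; rcases (Nat.dvd_prime Nat.prime_five).1 h' with e | e <;> simp [e]
    rcases orderOf_semi_natural x with h | ⟨h, hd⟩
    · rw [h]
      simp only [Finset.mem_insert, Finset.mem_singleton] at hr
      rcases hr with e | e | e | e <;> simp [e, altSixOrders]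
    · rw [h]
      rcases (Nat.dvd_prime Nat.prime_two).1 hd with e | e <;> simp [e, altSixOrders]
  · intro hn
    simp only [altSixOrders, Finset.coe_insert, Finset.coe_singleton, Set.mem_insert_iff, Set.mem_singleton_iff] at hn
    have hprime : ∀ r : ℕ, r.Prime → r ∣ 60 →
        ∃ g : Semi (Matrix.SpecialLinearGroup (Fin 2) F) (Vec2 (Fin 1) F), orderOf g = r := fun r hr hd => by
      haveI : Fact r.Prime := ⟨hr⟩
      obtain ⟨g, hg⟩ := exists_prime_orderOf_dvd_card' (G := Matrix.SpecialLinearGroup (Fin 2) F) r (hS.symm ▸ hd)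
      exact ⟨SemidirectProduct.inr g, by rw [orderOf_injective _ SemidirectProduct.inr_injective, hg]⟩
    rcases hn with rfl | rfl | rfl | rfl | rfl
    · exact ⟨1, orderOf_one⟩
    · exact hprime 2 Nat.prime_two (by norm_num)
    · exact hprime 3 Nat.prime_three (by norm_num)
    · refine ⟨semiPair (vecConst ![0, 1]) (elS (1 : Fˣ) (1 : F)), ?_⟩
      have hu : orderOf (elS (1 : Fˣ) (1 : F)) = 2 := by
        haveI : Fact (Nat.Prime 2) := ⟨Nat.prime_two⟩
        refine orderOf_eq_prime ?_ (fun h => one_ne_zero (α := F)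
          (by simpa [elS_val] using congrArg (fun g : Matrix.SpecialLinearGroup (Fin 2) F => g.1 0 1) h))
        rw [pow_two, elS_mul]
        simp [CharTwo.add_self_eq_zero, elS_one_zero]
      rw [orderOf_semiPair, hu]
      haveI : Fact (Nat.Prime 2) := ⟨Nat.prime_two⟩
      rw [addOrderOf_eq_prime (vec2_two_nsmul _) ?_]
      intro h
      have h0 := congrFun (congrFun h 0) 0
      rw [Finset.sum_range_succ, Finset.sum_range_one, pow_zero, one_smul, pow_one] at h0
      change (![0, 1] : Fin 2 → F) 0 + ((elS (1 : Fˣ) (1 : F)).1 *ᵥ ![0, 1]) 0 = 0 at h0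
      simp [elS_val, Matrix.mulVec, dotProduct, Fin.sum_univ_two] at h0
    · exact hprime 5 Nat.prime_five (by norm_num)

theorem altSix_large (N : ℕ) :
    ∃ (H : Type) (_ : Group H) (_ : Fintype H), N < Fintype.card H ∧
      Set.range (orderOf : H → ℕ) = Set.range (orderOf : alternatingGroup (Fin 6) → ℕ) := by
  classical
  haveI : Fintype (GaloisField 2 2) := Fintype.ofFinite _
  haveI : Fact (Nat.Prime 2) := ⟨Nat.prime_two⟩
  have h4 : Fintype.card (GaloisField 2 2) = 4 := by
    rw [← Nat.card_eq_fintype_card, GaloisField.card 2 2 (by norm_num)]; norm_num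
  haveI : Finite (Semi (Matrix.SpecialLinearGroup (Fin 2) (GaloisField 2 2)) (Vec2 (Fin 1) (GaloisField 2 2))) :=
    Finite.of_injective (fun x => (x.left.toAdd, x.right)) fun a b h => by
      rw [semiPair_eta a, semiPair_eta b, (Prod.mk.inj h).1, (Prod.mk.inj h).2]
  let V : Subgroup (Semi (Matrix.SpecialLinearGroup (Fin 2) (GaloisField 2 2)) (Vec2 (Fin 1) (GaloisField 2 2))) :=
    SemidirectProduct.rightHom.ker
  have hV : ∀ v ∈ V, v ^ 2 = 1 := fun v hv => by
    rw [semiPair_eta v, show v.right = 1 from hv, semiPair_one_pow, vec2_two_nsmul]; rfl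
  have hne : V ≠ ⊥ := fun h => by
    have hm : semiPair (vecConst (F := GaloisField 2 2) ![1, 0]) 1 ∈ V := rfl
    rw [h, Subgroup.mem_bot] at hm
    exact one_ne_zero (congrFun (congrFun (congrArg (fun x => Multiplicative.toAdd (SemidirectProduct.left x)) hm) 0) 0)
  obtain ⟨H, i, j, hN, hr⟩ := exists_large_isospectral Nat.prime_two hV hne N
  exact ⟨H, i, j, hN, by rw [hr, range_orderOf_semi_four h4, range_orderOf_altSix]⟩

/-- The affine special linear group is the natural semidirect product. -/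
theorem affine_range [CharP F 2] (h4 : Fintype.card F = 4) :
    Set.range (orderOf : Subgroup.closure {M : Matrix.SpecialLinearGroup (Fin 3) F |
      (M : Matrix (Fin 3) (Fin 3) F) 2 0 = 0 ∧ (M : Matrix (Fin 3) (Fin 3) F) 2 1 = 0 ∧
        (M : Matrix (Fin 3) (Fin 3) F) 2 2 = 1} → ℕ) =
      Set.range (orderOf : alternatingGroup (Fin 6) → ℕ) := by
  rw [range_orderOf_altSix, ← range_orderOf_semi_four h4]
  let m3 : Semi (Matrix.SpecialLinearGroup (Fin 2) F) (Vec2 (Fin 1) F) → Matrix (Fin 3) (Fin 3) F := fun x =>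
    !![x.right.1 0 0, x.right.1 0 1, x.left.toAdd 0 0;
       x.right.1 1 0, x.right.1 1 1, x.left.toAdd 0 1;
       0, 0, 1]
  have hdet : ∀ x, (m3 x).det = 1 := fun x => by
    have h := x.right.det_coe
    rw [Matrix.det_fin_two] at h
    simp [m3, Matrix.det_fin_three]
    linear_combination h
  let f : Semi (Matrix.SpecialLinearGroup (Fin 2) F) (Vec2 (Fin 1) F) →* Matrix.SpecialLinearGroup (Fin 3) F :=
    { toFun := fun x => ⟨m3 x, hdet x⟩
      map_one' := Subtype.ext (by
        show m3 1 = 1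
        ext i j; fin_cases i <;> fin_cases j <;> simp [m3] <;> rfl)
      map_mul' := fun x y => Subtype.ext (by
        show m3 (x * y) = m3 x * m3 y
        have hl : ∀ k, (x.left.toAdd + (semiAct (Matrix.SpecialLinearGroup (Fin 2) F) (Vec2 (Fin 1) F) x.right y.left).toAdd) 0 k =
            x.left.toAdd 0 k + (x.right.1 *ᵥ y.left.toAdd 0) k := fun k => rfl
        ext i j
        fin_cases i <;> fin_cases j <;>
          simp [m3, hl, Matrix.mul_apply, Fin.sum_univ_three, Fin.sum_univ_two, Matrix.mulVec, dotProduct] <;> ring) }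
  have hf : Function.Injective f := fun x y h => by
    have h' : ∀ i j, m3 x i j = m3 y i j := fun i j => congrFun (congrFun (congrArg Subtype.val h) i) j
    rw [semiPair_eta x, semiPair_eta y]
    congr 1
    · funext i k
      fin_cases i
      fin_cases k
      · simpa [m3] using h' 0 2
      · simpa [m3] using h' 1 2
    · refine Subtype.ext ?_
      ext i j
      fin_cases i <;> fin_cases j
      · simpa [m3] using h' 0 0
      · simpa [m3] using h' 0 1
      · simpa [m3] using h' 1 0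
      · simpa [m3] using h' 1 1
  have hset : Subgroup.closure {M : Matrix.SpecialLinearGroup (Fin 3) F |
      (M : Matrix (Fin 3) (Fin 3) F) 2 0 = 0 ∧ (M : Matrix (Fin 3) (Fin 3) F) 2 1 = 0 ∧
        (M : Matrix (Fin 3) (Fin 3) F) 2 2 = 1} = f.range := by
    refine le_antisymm ((Subgroup.closure_le _).2 ?_) ?_
    · rintro M ⟨h0, h1, h2⟩
      have hd := M.det_coe
      rw [Matrix.det_fin_three, h0, h1, h2] at hd
      refine ⟨semiPair (vecConst ![M.1 0 2, M.1 1 2]) ⟨!![M.1 0 0, M.1 0 1; M.1 1 0, M.1 1 1], ?_⟩, Subtype.ext ?_⟩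
      · rw [Matrix.det_fin_two_of]; linear_combination hd
      · show m3 _ = M.1
        ext i j
        fin_cases i <;> fin_cases j <;> simp [m3, semiPair, vecConst, h0, h1, h2]
    · rintro _ ⟨x, rfl⟩
      exact Subgroup.subset_closure ⟨rfl, rfl, rfl⟩
  rw [hset]
  exact (range_orderOf_congr (MonoidHom.ofInjective hf)).symm

end CfsgLib.Char.TwoChars
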