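import Cfsg.Agent.Lib.Char.QuaternionDerived
import Cfsg.Agent.Lib.Char.TI
import Cfsg.Agent.Lib.Char.Virtual

/-!
# The exceptional character pair for a generalised quaternion Sylow 2-subgroup
-/

open Subgroup

set_option autoImplicit false
set_option linter.unusedSectionVars false

namespace CfsgLib.Char

open scoped ComplexConjugate
open Cfsg

universe u

variable {G : Type u} [Group G] [Fintype G]

/-- A generalized character of norm three containing `1` and vanishing at `1`. -/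
theorem exists_pair_of_norm_three {f : G → ℂ} (hf : IsGeneralizedCharacter G f)
    (h3 : classInner f f = 3) (hone : classInner f (fun _ => 1) = 1) (h1 : f 1 = 0) :
    ∃ μ ν : IrrCharacter G, (μ : G → ℂ) ≠ (fun _ => 1) ∧ (ν : G → ℂ) ≠ (fun _ => 1) ∧
      f = (fun _ => 1) + (μ : G → ℂ) - (ν : G → ℂ) ∧ (ν : G → ℂ) 1 = (μ : G → ℂ) 1 + 1 := by
  classical
  have := Fintype.ofFinite (IrrCharacter G)
  obtain ⟨m, hm, he, hn⟩ := generalized_expand hf
  let one : IrrCharacter G := ⟨fun _ => 1, isIrrCharacter_one⟩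
  have hm1 : m one = 1 := by exact_mod_cast (hm one).symm.trans hone
  have hsum : ∑ ψ, m ψ ^ 2 = 3 := by rw [hn] at h3; exact_mod_cast h3
  have hrest : ∑ ψ ∈ Finset.univ.erase one, m ψ ^ 2 = 2 := by
    have := Finset.sum_erase_add Finset.univ (fun ψ => m ψ ^ 2) (Finset.mem_univ one)
    simp only [hm1, hsum, one_pow] at this
    omega
  have hunit : ∀ ψ, ψ ≠ one → m ψ = 0 ∨ m ψ = 1 ∨ m ψ = -1 := by
    intro ψ hne
    have h := Finset.single_le_sum (f := fun ψ => m ψ ^ 2) (fun _ _ => sq_nonneg _)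
      (Finset.mem_erase.2 ⟨hne, Finset.mem_univ ψ⟩)
    rw [hrest] at h
    have h' : m ψ ^ 2 ≤ 2 := h
    have h5 : m ψ ≤ 1 := by nlinarith
    have h4 : -1 ≤ m ψ := by nlinarith
    omega
  set T := (Finset.univ.erase one).filter fun ψ => m ψ ≠ 0 with hT
  have hcard : T.card = 2 := by
    have h : ∑ ψ ∈ Finset.univ.erase one, m ψ ^ 2 = ∑ ψ ∈ T, (1 : ℤ) := by
      rw [hT, Finset.sum_filter]
      refine Finset.sum_congr rfl fun ψ hψ => ?_
      rcases hunit ψ (Finset.mem_erase.1 hψ).1 with h | h | h <;> simp [h]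
    rw [hrest, Finset.sum_const, nsmul_eq_mul, mul_one] at h
    exact_mod_cast h.symm
  obtain ⟨a, b, hab, hTab⟩ := Finset.card_eq_two.mp hcard
  have haT : a ∈ T := by rw [hTab]; exact Finset.mem_insert_self _ _
  have hbT : b ∈ T := by rw [hTab]; exact Finset.mem_insert_of_mem (Finset.mem_singleton_self _)
  rw [hT, Finset.mem_filter, Finset.mem_erase] at haT hbT
  have hfab : f = (one : G → ℂ) + ((m a : ℂ) • (a : G → ℂ) + (m b : ℂ) • (b : G → ℂ)) := by
    conv_lhs => rw [he, ← Finset.add_sum_erase _ _ (Finset.mem_univ one), hm1, Int.cast_one, one_smul,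
      ← Finset.sum_filter_of_ne (p := fun ψ => m ψ ≠ 0) (fun ψ _ h h0 => h (by rw [h0]; simp)),
      ← hT, hTab, Finset.sum_pair hab]
  obtain ⟨da, hda, hda'⟩ := isIrrCharacter_degree a.2
  obtain ⟨db, hdb, hdb'⟩ := isIrrCharacter_degree b.2
  have hzero : 1 + (m a * (da : ℤ) + m b * (db : ℤ)) = 0 := by
    rw [hfab, Pi.add_apply, Pi.add_apply, Pi.smul_apply, Pi.smul_apply, smul_eq_mul, smul_eq_mul,
      hda', hdb'] at h1
    have h1' : ((1 + (m a * (da : ℤ) + m b * (db : ℤ)) : ℤ) : ℂ) = 0 := by push_cast; exact h1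
    exact_mod_cast h1'
  have hna : (a : G → ℂ) ≠ (fun _ => 1) := fun h => haT.1.1 (Subtype.ext h)
  have hnb : (b : G → ℂ) ≠ (fun _ => 1) := fun h => hbT.1.1 (Subtype.ext h)
  rcases (hunit a haT.1.1).resolve_left haT.2 with ha | ha <;>
    rcases (hunit b hbT.1.1).resolve_left hbT.2 with hb | hb <;> rw [ha, hb] at hzero
  · exfalso; omega
  · refine ⟨a, b, hna, hnb, ?_, ?_⟩
    · rw [hfab, ha, hb]; push_cast; rw [one_smul, neg_one_smul, sub_eq_add_neg, add_assoc]
    · rw [hda', hdb', show db = da + 1 by omega]; push_cast; ring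
  · refine ⟨b, a, hnb, hna, ?_, ?_⟩
    · rw [hfab, ha, hb]; push_cast; rw [one_smul, neg_one_smul]; abel
    · rw [hda', hdb', show da = db + 1 by omega]; push_cast; ring
  · exfalso; omega

theorem exists_exceptional_pair (S : Sylow 2 G) (n : ℕ)
    (e : (S : Subgroup G) ≃* QuaternionGroup (2 ^ (n + 2))) :
    ∃ μ ν : IrrCharacter G, (μ : G → ℂ) ≠ (fun _ => 1) ∧ (ν : G → ℂ) ≠ (fun _ => 1) ∧
      (ν : G → ℂ) 1 = (μ : G → ℂ) 1 + 1 ∧
      ∀ g : G, ¬ 4 ∣ orderOf g → (ν : G → ℂ) g - (μ : G → ℂ) g = 1 := by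
  classical
  set D : Subgroup G := ⁅(S : Subgroup G), (S : Subgroup G)⁆ with hD
  obtain ⟨a, b, F⟩ := exists_quatFrame S n e hD
  obtain ⟨N, hN⟩ : ∃ N, N = 2 ^ (n + 2) := ⟨_, rfl⟩
  rw [← hN] at F
  obtain ⟨τ, hτ, hodd⟩ := F.exists_retraction
  have hN4 : 4 ∣ N := ⟨2 ^ n, by rw [hN]; ring⟩
  have hNcard := F.card_derived
  have hao := F.order_a
  have hN0 : 0 < N := by have := F.four_le; omega
  let T : Set G := {y : G | y ∈ centralizer (D : Set G) ∧ N ∣ orderOf y}
  have hCN : ∀ g ∈ normalizer (D : Set G), ∀ x ∈ centralizer (D : Set G),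
      g * x * g⁻¹ ∈ centralizer (D : Set G) := by
    intro g hg x hx
    rw [mem_centralizer_iff] at hx ⊢
    intro d hd
    have hd' : g⁻¹ * d * g ∈ D := (mem_normalizer_iff''.1 hg d).1 hd
    calc d * (g * x * g⁻¹) = g * ((g⁻¹ * d * g) * x) * g⁻¹ := by group
      _ = g * (x * (g⁻¹ * d * g)) * g⁻¹ := by rw [hx _ hd']
      _ = _ := by group
  let M : Subgroup G := normalizer T
  have hord : ∀ g x : G, orderOf (g * x * g⁻¹) = orderOf x := fun g x => by
    rw [← MulAut.conj_apply, MulEquiv.orderOf_eq]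
  have haT : a ∈ T := ⟨F.a_mem_cent, by rw [hao]; exact dvd_mul_left N 2⟩
  have hMmem : ∀ g : G, g ∈ M ↔ g ∈ normalizer (D : Set G) := by
    intro g
    constructor
    · intro hg
      have h := (Subgroup.mem_set_normalizer_iff.1 hg a).1 haT
      exact F.mem_normalizer_of_conj haT.1 (hNcard.symm ▸ haT.2) h.1
    · intro hg
      refine Subgroup.mem_set_normalizer_iff.2 fun x => ⟨fun hx => ⟨hCN g hg x hx.1, by rw [hord]; exact hx.2⟩,
        fun hx => ⟨?_, by rw [← hord g]; exact hx.2⟩⟩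
      have h := hCN g⁻¹ (inv_mem hg) _ hx.1
      simpa [mul_assoc] using h
  have hMeq : M = normalizer (D : Set G) := Subgroup.ext hMmem
  let C : Subgroup M := (centralizer (D : Set G)).subgroupOf M
  haveI hCnormal : C.Normal := ⟨fun x hx g => hCN g.1 ((hMmem _).1 g.2) x.1 hx⟩
  have hCidx : C.index = 2 := by
    obtain ⟨K, -, -, -, -, -, h6⟩ := F.complement hD
    show (centralizer (D : Set G)).relIndex M = 2
    rw [hMeq]
    exact h6
  let bM : M := ⟨b, (hMmem b).2 (F.sylow_le_normalizer hD F.b_mem)⟩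
  have hbC : bM ∉ C := F.b_not_cent
  -- the linear character
  obtain ⟨iU, hiU, hiU4⟩ : ∃ iU : ℂˣ, (iU : ℂ) = Complex.I ∧ iU ^ 4 = 1 :=
    ⟨Units.mk0 Complex.I Complex.I_ne_zero, rfl, Units.ext (by simp [Complex.I_pow_four])⟩
  have hgen : ∀ q : zpowers a, q ∈ zpowers (⟨a, mem_zpowers a⟩ : zpowers a) := by
    rintro ⟨_, i, rfl⟩
    exact ⟨i, Subtype.ext (by simp)⟩
  have hdvd4 : orderOf iU ∣ orderOf (⟨a, mem_zpowers a⟩ : zpowers a) := by
    rw [Subgroup.orderOf_mk, hao]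
    exact (orderOf_dvd_of_pow_eq_one hiU4).trans (hN4.trans (dvd_mul_left N 2))
  let lam0 : zpowers a →* ℂˣ := monoidHomOfForallMemZpowers hgen hdvd4
  have hlam0 : ∀ i : ℤ, lam0 ⟨a ^ i, zpow_mem (mem_zpowers a) i⟩ = iU ^ i := by
    intro i
    rw [show (⟨a ^ i, zpow_mem (mem_zpowers a) i⟩ : zpowers a) = ⟨a, mem_zpowers a⟩ ^ i from
      Subtype.ext (by simp), map_zpow, monoidHomOfForallMemZpowers_apply_gen]
  let ι : C →* centralizer (D : Set G) :=
    { toFun := fun c => ⟨c.1.1, c.2⟩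
      map_one' := rfl
      map_mul' := fun _ _ => rfl }
  let lam : C →* ℂˣ := (lam0.comp τ).comp ι
  obtain ⟨k, hk⟩ := F.two_pow
  have hτodd : ∀ x : centralizer (D : Set G), Odd (orderOf x) → τ x = 1 := by
    intro x hx
    rw [← orderOf_eq_one_iff]
    have h1 : orderOf (τ x) ∣ 2 ^ (k + 1) := by
      have := orderOf_dvd_natCard (τ x)
      rwa [Nat.card_zpowers, hao, hk, ← pow_succ'] at this
    have hcop : Nat.Coprime (orderOf x) (2 ^ (k + 1)) :=
      Nat.Coprime.pow_right _ (Nat.coprime_two_right.2 hx)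
    exact Nat.dvd_one.1 (hcop.gcd_eq_one ▸ Nat.dvd_gcd (orderOf_map_dvd τ x) h1)
  -- conjugation by `b` inverts the linear character
  have hinv : ∀ c : C, lam ⟨bM * c * bM⁻¹, hCnormal.conj_mem c c.2 bM⟩ = (lam c)⁻¹ := by
    intro c
    obtain ⟨i, hi⟩ := mem_zpowers_iff.1 (τ (ι c)).2
    set r : centralizer (D : Set G) := ⟨a ^ i, zpow_mem F.a_mem_cent i⟩ with hr
    have hτr : τ r = ⟨a ^ i, zpow_mem (mem_zpowers a) i⟩ :=
      hτ (a ^ i) (zpow_mem (mem_zpowers a) i) _
    have hτc : τ (ι c) = τ r := by rw [hτr]; exact Subtype.ext hi.symm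
    have hk' : ι c * r⁻¹ ∈ τ.ker := by
      rw [MonoidHom.mem_ker, map_mul, map_inv, hτc, mul_inv_cancel]
    have hkodd : Odd (orderOf (ι c * r⁻¹)) :=
      Odd.of_dvd_nat hodd (Subgroup.orderOf_dvd_natCard _ hk')
    have hbN : b ∈ normalizer (D : Set G) := (hMmem b).1 bM.2
    have e1 : (ι ⟨bM * c * bM⁻¹, hCnormal.conj_mem c c.2 bM⟩ : centralizer (D : Set G)) =
        ⟨b * ((ι c * r⁻¹ : centralizer (D : Set G)) : G) * b⁻¹, hCN b hbN _ (ι c * r⁻¹).2⟩ *
          ⟨(a ^ i)⁻¹, inv_mem (zpow_mem F.a_mem_cent i)⟩ := Subtype.ext (by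
      have h1 : b * a ^ i * b⁻¹ = (a ^ i)⁻¹ := by rw [← conj_zpow, F.conj_a, inv_zpow]
      show b * c.1.1 * b⁻¹ = b * (c.1.1 * (a ^ i)⁻¹) * b⁻¹ * (a ^ i)⁻¹
      nth_rewrite 2 [← h1]
      group)
    have e2 : τ (⟨b * ((ι c * r⁻¹ : centralizer (D : Set G)) : G) * b⁻¹,
        hCN b hbN _ (ι c * r⁻¹).2⟩ : centralizer (D : Set G)) = 1 := hτodd _ (by
      rw [Subgroup.orderOf_mk, hord, Subgroup.orderOf_coe]; exact hkodd)
    show lam0 (τ (ι ⟨_, _⟩)) = (lam0 (τ (ι c)))⁻¹
    rw [e1, map_mul, e2, one_mul, hτc, hτr, hτ (a ^ i)⁻¹ (inv_mem (zpow_mem (mem_zpowers a) i))]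
    rw [← map_inv]
    rfl
  -- the function induced to `M`
  let φ : C → ℂ := fun c => 1 - (lam c : ℂ)
  have hconjlam : ∀ c : C, ((lam c)⁻¹ : ℂˣ) = (conj (lam c : ℂ) : ℂ) := by
    intro c
    have hnorm : ‖(lam c : ℂ)‖ = 1 :=
      Complex.norm_eq_one_of_pow_eq_one (n := orderOf c)
        (by rw [← Units.val_pow_eq_pow_val, ← map_pow, pow_orderOf_eq_one, map_one, Units.val_one])
        (orderOf_pos c).ne'
    rw [Units.val_inv_eq_inv_val, Complex.inv_def, Complex.normSq_eq_norm_sq, hnorm]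
    simp
  let ψ : M → ℂ := indFun C φ
  have hψC : ∀ c : C, ψ c = (1 - (lam c : ℂ)) + (1 - conj (lam c : ℂ)) := by
    intro c
    show indFun C φ c = _
    rw [indFun_normal_mem]
    have hterm : ∀ x : M, φ ⟨x * c * x⁻¹, hCnormal.conj_mem c c.2 x⟩ =
        if x ∈ C then 1 - (lam c : ℂ) else 1 - conj (lam c : ℂ) := by
      intro x
      split_ifs with hx
      · show 1 - (lam _ : ℂ) = _
        rw [show (⟨x * c * x⁻¹, hCnormal.conj_mem c c.2 x⟩ : C) = ⟨x, hx⟩ * c * ⟨x, hx⟩⁻¹ from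
          Subtype.ext rfl, map_mul, map_mul, map_inv, mul_right_comm, mul_inv_cancel, one_mul]
      · show 1 - (lam _ : ℂ) = _
        have hy : x * bM⁻¹ ∈ C := (Subgroup.mul_mem_iff_of_index_two hCidx).2
          ⟨fun h => absurd h hx, fun h => absurd ((inv_mem_iff).1 h) hbC⟩
        rw [show (⟨x * c * x⁻¹, hCnormal.conj_mem c c.2 x⟩ : C) =
          ⟨x * bM⁻¹, hy⟩ * ⟨bM * c * bM⁻¹, hCnormal.conj_mem c c.2 bM⟩ * ⟨x * bM⁻¹, hy⟩⁻¹ from
          Subtype.ext (by push_cast; group), map_mul, map_mul, map_inv, mul_right_comm,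
          mul_inv_cancel, one_mul, hinv, hconjlam]
    rw [Finset.sum_congr rfl (fun x _ => hterm x), Finset.sum_ite, Finset.sum_const, Finset.sum_const,
      nsmul_eq_mul, nsmul_eq_mul]
    have h1 : (Finset.univ.filter (fun x : M => x ∈ C)).card = Nat.card C := by
      rw [← Fintype.card_subtype, Nat.card_eq_fintype_card]
    have h2 : (Finset.univ.filter (fun x : M => ¬ x ∈ C)).card = Nat.card C := by
      have h := Finset.card_filter_add_card_filter_not (s := (Finset.univ : Finset M))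
        (fun x : M => x ∈ C)
      rw [h1, Finset.card_univ, ← Nat.card_eq_fintype_card, ← C.card_mul_index, hCidx] at h
      omega
    rw [h1, h2]
    have hC0 : (Nat.card C : ℂ) ≠ 0 := by exact_mod_cast Nat.card_pos.ne'
    field_simp
  have hlamT : ∀ c : C, ¬ N ∣ orderOf c → lam c = 1 := by
    intro c hc
    obtain ⟨i, hi⟩ := mem_zpowers_iff.1 (τ (ι c)).2
    show lam0 (τ (ι c)) = 1
    rw [show τ (ι c) = ⟨a ^ i, zpow_mem (mem_zpowers a) i⟩ from Subtype.ext hi.symm, hlam0]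
    set q := orderOf (τ (ι c)) with hq
    have h1 : q ∣ orderOf c := by
      have h := orderOf_map_dvd τ (ι c)
      rwa [show orderOf (ι c) = orderOf c by
        rw [← Subgroup.orderOf_coe (ι c), ← Subgroup.orderOf_coe c, ← Subgroup.orderOf_coe c.1]
        rfl] at h
    have h2 : q ∣ 2 ^ (k + 1) := by
      have := orderOf_dvd_natCard (τ (ι c))
      rwa [Nat.card_zpowers, hao, hk, ← pow_succ'] at this
    obtain ⟨j, hjle, hj⟩ := (Nat.dvd_prime_pow Nat.prime_two).1 h2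
    have hjk : j < k := by
      by_contra hcon
      refine hc ((Dvd.intro _ rfl : N ∣ N * 1).trans ?_)
      rw [mul_one, hk]
      exact ((Nat.pow_dvd_pow 2 (not_lt.1 hcon)).trans hj.symm.dvd).trans h1
    have h3 : a ^ (i * (2 ^ j : ℕ)) = 1 := by
      rw [zpow_mul, hi, zpow_natCast, ← hj, hq, ← Subgroup.coe_pow, pow_orderOf_eq_one]
      rfl
    rw [← orderOf_dvd_iff_zpow_eq_one, hao, hk] at h3
    have h4 : (4 : ℤ) ∣ i := by
      obtain ⟨l, rfl⟩ : ∃ l, k = j + 1 + l := ⟨k - j - 1, by omega⟩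
      obtain ⟨r, hr⟩ := h3
      refine ⟨2 ^ l * r, ?_⟩
      refine mul_right_cancel₀ (pow_ne_zero j (two_ne_zero (α := ℤ))) ?_
      push_cast at hr ⊢
      rw [hr]; ring
    obtain ⟨r, rfl⟩ := h4
    rw [zpow_mul, show iU ^ (4 : ℤ) = 1 from by exact_mod_cast hiU4, one_zpow]
  have hψT : ∀ x : M, (x : G) ∉ T → ψ x = 0 := by
    intro x hx
    by_cases hxC : x ∈ C
    · have h := hlamT ⟨x, hxC⟩ (fun h => hx ⟨hxC, by
        rwa [← Subgroup.orderOf_coe, ← Subgroup.orderOf_coe] at h⟩)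
      rw [show ψ x = _ from hψC ⟨x, hxC⟩, h]
      simp
    · exact indFun_normal_not_mem C φ hxC
  have hgenφ : IsGeneralizedCharacter C φ :=
    isGeneralizedCharacter_sub
      (isGeneralizedCharacter_of_isCharacter (isCharacter_of_isIrr isIrrCharacter_one))
      (isGeneralizedCharacter_of_isCharacter (isCharacter_of_isIrr (isIrrCharacter_lin lam)))
  have hgenψ : IsGeneralizedCharacter M ψ := isGeneralizedCharacter_indFun C hgenφ
  have hψ1 : ψ 1 = 0 := by
    show indFun C φ 1 = 0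
    rw [indFun_one]
    simp [φ]
  -- the norm
  let χ1 : IrrCharacter C := ⟨fun _ => 1, isIrrCharacter_one⟩
  let χl : IrrCharacter C := ⟨fun c => (lam c : ℂ), isIrrCharacter_lin lam⟩
  let χc : IrrCharacter C := ⟨fun c => ((lam⁻¹ : C →* ℂˣ) c : ℂ), isIrrCharacter_lin lam⁻¹⟩
  let cA : C := ⟨⟨a, (hMmem a).2 (centralizer_le_normalizer _ F.a_mem_cent)⟩, F.a_mem_cent⟩
  have hlA : lam cA = iU := by
    show lam0 (τ ⟨a, _⟩) = iU
    rw [hτ a (mem_zpowers a) F.a_mem_cent]
    exact monoidHomOfForallMemZpowers_apply_gen hgen hdvd4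
  have hne1l : χ1 ≠ χl := fun h => by
    have h' := congrFun (congrArg Subtype.val h) cA
    simp only [χ1, χl, hlA, hiU] at h'
    exact absurd (congrArg Complex.re h') (by simp)
  have hne1c : χ1 ≠ χc := fun h => by
    have h' := congrFun (congrArg Subtype.val h) cA
    simp only [χ1, χc, MonoidHom.inv_apply, Units.val_inv_eq_inv_val, hlA, hiU, Complex.inv_I] at h'
    exact absurd (congrArg Complex.re h') (by simp)
  have hnelc : χl ≠ χc := fun h => by
    have h' := congrFun (congrArg Subtype.val h) cA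
    simp only [χl, χc, MonoidHom.inv_apply, Units.val_inv_eq_inv_val, hlA, hiU, Complex.inv_I] at h'
    exact absurd (congrArg Complex.im h') (by norm_num)
  have hφ' : φ = (χ1 : C → ℂ) - (χl : C → ℂ) := rfl
  have hinner : classInner ψ ψ = 3 := by
    show classInner (indFun C φ) ψ = 3
    rw [classInner_indFun C φ ψ (isClassFunction_of_isGeneralized hgenψ)]
    rw [show (fun c : C => ψ c) = ((χ1 : C → ℂ) - (χl : C → ℂ)) + ((χ1 : C → ℂ) - (χc : C → ℂ)) from funext fun c => by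
      rw [hψC]
      simp only [Pi.add_apply, Pi.sub_apply, χ1, χl, χc, MonoidHom.inv_apply, hconjlam], hφ']
    simp only [classInner_add_right, classInner_sub_right, classInner_sub_left, classInner_irr_self,
      classInner_irr_ne hne1l, classInner_irr_ne hne1l.symm, classInner_irr_ne hne1c,
      classInner_irr_ne hnelc]
    norm_num
  have honeψ : classInner ψ (fun _ => 1) = 1 := by
    show classInner (indFun C φ) _ = 1
    rw [classInner_indFun C φ _ (fun _ _ => rfl), hφ']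
    show classInner ((χ1 : C → ℂ) - (χl : C → ℂ)) (χ1 : C → ℂ) = 1
    rw [classInner_sub_left, classInner_irr_self, classInner_irr_ne hne1l.symm, sub_zero]
  -- to `G`
  have hTI : ∀ g : G, g ∉ normalizer T → ∀ t ∈ T, g * t * g⁻¹ ∈ T → t = 1 := fun g hg t ht hgt =>
    absurd ((hMmem g).2 (F.mem_normalizer_of_conj ht.1 (hNcard.symm ▸ ht.2) hgt.1)) hg
  set f : G → ℂ := indFun M ψ with hf
  have hfnorm : classInner f f = 3 := by
    rw [hf, classInner_indFun_TI T hTI ψ ψ (isClassFunction_of_isGeneralized hgenψ) hψT hψT hψ1,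
      hinner]
  have hfone : classInner f (fun _ => 1) = 1 := by
    rw [hf, classInner_indFun M ψ _ (fun _ _ => rfl)]
    exact honeψ
  have hf1 : f 1 = 0 := by rw [hf, indFun_one, hψ1, mul_zero]
  obtain ⟨μ, ν, hμ, hν, hfeq, hdeg⟩ :=
    exists_pair_of_norm_three (isGeneralizedCharacter_indFun M hgenψ) hfnorm hfone hf1
  refine ⟨μ, ν, hμ, hν, hdeg, fun g hg => ?_⟩
  have hf0 : f g = 0 := by
    show indFun M ψ g = 0
    rw [indFun, Finset.sum_eq_zero, mul_zero]
    intro x _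
    by_cases hm : x⁻¹ * g * x ∈ M
    · rw [extendByZero_mem M ψ hm]
      refine hψT _ fun hT => hg (hN4.trans ?_)
      have h : N ∣ orderOf (x⁻¹ * g * x) := hT.2
      rwa [show x⁻¹ * g * x = x⁻¹ * g * x⁻¹⁻¹ by group, hord] at h
    · exact extendByZero_not_mem M ψ hm
  have := congrFun hfeq g
  rw [show indFun M ψ g = f g from rfl, hf0] at this
  simp only [Pi.sub_apply, Pi.add_apply] at this
  linear_combination this

end CfsgLib.Char
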