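import Cfsg.Agent.Lib.Block.IntegralForm
import Cfsg.Agent.Lib.Char.Orthogonality
import Mathlib.GroupTheory.Sylow
import Mathlib.LinearAlgebra.Dimension.Finite
import Mathlib.GroupTheory.GroupAction.Quotient

/-!
# Restriction to an overgroup of the normalizer of a TI Sylow subgroup

If `χ 1 ^ 2 ≤ |P|` then `χ` has the same norm on `G` and on `H ≥ N(P)`: modulo the maximal ideal the relative
trace from `H` to `G` is the identity on endomorphisms, since sums over `P` vanish.
-/

set_option autoImplicit false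
set_option linter.unusedSectionVars false
set_option linter.style.haveILetI false

namespace CfsgLib.Char.TITransfer

open scoped Pointwise
open Cfsg CfsgLib.Char Module

universe u v w

section CharP

variable {p : ℕ} [hp : Fact p.Prime] {k : Type v} [Field k] [CharP k p] {P : Type u} [Group P] [Fintype P]

/-- A `p`-group fixes a nonzero vector of every nonzero invariant subspace in characteristic `p`. -/
theorem exists_fixed_ne_zero (hP : IsPGroup p P) {V : Type w} [AddCommGroup V] [Module k V]
    (ρ : P →* Module.End k V) (W : Submodule k V) (hW : ∀ x, ∀ v ∈ W, ρ x v ∈ W) {v : V}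
    (hv : v ∈ W) (hv0 : v ≠ 0) : ∃ w ∈ W, w ≠ 0 ∧ ∀ x, ρ x w = w := by
  classical
  let f : ZMod p →+* k := ZMod.castHom dvd_rfl k
  let Φ : (P → ZMod p) →+ V :=
    { toFun := fun c => ∑ x : P, f (c x) • ρ x v
      map_zero' := by simp
      map_add' := fun a b => by simp [add_smul, Finset.sum_add_distrib] }
  let R := Φ.range
  have hR : ∀ y : P, ∀ r ∈ R, ρ y r ∈ R := by
    rintro y _ ⟨c, rfl⟩
    refine ⟨fun x => c (y⁻¹ * x), ?_⟩
    show ∑ x : P, f (c (y⁻¹ * x)) • ρ x v = ρ y (∑ x : P, f (c x) • ρ x v)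
    rw [map_sum]
    refine (Fintype.sum_equiv (Equiv.mulLeft y) _ _ fun x => ?_).symm
    simp [Module.End.mul_apply]
  have hRW : ∀ r ∈ R, r ∈ W := by
    rintro _ ⟨c, rfl⟩
    exact sum_mem fun x _ => W.smul_mem _ (hW x v hv)
  let act : MulAction P R :=
    { smul := fun y r => ⟨ρ y r, hR y r r.2⟩
      one_smul := fun r => Subtype.ext (show ρ 1 (r : V) = r by rw [map_one]; rfl)
      mul_smul := fun a b r => Subtype.ext (show ρ (a * b) (r : V) = ρ a (ρ b r) by rw [map_mul]; rfl) }
  letI := act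
  have hfin : Finite R := Finite.of_surjective Φ.rangeRestrict Φ.rangeRestrict_surjective
  have hne : Nontrivial R := ⟨⟨⟨v, fun x => if x = 1 then 1 else 0, by
    show ∑ x : P, f (if x = 1 then 1 else 0) • ρ x v = v
    rw [Finset.sum_eq_single (1 : P) (fun x _ hx => by simp [hx]) (by simp)]
    simp⟩, 0, fun e => hv0 (congrArg Subtype.val e)⟩⟩
  have hdvd : p ∣ Nat.card R := by
    have h1 : Nat.card R ∣ Nat.card (P → ZMod p) := AddSubgroup.card_range_dvd Φ
    rw [Nat.card_fun, Nat.card_zmod] at h1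
    obtain ⟨j, -, hj⟩ := (Nat.dvd_prime_pow hp.out).mp h1
    rw [hj]
    refine dvd_pow_self p fun h0 => ?_
    have := Finite.one_lt_card (α := R)
    rw [hj, h0, pow_zero] at this
    exact lt_irrefl _ this
  have h0fix : (0 : R) ∈ MulAction.fixedPoints P R := fun y => Subtype.ext (map_zero (ρ y))
  obtain ⟨w, hw, hw0⟩ := hP.exists_fixed_point_of_prime_dvd_card_of_fixed_point R hdvd h0fix
  exact ⟨w, hRW _ w.2, fun e => hw0 (Subtype.ext e).symm, fun x => congrArg Subtype.val (hw x)⟩

/-- A vector with nonzero orbit sum has an independent orbit. -/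
theorem linearIndependent_orbit (hP : IsPGroup p P) {V : Type w} [AddCommGroup V] [Module k V]
    (ρ : P →* Module.End k V) {u : V} (hu : ∑ x, ρ x u ≠ 0) :
    LinearIndependent k fun x => ρ x u := by
  classical
  rw [Fintype.linearIndependent_iff]
  intro a ha
  by_contra hne
  let shift : P →* Module.End k (P → k) :=
    { toFun := fun y => LinearMap.funLeft k k (fun x => y⁻¹ * x)
      map_one' := LinearMap.ext fun c => funext fun x => by simp [LinearMap.funLeft]
      map_mul' := fun y z => LinearMap.ext fun c => funext fun x => by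
        simp [LinearMap.funLeft, mul_assoc] }
  let W : Submodule k (P → k) :=
    LinearMap.ker (Fintype.linearCombination k fun x => ρ x u)
  have hmem : ∀ c : P → k, c ∈ W ↔ ∑ x, c x • ρ x u = 0 := fun c => by
    simp [W, Fintype.linearCombination_apply]
  have hW : ∀ y, ∀ c ∈ W, shift y c ∈ W := by
    intro y c hc
    rw [hmem] at hc ⊢
    have := congrArg (ρ y) hc
    rw [map_sum, map_zero] at this
    rw [← this]
    refine (Fintype.sum_equiv (Equiv.mulLeft y) _ _ fun x => ?_).symm
    simp [shift, LinearMap.funLeft, Module.End.mul_apply]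
  obtain ⟨c, hc, hc0, hfix⟩ := exists_fixed_ne_zero hP shift W hW ((hmem a).mpr ha)
    fun e => hne fun i => congrFun e i
  have hconst : ∀ x, c x = c 1 := fun x => by
    have := congrFun (hfix x) x
    simpa [shift, LinearMap.funLeft] using this.symm
  rw [hmem] at hc
  simp only [hconst, ← Finset.smul_sum] at hc
  rcases smul_eq_zero.mp hc with h | h
  · exact hc0 (funext fun x => by rw [hconst x, h]; rfl)
  · exact hu h

/-- Sums of conjugates over a nontrivial `p`-group vanish in small degree. -/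
theorem sum_conj_eq_zero (hP : IsPGroup p P) (hnt : Nontrivial P) {d : ℕ}
    (τ : P →* Matrix (Fin d) (Fin d) k) (hd : d ^ 2 ≤ Nat.card P) (F : Matrix (Fin d) (Fin d) k) :
    ∑ x, τ x * F * τ x⁻¹ = 0 := by
  classical
  by_contra hN
  have hinv : ∀ x, τ x * τ x⁻¹ = 1 := fun x => by rw [← map_mul, mul_inv_cancel, map_one]
  let cj : P →* Module.End k (Matrix (Fin d) (Fin d) k) :=
    { toFun := fun x => (LinearMap.mulLeft k (τ x)).comp (LinearMap.mulRight k (τ x⁻¹))
      map_one' := LinearMap.ext fun m => by simp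
      map_mul' := fun x y => LinearMap.ext fun m => by simp [mul_assoc, map_mul] }
  have hcj : ∀ x m, cj x m = τ x * m * τ x⁻¹ := fun x m => by simp [cj, mul_assoc]
  have hsum : ∑ x, cj x F ≠ 0 := by simpa only [hcj] using hN
  have hli := linearIndependent_orbit hP cj hsum
  have hdim : finrank k (Matrix (Fin d) (Fin d) k) = d ^ 2 := by
    simp [Module.finrank_matrix, sq]
  have hle : Nat.card P ≤ d ^ 2 := by
    rw [← hdim, Nat.card_eq_fintype_card]
    exact hli.fintype_card_le_finrank
  have hspan : Submodule.span k (Set.range fun x => cj x F) = ⊤ := by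
    refine hli.span_eq_top_of_card_eq_finrank' ?_
    rw [hdim, ← Nat.card_eq_fintype_card]
    omega
  -- the identity is a multiple of the orbit sum
  obtain ⟨a, ha⟩ : ∃ a : P → k, ∑ x, a x • cj x F = 1 :=
    (Submodule.mem_span_range_iff_exists_fun k).mp (hspan ▸ Submodule.mem_top)
  have hconst : ∀ y, a y = a 1 := by
    intro y
    have h1 : ∑ x, a (y⁻¹ * x) • cj x F = ∑ x, a x • cj x F := by
      rw [ha]
      have h2 := congrArg (cj y) ha
      rw [map_sum, hcj y 1, mul_one, hinv] at h2
      rw [← h2]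
      refine (Fintype.sum_equiv (Equiv.mulLeft y) _ _ fun x => ?_).symm
      simp [map_mul, Module.End.mul_apply]
    have h3 := Fintype.linearIndependent_iff.mp hli (fun x => a (y⁻¹ * x) - a x) (by
      simp only [sub_smul, Finset.sum_sub_distrib, h1, sub_self]) y
    rw [sub_eq_zero, inv_mul_cancel] at h3
    exact h3.symm
  -- hence the coordinate space is free
  let act : P →* Module.End k (Fin d → k) :=
    (Matrix.toLinAlgEquiv' (R := k) (n := Fin d)).toMonoidHom.comp τ
  have hact : ∀ x v, act x v = (τ x).mulVec v := fun x v => by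
    simp [act, Matrix.toLinAlgEquiv'_apply]
  have hd0 : d ≠ 0 := by
    rintro rfl
    exact hN (Subsingleton.elim _ _)
  obtain ⟨v, -, hv0, hvfix⟩ := exists_fixed_ne_zero hP act ⊤ (fun _ _ _ => trivial)
    (v := fun _ => (1 : k)) trivial fun e => one_ne_zero (congrFun e ⟨0, Nat.pos_of_ne_zero hd0⟩)
  have hu : ∑ x, act x ((a 1 • F).mulVec v) = v := by
    have e : (∑ x, a x • cj x F).mulVec v = v := by rw [ha, Matrix.one_mulVec]
    refine Eq.trans ?_ e
    rw [Matrix.sum_mulVec]
    refine Finset.sum_congr rfl fun x _ => ?_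
    have hvx : (τ x⁻¹).mulVec v = v := by rw [← hact]; exact hvfix x⁻¹
    rw [hconst x, hact, hcj, Matrix.smul_mulVec, Matrix.smul_mulVec, ← Matrix.mulVec_mulVec,
      ← Matrix.mulVec_mulVec, hvx, Matrix.mulVec_smul]
  have hli' := linearIndependent_orbit hP act (u := (a 1 • F).mulVec v) (hu.symm ▸ hv0)
  have hle' : Nat.card P ≤ d := by
    rw [Nat.card_eq_fintype_card]
    simpa using hli'.fintype_card_le_finrank
  have h2 : 2 ≤ Nat.card P := Finite.one_lt_card
  nlinarith

end CharP

/-- The commutant of the matrices of a subgroup. -/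
def commutant {G : Type u} [Group G] {d : ℕ} (s : G →* Matrix (Fin d) (Fin d) ℂ) (H : Subgroup G) :
    Submodule ℂ (Matrix (Fin d) (Fin d) ℂ) where
  carrier := {F | ∀ h ∈ H, s h * F = F * s h}
  zero_mem' := fun h _ => by simp
  add_mem' := fun ha hb h hh => by rw [mul_add, add_mul, ha h hh, hb h hh]
  smul_mem' := fun c F hF h hh => by rw [Algebra.mul_smul_comm, Algebra.smul_mul_assoc, hF h hh]

theorem classInner_eq_finrank_commutant {G : Type u} [Group G] [Fintype G] {d : ℕ}
    (s : G →* Matrix (Fin d) (Fin d) ℂ) (H : Subgroup G) [Fintype H] :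
    classInner (fun h : H => Matrix.trace (s h)) (fun h : H => Matrix.trace (s h)) =
      (finrank ℂ (commutant s H) : ℂ) := by
  classical
  let ρ : Representation ℂ H (Fin d → ℂ) :=
    (Matrix.toLinAlgEquiv' (R := ℂ) (n := Fin d)).toMonoidHom.comp (s.comp H.subtype)
  have hρ : ∀ h : H, LinearMap.toMatrix' (ρ h) = s h := fun h =>
    LinearMap.toMatrixAlgEquiv'_toLinAlgEquiv' _
  have hchar : ρ.character = fun h : H => Matrix.trace (s h) := funext fun h => by
    show LinearMap.trace ℂ _ (ρ h) = _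
    rw [LinearMap.trace_eq_matrix_trace ℂ (Pi.basisFun ℂ (Fin d)), LinearMap.toMatrix_eq_toMatrix', hρ]
  rw [← hchar, classInner_char ρ ρ]
  congr 1
  refine LinearEquiv.finrank_eq (LinearEquiv.ofBijective
    { toFun := fun f => (⟨LinearMap.toMatrix' f.toLinearMap, fun h hh => by
        have := congrArg LinearMap.toMatrix' (f.isIntertwining' ⟨h, hh⟩)
        rw [LinearMap.toMatrix'_comp, LinearMap.toMatrix'_comp, hρ] at this
        exact this.symm⟩ : commutant s H)
      map_add' := fun f g => Subtype.ext (map_add LinearMap.toMatrix' f.toLinearMap g.toLinearMap)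
      map_smul' := fun c f => Subtype.ext (map_smul LinearMap.toMatrix' c f.toLinearMap) } ⟨?_, ?_⟩)
  · intro f g h
    have h' := LinearMap.toMatrix'.injective (congrArg Subtype.val h)
    exact Representation.IntertwiningMap.ext h'
  · rintro ⟨F, hF⟩
    refine ⟨⟨Matrix.toLin' F, fun h => LinearMap.toMatrix'.injective ?_⟩, Subtype.ext ?_⟩
    · rw [LinearMap.toMatrix'_comp, LinearMap.toMatrix'_comp, LinearMap.toMatrix'_toLin', hρ]
      exact (hF h h.2).symm
    · exact LinearMap.toMatrix'_toLin' F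

/-- The norm does not grow on an overgroup of the normalizer. -/
theorem classInner_self_eq {G : Type u} [Group G] [Fintype G] (p : ℕ) [hp : Fact p.Prime] (P : Sylow p G)
    (hTI : ∀ g : G, g ∉ Subgroup.normalizer ((P : Subgroup G) : Set G) →
      (P : Subgroup G) ⊓ (MulAut.conj g • (P : Subgroup G)) = ⊥)
    {χ : G → ℂ} (hχ : IsCharacter G χ) {d : ℕ} (hd : χ 1 = (d : ℂ))
    (hdeg : d ^ 2 ≤ Nat.card ↥(P : Subgroup G)) (H : Subgroup G) [Fintype H]
    (hH : Subgroup.normalizer ((P : Subgroup G) : Set G) ≤ H) :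
    classInner χ χ = classInner (fun h : H => χ h) (fun h : H => χ h) := by
  classical
  obtain ⟨n, ρ, rfl⟩ := hχ
  obtain rfl : n = d := by
    rw [Representation.char_one, Module.finrank_fin_fun] at hd
    exact_mod_cast hd
  obtain ⟨A, hA⟩ := CfsgLib.Block.exists_valuationSubring hp.out
  obtain ⟨σ, hσ⟩ := CfsgLib.Block.exists_integral_form A ρ
  set k := IsLocalRing.ResidueField A
  let s : G →* Matrix (Fin n) (Fin n) ℂ := A.subtype.mapMatrix.toMonoidHom.comp σ
  let r : G →* Matrix (Fin n) (Fin n) k := (IsLocalRing.residue A).mapMatrix.toMonoidHom.comp σ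
  have hs : ρ.character = fun g => Matrix.trace (s g) := funext fun g => (hσ g).symm
  have hL : classInner ρ.character ρ.character = (finrank ℂ (commutant s ⊤) : ℂ) := by
    haveI : Fintype (⊤ : Subgroup G) := Fintype.ofFinite _
    rw [← classInner_eq_finrank_commutant s ⊤, hs]
    simp only [classInner, Subgroup.card_top]
    congr 1
    exact (Fintype.sum_equiv Subgroup.topEquiv.toEquiv _ _ fun g => rfl).symm
  have hR : classInner (fun h : H => ρ.character h) (fun h : H => ρ.character h) =
      (finrank ℂ (commutant s H) : ℂ) := by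
    rw [← classInner_eq_finrank_commutant s H, hs]
  rw [hL, hR, Nat.cast_inj]
  refine le_antisymm (Submodule.finrank_mono fun F hF h _ => hF h (Subgroup.mem_top h)) ?_
  -- the relative trace
  haveI := Fintype.ofFinite (G ⧸ H)
  let T₀ : Matrix (Fin n) (Fin n) ℂ →ₗ[ℂ] Matrix (Fin n) (Fin n) ℂ :=
    ∑ q : G ⧸ H, (LinearMap.mulLeft ℂ (s q.out)).comp (LinearMap.mulRight ℂ (s q.out⁻¹))
  have hT₀ : ∀ F, T₀ F = ∑ q : G ⧸ H, s q.out * F * s q.out⁻¹ := fun F => by
    simp [T₀, LinearMap.sum_apply, mul_assoc]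
  have hout : ∀ (g : G) (q : G ⧸ H), ∃ h : H, (g • q).out = g * q.out * h := by
    intro g q
    have e : g • q = ((g * q.out : G) : G ⧸ H) := by
      conv_lhs => rw [← QuotientGroup.out_eq' q]
      rfl
    obtain ⟨h, hh⟩ := QuotientGroup.mk_out_eq_mul H (g * q.out)
    exact ⟨h, by rw [e, hh]⟩
  have hshift : ∀ (g : G) (q : G ⧸ H) (F : Matrix (Fin n) (Fin n) ℂ), F ∈ commutant s H →
      s (g • q).out * F * s (g • q).out⁻¹ = s g * (s q.out * F * s q.out⁻¹) * s g⁻¹ := by
    intro g q F hF
    obtain ⟨h, hh⟩ := hout g q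
    rw [hh, mul_inv_rev, mul_inv_rev]
    simp only [map_mul, mul_assoc]
    congr 2
    rw [← mul_assoc (s (h : G)), hF _ h.2, mul_assoc, ← mul_assoc (s (h : G)), ← map_mul, mul_inv_cancel,
      map_one, one_mul]
  let T : commutant s H →ₗ[ℂ] commutant s (⊤ : Subgroup G) :=
    (T₀.comp (commutant s H).subtype).codRestrict _ fun F g _ => by
      show s g * T₀ F = T₀ F * s g
      have e : T₀ F = s g * T₀ F * s g⁻¹ := by
        rw [hT₀, Finset.mul_sum, Finset.sum_mul]
        refine (Fintype.sum_equiv (MulAction.toPerm g) _ _ fun q => ?_).symm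
        exact (hshift g q F F.2).symm
      conv_rhs => rw [e, mul_assoc, ← map_mul, inv_mul_cancel, map_one, mul_one]
  refine LinearMap.finrank_le_finrank_of_injective (f := T) ?_
  rw [← LinearMap.ker_eq_bot, LinearMap.ker_eq_bot']
  rintro ⟨F, hF⟩ hFT
  have hFT' : T₀ F = 0 := congrArg Subtype.val hFT
  refine Subtype.ext ?_
  by_contra hF0
  obtain ⟨i₀, j₀, hij⟩ : ∃ i j, F i j ≠ 0 := by
    by_contra h
    push Not at h
    exact hF0 (Matrix.ext h)
  obtain ⟨⟨i, j⟩, -, hij0, hdom⟩ := CfsgLib.Block.exists_dominant (A := A) Finset.univ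
    (fun a : Fin n × Fin n => F a.1 a.2) ⟨(i₀, j₀), Finset.mem_univ _, hij⟩
  let F' : Matrix (Fin n) (Fin n) A := fun a b => ⟨F a b / F i j, hdom (a, b) (Finset.mem_univ _)⟩
  have hF' : F'.map A.subtype = (F i j)⁻¹ • F := Matrix.ext fun a b => by
    show F a b / F i j = (F i j)⁻¹ * F a b
    exact div_eq_inv_mul _ _
  have hinjA : Function.Injective fun m : Matrix (Fin n) (Fin n) A => m.map A.subtype :=
    Matrix.map_injective Subtype.val_injective
  have hcommA : ∀ h ∈ H, σ h * F' = F' * σ h := fun h hh => hinjA (by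
    simp only [Matrix.map_mul, hF']
    show s h * ((F i j)⁻¹ • F) = ((F i j)⁻¹ • F) * s h
    rw [Algebra.mul_smul_comm, Algebra.smul_mul_assoc, hF h hh])
  have hzero : ∑ q : G ⧸ H, σ q.out * F' * σ q.out⁻¹ = 0 := hinjA (by
    show A.subtype.mapMatrix (∑ q : G ⧸ H, σ q.out * F' * σ q.out⁻¹) = A.subtype.mapMatrix 0
    rw [map_sum, map_zero]
    have e : ∀ q : G ⧸ H, A.subtype.mapMatrix (σ q.out * F' * σ q.out⁻¹) =
        (F i j)⁻¹ • (s q.out * F * s q.out⁻¹) := fun q => by
      rw [map_mul, map_mul, RingHom.mapMatrix_apply _ F', hF']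
      show s q.out * ((F i j)⁻¹ • F) * s q.out⁻¹ = _
      rw [Algebra.mul_smul_comm, Algebra.smul_mul_assoc]
    rw [Finset.sum_congr rfl fun q _ => e q, ← Finset.smul_sum, ← hT₀, hFT', smul_zero])
  set Fk : Matrix (Fin n) (Fin n) k := (IsLocalRing.residue A).mapMatrix F' with hFk
  have hcommk : ∀ h ∈ H, r h * Fk = Fk * r h := fun h hh => by
    show (IsLocalRing.residue A).mapMatrix (σ h) * _ = _ * (IsLocalRing.residue A).mapMatrix (σ h)
    rw [← map_mul, ← map_mul, hcommA h hh]
  have hzerok : ∑ q : G ⧸ H, r q.out * Fk * r q.out⁻¹ = 0 := by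
    have := congrArg (IsLocalRing.residue A).mapMatrix hzero
    simp only [map_sum, map_mul, map_zero] at this
    exact this
  -- only the base coset survives
  have hFk0 : Fk ≠ 0 := fun h => by
    have := congrFun (congrFun h i) j
    simp only [hFk, RingHom.mapMatrix_apply, Matrix.map_apply, Matrix.zero_apply] at this
    rw [show F' i j = 1 from Subtype.ext (div_self hij0), map_one] at this
    exact one_ne_zero this
  refine hFk0 ?_
  set q₀ : G ⧸ H := ((1 : G) : G ⧸ H) with hq₀
  set t : G ⧸ H → Matrix (Fin n) (Fin n) k := fun q => r q.out * Fk * r q.out⁻¹ with ht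
  have hbase : t q₀ = Fk := by
    obtain ⟨h, hh⟩ := QuotientGroup.mk_out_eq_mul H (1 : G)
    rw [one_mul] at hh
    simp only [ht, hq₀, hh]
    rw [hcommk _ h.2, mul_assoc, ← map_mul, mul_inv_cancel, map_one, mul_one]
  have hPH : (P : Subgroup G) ≤ H := Subgroup.le_normalizer.trans hH
  have hfree : ∀ x ∈ (P : Subgroup G), ∀ q : G ⧸ H, x • q = q → x = 1 ∨ q = q₀ := by
    intro x hx q hxq
    obtain ⟨g, rfl⟩ := QuotientGroup.mk_surjective q
    refine or_iff_not_imp_left.mpr fun hx1 => ?_
    have h1 : g⁻¹ * x * g ∈ H := by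
      have h := QuotientGroup.eq.mp (show ((g : G) : G ⧸ H) = ((x * g : G) : G ⧸ H) from hxq.symm)
      rwa [← mul_assoc] at h
    -- conjugate into `P` inside `H`
    have hPH' : ((P : Subgroup G).subgroupOf H).index.Coprime p := by
      refine ((hp.out.coprime_iff_not_dvd).mpr fun hdv => P.not_dvd_index (hdv.trans ?_)).symm
      exact Subgroup.relIndex_dvd_index_of_le hPH
    let S : Sylow p H := (P.2.comap_subtype (K := H)).toSylow
      (hp.out.coprime_iff_not_dvd.mp hPH'.symm)
    have hzp : IsPGroup p (Subgroup.zpowers (⟨g⁻¹ * x * g, h1⟩ : H)) := by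
      obtain ⟨m, hm⟩ := P.2 ⟨x, hx⟩
      have hm' : x ^ p ^ m = 1 := congrArg Subtype.val hm
      have hord : orderOf (⟨g⁻¹ * x * g, h1⟩ : H) ∣ p ^ m := orderOf_dvd_of_pow_eq_one (Subtype.ext (by
        rw [SubgroupClass.coe_pow]
        show (g⁻¹ * x * g) ^ p ^ m = 1
        have := conj_pow (a := g⁻¹) (b := x) (i := p ^ m)
        rw [inv_inv] at this
        rw [this, hm']; group))
      obtain ⟨l, -, hl⟩ := (Nat.dvd_prime_pow hp.out).mp hord
      exact IsPGroup.of_card (n := l) (by rw [Nat.card_zpowers, hl])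
    obtain ⟨S', hS'⟩ := hzp.exists_le_sylow
    obtain ⟨c, hc⟩ := MulAction.exists_smul_eq H S' S
    have h2 : c * ⟨g⁻¹ * x * g, h1⟩ * c⁻¹ ∈ (S : Subgroup H) := by
      rw [← hc]
      exact ⟨_, hS' (Subgroup.mem_zpowers _), rfl⟩
    have h3 : (c : G) * (g⁻¹ * x * g) * (c : G)⁻¹ ∈ (P : Subgroup G) := h2
    set y := g * (c : G)⁻¹ with hy
    have hyN : y ∈ Subgroup.normalizer ((P : Subgroup G) : Set G) := by
      by_contra hn
      have hm2 : x ∈ (P : Subgroup G) ⊓ MulAut.conj y • (P : Subgroup G) :=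
        ⟨hx, ⟨_, h3, by simp [hy, mul_assoc]⟩⟩
      rw [hTI y hn, Subgroup.mem_bot] at hm2
      exact hx1 hm2
    have hgH : g ∈ H := by
      have := H.mul_mem (hH hyN) c.2
      rwa [hy, inv_mul_cancel_right] at this
    exact QuotientGroup.eq.mpr (by simpa using H.inv_mem hgH)
  let Y : SubMulAction (P : Subgroup G) (G ⧸ H) :=
    { carrier := {q | q ≠ q₀}
      smul_mem' := fun x q hq he => hq (by
        have : q = x⁻¹ • q₀ := by rw [← he, inv_smul_smul]
        rw [this]
        show (((x⁻¹ : (P : Subgroup G)) : G) * 1 : G) = ((1 : G) : G ⧸ H)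
        exact QuotientGroup.eq.mpr (by simpa using hPH x.2)) }
  haveI := Fintype.ofFinite Y
  have hsum : ∑ q : Y, t q = 0 := by
    rcases isEmpty_or_nonempty Y with hY | ⟨⟨q, hq⟩⟩
    · simp
    have hnt : Nontrivial (P : Subgroup G) := by
      rw [Subgroup.nontrivial_iff_ne_bot]
      intro hbot
      refine hq ?_
      obtain ⟨g, rfl⟩ := QuotientGroup.mk_surjective q
      refine QuotientGroup.eq.mpr ?_
      have : g ∈ H := hH (by rw [hbot, Subgroup.normalizer_eq_top]; exact Subgroup.mem_top g)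
      simpa using H.inv_mem this
    have hstab : ∀ q : Y, MulAction.stabilizer (P : Subgroup G) q = ⊥ := fun q => le_bot_iff.mp fun x hx => by
      rcases hfree x x.2 q (congrArg Subtype.val (MulAction.mem_stabilizer_iff.mp hx)) with h | h
      · exact Subgroup.mem_bot.mpr (Subtype.ext h)
      · exact absurd h q.2
    let e := MulAction.selfEquivOrbitsQuotientProd (G := (P : Subgroup G)) hstab
    haveI := Fintype.ofFinite (Quotient (MulAction.orbitRel (P : Subgroup G) Y))
    haveI := Fintype.ofFinite (P : Subgroup G)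
    rw [← Fintype.sum_equiv e.symm (fun a => t (e.symm a)) (fun q => t q) fun a => rfl,
      Fintype.sum_prod_type]
    refine Finset.sum_eq_zero fun o _ => ?_
    have hkey : ∀ (x : (P : Subgroup G)) (q : G ⧸ H),
        t (x • q) = r (x : G) * t q * r ((x⁻¹ : (P : Subgroup G)) : G) := by
      intro x q
      obtain ⟨h, hh⟩ := hout (x : G) q
      show r ((x : G) • q).out * Fk * r ((x : G) • q).out⁻¹ = _
      rw [hh, mul_inv_rev, mul_inv_rev, Subgroup.coe_inv]
      simp only [ht, map_mul, mul_assoc]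
      congr 2
      rw [← mul_assoc (r (h : G)), hcommk _ h.2, mul_assoc, ← mul_assoc (r (h : G)), ← map_mul,
        mul_inv_cancel, map_one, one_mul]
    have := sum_conj_eq_zero P.2 hnt (r.comp (P : Subgroup G).subtype) hdeg (t (o.out : G ⧸ H))
    refine Eq.trans (Finset.sum_congr rfl fun x _ => ?_) this
    rw [show ((e.symm (o, x) : Y) : G ⧸ H) = x • (o.out : G ⧸ H) from rfl, hkey]
    rfl
  have hsplit : ∑ q, t q = t q₀ + ∑ q : Y, t q := by
    rw [← Finset.add_sum_erase _ _ (Finset.mem_univ q₀)]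
    congr 1
    exact Finset.sum_subtype _ (fun q => Finset.mem_erase.trans (and_iff_left (Finset.mem_univ q))) t
  rw [hsum, add_zero, hbase] at hsplit
  rw [← hsplit]
  exact hzerok

end CfsgLib.Char.TITransfer
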