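import Cfsg.Agent.Lib.Char.Induction

/-!
# Permutation characters
-/

set_option autoImplicit false
set_option linter.unusedSectionVars false

namespace CfsgLib.Char

open scoped ComplexConjugate
open Representation Module Cfsg

universe u v

/-- The permutation character of an action. -/
noncomputable def permChar (G : Type u) [Group G] (X : Type v) [MulAction G X] : G → ℂ :=
  fun g => (Nat.card (MulAction.fixedBy X g) : ℂ)

variable {G : Type u} [Group G] (X : Type v) [MulAction G X] [Finite X]

theorem isCharacter_permChar : IsCharacter G (permChar G X) := by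
  classical
  have := Fintype.ofFinite X
  have : FiniteDimensional ℂ (MonoidAlgebra ℂ X) :=
    Module.Finite.of_basis (MonoidAlgebra.basis X ℂ)
  have e : (Representation.ofMulAction ℂ G X).character = permChar G X := by
    funext g
    rw [Representation.character, LinearMap.trace_eq_matrix_trace ℂ (MonoidAlgebra.basis X ℂ)]
    simp only [Matrix.trace, Matrix.diag, LinearMap.toMatrix_apply, MonoidAlgebra.basis_apply]
    simp [Representation.ofMulAction_single, MonoidAlgebra.coeff_single, Finsupp.single_apply,
      MonoidAlgebra.basis, permChar, MulAction.fixedBy, Nat.card_eq_fintype_card,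
      Fintype.card_subtype]
  exact e ▸ isCharacter_character _

theorem permChar_eq_indFun [Fintype G] [MulAction.IsPretransitive G X] (x : X) :
    permChar G X = indFun (MulAction.stabilizer G x) (fun _ => 1) := by
  classical
  have := Fintype.ofFinite X
  funext g
  set S := MulAction.stabilizer G x with hS
  have hr : ∀ y : X, ∃ r : G, r • x = y := fun y => MulAction.exists_smul_eq G x y
  choose r hr using hr
  have h1 : ∀ a : G, extendByZero S (fun _ => (1 : ℂ)) (a⁻¹ * g * a) =
      if g • (a • x) = a • x then 1 else 0 := by
    intro a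
    have e : a⁻¹ * g * a ∈ S ↔ g • (a • x) = a • x := by
      rw [hS, MulAction.mem_stabilizer_iff, mul_smul, mul_smul, inv_smul_eq_iff]
    split_ifs with h
    · exact extendByZero_mem S _ (e.mpr h)
    · exact extendByZero_not_mem S _ fun h' => h (e.mp h')
  let eqv : {a : G // g • (a • x) = a • x} ≃ MulAction.fixedBy X g × S :=
    { toFun := fun a => (⟨a.1 • x, a.2⟩, ⟨(r (a.1 • x))⁻¹ * a.1, by
        rw [hS, MulAction.mem_stabilizer_iff, mul_smul, inv_smul_eq_iff, hr]⟩)
      invFun := fun p => ⟨r p.1.1 * p.2.1, by
        rw [mul_smul, MulAction.mem_stabilizer_iff.mp p.2.2, hr]; exact p.1.2⟩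
      left_inv := fun a => Subtype.ext (mul_inv_cancel_left _ _)
      right_inv := fun p => by
        have e : (r p.1.1 * p.2.1) • x = p.1.1 := by
          rw [mul_smul, MulAction.mem_stabilizer_iff.mp p.2.2, hr]
        ext
        · exact e
        · simp [e] }
  rw [indFun, Finset.sum_congr rfl fun a _ => h1 a, Finset.sum_boole, ← Fintype.card_subtype,
    ← Nat.card_eq_fintype_card, Nat.card_congr eqv, Nat.card_prod, permChar, Nat.cast_mul]
  have : (Nat.card S : ℂ) ≠ 0 := by exact_mod_cast Nat.card_pos.ne'
  field_simp

theorem conj_permChar (g : G) : conj (permChar G X g) = permChar G X g := map_natCast _ _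

theorem classInner_permChar_one [Fintype G] :
    classInner (permChar G X) (fun _ => 1) = (Nat.card (MulAction.orbitRel.Quotient G X) : ℂ) := by
  classical
  have := Fintype.ofFinite X
  have := Fintype.ofFinite (MulAction.orbitRel.Quotient G X)
  have h := MulAction.sum_card_fixedBy_eq_card_orbits_mul_card_group G X
  simp only [← Nat.card_eq_fintype_card] at h
  have h' := congrArg (fun n : ℕ => (n : ℂ)) h
  simp only [Nat.cast_sum, Nat.cast_mul] at h'
  rw [classInner]
  simp only [map_one, mul_one, permChar]
  rw [h']
  field_simp [card_ne_zero' (G := G)]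

theorem classInner_permChar_self [Fintype G] :
    classInner (permChar G X) (permChar G X) =
      (Nat.card (MulAction.orbitRel.Quotient G (X × X)) : ℂ) := by
  rw [← classInner_permChar_one (G := G) (X × X), classInner, classInner]
  congr 1
  refine Finset.sum_congr rfl fun g _ => ?_
  rw [conj_permChar, map_one, mul_one, permChar, permChar, ← Nat.cast_mul, ← Nat.card_prod]
  congr 1
  exact Nat.card_congr
    { toFun := fun p => ⟨(p.1.1, p.2.1), Prod.ext p.1.2 p.2.2⟩
      invFun := fun p => (⟨p.1.1, congrArg Prod.fst p.2⟩, ⟨p.1.2, congrArg Prod.snd p.2⟩)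
      left_inv := fun p => rfl
      right_inv := fun p => rfl }

theorem card_orbits_prod_eq_two_iff [MulAction.IsPretransitive G X] (hX : 2 ≤ Nat.card X) :
    Nat.card (MulAction.orbitRel.Quotient G (X × X)) = 2 ↔
      MulAction.IsMultiplyPretransitive G X 2 := by
  rw [MulAction.is_two_pretransitive_iff]
  have hnt : Nontrivial X := Finite.one_lt_card_iff_nontrivial.mp (by omega)
  obtain ⟨x, y, hxy⟩ := exists_pair_ne X
  let q : X × X → MulAction.orbitRel.Quotient G (X × X) := Quotient.mk _
  have hq : ∀ p p', q p = q p' ↔ ∃ g : G, g • p' = p := fun p p' => Quotient.eq.trans Iff.rfl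
  have hne : ∀ a b : X, a ≠ b → q (a, b) ≠ q (x, x) := by
    intro a b hab e
    obtain ⟨g, hg⟩ := (hq _ _).mp e
    exact hab ((congrArg Prod.fst hg).symm.trans (congrArg Prod.snd hg))
  constructor
  · intro h2 a b c d hab hcd
    obtain ⟨u, hu, huniq⟩ := (Nat.card_eq_two_iff' (q (x, x))).mp h2
    have e1 := huniq _ (hne a b hab)
    have e2 := huniq _ (hne c d hcd)
    obtain ⟨g, hg⟩ := (hq _ _).mp (e2.trans e1.symm)
    exact ⟨g, congrArg Prod.fst hg, congrArg Prod.snd hg⟩
  · intro h2
    rw [Nat.card_eq_two_iff' (q (x, x))]
    refine ⟨q (x, y), hne x y hxy, ?_⟩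
    intro z hz
    obtain ⟨⟨a, b⟩, rfl⟩ := Quotient.mk_surjective z
    by_cases hab : a = b
    · subst hab
      obtain ⟨g, hg⟩ := MulAction.exists_smul_eq G x a
      exact absurd ((hq _ _).mpr ⟨g, Prod.ext hg hg⟩) hz
    · obtain ⟨g, h1, h2⟩ := h2 hxy hab
      exact (hq _ _).mpr ⟨g, Prod.ext h1 h2⟩

theorem isIrr_permChar_sub_one_iff [Finite G] [MulAction.IsPretransitive G X] (hX : 2 ≤ Nat.card X) :
    IsIrrCharacter G (fun g => permChar G X g - 1) ↔ MulAction.IsMultiplyPretransitive G X 2 := by
  classical
  have := Fintype.ofFinite G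
  rw [← card_orbits_prod_eq_two_iff X hX]
  set one : G → ℂ := fun _ => 1 with hone
  have hfun : (fun g => permChar G X g - 1) = permChar G X - one := rfl
  have h11 : classInner one one = 1 := by
    simp [one, classInner, Nat.card_eq_fintype_card]
  have hnt : Nontrivial X := Finite.one_lt_card_iff_nontrivial.mp (by omega)
  have h1 : classInner (permChar G X) one = 1 := by
    rw [classInner_permChar_one]
    have : Subsingleton (MulAction.orbitRel.Quotient G X) :=
      MulAction.pretransitive_iff_subsingleton_quotient G X |>.mp inferInstance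
    rw [Nat.card_of_subsingleton (Quotient.mk _ (Classical.arbitrary X))]
    simp
  have h1' : classInner one (permChar G X) = 1 := by rw [← classInner_conj, h1, map_one]
  have hnorm : classInner (permChar G X - one) (permChar G X - one) =
      (Nat.card (MulAction.orbitRel.Quotient G (X × X)) : ℂ) - 1 := by
    rw [classInner_sub_left, classInner_sub_right, classInner_sub_right, h1, h1', h11,
      classInner_permChar_self]
    ring
  constructor
  · intro h
    have e := classInner_irr_self (⟨_, h⟩ : IrrCharacter G)
    simp only [hfun] at e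
    rw [hnorm] at e
    have e' : (Nat.card (MulAction.orbitRel.Quotient G (X × X)) : ℂ) = 2 := by
      linear_combination e
    exact_mod_cast e'
  · intro h
    rw [hfun]
    refine isIrr_of_isCharacter_norm_one (isCharacter_of_nat_inner ?_ fun ψ => ?_) (by
      rw [hnorm, h]; norm_num)
    · exact fun g k => by
        simp only [Pi.sub_apply, one,
          isClassFunction_of_isCharacter (isCharacter_permChar X) g k]
    · rw [classInner_sub_left]
      by_cases he : (ψ : G → ℂ) = one
      · exact ⟨0, by rw [he, h1, h11, sub_self, Nat.cast_zero]⟩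
      · have h0 : classInner one (ψ : G → ℂ) = 0 :=
          classInner_irr_ne (χ := ⟨one, isIrrCharacter_one⟩) fun e => he (congrArg Subtype.val e).symm
        rw [h0, sub_zero]
        exact classInner_char_irr_nat (isCharacter_permChar X) ψ

end CfsgLib.Char
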