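import Mathlib

/-!
# Matrix groups of order prime to the characteristic embed in complex matrix groups

A homomorphism modulo a square-zero kernel lifts when the group order is invertible; iterating
over the truncations of the Witt vectors and passing to a complex point of the algebra generated
by the entries gives an injective complex representation of the same dimension.
-/

set_option autoImplicit false
set_option linter.all false

namespace CfsgLib.Char.LiftCoprime

open Matrix

/-- lifting along a map with square-zero kernel -/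
theorem step {S S' : Type*} [Ring S] [Ring S'] (r : S →+* S') (hr : Function.Surjective r)
    (hI : ∀ a b : S, r a = 0 → r b = 0 → a * b = 0) {X : Type*} [Group X] [Fintype X]
    (hn : IsUnit (Fintype.card X : S)) (ψ : X →* S') : ∃ φ : X →* S, ∀ x, r (φ x) = ψ x := by
  classical
  have hker : ∀ a : S, r a = 1 → IsUnit a := fun a ha =>
    ⟨⟨a, 2 - a, by
        have h := hI (a - 1) (a - 1) (by simp [ha]) (by simp [ha])
        calc a * (2 - a) = 1 - (a - 1) * (a - 1) := by noncomm_ring
          _ = 1 := by rw [h, sub_zero], by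
        have h := hI (a - 1) (a - 1) (by simp [ha]) (by simp [ha])
        calc (2 - a) * a = 1 - (a - 1) * (a - 1) := by noncomm_ring
          _ = 1 := by rw [h, sub_zero]⟩, rfl⟩
  choose g hg using fun x => hr (ψ x)
  have hgu : ∀ x, IsUnit (g x) := by
    intro x
    obtain ⟨u, hu⟩ := hker (g x * g x⁻¹) (by rw [map_mul, hg, hg, ← map_mul, mul_inv_cancel, map_one])
    obtain ⟨v, hv⟩ := hker (g x⁻¹ * g x) (by rw [map_mul, hg, hg, ← map_mul, inv_mul_cancel, map_one])
    exact isUnit_iff_exists_and_exists.2 ⟨⟨g x⁻¹ * (↑u⁻¹ : S), by rw [← mul_assoc, ← hu, Units.mul_inv]⟩,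
      ⟨(↑v⁻¹ : S) * g x⁻¹, by rw [mul_assoc, ← hv, Units.inv_mul]⟩⟩
  let G : X → Sˣ := fun x => (hgu x).unit
  have hG : ∀ x, ((G x : Sˣ) : S) = g x := fun x => rfl
  -- the cocycle and its average
  let u : X → X → S := fun x y => ↑(G (x * y) * (G y)⁻¹)
  have hu : ∀ x y, r (u x y) = ψ x := by
    intro x y
    have h1 : ψ y * r ((G y)⁻¹ : Sˣ) = 1 := by
      rw [← hg y, ← map_mul, ← hG y, Units.mul_inv, map_one]
    show r (↑(G (x * y)) * ↑((G y)⁻¹)) = ψ x
    rw [map_mul, hG, hg, map_mul, mul_assoc, h1, mul_one]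
  have hcoc : ∀ x z y, u x (z * y) * u z y = u (x * z) y := by
    intro x z y
    simp only [u]
    rw [← Units.val_mul, mul_assoc x z y, mul_assoc, inv_mul_cancel_left]
  let c : S := ↑hn.unit⁻¹
  have hc : c * (Fintype.card X : S) = 1 := hn.val_inv_mul
  let L : X → S := fun x => c * ∑ y, u x y
  have hnL : ∀ x, (Fintype.card X : S) * L x = ∑ y, u x y := fun x => by
    rw [← mul_assoc, hn.mul_val_inv, one_mul]
  have hsum : ∀ x, ∑ y, (u x y - L x) = 0 := fun x => by
    rw [Finset.sum_sub_distrib, Finset.sum_const, Finset.card_univ, nsmul_eq_mul, hnL, sub_self]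
  have hrL : ∀ x, r (L x) = ψ x := fun x => by
    show r (c * ∑ y, u x y) = _
    rw [map_mul, map_sum]
    simp only [hu, Finset.sum_const, Finset.card_univ, nsmul_eq_mul]
    rw [← mul_assoc, ← map_natCast r, ← map_mul, hc, map_one, one_mul]
  have hmul : ∀ x z, L (x * z) = L x * L z := by
    intro x z
    refine hn.mul_left_cancel ?_
    rw [hnL]
    have e : ∀ y, u (x * z) y = L x * L z + L x * (u z y - L z) + (u x (z * y) - L x) * L z := by
      intro y
      have h0 := hI (u x (z * y) - L x) (u z y - L z) (by simp [hu, hrL]) (by simp [hu, hrL])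
      calc u (x * z) y = L x * L z + L x * (u z y - L z) + (u x (z * y) - L x) * L z
            + (u x (z * y) - L x) * (u z y - L z) := by rw [← hcoc]; noncomm_ring
        _ = _ := by rw [h0, add_zero]
    simp only [e, Finset.sum_add_distrib, ← Finset.mul_sum, ← Finset.sum_mul, hsum, mul_zero, add_zero,
      Finset.sum_const, Finset.card_univ, nsmul_eq_mul]
    rw [Fintype.sum_equiv (Equiv.mulLeft z) (fun y => u x (z * y) - L x) (fun y => u x y - L x) fun y => rfl,
      hsum, zero_mul, add_zero]
    rw [← mul_assoc (L x), ← (Nat.cast_commute (Fintype.card X) (L x)).eq, mul_assoc]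
  refine ⟨⟨⟨L, ?_⟩, hmul⟩, hrL⟩
  show c * ∑ y, u 1 y = 1
  simp [u, hc]

variable {p : ℕ} [hp : Fact p.Prime] {F : Type*} [Field F] [CharP F p] [PerfectRing F p]

local notation "W" => WittVector p F
local notation "I" => (Ideal.span {(p : WittVector p F)})

/-- a lift to the Witt vectors -/
theorem exists_lift_witt {ι : Type*} [Fintype ι] [DecidableEq ι] {X : Type*} [Group X] [Fintype X]
    (hX : ¬ p ∣ Fintype.card X) (ψ : X →* Matrix ι ι F) :
    ∃ φ : X →* Matrix ι ι W, ∀ x, (φ x).map WittVector.constantCoeff = ψ x := by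
  classical
  have hn : IsUnit (Fintype.card X : W) := WittVector.isUnit_of_coeff_zero_ne_zero _ (by
    rw [show (Fintype.card X : W).coeff 0 = WittVector.constantCoeff (Fintype.card X : W) from rfl, map_natCast,
      Ne, CharP.cast_eq_zero_iff F p]
    exact hX)
  have hI : I = RingHom.ker (WittVector.constantCoeff : W →+* F) := WittVector.ker_constantCoeff.symm
  let π : (k : ℕ) → W →+* W ⧸ I ^ (k + 1) := fun k => Ideal.Quotient.mk _
  have hle : ∀ k, I ^ (k + 1 + 1) ≤ I ^ (k + 1) := fun k => Ideal.pow_le_pow_right (Nat.le_succ _)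
  have hπ : ∀ k a, Ideal.Quotient.factor (hle k) (π (k + 1) a) = π k a := fun k a => rfl
  -- one step
  have hstep : ∀ k, ∀ f : X →* Matrix ι ι (W ⧸ I ^ (k + 1)), ∃ f' : X →* Matrix ι ι (W ⧸ I ^ (k + 1 + 1)),
      ∀ x, (Ideal.Quotient.factor (hle k)).mapMatrix (f' x) = f x := by
    intro k f
    refine step _ ?_ ?_ ?_ f
    · intro A
      choose B hB using fun i j => Ideal.Quotient.factor_surjective (hle k) (A i j)
      exact ⟨Matrix.of B, Matrix.ext hB⟩
    · intro A B hA hB
      have hmem : ∀ C : Matrix ι ι (W ⧸ I ^ (k + 1 + 1)), (Ideal.Quotient.factor (hle k)).mapMatrix C = 0 →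
          ∀ i j, ∃ a ∈ I ^ (k + 1), π (k + 1) a = C i j := by
        intro C hC i j
        obtain ⟨a, ha⟩ := Ideal.Quotient.mk_surjective (C i j)
        refine ⟨a, Ideal.Quotient.eq_zero_iff_mem.1 ?_, ha⟩
        have h := congrFun (congrFun hC i) j
        rwa [RingHom.mapMatrix_apply, Matrix.map_apply, ← ha, Matrix.zero_apply] at h
      ext i j
      rw [Matrix.mul_apply, Matrix.zero_apply]
      refine Finset.sum_eq_zero fun l _ => ?_
      obtain ⟨a, ha, hae⟩ := hmem A hA i l
      obtain ⟨b, hb, hbe⟩ := hmem B hB l j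
      rw [← hae, ← hbe, ← map_mul]
      refine Ideal.Quotient.eq_zero_iff_mem.2 (Ideal.pow_le_pow_right (show k + 1 + 1 ≤ k + 1 + (k + 1) by omega) ?_)
      rw [pow_add]
      exact Ideal.mul_mem_mul ha hb
    · have h := (hn.map (π (k + 1))).map (Matrix.scalar ι)
      rwa [map_natCast, map_natCast] at h
  choose nxt hnxt using hstep
  -- the start
  obtain ⟨f₀, hf₀⟩ : ∃ f₀ : X →* Matrix ι ι (W ⧸ I ^ (0 + 1)), ∀ x i j a, π 0 a = f₀ x i j →
      WittVector.constantCoeff a = ψ x i j := by
    have hker : I ^ (0 + 1) = RingHom.ker (WittVector.constantCoeff : W →+* F) := by rw [zero_add, pow_one, hI]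
    let e : W ⧸ I ^ (0 + 1) ≃+* F := (Ideal.quotEquivOfEq hker).trans
      (RingHom.quotientKerEquivOfSurjective (f := (WittVector.constantCoeff : W →+* F))
        fun a => ⟨WittVector.teichmuller p a, WittVector.teichmuller_coeff_zero p a⟩)
    refine ⟨(e.symm.toRingHom.mapMatrix.toMonoidHom).comp ψ, fun x i j a h => ?_⟩
    have h2 := congrArg e h
    rw [show (e.symm.toRingHom.mapMatrix.toMonoidHom.comp ψ) x i j = e.symm (ψ x i j) from rfl,
      RingEquiv.apply_symm_apply] at h2
    exact h2
  let f : (k : ℕ) → X →* Matrix ι ι (W ⧸ I ^ (k + 1)) := fun k => Nat.rec f₀ (fun k g => nxt k g) k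
  have hf : ∀ k x i j, Ideal.Quotient.factor (hle k) (f (k + 1) x i j) = f k x i j := fun k x i j =>
    congrFun (congrFun (hnxt k (f k) x) i) j
  choose a ha using fun k x i j => Ideal.Quotient.mk_surjective (f k x i j)
  -- the limit
  have hcoh : ∀ x i j m l, m ≤ l → a m x i j - a l x i j ∈ I ^ (m + 1) := by
    intro x i j m l hml
    induction l, hml using Nat.le_induction with
    | base => simp
    | succ l hml ih =>
      have h : a l x i j - a (l + 1) x i j ∈ I ^ (l + 1) := by
        rw [← Ideal.Quotient.eq_zero_iff_mem, map_sub, ha l, ← hπ l (a (l + 1) x i j)]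
        show f l x i j - Ideal.Quotient.factor (hle l) (π (l + 1) (a (l + 1) x i j)) = 0
        rw [show π (l + 1) (a (l + 1) x i j) = f (l + 1) x i j from ha (l + 1) x i j, hf, sub_self]
      have := Ideal.add_mem _ ih (Ideal.pow_le_pow_right (show m + 1 ≤ l + 1 by omega) h)
      rwa [sub_add_sub_cancel] at this
  have hlim : ∀ x i j, ∃ b : W, ∀ m, π m b = f m x i j := by
    intro x i j
    obtain ⟨b, hb⟩ := IsPrecomplete.prec (inferInstance : IsAdicComplete I W).toIsPrecomplete
      (f := fun m => a m x i j) (fun {m l} hml => by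
        rw [SModEq.sub_mem, smul_eq_mul, Ideal.mul_top]
        exact Ideal.pow_le_pow_right (Nat.le_succ m) (hcoh x i j m l hml))
    refine ⟨b, fun m => ?_⟩
    rw [← ha m x i j]
    refine Ideal.Quotient.eq.2 ?_
    have h1 := hb (m + 1)
    rw [SModEq.sub_mem, smul_eq_mul, Ideal.mul_top] at h1
    have h2 := hcoh x i j m (m + 1) (Nat.le_succ m)
    rw [← neg_sub]
    refine neg_mem ?_
    have := Ideal.add_mem _ h2 h1
    rwa [sub_add_sub_cancel] at this
  choose b hb using hlim
  have hsep : ∀ c d : W, (∀ m, π m c = π m d) → c = d := by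
    intro c d h
    rw [← sub_eq_zero]
    refine IsHausdorff.haus (inferInstance : IsAdicComplete I W).toIsHausdorff _ fun m => ?_
    rw [SModEq.sub_mem, sub_zero, smul_eq_mul, Ideal.mul_top]
    exact Ideal.pow_le_pow_right (Nat.le_succ m) (Ideal.Quotient.eq.1 (h m))
  refine ⟨⟨⟨fun x => Matrix.of (b x), ?_⟩, fun x y => ?_⟩, fun x => ?_⟩
  · ext i j : 1
    refine hsep _ _ fun m => ?_
    show π m (b 1 i j) = _
    rw [hb, map_one, Matrix.one_apply, Matrix.one_apply]
    split_ifs <;> simp
  · ext i j : 1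
    refine hsep _ _ fun m => ?_
    show π m (b (x * y) i j) = π m ((Matrix.of (b x) * Matrix.of (b y)) i j)
    rw [hb, map_mul, Matrix.mul_apply, Matrix.mul_apply, map_sum]
    exact Finset.sum_congr rfl fun l _ => by rw [map_mul, Matrix.of_apply, Matrix.of_apply, hb, hb]
  · ext i j : 1
    exact hf₀ x i j _ (hb x i j 0)

/-- a complex point of a finitely generated algebra without zero divisors -/
theorem exists_point (A : Type*) [CommRing A] [Nontrivial A] [Algebra ℚ A] [Algebra.FiniteType ℚ A] :
    Nonempty (A →ₐ[ℚ] ℂ) := by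
  obtain ⟨m, hm⟩ := Ideal.exists_maximal A
  letI := Ideal.Quotient.field m
  haveI : Algebra.FiniteType ℚ (A ⧸ m) :=
    Algebra.FiniteType.of_surjective (Ideal.Quotient.mkₐ ℚ m) (Ideal.Quotient.mkₐ_surjective ℚ m)
  haveI : Module.Finite ℚ (A ⧸ m) := finite_of_finite_type_of_isJacobsonRing ℚ (A ⧸ m)
  exact ⟨(IsAlgClosed.lift : (A ⧸ m) →ₐ[ℚ] ℂ).comp (Ideal.Quotient.mkₐ ℚ m)⟩

omit hp in
/-- matrix groups over finite fields of order prime to the characteristic embed in complex ones -/
theorem exists_complex [Finite F] (hp' : p.Prime) {ι : Type*} [Fintype ι] [DecidableEq ι] {X : Type*} [Group X]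
    [Finite X] (hX : ¬ p ∣ Nat.card X) (ψ : X →* Matrix ι ι F) (hψ : Function.Injective ψ) :
    ∃ ρ : X →* Matrix ι ι ℂ, Function.Injective ρ := by
  classical
  haveI : Fact p.Prime := ⟨hp'⟩
  haveI := Fintype.ofFinite X
  rw [Nat.card_eq_fintype_card] at hX
  obtain ⟨φ, hφ⟩ := exists_lift_witt hX ψ
  have hinj : Function.Injective φ := fun x y h => hψ (by rw [← hφ, ← hφ, h])
  haveI : CharZero W := charZero_of_inj_zero fun n hn => by
    by_contra hn0
    obtain ⟨e, m, hm, rfl⟩ := Nat.exists_eq_pow_mul_and_not_dvd hn0 p hp'.ne_one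
    push_cast at hn
    rcases mul_eq_zero.1 hn with h | h
    · exact WittVector.p_nonzero p F (pow_eq_zero_iff'.1 h).1
    · refine hm ?_
      have := congrArg (WittVector.constantCoeff : W →+* F) h
      rwa [map_natCast, map_zero, CharP.cast_eq_zero_iff F p] at this
  let ι' : W →+* FractionRing W := algebraMap W (FractionRing W)
  have hι : Function.Injective ι' := IsFractionRing.injective W (FractionRing W)
  haveI : CharZero (FractionRing W) := charZero_of_injective_ringHom hι
  let φK : X →* Matrix ι ι (FractionRing W) := ι'.mapMatrix.toMonoidHom.comp φ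
  have hK : Function.Injective φK := fun x y h => hinj (Matrix.map_injective hι h)
  let s : Set (FractionRing W) := Set.range (fun q : X × ι × ι => φK q.1 q.2.1 q.2.2) ∪
    Set.range (fun q : X × ι × ι => ((φK q.1 - 1) q.2.1 q.2.2)⁻¹)
  have hs : s.Finite := (Set.finite_range _).union (Set.finite_range _)
  let A := Algebra.adjoin ℚ s
  haveI : Algebra.FiniteType ℚ A := A.fg_iff_finiteType.1 (Subalgebra.fg_adjoin_finset hs.toFinset |> fun h => by
    rwa [Set.Finite.coe_toFinset] at h)
  obtain ⟨θ⟩ := exists_point A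
  let φA : X →* Matrix ι ι A :=
    { toFun := fun x => Matrix.of fun i j => ⟨φK x i j, Algebra.subset_adjoin (Or.inl ⟨(x, i, j), rfl⟩)⟩
      map_one' := by ext i j; simp [Matrix.one_apply, apply_ite]
      map_mul' := fun x y => by ext i j; simp [Matrix.mul_apply, map_mul] }
  refine ⟨θ.toRingHom.mapMatrix.toMonoidHom.comp φA, ?_⟩
  rw [injective_iff_map_eq_one]
  intro x hx
  by_contra hx1
  obtain ⟨i, j, hij⟩ : ∃ i j, (φK x - 1) i j ≠ 0 := by
    by_contra hcon
    push Not at hcon
    exact hx1 (hK (by rw [map_one]; exact sub_eq_zero.1 (Matrix.ext hcon)))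
  let d : A := (φA x - 1) i j
  have hd : (d : FractionRing W) = (φK x - 1) i j := by
    have h : A.val.toRingHom.mapMatrix (φA x - 1) = φK x - 1 := by rw [map_sub, map_one]; rfl
    exact congrFun (congrFun h i) j
  let d' : A := ⟨((φK x - 1) i j)⁻¹, Algebra.subset_adjoin (Or.inr ⟨(x, i, j), rfl⟩)⟩
  have hdd : d * d' = 1 := Subtype.ext (by rw [MulMemClass.coe_mul, hd]; exact mul_inv_cancel₀ hij)
  have h1 : θ d = 0 := by
    have h : θ.toRingHom.mapMatrix (φA x - 1) = 0 := by
      rw [map_sub, map_one, sub_eq_zero]; exact hx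
    exact congrFun (congrFun h i) j
  have := congrArg θ hdd
  rw [map_mul, h1, zero_mul, map_one] at this
  exact zero_ne_one this

end CfsgLib.Char.LiftCoprime
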