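import Cfsg.Agent.Lib.Char.UniformCentralizer

/-!
# Small degrees over a uniformly centralized Sylow subgroup

If a nonprincipal character has degree below `√(|P| - 1)` and the normal closure of `P` is the whole
group, the degree is one and `P` is central in its normalizer. Otherwise a constituent of `χ χ̄`
would contradict Cauchy-Schwarz outside the special classes.
-/

set_option autoImplicit false
set_option linter.unusedSectionVars false

namespace CfsgLib.Char.UniformCent

open scoped ComplexConjugate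
open Cfsg CfsgLib.Char

universe u

variable {G : Type u} [Group G] {P V : Subgroup G} [Fintype G]

/-- A character of scalar modulus on a normally generating set is linear. -/
theorem degree_one_of_norm (hnc : Subgroup.normalClosure (P : Set G) = ⊤) (ψ : IrrCharacter G)
    (hu : ∀ u ∈ P, ‖(ψ : G → ℂ) u‖ = ‖(ψ : G → ℂ) 1‖) : (ψ : G → ℂ) 1 = 1 := by
  have hself := classInner_irr_self ψ
  obtain ⟨χ, n, ρ, hρ, rfl⟩ := ψ
  have h1 : ‖ρ.character 1‖ = (n : ℝ) := by
    rw [Representation.char_one, Module.finrank_fin_fun, Complex.norm_natCast]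
  have hiff : ∀ g, ‖ρ.character g‖ = (n : ℝ) ↔ ∃ w : ℂ, ρ g = w • LinearMap.id := fun g => by
    rw [← norm_char_eq_iff ρ g, Module.finrank_fin_fun]
  let S : Subgroup G :=
    { carrier := {g | ∃ w : ℂ, ρ g = w • LinearMap.id}
      one_mem' := ⟨1, by rw [map_one, one_smul]; rfl⟩
      mul_mem' := by
        rintro a b ⟨w, hw⟩ ⟨z, hz⟩
        exact ⟨w * z, by rw [map_mul, hw, hz]; ext; simp [mul_assoc, mul_comm, mul_left_comm]⟩
      inv_mem' := fun {a} ha => by
        refine (hiff _).mp ?_
        rw [char_inv, Complex.norm_conj]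
        exact (hiff a).mpr ha }
  have hSn : S.Normal := ⟨fun a ha g => (hiff _).mp (by
    rw [Representation.char_conj]; exact (hiff a).mpr ha)⟩
  have hle : Subgroup.normalClosure (P : Set G) ≤ S :=
    Subgroup.normalClosure_le_normal fun u hu' => (hiff u).mp ((hu u hu').trans h1)
  rw [hnc] at hle
  change classInner ρ.character ρ.character = 1 at hself
  rw [classInner_self, Complex.ofReal_eq_one,
    inv_mul_eq_one₀ (by exact_mod_cast Nat.card_pos.ne'),
    Finset.sum_congr rfl fun g _ => by rw [(hiff g).mpr (hle (Subgroup.mem_top g))],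
    Finset.sum_const, Finset.card_univ, nsmul_eq_mul, Nat.card_eq_fintype_card] at hself
  have hG : (0 : ℝ) < Fintype.card G := by exact_mod_cast Fintype.card_pos
  have hn : (n : ℝ) ^ 2 = 1 := (mul_eq_left₀ hG.ne').mp hself.symm
  have hn' : n ^ 2 = 1 := by exact_mod_cast hn
  show ρ.character 1 = 1
  rw [Representation.char_one, Module.finrank_fin_fun, (Nat.pow_eq_one.mp hn').resolve_right two_ne_zero,
    Nat.cast_one]

/-- A character trivial on a normally generating set is principal. -/
theorem eq_one_of_trivial (hnc : Subgroup.normalClosure (P : Set G) = ⊤) (ψ : IrrCharacter G)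
    (hu : ∀ u ∈ P, (ψ : G → ℂ) u = (ψ : G → ℂ) 1) : (ψ : G → ℂ) = fun _ => 1 := by
  have h1 := degree_one_of_norm hnc ψ fun u hu' => by rw [hu u hu']
  obtain ⟨f, hf⟩ := exists_hom_of_linear (isCharacter_irr ψ) h1
  have hle : Subgroup.normalClosure (P : Set G) ≤ f.ker :=
    Subgroup.normalClosure_le_normal fun u hu' => by
      have := hu u hu'
      rw [h1, hf] at this
      exact MonoidHom.mem_ker.mpr (Units.ext (by simpa using this))
  rw [hnc] at hle
  rw [hf]
  funext g
  rw [MonoidHom.mem_ker.mp (hle (Subgroup.mem_top g)), Units.val_one]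

variable [Fintype P] [Fintype V]

/-- The product `i j̄` of two characters of `P`. -/
noncomputable def prodc (h : Uniform P V) (i j : IrrCharacter P) : IrrCharacter P :=
  ⟨fun u => (i : P → ℂ) u * conj ((j : P → ℂ) u),
    isIrr_of_isCharacter_norm_one (isCharacter_mul (isCharacter_irr i) (isCharacter_conj (isCharacter_irr j)))
      (by
        rw [classInner_self]
        simp [norm_irr_P h, Nat.card_eq_fintype_card])⟩

theorem prodc_self (h : Uniform P V) (i : IrrCharacter P) : prodc h i i = triv := by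
  refine Subtype.ext (funext fun u => ?_)
  show (i : P → ℂ) u * conj ((i : P → ℂ) u) = 1
  rw [Complex.mul_conj', norm_irr_P h, Complex.ofReal_one, one_pow]

theorem irr_P_one (h : Uniform P V) (l : IrrCharacter P) : (l : P → ℂ) 1 = 1 :=
  degree_one_of_comm (fun x y : P => Subtype.ext (h.comm x x.2 y y.2)) l

theorem th_triv (χ : G → ℂ) (v : G) :
    (Nat.card P : ℂ) * th χ (triv : IrrCharacter P) v = ∑ u : P, χ ((u : G) * v) := by
  simp only [th, classInner, triv, map_one, mul_one]
  rw [← mul_assoc, mul_inv_cancel₀ (by exact_mod_cast Nat.card_pos.ne'), one_mul]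

theorem th_sq (h : Uniform P V) [Fintype (IrrCharacter P)] (χ : G → ℂ) (v : G) :
    th (fun g => χ g * conj (χ g)) (triv : IrrCharacter P) v =
      ((∑ l : IrrCharacter P, ‖th χ l v‖ ^ 2 : ℝ) : ℂ) := by
  have h0 : (Nat.card P : ℂ) ≠ 0 := by exact_mod_cast Nat.card_pos.ne'
  refine mul_left_cancel₀ h0 ?_
  rw [th_triv, ← Complex.ofReal_natCast, ← Complex.ofReal_mul, ← th_parseval h χ v, Complex.ofReal_sum]
  exact Finset.sum_congr rfl fun u _ => by rw [Complex.mul_conj', Complex.ofReal_pow]

/-- The characters of `P` in `χ χ̄` are quotients of those in `χ`. -/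
theorem supp_sq_subset (h : Uniform P V) [Fintype (IrrCharacter P)] [DecidableEq (IrrCharacter P)]
    {χ : G → ℂ} (hχ : IsCharacter G χ) :
    supp P (fun g => χ g * conj (χ g)) ⊆
      insert triv ((supp P χ).offDiag.image fun a => prodc h a.1 a.2) := by
  intro l hl
  by_contra hn
  rw [Finset.mem_insert, not_or, Finset.mem_image] at hn
  have hne : ∀ i ∈ supp P χ, ∀ j ∈ supp P χ, prodc h i j ≠ l := by
    intro i hi j hj e
    by_cases hij : i = j
    · subst hij
      exact hn.1 (e.symm.trans (prodc_self h i))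
    · exact hn.2 ⟨(i, j), Finset.mem_offDiag.mpr ⟨hi, hj, hij⟩, e⟩
  refine mem_supp.mp hl ?_
  have h0 : th (fun g => χ g * conj (χ g)) l 1 = 0 := by
    have hexp : (fun u : P => (fun g => χ g * conj (χ g)) ((u : G) * 1)) =
        ∑ i ∈ supp P χ, ∑ j ∈ supp P χ, ((mult χ i : ℂ) * mult χ j) • (prodc h i j : P → ℂ) := by
      funext u
      have hu : χ ((u : G) * 1) = ∑ i ∈ supp P χ, (mult χ i : ℂ) * (i : P → ℂ) u := by
        rw [th_expand h χ u 1, ← Finset.sum_subset (Finset.subset_univ (supp P χ)) fun i _ hi => by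
          rw [th_eq_zero h hχ hi V.one_mem, zero_mul]]
        exact Finset.sum_congr rfl fun i _ => by rw [th_one h hχ i]
      show χ ((u : G) * 1) * conj (χ ((u : G) * 1)) = _
      rw [hu]
      simp only [map_sum, map_mul, map_natCast, Finset.sum_mul_sum, Finset.sum_apply, Pi.smul_apply, smul_eq_mul]
      exact Finset.sum_congr rfl fun i _ => Finset.sum_congr rfl fun j _ => by
        show _ = _ * ((i : P → ℂ) u * conj ((j : P → ℂ) u))
        ring
    rw [th, hexp, classInner_sum_left]
    refine Finset.sum_eq_zero fun i hi => ?_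
    rw [classInner_sum_left]
    refine Finset.sum_eq_zero fun j hj => ?_
    rw [classInner_smul_left, classInner_irr_ne (hne i hi j hj), mul_zero]
  rw [mult, h0, Complex.zero_re, Nat.floor_zero]

/-- The last case: `|P| = e² + e + 1` and a constituent of degree `e + 1`. -/
theorem extremal_contradiction (h : Uniform P V) [Fintype (IrrCharacter P)] (ψ : IrrCharacter G)
    (hψ1 : (ψ : G → ℂ) ≠ fun _ => 1) {e : ℕ} (he2 : 2 ≤ e)
    (hN : Nat.card (Subgroup.normalizer (P : Set G)) = e * (Nat.card P * Nat.card V))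
    (hq : Nat.card P = e ^ 2 + e + 1) (hcard : (supp P (ψ : G → ℂ)).card = e + 1)
    (hwt : ∀ l ∈ supp P (ψ : G → ℂ), wt V (ψ : G → ℂ) l = 1)
    (htriv : ∀ v : V, th (ψ : G → ℂ) (triv : IrrCharacter P) v = 1) : False := by
  classical
  set f : G → ℂ := (ψ : G → ℂ) with hf
  have hchar := isCharacter_irr ψ
  have hV0 : (0 : ℝ) < Nat.card V := by exact_mod_cast Nat.card_pos
  have hG : (0 : ℝ) < Nat.card G := by exact_mod_cast Nat.card_pos
  have hqR : (Nat.card P : ℝ) = (e : ℝ) ^ 2 + e + 1 := by exact_mod_cast hq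
  have heR : (2 : ℝ) ≤ e := by exact_mod_cast he2
  have hqpos : (0 : ℝ) < Nat.card P := by exact_mod_cast Nat.card_pos
  have hj : ∀ l ∈ supp P f, ∃ j : ℕ, j ≤ 1 ∧ ∑ v : V, th f l v = (Nat.card V : ℂ) * j := fun l hl =>
    sum_th_le h hchar (hwt l hl)
  choose! j hj1 hj2 using hj
  set J := ∑ l ∈ supp P f, j l with hJ
  have hJle : J ≤ e + 1 := by
    rw [← hcard, Finset.card_eq_sum_ones]
    exact Finset.sum_le_sum hj1
  have hsumV : ∑ v : V, f v = (Nat.card V : ℂ) * J := by
    rw [hJ, Nat.cast_sum, Finset.mul_sum, ← Finset.sum_congr rfl hj2, Finset.sum_comm]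
    refine Finset.sum_congr rfl fun v _ => ?_
    have := th_expand h f 1 v
    rw [OneMemClass.coe_one, one_mul] at this
    rw [this, ← Finset.sum_subset (Finset.subset_univ (supp P f)) fun l _ hl => by
      rw [th_eq_zero h hchar hl v.2, zero_mul]]
    exact Finset.sum_congr rfl fun l _ => by rw [irr_P_one h, mul_one]
  have hsumall : ∑ v : V, ∑ u : P, f ((u : G) * v) = (Nat.card V : ℂ) * Nat.card P := by
    rw [Finset.sum_congr rfl fun (v : V) _ => (th_triv f (v : G)).symm]
    simp [htriv, Nat.card_eq_fintype_card]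
  -- the special classes
  have hd := card_mul_sum_special h (f := f) (isClassFunction_irr ψ)
  rw [sum_T_eq h f, hsumall, hsumV, hN] at hd
  have hone := card_mul_sum_special h (f := fun _ => (1 : ℂ)) (fun _ _ => rfl)
  rw [sum_T_eq h (fun _ : G => (1 : ℂ)), hN] at hone
  simp only [Finset.sum_const, Finset.card_univ, nsmul_eq_mul, mul_one, ← Nat.card_eq_fintype_card] at hone
  set D := specialSet P V with hD
  set g0 : G → ℂ := fun g => ((‖f g‖ ^ 2 : ℝ) : ℂ)
  have hsq := card_mul_sum_special h (f := g0) fun a b => by simp only [g0, hf, isClassFunction_irr ψ a b]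
  simp only [g0, ← Complex.ofReal_sum, ← Complex.ofReal_natCast, ← Complex.ofReal_mul, Complex.ofReal_inj] at hsq
  rw [sum_T_eq h (fun g => ‖f g‖ ^ 2), hN] at hsq
  have hX := card_mul_wt_le h hchar (V := V) (P := P)
  rw [Finset.sum_congr rfl (g := fun _ => (1 : ℝ)) fun l hl => by rw [hwt l hl, Nat.cast_one],
    Finset.sum_const, hcard, nsmul_eq_mul, mul_one] at hX
  push_cast at hX hsq
  set X := (∑ v : V, ∑ u : P, ‖f ((u : G) * v)‖ ^ 2) - ∑ v : V, ‖f v‖ ^ 2
  -- remove the special classes and the identity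
  set T := (Finset.univ \ D).erase 1 with hT
  have h1mem : (1 : G) ∈ Finset.univ \ D :=
    Finset.mem_sdiff.mpr ⟨Finset.mem_univ _, one_notMem_special h⟩
  have split : ∀ {M : Type} [AddCommGroup M] (F : G → M),
      ∑ g : G, F g = ∑ g ∈ T, F g + F 1 + ∑ g ∈ D, F g := fun F => by
    rw [Finset.sum_erase_add _ _ h1mem, Finset.sum_sdiff (Finset.subset_univ D)]
  have hs0 : ∑ g : G, f g = 0 := by
    have h' := classInner_irr ψ ⟨_, isIrrCharacter_one⟩
    rw [if_neg fun e => hψ1 (congrArg Subtype.val e)] at h'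
    simpa [classInner] using h'
  have hs2 : ∑ g : G, ‖f g‖ ^ 2 = Nat.card G := by
    have := classInner_irr_self ψ
    rw [classInner_self, Complex.ofReal_eq_one, inv_mul_eq_one₀ (by exact_mod_cast Nat.card_pos.ne')] at this
    exact this.symm
  obtain ⟨d, hd0, hd1⟩ := isIrrCharacter_degree ψ.2
  have hd1' : f 1 = (d : ℂ) := hd1
  have hdR : (1 : ℝ) ≤ d := by exact_mod_cast hd0
  -- |∑ over T|
  have hDsum : ∑ g ∈ D, f g = ((Nat.card G * ((Nat.card P : ℝ) - J) / (e * Nat.card P) : ℝ) : ℂ) := by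
    push_cast
    rw [eq_div_iff (mul_ne_zero (by exact_mod_cast (show e ≠ 0 by omega))
      (by exact_mod_cast Nat.card_pos.ne'))]
    refine mul_left_cancel₀ (show (Nat.card V : ℂ) ≠ 0 by exact_mod_cast Nat.card_pos.ne') ?_
    push_cast at hd
    linear_combination hd
  have hA : (Nat.card G : ℝ) * e / Nat.card P ≤ ‖∑ g ∈ T, f g‖ - 1 := by
    have h' := split f
    rw [hs0, hDsum, hd1', ← Complex.ofReal_natCast, add_assoc, ← Complex.ofReal_add] at h'
    have h0 : (Nat.card G : ℝ) * e / Nat.card P ≤ Nat.card G * ((Nat.card P : ℝ) - J) / (e * Nat.card P) := by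
      rw [div_le_div_iff₀ hqpos (by positivity)]
      have hJR : (J : ℝ) ≤ e + 1 := by exact_mod_cast hJle
      nlinarith [mul_le_mul_of_nonneg_left (show (e : ℝ) * e ≤ Nat.card P - J by nlinarith)
        (mul_nonneg hG.le hqpos.le)]
    rw [eq_neg_of_add_eq_zero_left h'.symm, norm_neg, Complex.norm_real, Real.norm_eq_abs]
    have := le_abs_self ((d : ℝ) + Nat.card G * ((Nat.card P : ℝ) - J) / (e * Nat.card P))
    linarith
  have hDcard : (D.card : ℝ) = Nat.card G * ((Nat.card P : ℝ) - 1) / (e * Nat.card P) := by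
    rw [eq_div_iff (by positivity)]
    refine mul_left_cancel₀ hV0.ne' (Complex.ofReal_injective ?_)
    push_cast at hone ⊢
    linear_combination hone
  have hB : (T.card : ℝ) < Nat.card G * (e : ℝ) ^ 2 / Nat.card P := by
    have h' := split (fun _ : G => (1 : ℝ))
    simp only [Finset.sum_const, nsmul_eq_mul, mul_one, Finset.card_univ, ← Nat.card_eq_fintype_card] at h'
    have : Nat.card G * ((Nat.card P : ℝ) - 1) / (e * Nat.card P) + Nat.card G * (e : ℝ) ^ 2 / Nat.card P =
        Nat.card G := by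
      field_simp
      rw [hqR]
      ring
    linarith
  have hC : ∑ g ∈ T, ‖f g‖ ^ 2 ≤ Nat.card G / Nat.card P := by
    have h' := split (fun g => ‖f g‖ ^ 2)
    rw [hs2, hd1', Complex.norm_natCast] at h'
    have hDsq : ∑ g ∈ D, ‖f g‖ ^ 2 = Nat.card G * X / (e * (Nat.card P * Nat.card V)) := by
      rw [eq_div_iff (by positivity)]
      linarith
    have : (Nat.card G : ℝ) ≤ Nat.card G / Nat.card P + ∑ g ∈ D, ‖f g‖ ^ 2 := by
      have hX' : ((Nat.card P : ℝ) - (e + 1)) * (Nat.card V * (e + 1)) ≤ X := by nlinarith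
      rw [hDsq, div_add_div _ _ hqpos.ne' (by positivity), le_div_iff₀ (by positivity)]
      rw [hqR] at hX' ⊢
      nlinarith [mul_le_mul_of_nonneg_left hX' (mul_nonneg hG.le (show (0 : ℝ) ≤ (e : ℝ) ^ 2 + e + 1 by positivity))]
    nlinarith
  have hCS : ‖∑ g ∈ T, f g‖ ^ 2 ≤ T.card * ∑ g ∈ T, ‖f g‖ ^ 2 :=
    le_trans (pow_le_pow_left₀ (norm_nonneg _) (norm_sum_le _ _) 2) sq_sum_le_card_mul_sum_sq
  have hlt : ((Nat.card G : ℝ) * e / Nat.card P + 1) ^ 2 ≤ Nat.card G * (e : ℝ) ^ 2 / Nat.card P * (Nat.card G / Nat.card P) :=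
    ((pow_le_pow_left₀ (by positivity) (by linarith) 2).trans hCS).trans
      (mul_le_mul hB.le hC (Finset.sum_nonneg fun _ _ => sq_nonneg _) (by positivity))
  have hpos : (0 : ℝ) ≤ (Nat.card G : ℝ) * e / Nat.card P := by positivity
  have heq : Nat.card G * (e : ℝ) ^ 2 / Nat.card P * (Nat.card G / Nat.card P) =
      ((Nat.card G : ℝ) * e / Nat.card P) ^ 2 := by ring
  nlinarith

/-- Small degree forces degree one and a central Sylow normalizer. -/
theorem degree_one_and_central (h : Uniform P V) (hnc : Subgroup.normalClosure (P : Set G) = ⊤)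
    (χ : IrrCharacter G) (h1 : (χ : G → ℂ) ≠ fun _ => 1) {x : ℕ} (hx : (χ : G → ℂ) 1 = (x : ℂ))
    (hdeg : x ^ 2 + 1 < Nat.card P) :
    x = 1 ∧ Subgroup.normalizer (P : Set G) ≤ Subgroup.centralizer (P : Set G) := by
  classical
  have := Fintype.ofFinite (IrrCharacter P)
  set e := (Subgroup.centralizer (P : Set G)).relIndex (Subgroup.normalizer (P : Set G)) with he
  set q := Nat.card P with hq
  have hN : Nat.card (Subgroup.normalizer (P : Set G)) = e * (q * Nat.card V) := by
    rw [← card_cent h, he, mul_comm]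
    rw [← Subgroup.relIndex_bot_left (Subgroup.centralizer (P : Set G)),
      ← Subgroup.relIndex_bot_left (Subgroup.normalizer (P : Set G)),
      Subgroup.relIndex_mul_relIndex _ _ _ bot_le Uniform.cent_le_normalizer]
  have he1 : 1 ≤ e := Nat.one_le_iff_ne_zero.mpr fun h0 => by
    rw [h0, zero_mul] at hN; exact Nat.card_pos.ne' hN
  -- every nonprincipal character contains a nontrivial character of `P`
  have hnt : ∀ ψ : IrrCharacter G, (ψ : G → ℂ) ≠ (fun _ => 1) →
      ∃ l ∈ supp P (ψ : G → ℂ), l ≠ triv := by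
    intro ψ hψ
    by_contra hc
    push Not at hc
    refine hψ (eq_one_of_trivial hnc ψ fun u hu => ?_)
    have hu1 := th_expand h (ψ : G → ℂ) ⟨u, hu⟩ 1
    have h11 := th_expand h (ψ : G → ℂ) 1 1
    simp only [mul_one, OneMemClass.coe_one] at hu1 h11
    rw [hu1, h11]
    refine Finset.sum_congr rfl fun l _ => ?_
    by_cases hl : l ∈ supp P (ψ : G → ℂ)
    · rw [hc l hl]; rfl
    · rw [th_eq_zero h (isCharacter_irr ψ) hl V.one_mem, zero_mul, zero_mul]
  have hK : ∀ ψ : IrrCharacter G, (supp P (ψ : G → ℂ)).card ≤ ∑ l ∈ supp P (ψ : G → ℂ), wt V (ψ : G → ℂ) l :=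
    fun ψ => by
      rw [Finset.card_eq_sum_ones]
      exact Finset.sum_le_sum fun l hl => wt_pos h (isCharacter_irr ψ) (mem_supp.mp hl)
  -- the characters of `P` in `χ` form one orbit
  obtain ⟨l₀, hl₀, hl₀t⟩ := hnt χ h1
  obtain ⟨hsub, htO, hconst⟩ := orb_subset (isClassFunction_irr χ) hl₀ hl₀t
  have hOcard : (orb l₀).card = e := orb_card h hl₀t
  have hmx : (supp P (χ : G → ℂ)).card ≤ x := by
    have := sum_mult h (isCharacter_irr χ) (V := V) (P := P)
    rw [hx, Nat.cast_inj] at this
    rw [this, Finset.card_eq_sum_ones]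
    exact Finset.sum_le_sum fun l hl => Nat.one_le_iff_ne_zero.mpr (mem_supp.mp hl)
  have hb := irr_bound h χ hN
  have hme : (supp P (χ : G → ℂ)).card = e := by
    have hge : e ≤ (supp P (χ : G → ℂ)).card := hOcard ▸ Finset.card_le_card hsub
    by_contra hne
    have hgt : e + 1 ≤ (supp P (χ : G → ℂ)).card := by omega
    have hmq : (supp P (χ : G → ℂ)).card ^ 2 < q := by
      have := Nat.pow_le_pow_left hmx 2; omega
    have hK' := hK χ
    rw [← hq] at hb
    obtain ⟨t, ht⟩ := Nat.exists_eq_add_of_le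
      (show (supp P (χ : G → ℂ)).card ≤ q from (Nat.le_self_pow two_ne_zero _).trans hmq.le)
    have h2 := Nat.mul_le_mul_left t hK'
    have h3 := Nat.mul_le_mul_left q hgt
    nlinarith
  have hsupp : supp P (χ : G → ℂ) = orb l₀ := (Finset.eq_of_subset_of_card_le hsub (by omega)).symm
  have hxc : x = e * mult (χ : G → ℂ) l₀ := by
    have := sum_mult h (isCharacter_irr χ) (V := V) (P := P)
    rw [hx, Nat.cast_inj, hsupp, Finset.sum_congr rfl hconst, Finset.sum_const, hOcard, smul_eq_mul] at this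
    exact this
  rcases Nat.lt_or_ge e 2 with he2 | he2
  · have he' : e = 1 := by omega
    refine ⟨?_, Subgroup.relIndex_eq_one.mp he'⟩
    have hsing : orb l₀ = {l₀} := (Finset.eq_of_subset_of_card_le
      (Finset.singleton_subset_iff.mpr (mem_orb.mpr (MulAction.mem_orbit_self l₀)))
      (by rw [hOcard, he', Finset.card_singleton])).symm
    have h2 := degree_one_of_norm hnc χ fun u hu => by
      have h' := th_expand h (χ : G → ℂ) ⟨u, hu⟩ 1
      have h'' := th_expand h (χ : G → ℂ) 1 1
      simp only [mul_one, OneMemClass.coe_one] at h' h''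
      rw [h', h'', Finset.sum_eq_single l₀, Finset.sum_eq_single l₀]
      · simp [norm_irr_P h]
      all_goals first
        | exact fun hn => absurd (Finset.mem_univ _) hn
        | exact fun l _ hl => by
            rw [th_eq_zero h (isCharacter_irr χ) (by rw [hsupp, hsing]; simpa using hl) V.one_mem, zero_mul]
    rw [hx] at h2
    exact_mod_cast h2
  exfalso
  set c := mult (χ : G → ℂ) l₀ with hc
  have hc1 : 1 ≤ c := Nat.one_le_iff_ne_zero.mpr (mem_supp.mp hl₀)
  -- the size of `P`
  have hqe : e ^ 2 + e + 1 ≤ q := by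
    obtain ⟨k, hk⟩ := dvd_card_sub_one h
    rw [← hq, ← he] at hk
    have hxe : e ^ 2 ≤ x ^ 2 := Nat.pow_le_pow_left (by rw [hxc]; exact Nat.le_mul_of_pos_right _ hc1) 2
    have hek : e < k := by
      by_contra hle
      have := Nat.mul_le_mul_left e (not_lt.mp hle)
      rw [← sq] at this
      omega
    have := Nat.mul_le_mul_left e (Nat.succ_le_of_lt hek)
    rw [Nat.mul_succ, ← sq] at this
    omega
  -- the square
  set F : G → ℂ := fun g => (χ : G → ℂ) g * conj ((χ : G → ℂ) g) with hF
  have hFchar : IsCharacter G F := isCharacter_mul (isCharacter_irr χ) (isCharacter_conj (isCharacter_irr χ))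
  have := Fintype.ofFinite (IrrCharacter G)
  choose a ha using fun ψ : IrrCharacter G => classInner_char_irr_nat hFchar ψ
  have hexp : ∀ (l : IrrCharacter P) (v : G),
      th F l v = ∑ ψ : IrrCharacter G, (a ψ : ℂ) * th (ψ : G → ℂ) l v := by
    intro l v
    conv_lhs => rw [classFun_expand (isClassFunction_of_isCharacter hFchar)]
    simp only [th, ← ha, ← classInner_smul_left, ← classInner_sum_left]
    congr 1
    funext u
    simp [Finset.sum_apply]
  have hsubF : ∀ ψ : IrrCharacter G, a ψ ≠ 0 → supp P (ψ : G → ℂ) ⊆ supp P F := by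
    intro ψ hψ l hl
    refine mem_supp.mpr fun h0 => mem_supp.mp hl ?_
    have h' := hexp l 1
    rw [th_one h hFchar, h0] at h'
    simp only [th_one h (isCharacter_irr _), ← Nat.cast_mul, ← Nat.cast_sum, Nat.cast_inj] at h'
    have := Finset.sum_eq_zero_iff.mp h'.symm ψ (Finset.mem_univ _)
    exact (Nat.mul_eq_zero.mp this).resolve_left hψ
  have hFsupp : (supp P F).card ≤ e * e - e + 1 :=
    calc (supp P F).card ≤ _ := Finset.card_le_card (supp_sq_subset h (isCharacter_irr χ))
      _ ≤ ((supp P (χ : G → ℂ)).offDiag.image fun a => prodc h a.1 a.2).card + 1 := Finset.card_insert_le _ _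
      _ ≤ (supp P (χ : G → ℂ)).offDiag.card + 1 := Nat.add_le_add_right Finset.card_image_le _
      _ = e * e - e + 1 := by rw [Finset.offDiag_card, hme]
  set one : IrrCharacter G := ⟨_, isIrrCharacter_one⟩
  have ha1 : a one = 1 := by
    have h' := ha one
    have h2 := classInner_irr_self χ
    simp only [classInner, one, hF, map_one, mul_one] at h' h2
    rw [h2] at h'
    exact_mod_cast h'.symm
  have hF1 : th F (triv : IrrCharacter P) 1 = ((∑ l : IrrCharacter P, ‖th (χ : G → ℂ) l 1‖ ^ 2 : ℝ) : ℂ) :=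
    th_sq h _ 1
  obtain ⟨ψ, hψ1, haψ, hψt⟩ : ∃ ψ : IrrCharacter G, (ψ : G → ℂ) ≠ (fun _ => 1) ∧ a ψ ≠ 0 ∧
      triv ∈ supp P (ψ : G → ℂ) := by
    by_contra hnot
    push Not at hnot
    have h' := hexp triv 1
    rw [Finset.sum_eq_single one (fun ψ _ hne => ?_) (fun hn => absurd (Finset.mem_univ _) hn), ha1,
      Nat.cast_one, one_mul, hF1] at h'
    · have h11 : th (one : G → ℂ) (triv : IrrCharacter P) 1 = 1 := classInner_irr_self (triv : IrrCharacter P)
      rw [h11, Complex.ofReal_eq_one, ← Finset.sum_subset (Finset.subset_univ (supp P (χ : G → ℂ)))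
        fun l _ hl => by rw [th_eq_zero h (isCharacter_irr χ) hl V.one_mem]; simp] at h'
      have h3 : ((supp P (χ : G → ℂ)).card : ℝ) ≤ 1 := by
        rw [← h', Finset.card_eq_sum_ones, Nat.cast_sum]
        refine Finset.sum_le_sum fun l hl => ?_
        rw [th_one h (isCharacter_irr χ), Complex.norm_natCast, Nat.cast_one]
        exact one_le_pow₀ (by exact_mod_cast Nat.one_le_iff_ne_zero.mpr (mem_supp.mp hl))
      rw [hme] at h3
      have : (2 : ℝ) ≤ e := by exact_mod_cast he2
      linarith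
    · by_cases hz : a ψ = 0
      · rw [hz, Nat.cast_zero, zero_mul]
      · rw [th_eq_zero h (isCharacter_irr ψ) (hnot ψ (fun e => hne (Subtype.ext e)) hz) V.one_mem, mul_zero]
  obtain ⟨l₁, hl₁, hl₁t⟩ := hnt ψ hψ1
  obtain ⟨hsub₁, htO₁, -⟩ := orb_subset (isClassFunction_irr ψ) hl₁ hl₁t
  have hm' : e + 1 ≤ (supp P (ψ : G → ℂ)).card := by
    have := Finset.card_le_card (Finset.insert_subset hψt hsub₁)
    rw [Finset.card_insert_of_notMem htO₁, orb_card h hl₁t, ← he] at this
    exact this
  have hm'' : (supp P (ψ : G → ℂ)).card ≤ e * e - e + 1 :=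
    (Finset.card_le_card (hsubF ψ haψ)).trans hFsupp
  have hb' := irr_bound h ψ hN
  have hK' := hK ψ
  rw [← hq] at hb' hb
  set m := (supp P (ψ : G → ℂ)).card with hm
  set K := ∑ l ∈ supp P (ψ : G → ℂ), wt V (ψ : G → ℂ) l with hKdef
  have hee : e ≤ e * e := Nat.le_mul_of_pos_left e (by omega)
  have hmq : q * m < m * m + e * q := by
    have hle : m ≤ q := by rw [sq] at hqe; omega
    obtain ⟨t, ht⟩ := Nat.exists_eq_add_of_le hle
    rw [ht] at hb' ⊢
    nlinarith [Nat.mul_le_mul_left t hK']
  have hm1 : m = e + 1 := by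
    by_contra hne
    have h2 : e + 2 ≤ m := by omega
    rcases Nat.lt_or_ge e 3 with he3 | he3
    · have h4 : e = 2 := by omega
      rw [h4] at hm'' h2
      omega
    have hmZ : (m : ℤ) ≤ (e : ℤ) * e - e + 1 := by
      have : m + e ≤ e * e + 1 := by omega
      have : (m : ℤ) + e ≤ (e : ℤ) * e + 1 := by exact_mod_cast this
      linarith
    have hmqZ : (q : ℤ) * m < m * m + e * q := by exact_mod_cast hmq
    have hqZ : (e : ℤ) ^ 2 + e + 1 ≤ q := by exact_mod_cast hqe
    have h2Z : (e : ℤ) + 2 ≤ m := by exact_mod_cast h2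
    have he3Z : (3 : ℤ) ≤ e := by exact_mod_cast he3
    nlinarith [mul_nonneg (sub_nonneg.mpr h2Z) (sub_nonneg.mpr hmZ),
      mul_le_mul_of_nonneg_left hqZ (show (0 : ℤ) ≤ m - e by linarith)]
  have hqeq : q = e ^ 2 + e + 1 := by
    obtain ⟨k, hk⟩ := dvd_card_sub_one h
    rw [← hq, ← he] at hk
    rw [hm1] at hmq
    have h' : q < (e + 1) * (e + 1) := by nlinarith
    have hq' : q = e * k + 1 := by omega
    have hk1 : e + 1 ≤ k := by
      by_contra hlt
      have h5 := Nat.mul_le_mul_left e (show k ≤ e by omega)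
      nlinarith
    have hk2 : k ≤ e + 1 := by
      by_contra hlt
      have h5 := Nat.mul_le_mul_left e (show e + 2 ≤ k by omega)
      nlinarith
    rw [hq', show k = e + 1 by omega]; ring
  have hwt1 : ∀ l ∈ supp P (ψ : G → ℂ), wt V (ψ : G → ℂ) l = 1 := by
    intro l hl
    rw [hm1, hqeq] at hb'
    have hle : K ≤ e + 1 := by
      by_contra hgt
      have h4 : e + 2 ≤ K := by omega
      have := Nat.mul_le_mul_left (e * e) h4
      nlinarith
    by_contra hne
    have h2 : 2 ≤ wt V (ψ : G → ℂ) l := by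
      have := wt_pos h (isCharacter_irr ψ) (V := V) (mem_supp.mp hl); omega
    have h3 : ∑ k ∈ supp P (ψ : G → ℂ), 1 < K :=
      Finset.sum_lt_sum (fun k hk => wt_pos h (isCharacter_irr ψ) (mem_supp.mp hk)) ⟨l, hl, by omega⟩
    rw [← Finset.card_eq_sum_ones, ← hm, hm1] at h3
    omega
  have hc' : c = 1 := by
    by_contra hne
    have h2 : 2 * e ≤ x := by rw [hxc, mul_comm 2 e]; exact Nat.mul_le_mul_left e (by omega)
    have := Nat.pow_le_pow_left h2 2
    rw [hqeq] at hdeg
    nlinarith
  -- the trivial part of `χ χ̄` is constant on `V`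
  have hFv : ∀ v : V, th F (triv : IrrCharacter P) v = (e : ℂ) := by
    intro v
    rw [th_sq h, ← Finset.sum_subset (Finset.subset_univ (supp P (χ : G → ℂ))) fun l _ hl => by
        rw [th_eq_zero h (isCharacter_irr χ) hl v.2]; simp,
      Finset.sum_congr rfl (g := fun _ => (1 : ℝ)) fun l hl => ?_, Finset.sum_const, hme, nsmul_eq_mul,
      mul_one, Complex.ofReal_natCast]
    have hdeg1 : th (χ : G → ℂ) l 1 = 1 := by
      rw [th_one h (isCharacter_irr χ), hconst l (hsupp ▸ hl), hc', Nat.cast_one]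
    obtain ⟨f, hf⟩ := exists_hom_of_linear (th_isCharacter h (isCharacter_irr χ) l) (by simpa using hdeg1)
    have := congrFun hf v
    rw [this, norm_eq_one_of_pow_eq_one' (Nat.card_pos (α := V)).ne' (by
      rw [← Units.val_pow_eq_pow_val, ← map_pow, pow_card_eq_one', map_one, Units.val_one]), one_pow]
  have hconstψ : ∀ v : V, th (ψ : G → ℂ) (triv : IrrCharacter P) v =
      (mult (ψ : G → ℂ) (triv : IrrCharacter P) : ℂ) := by
    intro v
    have hv := hexp triv v
    have h1' := hexp triv 1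
    rw [hFv v] at hv
    rw [show (1 : G) = ((1 : V) : G) from rfl, hFv 1] at h1'
    have hre := congrArg Complex.re (hv.symm.trans h1')
    simp only [Complex.re_sum, Complex.mul_re, Complex.natCast_im, zero_mul, sub_zero, OneMemClass.coe_one,
      th_one h (isCharacter_irr _), Complex.natCast_re, mul_zero] at hre
    have hle : ∀ φ : IrrCharacter G, (a φ : ℝ) * (th (φ : G → ℂ) (triv : IrrCharacter P) v).re ≤
        (a φ : ℝ) * mult (φ : G → ℂ) (triv : IrrCharacter P) := fun φ =>
      mul_le_mul_of_nonneg_left ((Complex.re_le_norm _).trans (norm_th_le h (isCharacter_irr φ) _ v.2))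
        (Nat.cast_nonneg _)
    have heq := mul_left_cancel₀ (Nat.cast_ne_zero.mpr haψ)
      ((Finset.sum_eq_sum_iff_of_le fun φ _ => hle φ).mp hre ψ (Finset.mem_univ _))
    have hn := norm_th_le h (isCharacter_irr ψ) (triv : IrrCharacter P) v.2
    refine Complex.ext (by rw [heq, Complex.natCast_re]) ?_
    rw [Complex.natCast_im]
    have h5 : (th (ψ : G → ℂ) (triv : IrrCharacter P) v).re ^ 2 + (th (ψ : G → ℂ) (triv : IrrCharacter P) v).im ^ 2
        = ‖th (ψ : G → ℂ) (triv : IrrCharacter P) v‖ ^ 2 := by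
      rw [← Complex.normSq_eq_norm_sq, Complex.normSq_apply]; ring
    have h6 := pow_le_pow_left₀ (norm_nonneg _) hn 2
    nlinarith
  have hmt : mult (ψ : G → ℂ) (triv : IrrCharacter P) = 1 := by
    obtain ⟨j, hj1, hj2⟩ := sum_th_le h (isCharacter_irr ψ) (hwt1 _ hψt)
    simp only [hconstψ, Finset.sum_const, Finset.card_univ, nsmul_eq_mul, ← Nat.card_eq_fintype_card] at hj2
    have h7 := mul_left_cancel₀ (show (Nat.card V : ℂ) ≠ 0 by exact_mod_cast Nat.card_pos.ne') hj2
    have h8 : mult (ψ : G → ℂ) (triv : IrrCharacter P) = j := by exact_mod_cast h7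
    have := mem_supp.mp hψt
    omega
  exact extremal_contradiction h ψ hψ1 he2 hN (hq ▸ hqeq) hm1 hwt1
    (fun v => by rw [hconstψ v, hmt, Nat.cast_one])

end CfsgLib.Char.UniformCent
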