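import Cfsg.Agent.Lib.Char.Brauer

/-!
# Characters of `p`-defect zero
-/

set_option autoImplicit false
set_option linter.unusedSectionVars false

namespace CfsgLib.Char

open scoped ComplexConjugate
open Representation Module Cfsg

universe u v

theorem exists_pparts_elementary {E : Type u} [Group E] [Finite E] {p q : ℕ} [Fact p.Prime]
    (hq : q.Prime) (hE : IsElementary q E) :
    ∃ R P : Subgroup E, (∀ g : E, g ∈ R ↔ ¬ p ∣ orderOf g) ∧ Nat.card R * Nat.card P = Nat.card E ∧
      (∃ j : ℕ, Nat.card P = p ^ j) ∧ ¬ p ∣ Nat.card R ∧ ∀ r ∈ R, ∀ u ∈ P, u * r = r * u := by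
  classical
  have hp : p.Prime := Fact.out
  obtain ⟨x, hx, hcop, k, hk⟩ := hE
  have hle : Subgroup.zpowers x ≤ Subgroup.center E := Subgroup.zpowers_le.mpr hx
  have hN : (Subgroup.zpowers x).Normal := ⟨fun y hy g => by
    rwa [Subgroup.mem_center_iff.mp (hle hy) g, mul_inv_cancel_right]⟩
  have hpow : ∀ g : E, orderOf ((g : E ⧸ Subgroup.zpowers x)) ∣ q ^ k := fun g => by
    have := orderOf_dvd_natCard ((g : E ⧸ Subgroup.zpowers x))
    rwa [← Subgroup.index_eq_card, hk] at this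
  let P : Sylow p E := default
  obtain ⟨j, hj⟩ := IsPGroup.iff_card.mp P.isPGroup'
  by_cases hpq : p = q
  · subst hpq
    have hR : ¬ p ∣ Nat.card (Subgroup.zpowers x) := by
      rw [Nat.card_zpowers]
      exact fun h => hp.one_lt.ne' (Nat.dvd_one.mp (hcop.gcd_eq_one ▸ Nat.dvd_gcd h dvd_rfl))
    refine ⟨Subgroup.zpowers x, P, fun g => ⟨fun hg h => ?_, fun hg => ?_⟩, ?_, ⟨j, hj⟩, hR,
      fun r hr u _ => Subgroup.mem_center_iff.mp (hle hr) u⟩
    · exact hR (h.trans (by rw [← Subgroup.orderOf_mk g hg]; exact orderOf_dvd_natCard _))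
    · rw [← QuotientGroup.eq_one_iff, ← orderOf_eq_one_iff]
      have h2 : orderOf ((g : E ⧸ Subgroup.zpowers x)) ∣ orderOf g :=
        orderOf_map_dvd (QuotientGroup.mk' _) g
      obtain ⟨i, -, hi⟩ := (Nat.dvd_prime_pow hp).mp (hpow g)
      rcases Nat.eq_zero_or_pos i with h0 | h0
      · rw [hi, h0, pow_zero]
      · exact absurd ((hi ▸ dvd_pow_self p h0.ne').trans h2) hg
    · have h1 := (Subgroup.zpowers x).card_mul_index
      rw [hk] at h1
      rw [← h1]
      congr 1
      rw [P.card_eq_multiplicity, ← h1, Nat.factorization_mul Nat.card_pos.ne'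
        (pow_ne_zero _ hp.ne_zero), Finsupp.add_apply, Nat.factorization_eq_zero_of_not_dvd hR,
        Nat.Prime.factorization_pow hp, Finsupp.single_eq_same, zero_add]
  · have hPz : (P : Subgroup E) ≤ Subgroup.zpowers x := by
      intro g hg
      rw [← QuotientGroup.eq_one_iff, ← orderOf_eq_one_iff]
      have h2 : orderOf ((g : E ⧸ Subgroup.zpowers x)) ∣ p ^ j := by
        refine (orderOf_map_dvd (QuotientGroup.mk' _) g).trans ?_
        rw [← hj, ← Subgroup.orderOf_mk g hg]
        exact orderOf_dvd_natCard _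
      exact Nat.dvd_one.mp
        ((((Nat.coprime_primes hp hq).mpr hpq).pow j k).gcd_eq_one ▸ Nat.dvd_gcd h2 (hpow g))
    have hP : Subgroup.normalizer ((P : Subgroup E) : Set E) ≤
        Subgroup.centralizer ((P : Subgroup E) : Set E) :=
      fun g _ => Subgroup.mem_centralizer_iff.mpr fun u hu =>
        (Subgroup.mem_center_iff.mp (hle (hPz hu)) g).symm
    set R := (MonoidHom.transferSylow P hP).ker with hRd
    have hcompl := MonoidHom.ker_transferSylow_isComplement' P hP
    have hRp : ¬ p ∣ Nat.card R := MonoidHom.not_dvd_card_ker_transferSylow P hP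
    refine ⟨R, P, fun g => ⟨fun hg h => ?_, fun hg => ?_⟩, hcompl.card_mul, ⟨j, hj⟩, hRp,
      fun r _ u hu => (Subgroup.mem_center_iff.mp (hle (hPz hu)) r).symm⟩
    · exact hRp (h.trans (by rw [← Subgroup.orderOf_mk g hg]; exact orderOf_dvd_natCard _))
    · rw [← QuotientGroup.eq_one_iff, ← orderOf_eq_one_iff]
      have h2 : orderOf ((g : E ⧸ R)) ∣ p ^ j := by
        have := orderOf_dvd_natCard ((g : E ⧸ R))
        rwa [← Subgroup.index_eq_card, hcompl.symm.index_eq_card, hj] at this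
      have h3 : orderOf ((g : E ⧸ R)) ∣ orderOf g := orderOf_map_dvd (QuotientGroup.mk' _) g
      exact Nat.dvd_one.mp
        (((hp.coprime_iff_not_dvd.mpr hg).pow_left j).gcd_eq_one ▸ Nat.dvd_gcd h2 h3)

variable {G : Type u} [Group G] [Finite G]

theorem defect_zero_regularPart_generalized (χ : IrrCharacter G) {p n d : ℕ} [Fact p.Prime]
    (hn : p ^ n ∣ Nat.card G) (hn' : ¬ p ^ (n + 1) ∣ Nat.card G) (hd : (χ : G → ℂ) 1 = d)
    (hdeg : p ^ n ∣ d) :
    IsGeneralizedCharacter G (fun g => if p ∣ orderOf g then 0 else (χ : G → ℂ) g) := by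
  classical
  have hp : p.Prime := Fact.out
  have := Fintype.ofFinite G
  have hd0 : 0 < d := by
    obtain ⟨d', h0, h1⟩ := isIrrCharacter_degree χ.2
    have : d' = d := by exact_mod_cast h1.symm.trans hd
    exact this ▸ h0
  obtain ⟨M, hM⟩ := degree_dvd_card χ hd
  have hMp : ¬ p ∣ M := fun h => hn' (by rw [hM, pow_succ]; exact Nat.mul_dvd_mul hdeg h)
  refine isGeneralizedCharacter_of_elementary (fun a b => ?_) fun E q hq hE => ?_
  · have e : orderOf (b * a * b⁻¹) = orderOf a :=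
      orderOf_injective (MulAut.conj b).toMonoidHom (MulAut.conj b).injective a
    simp only [e, isClassFunction_irr χ a b]
  obtain ⟨R, P, hR, hcard, ⟨j, hj⟩, hRp, hcomm⟩ := exists_pparts_elementary (p := p) hq hE
  have := Fintype.ofFinite E
  have := Fintype.ofFinite R
  refine isGeneralizedCharacter_of_int_inner (fun a b => ?_) fun ψ => ?_
  · have e : orderOf ((b * a * b⁻¹ : E) : G) = orderOf (a : G) :=
      orderOf_injective (MulAut.conj (b : G)).toMonoidHom (MulAut.conj (b : G)).injective (a : G)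
    simp only [e]
    split_ifs
    · rfl
    · exact isClassFunction_irr χ a b
  obtain ⟨k, hk⟩ := classInner_isCharacter
    (isCharacter_comp (isCharacter_irr χ) (E.subtype.comp R.subtype))
    (isCharacter_comp (isCharacter_irr ψ) R.subtype)
  set S : ℂ := ∑ r : R, (χ : G → ℂ) ((r : E) : G) * conj ((ψ : E → ℂ) r) with hS
  have hmain : classInner (fun e : E => if p ∣ orderOf (e : G) then 0 else (χ : G → ℂ) e)
      (ψ : E → ℂ) = (Nat.card E : ℂ)⁻¹ * S := by
    rw [classInner]
    congr 1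
    rw [Finset.sum_congr rfl (g := fun e : E =>
      if e ∈ R then (χ : G → ℂ) e * conj ((ψ : E → ℂ) e) else 0) fun e _ => ?_, ← Finset.sum_filter,
      Finset.sum_subtype (p := fun e => e ∈ R) _ (fun x => by simp)]
    have hiff : e ∈ R ↔ ¬ p ∣ orderOf (e : G) := by rw [hR, Subgroup.orderOf_coe]
    by_cases h : p ∣ orderOf (e : G)
    · rw [if_pos h, if_neg (fun h' => hiff.mp h' h), zero_mul]
    · rw [if_neg h, if_pos (hiff.mpr h)]
  have hk' : S = (Nat.card R : ℂ) * k := by
    rw [classInner, inv_mul_eq_iff_eq_mul₀ (by exact_mod_cast Nat.card_pos.ne')] at hk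
    exact hk
  have hterm : ∀ r : R, ∃ c : ℂ, IsIntegral ℤ c ∧
      (M : ℂ) * ((χ : G → ℂ) ((r : E) : G) * conj ((ψ : E → ℂ) r)) = (Nat.card P : ℂ) * c := by
    intro r
    set r' : G := ((r : E) : G) with hr'
    have hle : P.map E.subtype ≤ Subgroup.centralizer ({r'} : Set G) := by
      rintro _ ⟨u, hu, rfl⟩
      exact Subgroup.mem_centralizer_singleton_iff.mpr (congrArg Subtype.val (hcomm r r.2 u hu))
    obtain ⟨c₀, hc₀⟩ : Nat.card P ∣ Nat.card (Subgroup.centralizer ({r'} : Set G)) := by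
      rw [Nat.card_congr (P.equivMapOfInjective _ E.subtype_injective).toEquiv]
      exact Subgroup.card_dvd_of_le hle
    have h1 := (Subgroup.centralizer ({r'} : Set G)).card_mul_index
    rw [hc₀, hM] at h1
    have h1' : (Nat.card P : ℂ) * c₀ * ((Subgroup.centralizer ({r'} : Set G)).index : ℂ) =
        (d : ℂ) * M := by exact_mod_cast h1
    refine ⟨(c₀ : ℂ) * omega (χ : G → ℂ) r' * conj ((ψ : E → ℂ) r),
      ((isIntegral_algebraMap (R := ℤ) (x := (c₀ : ℤ))).mul (isIntegral_omega χ r')).mul ?_, ?_⟩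
    · rw [← irr_inv]
      exact isCharacter_isIntegral (isCharacter_irr ψ) _
    · have hd' : (d : ℂ) ≠ 0 := by exact_mod_cast hd0.ne'
      rw [omega, card_isConj, hd]
      field_simp
      linear_combination (-((χ : G → ℂ) r') * conj ((ψ : E → ℂ) r)) * h1'
  choose c hc hce using hterm
  have hint : IsIntegral ℤ (∑ r, c r) := IsIntegral.sum _ fun r _ => hc r
  have hsum : (M : ℂ) * S = (Nat.card P : ℂ) * ∑ r, c r := by
    rw [hS, Finset.mul_sum, Finset.mul_sum]
    exact Finset.sum_congr rfl fun r _ => hce r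
  rw [hk'] at hsum
  have hP0 : (Nat.card P : ℂ) ≠ 0 := by exact_mod_cast Nat.card_pos.ne'
  have hq' : ∑ r, c r = algebraMap ℚ ℂ ((M * Nat.card R * k : ℕ) / (Nat.card P : ℕ) : ℚ) := by
    rw [map_div₀, map_natCast, map_natCast, eq_div_iff hP0, mul_comm _ (Nat.card P : ℂ), ← hsum]
    push_cast
    ring
  rw [hq', isIntegral_algebraMap_iff (algebraMap ℚ ℂ).injective,
    IsIntegrallyClosed.isIntegral_iff] at hint
  obtain ⟨z, hz⟩ := hint
  rw [eq_intCast, eq_div_iff (by exact_mod_cast Nat.card_pos.ne')] at hz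
  have hdvd : Nat.card P ∣ M * Nat.card R * k :=
    Int.natCast_dvd_natCast.mp ⟨z, by rw [mul_comm _ z]; exact_mod_cast hz.symm⟩
  rw [hj] at hdvd
  have hcop : Nat.Coprime (p ^ j) (M * Nat.card R) :=
    ((hp.coprime_iff_not_dvd.mpr hMp).pow_left j).mul_right ((hp.coprime_iff_not_dvd.mpr hRp).pow_left j)
  obtain ⟨t, ht⟩ := hcop.dvd_of_dvd_mul_left hdvd
  refine ⟨(t : ℤ), ?_⟩
  show classInner (fun e : E => if p ∣ orderOf (e : G) then 0 else (χ : G → ℂ) e) (ψ : E → ℂ) = _
  rw [hmain, hk', ← hcard, ht, Nat.cast_mul, Nat.cast_mul, ← hj]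
  have hR0 : (Nat.card R : ℂ) ≠ 0 := by exact_mod_cast Nat.card_pos.ne'
  push_cast
  field_simp

theorem char_defect_zero_vanishes (χ : IrrCharacter G) {p n d : ℕ} [Fact p.Prime]
    (hn : p ^ n ∣ Nat.card G) (hn' : ¬ p ^ (n + 1) ∣ Nat.card G) (hd : (χ : G → ℂ) 1 = d)
    (hdeg : p ^ n ∣ d) {x : G} (hx : p ∣ orderOf x) : (χ : G → ℂ) x = 0 := by
  classical
  have := Fintype.ofFinite G
  have hgen := defect_zero_regularPart_generalized χ hn hn' hd hdeg
  obtain ⟨m, hm⟩ := classInner_generalized_int hgen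
    (isGeneralizedCharacter_of_isCharacter (isCharacter_irr χ))
  have h1 := classInner_irr_self χ
  rw [classInner_self, Complex.ofReal_eq_one] at h1
  set f : G → ℝ := fun g => ‖(χ : G → ℂ) g‖ ^ 2 with hf
  have hre : ((Nat.card G : ℝ)⁻¹ * ∑ g : G, if p ∣ orderOf g then 0 else f g) = (m : ℝ) := by
    have e : classInner (fun g => if p ∣ orderOf g then 0 else (χ : G → ℂ) g) (χ : G → ℂ) =
        (((Nat.card G : ℝ)⁻¹ * ∑ g : G, if p ∣ orderOf g then 0 else f g : ℝ) : ℂ) := by
      rw [classInner, Complex.ofReal_mul, Complex.ofReal_inv, Complex.ofReal_natCast, Complex.ofReal_sum]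
      congr 1
      refine Finset.sum_congr rfl fun g _ => ?_
      split_ifs
      · simp
      · rw [Complex.mul_conj', ← Complex.ofReal_pow]
    rw [e] at hm
    exact_mod_cast hm
  have hN : (0 : ℝ) < (Nat.card G : ℝ)⁻¹ := inv_pos.mpr (by exact_mod_cast Nat.card_pos)
  have hf0 : ∀ g, 0 ≤ f g := fun g => sq_nonneg _
  have hle : ∀ g ∈ (Finset.univ : Finset G), (if p ∣ orderOf g then 0 else f g) ≤ f g := fun g _ => by
    split_ifs
    · exact hf0 g
    · exact le_rfl
  have hpos : 0 < ∑ g : G, if p ∣ orderOf g then 0 else f g := by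
    refine Finset.sum_pos' (fun g _ => by split_ifs; exacts [le_rfl, hf0 g]) ⟨1, Finset.mem_univ _, ?_⟩
    rw [if_neg (by rw [orderOf_one]; exact (Fact.out : p.Prime).not_dvd_one)]
    exact pow_pos (norm_pos_iff.mpr (irr_one_ne_zero χ)) 2
  have hm1 : (m : ℝ) ≤ 1 := hre ▸ h1 ▸ mul_le_mul_of_nonneg_left (Finset.sum_le_sum hle) hN.le
  have hm0 : (0 : ℝ) < m := hre ▸ mul_pos hN hpos
  have hm' : m = 1 := by
    have a1 : m ≤ 1 := by exact_mod_cast hm1
    have a2 : 0 < m := by exact_mod_cast hm0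
    omega
  rw [hm', Int.cast_one, ← h1] at hre
  have h2 := (Finset.sum_eq_sum_iff_of_le hle).mp (mul_left_cancel₀ hN.ne' hre) x (Finset.mem_univ x)
  rw [if_pos hx, eq_comm] at h2
  exact norm_eq_zero.mp (sq_eq_zero_iff.mp h2)

end CfsgLib.Char
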