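import Cfsg.Agent.Lib.Char.Induction

/-!
# Clifford theory over a normal subgroup
-/

set_option autoImplicit false
set_option linter.unusedSectionVars false

namespace CfsgLib.Char

open scoped ComplexConjugate
open Representation Module Cfsg

universe u

variable {G : Type u} [Group G] (N : Subgroup G) [hN : N.Normal]

/-- The conjugate of a function on a normal subgroup. -/
def conjFun (θ : N → ℂ) (g : G) : N → ℂ := fun n => θ ⟨g * n * g⁻¹, hN.conj_mem n n.2 g⟩

/-- Conjugation by `g` on a normal subgroup, as a homomorphism. -/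
def normalConjHom (g : G) : N →* N where
  toFun n := ⟨g * n * g⁻¹, hN.conj_mem n n.2 g⟩
  map_one' := Subtype.ext (by simp)
  map_mul' a b := Subtype.ext (by simp [mul_assoc])

theorem normalConjHom_surjective (g : G) : Function.Surjective (normalConjHom N g) := fun n =>
  ⟨⟨g⁻¹ * n * g, by simpa using hN.conj_mem n n.2 g⁻¹⟩,
    Subtype.ext (by simp [normalConjHom, mul_assoc])⟩

theorem conjFun_one (θ : N → ℂ) : conjFun N θ 1 = θ := by
  funext n; simp [conjFun]

theorem conjFun_mul (θ : N → ℂ) (a b : G) :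
    conjFun N θ (a * b) = conjFun N (conjFun N θ a) b := by
  funext n; simp [conjFun, mul_assoc]

theorem conjFun_inv_cancel (θ : N → ℂ) (a : G) : conjFun N (conjFun N θ a) a⁻¹ = θ := by
  rw [← conjFun_mul, mul_inv_cancel, conjFun_one]

theorem conjFun_eq_iff (θ φ : N → ℂ) (a : G) : conjFun N θ a = φ ↔ conjFun N φ a⁻¹ = θ := by
  constructor
  · rintro rfl; exact conjFun_inv_cancel N θ a
  · rintro rfl; rw [← conjFun_mul, inv_mul_cancel, conjFun_one]

theorem isIrrCharacter_conjFun {θ : N → ℂ} (h : IsIrrCharacter N θ) (g : G) :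
    IsIrrCharacter N (conjFun N θ g) :=
  isIrrCharacter_comp_surjective h (normalConjHom N g) (normalConjHom_surjective N g)

theorem conjFun_coe_of_classFun {θ : G → ℂ} (h : IsClassFunction G θ) (g : G) :
    conjFun N (fun n : N => θ n) g = fun n : N => θ n :=
  funext fun n => h n g

/-- The inertia subgroup. -/
def inertia (θ : N → ℂ) : Subgroup G where
  carrier := {g | conjFun N θ g = θ}
  one_mem' := conjFun_one N θ
  mul_mem' := fun {a b} (ha : conjFun N θ a = θ) (hb : conjFun N θ b = θ) => by
    show conjFun N θ (a * b) = θ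
    rw [conjFun_mul, ha, hb]
  inv_mem' := fun {a} (ha : conjFun N θ a = θ) => (conjFun_eq_iff N θ θ a).mp ha

theorem mem_inertia (θ : N → ℂ) (g : G) : g ∈ inertia N θ ↔ conjFun N θ g = θ := Iff.rfl

theorem le_inertia {θ : N → ℂ} (h : IsClassFunction N θ) : N ≤ inertia N θ := fun x hx => by
  funext n
  exact h n ⟨x, hx⟩

theorem classInner_conjFun [Fintype N] (θ φ : N → ℂ) (g : G) :
    classInner (conjFun N θ g) (conjFun N φ g) = classInner θ φ := by
  simp only [classInner]
  congr 1
  refine Fintype.sum_bijective (normalConjHom N g) ⟨fun a b h => ?_, normalConjHom_surjective N g⟩ _ _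
    fun n => rfl
  exact Subtype.ext (by simpa [normalConjHom] using congrArg Subtype.val h)

variable [Fintype G] [Fintype N]

theorem restrict_indFun (θ : N → ℂ) :
    (fun n : N => indFun N θ n) = (Nat.card N : ℂ)⁻¹ • ∑ x : G, conjFun N θ x := by
  funext n
  rw [indFun_normal_mem]
  simp [conjFun, Finset.sum_apply]

theorem classInner_restrict_indFun {θ φ : N → ℂ} (hθ : IsIrrCharacter N θ) (hφ : IsIrrCharacter N φ) :
    classInner (fun n : N => indFun N θ n) φ =
      (Nat.card N : ℂ)⁻¹ * (Nat.card {x : G // conjFun N θ x = φ} : ℂ) := by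
  classical
  rw [restrict_indFun, classInner_smul_left, classInner_sum_left]
  congr 1
  have h : ∀ x : G, classInner (conjFun N θ x) φ = if conjFun N θ x = φ then (1 : ℂ) else 0 := by
    intro x
    have := classInner_irr (⟨_, isIrrCharacter_conjFun N hθ x⟩ : IrrCharacter N) ⟨φ, hφ⟩
    simpa [Subtype.ext_iff] using this
  rw [Finset.sum_congr rfl fun x _ => h x, Finset.sum_boole, ← Fintype.card_subtype,
    ← Nat.card_eq_fintype_card]

theorem card_fiber_conjFun (θ : N → ℂ) (g : G) :
    Nat.card {x : G // conjFun N θ x = conjFun N θ g} = Nat.card (inertia N θ) :=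
  Nat.card_congr
    { toFun := fun x => ⟨x.1 * g⁻¹, by
        rw [mem_inertia, conjFun_mul, x.2, conjFun_inv_cancel]⟩
      invFun := fun y => ⟨y.1 * g, by rw [conjFun_mul, (mem_inertia N θ y.1).mp y.2]⟩
      left_inv := fun x => Subtype.ext (by simp)
      right_inv := fun y => Subtype.ext (by simp) }

/-- Constituents of the restriction are conjugate. -/
theorem classInner_restrict_zero {θ : G → ℂ} (hθ : IsIrrCharacter G θ) {χ φ : N → ℂ}
    (hχ : IsIrrCharacter N χ) (hφ : IsIrrCharacter N φ)
    (hconst : classInner (fun n : N => θ n) χ ≠ 0) (hnot : ∀ g : G, conjFun N χ g ≠ φ) :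
    classInner (fun n : N => θ n) φ = 0 := by
  classical
  have := Fintype.ofFinite (IrrCharacter G)
  have hI := isCharacter_indFun N (isCharacter_of_isIrr hχ)
  choose m hm using fun ψ : IrrCharacter G => classInner_char_irr_nat hI ψ
  choose a ha using fun ψ : IrrCharacter G =>
    classInner_isCharacter (isCharacter_comp (isCharacter_irr ψ) N.subtype) (isCharacter_of_isIrr hφ)
  have h0 : classInner (fun n : N => indFun N χ n) φ = 0 := by
    rw [classInner_restrict_indFun N hχ hφ]
    have : IsEmpty {x : G // conjFun N χ x = φ} := ⟨fun x => hnot x.1 x.2⟩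
    simp
  have he : (fun n : N => indFun N χ n) = ∑ ψ : IrrCharacter G, (m ψ : ℂ) • (fun n : N => (ψ : G → ℂ) n) := by
    funext n
    conv_lhs => rw [classFun_expand (isClassFunction_indFun N χ)]
    simp [hm, Finset.sum_apply]
  rw [he, classInner_sum_left] at h0
  have h1 : ∑ ψ : IrrCharacter G, m ψ * a ψ = 0 := by
    have : ((∑ ψ : IrrCharacter G, m ψ * a ψ : ℕ) : ℂ) = 0 := by
      rw [← h0, Nat.cast_sum]
      refine Finset.sum_congr rfl fun ψ _ => ?_
      rw [classInner_smul_left, Nat.cast_mul, ← ha]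
      rfl
    exact_mod_cast this
  have h2 := Finset.sum_eq_zero_iff.mp h1 ⟨θ, hθ⟩ (Finset.mem_univ _)
  have hm0 : m ⟨θ, hθ⟩ ≠ 0 := fun e => hconst (by
    rw [← classInner_conj]
    have := hm ⟨θ, hθ⟩
    rw [e, Nat.cast_zero, classInner_indFun N χ _ (isClassFunction_irr ⟨θ, hθ⟩)] at this
    rw [this, map_zero])
  rcases Nat.mul_eq_zero.mp h2 with e | e
  · exact absurd e hm0
  · exact (ha ⟨θ, hθ⟩).trans (by rw [e, Nat.cast_zero])

theorem classInner_restrict_conj {θ : G → ℂ} (hθ : IsClassFunction G θ) (χ : N → ℂ) (g : G) :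
    classInner (fun n : N => θ n) (conjFun N χ g) = classInner (fun n : N => θ n) χ := by
  conv_lhs => rw [← conjFun_coe_of_classFun N hθ g]
  rw [classInner_conjFun]

/-- Clifford's theorem. -/
theorem clifford {θ : G → ℂ} (hθ : IsIrrCharacter G θ) {χ : N → ℂ} (hχ : IsIrrCharacter N χ)
    (hconst : classInner (fun n : N => θ n) χ ≠ 0) :
    (fun n : N => θ n) = classInner (fun n : N => θ n) χ •
      ∑ᶠ ψ ∈ {ψ : N → ℂ | ∃ g : G, ψ = conjFun N χ g}, ψ := by
  classical
  have hcl := isClassFunction_of_isCharacter (isCharacter_of_isIrr hθ)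
  have := Fintype.ofFinite (IrrCharacter N)
  have hset : {ψ : N → ℂ | ∃ g : G, ψ = conjFun N χ g} =
      Subtype.val '' (↑(Finset.univ.filter fun ψ : IrrCharacter N =>
        ∃ g : G, (ψ : N → ℂ) = conjFun N χ g) : Set (IrrCharacter N)) := by
    ext ψ
    constructor
    · rintro ⟨g, rfl⟩
      exact ⟨⟨_, isIrrCharacter_conjFun N hχ g⟩, by simp, rfl⟩
    · rintro ⟨φ, hφ, rfl⟩
      simpa using hφ
  rw [hset, finsum_mem_image Subtype.val_injective.injOn, finsum_mem_coe_finset, Finset.smul_sum]
  conv_lhs => rw [classFun_expand (f := fun n : N => θ n)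
    (isClassFunction_of_isCharacter (isCharacter_comp (isCharacter_of_isIrr hθ) N.subtype))]
  rw [Finset.sum_filter]
  refine Finset.sum_congr rfl fun ψ _ => ?_
  split_ifs with h
  · obtain ⟨g, hg⟩ := h
    rw [hg, classInner_restrict_conj N hcl]
  · rw [classInner_restrict_zero N hθ hχ ψ.2 hconst fun g e => h ⟨g, e.symm⟩, zero_smul]

/-- Clifford's theorem, multiplied out: `|T| • θ_N = e |N| • (ind χ)_N`. -/
theorem clifford_smul {θ : G → ℂ} (hθ : IsIrrCharacter G θ) {χ : N → ℂ} (hχ : IsIrrCharacter N χ)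
    (hconst : classInner (fun n : N => θ n) χ ≠ 0) :
    (Nat.card (inertia N χ) : ℂ) • (fun n : N => θ n) =
      (classInner (fun n : N => θ n) χ * (Nat.card N : ℂ)) • (fun n : N => indFun N χ n) := by
  classical
  have hres : ∀ {f : G → ℂ}, IsClassFunction G f → IsClassFunction N (fun n : N => f n) :=
    fun {f} hf a b => hf a b
  have hcl := isClassFunction_of_isCharacter (isCharacter_of_isIrr hθ)
  have h1 : IsClassFunction N ((Nat.card (inertia N χ) : ℂ) • (fun n : N => θ n)) := fun a b => by
    simp only [Pi.smul_apply, hres hcl a b]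
  have h2 : IsClassFunction N ((classInner (fun n : N => θ n) χ * (Nat.card N : ℂ)) •
      (fun n : N => indFun N χ n)) := fun a b => by
    simp only [Pi.smul_apply, hres (isClassFunction_indFun N χ) a b]
  refine classFun_ext h1 h2 fun ψ => ?_
  rw [classInner_smul_left, classInner_smul_left, classInner_restrict_indFun N hχ ψ.2]
  by_cases h : ∃ g : G, conjFun N χ g = (ψ : N → ℂ)
  · obtain ⟨g, hg⟩ := h
    rw [← hg, classInner_restrict_conj N hcl, card_fiber_conjFun]
    have : (Nat.card N : ℂ) ≠ 0 := by exact_mod_cast Nat.card_pos.ne'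
    field_simp
  · rw [classInner_restrict_zero N hθ hχ ψ.2 hconst fun g e => h ⟨g, e⟩]
    have : IsEmpty {x : G // conjFun N χ x = (ψ : N → ℂ)} := ⟨fun x => h ⟨x.1, x.2⟩⟩
    simp

theorem card_smul_classInner_indFun_self {θ : N → ℂ} (hθ : IsIrrCharacter N θ) :
    (Nat.card N : ℂ) * classInner (indFun N θ) (indFun N θ) = (Nat.card (inertia N θ) : ℂ) := by
  rw [classInner_indFun_right _ _ _ (isClassFunction_indFun _ _), classInner_restrict_indFun N hθ hθ,
    ← mul_assoc, mul_inv_cancel₀ (by exact_mod_cast Nat.card_pos.ne'), one_mul]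
  rfl

end CfsgLib.Char
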