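import Cfsg.Agent.Lib.Char.Clifford
import Cfsg.Agent.Lib.Char.Linear
import Cfsg.Agent.Lib.Char.Orthogonality

/-!
# Invariant characters above and below an invariant one, coprime actions

`A` acts coprimely on an abelian group of linear characters which is transitive on the characters
over a given one.
-/

open Finset
open scoped ComplexConjugate

set_option linter.unusedSectionVars false

namespace CfsgLib.Char

open Cfsg

universe u

/-- A transitive action of a commutative group, acted on compatibly by a group of coprime order,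
has a common fixed point. -/
theorem exists_fixed_of_abelian_transitive {A Lam Ω : Type*} [Group A] [Finite A] [CommGroup Lam]
    [Finite Lam] [MulAction Lam Ω] (φ : A →* MulAut Lam) (act : A → Ω → Ω)
    (hmul : ∀ a b ω, act (a * b) ω = act a (act b ω))
    (hcompat : ∀ a (l : Lam) ω, act a (l • ω) = φ a l • act a ω)
    (htrans : ∀ ω ω' : Ω, ∃ l : Lam, l • ω = ω')
    (hcop : (Nat.card Lam).Coprime (Nat.card A)) (ω : Ω) :
    ∃ ω' : Ω, ∀ a, act a ω' = ω' := by
  classical
  have := Fintype.ofFinite A
  choose c hc using fun a => htrans ω (act a ω)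
  set L := MulAction.stabilizer Lam ω with hL
  have hLφ : ∀ a, ∀ l ∈ L, φ a l ∈ L := fun a l hl => by
    rw [hL, MulAction.mem_stabilizer_iff] at hl ⊢
    have h := hcompat a l ω
    rw [hl, ← hc a, smul_smul, mul_comm, ← smul_smul, eq_comm] at h
    exact (MulAction.injective (c a)) h
  have hcocycle : ∀ a b, (c (a * b))⁻¹ * (φ a (c b) * c a) ∈ L := fun a b => by
    rw [hL, MulAction.mem_stabilizer_iff, ← smul_smul, ← smul_smul, hc, ← hcompat, hc, ← hmul, ← hc,
      inv_smul_smul]
  set P := ∏ b, c b with hP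
  have hstep : ∀ a, P⁻¹ * (φ a P * c a ^ Fintype.card A) ∈ L := fun a => by
    have h := prod_mem fun b (_ : b ∈ Finset.univ) => hcocycle a b
    rw [Finset.prod_mul_distrib, Finset.prod_mul_distrib, Finset.prod_inv_distrib, ← map_prod,
      Finset.prod_const, Finset.card_univ,
      Fintype.prod_bijective (fun b => a * b) (Group.mulLeft_bijective a) (fun b => c (a * b)) c
        fun _ => rfl] at h
    exact h
  set n := Fintype.card A
  obtain ⟨m, hm⟩ : ∃ m : ℕ, ∀ l : Lam, (l ^ n) ^ m = l := by
    have hcop' : n.Coprime (Nat.card Lam) := by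
      rw [show n = Nat.card A from Nat.card_eq_fintype_card.symm]; exact hcop.symm
    rcases (Nat.one_le_iff_ne_zero.mpr Nat.card_pos.ne' : 1 ≤ Nat.card Lam).eq_or_lt with h1 | h1
    · have := (Nat.card_eq_one_iff_unique.mp h1.symm).1
      exact ⟨0, fun l => Subsingleton.elim _ _⟩
    · obtain ⟨m, -, hm⟩ := Nat.exists_mul_mod_eq_one_of_coprime hcop' h1
      exact ⟨m, fun l => by rw [← pow_mul, ← pow_mod_natCard, hm, pow_one]⟩
  refine ⟨P ^ m • ω, fun a => ?_⟩
  have h := pow_mem (hstep a) m
  rw [mul_pow, mul_pow, inv_pow, ← map_pow, hm, hL, MulAction.mem_stabilizer_iff, ← smul_smul,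
    inv_smul_eq_iff] at h
  rw [hcompat, ← hc, smul_smul, h]

variable {G : Type u} [Group G] [Finite G] (K : Subgroup G) [K.Normal]

/-- Linear characters trivial on `K`. -/
def linearOver : Subgroup (G →* ℂˣ) where
  carrier := {f | ∀ k ∈ K, f k = 1}
  one_mem' := fun k _ => rfl
  mul_mem' := fun ha hb k hk => by rw [MonoidHom.mul_apply, ha k hk, hb k hk, one_mul]
  inv_mem' := fun ha k hk => by rw [MonoidHom.inv_apply, ha k hk, inv_one]

theorem mem_linearOver {f : G →* ℂˣ} : f ∈ linearOver K ↔ ∀ k ∈ K, f k = 1 := Iff.rfl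

theorem card_linearOver (hK : ∀ a b : G, a * b * a⁻¹ * b⁻¹ ∈ K) :
    Nat.card (linearOver K) = K.index := by
  letI : CommGroup (G ⧸ K) :=
    { (inferInstance : Group (G ⧸ K)) with
      mul_comm := fun x y => by
        obtain ⟨a, rfl⟩ := QuotientGroup.mk_surjective x
        obtain ⟨b, rfl⟩ := QuotientGroup.mk_surjective y
        rw [← QuotientGroup.mk_mul, ← QuotientGroup.mk_mul, QuotientGroup.eq]
        have := hK b⁻¹ a⁻¹
        simpa [mul_assoc] using this }
  rw [Subgroup.index_eq_card, ← CommGroup.card_monoidHom_of_hasEnoughRootsOfUnity (G ⧸ K) ℂ]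
  exact Nat.card_congr
    { toFun := fun f => QuotientGroup.lift K f.1 fun k hk => f.2 k hk
      invFun := fun φ => ⟨φ.comp (QuotientGroup.mk' K), fun k hk => by
        show φ (QuotientGroup.mk' K k) = 1
        rw [QuotientGroup.mk'_apply, (QuotientGroup.eq_one_iff k).mpr hk, map_one]⟩
      left_inv := fun f => Subtype.ext (MonoidHom.ext fun g => rfl)
      right_inv := fun φ => MonoidHom.ext fun q => by
        obtain ⟨g, rfl⟩ := QuotientGroup.mk_surjective q; rfl }

theorem sum_linearOver (hK : ∀ a b : G, a * b * a⁻¹ * b⁻¹ ∈ K) [Fintype (linearOver K)] (g : G)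
    [Decidable (g ∈ K)] :
    ∑ f : linearOver K, ((f : G →* ℂˣ) g : ℂ) = if g ∈ K then (K.index : ℂ) else 0 := by
  split_ifs with hg
  · rw [Finset.sum_congr rfl (g := fun _ => (1 : ℂ)) fun f _ => by rw [f.2 g hg, Units.val_one],
      Finset.sum_const, Finset.card_univ, ← Nat.card_eq_fintype_card, card_linearOver K hK,
      nsmul_one]
  · obtain ⟨φ, hφ⟩ : ∃ φ : linearOver K, (φ : G →* ℂˣ) g ≠ 1 := by
      letI : CommGroup (G ⧸ K) :=
        { (inferInstance : Group (G ⧸ K)) with
          mul_comm := fun x y => by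
            obtain ⟨a, rfl⟩ := QuotientGroup.mk_surjective x
            obtain ⟨b, rfl⟩ := QuotientGroup.mk_surjective y
            rw [← QuotientGroup.mk_mul, ← QuotientGroup.mk_mul, QuotientGroup.eq]
            have := hK b⁻¹ a⁻¹
            simpa [mul_assoc] using this }
      obtain ⟨φ, hφ⟩ := CommGroup.exists_apply_ne_one_of_hasEnoughRootsOfUnity (G ⧸ K) ℂ
        (a := (g : G ⧸ K)) fun h => hg ((QuotientGroup.eq_one_iff g).mp h)
      exact ⟨⟨φ.comp (QuotientGroup.mk' K), fun k hk => by
        show φ (QuotientGroup.mk' K k) = 1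
        rw [QuotientGroup.mk'_apply, (QuotientGroup.eq_one_iff k).mpr hk, map_one]⟩, hφ⟩
    set T := ∑ f : linearOver K, ((f : G →* ℂˣ) g : ℂ) with hT
    have h : ((φ : G →* ℂˣ) g : ℂ) * T = T := by
      rw [hT, Finset.mul_sum]
      exact Fintype.sum_bijective (fun f => φ * f) (Group.mulLeft_bijective φ) _ _ fun f => by
        rw [Subgroup.coe_mul, MonoidHom.mul_apply, Units.val_mul]
    by_contra hne
    exact hφ (Units.ext ((mul_eq_right₀ hne).mp h))

theorem isIrrCharacter_mul_linear (χ : IrrCharacter G) (f : G →* ℂˣ) :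
    IsIrrCharacter G (fun g => (f g : ℂ) * (χ : G → ℂ) g) := by
  have := Fintype.ofFinite G
  refine isIrr_of_isCharacter_norm_one (isCharacter_mul (isCharacter_of_isIrr (isIrrCharacter_lin f))
    (isCharacter_irr χ)) ?_
  rw [← classInner_irr_self χ, classInner, classInner]
  refine congrArg _ (Finset.sum_congr rfl fun g _ => ?_)
  rw [map_mul]
  have h : (f g : ℂ) * conj (f g : ℂ) = 1 := by
    rw [Complex.mul_conj', Complex.norm_eq_one_of_pow_eq_one (n := Nat.card G) ?_ Nat.card_pos.ne',
      Complex.ofReal_one, one_pow]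
    rw [← Units.val_pow_eq_pow_val, ← map_pow, pow_card_eq_one', map_one, Units.val_one]
  linear_combination ((χ : G → ℂ) g * conj ((χ : G → ℂ) g)) * h

/-- Multiplication of an irreducible character by a linear one. -/
noncomputable def linMul (f : G →* ℂˣ) (χ : IrrCharacter G) : IrrCharacter G :=
  ⟨fun g => (f g : ℂ) * (χ : G → ℂ) g, isIrrCharacter_mul_linear χ f⟩

/-- Over an abelian quotient, two characters with a common constituent differ by a linear one. -/
theorem exists_linMul_eq [Fintype G] [Fintype K] (hK : ∀ a b : G, a * b * a⁻¹ * b⁻¹ ∈ K)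
    {χ χ' : IrrCharacter G} {θ : IrrCharacter K}
    (h : classInner (fun k : K => (χ : G → ℂ) k) (θ : K → ℂ) ≠ 0)
    (h' : classInner (fun k : K => (χ' : G → ℂ) k) (θ : K → ℂ) ≠ 0) :
    ∃ f ∈ linearOver K, linMul f χ = χ' := by
  classical
  have := Fintype.ofFinite (linearOver K)
  have := Fintype.ofFinite (IrrCharacter K)
  have hcl : ∀ ξ : IrrCharacter G, IsClassFunction K (fun k : K => (ξ : G → ℂ) k) := fun ξ a b =>
    isClassFunction_irr ξ (a : G) (b : G)
  have hnat : ∀ (ξ : IrrCharacter G) (η : IrrCharacter K),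
      ∃ m : ℕ, classInner (fun k : K => (ξ : G → ℂ) k) (η : K → ℂ) = m := fun ξ η =>
    classInner_char_irr_nat (isCharacter_comp (isCharacter_irr ξ) K.subtype) η
  choose a ha using hnat χ
  choose b hb using hnat χ'
  have hne : classInner (fun k : K => (χ' : G → ℂ) k) (fun k : K => (χ : G → ℂ) k) ≠ 0 := by
    rw [classFun_expand (hcl χ), classInner_sum_right,
      Finset.sum_congr rfl (g := fun η => ((a η * b η : ℕ) : ℂ)) fun η _ => by
        rw [classInner_smul_right, ha, hb, map_natCast, Nat.cast_mul],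
      ← Nat.cast_sum, Nat.cast_ne_zero]
    have hpos : 0 < a θ * b θ := Nat.mul_pos
      (Nat.pos_of_ne_zero fun e => h (by rw [ha, e, Nat.cast_zero]))
      (Nat.pos_of_ne_zero fun e => h' (by rw [hb, e, Nat.cast_zero]))
    exact (lt_of_lt_of_le hpos (Finset.single_le_sum (f := fun η => a η * b η)
      (fun _ _ => Nat.zero_le _) (Finset.mem_univ θ))).ne'
  by_contra hno
  push Not at hno
  apply hne
  have hkey : ∑ f : linearOver K, conj (classInner (χ' : G → ℂ) (linMul f χ : G → ℂ)) =
      conj ((Nat.card K : ℂ) * (Nat.card G : ℂ)⁻¹ * (K.index : ℂ) *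
        classInner (fun k : K => (χ' : G → ℂ) k) (fun k : K => (χ : G → ℂ) k)) := by
    simp only [classInner, map_mul, map_inv₀, map_natCast, map_sum, linMul, Complex.conj_conj]
    rw [← Finset.mul_sum, Finset.sum_comm]
    have hinner : ∀ g : G,
        ∑ f : linearOver K, conj ((χ' : G → ℂ) g) * ((((f : G →* ℂˣ) g : ℂ)) * (χ : G → ℂ) g) =
        (if g ∈ K then (K.index : ℂ) * (conj ((χ' : G → ℂ) g) * (χ : G → ℂ) g) else 0) := fun g => by
      rw [← Finset.mul_sum, ← Finset.sum_mul, sum_linearOver K hK]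
      split_ifs <;> ring
    rw [Finset.sum_congr rfl fun g _ => hinner g, ← Finset.sum_filter,
      Finset.sum_subtype (p := fun g => g ∈ K) _ (fun g => by simp), ← Finset.mul_sum]
    field_simp
  rw [Finset.sum_eq_zero fun f _ => by
    rw [classInner_irr_ne (fun e => hno f f.2 e.symm), map_zero]] at hkey
  have hkey' := congrArg conj hkey.symm
  rw [Complex.conj_conj, map_zero, mul_eq_zero] at hkey'
  refine hkey'.resolve_left ?_
  simp [Nat.card_pos.ne', Subgroup.index_ne_zero_of_finite]

end CfsgLib.Char
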