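import Cfsg.Agent.Lib.Char.Ramified
import Cfsg.Agent.Lib.Char.DegreeRatio
import Cfsg.Agent.Lib.Char.InvariantAbove
import Cfsg.Agent.Lib.Char.Inertia
import Cfsg.Agent.Lib.Char.Linear
import Cfsg.Agent.Lib.Char.Determine
import Cfsg.Agent.Lib.Block.CentralDefect
import Cfsg.Agent.Lib.Block.Defect
import Cfsg.Agent.Lib.Coprime.MinimalNonNilpotent
import Cfsg.Agent.Lib.Invol.PrincipalBlock

/-!
# Soluble linear groups with a non-normal Sylow subgroup

The degree of a faithful irreducible character has a prime power divisor congruent to `-1, 0, 1`.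
-/

open scoped ComplexConjugate

set_option autoImplicit false
set_option linter.unusedSectionVars false

namespace CfsgLib.Char.LinearSylow

open Cfsg CfsgLib.Char

universe u

variable {G : Type u} [Group G] [Finite G] {p : ℕ} [hp : Fact p.Prime]

/-- The subgroup generated by the `p`-elements of `L`. -/
def pGen (p : ℕ) (L : Subgroup G) : Subgroup G :=
  Subgroup.closure {y | y ∈ L ∧ ∃ k : ℕ, y ^ p ^ k = 1}

theorem pGen_le (L : Subgroup G) : pGen p L ≤ L := (Subgroup.closure_le _).2 fun _ h => h.1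

theorem mem_pGen {L : Subgroup G} {y : G} (hy : y ∈ L) {k : ℕ} (hk : y ^ p ^ k = 1) : y ∈ pGen p L :=
  Subgroup.subset_closure ⟨hy, k, hk⟩

theorem mem_pGen_of_isPGroup {L Q : Subgroup G} (hQ : IsPGroup p Q) {y : G} (hyQ : y ∈ Q) (hy : y ∈ L) :
    y ∈ pGen p L := by
  obtain ⟨k, hk⟩ := hQ ⟨y, hyQ⟩
  exact mem_pGen hy (k := k) (congrArg Subtype.val hk)

theorem pGen_normal (L : Subgroup G) [hL : L.Normal] : (pGen p L).Normal := by
  refine ⟨fun n hn g => ?_⟩
  unfold pGen at hn ⊢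
  induction hn using Subgroup.closure_induction with
  | mem x hx =>
      obtain ⟨hxL, k, hk⟩ := hx
      exact Subgroup.subset_closure ⟨hL.conj_mem x hxL g, k, by rw [conj_pow, hk, mul_one, mul_inv_cancel]⟩
  | one => simp
  | mul x y _ _ hx hy => simpa [mul_assoc] using mul_mem hx hy
  | inv x _ hx => simpa [mul_assoc] using inv_mem hx

/-- The degree of a constituent divides the degree. -/
theorem charDegree_dvd_of_inner [Fintype G] (L : Subgroup G) [L.Normal] [Fintype L] (χ : IrrCharacter G)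
    (ψ : IrrCharacter L) (h : classInner (fun l : L => (χ : G → ℂ) l) (ψ : L → ℂ) ≠ 0) :
    charDegree (ψ : L → ℂ) ∣ charDegree (χ : G → ℂ) :=
  (ratio_dvd_index L χ.2 ψ.2 h (Block.charDegree_eq χ).1 (Block.charDegree_eq ψ).1).1

/-- Equal values at all constituents give equal value. -/
theorem eq_one_value {A : Type u} [Group A] [Fintype A] {f : A → ℂ} (hf : IsClassFunction A f) {z : A}
    (h : ∀ ψ : IrrCharacter A, classInner f (ψ : A → ℂ) ≠ 0 → (ψ : A → ℂ) z = (ψ : A → ℂ) 1) :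
    f z = f 1 := by
  classical
  haveI := Fintype.ofFinite (IrrCharacter A)
  rw [classFun_expand hf]
  simp only [Finset.sum_apply, Pi.smul_apply, smul_eq_mul]
  refine Finset.sum_congr rfl fun ψ _ => ?_
  by_cases h0 : classInner f (ψ : A → ℂ) = 0
  · simp [h0]
  · rw [h ψ h0]

/-- A normal `p`-subgroup of a group with a faithful character of degree prime to `p` is abelian. -/
theorem abelian_of_normal (A : Subgroup G) [A.Normal] (hA : IsPGroup p A) (χ : IrrCharacter G)
    (hfaith : ∀ g : G, (χ : G → ℂ) g = (χ : G → ℂ) 1 → g = 1)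
    (hpn : ¬ p ∣ charDegree (χ : G → ℂ)) : ∀ a ∈ A, ∀ b ∈ A, a * b = b * a := by
  classical
  letI := Fintype.ofFinite G
  letI := Fintype.ofFinite A
  intro a ha b hb
  let a' : A := ⟨a, ha⟩
  let b' : A := ⟨b, hb⟩
  have hval : (χ : G → ℂ) ((a' * b' * a'⁻¹ * b'⁻¹ : A) : G) = (χ : G → ℂ) ((1 : A) : G) := by
    refine eq_one_value (f := fun x : A => (χ : G → ℂ) x)
      (isClassFunction_of_isCharacter (isCharacter_comp (isCharacter_irr χ) A.subtype)) fun ψ hψ => ?_
    obtain ⟨j, hj⟩ := IsPGroup.iff_card.1 hA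
    obtain ⟨i, -, hi⟩ := (Nat.dvd_prime_pow hp.out).1
      (hj ▸ degree_dvd_card ψ (Block.charDegree_eq ψ).1)
    have h1 : (ψ : A → ℂ) 1 = 1 := by
      rw [(Block.charDegree_eq ψ).1, hi]
      rcases i with _ | i
      · simp
      · exact absurd ((dvd_pow_self p i.succ_ne_zero).trans (hi ▸ charDegree_dvd_of_inner A χ ψ hψ)) hpn
    obtain ⟨f, hf⟩ := exists_hom_of_linear (isCharacter_irr ψ) h1
    rw [hf]
    simp only [map_mul, map_inv]
    congr 1
    rw [mul_comm (f a') (f b'), mul_inv_cancel_right, mul_inv_cancel, map_one]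
  have hc : a * b * a⁻¹ * b⁻¹ = 1 := hfaith _ (by simpa [a', b'] using hval)
  calc a * b = a * b * a⁻¹ * b⁻¹ * (b * a) := by group
    _ = b * a := by rw [hc, one_mul]

/-- A nontrivial group with fixed-point-free `p`-group action has order one mod `p`: applied to
invariant groups of linear characters. -/
theorem card_dual_modEq (P N : Subgroup G) [N.Normal] (hP : IsPGroup p P) (Λ : Subgroup (N →* ℂˣ))
    (hinv : ∀ g ∈ P, ∀ f ∈ Λ, f.comp (normalConjHom N g) ∈ Λ)
    (hfix : ∀ f ∈ Λ, (∀ g ∈ P, f.comp (normalConjHom N g) = f) → f = 1) [Finite Λ] :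
    Nat.card Λ ≡ 1 [MOD p] := by
  letI : MulAction P Λ :=
    { smul := fun g f => ⟨f.1.comp (normalConjHom N (g⁻¹ : P)), hinv _ (g⁻¹ : P).2 _ f.2⟩
      one_smul := fun f => Subtype.ext (MonoidHom.ext fun n => congrArg f.1 (Subtype.ext (by
        show (((1 : P)⁻¹ : P) : G) * n * (((1 : P)⁻¹ : P) : G)⁻¹ = n
        simp)))
      mul_smul := fun g h f => Subtype.ext (MonoidHom.ext fun n => congrArg f.1 (Subtype.ext (by
        show (((g * h)⁻¹ : P) : G) * n * (((g * h)⁻¹ : P) : G)⁻¹ =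
          ((h⁻¹ : P) : G) * (((g⁻¹ : P) : G) * n * ((g⁻¹ : P) : G)⁻¹) * ((h⁻¹ : P) : G)⁻¹
        simp [mul_assoc]))) }
  have h := hP.card_modEq_card_fixedPoints Λ
  have e : Nat.card (MulAction.fixedPoints P Λ) = 1 := by
    refine Nat.card_eq_one_iff_unique.2 ⟨⟨fun a b => ?_⟩, ⟨⟨1, fun g => Subtype.ext ?_⟩⟩⟩
    · have key : ∀ f : MulAction.fixedPoints P Λ, (f.1.1 : N →* ℂˣ) = 1 := fun f =>
        hfix _ f.1.2 fun g hg => by
          have h1 := congrArg Subtype.val (f.2 (⟨g, hg⟩⁻¹ : P))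
          change f.1.1.comp (normalConjHom N (((⟨g, hg⟩ : P)⁻¹)⁻¹ : P)) = f.1.1 at h1
          simpa using h1
      exact Subtype.ext (Subtype.ext ((key a).trans (key b).symm))
    · show (1 : N →* ℂˣ).comp _ = 1
      exact MonoidHom.ext fun _ => rfl
  rwa [e] at h

/-- An irreducible restriction forces irreducibility. -/
theorem isIrr_of_res [Fintype G] (L : Subgroup G) [Fintype L] {f : G → ℂ} (hf : IsCharacter G f)
    (hL : IsIrrCharacter L fun l : L => f l) : IsIrrCharacter G f := by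
  classical
  have hf0 : f ≠ 0 := fun h => by
    obtain ⟨d, hd, hde⟩ := isIrrCharacter_degree hL
    rw [h] at hde
    rw [Pi.zero_apply, eq_comm, Nat.cast_eq_zero] at hde
    exact hd.ne' hde
  obtain ⟨η, hη⟩ := exists_irr_inner_ne_zero hf hf0
  let ψ : IrrCharacter L := ⟨_, hL⟩
  have hηL : IsCharacter L fun l : L => (η : G → ℂ) l := isCharacter_comp (isCharacter_irr η) L.subtype
  have hDL : IsCharacter L fun l : L => (f - (η : G → ℂ)) l :=
    isCharacter_comp (isCharacter_sub_constituent hf η hη) L.subtype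
  obtain ⟨ξ, hξ⟩ := exists_irr_inner_ne_zero hηL fun h => irr_one_ne_zero η (congrFun h 1)
  obtain ⟨a, ha⟩ := classInner_char_irr_nat hηL ξ
  obtain ⟨b, hb⟩ := classInner_char_irr_nat hDL ξ
  have hsum : classInner (ψ : L → ℂ) (ξ : L → ℂ) = ((a + b : ℕ) : ℂ) := by
    rw [show (ψ : L → ℂ) = (fun l : L => (η : G → ℂ) l) + fun l : L => (f - (η : G → ℂ)) l from
      funext fun l => by show f l = (η : G → ℂ) l + (f l - (η : G → ℂ) l); ring,
      classInner_add_left, ha, hb, Nat.cast_add]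
  have hξψ : ξ = ψ := by
    by_contra hne
    rw [classInner_irr_ne (Ne.symm hne), eq_comm, Nat.cast_eq_zero] at hsum
    exact hξ (by rw [ha, show a = 0 by omega, Nat.cast_zero])
  subst hξψ
  obtain ⟨n, hn⟩ := isCharacter_degree hf
  have hψ1 : (ψ : L → ℂ) 1 = (n : ℂ) := by show f ((1 : L) : G) = _; rw [OneMemClass.coe_one, hn]
  have hle := (degree_le_of_constituent hηL ψ hξ
    (a := charDegree (η : G → ℂ)) (by
      show (η : G → ℂ) ((1 : L) : G) = _
      rw [OneMemClass.coe_one, (Block.charDegree_eq η).1]) hψ1).1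
  obtain ⟨-, heq⟩ := degree_le_of_constituent hf η hη hn (Block.charDegree_eq η).1
  have hge := (degree_le_of_constituent hf η hη hn (Block.charDegree_eq η).1).1
  rw [heq (by omega)]
  exact η.2

/-- Restriction to a normal subgroup of prime index not dividing the degree is irreducible. -/
theorem isIrr_res_prime [Fintype G] (N : Subgroup G) [N.Normal] [Fintype N] (hN : N.index = p)
    (χ : IrrCharacter G) (hpn : ¬ p ∣ charDegree (χ : G → ℂ)) :
    IsIrrCharacter N fun x : N => (χ : G → ℂ) x := by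
  have hf : IsCharacter N fun x : N => (χ : G → ℂ) x := isCharacter_comp (isCharacter_irr χ) N.subtype
  obtain ⟨θ, hθ⟩ := exists_irr_inner_ne_zero hf fun h => irr_one_ne_zero χ (congrFun h 1)
  obtain ⟨hd, hr⟩ := ratio_dvd_index N χ.2 θ.2 hθ (Block.charDegree_eq χ).1 (Block.charDegree_eq θ).1
  rw [hN] at hr
  have h1 : charDegree (θ : N → ℂ) = charDegree (χ : G → ℂ) := by
    rcases (Nat.dvd_prime hp.out).1 hr with h | h
    · exact Nat.eq_of_dvd_of_div_eq_one hd h
    · exact absurd (h ▸ Nat.div_dvd_of_dvd hd) hpn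
  obtain ⟨-, heq⟩ := degree_le_of_constituent hf θ hθ (a := charDegree (χ : G → ℂ)) (by
    show (χ : G → ℂ) ((1 : N) : G) = _
    rw [OneMemClass.coe_one, (Block.charDegree_eq χ).1]) (Block.charDegree_eq θ).1
  rw [heq h1.symm]
  exact θ.2

/-- The conclusion. -/
def Good (p n : ℕ) : Prop :=
  ∃ q : ℕ, IsPrimePow q ∧ q ∣ n ∧
    ((q : ℤ) ≡ -1 [ZMOD p] ∨ (q : ℤ) ≡ 0 [ZMOD p] ∨ (q : ℤ) ≡ 1 [ZMOD p])

theorem Good.of_dvd {n m : ℕ} (h : Good p n) (hd : n ∣ m) : Good p m := by
  obtain ⟨q, h1, h2, h3⟩ := h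
  exact ⟨q, h1, h2.trans hd, h3⟩

/-- The statement at one group. -/
def Holds (p : ℕ) (G : Type u) [Group G] : Prop :=
  Group.IsSolvable G → ∀ χ : IrrCharacter G, (∀ g : G, (χ : G → ℂ) g = (χ : G → ℂ) 1 → g = 1) →
    (∃ P : Sylow p G, ¬ (P : Subgroup G).Normal) → Good p (charDegree (χ : G → ℂ))

/-- The `p`-elements of a proper normal subgroup generate a `p`-group. -/
theorem isPGroup_pGen [Group.IsSolvable G] (χ : IrrCharacter G)
    (hfaith : ∀ g : G, (χ : G → ℂ) g = (χ : G → ℂ) 1 → g = 1)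
    (hbad : ¬ Good p (charDegree (χ : G → ℂ)))
    (ih : ∀ (K : Type u) [Group K] [Finite K], Nat.card K < Nat.card G → Holds p K)
    (L : Subgroup G) [L.Normal] (hL : L ≠ ⊤) : IsPGroup p (pGen p L) := by
  classical
  letI := Fintype.ofFinite G
  letI := Fintype.ofFinite L
  have hlt : Nat.card L < Nat.card G := lt_of_le_of_ne (Subgroup.card_le_card_group L)
    fun e => hL (Subgroup.eq_top_of_card_eq L e)
  intro y
  refine ⟨(Nat.card G).factorization p, Subtype.ext ?_⟩
  have hyL : (y : G) ∈ L := pGen_le L y.2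
  rw [SubgroupClass.coe_pow, OneMemClass.coe_one]
  refine hfaith _ ?_
  have key := eq_one_value (f := fun l : L => (χ : G → ℂ) l)
    (isClassFunction_of_isCharacter (isCharacter_comp (isCharacter_irr χ) L.subtype))
    (z := (⟨y, hyL⟩ : L) ^ p ^ (Nat.card G).factorization p) fun ψ hψ => ?_
  · simpa using key
  obtain ⟨K, hK, hmem⟩ := Invol.exists_charKernel ψ
  haveI := hK
  obtain ⟨ψ', hψ'⟩ := Block.exists_deflate (N := K) ψ fun z hz => (hmem z).1 hz
  have hfaith' : ∀ x : L ⧸ K, (ψ' : L ⧸ K → ℂ) x = (ψ' : L ⧸ K → ℂ) 1 → x = 1 := fun x hx => by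
    obtain ⟨l, rfl⟩ := QuotientGroup.mk_surjective x
    rw [← QuotientGroup.mk_one, hψ', hψ'] at hx
    exact (QuotientGroup.eq_one_iff l).2 ((hmem l).2 hx)
  have hdeg : charDegree (ψ' : L ⧸ K → ℂ) = charDegree (ψ : L → ℂ) := by
    simp only [charDegree, ← hψ' 1, QuotientGroup.mk_one]
  have hcard : Nat.card (L ⧸ K) < Nat.card G :=
    lt_of_le_of_lt (Nat.le_of_dvd Nat.card_pos (Subgroup.card_quotient_dvd_card K)) hlt
  have hnorm : ∀ Q : Sylow p (L ⧸ K), (Q : Subgroup (L ⧸ K)).Normal := fun Q => by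
    by_contra hQ
    exact hbad ((ih (L ⧸ K) hcard inferInstance ψ' hfaith' ⟨Q, hQ⟩).of_dvd
      (hdeg.symm ▸ charDegree_dvd_of_inner L χ ψ hψ))
  let Q : Sylow p (L ⧸ K) := default
  haveI := hnorm Q
  haveI := Sylow.unique_of_normal Q (hnorm Q)
  have hle : (pGen p L).subgroupOf L ≤ (Q : Subgroup (L ⧸ K)).comap (QuotientGroup.mk' K) := by
    rw [← Subgroup.map_subtype_le_map_subtype, Subgroup.subgroupOf_map_subtype,
      inf_of_le_left (pGen_le L)]
    refine (Subgroup.closure_le _).2 ?_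
    rintro z ⟨hz, k, hk⟩
    refine ⟨⟨z, hz⟩, ?_, rfl⟩
    have hzp : IsPGroup p (Subgroup.zpowers (QuotientGroup.mk' K ⟨z, hz⟩)) := by
      obtain ⟨j, -, hj⟩ := (Nat.dvd_prime_pow hp.out).1
        (show orderOf (QuotientGroup.mk' K ⟨z, hz⟩) ∣ p ^ k from orderOf_dvd_of_pow_eq_one (by
          rw [← map_pow, show (⟨z, hz⟩ : L) ^ p ^ k = 1 from Subtype.ext hk, map_one]))
      exact IsPGroup.of_card (n := j) (by rw [Nat.card_zpowers, hj])
    obtain ⟨Q', hQ'⟩ := hzp.exists_le_sylow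
    exact (Subsingleton.elim Q' Q) ▸ hQ' (Subgroup.mem_zpowers _)
  have hq : QuotientGroup.mk' K ⟨y, hyL⟩ ∈ (Q : Subgroup (L ⧸ K)) :=
    hle (show (⟨y, hyL⟩ : L) ∈ (pGen p L).subgroupOf L from y.2)
  have hqv : Nat.card (Q : Subgroup (L ⧸ K)) ∣ p ^ (Nat.card G).factorization p := by
    rw [Q.card_eq_multiplicity]
    refine Nat.pow_dvd_pow p ((Nat.factorization_le_iff_dvd Nat.card_pos.ne' Nat.card_pos.ne').2
      ((Subgroup.card_quotient_dvd_card K).trans (Subgroup.card_subgroup_dvd_card L)) p)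
  refine (hmem _).1 ((QuotientGroup.eq_one_iff _).1 ?_)
  have h1 := orderOf_dvd_iff_pow_eq_one.1 ((Subgroup.orderOf_dvd_natCard _ hq).trans hqv)
  rw [← map_pow] at h1
  exact h1

theorem holds : ∀ (G : Type u) [Group G] [Finite G], Holds p G := by
  intro G _ _
  induction hn : Nat.card G using Nat.strong_induction_on generalizing G with
  | _ c ih =>
  subst hn
  intro hsol χ hfaith hP
  obtain ⟨P, hP⟩ := hP
  by_contra hbad
  haveI := hsol
  classical
  letI := Fintype.ofFinite G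
  set n := charDegree (χ : G → ℂ) with hn
  have hpn : ¬ p ∣ n := fun h =>
    hbad ⟨p, hp.out.isPrimePow, h, Or.inr (Or.inl (Int.modEq_zero_iff_dvd.2 dvd_rfl))⟩
  have ih' : ∀ (K : Type u) [Group K] [Finite K], Nat.card K < Nat.card G → Holds p K :=
    fun K _ _ hK => ih _ hK K rfl
  have hpG := fun (K : Subgroup G) [K.Normal] (hK : K ≠ ⊤) => isPGroup_pGen χ hfaith hbad ih' K hK
  -- no proper normal subgroup contains `P`
  have hPK : ∀ K : Subgroup G, K.Normal → (P : Subgroup G) ≤ K → K = ⊤ := fun K hKn hle => by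
    haveI := hKn
    by_contra hK
    haveI := pGen_normal (p := p) K
    have h := P.3 (hpG K hK) fun y hy => mem_pGen_of_isPGroup P.2 hy (hle hy)
    exact hP (h ▸ inferInstance)
  haveI : Nontrivial G := by
    by_contra hnt
    rw [not_nontrivial_iff_subsingleton] at hnt
    exact hP ⟨fun a ha g => by rwa [Subsingleton.elim (g * a * g⁻¹) a]⟩
  obtain ⟨N, hNn, hNp⟩ := Coprime.exists_normal_prime_index (G := G)
  haveI := hNn
  letI := Fintype.ofFinite N
  have hNt : N ≠ ⊤ := fun h => hNp.ne_one (by rw [h, Subgroup.index_top])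
  have hidx : N.index = p := by
    by_contra hne
    refine hNt (hPK N hNn fun y hy => ?_)
    obtain ⟨k, hk⟩ := P.2 ⟨y, hy⟩
    have h1 : orderOf (QuotientGroup.mk' N y) ∣ p ^ k := orderOf_dvd_of_pow_eq_one (by
      rw [← map_pow, show y ^ p ^ k = 1 from congrArg Subtype.val hk, map_one])
    have h2 : orderOf (QuotientGroup.mk' N y) ∣ N.index := N.index_eq_card ▸ orderOf_dvd_natCard _
    have h3 : orderOf (QuotientGroup.mk' N y) = 1 := Nat.eq_one_of_dvd_coprimes
      (Nat.Coprime.pow_left k ((Nat.coprime_primes hp.out hNp).2 (Ne.symm hne))) h1 h2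
    exact (QuotientGroup.eq_one_iff y).1 (orderOf_eq_one_iff.1 h3)
  haveI hP0n := pGen_normal (p := p) N
  set P0 := pGen p N with hP0
  have hP0p : IsPGroup p P0 := hpG N hNt
  have hNP : N ⊔ (P : Subgroup G) = ⊤ := by
    have h1 : N ⊔ (P : Subgroup G) ≠ N := fun e => hNt (hPK N hNn (sup_eq_left.1 e))
    have h2 := Subgroup.relIndex_mul_index (le_sup_left : N ≤ N ⊔ (P : Subgroup G))
    rw [hidx] at h2
    rcases (Nat.dvd_prime hp.out).1 (Dvd.intro_left _ h2) with h | h
    · exact Subgroup.index_eq_one.1 h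
    · rw [h] at h2
      exact absurd (Subgroup.relIndex_eq_one.1 (Nat.eq_one_of_mul_eq_one_right
        (show (N.relIndex (N ⊔ (P : Subgroup G))) * 1 = 1 by
          have := Nat.eq_of_mul_eq_mul_right hp.out.pos (h2.trans (one_mul p).symm); omega)))
        fun hle => h1 (le_antisymm hle le_sup_left)
  -- a chief factor above `P0`
  have hP0N : P0 ≠ N := fun e => by
    have hNpg : IsPGroup p N := e ▸ hP0p
    obtain ⟨k, hk⟩ := IsPGroup.iff_card.1 hNpg
    have hG : IsPGroup p G := IsPGroup.of_card (n := k + 1) (by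
      rw [← N.card_mul_index, hk, hidx, pow_succ])
    exact hP (by
      rw [P.is_maximal' (hG.to_subgroup ⊤) le_top |>.symm]
      infer_instance)
  obtain ⟨L, ⟨⟨hLn, hP0L, hLN⟩, hLmax⟩⟩ :=
    (Set.toFinite {M : Subgroup G | M.Normal ∧ P0 ≤ M ∧ M < N}).exists_maximal
      ⟨P0, hP0n, le_rfl, lt_of_le_of_ne (pGen_le N) hP0N⟩
  haveI := hLn
  letI := Fintype.ofFinite L
  have hchief : ∀ M : Subgroup G, M.Normal → L ≤ M → M ≤ N → M = L ∨ M = N := fun M hM h1 h2 => by
    by_cases e : M = N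
    · exact Or.inr e
    · exact Or.inl (le_antisymm (hLmax ⟨hM, hP0L.trans h1, lt_of_le_of_ne h2 e⟩ h1) h1)
  set L' := L.subgroupOf N with hL'
  haveI : L'.Normal := hLn.subgroupOf N
  letI := Fintype.ofFinite L'
  have hL'top : L' ≠ ⊤ := fun e => hLN.not_ge (Subgroup.subgroupOf_eq_top.1 e)
  haveI : Nontrivial (N ⧸ L') := by
    rw [← Finite.one_lt_card_iff_nontrivial, ← Subgroup.index_eq_card]
    exact Subgroup.one_lt_index_of_ne_top hL'top
  have hcomm : ∀ a b : N, a * b * a⁻¹ * b⁻¹ ∈ L' := by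
    have hM : ⁅N, N⁆ ⊔ L = L := by
      refine (hchief _ inferInstance le_sup_right
        (sup_le (Subgroup.commutator_le_left N N) hLN.le)).resolve_right fun e => ?_
      have h1 : (⊤ : Subgroup N) = commutator N ⊔ L' := by
        apply Subgroup.map_injective N.subtype_injective
        rw [Subgroup.map_sup, commutator_def, Subgroup.map_commutator, hL',
          Subgroup.subgroupOf_map_subtype, inf_of_le_left hLN.le, ← MonoidHom.range_eq_map,
          Subgroup.range_subtype, e]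
      have h2 := congrArg (Subgroup.map (QuotientGroup.mk' L')) h1
      rw [Subgroup.map_sup, Subgroup.map_top_of_surjective _ (QuotientGroup.mk'_surjective L'),
        QuotientGroup.map_mk'_self, sup_bot_eq, commutator_def, Subgroup.map_commutator,
        Subgroup.map_top_of_surjective _ (QuotientGroup.mk'_surjective L'), ← commutator_def] at h2
      exact (Group.IsSolvable.commutator_lt_top_of_nontrivial (N ⧸ L')).ne h2.symm
    intro a b
    exact hM.le (Subgroup.mem_sup_left (Subgroup.commutator_mem_commutator a.2 b.2))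
  letI : CommGroup (N ⧸ L') :=
    { (inferInstance : Group (N ⧸ L')) with
      mul_comm := fun x y => by
        obtain ⟨a, rfl⟩ := QuotientGroup.mk_surjective x
        obtain ⟨b, rfl⟩ := QuotientGroup.mk_surjective y
        rw [← QuotientGroup.mk_mul, ← QuotientGroup.mk_mul, QuotientGroup.eq]
        have := hcomm b⁻¹ a⁻¹
        simpa [mul_assoc] using this }
  obtain ⟨r, hr, hrdvd⟩ := Nat.exists_prime_and_dvd
    (show Nat.card (N ⧸ L') ≠ 1 from (Finite.one_lt_card_iff_nontrivial.2 inferInstance).ne')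
  haveI : Fact r.Prime := ⟨hr⟩
  have hrgroup : IsPGroup r (N ⧸ L') := by
    let M0 : Subgroup N := (powMonoidHom (α := N ⧸ L') r).ker.comap (QuotientGroup.mk' L')
    have hmem : ∀ a : N, a ∈ M0 ↔ a ^ r ∈ L' := fun a => by
      show (QuotientGroup.mk' L' a) ^ r = 1 ↔ _
      rw [← map_pow]
      exact QuotientGroup.eq_one_iff _
    have hMn : (M0.map N.subtype).Normal := ⟨by
      rintro _ ⟨a, ha, rfl⟩ g
      refine ⟨⟨g * a * g⁻¹, hNn.conj_mem _ a.2 g⟩, (hmem _).2 ?_, rfl⟩
      show ((⟨g * a * g⁻¹, hNn.conj_mem _ a.2 g⟩ : N) ^ r : N).1 ∈ L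
      rw [SubgroupClass.coe_pow, conj_pow]
      exact hLn.conj_mem _ ((hmem a).1 ha) g⟩
    have hLM : L ≤ M0.map N.subtype := fun l hl =>
      ⟨⟨l, hLN.le hl⟩, (hmem _).2 (pow_mem (show (⟨l, hLN.le hl⟩ : N) ∈ L' from hl) r), rfl⟩
    rcases hchief _ hMn hLM (Subgroup.map_subtype_le M0) with e | e
    · exfalso
      obtain ⟨v, hv⟩ := exists_prime_orderOf_dvd_card' (G := N ⧸ L') r hrdvd
      obtain ⟨a, rfl⟩ := QuotientGroup.mk_surjective v
      have h1 : (a : G) ∈ L := e ▸ Subgroup.mem_map_of_mem N.subtype ((hmem a).2 (by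
        rw [← QuotientGroup.eq_one_iff, QuotientGroup.mk_pow, ← hv, pow_orderOf_eq_one]))
      rw [(QuotientGroup.eq_one_iff a).2 h1, orderOf_one] at hv
      exact hr.ne_one hv.symm
    · intro v
      obtain ⟨a, rfl⟩ := QuotientGroup.mk_surjective v
      obtain ⟨b, hb, hba⟩ : (a : G) ∈ M0.map N.subtype := e.symm ▸ a.2
      refine ⟨1, ?_⟩
      rw [pow_one, ← QuotientGroup.mk_pow, QuotientGroup.eq_one_iff]
      exact Subtype.ext hba ▸ (hmem b).1 hb
  obtain ⟨k, hk⟩ := IsPGroup.iff_card.1 hrgroup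
  have hk' : L.relIndex N = r ^ k := hk
  have hk0 : k ≠ 0 := fun h0 => by
    rw [h0, pow_zero] at hk
    exact (Finite.one_lt_card_iff_nontrivial.2 (inferInstance : Nontrivial (N ⧸ L'))).ne' hk
  -- `P` is not in `L`
  have hLP : L ⊔ (P : Subgroup G) ≠ ⊤ := fun e => by
    refine hLN.not_ge fun x hx => ?_
    have hx' : x ∈ L ⊔ (P : Subgroup G) := e ▸ Subgroup.mem_top x
    obtain ⟨l, hl, y, hy, rfl⟩ := (Subgroup.mem_sup_of_normal_left (s := L)).1 hx'
    exact L.mul_mem hl (hP0L (mem_pGen_of_isPGroup P.2 hy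
      (by simpa using N.mul_mem (N.inv_mem (hLN.le hl)) hx)))
  -- the fixed linear characters
  have hfix : ∀ f ∈ linearOver L', (∀ g ∈ (P : Subgroup G), f.comp (normalConjHom N g) = f) → f = 1 := by
    intro f hf hfg
    have hMn : (f.ker.map N.subtype).Normal := by
      refine Subgroup.normalizer_eq_top_iff.1 (top_le_iff.1 (hNP ▸ sup_le ?_ ?_))
      · exact fun g hg => by
          refine Subgroup.mem_normalizer_iff.2 fun x => ?_
          have key : ∀ g ∈ N, ∀ x ∈ f.ker.map N.subtype, g * x * g⁻¹ ∈ f.ker.map N.subtype := by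
            rintro g hg _ ⟨a, ha, rfl⟩
            exact ⟨⟨g, hg⟩ * a * ⟨g, hg⟩⁻¹, (MonoidHom.normal_ker f).conj_mem a ha _, rfl⟩
          refine ⟨key g hg x, fun hx => ?_⟩
          simpa [mul_assoc] using key g⁻¹ (inv_mem hg) _ hx
      · intro g hg
        refine Subgroup.mem_normalizer_iff.2 fun x => ?_
        have key : ∀ g ∈ (P : Subgroup G), ∀ x ∈ f.ker.map N.subtype, g * x * g⁻¹ ∈ f.ker.map N.subtype := by
          rintro g hg _ ⟨a, ha, rfl⟩
          refine ⟨normalConjHom N g a, ?_, rfl⟩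
          exact MonoidHom.mem_ker.2 ((DFunLike.congr_fun (hfg g hg) a).trans ha)
        refine ⟨key g hg x, fun hx => ?_⟩
        simpa [mul_assoc] using key g⁻¹ (inv_mem hg) _ hx
    rcases hchief _ hMn (fun l hl => ⟨⟨l, hLN.le hl⟩, hf _ hl, rfl⟩) (Subgroup.map_subtype_le _) with e | e
    · exfalso
      refine hLP (hPK _ ?_ le_sup_right)
      refine Subgroup.normalizer_eq_top_iff.1 (top_le_iff.1 (hNP ▸ sup_le ?_
        (le_sup_right.trans Subgroup.le_normalizer)))
      have key : ∀ g ∈ N, ∀ x ∈ L ⊔ (P : Subgroup G), g * x * g⁻¹ ∈ L ⊔ (P : Subgroup G) := by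
        intro g hg x hx
        obtain ⟨l, hl, y, hy, rfl⟩ := (Subgroup.mem_sup_of_normal_left (s := L)).1 hx
        have h1 : g * (y * g⁻¹ * y⁻¹) ∈ N := N.mul_mem hg (hNn.conj_mem _ (inv_mem hg) y)
        have h2 : g * (y * g⁻¹ * y⁻¹) ∈ L := by
          refine e ▸ ⟨⟨g, hg⟩ * normalConjHom N y ⟨g, hg⟩⁻¹, ?_, rfl⟩
          show f (⟨g, hg⟩ * normalConjHom N y ⟨g, hg⟩⁻¹) = 1
          rw [map_mul]
          rw [show f (normalConjHom N y ⟨g, hg⟩⁻¹) = f (⟨g, hg⟩⁻¹) from DFunLike.congr_fun (hfg y hy) _,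
            map_inv, mul_inv_cancel]
        rw [show g * (l * y) * g⁻¹ = (g * l * g⁻¹) * (g * (y * g⁻¹ * y⁻¹)) * y by group]
        exact mul_mem (Subgroup.mem_sup_left (mul_mem (hLn.conj_mem l hl g) h2)) (Subgroup.mem_sup_right hy)
      intro g hg
      refine Subgroup.mem_normalizer_iff.2 fun x => ⟨key g hg x, fun hx => ?_⟩
      simpa [mul_assoc] using key g⁻¹ (inv_mem hg) _ hx
    · refine MonoidHom.ext fun a => ?_
      obtain ⟨b, hb, hba⟩ : (a : G) ∈ f.ker.map N.subtype := e.symm ▸ a.2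
      exact Subtype.ext hba ▸ hb
  have hmod : r ^ k ≡ 1 [MOD p] := by
    haveI : Finite (linearOver L') := Nat.finite_of_card_ne_zero (by
      rw [card_linearOver L' hcomm]; exact Subgroup.index_ne_zero_of_finite)
    have h := card_dual_modEq (P : Subgroup G) N P.2 (linearOver L') (fun g _ f hf a ha =>
      hf _ (hLn.conj_mem _ ha g)) hfix
    rwa [card_linearOver L' hcomm, show L'.index = r ^ k from hk'] at h
  -- the restriction to `N` and below
  have hθirr := isIrr_res_prime N hidx χ hpn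
  let θ : IrrCharacter N := ⟨_, hθirr⟩
  have hresL : IsCharacter L fun l : L => (χ : G → ℂ) l := isCharacter_comp (isCharacter_irr χ) L.subtype
  obtain ⟨ψ, hψ⟩ := exists_irr_inner_ne_zero hresL fun h => irr_one_ne_zero χ (congrFun h 1)
  obtain ⟨e, he⟩ := classInner_char_irr_nat hresL ψ
  have hcl := clifford_degree L χ.2 ψ.2 hψ
  rw [(Block.charDegree_eq χ).1, (Block.charDegree_eq ψ).1, he, ← hn] at hcl
  have hcl' : n = e * (inertia L (ψ : L → ℂ)).index * charDegree (ψ : L → ℂ) := by exact_mod_cast hcl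
  set T := inertia L (ψ : L → ℂ) with hT
  have hTdvd : T.index ∣ n := ⟨e * charDegree (ψ : L → ℂ), by rw [hcl']; ring⟩
  have hTN : T ⊔ N = ⊤ := by
    have h1 : (T ⊔ N).index ∣ p := hidx ▸ Subgroup.index_dvd_of_le le_sup_right
    rcases (Nat.dvd_prime hp.out).1 h1 with h | h
    · exact Subgroup.index_eq_one.1 h
    · exact absurd ((h ▸ Subgroup.index_dvd_of_le le_sup_left).trans hTdvd) hpn
  have hLT : L ≤ T := le_inertia L (isClassFunction_irr ψ)
  have hTNn : (T ⊓ N).Normal := by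
    refine Subgroup.normalizer_eq_top_iff.1 (top_le_iff.1 (hTN ▸ sup_le ?_ ?_))
    · intro g hg
      refine Subgroup.mem_normalizer_iff.2 fun x => ⟨fun hx =>
        ⟨T.mul_mem (T.mul_mem hg hx.1) (T.inv_mem hg), hNn.conj_mem x hx.2 g⟩, fun hx => ⟨?_, ?_⟩⟩
      · simpa [mul_assoc] using T.mul_mem (T.mul_mem (T.inv_mem hg) hx.1) hg
      · simpa [mul_assoc] using hNn.conj_mem _ hx.2 g⁻¹
    · have key : ∀ g ∈ N, ∀ x ∈ T ⊓ N, g * x * g⁻¹ ∈ T ⊓ N := by
        intro g hg x hx
        refine ⟨?_, hNn.conj_mem x hx.2 g⟩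
        have h1 : g * x * g⁻¹ * x⁻¹ ∈ L := hcomm ⟨g, hg⟩ ⟨x, hx.2⟩
        simpa using T.mul_mem (hLT h1) hx.1
      intro g hg
      refine Subgroup.mem_normalizer_iff.2 fun x => ⟨key g hg x, fun hx => ?_⟩
      simpa [mul_assoc] using key g⁻¹ (inv_mem hg) _ hx
  have hrk : IsPrimePow (r ^ k) := hr.isPrimePow.pow hk0
  rcases hchief _ hTNn (le_inf hLT hLN.le) inf_le_right with hTL | hTL
  · -- the constituent moves
    refine hbad ⟨r ^ k, hrk, ?_, Or.inr (Or.inr ?_)⟩
    · rw [← hk', show L.relIndex N = T.index by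
        rw [← hTL]
        have h1 := Subgroup.relIndex_mul_index (inf_le_left : T ⊓ N ≤ T)
        have h2 := Subgroup.relIndex_mul_index (inf_le_right : T ⊓ N ≤ N)
        have h3 : (T ⊓ N).relIndex T = N.index := by
          rw [inf_comm, Subgroup.inf_relIndex_right, ← Subgroup.relIndex_sup_right, hTN,
            Subgroup.relIndex_top_right]
        rw [h3, ← h2, mul_comm] at h1
        exact (Nat.eq_of_mul_eq_mul_right (Nat.pos_of_ne_zero Subgroup.index_ne_zero_of_finite) h1).symm]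
      exact hTdvd
    · exact_mod_cast Int.natCast_modEq_iff.2 hmod
  have hNT : N ≤ T := hTL.ge.trans inf_le_left
  have hTtop : T = ⊤ := by
    rw [← hTN, sup_eq_left.2 hNT]
  have hinv : ∀ g : G, conjFun L (ψ : L → ℂ) g = (ψ : L → ℂ) := fun g =>
    (mem_inertia L (ψ : L → ℂ) g).1 (hT ▸ hTtop.symm ▸ Subgroup.mem_top g)
  obtain ⟨e', -, he', hres⟩ := restrict_eq_smul_of_invariant L χ.2 ψ.2 hψ hinv
  obtain rfl : e' = e := by exact_mod_cast he'.symm.trans he
  -- the linear characters fixing `θ`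
  let Λ : Subgroup (N →* ℂˣ) :=
    { carrier := {f | f ∈ linearOver L' ∧ ∀ a : N, (f a : ℂ) * (θ : N → ℂ) a = (θ : N → ℂ) a}
      one_mem' := ⟨one_mem _, fun a => by simp⟩
      mul_mem' := fun {f g} hf hg => ⟨mul_mem hf.1 hg.1, fun a => by
        rw [MonoidHom.mul_apply, Units.val_mul, mul_assoc, hg.2, hf.2]⟩
      inv_mem' := fun {f} hf => ⟨inv_mem hf.1, fun a => by
        conv_lhs => rw [← hf.2 a, MonoidHom.inv_apply, Units.inv_mul_cancel_left]⟩ }
  haveI : Finite (linearOver L') := Nat.finite_of_card_ne_zero (by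
    rw [card_linearOver L' hcomm]; exact Subgroup.index_ne_zero_of_finite)
  have hΛle : Λ ≤ linearOver L' := fun f hf => hf.1
  haveI : Finite Λ := Finite.of_injective (Subgroup.inclusion hΛle) (Subgroup.inclusion_injective hΛle)
  letI := Fintype.ofFinite (linearOver L')
  have hΛmod : Nat.card Λ ≡ 1 [MOD p] := card_dual_modEq (P : Subgroup G) N P.2 Λ
    (fun g _ f hf => ⟨fun a ha => hf.1 _ (hLn.conj_mem _ ha g), fun a => by
      have h := hf.2 (normalConjHom N g a)
      have hθg : (θ : N → ℂ) (normalConjHom N g a) = (θ : N → ℂ) a := isClassFunction_irr χ (a : G) g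
      rw [hθg] at h
      exact h⟩) fun f hf => hfix f hf.1
  have hΛcard : Nat.card Λ = e' * e' := by
    have hkey : ∀ f : linearOver L', classInner (linMul f.1 θ : N → ℂ) (θ : N → ℂ) =
        if (f : N →* ℂˣ) ∈ Λ then 1 else 0 := fun f => by
      by_cases hf : (f : N →* ℂˣ) ∈ Λ
      · rw [if_pos hf, show linMul f.1 θ = θ from Subtype.ext (funext hf.2), classInner_irr_self]
      · rw [if_neg hf, classInner_irr_ne fun h => hf ⟨f.2, fun a => congrFun (congrArg Subtype.val h) a⟩]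
    have h1 : ∑ f : linearOver L', classInner (linMul f.1 θ : N → ℂ) (θ : N → ℂ) = (Nat.card Λ : ℂ) := by
      simp only [hkey, Finset.sum_boole]
      rw [← Fintype.card_subtype, ← Nat.card_eq_fintype_card]
      exact congrArg _ (Nat.card_congr
        { toFun := fun f => ⟨f.1.1, f.2⟩
          invFun := fun f => ⟨⟨f.1, hΛle f.2⟩, f.2⟩
          left_inv := fun f => rfl
          right_inv := fun f => rfl })
    have h2 : ∑ f : linearOver L', classInner (linMul f.1 θ : N → ℂ) (θ : N → ℂ) =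
        classInner (fun l : L => (χ : G → ℂ) l) (fun l : L => (χ : G → ℂ) l) := by
      let F : G → ℂ := fun g => (χ : G → ℂ) g * conj ((χ : G → ℂ) g)
      have hsum : ∑ a : N, (if a ∈ L' then F a else 0) = ∑ l : L, F l := by
        rw [← Finset.sum_filter, Finset.sum_subtype (p := fun a => a ∈ L') _ (fun a => by simp)]
        exact Fintype.sum_equiv (Subgroup.subgroupOfEquivOfLe hLN.le).toEquiv _ _ fun a => rfl
      have hcards : (Nat.card L : ℂ) * (L'.index : ℂ) = (Nat.card N : ℂ) := by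
        rw [← Nat.card_congr (Subgroup.subgroupOfEquivOfLe hLN.le).toEquiv, ← Nat.cast_mul,
          Subgroup.card_mul_index]
      simp only [classInner, linMul, θ]
      rw [← Finset.mul_sum, Finset.sum_comm,
        Finset.sum_congr rfl (g := fun a : N => (L'.index : ℂ) * (if a ∈ L' then F a else 0))
          (fun a _ => by
            simp only [mul_assoc]
            rw [← Finset.sum_mul, sum_linearOver L' hcomm]
            split_ifs <;> simp [F]),
        ← Finset.mul_sum, hsum, ← hcards]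
      have hi : (L'.index : ℂ) ≠ 0 := Nat.cast_ne_zero.2 Subgroup.index_ne_zero_of_finite
      have hl : (Nat.card L : ℂ) ≠ 0 := Nat.cast_ne_zero.2 Nat.card_pos.ne'
      field_simp
      rfl
    rw [h1, hres, classInner_smul_left, classInner_smul_right, classInner_irr_self, map_natCast,
      mul_one] at h2
    exact_mod_cast h2
  rcases Nat.lt_or_ge 1 e' with he1 | he1
  · -- ramification
    have hdvd : Nat.card Λ ∣ r ^ k := by
      have h := Subgroup.card_dvd_of_le hΛle
      rwa [card_linearOver L' hcomm, show L'.index = r ^ k from hk'] at h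
    obtain ⟨i, -, hi⟩ := (Nat.dvd_prime_pow hr).1 ((Dvd.intro e' hΛcard.symm).trans hdvd)
    have hi0 : i ≠ 0 := fun h0 => by rw [h0, pow_zero] at hi; omega
    refine hbad ⟨e', hi ▸ hr.isPrimePow.pow hi0, ⟨T.index * charDegree (ψ : L → ℂ), by rw [hcl']; ring⟩, ?_⟩
    have hd : (p : ℤ) ∣ ((e' : ℤ) - 1) * ((e' : ℤ) + 1) := by
      rw [hΛcard] at hΛmod
      have h1 := Int.modEq_iff_dvd.1 (Int.natCast_modEq_iff.2 hΛmod).symm
      push_cast at h1
      rw [show ((e' : ℤ) - 1) * ((e' : ℤ) + 1) = (e' : ℤ) * e' - 1 by ring]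
      exact h1
    rcases (Nat.prime_iff_prime_int.1 hp.out).dvd_or_dvd hd with h | h
    · exact Or.inr (Or.inr (Int.modEq_iff_dvd.2 h).symm)
    · refine Or.inl (Int.modEq_iff_dvd.2 ?_).symm
      rwa [sub_neg_eq_add]
  -- the restriction to `L` is irreducible
  have he'1 : e' = 1 := by
    have h0 : e' ≠ 0 := fun h0 => hψ (by rw [he, h0, Nat.cast_zero])
    omega
  rw [he'1, Nat.cast_one, one_smul] at hres
  set H := L ⊔ (P : Subgroup G) with hH
  letI := Fintype.ofFinite H
  have hLH : L ≤ H := le_sup_left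
  have hPH : (P : Subgroup G) ≤ H := le_sup_right
  letI := Fintype.ofFinite (L.subgroupOf H)
  have hχH : IsIrrCharacter H fun x : H => (χ : G → ℂ) x := by
    refine isIrr_of_res (L.subgroupOf H) (isCharacter_comp (isCharacter_irr χ) H.subtype) ?_
    have := isIrrCharacter_comp_surjective ψ.2 (Subgroup.subgroupOfEquivOfLe hLH).toMonoidHom
      (Subgroup.subgroupOfEquivOfLe hLH).surjective
    convert this using 1
    funext x
    exact congrFun hres (Subgroup.subgroupOfEquivOfLe hLH x)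
  let η : IrrCharacter H := ⟨_, hχH⟩
  have hηfaith : ∀ x : H, (η : H → ℂ) x = (η : H → ℂ) 1 → x = 1 := fun x hx =>
    Subtype.ext (hfaith _ (by simpa [η] using hx))
  have hηd : charDegree (η : H → ℂ) = n := by
    simp [η, charDegree, hn]
  let PH : Sylow p H := P.subtype hPH
  have hPHn : (PH : Subgroup H).Normal := by
    by_contra hnot
    have hlt : Nat.card H < Nat.card G := lt_of_le_of_ne (Subgroup.card_le_card_group H)
      fun e => hLP (Subgroup.eq_top_of_card_eq H e)
    exact hbad (hηd ▸ ih' H hlt inferInstance η hηfaith ⟨PH, hnot⟩)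
  have hconjP : ∀ a ∈ L, ∀ y ∈ (P : Subgroup G), a * y * a⁻¹ ∈ (P : Subgroup G) := fun a ha y hy =>
    hPHn.conj_mem ⟨y, hPH hy⟩ hy ⟨a, hLH ha⟩
  have hPcomm : ∀ a ∈ (P : Subgroup G), ∀ b ∈ (P : Subgroup G), a * b = b * a := fun a ha b hb => by
    haveI := hPHn
    exact congrArg Subtype.val (abelian_of_normal (PH : Subgroup H) (PH.2) η hηfaith (hηd ▸ hpn)
      ⟨a, hPH ha⟩ ha ⟨b, hPH hb⟩ hb)
  have hP0P : P0 ≤ (P : Subgroup G) := by
    obtain ⟨Q, hQ⟩ := hP0p.exists_le_sylow
    obtain ⟨g, rfl⟩ := MulAction.exists_smul_eq G P Q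
    intro y hy
    have h1 := hQ (hP0n.conj_mem y hy g)
    obtain ⟨w, hw, hwy⟩ : ∃ w ∈ (P : Subgroup G), g * w * g⁻¹ = g * y * g⁻¹ := by
      simpa [Sylow.smul_def, Sylow.pointwise_smul_def, Subgroup.mem_map,
        Subgroup.pointwise_smul_def] using h1
    exact (mul_left_cancel (mul_right_cancel hwy)) ▸ hw
  have hcent : ∀ a ∈ L, ∀ y ∈ (P : Subgroup G), a * y * a⁻¹ * y⁻¹ ∈ P0 := fun a ha y hy => by
    have h1 : a * y * a⁻¹ * y⁻¹ ∈ L := by
      rw [show a * y * a⁻¹ * y⁻¹ = a * (y * a⁻¹ * y⁻¹) by group]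
      exact mul_mem ha (hLn.conj_mem _ (inv_mem ha) y)
    exact mem_pGen_of_isPGroup P.2 (mul_mem (hconjP a ha y hy) (inv_mem hy)) (hLN.le h1)
  -- averaging over `L/P0`
  set K := P0.subgroupOf L with hK
  haveI : K.Normal := hP0n.subgroupOf L
  letI := Fintype.ofFinite (L ⧸ K)
  letI : CommGroup (P : Subgroup G) :=
    { (inferInstance : Group (P : Subgroup G)) with
      mul_comm := fun a b => Subtype.ext (hPcomm a a.2 b b.2) }
  set m := Fintype.card (L ⧸ K) with hm
  have hmp : ¬ p ∣ m := by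
    rw [hm, ← Nat.card_eq_fintype_card]
    intro hd
    obtain ⟨v, hv⟩ := exists_prime_orderOf_dvd_card' (G := L ⧸ K) p hd
    obtain ⟨a, rfl⟩ := QuotientGroup.mk_surjective v
    obtain ⟨j, w, hw, hjw⟩ := Nat.exists_eq_pow_mul_and_not_dvd (orderOf_pos a).ne' p hp.out.ne_one
    have h1 : a ^ w ∈ K := mem_pGen (hLN.le (a ^ w).2) (k := j) (by
      show ((a ^ w : L) : G) ^ p ^ j = 1
      rw [← SubgroupClass.coe_pow, ← pow_mul, mul_comm, ← hjw, pow_orderOf_eq_one, OneMemClass.coe_one])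
    have h2 : orderOf (a : L ⧸ K) ∣ w := orderOf_dvd_of_pow_eq_one (by
      rw [← QuotientGroup.mk_pow]; exact (QuotientGroup.eq_one_iff _).2 h1)
    rw [hv] at h2
    exact hw h2
  have hdec : ∀ x ∈ (P : Subgroup G), ∃ c d : G, x = c * d ∧ d ∈ P0 ∧ c ∈ Subgroup.center G := by
    intro x hx
    let F : L → (P : Subgroup G) := fun a => ⟨(a : G) * x * (a : G)⁻¹, hconjP a a.2 x hx⟩
    have hFK : ∀ a b : L, a⁻¹ * b ∈ K → F a = F b := fun a b hab => by
      refine Subtype.ext ?_
      show (a : G) * x * (a : G)⁻¹ = (b : G) * x * (b : G)⁻¹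
      have hcx := hPcomm ((a⁻¹ * b : L) : G) (hP0P hab) x hx
      have hb : (b : G) = (a : G) * ((a⁻¹ * b : L) : G) := by simp
      rw [hb, mul_inv_rev, mul_assoc (a : G) ((a⁻¹ * b : L) : G) x, hcx]
      group
    let f : L ⧸ K → (P : Subgroup G) := fun v => F v.out
    have hf : ∀ a : L, f (a : L ⧸ K) = F a := fun a =>
      hFK _ _ (QuotientGroup.eq.1 (QuotientGroup.out_eq' _))
    let c0 : (P : Subgroup G) := ∏ v, f v
    have hfixc : ∀ a : L, (a : G) * (c0 : G) * (a : G)⁻¹ = c0 := by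
      intro a
      let Ca : (P : Subgroup G) →* (P : Subgroup G) :=
        { toFun := fun y => ⟨(a : G) * y * (a : G)⁻¹, hconjP a a.2 y y.2⟩
          map_one' := Subtype.ext (by simp)
          map_mul' := fun y z => Subtype.ext (by simp [mul_assoc]) }
      have h1 : Ca c0 = c0 := by
        rw [map_prod]
        refine Fintype.prod_equiv (Equiv.mulLeft (a : L ⧸ K)) _ _ fun v => ?_
        obtain ⟨b, rfl⟩ := QuotientGroup.mk_surjective v
        show Ca (f (b : L ⧸ K)) = f ((a * b : L) : L ⧸ K)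
        rw [hf, hf]
        exact Subtype.ext (show (a : G) * ((b : G) * x * (b : G)⁻¹) * (a : G)⁻¹ =
          ((a * b : L) : G) * x * ((a * b : L) : G)⁻¹ by simp [mul_assoc])
      exact congrArg Subtype.val h1
    let P0' : Subgroup (P : Subgroup G) := P0.subgroupOf (P : Subgroup G)
    have hc0 : c0 * ((⟨x, hx⟩ : (P : Subgroup G)) ^ m)⁻¹ ∈ P0' := by
      rw [hm, ← Finset.card_univ, ← Finset.prod_const, ← Finset.prod_inv_distrib, ← Finset.prod_mul_distrib]
      exact prod_mem fun v _ => hcent _ v.out.2 x hx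
    obtain ⟨s, hs⟩ : ∃ s : ℕ, ((⟨x, hx⟩ : (P : Subgroup G)) ^ m) ^ s = ⟨x, hx⟩ := by
      refine exists_pow_eq_self_of_coprime ?_
      obtain ⟨j, hj⟩ := IsPGroup.iff_orderOf.1 P.2 ⟨x, hx⟩
      rw [hj]
      exact Nat.Coprime.pow_right j ((Nat.coprime_comm.1 (hp.out.coprime_iff_not_dvd.2 hmp)))
    refine ⟨((c0 ^ s : (P : Subgroup G)) : G), ((c0 ^ s)⁻¹ * ⟨x, hx⟩ : (P : Subgroup G)), ?_, ?_, ?_⟩
    · rw [← Subgroup.coe_mul, mul_inv_cancel_left]
    · have h := inv_mem (pow_mem hc0 s)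
      rw [mul_pow, inv_pow, hs, mul_inv_rev, inv_inv, mul_comm] at h
      exact h
    · obtain ⟨d, ρ, hρ, hρχ⟩ := χ.2
      set c := ((c0 ^ s : (P : Subgroup G)) : G) with hc
      have hcL : ∀ a : L, (a : G) * c = c * (a : G) := fun a => by
        have h1 : (a : G) * c * (a : G)⁻¹ = c := by
          rw [hc, SubgroupClass.coe_pow, ← conj_pow, hfixc]
        exact mul_inv_eq_iff_eq_mul.1 h1
      let ρL : Representation ℂ L (Fin d → ℂ) := ρ.comp L.subtype
      haveI : ρL.IsIrreducible := by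
        obtain ⟨d', σ, hσ, hσψ⟩ := ψ.2
        obtain ⟨φ⟩ := nonempty_equiv_of_character_eq σ ρL (funext fun l => by
          rw [hσψ, ← hres]; exact (congrFun hρχ (l : G)).symm)
        exact isIrreducible_of_equiv φ
      obtain ⟨w, hw⟩ := schur_scalar ρL (ρ c) fun a => by
        show ρ c * ρ a = ρ a * ρ c
        rw [← map_mul, ← map_mul, hcL a]
      rw [Subgroup.mem_center_iff]
      intro g
      have h1 : (χ : G → ℂ) ((g * c) * (c * g)⁻¹) = (χ : G → ℂ) 1 := by
        rw [← hρχ]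
        refine congrArg (LinearMap.trace ℂ _) ?_
        have e1 : ρ (g * c) = ρ (c * g) := by
          rw [map_mul, map_mul, hw, ← Module.End.one_eq_id]; simp
        rw [map_mul, e1, ← map_mul, mul_inv_cancel, map_one]
      exact mul_inv_eq_one.1 (hfaith _ h1)
  have hcover : (P : Subgroup G) ≤ Subgroup.center G ⊔ P0 := fun x hx => by
    obtain ⟨c, d, rfl, hd, hc⟩ := hdec x hx
    exact mul_mem (Subgroup.mem_sup_left hc) (Subgroup.mem_sup_right hd)
  have htop := hPK _ inferInstance hcover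
  have hcommG : ∀ a b : G, a * b = b * a := fun a b => by
    obtain ⟨z, hz, y, hy, rfl⟩ := (Subgroup.mem_sup_of_normal_right (t := P0)).1 (htop ▸ Subgroup.mem_top a)
    obtain ⟨z', hz', y', hy', rfl⟩ := (Subgroup.mem_sup_of_normal_right (t := P0)).1 (htop ▸ Subgroup.mem_top b)
    have c1 := Subgroup.mem_center_iff.1 hz
    have c2 := Subgroup.mem_center_iff.1 hz'
    calc z * y * (z' * y') = z * (y * z') * y' := by group
      _ = z * (z' * y) * y' := by rw [c2 y]
      _ = z * z' * (y * y') := by group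
      _ = z' * z * (y' * y) := by rw [c2 z, hPcomm y (hP0P hy) y' (hP0P hy')]
      _ = z' * (z * y') * y := by group
      _ = z' * (y' * z) * y := by rw [c1 y']
      _ = z' * y' * (z * y) := by group
  exact hP ⟨fun a ha g => by rwa [hcommG g a, mul_inv_cancel_right]⟩

end CfsgLib.Char.LinearSylow
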