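import Cfsg.Agent.Lib.Char.SLTwoTable

/-!
# Character values of `SL(2, q)`
-/

set_option autoImplicit false
set_option linter.unusedSectionVars false
set_option linter.style.haveILetI false

namespace CfsgLib.Char.TwoChars

open Matrix Cfsg CfsgLib.Char
open scoped ComplexConjugate

variable {F : Type*} [Field F] [Fintype F] [DecidableEq F]

local notation "S2" => Matrix.SpecialLinearGroup (Fin 2) F
local notation "qF" => Fintype.card F

theorem eq_elS_diag {g : S2} (h01 : g.1 0 1 = 0) (h10 : g.1 1 0 = 0) :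
    ∃ a : Fˣ, (a : F) = g.1 0 0 ∧ ((a⁻¹ : Fˣ) : F) = g.1 1 1 ∧ g = elS a 0 := by
  refine ⟨⟨g.1 0 0, g.1 1 1, borelSL_prod h10, by rw [mul_comm]; exact borelSL_prod h10⟩, rfl, rfl, ?_⟩
  conv_lhs => rw [borelSL_eq h10, h01]

theorem diag_ne {g : S2} (h10 : g.1 1 0 = 0) (h : g.1 0 0 ^ 2 ≠ 1) : g.1 0 0 ≠ g.1 1 1 := fun he =>
  h (by rw [pow_two]; nth_rewrite 2 [he]; exact borelSL_prod h10)

theorem diag_sq_ne {a : Fˣ} (h : (a : F) ^ 2 ≠ 1) : (a : F) ≠ ((a⁻¹ : Fˣ) : F) := fun he =>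
  h (by rw [pow_two]; nth_rewrite 2 [he]; exact Units.mul_inv a)

theorem sigS_conj (ν : Fˣ) {g : S2} (hg : ¬ TwoClasses.IsScalar2 g.1)
    (hd : TwoClasses.dsc g.1.trace ≠ 0) : IsConj (sigS ν g) g := by
  have ht : (sigS ν g).1.trace = g.1.trace := by simp [sigS_val, Matrix.trace_fin_two]
  refine TwoClasses.sl_isConj_of_trace (fun hs => hg ?_) hg ht (Or.inl (by rw [ht]; exact hd))
  obtain ⟨h1, h2, h3⟩ := hs
  simp [sigS_val] at h1 h2 h3
  exact ⟨h1, h2, h3⟩

theorem split_dsc {g : S2} (h10 : g.1 1 0 = 0) (h : g.1 0 0 ≠ g.1 1 1) : TwoClasses.dsc g.1.trace ≠ 0 := by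
  intro h0
  refine h (sub_eq_zero.1 ((pow_eq_zero_iff two_ne_zero).1 ?_))
  simp only [TwoClasses.dsc, Matrix.trace_fin_two] at h0
  linear_combination h0 - 4 * borelSL_prod h10

theorem halfPS_value {χ : IrrCharacter S2} (h : IsHalfPS χ) {g : S2} (hg : ¬ TwoClasses.IsScalar2 g.1)
    (hd : TwoClasses.dsc g.1.trace ≠ 0) :
    ∃ α : MulChar F ℂ, α ^ 2 = 1 ∧ α ≠ 1 ∧ 2 * (χ : S2 → ℂ) g = psSL α g := by
  obtain ⟨ν, hν⟩ := exists_repUnip (F := F)
  obtain ⟨α, h2, h1, he, -, -⟩ := halfPS_data h hν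
  refine ⟨α, h2, h1, ?_⟩
  rw [congrFun he g, Pi.add_apply, sigIrr_apply, classFun_isConj (isClassFunction_irr χ) (sigS_conj ν hg hd)]
  ring

theorem sl_cusp_split_value {χ : IrrCharacter S2} (hc : IsCuspSL (χ : S2 → ℂ)) {g : S2}
    (h01 : g.1 0 1 = 0) (h10 : g.1 1 0 = 0) (h : g.1 0 0 ^ 2 ≠ 1) : (χ : S2 → ℂ) g = 0 := by
  obtain ⟨a, ha, -, rfl⟩ := eq_elS_diag h01 h10
  rw [← ha] at h
  exact cuspSL_split (isClassFunction_irr χ) hc (diag_sq_ne h)

/-- The unipotent subgroup. -/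
def unipHom : Multiplicative F →* S2 where
  toFun x := elS 1 x.toAdd
  map_one' := elS_one_zero
  map_mul' x y := Subtype.ext (by
    simp only [Matrix.SpecialLinearGroup.coe_mul, elS_val, toAdd_mul]
    ext i j
    fin_cases i <;> fin_cases j <;> simp [Matrix.mul_apply, Fin.sum_univ_two, add_comm])

theorem cusp_sum_stmt (f : S2 → ℂ) :
    (∑ g : S2, if g.1 1 0 = 0 ∧ g.1 0 0 = 1 ∧ g.1 1 1 = 1 then f g else 0) = ∑ x : F, f (elS 1 x) := by
  rw [← Finset.sum_filter]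
  refine Finset.sum_bij' (fun g _ => g.1 0 1) (fun x _ => elS 1 x) ?_ ?_ ?_ ?_ ?_
  · intros; exact Finset.mem_univ _
  · intro x _; simp [elS_val]
  · intro g hg
    obtain ⟨h1, h2, h3⟩ := (Finset.mem_filter.1 hg).2
    refine Subtype.ext ?_
    rw [elS_val]
    ext i j
    fin_cases i <;> fin_cases j <;> simp [h1, h2, h3]
  · intro x _; simp [elS_val]
  · intro g hg
    obtain ⟨h1, h2, h3⟩ := (Finset.mem_filter.1 hg).2
    congr 1
    refine Subtype.ext ?_
    rw [elS_val]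
    ext i j
    fin_cases i <;> fin_cases j <;> simp [h1, h2, h3]

theorem halfPS_unip_sum {χ : IrrCharacter S2} (h : IsHalfPS χ) :
    ∑ x : F, (χ : S2 → ℂ) (elS 1 x) = (qF : ℂ) := by
  obtain ⟨ν, hν⟩ := exists_repUnip (F := F)
  obtain ⟨α, h2, h1, he, hne, -⟩ := halfPS_data h hν
  have := quad_constituent_sum h2 hne.symm he (Or.inl rfl) (1 : Fˣ)
  simpa using this

theorem psSL_unip_sum (α : MulChar F ℂ) : ∑ x : F, psSL α (elS 1 x) = 2 * (qF : ℂ) := by
  rw [sum_psSL_elS]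
  simp
  ring

theorem psSL_unip_val (α : MulChar F ℂ) {x : F} (hx : x ≠ 0) : psSL α (elS 1 x) = 1 := by
  rw [psSL_apply, psVal_jordan _ rfl (by simp [elS_val]) (by simpa [elS_val] using hx)]
  simp [elS_val]

/-! ### elliptic elements -/

theorem ell_not_scalar {g x : S2} (h : TwoClasses.IsEll g.1) (ht : x.1.trace = g.1.trace) :
    ¬ TwoClasses.IsScalar2 x.1 := by
  rintro ⟨h01, h10, h00⟩
  refine TwoClasses.isEll_no_root h (x.1 0 0) ?_
  have hd := x.det_coe
  rw [Matrix.det_fin_two, h01, zero_mul, sub_zero] at hd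
  rw [g.det_coe, ← ht, Matrix.trace_fin_two]
  linear_combination -hd

theorem card_centralizer_ell (hodd : Odd qF) {g : S2} (h : TwoClasses.IsEll g.1) :
    Nat.card (Subgroup.centralizer ({g} : Set S2)) = qF + 1 := by
  classical
  have hfib := TwoClasses.card_trace_fibre_ell h
  have e : Nat.card {x : S2 // IsConj g x} = Nat.card {x : S2 // x.1.trace = g.1.trace} :=
    Nat.card_congr (Equiv.subtypeEquivRight fun x => ⟨fun hc => (TwoClasses.sl_conj_spec hc).1.symm, fun ht =>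
      TwoClasses.sl_isConj_of_trace (TwoClasses.isEll_not_scalar h) (ell_not_scalar h ht) ht.symm
        (Or.inl (TwoClasses.isEll_dsc_ne hodd h))⟩)
  rw [card_isConj] at e
  have hidx := (Subgroup.centralizer ({g} : Set S2)).index_mul_card
  rw [e, card_sl_two] at hidx
  obtain ⟨x, hx⟩ : ∃ x, qF = x + 1 := ⟨qF - 1, (Nat.sub_add_cancel Fintype.card_pos).symm⟩
  have hx1 : 1 ≤ x := by have : 2 ≤ qF := Fintype.one_lt_card; omega
  rw [hx] at hfib hidx ⊢
  simp only [Nat.add_sub_cancel] at hidx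
  set N := Nat.card {x : S2 // x.1.trace = g.1.trace}
  have hN : N = x * (x + 1) := by nlinarith
  rw [hN] at hidx
  refine Nat.eq_of_mul_eq_mul_left (show 0 < x * (x + 1) by positivity) ?_
  rw [hidx]
  ring

theorem psSL_ell (α : MulChar F ℂ) {g : S2} (h : TwoClasses.IsEll g.1) : psSL α g = 0 := by
  rw [psSL_apply, psVal_ell _ h]

theorem stSL_ell {g : S2} (h : TwoClasses.IsEll g.1) : stSL g = -1 := by
  rw [stSL, Pi.sub_apply, psSL_ell _ h, zero_sub]

theorem halfPS_ell {χ : IrrCharacter S2} (h : IsHalfPS χ) {g : S2} (hg : TwoClasses.IsEll g.1)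
    (hodd : Odd qF) : (χ : S2 → ℂ) g = 0 := by
  obtain ⟨α, -, -, e⟩ := halfPS_value h (TwoClasses.isEll_not_scalar hg) (TwoClasses.isEll_dsc_ne hodd hg)
  rw [psSL_ell α hg] at e
  simpa using e

open Finset in
/-- For `q = 3` the characters of degree above one other than the Steinberg character vanish on elliptic elements. -/
theorem ell_three (h3 : qF = 3) {g : S2} (hg : TwoClasses.IsEll g.1) (χ : IrrCharacter S2)
    (h : (χ : S2 → ℂ) 1 = 2) : (χ : S2 → ℂ) g = 0 := by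
  classical
  haveI := Fintype.ofFinite (IrrCharacter S2)
  have hodd : Odd qF := h3 ▸ by decide
  have horth := sum_irr_mul_conj g g
  rw [if_pos (IsConj.refl g), card_centralizer_ell hodd hg, h3] at horth
  let one' : IrrCharacter S2 := ⟨_, isIrrCharacter_one⟩
  let st' : IrrCharacter S2 := ⟨_, isIrr_stSL⟩
  have cD := (sl_counts (F := F)).2.2.1
  rw [if_pos hodd, Nat.card_eq_fintype_card, Fintype.card_subtype] at cD
  obtain ⟨a, b, hab, hset⟩ := Finset.card_eq_two.1 cD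
  have hlin : ∀ c : IrrCharacter S2, IsCuspHalf c → (c : S2 → ℂ) g * conj ((c : S2 → ℂ) g) = 1 ∧ (c : S2 → ℂ) 1 = 1 := by
    intro c hc
    have h1 : (c : S2 → ℂ) 1 = 1 := by
      have := hc.2; rw [h3] at this; push_cast at this; linear_combination this / 2
    obtain ⟨l, hl⟩ := (linearCharEquiv (G := S2)).surjective ⟨c, h1⟩
    have hl' : (c : S2 → ℂ) g = (l g : ℂ) :=
      (congrFun (congrArg (fun z => ((z.1 : IrrCharacter S2) : S2 → ℂ)) hl) g).symm
    refine ⟨?_, h1⟩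
    rw [hl', Complex.mul_conj', norm_eq_one_of_pow_eq_one' (orderOf_pos g).ne' (by
      rw [← Units.val_pow_eq_pow_val, ← map_pow, pow_orderOf_eq_one, map_one, Units.val_one])]
    norm_num
  have hmem : IsCuspHalf a ∧ IsCuspHalf b := by
    have : a ∈ univ.filter (fun c => IsCuspHalf c) ∧ b ∈ univ.filter (fun c => IsCuspHalf c) := by
      rw [hset]; simp
    exact ⟨(mem_filter.1 this.1).2, (mem_filter.1 this.2).2⟩
  let A : Finset (IrrCharacter S2) := {one', st', a, b}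
  have hst1 : (st' : S2 → ℂ) 1 = 3 := by simp [st', stSL_one, h3]
  have hnot : ∀ c : IrrCharacter S2, IsCuspHalf c → c ≠ one' ∧ c ≠ st' := fun c hc =>
    ⟨fun e => triv_not_cusp (e ▸ hc.1 : IsCuspSL (one' : S2 → ℂ)),
      fun e => stSL_not_cusp (e ▸ hc.1 : IsCuspSL (st' : S2 → ℂ))⟩
  have hone : one' ≠ st' := fun e => by
    have := congrArg (fun c : IrrCharacter S2 => (c : S2 → ℂ) 1) e
    simp [one', hst1] at this
  have hA : ∑ c ∈ A, (c : S2 → ℂ) g * conj ((c : S2 → ℂ) g) = 4 := by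
    rw [sum_insert (by simp [hone, (hnot a hmem.1).1.symm, (hnot b hmem.2).1.symm]),
      sum_insert (by simp [(hnot a hmem.1).2.symm, (hnot b hmem.2).2.symm]), sum_pair hab,
      (hlin a hmem.1).1, (hlin b hmem.2).1]
    simp only [one', st', stSL_ell hg, map_one, map_neg]
    norm_num
  rw [← sum_add_sum_compl A, hA] at horth
  have hz : ∑ c ∈ Aᶜ, (Complex.normSq ((c : S2 → ℂ) g)) = 0 := by
    have : ((∑ c ∈ Aᶜ, Complex.normSq ((c : S2 → ℂ) g) : ℝ) : ℂ) = 0 := by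
      push_cast at horth ⊢
      simp only [Complex.mul_conj] at horth
      linear_combination horth
    exact_mod_cast this
  have hχA : χ ∈ Aᶜ := by
    simp only [mem_compl, A, mem_insert, mem_singleton]
    rintro (rfl | rfl | rfl | rfl)
    · simp [one'] at h
    · rw [hst1] at h; norm_num at h
    · rw [(hlin _ hmem.1).2] at h; norm_num at h
    · rw [(hlin _ hmem.2).2] at h; norm_num at h
  exact Complex.normSq_eq_zero.1 ((sum_eq_zero_iff_of_nonneg fun c _ => Complex.normSq_nonneg _).1 hz χ hχA)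

/-! ### Gauss sums -/

theorem exists_primitive : ∃ ψ : AddChar F ℂ, ψ.IsPrimitive := by
  obtain ⟨ψ, hψ⟩ := AddChar.exists_apply_ne_zero.2 (one_ne_zero (α := F))
  exact ⟨ψ, AddChar.IsPrimitive.of_ne_one fun h => hψ (by rw [h]; rfl)⟩

/-- The values of a character with the given multiplicities on the unipotent subgroup. -/
theorem gauss_value (hodd : Odd qF) {ν : Fˣ} (hν : ¬ IsSquare (ν : F)) (χ : IrrCharacter S2) {S : ℤ}
    (hS : (χ : S2 → ℂ) (elS (1 : Fˣ) (1 : F)) + (χ : S2 → ℂ) (elS (1 : Fˣ) (ν : F)) = S)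
    (hd : 2 * (χ : S2 → ℂ) 1 = (qF : ℂ) + S) :
    (2 * (χ : S2 → ℂ) (elS (1 : Fˣ) (1 : F)) - S) ^ 2 = (-1 : ℂ) ^ ((qF - 1) / 2) * (qF : ℂ) := by
  classical
  set y1 := (χ : S2 → ℂ) (elS (1 : Fˣ) (1 : F))
  set y2 := (χ : S2 → ℂ) (elS (1 : Fˣ) (ν : F))
  set χ2 : MulChar F ℂ := (quadraticChar F).ringHomComp (Int.castRingHom ℂ) with hχ2
  have hne2 := TwoClasses.ringChar_ne_two_of_odd hodd
  have hq2 : χ2.IsQuadratic := (quadraticChar_isQuadratic F).comp _
  have hne1 : χ2 ≠ 1 := (MulChar.ringHomComp_ne_one_iff Int.cast_injective).2 (quadraticChar_ne_one hne2)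
  obtain ⟨ψ, hψ⟩ := exists_primitive (F := F)
  set g := gaussSum χ2 ψ with hg
  have hg2 : g ^ 2 = χ2 (-1) * qF := gaussSum_sq hne1 hq2 hψ
  have hν0 := ν.ne_zero
  have hval : ∀ x : F, x ≠ 0 → (χ : S2 → ℂ) (elS 1 x) = (S : ℂ) / 2 + (y1 - y2) / 2 * χ2 x := by
    intro x hx
    by_cases hs : IsSquare x
    · rw [quad_apply_sq hq2.sq_eq_one hx hs, classFun_isConj (isClassFunction_irr χ)
        ((elS_one_isConj_iff hodd hx one_ne_zero).2 (by rwa [mul_one]))]
      rw [← hS]; ring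
    · rw [quad_apply_nonsq hq2.sq_eq_one hne1 hs, classFun_isConj (isClassFunction_irr χ)
        ((elS_one_isConj_iff hodd hx hν0).2 (by
          rw [mul_comm]; exact (TwoClasses.isSquare_mul_cases hν x hx).resolve_left hs))]
      rw [← hS]; ring
  have hsum : ∀ c : Fˣ, ∑ x : F, (χ : S2 → ℂ) (elS 1 x) * ψ (-((c : F) * x)) =
      (qF : ℂ) / 2 + (y1 - y2) / 2 * (χ2 (((-c : Fˣ)) : F) * g) := by
    intro c
    have hsh : ∑ x : F, χ2 x * ψ (-((c : F) * x)) = χ2 (((-c : Fˣ)) : F) * g := by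
      rw [hg, ← gaussSum_mulShift χ2 ψ (-c), ← mul_assoc, ← pow_two, ← map_pow]
      rw [show χ2 ((((-c : Fˣ)) : F) ^ 2) = 1 from quad_apply_sq hq2.sq_eq_one
        (pow_ne_zero _ (-c : Fˣ).ne_zero) (IsSquare.sq _), one_mul]
      simp [gaussSum, AddChar.mulShift_apply]
    have hψ0 : ∑ x : F, ψ (-((c : F) * x)) = 0 := by
      have h0 : (ψ.mulShift (((-c : Fˣ)) : F)) ≠ 1 := hψ (-c : Fˣ).ne_zero
      rw [← AddChar.sum_eq_zero_iff_ne_zero.2 h0]
      simp [AddChar.mulShift_apply]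
    have hsplit : ∀ x : F, (χ : S2 → ℂ) (elS 1 x) * ψ (-((c : F) * x)) =
        (if x = 0 then (χ : S2 → ℂ) 1 - (S : ℂ) / 2 else 0) +
          ((S : ℂ) / 2 * ψ (-((c : F) * x)) + (y1 - y2) / 2 * (χ2 x * ψ (-((c : F) * x)))) := by
      intro x
      by_cases hx : x = 0
      · subst hx
        rw [elS_one_zero, if_pos rfl, mul_zero, neg_zero, AddChar.map_zero_eq_one, MulChar.map_zero]
        ring
      · rw [hval x hx, if_neg hx]; ring
    simp only [hsplit, Finset.sum_add_distrib, ← Finset.mul_sum, hψ0, hsh, Finset.sum_ite_eq', Finset.mem_univ,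
      if_true]
    linear_combination hd / 2
  have hnat : ∀ c : Fˣ, ∃ m : ℕ, ∑ x : F, (χ : S2 → ℂ) (elS 1 x) * ψ (-((c : F) * x)) = (qF : ℂ) * m := by
    intro c
    let θ : Multiplicative F →* ℂ :=
      { toFun := fun x => ψ ((c : F) * x.toAdd)
        map_one' := by simp
        map_mul' := fun x y => by rw [toAdd_mul, mul_add, AddChar.map_add_eq_mul] }
    obtain ⟨m, hm⟩ := classInner_isCharacter (isCharacter_comp (isCharacter_irr χ) (unipHom (F := F)))
      (isCharacter_of_isIrr (isIrrCharacter_lin θ.toHomUnits))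
    refine ⟨m, ?_⟩
    rw [← hm, classInner, ← mul_assoc, show Nat.card (Multiplicative F) = qF from Nat.card_eq_fintype_card.trans
      (Fintype.card_congr Multiplicative.toAdd), mul_inv_cancel₀ (by exact_mod_cast Fintype.card_ne_zero), one_mul]
    refine Fintype.sum_equiv Multiplicative.ofAdd _ _ fun x => ?_
    simp [θ, unipHom, AddChar.map_neg_eq_conj]
    exact Or.inl rfl
  obtain ⟨m1, hm1⟩ := hnat 1
  obtain ⟨m2, hm2⟩ := hnat ν
  rw [hsum] at hm1 hm2
  have hnegν : χ2 (((-ν : Fˣ)) : F) = -χ2 (((-1 : Fˣ)) : F) := by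
    rw [Units.val_neg, Units.val_neg, Units.val_one, show -(ν : F) = (-1) * ν by ring, map_mul,
      quad_apply_nonsq hq2.sq_eq_one hne1 hν, mul_neg_one]
  rw [hnegν] at hm2
  have hm12 : m1 + m2 = 1 := by
    have h : (qF : ℂ) * ((m1 + m2 : ℕ) : ℂ) = (qF : ℂ) * ((1 : ℕ) : ℂ) := by
      push_cast; linear_combination -hm1 - hm2
    exact_mod_cast mul_left_cancel₀ (by exact_mod_cast Fintype.card_ne_zero) h
  have hDg : ((y1 - y2) * (χ2 (((-1 : Fˣ)) : F) * g)) ^ 2 = (qF : ℂ) ^ 2 := by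
    rcases (show m1 = 0 ∨ m1 = 1 by omega) with h | h <;> rw [h] at hm1 <;> push_cast at hm1
    · rw [show (y1 - y2) * (χ2 (((-1 : Fˣ)) : F) * g) = -(qF : ℂ) by linear_combination 2 * hm1]; ring
    · rw [show (y1 - y2) * (χ2 (((-1 : Fˣ)) : F) * g) = (qF : ℂ) by linear_combination 2 * hm1]
  have hsq1 : χ2 (((-1 : Fˣ)) : F) ^ 2 = 1 := by
    rw [← map_pow]
    exact quad_apply_sq hq2.sq_eq_one (pow_ne_zero _ (-1 : Fˣ).ne_zero) (IsSquare.sq _)
  rw [Units.val_neg, Units.val_one] at hDg hsq1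
  have hchi : χ2 (-1) = (-1 : ℂ) ^ ((qF - 1) / 2) := by
    rw [hχ2, MulChar.ringHomComp_apply, quadraticChar_neg_one hne2,
      ZMod.χ₄_eq_neg_one_pow (Nat.odd_iff.1 hodd),
      show qF / 2 = (qF - 1) / 2 by rcases hodd with ⟨k, hk⟩; omega]
    simp
  rw [mul_pow, mul_pow, hsq1, one_mul, hg2] at hDg
  have hqne : (qF : ℂ) ≠ 0 := by exact_mod_cast Fintype.card_ne_zero
  have h1 : (y1 - y2) ^ 2 * χ2 (-1) = (qF : ℂ) :=
    mul_right_cancel₀ hqne (by linear_combination hDg)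
  rw [← hchi, show 2 * y1 - (S : ℂ) = y1 - y2 by rw [← hS]; ring]
  linear_combination χ2 (-1) * h1 - (y1 - y2) ^ 2 * hsq1

end CfsgLib.Char.TwoChars

namespace CfsgLib.Char.TwoChars

open Matrix Cfsg CfsgLib.Char
open scoped ComplexConjugate

variable {F : Type*} [Field F] [Fintype F] [DecidableEq F]

local notation "S2" => Matrix.SpecialLinearGroup (Fin 2) F
local notation "qF" => Fintype.card F

theorem two_mul_half_add (hodd : Odd qF) : 2 * (((qF + 1) / 2 : ℕ) : ℂ) = (qF : ℂ) + 1 := by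
  have : 2 * ((qF + 1) / 2) = qF + 1 := by rcases hodd with ⟨k, hk⟩; omega
  exact_mod_cast this

theorem two_mul_half_sub (hodd : Odd qF) : 2 * (((qF - 1) / 2 : ℕ) : ℂ) = (qF : ℂ) - 1 := by
  rw [← cast_qF]
  have : 2 * ((qF - 1) / 2) = qF - 1 := by rcases hodd with ⟨k, hk⟩; omega
  exact_mod_cast this

theorem eq_half_add_iff (hodd : Odd qF) {z : ℂ} :
    z = (((qF + 1) / 2 : ℕ) : ℂ) ↔ 2 * z = (qF : ℂ) + 1 := by
  rw [← two_mul_half_add hodd]
  exact (mul_right_inj' two_ne_zero).symm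

theorem eq_half_sub_iff (hodd : Odd qF) {z : ℂ} :
    z = (((qF - 1) / 2 : ℕ) : ℂ) ↔ 2 * z = (qF : ℂ) - 1 := by
  rw [← two_mul_half_sub hodd]
  exact (mul_right_inj' two_ne_zero).symm

end CfsgLib.Char.TwoChars
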