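import Cfsg.Agent.Lib.Char.ExtendChar

/-!
# Extension criteria: determinants and Sylow subgroups
-/

set_option autoImplicit false
set_option linter.unusedSectionVars false

namespace CfsgLib.Char

open Representation Module Cfsg

universe u

variable {G : Type u} [Group G] [Finite G] (N : Subgroup G) [hN : N.Normal]

/-- A linear character of `N` extendible to `G` and of order coprime to the index has a unique
extension of the same order. -/
theorem exists_linear_extension_same_order (f : G →* ℂˣ)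
    (hcop : Nat.Coprime N.index (orderOf (f.comp N.subtype))) :
    ∃ μ : G →* ℂˣ, μ.comp N.subtype = f.comp N.subtype ∧ orderOf μ = orderOf (f.comp N.subtype) := by
  set o := orderOf (f.comp N.subtype) with ho
  have hfo : ∀ n : N, f n ^ o = 1 := fun n => by
    have := DFunLike.congr_fun (pow_orderOf_eq_one (f.comp N.subtype)) n
    rwa [← ho, MonoidHom.pow_apply] at this
  have hall : f ^ (o * N.index) = 1 := by
    refine MonoidHom.ext fun g => ?_
    rw [MonoidHom.pow_apply, mul_comm, pow_mul, ← map_pow, MonoidHom.one_apply]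
    exact hfo ⟨_, N.pow_index_mem g⟩
  set a := Nat.gcdA N.index o
  have hk : (1 : ℤ) = N.index * a + o * Nat.gcdB N.index o := by
    have h := Nat.gcd_eq_gcd_ab N.index o
    rwa [hcop.gcd_eq_one, Nat.cast_one] at h
  refine ⟨f ^ ((N.index : ℤ) * a), ?_, ?_⟩
  · refine MonoidHom.ext fun n => ?_
    show (f ^ ((N.index : ℤ) * a)) (n : G) = f (n : G)
    rw [show (f ^ ((N.index : ℤ) * a)) (n : G) = f (n : G) ^ ((N.index : ℤ) * a) from rfl]
    conv_rhs => rw [← zpow_one (f (n : G)), hk, zpow_add, zpow_mul (f (n : G)) (o : ℤ), zpow_natCast,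
      hfo, one_zpow, mul_one]
  · apply Nat.dvd_antisymm
    · refine orderOf_dvd_of_pow_eq_one ?_
      refine MonoidHom.ext fun g => ?_
      have hg := DFunLike.congr_fun hall g
      rw [MonoidHom.pow_apply, MonoidHom.one_apply] at hg
      rw [MonoidHom.pow_apply, MonoidHom.one_apply]
      show (f g ^ ((N.index : ℤ) * a)) ^ o = 1
      rw [← zpow_natCast, ← zpow_mul, show (N.index : ℤ) * a * (o : ℤ) = ((o * N.index : ℕ) : ℤ) * a by
        push_cast; ring, zpow_mul, zpow_natCast, hg, one_zpow]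
    · refine orderOf_dvd_of_pow_eq_one (MonoidHom.ext fun n => ?_)
      have h := DFunLike.congr_fun (pow_orderOf_eq_one (f ^ ((N.index : ℤ) * a))) (n : G)
      rw [MonoidHom.pow_apply] at h
      rw [MonoidHom.pow_apply]
      show f (n : G) ^ _ = 1
      rw [show f (n : G) = (f ^ ((N.index : ℤ) * a)) (n : G) by
        rw [show (f ^ ((N.index : ℤ) * a)) (n : G) = f (n : G) ^ ((N.index : ℤ) * a) from rfl]
        conv_lhs => rw [← zpow_one (f (n : G)), hk, zpow_add, zpow_mul (f (n : G)) (o : ℤ),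
          zpow_natCast, hfo, one_zpow, mul_one]]
      exact h

theorem linear_extension_unique {μ μ' : G →* ℂˣ} (h : μ.comp N.subtype = μ'.comp N.subtype)
    (hμ : Nat.Coprime N.index (orderOf μ)) (hμ' : Nat.Coprime N.index (orderOf μ')) : μ' = μ := by
  have h1 : (μ' / μ) ^ N.index = 1 := pow_index_eq_one_of_trivial N _ fun n => by
    rw [MonoidHom.div_apply, div_eq_one]
    exact (DFunLike.congr_fun h n).symm
  have h2 : (μ' / μ) ^ (orderOf μ' * orderOf μ) = 1 := by
    refine MonoidHom.ext fun g => ?_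
    have e1 := DFunLike.congr_fun (pow_orderOf_eq_one μ) g
    have e2 := DFunLike.congr_fun (pow_orderOf_eq_one μ') g
    rw [MonoidHom.pow_apply, MonoidHom.one_apply] at e1 e2
    rw [MonoidHom.pow_apply, MonoidHom.div_apply, MonoidHom.one_apply, div_pow, pow_mul, e2, one_pow,
      mul_comm, pow_mul, e1, one_pow, div_one]
  exact div_eq_one.mp (eq_one_of_pow_coprime h1 h2 (hμ'.mul_right hμ))

variable {d : ℕ} (ρ : Representation ℂ N (Fin d → ℂ)) [hρ : ρ.IsIrreducible]

theorem detHom_comp {σ : Representation ℂ G (Fin d → ℂ)} (h : ∀ n : N, σ n = ρ n) :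
    (detHom σ).comp N.subtype = detHom ρ :=
  MonoidHom.ext fun n => Units.ext (congrArg LinearMap.det (h n))

theorem exists_extension_with_det (hcop : Nat.Coprime N.index d)
    {σ : Representation ℂ G (Fin d → ℂ)} (hσ : ∀ n : N, σ n = ρ n) (μ : G →* ℂˣ)
    (hμ : μ.comp N.subtype = detHom ρ) :
    ∃ σ' : Representation ℂ G (Fin d → ℂ), (∀ n : N, σ' n = ρ n) ∧ detHom σ' = μ := by
  have hθ : (μ / detHom σ) ^ N.index = 1 := pow_index_eq_one_of_trivial N _ fun n => by
    rw [MonoidHom.div_apply, div_eq_one]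
    exact DFunLike.congr_fun (hμ.trans (detHom_comp N ρ hσ).symm) n
  obtain ⟨ν, h1, h2⟩ := exists_eq_pow_of_coprime (A := G →* ℂˣ) hθ hcop
  have hν : ∀ n : N, ν n = 1 := fun n => by
    refine eq_one_of_pow_coprime (m := N.index) (k := d) ?_ ?_ hcop
    · exact DFunLike.congr_fun h2 (n : G)
    · have h3 := DFunLike.congr_fun h1 (n : G)
      rw [MonoidHom.pow_apply] at h3
      rw [h3, MonoidHom.div_apply, div_eq_one]
      exact DFunLike.congr_fun (hμ.trans (detHom_comp N ρ hσ).symm) n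
  refine ⟨twistRep σ ν, twistRep_extends N ρ hσ hν, ?_⟩
  rw [detHom_twistRep, Module.finrank_fin_fun, h1]
  exact MonoidHom.ext fun g => by rw [MonoidHom.mul_apply, MonoidHom.div_apply, mul_div_cancel]

theorem extension_det_unique (hcop : Nat.Coprime N.index d)
    {σ σ' : Representation ℂ G (Fin d → ℂ)} (hσ : ∀ n : N, σ n = ρ n) (hσ' : ∀ n : N, σ' n = ρ n)
    (h : detHom σ = detHom σ') : σ' = σ := by
  obtain ⟨ν, hν, rfl⟩ := exists_twist_eq N ρ hσ hσ'
  rw [detHom_twistRep, Module.finrank_fin_fun] at h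
  replace h : ν ^ d = 1 := MonoidHom.ext fun g => by
    have hg := DFunLike.congr_fun h g
    rw [MonoidHom.mul_apply, left_eq_mul] at hg
    exact hg
  rw [eq_one_of_pow_coprime (A := G →* ℂˣ) (x := ν) (pow_index_eq_one_of_trivial N ν hν) h hcop]
  exact MonoidHom.ext fun g => show ((1 : G →* ℂˣ) g : ℂ) • σ g = σ g by simp

/-- Extension when, for every prime, the index, `d * o` or a partial extension allows it. -/
theorem extends_of_sylow (hinv : IsInvariant N ρ)
    (h : ∀ p : ℕ, p.Prime → p ∣ N.index → p ∣ d * orderOf (detHom ρ) →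
      ∃ (P : Subgroup G) (hNP : N ≤ P) (σ : Representation ℂ P (Fin d → ℂ)),
        ¬ p ∣ P.index ∧ ∀ n : N, σ (Subgroup.inclusion hNP n) = ρ n) :
    ∃ σ : Representation ℂ G (Fin d → ℂ), ∀ n : N, σ n = ρ n := by
  refine extends_of_tauSet N ρ hinv fun p hp => ?_
  by_cases h1 : p ∣ N.index
  swap
  · exact ⟨_, index_self_mem_tauSet N ρ hinv, fun h' => h1 (Int.natCast_dvd_natCast.mp h')⟩
  by_cases h2 : p ∣ d * orderOf (detHom ρ)
  swap
  · refine ⟨_, det_order_mem_tauSet N ρ (o := orderOf (detHom ρ)) fun n => ?_,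
      fun h' => h2 (Int.natCast_dvd_natCast.mp h')⟩
    have h3 := congrArg Units.val (DFunLike.congr_fun (pow_orderOf_eq_one (detHom ρ)) n)
    rwa [MonoidHom.pow_apply, Units.val_pow_eq_pow_val, detHom_coe, MonoidHom.one_apply,
      Units.val_one] at h3
  obtain ⟨P, hNP, σ, hP, hσ⟩ := h p hp h1 h2
  exact ⟨_, index_mem_tauSet N ρ hinv P hNP σ hσ, fun h' => hP (Int.natCast_dvd_natCast.mp h')⟩

theorem extends_of_det_extends (hinv : IsInvariant N ρ) (hcop : Nat.Coprime N.index d)
    (μ : G →* ℂˣ) (hμ : ∀ n : N, (μ n : ℂ) = LinearMap.det (ρ n)) :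
    ∃ σ : Representation ℂ G (Fin d → ℂ), ∀ n : N, σ n = ρ n := by
  refine extends_of_tauSet N ρ hinv fun p hp => ?_
  by_cases h1 : p ∣ N.index
  · refine ⟨_, det_mem_tauSet N ρ μ hμ, fun h' => hp.one_lt.ne' ?_⟩
    exact Nat.dvd_one.mp (hcop.gcd_eq_one ▸ Nat.dvd_gcd h1 (Int.natCast_dvd_natCast.mp h'))
  · exact ⟨_, index_self_mem_tauSet N ρ hinv, fun h' => h1 (Int.natCast_dvd_natCast.mp h')⟩

omit hρ in
theorem det_eq_trace_of_one (ρ : Representation ℂ N (Fin 1 → ℂ)) (n : N) :
    (detHom ρ n : ℂ) = ρ.character n := by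
  rw [detHom_coe, ← LinearMap.det_toMatrix', Matrix.det_fin_one, Representation.character,
    LinearMap.trace_eq_matrix_trace ℂ (Pi.basisFun ℂ (Fin 1)), LinearMap.toMatrix_eq_toMatrix',
    Matrix.trace_fin_one]

theorem exists_linear_ext (lam : N → ℂ) (hlam : IsCharacter N lam ∧ lam 1 = 1)
    (hinv : ∀ (g : G) (n : N), lam ⟨g * n * g⁻¹, hN.conj_mem (n : G) n.2 g⟩ = lam n)
    (h : ∀ p : ℕ, p.Prime → p ∣ N.index → p ∣ orderOf lam →
      ∃ (H : Subgroup G) (hNH : N ≤ H) (ν : H → ℂ), ¬ p ∣ H.index ∧ IsCharacter H ν ∧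
        ∀ n : N, ν ⟨(n : G), hNH n.2⟩ = lam n) :
    ∃ f : G →* ℂˣ, ∀ n : N, (f n : ℂ) = lam n := by
  obtain ⟨⟨m, ρ, rfl⟩, h1⟩ := hlam
  rw [Representation.char_one, Module.finrank_fin_fun, Nat.cast_eq_one] at h1
  subst h1
  have : ρ.IsIrreducible := isIrreducible_of_finrank_eq_one ρ (Module.finrank_fin_fun ℂ)
  have hord : orderOf ρ.character = orderOf (detHom ρ) := by
    rw [← orderOf_fun_hom (detHom ρ), show (fun n => (detHom ρ n : ℂ)) = ρ.character from
      funext (det_eq_trace_of_one N ρ)]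
  obtain ⟨σ, hσ⟩ := extends_of_sylow N ρ hinv fun p hp h2 h3 => by
    rw [one_mul, ← hord] at h3
    obtain ⟨H, hNH, ν, hH, hν, hres⟩ := h p hp h2 h3
    obtain ⟨σ, hσ, -⟩ := exists_rep_extension N ρ H hNH hν hres
    exact ⟨H, hNH, σ, hH, hσ⟩
  exact ⟨detHom σ, fun n => by
    rw [← det_eq_trace_of_one N ρ n, ← detHom_comp N ρ hσ]; rfl⟩

end CfsgLib.Char
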