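import Mathlib
import Cfsg.Prelude.Def_Characters

/-!
# Characters of finite groups over the complex numbers: basic API

Diagonalisation, values, operations on characters, decomposition into irreducible characters.
-/

set_option autoImplicit false

namespace CfsgLib.Char

open scoped ComplexConjugate
open Representation Module

universe u v w

variable {G : Type u} [Group G]

section Diag

variable {V : Type v} [AddCommGroup V] [Module ℂ V] [FiniteDimensional ℂ V]

set_option linter.unusedSectionVars false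

/-- An endomorphism of finite order has a basis of eigenvectors, with roots of unity as eigenvalues. -/
theorem exists_eigenbasis_of_pow_eq_one (T : V →ₗ[ℂ] V) {n : ℕ} (hn : n ≠ 0) (hT : T ^ n = 1) :
    ∃ (b : Basis (Fin (finrank ℂ V)) ℂ V) (μ : Fin (finrank ℂ V) → ℂ),
      (∀ i, μ i ^ n = 1) ∧ ∀ i, T (b i) = μ i • b i := by
  classical
  have hsep : (Polynomial.X ^ n - Polynomial.C (1:ℂ)).Separable :=
    Polynomial.separable_X_pow_sub_C 1 (by exact_mod_cast hn) one_ne_zero
  have hss : Module.End.IsSemisimple T := by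
    refine Module.End.isSemisimple_of_squarefree_aeval_eq_zero hsep.squarefree ?_
    simp [hT]
  have htop : ⨆ μ : ℂ, Module.End.eigenspace T μ = ⊤ := by
    have := Module.End.iSup_maxGenEigenspace_eq_top T
    simpa [hss.isFinitelySemisimple.maxGenEigenspace_eq_eigenspace] using this
  have hint : DirectSum.IsInternal (fun μ : ℂ => Module.End.eigenspace T μ) :=
    DirectSum.isInternal_submodule_of_iSupIndep_of_iSup_eq_top
      (Module.End.eigenspaces_iSupIndep T) htop
  let B := hint.collectedBasis fun μ => Module.finBasis ℂ (Module.End.eigenspace T μ)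
  have hfin : Finite (Σ μ : ℂ, Fin (finrank ℂ (Module.End.eigenspace T μ))) :=
    Module.Finite.finite_basis B
  let e := Fintype.ofFinite (Σ μ : ℂ, Fin (finrank ℂ (Module.End.eigenspace T μ)))
  have hcard : Fintype.card (Σ μ : ℂ, Fin (finrank ℂ (Module.End.eigenspace T μ))) = finrank ℂ V :=
    (Module.finrank_eq_card_basis B).symm
  let f := Fintype.equivFinOfCardEq hcard
  let b := B.reindex f
  have hb : ∀ i, T (b i) = (f.symm i).1 • b i := by
    intro i
    have hmem := hint.collectedBasis_mem
      (fun μ => Module.finBasis ℂ (Module.End.eigenspace T μ)) (f.symm i)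
    rw [Basis.reindex_apply]
    exact Module.End.mem_eigenspace_iff.mp hmem
  refine ⟨b, fun i => (f.symm i).1, fun i => ?_, hb⟩
  have h2 : ∀ k : ℕ, (T ^ k) (b i) = (f.symm i).1 ^ k • b i := by
    intro k
    induction k with
    | zero => simp
    | succ k ih => rw [pow_succ', Module.End.mul_apply, ih, map_smul, hb, smul_smul, pow_succ]
  have h3 := h2 n
  rw [hT, Module.End.one_apply] at h3
  have h4 : (1 : ℂ) • b i = (f.symm i).1 ^ n • b i := by rw [one_smul]; exact h3
  exact ((smul_left_injective ℂ (b.ne_zero i)) h4).symm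

theorem trace_eq_sum_eigen {m : ℕ} (b : Basis (Fin m) ℂ V) (T : V →ₗ[ℂ] V) (μ : Fin m → ℂ)
    (h : ∀ i, T (b i) = μ i • b i) : LinearMap.trace ℂ V T = ∑ i, μ i := by
  rw [LinearMap.trace_eq_matrix_trace ℂ b T]
  simp [Matrix.trace, LinearMap.toMatrix_apply, h]

theorem rho_pow_orderOf (ρ : Representation ℂ G V) (g : G) : (ρ g) ^ orderOf g = 1 := by
  rw [← map_pow, pow_orderOf_eq_one, map_one]

/-- Simultaneous description of `ρ g` and its powers by eigenvalues. -/
theorem exists_eigen_data [Finite G] (ρ : Representation ℂ G V) (g : G) :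
    ∃ (b : Basis (Fin (finrank ℂ V)) ℂ V) (μ : Fin (finrank ℂ V) → ℂ),
      (∀ i, μ i ^ orderOf g = 1) ∧ (∀ (k : ℕ) (i), ρ (g ^ k) (b i) = μ i ^ k • b i) ∧
      ∀ k : ℕ, ρ.character (g ^ k) = ∑ i, μ i ^ k := by
  obtain ⟨b, μ, h1, h2⟩ :=
    exists_eigenbasis_of_pow_eq_one (ρ g) (orderOf_pos g).ne' (rho_pow_orderOf ρ g)
  have h3 : ∀ (k : ℕ) (i), ρ (g ^ k) (b i) = μ i ^ k • b i := by
    intro k i
    induction k with
    | zero => simp
    | succ k ih => rw [pow_succ', map_mul, Module.End.mul_apply, ih, map_smul, h2, smul_smul, pow_succ]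
  exact ⟨b, μ, h1, h3, fun k => trace_eq_sum_eigen b _ _ (h3 k)⟩

theorem norm_eq_one_of_pow_eq_one' {μ : ℂ} {n : ℕ} (hn : n ≠ 0) (h : μ ^ n = 1) : ‖μ‖ = 1 :=
  Complex.norm_eq_one_of_pow_eq_one h hn

theorem conj_eq_inv_of_pow_eq_one {μ : ℂ} {n : ℕ} (hn : n ≠ 0) (h : μ ^ n = 1) : conj μ = μ⁻¹ :=
  (Complex.inv_eq_conj (norm_eq_one_of_pow_eq_one' hn h)).symm

theorem isIntegral_of_pow_eq_one {μ : ℂ} {n : ℕ} (hn : n ≠ 0) (h : μ ^ n = 1) : IsIntegral ℤ μ :=
  IsIntegral.of_pow (Nat.pos_of_ne_zero hn) (by rw [h]; exact isIntegral_one)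

theorem char_pow_eq_sum_isIntegral [Finite G] (ρ : Representation ℂ G V) (g : G) :
    IsIntegral ℤ (ρ.character g) := by
  obtain ⟨b, μ, h1, _, h3⟩ := exists_eigen_data ρ g
  have := h3 1
  simp only [pow_one] at this
  rw [this]
  exact IsIntegral.sum _ fun i _ => isIntegral_of_pow_eq_one (orderOf_pos g).ne' (h1 i)

/-- `χ (g⁻¹) = conj (χ g)`. -/
theorem char_inv [Finite G] (ρ : Representation ℂ G V) (g : G) :
    ρ.character g⁻¹ = conj (ρ.character g) := by
  obtain ⟨b, μ, h1, _, h3⟩ := exists_eigen_data ρ g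
  have hpos := orderOf_pos g
  have hinv : g⁻¹ = g ^ (orderOf g - 1) := by
    apply inv_eq_of_mul_eq_one_right
    rw [← pow_succ', Nat.sub_add_cancel hpos, pow_orderOf_eq_one]
  have e := h3 1
  rw [pow_one] at e
  rw [hinv, h3, e, map_sum]
  refine Finset.sum_congr rfl fun i _ => ?_
  rw [pow_one, conj_eq_inv_of_pow_eq_one hpos.ne' (h1 i)]
  symm
  apply inv_eq_of_mul_eq_one_right
  rw [← pow_succ', Nat.sub_add_cancel hpos, h1]

theorem norm_char_le [Finite G] (ρ : Representation ℂ G V) (g : G) :
    ‖ρ.character g‖ ≤ finrank ℂ V := by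
  obtain ⟨b, μ, h1, _, h3⟩ := exists_eigen_data ρ g
  have := h3 1
  simp only [pow_one] at this
  rw [this]
  refine (norm_sum_le _ _).trans ?_
  rw [Finset.sum_congr rfl fun i _ => norm_eq_one_of_pow_eq_one' (orderOf_pos g).ne' (h1 i)]
  simp

end Diag

/-! ### Transport -/

section Transport

variable {V : Type v} [AddCommGroup V] [Module ℂ V] {W : Type w} [AddCommGroup W] [Module ℂ W]

/-- Transport a representation along a linear equivalence. -/
noncomputable def conjRep (ρ : Representation ℂ G V) (e : V ≃ₗ[ℂ] W) : Representation ℂ G W where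
  toFun g := e.conj (ρ g)
  map_one' := by simp [LinearMap.ext_iff, LinearEquiv.conj_apply]
  map_mul' g h := by simp [LinearMap.ext_iff, LinearEquiv.conj_apply]

/-- The equivalence with a transported representation. -/
noncomputable def conjRepEquiv (ρ : Representation ℂ G V) (e : V ≃ₗ[ℂ] W) : ρ.Equiv (conjRep ρ e) :=
  Representation.Equiv.mk e fun g => by
    ext v
    simp [conjRep, LinearEquiv.conj_apply]

theorem conjRep_apply (ρ : Representation ℂ G V) (e : V ≃ₗ[ℂ] W) (g : G) (v : V) :
    conjRep ρ e g (e v) = e (ρ g v) := by simp [conjRep, LinearEquiv.conj_apply]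

theorem character_conjRep (ρ : Representation ℂ G V) (e : V ≃ₗ[ℂ] W) :
    (conjRep ρ e).character = ρ.character := by
  ext g
  exact LinearMap.trace_conj' (ρ g) e

/-- Subrepresentations correspond along an equivalence of representations. -/
def subrepEquiv {ρ : Representation ℂ G V} {σ : Representation ℂ G W} (φ : ρ.Equiv σ) :
    Subrepresentation ρ ≃o Subrepresentation σ where
  toFun S := ⟨S.toSubmodule.map φ.toLinearEquiv.toLinearMap, by
    rintro g _ ⟨v, hv, rfl⟩
    exact ⟨ρ g v, S.apply_mem_toSubmodule g hv, Representation.IntertwiningMap.isIntertwining ρ σ φ.toIntertwiningMap g v⟩⟩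
  invFun S := ⟨S.toSubmodule.comap φ.toLinearEquiv.toLinearMap, by
    intro g v hv
    rw [Submodule.mem_comap] at hv ⊢
    have h : φ.toLinearEquiv.toLinearMap (ρ g v) = σ g (φ.toLinearEquiv.toLinearMap v) :=
      Representation.IntertwiningMap.isIntertwining ρ σ φ.toIntertwiningMap g v
    rw [h]
    exact S.apply_mem_toSubmodule g hv⟩
  left_inv S := Subrepresentation.toSubmodule_injective
    (Submodule.comap_map_eq_of_injective φ.toLinearEquiv.injective _)
  right_inv S := Subrepresentation.toSubmodule_injective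
    (Submodule.map_comap_eq_of_surjective φ.toLinearEquiv.surjective _)
  map_rel_iff' := Submodule.map_le_map_iff_of_injective φ.toLinearEquiv.injective _ _

theorem isIrreducible_of_equiv {ρ : Representation ℂ G V} {σ : Representation ℂ G W}
    (φ : ρ.Equiv σ) [ρ.IsIrreducible] : σ.IsIrreducible :=
  (subrepEquiv φ).symm.isSimpleOrder

variable [FiniteDimensional ℂ V]

/-- A representation written on a coordinate space. -/
noncomputable def toCoord (ρ : Representation ℂ G V) :
    Representation ℂ G (Fin (finrank ℂ V) → ℂ) :=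
  conjRep ρ (Module.finBasis ℂ V).equivFun

theorem isCharacter_character (ρ : Representation ℂ G V) : Cfsg.IsCharacter G ρ.character :=
  ⟨_, toCoord ρ, character_conjRep ρ _⟩

theorem isIrrCharacter_character (ρ : Representation ℂ G V) [ρ.IsIrreducible] :
    Cfsg.IsIrrCharacter G ρ.character :=
  ⟨_, toCoord ρ, isIrreducible_of_equiv (conjRepEquiv ρ _), character_conjRep ρ _⟩

end Transport

/-! ### Predicates -/

theorem isCharacter_of_isIrr {χ : G → ℂ} (h : Cfsg.IsIrrCharacter G χ) : Cfsg.IsCharacter G χ := by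
  obtain ⟨n, ρ, _, rfl⟩ := h
  exact ⟨n, ρ, rfl⟩

theorem isCharacter_irr (χ : Cfsg.IrrCharacter G) : Cfsg.IsCharacter G (χ : G → ℂ) :=
  isCharacter_of_isIrr χ.2

theorem isClassFunction_of_isCharacter {χ : G → ℂ} (h : Cfsg.IsCharacter G χ) :
    Cfsg.IsClassFunction G χ := by
  obtain ⟨n, ρ, rfl⟩ := h
  exact fun g k => Representation.char_conj ρ g k

theorem isClassFunction_irr (χ : Cfsg.IrrCharacter G) : Cfsg.IsClassFunction G (χ : G → ℂ) :=
  isClassFunction_of_isCharacter (isCharacter_irr χ)

theorem classFun_mul_comm {θ : G → ℂ} (h : Cfsg.IsClassFunction G θ) (a b : G) :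
    θ (a * b) = θ (b * a) := by
  have := h (a * b) b
  rw [show b * (a * b) * b⁻¹ = b * a by group] at this
  exact this.symm

theorem classFun_isConj {θ : G → ℂ} (h : Cfsg.IsClassFunction G θ) {a b : G} (hab : IsConj a b) :
    θ a = θ b := by
  obtain ⟨c, rfl⟩ := isConj_iff.mp hab
  exact (h a c).symm

theorem isCharacter_inv [Finite G] {χ : G → ℂ} (h : Cfsg.IsCharacter G χ) (g : G) :
    χ g⁻¹ = conj (χ g) := by
  obtain ⟨n, ρ, rfl⟩ := h
  exact char_inv ρ g

theorem irr_inv [Finite G] (χ : Cfsg.IrrCharacter G) (g : G) :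
    (χ : G → ℂ) g⁻¹ = conj ((χ : G → ℂ) g) :=
  isCharacter_inv (isCharacter_irr χ) g

theorem isCharacter_isIntegral [Finite G] {χ : G → ℂ} (h : Cfsg.IsCharacter G χ) (g : G) :
    IsIntegral ℤ (χ g) := by
  obtain ⟨n, ρ, rfl⟩ := h
  exact char_pow_eq_sum_isIntegral ρ g

theorem isCharacter_degree {χ : G → ℂ} (h : Cfsg.IsCharacter G χ) : ∃ d : ℕ, χ 1 = d := by
  obtain ⟨n, ρ, rfl⟩ := h
  exact ⟨_, Representation.char_one ρ⟩

theorem isIrrCharacter_degree {χ : G → ℂ} (h : Cfsg.IsIrrCharacter G χ) :
    ∃ d : ℕ, 0 < d ∧ χ 1 = d := by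
  obtain ⟨n, ρ, hρ, rfl⟩ := h
  refine ⟨_, ?_, Representation.char_one ρ⟩
  have : Nontrivial (Subrepresentation ρ) := hρ.toNontrivial
  by_contra hn
  have h0 : finrank ℂ (Fin n → ℂ) = 0 := by omega
  have : Subsingleton (Fin n → ℂ) := Module.finrank_zero_iff.mp h0
  obtain ⟨a, b, hab⟩ := exists_pair_ne (Subrepresentation ρ)
  exact hab (Subrepresentation.toSubmodule_injective (Subsingleton.elim _ _))

theorem irr_one_ne_zero (χ : Cfsg.IrrCharacter G) : (χ : G → ℂ) 1 ≠ 0 := by
  obtain ⟨d, hd, he⟩ := isIrrCharacter_degree χ.2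
  rw [he]; exact_mod_cast hd.ne'

theorem conj_irr_one (χ : Cfsg.IrrCharacter G) : conj ((χ : G → ℂ) 1) = (χ : G → ℂ) 1 := by
  obtain ⟨d, _, he⟩ := isIrrCharacter_degree χ.2
  rw [he, map_natCast]

/-- The one-dimensional representation given by a linear character. -/
noncomputable def linRep (lam : G →* ℂˣ) : Representation ℂ G ℂ where
  toFun g := (lam g : ℂ) • LinearMap.id
  map_one' := by simp [Module.End.one_eq_id]
  map_mul' g h := by ext; simp [mul_comm]

theorem character_linRep (lam : G →* ℂˣ) : (linRep lam).character = fun g => (lam g : ℂ) := by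
  ext g
  show LinearMap.trace ℂ ℂ ((lam g : ℂ) • LinearMap.id) = _
  simp [LinearMap.trace_id]

theorem isIrreducible_of_finrank_eq_one {V : Type v} [AddCommGroup V] [Module ℂ V]
    (ρ : Representation ℂ G V) (h : finrank ℂ V = 1) : ρ.IsIrreducible := by
  have hV : Nontrivial V := Module.nontrivial_of_finrank_eq_succ (n := 0) h
  have hne : (⊥ : Subrepresentation ρ) ≠ ⊤ :=
    fun e => bot_ne_top (α := Submodule ℂ V) (congrArg Subrepresentation.toSubmodule e)
  have : Nontrivial (Subrepresentation ρ) := ⟨⟨⊥, ⊤, hne⟩⟩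
  refine ⟨fun S => ?_⟩
  have : IsSimpleOrder (Submodule ℂ V) := is_simple_module_of_finrank_eq_one h
  rcases IsSimpleOrder.eq_bot_or_eq_top S.toSubmodule with h' | h'
  · exact Or.inl (Subrepresentation.toSubmodule_injective h')
  · exact Or.inr (Subrepresentation.toSubmodule_injective h')

theorem isIrrCharacter_lin (lam : G →* ℂˣ) : Cfsg.IsIrrCharacter G (fun g => (lam g : ℂ)) := by
  have := isIrreducible_of_finrank_eq_one (linRep lam) (Module.finrank_self ℂ)
  exact character_linRep lam ▸ isIrrCharacter_character (linRep lam)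

theorem isIrrCharacter_one : Cfsg.IsIrrCharacter G (fun _ => 1) := by
  simpa using isIrrCharacter_lin (G := G) 1

theorem isCharacter_zero : Cfsg.IsCharacter G (0 : G → ℂ) := by
  refine ⟨0, Representation.trivial ℂ G (Fin 0 → ℂ), ?_⟩
  ext g
  simp [Representation.character, Subsingleton.elim (Representation.trivial ℂ G (Fin 0 → ℂ) g) 0]

theorem isCharacter_add {χ ψ : G → ℂ} (h : Cfsg.IsCharacter G χ) (h' : Cfsg.IsCharacter G ψ) :
    Cfsg.IsCharacter G (χ + ψ) := by
  obtain ⟨n, ρ, rfl⟩ := h
  obtain ⟨m, σ, rfl⟩ := h'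
  have : (ρ.prod σ).character = ρ.character + σ.character := by
    ext g
    exact LinearMap.trace_prodMap' (ρ g) (σ g)
  exact this ▸ isCharacter_character (ρ.prod σ)

theorem isCharacter_mul {χ ψ : G → ℂ} (h : Cfsg.IsCharacter G χ) (h' : Cfsg.IsCharacter G ψ) :
    Cfsg.IsCharacter G (χ * ψ) := by
  obtain ⟨n, ρ, rfl⟩ := h
  obtain ⟨m, σ, rfl⟩ := h'
  exact Representation.char_tensor ρ σ ▸ isCharacter_character (ρ.tprod σ)

theorem isCharacter_sum {ι : Type*} (s : Finset ι) (f : ι → G → ℂ)
    (h : ∀ i ∈ s, Cfsg.IsCharacter G (f i)) : Cfsg.IsCharacter G (∑ i ∈ s, f i) :=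
  Finset.sum_induction _ (Cfsg.IsCharacter G) (fun _ _ => isCharacter_add) isCharacter_zero h

theorem isCharacter_natSmul {χ : G → ℂ} (h : Cfsg.IsCharacter G χ) (n : ℕ) :
    Cfsg.IsCharacter G (n • χ) := by
  induction n with
  | zero => simpa using isCharacter_zero
  | succ n ih => rw [succ_nsmul]; exact isCharacter_add ih h

/-- Pullback of a character along a homomorphism (restriction, inflation). -/
theorem isCharacter_comp {H : Type w} [Group H] {χ : G → ℂ} (h : Cfsg.IsCharacter G χ)
    (f : H →* G) : Cfsg.IsCharacter H (fun x => χ (f x)) := by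
  obtain ⟨n, ρ, rfl⟩ := h
  exact ⟨n, ρ.comp f, rfl⟩

theorem isIrrCharacter_comp_surjective {H : Type w} [Group H] {χ : G → ℂ}
    (h : Cfsg.IsIrrCharacter G χ) (f : H →* G) (hf : Function.Surjective f) :
    Cfsg.IsIrrCharacter H (fun x => χ (f x)) := by
  obtain ⟨n, ρ, hρ, rfl⟩ := h
  refine ⟨n, ρ.comp f, ?_, rfl⟩
  let e : Subrepresentation (ρ.comp f) ≃o Subrepresentation ρ :=
    { toFun := fun S => ⟨S.toSubmodule, fun g v hv => by
        obtain ⟨x, rfl⟩ := hf g
        exact S.apply_mem_toSubmodule x hv⟩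
      invFun := fun S => ⟨S.toSubmodule, fun x v hv => S.apply_mem_toSubmodule (f x) hv⟩
      left_inv := fun S => rfl
      right_inv := fun S => rfl
      map_rel_iff' := Iff.rfl }
  exact e.isSimpleOrder

theorem isCharacter_conj [Finite G] {χ : G → ℂ} (h : Cfsg.IsCharacter G χ) :
    Cfsg.IsCharacter G (fun g => conj (χ g)) := by
  obtain ⟨n, ρ, rfl⟩ := h
  have : ρ.dual.character = fun g => conj (ρ.character g) := by
    ext g
    rw [Representation.char_dual, char_inv]
  exact this ▸ isCharacter_character ρ.dual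

/-! ### Decomposition -/

section Decomp

variable [Finite G] {V : Type v} [AddCommGroup V] [Module ℂ V] [FiniteDimensional ℂ V]
set_option linter.unusedSectionVars false

theorem complemented_subrep (ρ : Representation ℂ G V) :
    ComplementedLattice (Subrepresentation ρ) := by
  have : NeZero (Nat.card G : ℂ) := ⟨by exact_mod_cast Nat.card_pos.ne'⟩
  infer_instance

theorem isCompl_toSubmodule {ρ : Representation ℂ G V} {S T : Subrepresentation ρ}
    (h : IsCompl S T) : IsCompl S.toSubmodule T.toSubmodule := by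
  constructor
  · exact disjoint_iff.mpr (congrArg Subrepresentation.toSubmodule (disjoint_iff.mp h.1))
  · exact codisjoint_iff.mpr (congrArg Subrepresentation.toSubmodule (codisjoint_iff.mp h.2))

/-- The equivalence of a representation with the product of two complementary subrepresentations. -/
noncomputable def complEquiv {ρ : Representation ℂ G V} {S T : Subrepresentation ρ}
    (h : IsCompl S T) : (S.toRepresentation.prod T.toRepresentation).Equiv ρ :=
  Representation.Equiv.mk
    (Submodule.prodEquivOfIsCompl S.toSubmodule T.toSubmodule (isCompl_toSubmodule h)) fun g => by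
    refine LinearMap.ext fun x => ?_
    simp [Representation.prod, Subrepresentation.toRepresentation]

theorem character_compl {ρ : Representation ℂ G V} {S T : Subrepresentation ρ} (h : IsCompl S T) :
    ρ.character = S.toRepresentation.character + T.toRepresentation.character := by
  rw [← Representation.char_iso (complEquiv h)]
  ext g
  exact LinearMap.trace_prodMap' _ _

theorem finrank_compl {ρ : Representation ℂ G V} {S T : Subrepresentation ρ} (h : IsCompl S T) :
    finrank ℂ S.toSubmodule + finrank ℂ T.toSubmodule = finrank ℂ V :=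
  Submodule.finrank_add_eq_of_isCompl (isCompl_toSubmodule h)

end Decomp

/-- Induction principle: a property of finite-dimensional representations holds for all of them
if it holds for zero, irreducibles, and is closed under complements. -/
theorem rep_induction [Finite G] (P : ∀ (V : Type v) [AddCommGroup V] [Module ℂ V],
      Representation ℂ G V → Prop)
    (h0 : ∀ (V : Type v) [AddCommGroup V] [Module ℂ V] [Subsingleton V] (ρ : Representation ℂ G V), P V ρ)
    (hirr : ∀ (V : Type v) [AddCommGroup V] [Module ℂ V] [FiniteDimensional ℂ V]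
      (ρ : Representation ℂ G V) [ρ.IsIrreducible], P V ρ)
    (hadd : ∀ (V : Type v) [AddCommGroup V] [Module ℂ V] [FiniteDimensional ℂ V]
      (ρ : Representation ℂ G V) (S T : Subrepresentation ρ), IsCompl S T →
      P S.toSubmodule S.toRepresentation → P T.toSubmodule T.toRepresentation → P V ρ)
    (V : Type v) [AddCommGroup V] [Module ℂ V] [FiniteDimensional ℂ V]
    (ρ : Representation ℂ G V) : P V ρ := by
  induction hn : finrank ℂ V using Nat.strong_induction_on generalizing V with
  | _ n ih =>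
    subst hn
    rcases subsingleton_or_nontrivial V with hV | hV
    · exact h0 V ρ
    by_cases hρ : ∀ S : Subrepresentation ρ, S = ⊥ ∨ S = ⊤
    · have hne : (⊥ : Subrepresentation ρ) ≠ ⊤ :=
        fun e => bot_ne_top (α := Submodule ℂ V) (congrArg Subrepresentation.toSubmodule e)
      have : Nontrivial (Subrepresentation ρ) := ⟨⟨⊥, ⊤, hne⟩⟩
      have : ρ.IsIrreducible := ⟨hρ⟩
      exact hirr V ρ
    · push Not at hρ
      obtain ⟨S, hSb, hSt⟩ := hρ
      have := complemented_subrep ρ
      obtain ⟨T, hST⟩ := exists_isCompl S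
      have hrank := finrank_compl hST
      have hS : 0 < finrank ℂ S.toSubmodule := by
        rw [Nat.pos_iff_ne_zero]
        intro h
        exact hSb (Subrepresentation.toSubmodule_injective (Submodule.finrank_eq_zero.mp h))
      have hT : 0 < finrank ℂ T.toSubmodule := by
        rw [Nat.pos_iff_ne_zero]
        intro h
        exact hSt (Subrepresentation.toSubmodule_injective
          (Submodule.eq_top_of_finrank_eq (by omega)))
      exact hadd V ρ S T hST (ih _ (by omega) _ _ rfl) (ih _ (by omega) _ _ rfl)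

/-- Every character is a sum of irreducible characters. -/
theorem exists_list_irr [Finite G] {χ : G → ℂ} (h : Cfsg.IsCharacter G χ) :
    ∃ l : List (Cfsg.IrrCharacter G), χ = (l.map (fun ψ => (ψ : G → ℂ))).sum := by
  obtain ⟨n, ρ, rfl⟩ := h
  refine rep_induction (fun V _ _ ρ => ∃ l : List (Cfsg.IrrCharacter G),
    ρ.character = (l.map (fun ψ => (ψ : G → ℂ))).sum) ?_ ?_ ?_ _ ρ
  · intro V _ _ _ ρ
    refine ⟨[], funext fun g => ?_⟩
    simp [Representation.character, Subsingleton.elim (ρ g) 0]
  · intro V _ _ _ ρ _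
    exact ⟨[⟨_, isIrrCharacter_character ρ⟩], by simp⟩
  · rintro V _ _ _ ρ S T hST ⟨l, hl⟩ ⟨l', hl'⟩
    exact ⟨l ++ l', by simp [character_compl hST, hl, hl']⟩

end CfsgLib.Char
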