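import Cfsg.Agent.Lib.Char.Clifford
import Cfsg.Agent.Lib.Char.Determine
import Cfsg.Agent.Lib.Char.Linear
import Cfsg.Prelude.Def_CharExt
import Mathlib.GroupTheory.Transfer

/-!
# Extending invariant irreducible representations from a normal subgroup

For a normal subgroup `N` and a representation `ρ` of `N` we consider the group `extGroup N ρ` of
pairs `(g, T)` with `T` intertwining `ρ` and its `g`-conjugate.  If `ρ` is irreducible and invariant it
is a central extension of `G` by the nonzero scalars, with a copy of `N` as a normal subgroup, and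
`ρ` extends to `G` exactly when the scalars split off.
-/

set_option autoImplicit false
set_option linter.unusedSectionVars false

namespace CfsgLib.Char

open Representation Module Cfsg

universe u v

section Scalar

variable (V : Type v) [AddCommGroup V] [Module ℂ V]

/-- Nonzero scalars as units of the endomorphism algebra. -/
noncomputable def scalU : ℂˣ →* (V →ₗ[ℂ] V)ˣ :=
  Units.map (algebraMap ℂ (V →ₗ[ℂ] V) : ℂ →* (V →ₗ[ℂ] V))

theorem scalU_coe (c : ℂˣ) : (scalU V c : V →ₗ[ℂ] V) = algebraMap ℂ (V →ₗ[ℂ] V) (c : ℂ) := rfl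

theorem scalU_comm (c : ℂˣ) (T : (V →ₗ[ℂ] V)ˣ) : scalU V c * T = T * scalU V c :=
  Units.ext (by rw [Units.val_mul, Units.val_mul, scalU_coe]; exact Algebra.commutes _ _)

theorem scalU_injective [Nontrivial V] : Function.Injective (scalU V) := by
  intro a b h
  have h2 := congrArg Units.val h
  rw [scalU_coe, scalU_coe] at h2
  exact Units.ext (FaithfulSMul.algebraMap_injective ℂ (V →ₗ[ℂ] V) h2)

/-- Two homomorphisms to `GL(V)` that differ pointwise by scalars differ by a linear character. -/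
theorem exists_scalar_hom [Nontrivial V] {X : Type*} [Group X] (f s : X →* (V →ₗ[ℂ] V)ˣ)
    (h : ∀ x, ∃ c : ℂˣ, f x = scalU V c * s x) :
    ∃ τ : X →* ℂˣ, ∀ x, f x = scalU V (τ x) * s x := by
  choose c hc using h
  refine ⟨MonoidHom.mk' c fun a b => scalU_injective V ?_, hc⟩
  have h1 : scalU V (c (a * b)) * s (a * b) = scalU V (c a * c b) * s (a * b) := by
    rw [← hc, map_mul f, hc a, hc b, map_mul s, map_mul]
    simp only [mul_assoc]
    congr 1
    rw [← mul_assoc (s a), ← scalU_comm, mul_assoc]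
  exact mul_right_cancel h1

end Scalar

variable {G : Type u} [Group G] (N : Subgroup G) [hN : N.Normal] {d : ℕ}
  (ρ : Representation ℂ N (Fin d → ℂ))

theorem normalConjHom_mul (a b : G) (n : N) :
    normalConjHom N (a * b) n = normalConjHom N a (normalConjHom N b n) :=
  Subtype.ext (by simp [normalConjHom, mul_assoc])

theorem normalConjHom_one (n : N) : normalConjHom N 1 n = n :=
  Subtype.ext (by simp [normalConjHom])

/-- The pairs `(g, T)` with `T` intertwining `ρ` and its conjugate by `g`. -/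
def extGroup : Subgroup (G × ((Fin d → ℂ) →ₗ[ℂ] (Fin d → ℂ))ˣ) where
  carrier := {x | ∀ n : N, (x.2 : (Fin d → ℂ) →ₗ[ℂ] (Fin d → ℂ)) * ρ n =
    ρ (normalConjHom N x.1 n) * (x.2 : (Fin d → ℂ) →ₗ[ℂ] (Fin d → ℂ))}
  one_mem' n := by
    rw [Prod.fst_one, Prod.snd_one, Units.val_one, one_mul, mul_one, normalConjHom_one]
  mul_mem' := fun {a b} ha hb n => by
    rw [Prod.fst_mul, Prod.snd_mul, Units.val_mul, mul_assoc, hb n, ← mul_assoc, ha, mul_assoc,
      ← normalConjHom_mul]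
  inv_mem' := fun {a} ha n => by
    have h := ha (normalConjHom N a.1⁻¹ n)
    rw [← normalConjHom_mul, mul_inv_cancel, normalConjHom_one] at h
    rw [Prod.fst_inv, Prod.snd_inv, Units.inv_mul_eq_iff_eq_mul, ← mul_assoc, h, mul_assoc,
      Units.mul_inv, mul_one]

/-- The projection to `G`. -/
def extProj : extGroup N ρ →* G := (MonoidHom.fst _ _).comp (extGroup N ρ).subtype

/-- The operator of an element of `extGroup`. -/
def extOp : extGroup N ρ →* ((Fin d → ℂ) →ₗ[ℂ] (Fin d → ℂ))ˣ :=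
  (MonoidHom.snd _ _).comp (extGroup N ρ).subtype

theorem extOp_comm (e : extGroup N ρ) (n : N) :
    (extOp N ρ e : (Fin d → ℂ) →ₗ[ℂ] (Fin d → ℂ)) * ρ n =
      ρ (normalConjHom N (extProj N ρ e) n) * (extOp N ρ e : (Fin d → ℂ) →ₗ[ℂ] (Fin d → ℂ)) :=
  e.2 n

theorem ext_ext {a b : extGroup N ρ} (h1 : extProj N ρ a = extProj N ρ b)
    (h2 : extOp N ρ a = extOp N ρ b) : a = b :=
  Subtype.ext (Prod.ext h1 h2)

/-- The embedding of `N`. -/
def extEmb : N →* extGroup N ρ :=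
  (N.subtype.prod ρ.toHomUnits).codRestrict _ fun n m => by
    show ρ n * ρ m = ρ (normalConjHom N (n : G) m) * ρ n
    rw [← map_mul, ← map_mul]
    congr 1
    exact Subtype.ext (by simp [normalConjHom])

/-- The scalars. -/
noncomputable def extScal : ℂˣ →* extGroup N ρ :=
  ((1 : ℂˣ →* G).prod (scalU (Fin d → ℂ))).codRestrict _ fun c m => by
    show (scalU (Fin d → ℂ) c : (Fin d → ℂ) →ₗ[ℂ] (Fin d → ℂ)) * ρ m = _
    rw [show ((1 : ℂˣ →* G).prod (scalU (Fin d → ℂ)) c).1 = 1 from rfl, normalConjHom_one,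
      scalU_coe]
    exact Algebra.commutes _ _

theorem extProj_emb (n : N) : extProj N ρ (extEmb N ρ n) = n := rfl
theorem extOp_emb (n : N) : extOp N ρ (extEmb N ρ n) = ρ.toHomUnits n := rfl
theorem extProj_scal (c : ℂˣ) : extProj N ρ (extScal N ρ c) = 1 := rfl
theorem extOp_scal (c : ℂˣ) : extOp N ρ (extScal N ρ c) = scalU _ c := rfl

theorem extScal_comm (c : ℂˣ) (e : extGroup N ρ) : extScal N ρ c * e = e * extScal N ρ c := by
  refine ext_ext N ρ ?_ ?_
  · rw [map_mul, map_mul, extProj_scal, one_mul, mul_one]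
  · rw [map_mul, map_mul, extOp_scal, scalU_comm]

theorem extEmb_conj (e : extGroup N ρ) (n : N) :
    e * extEmb N ρ n * e⁻¹ = extEmb N ρ (normalConjHom N (extProj N ρ e) n) := by
  refine ext_ext N ρ ?_ ?_
  · rw [map_mul, map_mul, map_inv, extProj_emb, extProj_emb]
    rfl
  · rw [map_mul, map_mul, map_inv, extOp_emb, extOp_emb, mul_inv_eq_iff_eq_mul]
    exact Units.ext (extOp_comm N ρ e n)

variable [Finite G] [hρ : ρ.IsIrreducible]

include hρ in
theorem nontrivial_coord : Nontrivial (Fin d → ℂ) := nontrivial_of_irreducible ρ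

theorem exists_scalU_of_commute (T : ((Fin d → ℂ) →ₗ[ℂ] (Fin d → ℂ))ˣ)
    (hT : ∀ n : N, (T : (Fin d → ℂ) →ₗ[ℂ] (Fin d → ℂ)) * ρ n =
      ρ n * (T : (Fin d → ℂ) →ₗ[ℂ] (Fin d → ℂ))) :
    ∃ c : ℂˣ, T = scalU _ c := by
  have := nontrivial_coord N ρ
  obtain ⟨c, hc⟩ := schur_scalar ρ _ hT
  have hc0 : c ≠ 0 := fun h => T.ne_zero (by rw [hc, h, zero_smul])
  refine ⟨Units.mk0 c hc0, Units.ext ?_⟩
  rw [hc, scalU_coe, Units.val_mk0, Algebra.algebraMap_eq_smul_one]
  rfl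

theorem eq_scal_of_proj_eq_one {e : extGroup N ρ} (he : extProj N ρ e = 1) :
    ∃ c : ℂˣ, e = extScal N ρ c := by
  obtain ⟨c, hc⟩ := exists_scalU_of_commute N ρ (extOp N ρ e) fun n => by
    rw [extOp_comm, he, normalConjHom_one]
  exact ⟨c, ext_ext N ρ (by rw [he, extProj_scal]) (by rw [hc, extOp_scal])⟩

/-- Invariance of the character of `ρ`. -/
def IsInvariant : Prop := ∀ (g : G) (n : N), ρ.character (normalConjHom N g n) = ρ.character n

theorem extProj_surjective (hinv : IsInvariant N ρ) : Function.Surjective (extProj N ρ) := by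
  intro g
  let σ : Representation ℂ N (Fin d → ℂ) := ρ.comp (normalConjHom N g)
  obtain ⟨φ⟩ := nonempty_equiv_of_character_eq ρ σ (funext fun n => (hinv g n).symm)
  let T : ((Fin d → ℂ) →ₗ[ℂ] (Fin d → ℂ))ˣ :=
    ⟨φ.toLinearEquiv.toLinearMap, φ.toLinearEquiv.symm.toLinearMap,
      LinearMap.ext φ.toLinearEquiv.apply_symm_apply, LinearMap.ext φ.toLinearEquiv.symm_apply_apply⟩
  exact ⟨⟨(g, T), fun n => LinearMap.ext fun v =>
    Representation.IntertwiningMap.isIntertwining ρ σ φ.toIntertwiningMap n v⟩, rfl⟩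

/-- A homomorphism splitting off the scalars gives an extension of `ρ`. -/
theorem extends_of_tau (hinv : IsInvariant N ρ) (τ : extGroup N ρ →* ℂˣ)
    (h1 : ∀ c, τ (extScal N ρ c) = c) (h2 : ∀ n, τ (extEmb N ρ n) = 1) :
    ∃ σ : Representation ℂ G (Fin d → ℂ), ∀ n : N, σ n = ρ n := by
  let ψ : extGroup N ρ →* ((Fin d → ℂ) →ₗ[ℂ] (Fin d → ℂ))ˣ :=
    { toFun := fun e => extOp N ρ e * scalU _ (τ e)⁻¹
      map_one' := by simp
      map_mul' := fun a b => by
        rw [map_mul (extOp N ρ), map_mul τ, mul_inv, map_mul]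
        simp only [mul_assoc]
        congr 1
        rw [← mul_assoc, ← mul_assoc, scalU_comm _ (τ a)⁻¹] }
  have hker : (extProj N ρ).ker ≤ ψ.ker := fun e he => by
    obtain ⟨c, rfl⟩ := eq_scal_of_proj_eq_one N ρ (MonoidHom.mem_ker.mp he)
    rw [MonoidHom.mem_ker]
    show extOp N ρ _ * scalU _ _ = 1
    rw [extOp_scal, h1, ← map_mul, mul_inv_cancel, map_one]
  let σ₀ := (extProj N ρ).liftOfSurjective (extProj_surjective N ρ hinv) ⟨ψ, hker⟩
  refine ⟨(Units.coeHom _).comp σ₀, fun n => ?_⟩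
  have h : σ₀ (extProj N ρ (extEmb N ρ n)) = ψ (extEmb N ρ n) :=
    MonoidHom.liftOfRightInverse_comp_apply _ _ _ ⟨ψ, hker⟩ _
  show (σ₀ (n : G) : (Fin d → ℂ) →ₗ[ℂ] (Fin d → ℂ)) = ρ n
  rw [← extProj_emb N ρ n, h]
  have hψ : ψ (extEmb N ρ n) = extOp N ρ (extEmb N ρ n) * scalU _ (τ (extEmb N ρ n))⁻¹ := rfl
  rw [hψ, h2, inv_one, map_one, mul_one, extOp_emb, MonoidHom.coe_toHomUnits]

/-- A representation of an overgroup `P` of `N` extending `ρ` gives a splitting over `P`. -/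
theorem exists_tau_of_extends (P : Subgroup G) (hNP : N ≤ P)
    (σ : Representation ℂ P (Fin d → ℂ)) (hσ : ∀ n : N, σ (Subgroup.inclusion hNP n) = ρ n) :
    ∃ τ : (P.comap (extProj N ρ)) →* ℂˣ,
      (∀ (c : ℂˣ) (h : extScal N ρ c ∈ P.comap (extProj N ρ)), τ ⟨_, h⟩ = c) ∧
      ∀ (n : N) (h : extEmb N ρ n ∈ P.comap (extProj N ρ)), τ ⟨_, h⟩ = 1 := by
  have := nontrivial_coord N ρ
  let f : P.comap (extProj N ρ) →* ((Fin d → ℂ) →ₗ[ℂ] (Fin d → ℂ))ˣ :=
    (extOp N ρ).comp (Subgroup.subtype _)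
  let s : P.comap (extProj N ρ) →* ((Fin d → ℂ) →ₗ[ℂ] (Fin d → ℂ))ˣ :=
    σ.toHomUnits.comp (((extProj N ρ).comp (Subgroup.subtype _)).codRestrict P fun x => x.2)
  have h : ∀ x, ∃ c : ℂˣ, f x = scalU _ c * s x := by
    intro x
    obtain ⟨c, hc⟩ := exists_scalU_of_commute N ρ (f x * (s x)⁻¹) fun n => by
      set g := extProj N ρ x.1
      let p : P := ⟨g, x.2⟩
      have e1 : σ p⁻¹ * ρ n = ρ (normalConjHom N g⁻¹ n) * σ p⁻¹ := by
        rw [← hσ, ← hσ, ← map_mul, ← map_mul]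
        congr 1
        exact Subtype.ext (by simp [normalConjHom, p, mul_assoc])
      have e2 : (extOp N ρ x.1 : (Fin d → ℂ) →ₗ[ℂ] (Fin d → ℂ)) * ρ (normalConjHom N g⁻¹ n) =
          ρ n * (extOp N ρ x.1 : (Fin d → ℂ) →ₗ[ℂ] (Fin d → ℂ)) := by
        rw [extOp_comm, ← normalConjHom_mul, mul_inv_cancel, normalConjHom_one]
      have hs : (((s x)⁻¹ : _) : (Fin d → ℂ) →ₗ[ℂ] (Fin d → ℂ)) = σ p⁻¹ := by
        rw [← map_inv]
        rfl
      rw [Units.val_mul, hs, mul_assoc, e1, ← mul_assoc]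
      show (extOp N ρ x.1 : (Fin d → ℂ) →ₗ[ℂ] (Fin d → ℂ)) * ρ (normalConjHom N g⁻¹ n) * σ p⁻¹ = _
      rw [e2, mul_assoc]
      rfl
    exact ⟨c, by rw [← hc, inv_mul_cancel_right]⟩
  obtain ⟨τ, hτ⟩ := exists_scalar_hom _ f s h
  refine ⟨τ, fun c hc => scalU_injective (Fin d → ℂ) ?_, fun n hn => scalU_injective (Fin d → ℂ) ?_⟩
  · have h1 := hτ ⟨_, hc⟩
    have h2 : s ⟨_, hc⟩ = 1 := by
      show σ.toHomUnits _ = 1
      convert map_one σ.toHomUnits
      exact Subtype.ext (extProj_scal N ρ c)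
    rw [h2, mul_one] at h1
    exact h1.symm.trans (extOp_scal N ρ c)
  · have h1 := hτ ⟨_, hn⟩
    have h2 : s ⟨_, hn⟩ = f ⟨_, hn⟩ := Units.ext (hσ n)
    rw [h2, eq_comm, mul_eq_right] at h1
    rw [h1, map_one]

/-- The integers `m` such that `c ↦ c ^ m` extends to a linear character of `extGroup` killing `N`. -/
noncomputable def tauSet : AddSubgroup ℤ where
  carrier := {m | ∃ τ : extGroup N ρ →* ℂˣ,
    (∀ c, τ (extScal N ρ c) = c ^ m) ∧ ∀ n, τ (extEmb N ρ n) = 1}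
  zero_mem' := ⟨1, fun c => by simp, fun n => rfl⟩
  add_mem' := by
    rintro a b ⟨τ, h1, h2⟩ ⟨τ', h1', h2'⟩
    exact ⟨τ * τ', fun c => by rw [MonoidHom.mul_apply, h1, h1', zpow_add],
      fun n => by rw [MonoidHom.mul_apply, h2, h2', mul_one]⟩
  neg_mem' := by
    rintro a ⟨τ, h1, h2⟩
    exact ⟨τ⁻¹, fun c => by rw [MonoidHom.inv_apply, h1, zpow_neg],
      fun n => by rw [MonoidHom.inv_apply, h2, inv_one]⟩

theorem index_mem_tauSet (hinv : IsInvariant N ρ) (P : Subgroup G) (hNP : N ≤ P)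
    (σ : Representation ℂ P (Fin d → ℂ)) (hσ : ∀ n : N, σ (Subgroup.inclusion hNP n) = ρ n) :
    (P.index : ℤ) ∈ tauSet N ρ := by
  classical
  obtain ⟨τ, h1, h2⟩ := exists_tau_of_extends N ρ P hNP σ hσ
  have hidx : (P.comap (extProj N ρ)).index = P.index :=
    Subgroup.index_comap_of_surjective P (extProj_surjective N ρ hinv)
  have hfi : (P.comap (extProj N ρ)).FiniteIndex :=
    ⟨by rw [hidx]; exact Subgroup.index_ne_zero_of_finite⟩
  refine ⟨MonoidHom.transfer τ, fun c => ?_, fun n => ?_⟩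
  · rw [MonoidHom.transfer_eq_pow τ _ fun k g₀ _ => ?_]
    · simp only [hidx, ← map_pow, zpow_natCast]
      exact h1 _ _
    · rw [← map_pow, mul_assoc, extScal_comm, inv_mul_cancel_left]
  · have := (P.comap (extProj N ρ)).fintypeQuotientOfFiniteIndex
    rw [MonoidHom.transfer_eq_prod_quotient_orbitRel_zpowers_quot]
    refine Finset.prod_eq_one fun q _ => ?_
    simp only [← map_pow]
    have key : ∀ (e : extGroup N ρ) (m : N) (h : e⁻¹ * extEmb N ρ m * e ∈ P.comap (extProj N ρ)),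
        τ ⟨_, h⟩ = 1 := fun e m h => by
      have he : e⁻¹ * extEmb N ρ m * e = extEmb N ρ (normalConjHom N (extProj N ρ e⁻¹) m) := by
        rw [← extEmb_conj, inv_inv]
      simp only [he]
      exact h2 _ _
    exact key _ _ _

theorem index_self_mem_tauSet (hinv : IsInvariant N ρ) : (N.index : ℤ) ∈ tauSet N ρ :=
  index_mem_tauSet N ρ hinv N le_rfl ρ fun _ => rfl

theorem det_mem_tauSet (μ : G →* ℂˣ) (hμ : ∀ n : N, (μ n : ℂ) = LinearMap.det (ρ n)) :
    (d : ℤ) ∈ tauSet N ρ := by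
  refine ⟨(Units.map LinearMap.det).comp (extOp N ρ) * (μ.comp (extProj N ρ))⁻¹, fun c => ?_,
    fun n => ?_⟩
  · refine Units.ext ?_
    rw [MonoidHom.mul_apply, MonoidHom.inv_apply, MonoidHom.comp_apply, MonoidHom.comp_apply,
      extProj_scal, extOp_scal, map_one, inv_one, mul_one, Units.coe_map, scalU_coe,
      Algebra.algebraMap_eq_smul_one, LinearMap.det_smul, map_one, mul_one, zpow_natCast,
      Units.val_pow_eq_pow_val]
    simp
  · rw [MonoidHom.mul_apply, MonoidHom.inv_apply, MonoidHom.comp_apply, MonoidHom.comp_apply,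
      extProj_emb, extOp_emb, mul_inv_eq_one]
    exact Units.ext (by rw [Units.coe_map, MonoidHom.coe_toHomUnits, hμ])

theorem det_order_mem_tauSet {o : ℕ} (ho : ∀ n : N, LinearMap.det (ρ n) ^ o = 1) :
    ((d * o : ℕ) : ℤ) ∈ tauSet N ρ := by
  refine ⟨((Units.map LinearMap.det).comp (extOp N ρ)) ^ o, fun c => ?_, fun n => ?_⟩
  · refine Units.ext ?_
    rw [MonoidHom.pow_apply, MonoidHom.comp_apply, extOp_scal, Units.val_pow_eq_pow_val,
      Units.coe_map, scalU_coe, Algebra.algebraMap_eq_smul_one, LinearMap.det_smul, map_one,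
      mul_one, zpow_natCast, Units.val_pow_eq_pow_val, pow_mul]
    simp
  · refine Units.ext ?_
    rw [MonoidHom.pow_apply, MonoidHom.comp_apply, extOp_emb, Units.val_pow_eq_pow_val,
      Units.coe_map, MonoidHom.coe_toHomUnits, ho, Units.val_one]

/-- If no prime divides every element of `tauSet`, then `ρ` extends. -/
theorem extends_of_tauSet (hinv : IsInvariant N ρ)
    (h : ∀ p : ℕ, p.Prime → ∃ m ∈ tauSet N ρ, ¬ (p : ℤ) ∣ m) :
    ∃ σ : Representation ℂ G (Fin d → ℂ), ∀ n : N, σ n = ρ n := by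
  obtain ⟨k, hk⟩ := Int.subgroup_cyclic (tauSet N ρ)
  have hdvd : ∀ m ∈ tauSet N ρ, k ∣ m := fun m hm => by
    rw [hk, ← AddSubgroup.zmultiples_eq_closure, AddSubgroup.mem_zmultiples_iff] at hm
    obtain ⟨i, rfl⟩ := hm
    exact ⟨i, by rw [smul_eq_mul, mul_comm]⟩
  have hk1 : k.natAbs = 1 := by
    by_contra hne
    obtain ⟨p, hp, hpk⟩ := Nat.exists_prime_and_dvd hne
    obtain ⟨m, hm, hnd⟩ := h p hp
    exact hnd ((Int.natCast_dvd.mpr hpk).trans (hdvd m hm))
  have hone : (1 : ℤ) ∈ tauSet N ρ := by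
    have hk' : k ∈ tauSet N ρ := hk ▸ AddSubgroup.subset_closure rfl
    rcases Int.natAbs_eq k with e | e <;> rw [e, hk1] at hk'
    · exact hk'
    · simpa using neg_mem hk'
  obtain ⟨τ, h1, h2⟩ := hone
  exact extends_of_tau N ρ hinv τ (fun c => by rw [h1, zpow_one]) h2

theorem extends_of_cyclic (hinv : IsInvariant N ρ) (hcyc : IsCyclic (G ⧸ N)) :
    ∃ σ : Representation ℂ G (Fin d → ℂ), ∀ n : N, σ n = ρ n := by
  have := nontrivial_coord N ρ
  obtain ⟨q, hq⟩ := hcyc.exists_generator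
  obtain ⟨g, rfl⟩ := QuotientGroup.mk_surjective q
  obtain ⟨e₀, he₀⟩ := extProj_surjective N ρ hinv g
  set k := orderOf (g : G ⧸ N) with hk
  have hkN : g ^ k ∈ N := by
    rw [← QuotientGroup.eq_one_iff, QuotientGroup.mk_pow, hk, pow_orderOf_eq_one]
  obtain ⟨z, hz⟩ := eq_scal_of_proj_eq_one N ρ (e := e₀ ^ k * (extEmb N ρ ⟨_, hkN⟩)⁻¹) (by
    rw [map_mul, map_inv, map_pow, extProj_emb, he₀, mul_inv_cancel])
  have hk0 : k ≠ 0 := (orderOf_pos _).ne'
  obtain ⟨w, hw⟩ := IsAlgClosed.exists_pow_nat_eq (z : ℂ) (Nat.pos_of_ne_zero hk0)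
  have hw0 : w ≠ 0 := fun e => z.ne_zero (by rw [← hw, e, zero_pow hk0])
  set e := e₀ * extScal N ρ (Units.mk0 w hw0)⁻¹ with he
  have hpe : extProj N ρ e = g := by rw [map_mul, extProj_scal, mul_one, he₀]
  have hek : e ^ k = extEmb N ρ ⟨_, hkN⟩ := by
    have hwz : (Units.mk0 w hw0) ^ k = z := Units.ext (by simpa using hw)
    rw [mul_inv_eq_iff_eq_mul] at hz
    rw [he, Commute.mul_pow (extScal_comm N ρ _ e₀).symm, hz, ← map_pow, inv_pow, hwz,
      map_inv, extScal_comm N ρ z, mul_inv_cancel_right]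
  -- the subgroup generated by `e` and the image of `N` is a complement to the scalars
  let S : Subgroup (extGroup N ρ) := Subgroup.zpowers e ⊔ (extEmb N ρ).range
  have hnorm : (extEmb N ρ).range.Normal := ⟨by
    rintro _ ⟨n, rfl⟩ x
    exact ⟨_, (extEmb_conj N ρ x n).symm⟩⟩
  have hmemS : ∀ x ∈ S, ∃ (i : ℤ) (n : N), x = e ^ i * extEmb N ρ n := by
    intro x hx
    rw [← SetLike.mem_coe, Subgroup.mul_normal] at hx
    obtain ⟨_, ⟨i, rfl⟩, _, ⟨n, rfl⟩, rfl⟩ := Set.mem_mul.mp hx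
    exact ⟨i, n, rfl⟩
  have hinj : Function.Injective ((extProj N ρ).comp S.subtype) := by
    rw [injective_iff_map_eq_one]
    rintro ⟨x, hx⟩ h
    obtain ⟨i, n, rfl⟩ := hmemS x hx
    change extProj N ρ (e ^ i * extEmb N ρ n) = 1 at h
    rw [map_mul, map_zpow, hpe, extProj_emb] at h
    have hiN : g ^ i ∈ N := by rw [eq_inv_of_mul_eq_one_left h]; exact N.inv_mem n.2
    rw [← QuotientGroup.eq_one_iff, QuotientGroup.mk_zpow, ← orderOf_dvd_iff_zpow_eq_one, ← hk] at hiN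
    obtain ⟨j, rfl⟩ := hiN
    refine Subtype.ext ?_
    show e ^ ((k : ℤ) * j) * extEmb N ρ n = 1
    rw [zpow_mul, zpow_natCast, hek, ← map_zpow, ← map_mul]
    rw [zpow_mul, zpow_natCast] at h
    rw [show (⟨g ^ k, hkN⟩ : N) ^ j * n = 1 from Subtype.ext (by simpa using h), map_one]
  have hsurj : Function.Surjective ((extProj N ρ).comp S.subtype) := by
    intro x
    obtain ⟨i, hi⟩ := Subgroup.mem_zpowers_iff.mp (hq (x : G ⧸ N))
    rw [← QuotientGroup.mk_zpow, QuotientGroup.eq] at hi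
    refine ⟨⟨e ^ i * extEmb N ρ ⟨_, hi⟩, S.mul_mem
      (Subgroup.mem_sup_left (Subgroup.zpow_mem_zpowers e i))
      (Subgroup.mem_sup_right ⟨_, rfl⟩)⟩, ?_⟩
    show extProj N ρ (e ^ i * extEmb N ρ ⟨_, hi⟩) = x
    rw [map_mul, map_zpow, hpe, extProj_emb, mul_inv_cancel_left]
  let eqv := MulEquiv.ofBijective _ ⟨hinj, hsurj⟩
  refine ⟨(Units.coeHom _).comp (((extOp N ρ).comp S.subtype).comp eqv.symm.toMonoidHom), fun n => ?_⟩
  have h : eqv.symm (n : G) = ⟨extEmb N ρ n, Subgroup.mem_sup_right ⟨n, rfl⟩⟩ := by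
    rw [MulEquiv.symm_apply_eq]
    rfl
  show (extOp N ρ (eqv.symm (n : G) : S).1 : (Fin d → ℂ) →ₗ[ℂ] (Fin d → ℂ)) = ρ n
  rw [h, extOp_emb, MonoidHom.coe_toHomUnits]

end CfsgLib.Char
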