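import Cfsg.Agent.Lib.Char.FlagCosets
import Cfsg.Agent.Lib.Char.Virtual

/-!
# The alternating sums of flag permutation characters of `GL_n(q)`: norms and degrees
-/

set_option autoImplicit false
set_option linter.unusedSectionVars false
set_option linter.style.haveILetI false

namespace CfsgLib.Char.UnipotentGL

open Cfsg JacobiTrudi FlagCosets Finset
open scoped ComplexConjugate

variable {n : ℕ}

/-- `λ_i = ν_i + i`. -/
def shift (ν : Fin n → ℕ) (i : Fin n) : ℕ := ν i + i.val

theorem shift_strictMono {ν : Fin n → ℕ} (h : Monotone ν) : StrictMono (shift ν) := fun i j hij => by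
  have := h hij.le
  rw [Fin.lt_def] at hij
  simp only [shift]
  omega

theorem comp_sum {ν : Fin n → ℕ} (hν : ∑ i, ν i = n) {κ : Equiv.Perm (Fin n)}
    (h : ∀ i, (κ i).val ≤ shift ν i) : ∑ i, (shift ν i - (κ i).val) = n := by
  have h1 : ∑ i, (shift ν i - (κ i).val) + ∑ i, (κ i).val = ∑ i, shift ν i := by
    rw [← Finset.sum_add_distrib]
    exact Finset.sum_congr rfl fun i _ => Nat.sub_add_cancel (h i)
  rw [Equiv.sum_comp κ (fun i : Fin n => i.val)] at h1
  simp only [shift, Finset.sum_add_distrib, hν] at h1 ⊢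
  omega

variable {F : Type*} [Field F] [Fintype F]

theorem fixedPointCharacter_eq_permChar {G : Type*} [Group G] (H : Subgroup G) :
    fixedPointCharacter H = permChar G (G ⧸ H) := rfl

theorem isGeneralized_unipotent (ν : Fin n → ℕ) :
    IsGeneralizedCharacter (GL (Fin n) F) (unipotentCharacterGL n F ν) := by
  have h : unipotentCharacterGL n F ν = ∑ κ : Equiv.Perm (Fin n),
      ((if ∀ i, (κ i).val ≤ ν i + i.val then (Equiv.Perm.sign κ : ℤ) else 0 : ℤ) : ℂ) •
        fixedPointCharacter (parabolicGL n F fun i => ν i + i.val - (κ i).val) := by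
    funext g
    rw [unipotentCharacterGL, Finset.sum_apply]
    refine Finset.sum_congr rfl fun κ _ => ?_
    split_ifs <;> simp
  rw [h]
  refine isGeneralizedCharacter_sum _ _ fun κ _ => isGeneralizedCharacter_zsmul
    (isGeneralizedCharacter_of_isCharacter ?_) _
  rw [fixedPointCharacter_eq_permChar]
  exact isCharacter_permChar (G := GL (Fin n) F) _

theorem classInner_unipotent [Fintype (GL (Fin n) F)] {ν ν' : Fin n → ℕ} (hm : Monotone ν) (hs : ∑ i, ν i = n)
    (hm' : Monotone ν') (hs' : ∑ i, ν' i = n) :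
    classInner (unipotentCharacterGL n F ν) (unipotentCharacterGL n F ν') = if ν = ν' then 1 else 0 := by
  have key := alternating_margins (shift ν') (shift ν) (shift_strictMono hm') (shift_strictMono hm)
  have hiff : shift ν' = shift ν ↔ ν = ν' :=
    ⟨fun h => funext fun i => by have := congrFun h i; simp only [shift] at this; omega, fun h => by rw [h]⟩
  simp only [hiff] at key
  have key' := congrArg (fun z : ℤ => (z : ℂ)) key
  simp only [Int.cast_sum, apply_ite (fun z : ℤ => (z : ℂ)), Int.cast_mul, Int.cast_natCast, Int.cast_zero,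
    Int.cast_one] at key'
  refine Eq.trans ?_ key'
  calc classInner (unipotentCharacterGL n F ν) (unipotentCharacterGL n F ν')
      = ∑ κ : Equiv.Perm (Fin n), ∑ κ' : Equiv.Perm (Fin n),
          if (∀ i, (κ i).val ≤ shift ν i) ∧ ∀ i, (κ' i).val ≤ shift ν' i then
            ((Equiv.Perm.sign κ : ℤ) : ℂ) * ((Equiv.Perm.sign κ' : ℤ) : ℂ) *
              classInner (fixedPointCharacter (parabolicGL n F fun i => shift ν i - (κ i).val))
                (fixedPointCharacter (parabolicGL n F fun i => shift ν' i - (κ' i).val))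
          else 0 := by
        simp only [classInner, unipotentCharacterGL, map_sum, Finset.sum_mul_sum]
        rw [Finset.sum_comm, Finset.mul_sum]
        refine Finset.sum_congr rfl fun κ _ => ?_
        rw [Finset.sum_comm, Finset.mul_sum]
        refine Finset.sum_congr rfl fun κ' _ => ?_
        by_cases h1 : ∀ i, (κ i).val ≤ shift ν i
        · by_cases h2 : ∀ i, (κ' i).val ≤ shift ν' i
          · rw [if_pos ⟨h1, h2⟩]
            simp only [shift] at h1 h2 ⊢
            simp only [if_pos h1, if_pos h2, map_mul, map_intCast, fixedPointCharacter, map_natCast,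
              Finset.mul_sum]
            exact Finset.sum_congr rfl fun g _ => by ring
          · rw [if_neg fun h => h2 h.2]
            simp only [shift] at h1 h2 ⊢
            simp [h2]
        · rw [if_neg fun h => h1 h.1]
          simp only [shift] at h1 ⊢
          simp [h1]
    _ = _ := by
        refine Finset.sum_congr rfl fun κ _ => Finset.sum_congr rfl fun κ' _ => ?_
        by_cases h : (∀ i, (κ i).val ≤ shift ν i) ∧ ∀ i, (κ' i).val ≤ shift ν' i
        · rw [if_pos h, if_pos h, classInner_parabolic (comp_sum hs h.1) (comp_sum hs' h.2)]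
        · rw [if_neg h, if_neg h]

theorem flag_inner_eq_young [Fintype (GL (Fin n) F)] {ν μ : Fin n → ℕ} (hν : ∑ i, ν i = n) (hμ : ∑ i, μ i = n) :
    classInner (fixedPointCharacter (parabolicGL n F ν)) (fixedPointCharacter (parabolicGL n F μ)) =
      classInner (fixedPointCharacter (youngSubgroup ν)) (fixedPointCharacter (youngSubgroup μ)) := by
  rw [classInner_parabolic hν hμ, classInner_young hν hμ]

/-! ### degrees -/

theorem br_split (q : ℕ) {i m : ℕ} (h : i ≤ m) : br q m = br q i + q ^ i * br q (m - i) := by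
  obtain ⟨d, rfl⟩ := Nat.exists_eq_add_of_le h
  rw [br, Finset.sum_range_add, br, br, Nat.add_sub_cancel_left, Finset.mul_sum]
  simp only [pow_add]

theorem qf_pos {q : ℕ} (hq : 0 < q) (m : ℕ) : 0 < qf q m :=
  Finset.prod_pos fun j _ => Finset.sum_pos (fun l _ => pow_pos hq l) ⟨0, by simp⟩

theorem prod_br_sub (q : ℕ) {k m : ℕ} (h : k ≤ m) :
    qf q (m - k) * ∏ i ∈ range k, br q (m - i) = qf q m := by
  induction k with
  | zero => simp
  | succ k ih =>
    rw [← ih (by omega), Finset.prod_range_succ, show m - k = (m - (k + 1)) + 1 by omega, qf, qf,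
      Finset.prod_range_succ]
    ring

/-- The falling polynomial in the Gaussian bracket. -/
noncomputable def fall (q k : ℕ) : Polynomial ℂ :=
  ∏ i ∈ range k, (Polynomial.X - Polynomial.C ((br q i : ℕ) : ℂ))

theorem entry_eq {q : ℕ} (hq : 0 < q) (k m : ℕ) :
    (if k ≤ m then (qf q m : ℂ) / (qf q (m - k) : ℂ) else 0) * (q : ℂ) ^ k.choose 2 =
      (fall q k).eval (br q m : ℂ) := by
  rw [fall, Polynomial.eval_prod]
  simp only [Polynomial.eval_sub, Polynomial.eval_X, Polynomial.eval_C]
  split_ifs with h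
  · have hne : (qf q (m - k) : ℂ) ≠ 0 := by exact_mod_cast (qf_pos hq _).ne'
    rw [← prod_br_sub q h, Nat.cast_mul, mul_div_cancel_left₀ _ hne, Nat.cast_prod,
      show k.choose 2 = ∑ i ∈ range k, i by rw [Finset.sum_range_id, Nat.choose_two_right],
      ← Finset.prod_pow_eq_pow_sum, ← Finset.prod_mul_distrib]
    refine Finset.prod_congr rfl fun i hi => ?_
    rw [br_split q (show i ≤ m by rw [mem_range] at hi; omega)]
    push_cast
    ring
  · rw [zero_mul, Finset.prod_eq_zero (mem_range.2 (not_le.1 h))]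
    simp

theorem unipotent_degree {q : ℕ} (hq : Fintype.card F = q) {ν : Fin n → ℕ} (hs : ∑ i, ν i = n) :
    unipotentCharacterGL n F ν 1 * (q : ℂ) ^ (∑ k : Fin n, k.val.choose 2) * ∏ i : Fin n, (qf q (shift ν i) : ℂ) =
      (qf q n : ℂ) * ∏ i : Fin n, ∏ j ∈ Finset.Ioi i, ((br q (shift ν j) : ℂ) - (br q (shift ν i) : ℂ)) := by
  have hq0 : 0 < q := hq ▸ Fintype.card_pos
  rw [← Matrix.det_vandermonde, Matrix.det_eval_matrixOfPolynomials_eq_det_vandermonde
    (fun i => (br q (shift ν i) : ℂ)) (fun k => fall q k.val)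
    (fun k => by
      rw [fall, Polynomial.natDegree_prod_of_monic _ _ fun i _ => Polynomial.monic_X_sub_C _,
        Finset.sum_congr rfl fun i _ => Polynomial.natDegree_X_sub_C _]
      simp)
    (fun k => Polynomial.monic_prod_of_monic _ _ fun i _ => Polynomial.monic_X_sub_C _)]
  rw [← Matrix.det_transpose, Matrix.det_apply', Finset.mul_sum, unipotentCharacterGL, Finset.sum_mul,
    Finset.sum_mul]
  refine Finset.sum_congr rfl fun κ _ => ?_
  simp only [Matrix.transpose_apply, Matrix.of_apply, ← entry_eq hq0]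
  rw [Finset.prod_mul_distrib, Finset.prod_pow_eq_pow_sum, Equiv.sum_comp κ (fun k : Fin n => k.val.choose 2)]
  by_cases h : ∀ i, (κ i).val ≤ ν i + i.val
  · simp only [shift]
    rw [if_pos h]
    simp only [h, if_true]
    have hidx := index_parabolic (F := F) hq (μ := fun i => ν i + i.val - (κ i).val) (comp_sum hs h)
    have hfix : fixedPointCharacter (parabolicGL n F fun i => ν i + i.val - (κ i).val) 1 =
        (Nat.card (GL (Fin n) F ⧸ parabolicGL n F fun i => ν i + i.val - (κ i).val) : ℂ) := by
      rw [fixedPointCharacter]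
      congr 1
      exact Nat.card_congr ((Equiv.setCongr (MulAction.fixedBy_one_eq_univ _ _)).trans (Equiv.Set.univ _))
    have hne : (∏ i : Fin n, (qf q (ν i + i.val - (κ i).val) : ℂ)) ≠ 0 :=
      Finset.prod_ne_zero_iff.2 fun i _ => by exact_mod_cast (qf_pos hq0 _).ne'
    rw [hfix, Finset.prod_div_distrib, ← hidx]
    push_cast
    field_simp
  · rw [if_neg h]
    obtain ⟨i, hi⟩ := not_forall.1 h
    have h0 : (∏ x : Fin n, if (κ x).val ≤ shift ν x then
        (qf q (shift ν x) : ℂ) / (qf q (shift ν x - (κ x).val) : ℂ) else 0) = 0 :=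
      Finset.prod_eq_zero (mem_univ i) (if_neg hi)
    simp [h0]

theorem sum_choose_two (n : ℕ) : ∑ k : Fin n, k.val.choose 2 = n * (n - 1) * (n - 2) / 6 := by
  rw [Fin.sum_univ_eq_sum_range (fun k => k.choose 2) n]
  have h : ∀ m : ℕ, ∑ k ∈ range m, k.choose 2 = m.choose 3 := by
    intro m
    induction m with
    | zero => rfl
    | succ m ih => rw [Finset.sum_range_succ, ih, Nat.choose_succ_succ' m 2, add_comm]
  rw [h, show n * (n - 1) * (n - 2) = n.descFactorial 3 by simp [Nat.descFactorial_succ]; ring,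
    Nat.descFactorial_eq_factorial_mul_choose]
  simp [Nat.factorial]

theorem br_lt_br {q : ℕ} (hq : 0 < q) {a b : ℕ} (h : a < b) : br q a < br q b :=
  Finset.sum_lt_sum_of_subset (i := a) (range_mono h.le) (mem_range.2 h) (by simp) (pow_pos hq a)
    fun _ _ _ => Nat.zero_le _

theorem isIrr_unipotent {ν : Fin n → ℕ} (hm : Monotone ν) (hs : ∑ i, ν i = n) :
    IsIrrCharacter (GL (Fin n) F) (unipotentCharacterGL n F ν) := by
  classical
  haveI := Fintype.ofFinite (IrrCharacter (GL (Fin n) F))
  refine isIrr_of_norm_one (isGeneralized_unipotent ν) (by rw [classInner_unipotent hm hs hm hs, if_pos rfl]) ?_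
  have hq0 : 0 < Fintype.card F := Fintype.card_pos
  have h := unipotent_degree (F := F) rfl (ν := ν) hs
  let A : ℕ := Fintype.card F ^ (∑ k : Fin n, k.val.choose 2) * ∏ i : Fin n, qf (Fintype.card F) (shift ν i)
  let B : ℕ := qf (Fintype.card F) n * ∏ i : Fin n, ∏ j ∈ Finset.Ioi i,
    (br (Fintype.card F) (shift ν j) - br (Fintype.card F) (shift ν i))
  have hlt : ∀ i j, i < j → br (Fintype.card F) (shift ν i) < br (Fintype.card F) (shift ν j) := fun i j hij =>
    br_lt_br hq0 (shift_strictMono hm hij)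
  have hA : 0 < A := Nat.mul_pos (pow_pos hq0 _) (Finset.prod_pos fun i _ => qf_pos hq0 _)
  have hB : 0 < B := Nat.mul_pos (qf_pos hq0 _)
    (Finset.prod_pos fun i _ => Finset.prod_pos fun j hj => Nat.sub_pos_of_lt (hlt i j (Finset.mem_Ioi.1 hj)))
  have e : unipotentCharacterGL n F ν 1 * (A : ℂ) = (B : ℂ) := by
    simp only [A, B, Nat.cast_mul, Nat.cast_pow, Nat.cast_prod]
    rw [← mul_assoc, h]
    congr 1
    refine Finset.prod_congr rfl fun i _ => Finset.prod_congr rfl fun j hj => ?_
    rw [Nat.cast_sub (hlt i j (Finset.mem_Ioi.1 hj)).le]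
  rw [eq_div_iff (show (A : ℂ) ≠ 0 by exact_mod_cast hA.ne') |>.2 e, ← Complex.ofReal_natCast B,
    ← Complex.ofReal_natCast A, ← Complex.ofReal_div, Complex.ofReal_re]
  exact div_pos (by exact_mod_cast hB) (by exact_mod_cast hA)

theorem unipotent_injective {ν ν' : Fin n → ℕ} (hm : Monotone ν) (hs : ∑ i, ν i = n)
    (hm' : Monotone ν') (hs' : ∑ i, ν' i = n)
    (h : unipotentCharacterGL n F ν = unipotentCharacterGL n F ν') : ν = ν' := by
  classical
  have h1 := classInner_unipotent (F := F) hm hs hm' hs'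
  rw [← h, classInner_unipotent hm hs hm hs, if_pos rfl] at h1
  by_contra hne
  rw [if_neg hne] at h1
  exact one_ne_zero h1

end CfsgLib.Char.UnipotentGL
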