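import Cfsg.Agent.Lib.Char.DegreeRatio
import Cfsg.Agent.Lib.Char.Integrality
import Cfsg.Agent.Lib.Char.DefectZero
import Mathlib.GroupTheory.Sylow
import Mathlib.GroupTheory.QuotientGroup.Defs

/-!
# Characters of prime power degree: restriction to normal subgroups of prime-to-`p` index, descent to quotients
-/

set_option autoImplicit false
set_option linter.unusedSectionVars false

namespace CfsgLib.Char

open scoped ComplexConjugate
open Cfsg

universe u

variable {G : Type u} [Group G] [Finite G]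

/-- A character of `p`-power degree stays irreducible on a normal subgroup of index prime to `p`. -/
theorem isIrr_restrict_of_coprime_index {χ : G → ℂ} (hχ : IsIrrCharacter G χ) {p k : ℕ} (hp : p.Prime)
    (hdeg : χ 1 = ((p ^ k : ℕ) : ℂ)) (N : Subgroup G) [N.Normal] (hidx : ¬ p ∣ N.index) :
    IsIrrCharacter N (fun n : N => χ n) := by
  classical
  have := Fintype.ofFinite G
  have := Fintype.ofFinite N
  have : Fintype (IrrCharacter N) := Fintype.ofFinite _
  set f : N → ℂ := fun n => χ n with hf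
  have hfc : IsCharacter N f := isCharacter_comp (isCharacter_of_isIrr hχ) N.subtype
  choose m hm using classInner_char_irr_nat hfc
  choose d hd hde using fun ψ : IrrCharacter N => isIrrCharacter_degree ψ.2
  have hexp : f = ∑ ψ : IrrCharacter N, (m ψ : ℂ) • (ψ : N → ℂ) := by
    conv_lhs => rw [classFun_expand (isClassFunction_of_isCharacter hfc)]
    simp only [hm]
  have hsum : ∑ ψ : IrrCharacter N, m ψ * d ψ = p ^ k := by
    have h := congrFun hexp 1
    simp only [Finset.sum_apply, Pi.smul_apply, smul_eq_mul, hde] at h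
    rw [show f 1 = ((p ^ k : ℕ) : ℂ) from by simpa [hf] using hdeg] at h
    exact_mod_cast h.symm
  obtain ⟨ψ, hψ⟩ : ∃ ψ, m ψ ≠ 0 := by
    by_contra hn
    push Not at hn
    simp only [hn, zero_mul, Finset.sum_const_zero] at hsum
    exact (pow_pos hp.pos k).ne hsum
  obtain ⟨hdvd, hr⟩ := ratio_dvd_index N hχ ψ.2 (by rw [hm]; exact_mod_cast hψ) hdeg (hde ψ)
  have hdk : d ψ = p ^ k := by
    obtain ⟨i, hi, hi'⟩ := (Nat.dvd_prime_pow hp).1 hdvd
    rw [hi', Nat.pow_div hi hp.pos] at hr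
    have h0 : k - i = 0 := by
      by_contra h0
      exact hidx ((dvd_pow_self p h0).trans hr)
    rw [hi', show i = k by omega]
  have hsplit := Finset.add_sum_erase Finset.univ (fun ψ => m ψ * d ψ) (Finset.mem_univ ψ)
  simp only [hsum, hdk] at hsplit
  have hle : p ^ k ≤ m ψ * p ^ k := Nat.le_mul_of_pos_left _ (Nat.pos_of_ne_zero hψ)
  have h0 : ∑ x ∈ Finset.univ.erase ψ, m x * d x = 0 := by omega
  have hm1 : m ψ = 1 := by
    have : m ψ * p ^ k = 1 * p ^ k := by omega
    exact Nat.eq_of_mul_eq_mul_right (pow_pos hp.pos k) this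
  have hrest : ∀ x, x ≠ ψ → m x = 0 := fun x hx =>
    (Nat.mul_eq_zero.1 (Finset.sum_eq_zero_iff.1 h0 x (by simp [hx]))).resolve_right (hd x).ne'
  show IsIrrCharacter N f
  rw [hexp, Finset.sum_eq_single ψ (fun x _ hx => by simp [hrest x hx])
    (fun h => absurd (Finset.mem_univ ψ) h), hm1, Nat.cast_one, one_smul]
  exact ψ.2

/-- An irreducible character trivial on a normal subgroup comes from the quotient. -/
theorem exists_isIrr_quotient {χ : G → ℂ} (hχ : IsIrrCharacter G χ) (Z : Subgroup G) [Z.Normal]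
    (hZ : ∀ z ∈ Z, χ z = χ 1) :
    ∃ χ' : G ⧸ Z → ℂ, IsIrrCharacter (G ⧸ Z) χ' ∧ ∀ g : G, χ' (g : G ⧸ Z) = χ g := by
  obtain ⟨n, ρ, hρ, rfl⟩ := hχ
  have h1 : ∀ z ∈ Z, ρ z = 1 := fun z hz =>
    (char_eq_degree_iff ρ z).1 ((hZ z hz).trans (Representation.char_one ρ))
  let ρ' : Representation ℂ (G ⧸ Z) (Fin n → ℂ) :=
    (QuotientGroup.con Z).lift ρ (fun x y (h : QuotientGroup.con Z x y) => by
      have hxy : x⁻¹ * y ∈ Z := QuotientGroup.leftRel_apply.1 h
      show ρ x = ρ y
      rw [show y = x * (x⁻¹ * y) by group, map_mul, h1 _ hxy, mul_one])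
  have hval : ∀ g : G, ρ' (g : G ⧸ Z) = ρ g := fun g => rfl
  refine ⟨ρ'.character, ⟨n, ρ', ?_, rfl⟩, fun g => by
    simp only [Representation.character, hval]⟩
  let e : Subrepresentation ρ' ≃o Subrepresentation ρ :=
    { toFun := fun S => ⟨S.toSubmodule, fun g v hv => by
        rw [← hval]
        exact S.apply_mem_toSubmodule (g : G ⧸ Z) hv⟩
      invFun := fun S => ⟨S.toSubmodule, fun q v hv => by
        obtain ⟨g, rfl⟩ := QuotientGroup.mk_surjective q
        rw [hval]
        exact S.apply_mem_toSubmodule g hv⟩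
      left_inv := fun S => rfl
      right_inv := fun S => rfl
      map_rel_iff' := Iff.rfl }
  have := hρ
  exact e.isSimpleOrder

/-- An irreducible character of degree the full `p`-part vanishes on nontrivial `p`-elements. -/
theorem steinberg_props {χ : G → ℂ} (hχ : IsIrrCharacter G χ) {p n : ℕ} [Fact p.Prime]
    (hn : p ^ n ∣ Nat.card G) (hn' : ¬ p ^ (n + 1) ∣ Nat.card G)
    (hdeg : χ 1 = ((p ^ n : ℕ) : ℂ)) (P : Sylow p G) :
    χ 1 = Nat.card P ∧ ∀ x : G, x ∈ P → x ≠ 1 → χ x = 0 := by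
  have hP : Nat.card P = p ^ n := by
    rw [P.card_eq_multiplicity]
    congr 1
    have hne : Nat.card G ≠ 0 := Nat.card_pos.ne'
    have h1 := ((Fact.out : p.Prime).pow_dvd_iff_le_factorization hne).1 hn
    have h2 : ¬ n + 1 ≤ (Nat.card G).factorization p := fun h =>
      hn' (((Fact.out : p.Prime).pow_dvd_iff_le_factorization hne).2 h)
    omega
  refine ⟨by rw [hdeg, hP], fun x hx hx1 => ?_⟩
  refine char_defect_zero_vanishes ⟨χ, hχ⟩ hn hn' hdeg dvd_rfl ?_
  obtain ⟨k, hk⟩ := P.isPGroup' ⟨x, hx⟩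
  have hk' : x ^ p ^ k = 1 := congrArg Subtype.val hk
  obtain ⟨i, -, hi⟩ := (Nat.dvd_prime_pow Fact.out).1 (orderOf_dvd_of_pow_eq_one hk')
  rw [hi]
  refine dvd_pow_self p fun h0 => hx1 ?_
  rw [h0, pow_zero, orderOf_eq_one_iff] at hi
  exact hi

end CfsgLib.Char
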