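import Cfsg.Agent.Lib.Char.UnipotentGL
import Cfsg.Agent.Lib.Char.SteinbergDescend
import Cfsg.Agent.Lib.Classical.SLBasic

/-!
# The Steinberg character of `PSL_n(q)`
-/

set_option autoImplicit false
set_option linter.unusedSectionVars false

namespace CfsgLib.Char.SteinbergPSL

open Cfsg CfsgLib.Char FlagCosets UnipotentGL Finset
open scoped MatrixGroups

variable {n : ℕ}

theorem prod_qf (q : ℕ) : (∏ i : Fin n, qf q (n - 1 - i.val)) * qf q n = ∏ i : Fin n, qf q (i.val + 1) := by
  rw [Fin.prod_univ_eq_prod_range (fun i => qf q (n - 1 - i)) n,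
    Fin.prod_univ_eq_prod_range (fun i => qf q (i + 1)) n, Finset.prod_range_reflect (qf q) n,
    ← Finset.prod_range_succ, Finset.prod_range_succ']
  simp [qf]

theorem prod_br_Ioi (q : ℕ) (i : Fin n) :
    ∏ j ∈ Finset.Ioi i, br q (j.val - i.val) = qf q (n - 1 - i.val) := by
  rw [qf]
  refine Finset.prod_bij (fun j _ => j.val - i.val - 1) ?_ ?_ ?_ ?_
  · intro j hj
    have : i.val < j.val := Fin.lt_def.1 (Finset.mem_Ioi.1 hj)
    have := j.isLt
    exact Finset.mem_range.2 (by omega)
  · intro a ha b hb h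
    have : i.val < a.val := Fin.lt_def.1 (Finset.mem_Ioi.1 ha)
    have : i.val < b.val := Fin.lt_def.1 (Finset.mem_Ioi.1 hb)
    exact Fin.ext (by omega)
  · intro t ht
    rw [Finset.mem_range] at ht
    refine ⟨⟨i.val + t + 1, by omega⟩, Finset.mem_Ioi.2 (show i.val < i.val + t + 1 by omega), ?_⟩
    show i.val + t + 1 - i.val - 1 = t
    omega
  · intro j hj
    have : i.val < j.val := Fin.lt_def.1 (Finset.mem_Ioi.1 hj)
    congr 1
    omega

theorem exponent_eq : ∑ i : Fin n, ∑ _j ∈ Finset.Ioi i, (i.val + 1) =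
    n.choose 2 + ∑ k : Fin n, k.val.choose 2 := by
  rw [Finset.sum_comm' (t' := Finset.univ) (s' := fun j : Fin n => Finset.Iio j) (by simp)]
  have h1 : ∀ j : Fin n, ∑ i ∈ Finset.Iio j, (i.val + 1) = j.val.choose 2 + j.val := by
    intro j
    have := Finset.sum_map (Finset.Iio j) Fin.valEmbedding (fun x => x + 1)
    rw [Fin.map_valEmbedding_Iio, Nat.Iio_eq_range] at this
    simp only [Fin.valEmbedding_apply] at this
    rw [← this, Finset.sum_add_distrib, Finset.sum_range_id, Finset.sum_const, Finset.card_range,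
      smul_eq_mul, mul_one, Nat.choose_two_right]
  rw [Finset.sum_congr rfl fun j _ => h1 j, Finset.sum_add_distrib, add_comm,
    Fin.sum_univ_eq_sum_range (fun x => x) n, Finset.sum_range_id, Nat.choose_two_right]

variable {F : Type*} [Field F] [Fintype F]

theorem steinberg_degree : unipotentCharacterGL n F (fun _ => 1) 1 =
    ((Fintype.card F ^ n.choose 2 : ℕ) : ℂ) := by
  set q := Fintype.card F with hq
  have hq0 : 0 < q := Fintype.card_pos
  have h := unipotent_degree (F := F) hq.symm (ν := fun _ : Fin n => 1) (by simp)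
  have hsub : ∀ i j : Fin n, j ∈ Finset.Ioi i →
      (br q (shift (fun _ => 1) j) : ℂ) - (br q (shift (fun _ => 1) i) : ℂ) =
        ((q ^ (i.val + 1) * br q (j.val - i.val) : ℕ) : ℂ) := by
    intro i j hj
    have hij : i.val < j.val := Fin.lt_def.1 (Finset.mem_Ioi.1 hj)
    simp only [shift]
    rw [br_split q (show 1 + i.val ≤ 1 + j.val by omega), show 1 + j.val - (1 + i.val) = j.val - i.val by omega,
      add_comm 1 i.val]
    push_cast
    ring
  rw [Finset.prod_congr rfl fun i _ => Finset.prod_congr rfl fun j hj => hsub i j hj] at h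
  simp only [← Nat.cast_prod, Finset.prod_mul_distrib, prod_br_Ioi, Finset.prod_pow_eq_pow_sum,
    shift, add_comm 1] at h
  rw [exponent_eq, pow_add] at h
  have hne : ((q ^ (∑ k : Fin n, k.val.choose 2) * ∏ i : Fin n, qf q (i.val + 1) : ℕ) : ℂ) ≠ 0 := by
    exact_mod_cast (Nat.mul_pos (pow_pos hq0 _) (Finset.prod_pos fun i _ => qf_pos hq0 _)).ne'
  refine mul_right_cancel₀ hne ?_
  rw [Nat.cast_mul, ← mul_assoc, Nat.cast_pow]
  refine h.trans ?_
  rw [← prod_qf q]
  push_cast
  ring

theorem scalar_fixed (μ : Fin n → ℕ) {z : GL (Fin n) F} (hz : ∀ g, g * z = z * g)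
    (hd : ∀ i j, i ≠ j → (z : Matrix (Fin n) (Fin n) F) i j = 0) :
    fixedPointCharacter (parabolicGL n F μ) z = fixedPointCharacter (parabolicGL n F μ) 1 := by
  have hzP : z ∈ parabolicGL n F μ := fun i j hij => hd i j fun e => absurd (e ▸ hij) (lt_irrefl _)
  have hfix : ∀ x : GL (Fin n) F ⧸ parabolicGL n F μ, z • x = x := fun x => by
    induction x using QuotientGroup.induction_on with
    | _ g =>
      refine (QuotientGroup.eq).2 ?_
      show (z * g)⁻¹ * g ∈ parabolicGL n F μ
      rw [← hz, mul_inv_rev, inv_mul_cancel_right]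
      exact (parabolicGL n F μ).inv_mem hzP
  unfold fixedPointCharacter
  congr 2
  congr 1
  ext x
  simp [MulAction.mem_fixedBy, hfix x]

theorem exists_steinberg (p : ℕ) [Fact p.Prime] [CharP F p] (hn : 2 ≤ n) :
    ∃ χ : Matrix.ProjectiveSpecialLinearGroup (Fin n) F → ℂ,
      IsIrrCharacter (Matrix.ProjectiveSpecialLinearGroup (Fin n) F) χ ∧
      ∀ P : Sylow p (Matrix.ProjectiveSpecialLinearGroup (Fin n) F), χ 1 = Nat.card P ∧
        ∀ x : Matrix.ProjectiveSpecialLinearGroup (Fin n) F, x ∈ P → x ≠ 1 → χ x = 0 := by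
  classical
  have hp : p.Prime := Fact.out
  have : NeZero n := ⟨by omega⟩
  set q := Fintype.card F with hq
  obtain ⟨f, -, hf⟩ := FiniteField.card F p
  have hq2 : 2 ≤ q := Fintype.one_lt_card
  have hf' : q = p ^ (f : ℕ) := hf
  have hnot : ¬ p ∣ q - 1 := fun h => by
    have h1 : p ∣ q := hf' ▸ dvd_pow_self p f.pos.ne'
    have : p ∣ q - (q - 1) := Nat.dvd_sub h1 h
    rw [show q - (q - 1) = 1 by omega, Nat.dvd_one] at this
    exact hp.ne_one this
  set St := unipotentCharacterGL n F (fun _ => 1) with hSt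
  have hirr : IsIrrCharacter (GL (Fin n) F) St := isIrr_unipotent monotone_const (by simp)
  have hdeg : St 1 = ((p ^ ((f : ℕ) * n.choose 2) : ℕ) : ℂ) := by
    rw [hSt, steinberg_degree, ← hq, hf', ← pow_mul]
  set d : GL (Fin n) F →* Fˣ := Matrix.GeneralLinearGroup.det
  have hidx : ¬ p ∣ d.ker.index := fun h => hnot (h.trans (by
    rw [Subgroup.index_ker, hq, ← Fintype.card_units, ← Nat.card_eq_fintype_card]
    exact Subgroup.card_subgroup_dvd_card _))
  have hres := isIrr_restrict_of_coprime_index hirr hp hdeg d.ker hidx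
  let ι : Matrix.SpecialLinearGroup (Fin n) F →* d.ker :=
    (Matrix.SpecialLinearGroup.toGL).codRestrict d.ker fun A => Units.ext (by simp [d])
  have hι : Function.Surjective ι := fun g => by
    have hg : Matrix.det ((g : GL (Fin n) F) : Matrix (Fin n) (Fin n) F) = 1 :=
      congrArg Units.val (MonoidHom.mem_ker.1 g.2)
    exact ⟨⟨_, hg⟩, Subtype.ext (Units.ext rfl)⟩
  have hsl := isIrrCharacter_comp_surjective hres ι hι
  obtain ⟨χ, hχ, hval⟩ := exists_isIrr_quotient hsl (Subgroup.center _) fun z hz => by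
    obtain ⟨r, -, hr⟩ := Matrix.SpecialLinearGroup.mem_center_iff.1 hz
    show St (Matrix.SpecialLinearGroup.toGL z) = St (Matrix.SpecialLinearGroup.toGL 1)
    rw [map_one, hSt]
    refine Finset.sum_congr rfl fun κ _ => ?_
    split_ifs
    swap
    · rfl
    congr 1
    refine scalar_fixed _ (fun g => Units.ext ?_) fun i j hij => ?_
    · show (g : Matrix (Fin n) (Fin n) F) * (z : Matrix (Fin n) (Fin n) F) =
        (z : Matrix (Fin n) (Fin n) F) * (g : Matrix (Fin n) (Fin n) F)
      rw [← hr]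
      exact (Matrix.scalar_commute r (fun r' => Commute.all r r') _).symm.eq
    · show (z : Matrix (Fin n) (Fin n) F) i j = 0
      rw [← hr]
      simp [hij]
  refine ⟨χ, hχ, fun P => ?_⟩
  have hc := CfsgLib.Classical.card_psl_mul (F := F) (n := n) (by omega)
  set g := Nat.gcd n (Fintype.card F - 1) with hg
  have hgd : ¬ p ∣ g * (q - 1) := fun h => (hp.dvd_mul.1 h).elim
    (fun h' => hnot (h'.trans (Nat.gcd_dvd_right _ _))) hnot
  have hprod : ∏ i : Fin n, (q ^ n - q ^ (i : ℕ)) =
      p ^ ((f : ℕ) * n.choose 2) * ∏ i : Fin n, (q ^ (n - i.val) - 1) := by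
    rw [pow_mul, ← hf', show n.choose 2 = ∑ i : Fin n, i.val by
      rw [Fin.sum_univ_eq_sum_range (fun x => x) n, Finset.sum_range_id, Nat.choose_two_right],
      ← Finset.prod_pow_eq_pow_sum, ← Finset.prod_mul_distrib]
    refine Finset.prod_congr rfl fun i _ => ?_
    rw [Nat.mul_sub, mul_one, ← pow_add, Nat.add_sub_cancel' i.isLt.le]
  rw [← mul_assoc, hprod] at hc
  refine steinberg_props hχ ?_ ?_ (by rw [← QuotientGroup.mk_one, hval]; simpa using hdeg) P
  · refine (Nat.Coprime.dvd_of_dvd_mul_left ?_ ⟨_, hc⟩)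
    exact Nat.Coprime.pow_left _ (hp.coprime_iff_not_dvd.2 hgd)
  · intro h
    obtain ⟨t, ht⟩ := h
    rw [ht, pow_succ] at hc
    have : p ∣ ∏ i : Fin n, (q ^ (n - i.val) - 1) := ⟨g * (q - 1) * t,
      Nat.eq_of_mul_eq_mul_left (pow_pos hp.pos _) (hc.symm.trans (by ring))⟩
    obtain ⟨i, -, hi⟩ := (Prime.dvd_finset_prod_iff (Nat.prime_iff.1 hp) _).1 this
    have h1 : p ∣ q ^ (n - i.val) := (hf' ▸ dvd_pow_self p f.pos.ne' : p ∣ q).trans
      (dvd_pow_self q (by have := i.isLt; omega))
    have h2 : p ∣ q ^ (n - i.val) - (q ^ (n - i.val) - 1) := Nat.dvd_sub h1 hi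
    rw [show q ^ (n - i.val) - (q ^ (n - i.val) - 1) = 1 by
      have := pow_pos (show 0 < q by omega) (n - i.val); omega, Nat.dvd_one] at h2
    exact hp.ne_one h2

end CfsgLib.Char.SteinbergPSL
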