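import Cfsg.Agent.Lib.Char.Induction

/-!
# Transport of induction along subgroup inclusions
-/

set_option autoImplicit false
set_option linter.unusedSectionVars false

namespace CfsgLib.Char

open scoped ComplexConjugate
open Representation Module Cfsg

universe u

variable {G : Type u} [Group G] [Fintype G]

theorem indFun_congr {H K : Subgroup G} (h : H = K) (θ : H → ℂ) (θ' : K → ℂ)
    (he : ∀ (x : G) (hx : x ∈ H) (hx' : x ∈ K), θ ⟨x, hx⟩ = θ' ⟨x, hx'⟩) :
    indFun H θ = indFun K θ' := by
  subst h
  congr 1
  funext x
  exact he x x.2 x.2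

/-- A subgroup of a subgroup as a subgroup of the whole group. -/
noncomputable def mapSubtypeEquiv (T : Subgroup G) (E : Subgroup T) : E ≃* E.map T.subtype :=
  E.equivMapOfInjective T.subtype T.subtype_injective

/-- Transitivity of induction, for a subgroup of a subgroup. -/
theorem indFun_map (T : Subgroup G) [Fintype T] (E : Subgroup T) (φ : E → ℂ) :
    indFun T (indFun E φ) =
      indFun (E.map T.subtype) (fun y => φ ((mapSubtypeEquiv T E).symm y)) := by
  rw [← indFun_trans (E.map T.subtype) T (Subgroup.map_subtype_le E)]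
  congr 1
  have e : (E.map T.subtype).subgroupOf T = E :=
    Subgroup.comap_map_eq_self_of_injective T.subtype_injective E
  refine indFun_congr e.symm _ _ fun x hx hx' => ?_
  congr 1
  rw [eq_comm, MulEquiv.symm_apply_eq]
  rfl

/-- The projection formula. -/
theorem indFun_mul (H : Subgroup G) (θ : H → ℂ) {χ : G → ℂ} (hχ : IsClassFunction G χ) :
    indFun H θ * χ = indFun H (fun h : H => θ h * χ h) := by
  classical
  funext g
  simp only [Pi.mul_apply, indFun, mul_assoc, Finset.sum_mul, extendByZero_eq_ite]
  congr 1
  refine Finset.sum_congr rfl fun x _ => ?_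
  split_ifs with h
  · congr 1
    have := hχ (x⁻¹ * (g * x)) x
    rw [← this]
    congr 1
    group
  · rw [zero_mul]

theorem indFun_top (θ : G → ℂ) (hθ : IsClassFunction G θ) :
    indFun (⊤ : Subgroup G) (fun x : (⊤ : Subgroup G) => θ x) = θ := by
  funext g
  have h : ∀ x : G, extendByZero (⊤ : Subgroup G) (fun x : (⊤ : Subgroup G) => θ x) (x⁻¹ * g * x) = θ g := by
    intro x
    rw [extendByZero_mem _ _ (Subgroup.mem_top _)]
    have := hθ g x⁻¹
    rwa [inv_inv] at this
  rw [indFun, Finset.sum_congr rfl fun x _ => h x, Finset.sum_const, Finset.card_univ, nsmul_eq_mul,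
    ← Nat.card_eq_fintype_card, Subgroup.card_top, ← mul_assoc,
    inv_mul_cancel₀ (by exact_mod_cast Nat.card_pos.ne'), one_mul]

end CfsgLib.Char
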