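/-
Indicator functions of sections are integral combinations of irreducible characters.
-/
import Cfsg.Agent.Lib.Char.Brauer
import Cfsg.Agent.Lib.Char.Induction
import Cfsg.Agent.Lib.Char.IndMap
import Cfsg.Agent.Lib.Block.RegularIndicator
import Cfsg.Agent.Lib.Coprime.Hall
import Mathlib.GroupTheory.Nilpotent

set_option autoImplicit false

open scoped ComplexConjugate

namespace CfsgLib.Char.SectionIndicator

universe u

/-- A nilpotent group splits along a coprime factorization of a multiple of its order. -/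
theorem exists_split {E : Type u} [Group E] [Finite E] [Group.IsNilpotent E] {m n : ℕ}
    (hmn : m.Coprime n) (hd : Nat.card E ∣ m * n) :
    ∃ A B : Subgroup E, Nat.card A ∣ m ∧ Nat.card B ∣ n ∧ Nat.card A * Nat.card B = Nat.card E ∧
      (∀ a ∈ A, ∀ b ∈ B, Commute a b) ∧ A ⊓ B = ⊥ := by
  set a := Nat.gcd (Nat.card E) m
  set b := Nat.gcd (Nat.card E) n
  have hab : Nat.card E = a * b := by
    rw [← Nat.Coprime.gcd_mul _ hmn, Nat.gcd_eq_left hd]
  have hc : a.Coprime b := (hmn.coprime_dvd_left (Nat.gcd_dvd_right _ _)).coprime_dvd_right (Nat.gcd_dvd_right _ _)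
  have normal_hall : ∀ {k l : ℕ}, Nat.card E = k * l → k.Coprime l → ∀ H : Subgroup E, Nat.card H = k → H.Normal := by
    intro k l hkl hcl H hH
    rw [← Subgroup.normalizer_eq_top_iff]
    by_contra hne
    obtain ⟨-, g, hg, hgN⟩ := SetLike.lt_iff_le_and_exists.1
      (normalizerCondition_of_isNilpotent _ (lt_top_iff_ne_top.2 hne))
    refine hgN ?_
    -- conjugates of a normal Hall subgroup coincide with it
    set N := Subgroup.normalizer (H : Set E) with hN
    have hsub : ∀ x ∈ N, x ^ k = 1 → x ∈ H := by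
      intro x hx hxk
      haveI : (H.subgroupOf N).Normal := Subgroup.normal_in_normalizer
      have h1 : ((⟨x, hx⟩ : N) : N ⧸ H.subgroupOf N) = 1 := by
        rw [← orderOf_eq_one_iff]
        refine Nat.eq_one_of_dvd_coprimes hcl ?_ ?_
        · refine orderOf_dvd_of_pow_eq_one ?_
          rw [← QuotientGroup.mk_pow, QuotientGroup.eq_one_iff]
          have : (⟨x, hx⟩ : N) ^ k = 1 := Subtype.ext (by simpa using hxk)
          rw [this]; exact one_mem _
        · refine (orderOf_dvd_natCard _).trans ?_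
          rw [← Subgroup.index_eq_card]
          have h2 := (H.subgroupOf N).card_mul_index
          rw [Nat.card_congr (Subgroup.subgroupOfEquivOfLe Subgroup.le_normalizer).toEquiv, hH] at h2
          have h3 : Nat.card N ∣ k * l := hkl ▸ Subgroup.card_subgroup_dvd_card N
          rw [← h2] at h3
          exact Nat.dvd_of_mul_dvd_mul_left (hH ▸ Nat.card_pos) h3
      exact (QuotientGroup.eq_one_iff (⟨x, hx⟩ : N)).1 h1
    have key : ∀ g ∈ Subgroup.normalizer (N : Set E), ∀ x ∈ H, g * x * g⁻¹ ∈ H := by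
      intro g hg x hx
      refine hsub _ ((Subgroup.mem_normalizer_iff.1 hg x).1 (Subgroup.le_normalizer hx)) ?_
      rw [conj_pow, show x ^ k = 1 by rw [← hH]; exact congrArg Subtype.val (pow_card_eq_one' (x := (⟨x, hx⟩ : H))),
        mul_one, mul_inv_cancel]
    exact Subgroup.mem_normalizer_fintype (key g hg)
  obtain ⟨A, hA⟩ := Coprime.exists_hall hab hc
  obtain ⟨B, hB⟩ := Coprime.exists_hall (hab.trans (mul_comm a b)) hc.symm
  haveI := normal_hall hab hc A hA
  haveI := normal_hall (hab.trans (mul_comm a b)) hc.symm B hB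
  have hdis : A ⊓ B = ⊥ := Coprime.disjoint_of_coprime_card (by rw [hA, hB]; exact hc)
  refine ⟨A, B, hA ▸ Nat.gcd_dvd_right _ _, hB ▸ Nat.gcd_dvd_right _ _, by rw [hA, hB, hab], fun x hx y hy => ?_, hdis⟩
  exact Subgroup.commute_of_normal_of_disjoint A B ‹_› ‹_› (disjoint_iff.2 hdis) x y hx hy

variable {G : Type u} [Group G] [Fintype G]

theorem exists_exponent {m n : ℕ} (hmn : m.Coprime n) : ∃ e : ℕ, (∀ x : G, x ^ m = 1 → x ^ e = 1) ∧
    ∀ x : G, x ^ n = 1 → x ^ e = x := by
  obtain ⟨e, he1, he2⟩ := Nat.chineseRemainder hmn 0 1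
  refine ⟨e, fun x hx => ?_, fun x hx => ?_⟩
  · rw [← pow_zero x]
    exact pow_eq_pow_iff_modEq.2 (he1.of_dvd (orderOf_dvd_of_pow_eq_one hx))
  · conv_rhs => rw [← pow_one x]
    exact pow_eq_pow_iff_modEq.2 (he2.of_dvd (orderOf_dvd_of_pow_eq_one hx))

theorem pow_of_coprime {m n : ℕ} (hG : Nat.card G = m * n) {x : G} (h : (orderOf x).Coprime n) : x ^ m = 1 :=
  orderOf_dvd_iff_pow_eq_one.1 (h.dvd_of_dvd_mul_right (hG ▸ orderOf_dvd_natCard x))

theorem isIntegral_inner_one {m n e : ℕ} (hm : ∀ x : G, x ^ m = 1 → x ^ e = 1) (hn : ∀ x : G, x ^ n = 1 → x ^ e = x)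
    (hmn : m.Coprime n) (E : Subgroup G) [Fintype E] [Group.IsNilpotent E] (hd : Nat.card E ∣ m * n)
    {f : G → ℂ} (P : G → Prop) [DecidablePred P] (hf : ∀ x, f x = if P (x ^ e) then (n : ℂ) else 0)
    {ψ : E → ℂ} (hψ : Cfsg.IsCharacter E ψ) :
    IsIntegral ℤ ((Nat.card E : ℂ)⁻¹ * ∑ x : E, f x * ψ x) := by
  classical
  obtain ⟨A, B, hA, hB, hAB, hcomm, hdis⟩ := exists_split hmn hd
  haveI := Fintype.ofFinite A
  haveI := Fintype.ofFinite B
  have hAm : ∀ a : A, ((a : E) : G) ^ m = 1 := fun a => by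
    have := orderOf_dvd_iff_pow_eq_one.1 ((orderOf_dvd_natCard a).trans hA)
    simpa using congrArg (fun z : A => ((z : E) : G)) this
  have hBn : ∀ b : B, ((b : E) : G) ^ n = 1 := fun b => by
    have := orderOf_dvd_iff_pow_eq_one.1 ((orderOf_dvd_natCard b).trans hB)
    simpa using congrArg (fun z : B => ((z : E) : G)) this
  have hbij : Function.Bijective (fun q : B × A => (q.1 : E) * q.2) := by
    refine (Fintype.bijective_iff_injective_and_card _).2 ⟨fun q q' h => ?_, ?_⟩
    · have h' : (q'.1 : E)⁻¹ * q.1 = q'.2 * (q.2 : E)⁻¹ := by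
        rw [eq_mul_inv_iff_mul_eq, mul_assoc, inv_mul_eq_iff_eq_mul]; exact h
      have h0 : (q'.1 : E)⁻¹ * q.1 ∈ A ⊓ B := Subgroup.mem_inf.2 ⟨h' ▸ mul_mem q'.2.2 (inv_mem q.2.2), mul_mem (inv_mem q'.1.2) q.1.2⟩
      rw [hdis, Subgroup.mem_bot] at h0
      rw [h0, eq_comm, mul_inv_eq_one] at h'
      exact Prod.ext (Subtype.ext (inv_mul_eq_one.1 h0).symm) (Subtype.ext h'.symm)
    · rw [Fintype.card_prod]
      simpa [Nat.card_eq_fintype_card, mul_comm] using hAB
  rw [← Fintype.sum_bijective _ hbij (fun q => f ((q.1 : E) * q.2 : E) * ψ ((q.1 : E) * q.2)) _ (fun q => rfl),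
    Fintype.sum_prod_type]
  have hval : ∀ (b : B) (a : A), f (((b : E) * a : E) : G) = if P ((b : E) : G) then (n : ℂ) else 0 := fun b a => by
    have hba : Commute ((b : E) : G) ((a : E) : G) := congrArg Subtype.val (hcomm a a.2 b b.2).symm.eq
    rw [hf, Subgroup.coe_mul, hba.mul_pow]
    rw [hn _ (hBn b), hm _ (hAm a), mul_one]
  obtain ⟨c, hc⟩ := hB
  have hcardB : (Nat.card B : ℂ) ≠ 0 := Nat.cast_ne_zero.2 Nat.card_pos.ne'
  have hcardA : (Nat.card A : ℂ) ≠ 0 := Nat.cast_ne_zero.2 Nat.card_pos.ne'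
  rw [Finset.mul_sum]
  refine IsIntegral.sum _ fun b _ => ?_
  simp only [hval, ← Finset.mul_sum]
  split_ifs
  · have e : (Nat.card E : ℂ)⁻¹ * ((n : ℂ) * ∑ a : A, ψ ((b : E) * a)) =
        (c : ℂ) * ((Nat.card A : ℂ)⁻¹ * ∑ a : A, ψ ((b : E) * a)) := by
      rw [← hAB]
      conv_lhs => rw [hc]
      push_cast
      field_simp
    rw [e]
    exact (isIntegral_algebraMap (x := (c : ℤ))).mul (Block.isIntegral_avg_coset hψ (b : E) A fun a ha => (hcomm a ha b b.2).symm)
  · rw [zero_mul, mul_zero]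
    exact isIntegral_zero

theorem exists_coeff {m n : ℕ} (hG : Nat.card G = m * n) (hmn : m.Coprime n) (g : G)
    {f : G → ℂ} (hf1 : ∀ x : G, (∃ v : G, IsConj v g ∧ ∃ u : G, x = u * v ∧ Commute u v ∧
      (orderOf u).Coprime n ∧ (orderOf v).Coprime m) → f x = n)
    (hf0 : ∀ x : G, (¬ ∃ v : G, IsConj v g ∧ ∃ u : G, x = u * v ∧ Commute u v ∧
      (orderOf u).Coprime n ∧ (orderOf v).Coprime m) → f x = 0) :
    ∃ c : Cfsg.IrrCharacter G → ℂ, (∀ χ, c χ ∈ Cfsg.AlgInt) ∧
      f = ∑ᶠ χ : Cfsg.IrrCharacter G, c χ • (χ : G → ℂ) := by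
  classical
  obtain ⟨e, he1, he2⟩ := exists_exponent (G := G) hmn
  have hG' : Nat.card G = n * m := hG.trans (mul_comm m n)
  have hmain : ∀ x : G, (∃ v : G, IsConj v g ∧ ∃ u : G, x = u * v ∧ Commute u v ∧
      (orderOf u).Coprime n ∧ (orderOf v).Coprime m) ↔ IsConj (x ^ e) g := by
    intro x
    constructor
    · rintro ⟨v, hv, u, rfl, hc, hu, hv'⟩
      rwa [hc.mul_pow, he1 u (pow_of_coprime hG hu), he2 v (pow_of_coprime hG' hv'), one_mul]
    · intro h
      have hxe : (x ^ e) ^ n = 1 := by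
        have h1 : (x ^ n) ^ e = 1 := he1 _ (by rw [← pow_mul, ← hG', pow_card_eq_one'])
        rw [← pow_mul, mul_comm, pow_mul, h1]
      refine ⟨x ^ e, h, x * (x ^ e)⁻¹, (inv_mul_cancel_right _ _).symm,
        (Commute.self_pow x e).mul_left (Commute.inv_left (Commute.refl _)), ?_, ?_⟩
      · refine Nat.Coprime.coprime_dvd_left (orderOf_dvd_of_pow_eq_one ?_) hmn
        have hxm : (x ^ m) ^ n = 1 := by rw [← pow_mul, ← hG, pow_card_eq_one']
        rw [((Commute.self_pow x e).inv_right).mul_pow, inv_pow, ← pow_mul, mul_comm e, pow_mul, he2 _ hxm,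
          mul_inv_cancel]
      · exact Nat.Coprime.coprime_dvd_left (orderOf_dvd_of_pow_eq_one hxe) hmn.symm
  have hf : ∀ x, f x = if IsConj (x ^ e) g then (n : ℂ) else 0 := fun x => by
    split_ifs with h
    · exact hf1 x ((hmain x).2 h)
    · exact hf0 x fun h' => h ((hmain x).1 h')
  have hcl : Cfsg.IsClassFunction G f := fun x y => by
    rw [hf, hf, conj_pow]
    have : IsConj (y * x ^ e * y⁻¹) g ↔ IsConj (x ^ e) g :=
      ⟨fun h => (isConj_iff.2 ⟨y, rfl⟩).trans h, fun h => (isConj_iff.2 ⟨y, rfl⟩).symm.trans h⟩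
    simp only [this]
  letI : Fintype (Cfsg.IrrCharacter G) := Fintype.ofFinite _
  refine ⟨fun χ => Cfsg.classInner f χ, fun χ => ?_, ?_⟩
  · show IsIntegral ℤ (Cfsg.classInner f χ)
    have key : ∀ φ : G → ℂ, φ ∈ IndSpan (fun E : Subgroup G => IsElem E) →
        IsIntegral ℤ (Cfsg.classInner (φ * f) χ) := by
      intro φ hφ
      induction hφ using AddSubgroup.closure_induction with
      | mem y hy =>
        obtain ⟨E, θ, ⟨p, hp, hE⟩, hθ, rfl⟩ := hy
        haveI := isNilpotent_of_isElementary hp hE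
        haveI := Fintype.ofFinite E
        rw [indFun_mul E θ hcl, classInner_indFun E _ _ (isClassFunction_irr χ)]
        simp only [Cfsg.classInner]
        have hψ : Cfsg.IsCharacter E (θ * fun x : E => conj ((χ : G → ℂ) x)) :=
          isCharacter_mul hθ (isCharacter_comp (isCharacter_conj (isCharacter_irr χ)) E.subtype)
        have h := isIntegral_inner_one (n := n) he1 he2 hmn E (hG ▸ Subgroup.card_subgroup_dvd_card E)
          (fun y => IsConj y g) hf hψ
        convert h using 3 with x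
        simp only [Pi.mul_apply]; ring
      | zero => rw [zero_mul, classInner_zero_left]; exact isIntegral_zero
      | add x y _ _ hx hy => rw [add_mul, classInner_add_left]; exact hx.add hy
      | neg x _ hx => rw [neg_mul, classInner_neg_left]; exact hx.neg
    have := key _ (one_mem_indSpan_elem (G := G))
    rwa [show (fun _ : G => (1 : ℂ)) * f = f from one_mul f] at this
  · rw [finsum_eq_sum_of_fintype]
    exact classFun_expand hcl

end CfsgLib.Char.SectionIndicator
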