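import Cfsg.Agent.Lib.Char.Degree
import Cfsg.Agent.Lib.Char.NilMonomial
import Cfsg.Prelude.Def_Transfer

/-!
# Characters of extraspecial groups
-/

set_option autoImplicit false
set_option linter.unusedSectionVars false

namespace CfsgLib.Char

open scoped ComplexConjugate commutatorElement
open Representation Module Cfsg

universe u

variable {P : Type u} [Group P] [Fintype P] {p n : ℕ} [Fact p.Prime]

theorem center_eq_zpowers (hZ : Nat.card (Subgroup.center P) = p) {z : P}
    (hz : z ∈ Subgroup.center P) (h1 : z ≠ 1) : Subgroup.zpowers z = Subgroup.center P := by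
  refine Subgroup.eq_of_le_of_card_ge (Subgroup.zpowers_le.mpr hz) ?_
  rw [hZ, Nat.card_zpowers]
  have hdvd : orderOf z ∣ p := hZ ▸ (Subgroup.orderOf_mk z hz ▸ orderOf_dvd_natCard _)
  rcases (Nat.dvd_prime Fact.out).mp hdvd with h | h
  · exact absurd (orderOf_eq_one_iff.mp h) h1
  · exact h.ge

theorem vanish_off_center (hP : IsExtraspecial p P) {χ : P → ℂ} (hχ : IsClassFunction P χ)
    (hscal : ∀ z ∈ Subgroup.center P, ∃ c : ℂ, ∀ x, χ (x * z) = c * χ x)
    (hnt : ∃ z ∈ Subgroup.center P, ∀ c : ℂ, (∀ x, χ (x * z) = c * χ x) → c ≠ 1)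
    {x : P} (hx : x ∉ Subgroup.center P) : χ x = 0 := by
  obtain ⟨z, hz, hc⟩ := hnt
  obtain ⟨y, hy⟩ : ∃ y : P, y * x ≠ x * y := by
    by_contra hne
    push Not at hne
    exact hx (Subgroup.mem_center_iff.mpr hne)
  have hw : x⁻¹ * (y * x * y⁻¹) ∈ Subgroup.center P := by
    rw [← hP.1.2.2]
    have h : ⁅x⁻¹, y⁆ ∈ commutator P :=
      Subgroup.commutator_mem_commutator (Subgroup.mem_top _) (Subgroup.mem_top _)
    rw [commutatorElement_def, inv_inv] at h
    simpa [mul_assoc] using h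
  have hw1 : x⁻¹ * (y * x * y⁻¹) ≠ 1 := by
    intro e
    rw [inv_mul_eq_one] at e
    exact hy (mul_inv_eq_iff_eq_mul.mp e.symm)
  set w := x⁻¹ * (y * x * y⁻¹)
  obtain ⟨c, hcw⟩ := hscal w hw
  have hxw : χ x = c * χ x := by
    rw [← hcw x]
    simp only [w, mul_inv_cancel_left]
    exact (hχ x y).symm
  by_cases hχx : χ x = 0
  · exact hχx
  have hc1 : c = 1 := by
    have h := hxw.symm
    rwa [mul_eq_right₀ hχx] at h
  exfalso
  obtain ⟨i, hi⟩ := Subgroup.mem_zpowers_iff.mp
    ((center_eq_zpowers hP.2 hw hw1).symm ▸ hz : z ∈ Subgroup.zpowers w)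
  have hinv : ∀ a : P, χ (a * w) = χ a := fun a => by rw [hcw a, hc1, one_mul]
  have hall : ∀ (j : ℤ) (a : P), χ (a * w ^ j) = χ a := by
    intro j
    induction j using Int.induction_on with
    | zero => simp
    | succ j ih => intro a; rw [zpow_add_one, ← mul_assoc, hinv, ih]
    | pred j ih =>
      intro a
      rw [← hinv (a * w ^ (-(j : ℤ) - 1)), mul_assoc, ← zpow_add_one]
      simpa using ih a
  exact hc 1 (fun a => by rw [one_mul, ← hi, hall]) rfl

theorem extraspecial_induced (hP : IsExtraspecial p P) (hcard : Nat.card P = p ^ (2 * n + 1))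
    (A : Subgroup P) (hab : ∀ a ∈ A, ∀ b ∈ A, a * b = b * a) (hA : Nat.card A = p ^ (n + 1))
    (lam : A → ℂ) (hlam : IsCharacter A lam ∧ lam 1 = 1)
    (hZ : ∃ a : A, (a : P) ∈ Subgroup.center P ∧ lam a ≠ 1) :
    IsIrrCharacter P (indFun A lam) ∧ ∀ x : P, x ∉ Subgroup.center P → indFun A lam x = 0 := by
  classical
  have hp : p.Prime := Fact.out
  have hirr : IsIrrCharacter A lam := by
    obtain ⟨⟨m, ρ, rfl⟩, h1⟩ := hlam
    have hd : finrank ℂ (Fin m → ℂ) = 1 := by
      have := (Representation.char_one ρ).symm.trans h1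
      exact_mod_cast this
    exact ⟨m, ρ, isIrreducible_of_finrank_eq_one ρ hd, rfl⟩
  obtain ⟨μ, hμ⟩ := linearCharEquiv.surjective
    (⟨⟨lam, hirr⟩, hlam.2⟩ : {χ : IrrCharacter A // (χ : A → ℂ) 1 = 1})
  have e : (fun a : A => (μ a : ℂ)) = lam :=
    congrArg (fun z => ((z.1 : IrrCharacter A) : A → ℂ)) hμ
  obtain ⟨a₀, ha₀, ha₁⟩ := hZ
  have ha0ne : (a₀ : P) ≠ 1 := fun h => ha₁ (by
    rw [show a₀ = 1 from Subtype.ext h]; exact hlam.2)
  have hZA : Subgroup.center P ≤ A := by
    rw [← center_eq_zpowers hP.2 ha₀ ha0ne, Subgroup.zpowers_le]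
    exact a₀.2
  have hscal : ∀ z (hz : z ∈ Subgroup.center P) (x : P),
      indFun A lam (x * z) = lam ⟨z, hZA hz⟩ * indFun A lam x := by
    intro z hz x
    simp only [indFun, Finset.mul_sum]
    refine Finset.sum_congr rfl fun y _ => ?_
    have hyz : y⁻¹ * (x * z) * y = (y⁻¹ * x * y) * z := by
      have := Subgroup.mem_center_iff.mp hz y
      calc y⁻¹ * (x * z) * y = y⁻¹ * x * (z * y) := by group
        _ = _ := by rw [← this]; group
    rw [hyz]
    by_cases hm : y⁻¹ * x * y ∈ A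
    · rw [extendByZero_mem A lam hm, extendByZero_mem A lam (A.mul_mem hm (hZA hz)),
        show (⟨y⁻¹ * x * y * z, A.mul_mem hm (hZA hz)⟩ : A) = ⟨y⁻¹ * x * y, hm⟩ * ⟨z, hZA hz⟩ from rfl,
        ← congrFun e, ← congrFun e, ← congrFun e, map_mul, Units.val_mul]
      ring
    · have hm' : y⁻¹ * x * y * z ∉ A := fun h => hm (by simpa using A.mul_mem h (A.inv_mem (hZA hz)))
      rw [extendByZero_not_mem A lam hm, extendByZero_not_mem A lam hm']
      ring
  have hA0 : indFun A lam 1 = (A.index : ℂ) := by rw [indFun_one, hlam.2, mul_one]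
  have hne1 : indFun A lam 1 ≠ 0 := by
    rw [hA0]; exact_mod_cast Subgroup.index_ne_zero_of_finite
  have hvan : ∀ x : P, x ∉ Subgroup.center P → indFun A lam x = 0 := fun x hx =>
    vanish_off_center hP (isClassFunction_indFun A lam) (fun z hz => ⟨_, hscal z hz⟩)
      ⟨a₀, ha₀, fun c hc hc1 => ha₁ (by
        have h1 := hc 1
        rw [hscal _ ha₀, hc1, one_mul] at h1
        exact (mul_eq_right₀ hne1).mp h1)⟩ hx
  refine ⟨isIrr_of_isCharacter_norm_one (isCharacter_indFun A hlam.1) ?_, hvan⟩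
  have hnormz : ∀ z ∈ Subgroup.center P,
      indFun A lam z * conj (indFun A lam z) = (A.index : ℂ) ^ 2 := by
    intro z hz
    have h := hscal z hz 1
    rw [one_mul] at h
    have hn : conj (lam ⟨z, hZA hz⟩) * lam ⟨z, hZA hz⟩ = 1 := by
      rw [← congrFun e, Complex.conj_mul',
        Complex.norm_eq_one_of_pow_eq_one (n := Nat.card A) ?_ Nat.card_pos.ne']
      · simp
      · rw [← Units.val_pow_eq_pow_val, ← map_pow, pow_card_eq_one', map_one, Units.val_one]
    rw [h, map_mul, hA0, map_natCast]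
    linear_combination (A.index : ℂ) ^ 2 * hn
  rw [classInner, ← Finset.sum_subset (Finset.subset_univ (Finset.univ.filter fun x => x ∈ Subgroup.center P))
      (fun x _ hx => by rw [hvan x (by simpa using hx), zero_mul]),
    Finset.sum_congr rfl fun z hz => hnormz z (Finset.mem_filter.mp hz).2, Finset.sum_const,
    ← Fintype.card_subtype, nsmul_eq_mul, ← Nat.card_eq_fintype_card]
  have hidx : A.index = p ^ n := by
    have h := A.card_mul_index
    rw [hA, hcard, show 2 * n + 1 = (n + 1) + n by omega, pow_add p (n + 1) n] at h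
    exact Nat.eq_of_mul_eq_mul_left (pow_pos hp.pos _) h
  rw [show Nat.card {x : P // x ∈ Subgroup.center P} = p from hP.2, hidx, hcard,
    inv_mul_eq_one₀ (by exact_mod_cast pow_ne_zero _ hp.ne_zero)]
  push_cast
  ring

theorem extraspecial_degree (hP : IsExtraspecial p P) (hcard : Nat.card P = p ^ (2 * n + 1))
    (χ : IrrCharacter P) : (χ : P → ℂ) 1 = 1 ∨ (χ : P → ℂ) 1 = (p : ℂ) ^ n := by
  classical
  obtain ⟨χ, m, ρ, hρ, rfl⟩ := χ
  have hp : p.Prime := Fact.out
  by_cases htriv : ∀ z ∈ Subgroup.center P, ρ z = LinearMap.id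
  · left
    show ρ.character 1 = 1
    rw [Representation.char_one, finrank_eq_one_of_comm ρ fun a b => ?_, Nat.cast_one]
    have h := htriv ⁅a, b⁆ (by
      rw [← hP.1.2.2]
      exact Subgroup.commutator_mem_commutator (Subgroup.mem_top _) (Subgroup.mem_top _))
    calc ρ a * ρ b = ρ (⁅a, b⁆ * (b * a)) := by
          rw [← map_mul, commutatorElement_def]; congr 1; group
      _ = ρ b * ρ a := by rw [map_mul, h, ← map_mul]; rfl
  right
  push Not at htriv
  obtain ⟨z₀, hz₀, hz₁⟩ := htriv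
  obtain ⟨lam, hlam⟩ := exists_central_hom ρ
  have hd : (finrank ℂ (Fin m → ℂ) : ℂ) ≠ 0 := by exact_mod_cast (finrank_pos_of_irreducible ρ).ne'
  have hscal : ∀ z (hz : z ∈ Subgroup.center P) (x : P),
      ρ.character (x * z) = (lam ⟨z, hz⟩ : ℂ) * ρ.character x := by
    intro z hz x
    simp [Representation.character, map_mul, hlam ⟨z, hz⟩, ← Module.End.one_eq_id]
  have hvan : ∀ x : P, x ∉ Subgroup.center P → ρ.character x = 0 := fun x hx =>
    vanish_off_center hP (fun a b => Representation.char_conj ρ a b) (fun z hz => ⟨_, hscal z hz⟩)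
      ⟨z₀, hz₀, fun c hc hc1 => hz₁ (by
        have h1 := hc 1
        rw [hscal _ hz₀, hc1, one_mul, Representation.char_one] at h1
        rw [hlam ⟨z₀, hz₀⟩, (mul_eq_right₀ hd).mp h1, one_smul])⟩ hx
  have hnorm := classInner_irr_self (G := P) ⟨_, m, ρ, hρ, rfl⟩
  have hz : ∀ z ∈ Subgroup.center P, ρ.character z * conj (ρ.character z) =
      (finrank ℂ (Fin m → ℂ) : ℂ) ^ 2 := by
    intro z hz
    have h := (norm_char_eq_iff ρ z).mpr ⟨_, hlam ⟨z, hz⟩⟩
    rw [Complex.mul_conj', h]
    simp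
  rw [classInner, ← Finset.sum_subset (Finset.subset_univ (Finset.univ.filter fun x => x ∈ Subgroup.center P))
      (fun x _ hx => by
        show ρ.character x * conj (ρ.character x) = 0
        rw [hvan x (by simpa using hx), zero_mul]),
    Finset.sum_congr rfl fun z hz' => hz z (Finset.mem_filter.mp hz').2, Finset.sum_const,
    ← Fintype.card_subtype, nsmul_eq_mul, ← Nat.card_eq_fintype_card,
    show Nat.card {x : P // x ∈ Subgroup.center P} = p from hP.2, inv_mul_eq_one₀ card_ne_zero',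
    hcard] at hnorm
  show ρ.character 1 = (p : ℂ) ^ n
  rw [Representation.char_one]
  have h' : p ^ (2 * n + 1) = p * finrank ℂ (Fin m → ℂ) ^ 2 := by exact_mod_cast hnorm
  rw [pow_succ', mul_comm 2 n, pow_mul] at h'
  have := Nat.pow_left_injective (two_ne_zero) (Nat.eq_of_mul_eq_mul_left hp.pos h')
  rw [← this, Nat.cast_pow]

theorem extraspecial_count (hP : IsExtraspecial p P) (hcard : Nat.card P = p ^ (2 * n + 1)) :
    Nat.card {χ : IrrCharacter P // (χ : P → ℂ) 1 = (p : ℂ) ^ n} = p - 1 := by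
  classical
  have hp : p.Prime := Fact.out
  have := Fintype.ofFinite (IrrCharacter P)
  have hn : 0 < n := by
    rcases Nat.eq_zero_or_pos n with rfl | h
    · exfalso
      have : IsCyclic P := isCyclic_of_prime_card (p := p) (by simpa using hcard)
      let cg : CommGroup P := IsCyclic.commGroup
      have h1 : commutator P = ⊥ := by
        rw [commutator_def, Subgroup.commutator_eq_bot_iff_le_centralizer]
        exact fun x _ => Subgroup.mem_centralizer_iff.mpr fun y _ => mul_comm y x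
      rw [hP.1.2.2] at h1
      have h2 := hP.2
      rw [h1, Subgroup.card_bot] at h2
      exact hp.one_lt.ne h2
    · exact h
  have hpn : (p : ℂ) ^ n ≠ 1 := by
    rw [← Nat.cast_pow]
    exact_mod_cast (Nat.one_lt_pow hn.ne' hp.one_lt).ne'
  have hlin : Nat.card {χ : IrrCharacter P // (χ : P → ℂ) 1 = 1} = p ^ (2 * n) := by
    rw [card_linear, hP.1.2.2]
    have h := (Subgroup.center P).card_mul_index
    rw [hP.2, hcard, pow_succ'] at h
    exact Nat.eq_of_mul_eq_mul_left hp.pos h
  have hsum := sum_degree_sq (G := P)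
  rw [Finset.sum_congr rfl (g := fun χ : IrrCharacter P =>
    (if (χ : P → ℂ) 1 = 1 then (1 : ℂ) else 0) +
      ((p : ℂ) ^ n) ^ 2 * if (χ : P → ℂ) 1 = (p : ℂ) ^ n then (1 : ℂ) else 0) fun χ _ => ?_,
    Finset.sum_add_distrib, ← Finset.mul_sum, Finset.sum_boole, Finset.sum_boole,
    ← Fintype.card_subtype, ← Fintype.card_subtype, ← Nat.card_eq_fintype_card,
    ← Nat.card_eq_fintype_card, hlin, hcard] at hsum
  · have h' : p ^ (2 * n) + (p ^ n) ^ 2 * Nat.card {χ : IrrCharacter P // (χ : P → ℂ) 1 = (p : ℂ) ^ n} =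
        p ^ (2 * n + 1) := by exact_mod_cast hsum
    rw [← pow_mul, mul_comm n 2, pow_succ] at h'
    have h2 : p ^ (2 * n) * (1 + Nat.card {χ : IrrCharacter P // (χ : P → ℂ) 1 = (p : ℂ) ^ n}) =
        p ^ (2 * n) * p := by rw [mul_add, mul_one]; exact h'
    have h3 := Nat.eq_of_mul_eq_mul_left (pow_pos hp.pos _) h2
    omega
  · rcases extraspecial_degree hP hcard χ with h | h
    · rw [h, if_pos rfl, if_neg (Ne.symm hpn)]; simp
    · rw [h, if_neg hpn, if_pos rfl]; simp

end CfsgLib.Char
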