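import Cfsg.Agent.Lib.Char.AbelianTIBound
import Cfsg.Agent.Lib.Char.Orthogonality
import Cfsg.Agent.Lib.Char.Linear
import Cfsg.Agent.Lib.Block.CentralDefect
import Cfsg.Agent.Lib.Block.RegularIndicator

/-!
# Irreducible characters that are nonzero on exactly two conjugacy classes
-/

set_option autoImplicit false
set_option linter.unusedSectionVars false

namespace CfsgLib.Char.TwoNonzero

open scoped ComplexConjugate
open Cfsg

universe u

variable {G : Type u} [Group G] [Finite G]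

/-- The kernel of a character, as the subgroup of the points where it takes the value at `1`. -/
theorem exists_kernel (χ : IrrCharacter G) :
    ∃ K : Subgroup G, K.Normal ∧ ∀ g : G, g ∈ K ↔ (χ : G → ℂ) g = (χ : G → ℂ) 1 := by
  obtain ⟨χ, n, ρ, hρ, rfl⟩ := χ
  refine ⟨ρ.ker, inferInstance, fun g => ?_⟩
  show ρ g = 1 ↔ ρ.character g = ρ.character 1
  rw [Representation.char_one, char_eq_degree_iff ρ g]
  rfl

/-- Σ over a subgroup not in the kernel. -/
theorem sum_subgroup_eq_zero (K : Subgroup G) [K.Normal] [Fintype K] (χ : IrrCharacter G)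
    (hk : ∃ k ∈ K, (χ : G → ℂ) k ≠ (χ : G → ℂ) 1) : ∑ a : K, (χ : G → ℂ) a = 0 := by
  simpa using AbelianTIBound.sum_coset_eq_zero K χ hk 1

/-- The basic structure: the support is a normal subgroup whose nontrivial elements are conjugate,
contained in the kernel of every other character. -/
theorem exists_support (hG : 2 < Nat.card G) (χ : IrrCharacter G)
    (hχ : Nat.card {C : ConjClasses G // ∃ g ∈ C.carrier, (χ : G → ℂ) g ≠ 0} = 2) :
    ∃ N : Subgroup G, N.Normal ∧ N ≠ ⊥ ∧ (∀ g : G, (χ : G → ℂ) g ≠ 0 ↔ g ∈ N) ∧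
      (∀ x ∈ N, ∀ y ∈ N, x ≠ 1 → y ≠ 1 → IsConj x y) ∧
      (∀ ψ : IrrCharacter G, ψ ≠ χ → ∀ n ∈ N, (ψ : G → ℂ) n = (ψ : G → ℂ) 1) ∧
      ∀ n ∈ N, n ≠ 1 → (χ : G → ℂ) 1 + ((Nat.card N : ℂ) - 1) * (χ : G → ℂ) n = 0 := by
  classical
  have := Fintype.ofFinite G
  have := Fintype.ofFinite (IrrCharacter G)
  have hcf := isClassFunction_irr (G := G)
  have h1ne : (χ : G → ℂ) 1 ≠ 0 := irr_one_ne_zero χ
  -- the second class
  obtain ⟨k, hk1, hk0, hclass⟩ : ∃ k : G, k ≠ 1 ∧ (χ : G → ℂ) k ≠ 0 ∧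
      ∀ g : G, (χ : G → ℂ) g ≠ 0 → g = 1 ∨ IsConj k g := by
    let P := fun C : ConjClasses G => ∃ g ∈ C.carrier, (χ : G → ℂ) g ≠ 0
    have hP1 : P (ConjClasses.mk 1) := ⟨1, ConjClasses.mem_carrier_mk, h1ne⟩
    obtain ⟨x, y, hxy, hu⟩ := Nat.card_eq_two_iff.mp hχ
    have hall : ∀ z : {C : ConjClasses G // P C}, z = x ∨ z = y := fun z => by
      have : z ∈ (Set.univ : Set {C : ConjClasses G // P C}) := trivial
      rw [← hu] at this
      exact this
    obtain ⟨w, hw, hall'⟩ : ∃ w : {C : ConjClasses G // P C}, w ≠ ⟨_, hP1⟩ ∧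
        ∀ z, z = ⟨_, hP1⟩ ∨ z = w := by
      rcases hall ⟨_, hP1⟩ with e | e
      · exact ⟨y, e ▸ hxy.symm, fun z => (hall z).imp (fun h => h.trans e.symm) id⟩
      · exact ⟨x, e ▸ hxy, fun z => (hall z).symm.imp (fun h => h.trans e.symm) id⟩
    obtain ⟨k, hkC, hk0⟩ := w.2
    rw [ConjClasses.mem_carrier_iff_mk_eq] at hkC
    refine ⟨k, fun e => hw (Subtype.ext ?_), hk0, fun g hg => ?_⟩
    · show w.1 = ConjClasses.mk 1
      rw [← hkC, e]
    · have hPg : P (ConjClasses.mk g) := ⟨g, ConjClasses.mem_carrier_mk, hg⟩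
      rcases hall' ⟨_, hPg⟩ with e | e
      · left
        have := ConjClasses.mk_eq_mk_iff_isConj.mp (congrArg Subtype.val e)
        exact isConj_one_right.mp this.symm
      · right
        have e' : ConjClasses.mk g = w.1 := congrArg Subtype.val e
        exact ConjClasses.mk_eq_mk_iff_isConj.mp (hkC.trans e'.symm)
  set c : ℕ := (Finset.univ.filter (IsConj k)).card with hc
  -- sums against class functions
  have hsum : ∀ f : G → ℂ, (∀ a b, IsConj a b → f a = f b) →
      ∑ g : G, (χ : G → ℂ) g * f g = (χ : G → ℂ) 1 * f 1 + c * ((χ : G → ℂ) k * f k) := by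
    intro f hf
    rw [← Finset.sum_filter_add_sum_filter_not Finset.univ (IsConj k)]
    have hA : ∑ g ∈ Finset.univ.filter (IsConj k), (χ : G → ℂ) g * f g =
        c * ((χ : G → ℂ) k * f k) := by
      rw [hc, ← nsmul_eq_mul, ← Finset.sum_const]
      refine Finset.sum_congr rfl fun g hg => ?_
      rw [classFun_isConj (hcf χ) (Finset.mem_filter.mp hg).2, hf _ _ (Finset.mem_filter.mp hg).2]
    have hB : ∑ g ∈ Finset.univ.filter (fun g => ¬ IsConj k g), (χ : G → ℂ) g * f g =
        (χ : G → ℂ) 1 * f 1 := by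
      refine Finset.sum_eq_single_of_mem 1 (Finset.mem_filter.mpr ⟨Finset.mem_univ _, fun e => hk1 ?_⟩)
        fun g hg hg1 => ?_
      · exact isConj_one_right.mp e.symm
      · have : (χ : G → ℂ) g = 0 := by
          by_contra h
          rcases hclass g h with e | e
          · exact hg1 e
          · exact (Finset.mem_filter.mp hg).2 e
        rw [this, zero_mul]
    rw [hA, hB, add_comm]
  have hne : (χ : G → ℂ) ≠ fun _ => 1 := by
    intro e
    have hall : ∀ g : G, g ≠ 1 → IsConj k g := fun g hg =>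
      (hclass g (by rw [e]; exact one_ne_zero)).resolve_left hg
    have h2 : Nat.card {x : G // IsConj k x} = Nat.card G - 1 := by
      rw [Nat.card_eq_fintype_card, Fintype.card_subtype, Nat.card_eq_fintype_card,
        ← Finset.card_univ, ← Finset.card_erase_of_mem (Finset.mem_univ (1 : G))]
      congr 1
      ext g
      simp only [Finset.mem_filter, Finset.mem_univ, true_and, Finset.mem_erase, and_true]
      exact ⟨fun h => fun e => hk1 (by subst e; exact isConj_one_right.mp h.symm), hall g⟩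
    rw [card_isConj] at h2
    have hdvd := Subgroup.index_dvd_card (Subgroup.centralizer ({k} : Set G))
    rw [h2] at hdvd
    have h3 : Nat.card G - 1 ∣ 1 := by
      have := Nat.dvd_sub hdvd (dvd_refl (Nat.card G - 1))
      rwa [show Nat.card G - (Nat.card G - 1) = 1 by omega] at this
    have := Nat.le_of_dvd one_pos h3
    omega
  let triv : IrrCharacter G := ⟨fun _ => 1, isIrrCharacter_one⟩
  have hχt : χ ≠ triv := fun e => hne (congrArg Subtype.val e)
  have horth : (χ : G → ℂ) 1 + c * (χ : G → ℂ) k = 0 := by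
    have h := classInner_irr_ne hχt
    rw [classInner] at h
    have h' := (mul_eq_zero.mp h).resolve_left (inv_ne_zero (Nat.cast_ne_zero.mpr Nat.card_pos.ne'))
    rw [show ∑ g : G, (χ : G → ℂ) g * conj ((triv : G → ℂ) g) =
        (χ : G → ℂ) 1 * (1 : ℂ) + c * ((χ : G → ℂ) k * 1) from ?_] at h'
    · simpa using h'
    · rw [← hsum (fun _ => 1) fun _ _ _ => rfl]
      simp [triv]
  have hker : ∀ ψ : IrrCharacter G, ψ ≠ χ → (ψ : G → ℂ) k = (ψ : G → ℂ) 1 := by
    intro ψ hψ
    have h := classInner_irr_ne (Ne.symm hψ)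
    rw [classInner] at h
    have h' := (mul_eq_zero.mp h).resolve_left (inv_ne_zero (Nat.cast_ne_zero.mpr Nat.card_pos.ne'))
    rw [hsum (fun g => conj ((ψ : G → ℂ) g)) fun a b hab => by
      rw [classFun_isConj (hcf ψ) hab]] at h'
    have h2 : (χ : G → ℂ) 1 * (conj ((ψ : G → ℂ) 1) - conj ((ψ : G → ℂ) k)) = 0 := by
      linear_combination h' - conj ((ψ : G → ℂ) k) * horth
    have h3 := sub_eq_zero.mp ((mul_eq_zero.mp h2).resolve_left h1ne)
    exact ((starRingEnd ℂ).injective h3).symm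
  choose K hKn hK using exists_kernel (G := G)
  let N : Subgroup G := ⨅ ψ : {ψ : IrrCharacter G // ψ ≠ χ}, K ψ.1
  have hNn : N.Normal := Subgroup.normal_iInf_normal fun ψ => hKn ψ.1
  have hmem : ∀ g, g ∈ N ↔ ∀ ψ : IrrCharacter G, ψ ≠ χ → (ψ : G → ℂ) g = (ψ : G → ℂ) 1 :=
    fun g => by simp [N, Subgroup.mem_iInf, hK]
  have hkN : k ∈ N := (hmem k).mpr hker
  have hconj : ∀ g ∈ N, g ≠ 1 → IsConj k g := by
    intro g hg hg1
    refine isConj_of_irr_agree fun ψ => ?_
    by_cases hψ : ψ = χ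
    · subst hψ
      have col : ∀ a : G, a ≠ 1 → a ∈ N → (ψ : G → ℂ) a * conj ((ψ : G → ℂ) 1) =
          - ∑ φ ∈ Finset.univ.erase ψ, (φ : G → ℂ) 1 * conj ((φ : G → ℂ) 1) := by
        intro a ha haN
        have h := sum_irr_mul_conj a (1 : G)
        rw [if_neg fun e => ha (isConj_one_left.mp e),
          ← Finset.add_sum_erase _ _ (Finset.mem_univ ψ)] at h
        rw [eq_neg_iff_add_eq_zero]
        rw [Finset.sum_congr rfl fun (φ : IrrCharacter G) hφ => show (φ : G → ℂ) a * conj ((φ : G → ℂ) 1) =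
          (φ : G → ℂ) 1 * conj ((φ : G → ℂ) 1) by
            rw [(hmem a).mp haN φ (Finset.ne_of_mem_erase hφ)]] at h
        exact h
      exact mul_right_cancel₀ (by simp [h1ne]) ((col k hk1 hkN).trans (col g hg1 hg).symm)
    · rw [hker ψ hψ, (hmem g).mp hg ψ hψ]
  have hsupp : ∀ g : G, (χ : G → ℂ) g ≠ 0 ↔ g ∈ N := by
    intro g
    refine ⟨fun h => ?_, fun h => ?_⟩
    · rcases hclass g h with rfl | e
      · exact N.one_mem
      · exact (hmem g).mpr fun ψ hψ => by rw [← classFun_isConj (hcf ψ) e]; exact hker ψ hψ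
    · by_cases hg1 : g = 1
      · subst hg1; exact h1ne
      · rw [← classFun_isConj (hcf χ) (hconj g h hg1)]; exact hk0
  refine ⟨N, hNn, fun e => hk1 ?_, hsupp, fun x hx y hy hx1 hy1 =>
    (hconj x hx hx1).symm.trans (hconj y hy hy1), fun ψ hψ n hn => (hmem n).mp hn ψ hψ, ?_⟩
  · exact Subgroup.mem_bot.mp (e ▸ hkN)
  · intro n hn hn1
    have hcN : c + 1 = Nat.card N := by
      rw [hc, Nat.card_eq_fintype_card, ← Finset.card_insert_of_notMem (a := (1 : G))
        (by simp only [Finset.mem_filter, Finset.mem_univ, true_and]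
            exact fun e => hk1 (isConj_one_right.mp e.symm))]
      rw [Fintype.card_subtype]
      congr 1
      ext g
      simp only [Finset.mem_insert, Finset.mem_filter, Finset.mem_univ, true_and]
      refine ⟨?_, fun h => or_iff_not_imp_left.mpr (hconj g h)⟩
      rintro (rfl | e)
      · exact N.one_mem
      · exact (hsupp g).mp (by rw [← classFun_isConj (hcf χ) e]; exact hk0)
    rw [← classFun_isConj (hcf χ) (hconj n hn hn1), ← hcN]
    push_cast
    linear_combination horth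

/-- The support is the unique minimal normal subgroup. -/
theorem le_of_normal (χ : IrrCharacter G) {N : Subgroup G} [N.Normal]
    (hN : ∀ g : G, (χ : G → ℂ) g ≠ 0 ↔ g ∈ N)
    (htr : ∀ x ∈ N, ∀ y ∈ N, x ≠ 1 → y ≠ 1 → IsConj x y)
    {K : Subgroup G} [hK : K.Normal] (hK1 : K ≠ ⊥) : N ≤ K := by
  classical
  have := Fintype.ofFinite K
  by_contra hle
  have hdisj : ∀ a ∈ K, a ∈ N → a = 1 := by
    intro a haK haN
    by_contra ha
    refine hle fun x hx => ?_
    by_cases hx1 : x = 1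
    · exact hx1 ▸ K.one_mem
    · obtain ⟨g, rfl⟩ := isConj_iff.mp (htr a haN x hx ha hx1)
      exact hK.conj_mem a haK g
  have hzero : ∀ a : K, a ≠ 1 → (χ : G → ℂ) a = 0 := fun a ha => by
    by_contra h
    exact ha (Subtype.ext (hdisj a a.2 ((hN a).mp h)))
  have hsum : ∑ a : K, (χ : G → ℂ) a = (χ : G → ℂ) 1 :=
    Fintype.sum_eq_single (1 : K) hzero
  obtain ⟨a, ha⟩ : ∃ a : K, a ≠ 1 := by
    obtain ⟨a, ha, ha1⟩ := K.bot_or_exists_ne_one.resolve_left hK1
    exact ⟨⟨a, ha⟩, fun e => ha1 (congrArg Subtype.val e)⟩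
  have hk : ∃ k ∈ K, (χ : G → ℂ) k ≠ (χ : G → ℂ) 1 :=
    ⟨a, a.2, by rw [hzero a ha]; exact (irr_one_ne_zero χ).symm⟩
  exact irr_one_ne_zero χ (hsum.symm.trans (sum_subgroup_eq_zero K χ hk))

/-- Faithfulness. -/
theorem faithful (χ : IrrCharacter G) {N : Subgroup G}
    (hN : ∀ g : G, (χ : G → ℂ) g ≠ 0 ↔ g ∈ N)
    (hval : ∀ n ∈ N, n ≠ 1 → (χ : G → ℂ) 1 + ((Nat.card N : ℂ) - 1) * (χ : G → ℂ) n = 0)
    {g : G} (hg : (χ : G → ℂ) g = (χ : G → ℂ) 1) : g = 1 := by
  by_contra h1
  have hgN : g ∈ N := (hN g).mp (by rw [hg]; exact irr_one_ne_zero χ)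
  have h := hval g hgN h1
  rw [hg, show (χ : G → ℂ) 1 + ((Nat.card N : ℂ) - 1) * (χ : G → ℂ) 1 =
    (Nat.card N : ℂ) * (χ : G → ℂ) 1 by ring] at h
  exact irr_one_ne_zero χ ((mul_eq_zero.mp h).resolve_left (Nat.cast_ne_zero.mpr Nat.card_pos.ne'))

/-- A subgroup whose nontrivial elements are conjugate in the group is elementary abelian. -/
theorem elementaryAbelian {N : Subgroup G} [N.Normal] (hN1 : N ≠ ⊥)
    (htr : ∀ x ∈ N, ∀ y ∈ N, x ≠ 1 → y ≠ 1 → IsConj x y) :
    ∃ p : ℕ, p.Prime ∧ IsPGroup p N ∧ IsElementaryAbelian p N := by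
  have hne : Nat.card N ≠ 1 := fun h => hN1 (Subgroup.card_eq_one.mp h)
  obtain ⟨p, hp, hpN⟩ := Nat.exists_prime_and_dvd hne
  haveI := Fact.mk hp
  obtain ⟨a, ha⟩ := exists_prime_orderOf_dvd_card' p hpN
  have ha1 : (a : G) ≠ 1 := fun e => by
    rw [← Subgroup.orderOf_coe a, e, orderOf_one] at ha
    exact hp.ne_one ha.symm
  have hexp : ∀ x ∈ N, x ^ p = 1 := by
    intro x hx
    by_cases hx1 : x = 1
    · rw [hx1, one_pow]
    · obtain ⟨g, rfl⟩ := isConj_iff.mp (htr a a.2 x hx ha1 hx1)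
      rw [conj_pow, show (a : G) ^ p = 1 by rw [← ha, ← Subgroup.orderOf_coe, pow_orderOf_eq_one], mul_one,
        mul_inv_cancel]
  have hpg : IsPGroup p N := fun x => ⟨1, Subtype.ext (by simpa using hexp x x.2)⟩
  refine ⟨p, hp, hpg, ⟨⟨fun x y => ?_⟩⟩, hexp⟩
  haveI : Nontrivial N := (Subgroup.nontrivial_iff_ne_bot N).mpr hN1
  haveI := hpg.center_nontrivial
  obtain ⟨z, hz⟩ := exists_ne (1 : Subgroup.center N)
  by_cases hx1 : (x : G) = 1
  · have : x = 1 := Subtype.ext hx1
    rw [this, one_mul, mul_one]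
  have hz1 : ((z : N) : G) ≠ 1 := fun e => hz (Subtype.ext (Subtype.ext e))
  obtain ⟨g, hg⟩ := isConj_iff.mp (htr _ (z : N).2 _ x.2 hz1 hx1)
  have hy : g⁻¹ * (y : G) * g ∈ N := by
    simpa using ‹N.Normal›.conj_mem _ y.2 g⁻¹
  have hc := congrArg Subtype.val (Subgroup.mem_center_iff.mp z.2 ⟨_, hy⟩)
  simp only [Subgroup.coe_mul] at hc
  refine Subtype.ext ?_
  simp only [Subgroup.coe_mul]
  rw [← hg]
  calc g * ((z : N) : G) * g⁻¹ * y = g * (((z : N) : G) * (g⁻¹ * y * g)) * g⁻¹ := by group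
    _ = g * ((g⁻¹ * y * g) * ((z : N) : G)) * g⁻¹ := by rw [hc]
    _ = y * (g * ((z : N) : G) * g⁻¹) := by group

/-- An integral rational number is an integer. -/
theorem exists_int_of_rat {r : ℂ} (hr : IsIntegral ℤ r) {a : ℤ} {b : ℕ} (hb : b ≠ 0)
    (h : r * (b : ℂ) = (a : ℂ)) : ∃ z : ℤ, r = (z : ℂ) := by
  have e : r = algebraMap ℚ ℂ ((a : ℚ) / b) := by
    rw [eq_div_iff_mul_eq (Nat.cast_ne_zero.mpr hb) |>.mpr h]
    simp
  rw [e, isIntegral_algebraMap_iff (algebraMap ℚ ℂ).injective] at hr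
  obtain ⟨z, hz⟩ := IsIntegrallyClosed.isIntegral_iff.mp hr
  exact ⟨z, by rw [e, ← hz]; simp⟩

/-- The centralizer of a nontrivial element of the support is a `p`-group of index `|N| - 1`. -/
theorem centralizer_data (hG : 2 < Nat.card G) (χ : IrrCharacter G)
    (hχ : Nat.card {C : ConjClasses G // ∃ g ∈ C.carrier, (χ : G → ℂ) g ≠ 0} = 2) {p : ℕ}
    [Fact p.Prime] {N : Subgroup G} [N.Normal] (hN : ∀ g : G, g ∈ N ↔ (χ : G → ℂ) g ≠ 0)
    (hNp : IsPGroup p N) {x : G} (hx : x ∈ N) (hx1 : x ≠ 1) :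
    IsPGroup p (Subgroup.centralizer ({x} : Set G)) ∧
      (Subgroup.centralizer ({x} : Set G)).index = Nat.card N - 1 ∧
      ¬ p ∣ Nat.card N - 1 := by
  classical
  obtain ⟨N', hN'n, hN'1, hN', htr, -, hval⟩ := exists_support hG χ hχ
  obtain rfl : N' = N := by ext g; rw [← hN', hN]
  have := Fintype.ofFinite G
  set C := Subgroup.centralizer ({x} : Set G) with hCdef
  have hcl : ∀ g : G, IsConj x g ↔ g ∈ N' ∧ g ≠ 1 := fun g => by
    refine ⟨fun h => ?_, fun h => htr x hx g h.1 hx1 h.2⟩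
    obtain ⟨c, rfl⟩ := isConj_iff.mp h
    exact ⟨hN'n.conj_mem x hx c, fun e => hx1 (conj_eq_one_iff.mp e)⟩
  have hc : C.index = Nat.card N' - 1 := by
    rw [hCdef, ← card_isConj, Nat.card_congr (Equiv.subtypeEquivRight hcl), Nat.card_eq_fintype_card,
      Fintype.card_subtype, Nat.card_eq_fintype_card (α := N'), Fintype.card_subtype,
      ← Finset.card_erase_of_mem (a := (1 : G)) (by simp)]
    congr 1
    ext g
    simp [and_comm]
  haveI : Nontrivial N' := (Subgroup.nontrivial_iff_ne_bot N').mpr hN'1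
  obtain ⟨n, hn0, hn⟩ := hNp.nontrivial_iff_card.mp this
  have hp := (Fact.out : p.Prime)
  have hcp : ¬ p ∣ Nat.card N' - 1 := by
    intro hd
    have h1 : p ∣ Nat.card N' := by rw [hn]; exact dvd_pow_self p hn0.ne'
    have h2 := Nat.dvd_sub h1 hd
    rw [show Nat.card N' - (Nat.card N' - 1) = 1 by have := Nat.card_pos (α := N'); omega] at h2
    exact hp.not_dvd_one h2
  refine ⟨?_, hc, hcp⟩
  -- the value at `x`
  set c := C.index with hcdef
  have hval' : (χ : G → ℂ) 1 + (c : ℂ) * (χ : G → ℂ) x = 0 := by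
    have := hval x hx hx1
    rwa [hc, Nat.cast_sub Nat.card_pos, Nat.cast_one]
  obtain ⟨d, -, hd⟩ := isIrrCharacter_degree χ.2
  have hc0 : c ≠ 0 := Subgroup.index_ne_zero_of_finite
  obtain ⟨z, hz⟩ := exists_int_of_rat (a := -(d : ℤ)) (isCharacter_isIntegral (isCharacter_irr χ) x)
    hc0 (by push_cast; rw [← hd]; linear_combination hval')
  have horder : (Nat.card C : ℤ) = (Nat.card N' : ℤ) * z ^ 2 := by
    have hs : ∑ g : G, (χ : G → ℂ) g * conj ((χ : G → ℂ) g) = (Nat.card G : ℂ) := by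
      have h := classInner_irr_self χ
      rw [classInner] at h
      field_simp at h
      exact h
    have hsplit : ∑ g : G, (χ : G → ℂ) g * conj ((χ : G → ℂ) g) =
        ((d : ℂ) * d) + (c : ℂ) * ((z : ℂ) * z) := by
      rw [← Finset.sum_filter_add_sum_filter_not Finset.univ (IsConj x), add_comm]
      congr 1
      · rw [Finset.sum_eq_single_of_mem (1 : G)
          (Finset.mem_filter.mpr ⟨Finset.mem_univ _, fun e => hx1 (isConj_one_left.mp e)⟩)
          fun g hg hg1 => ?_]
        · rw [hd, Complex.conj_natCast]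
        · have : (χ : G → ℂ) g = 0 := by
            by_contra h
            exact (Finset.mem_filter.mp hg).2 (htr x hx g ((hN g).mpr h) hx1 hg1)
          rw [this, zero_mul]
      · have hcard : ((Finset.univ.filter (IsConj x)).card : ℂ) = c := by
          rw [hcdef, hCdef, ← card_isConj, Nat.card_eq_fintype_card, Fintype.card_subtype]
        rw [← hcard, ← nsmul_eq_mul, ← Finset.sum_const]
        refine Finset.sum_congr rfl fun g hg => ?_
        rw [← classFun_isConj (isClassFunction_irr χ) (Finset.mem_filter.mp hg).2, hz,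
          map_intCast]
    rw [hsplit] at hs
    have hGC : Nat.card C * c = Nat.card G := C.card_mul_index
    have hdz : (d : ℂ) = -((c : ℂ) * z) := by rw [← hd, ← hz]; linear_combination hval'
    have hN'c : (Nat.card N' : ℂ) = c + 1 := by
      rw [hc, Nat.cast_sub Nat.card_pos]; ring
    have : (c : ℂ) * ((Nat.card N' : ℂ) * (z : ℂ) ^ 2) = (c : ℂ) * (Nat.card C : ℂ) := by
      rw [← hGC, Nat.cast_mul] at hs
      rw [hdz] at hs
      rw [hN'c]
      linear_combination hs
    have h2 := mul_left_cancel₀ (Nat.cast_ne_zero.mpr hc0) this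
    exact_mod_cast h2.symm
  set m := z.natAbs with hm
  have hord : Nat.card C = Nat.card N' * m ^ 2 := by
    have : (Nat.card C : ℤ) = ((Nat.card N' * m ^ 2 : ℕ) : ℤ) := by
      push_cast
      rw [horder, hm, Int.natCast_natAbs, sq_abs]
    exact_mod_cast this
  have hm0 : m ≠ 0 := by
    intro h
    rw [h] at hord
    simp at hord
  refine IsPGroup.iff_card.mpr ?_
  suffices hmp : ∀ q : ℕ, q.Prime → q ∣ m → q = p by
    obtain ⟨s, hs⟩ : ∃ s, m = p ^ s :=
      ⟨_, Nat.eq_prime_pow_of_unique_prime_dvd hm0 (fun hq hqd => hmp _ hq hqd)⟩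
    exact ⟨n + s * 2, by rw [hord, hn, hs, ← pow_mul, pow_add]⟩
  intro q hq hqm
  by_contra hqp
  haveI := Fact.mk hq
  obtain ⟨Q⟩ : Nonempty (Sylow q C) := inferInstance
  let Q' : Subgroup G := (Q : Subgroup C).map C.subtype
  have := Fintype.ofFinite Q'
  have hQC : ∀ u ∈ Q', Commute x u := by
    rintro _ ⟨u, -, rfl⟩
    exact (Subgroup.mem_centralizer_singleton_iff.mp u.2).symm
  have hQcard : Nat.card Q' = q ^ (2 * m.factorization q) := by
    rw [Subgroup.card_map_of_injective C.subtype_injective, Sylow.card_eq_multiplicity, hord,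
      Nat.factorization_mul Nat.card_pos.ne' (pow_ne_zero 2 hm0), Finsupp.add_apply,
      Nat.factorization_pow, hn, Nat.factorization_pow, hp.factorization]
    simp [hqp]
  have hint := CfsgLib.Block.isIntegral_avg_coset (isCharacter_irr χ) x Q' hQC
  have hsum : ∑ u : Q', (χ : G → ℂ) (x * u) = (χ : G → ℂ) x := by
    rw [Finset.sum_eq_single_of_mem (1 : Q') (Finset.mem_univ _) fun u _ hu => ?_]
    · simp
    by_contra h
    have hxu := (hN _).mpr h
    have huN : (u : G) ∈ N' := by simpa using N'.mul_mem (N'.inv_mem hx) hxu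
    obtain ⟨a, ha⟩ : ∃ a, orderOf (⟨(u : G), huN⟩ : N') = p ^ a := (IsPGroup.iff_orderOf.mp hNp) _
    obtain ⟨b, hb⟩ : ∃ b, orderOf u = q ^ b :=
      (IsPGroup.iff_orderOf.mp (Q.isPGroup'.map C.subtype)) u
    rw [← Subgroup.orderOf_coe] at ha hb
    have : orderOf (u : G) = 1 :=
      Nat.eq_one_of_dvd_coprimes (Nat.coprime_primes hp hq |>.mpr (Ne.symm hqp) |>.pow a b)
        (dvd_of_eq ha) (dvd_of_eq hb)
    exact hu (Subtype.ext (orderOf_eq_one_iff.mp this))
  rw [hsum, hz, hQcard] at hint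
  obtain ⟨w, hw⟩ := exists_int_of_rat (a := z) hint (pow_ne_zero (2 * m.factorization q) hq.ne_zero)
    (by field_simp)
  have hdvd : q ^ (2 * m.factorization q) ∣ m := by
    rw [hm, ← Int.natCast_dvd]
    refine ⟨w, ?_⟩
    have : (z : ℂ) = ((q ^ (2 * m.factorization q) : ℕ) : ℂ) * (w : ℂ) := by
      rw [← hw]
      field_simp
    exact_mod_cast this
  have h1 := (hq.pow_dvd_iff_le_factorization hm0).mp hdvd
  have h2 := hq.factorization_pos_of_dvd hm0 hqm
  omega

/-- The conjugate of a character of a normal subgroup. -/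
noncomputable def twist {N : Subgroup G} [N.Normal] (g : G) (μ : IrrCharacter N) : IrrCharacter N :=
  ⟨fun n => (μ : N → ℂ) ((MulAut.conjNormal g⁻¹ : MulAut N) n),
    isIrrCharacter_comp_surjective μ.2 (MulAut.conjNormal g⁻¹ : MulAut N).toMonoidHom
      (MulAut.conjNormal g⁻¹ : MulAut N).surjective⟩

/-- If the nontrivial elements of an abelian normal subgroup are conjugate, so are its nontrivial
characters; so the stabilizer of one of them has index `|N| - 1`. -/
theorem exists_inertia {N : Subgroup G} [N.Normal]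
    (hab : ∀ a b : N, a * b = b * a) (htr : ∀ x ∈ N, ∀ y ∈ N, x ≠ 1 → y ≠ 1 → IsConj x y)
    (μ : IrrCharacter N) (hμ : (μ : N → ℂ) ≠ fun _ => 1) :
    ∃ I : Subgroup G, (∀ g : G, g ∈ I ↔
        ∀ n n' : N, (n' : G) = g * n * g⁻¹ → (μ : N → ℂ) n' = (μ : N → ℂ) n) ∧
      I.index = Nat.card N - 1 := by
  classical
  have := Fintype.ofFinite G
  have := Fintype.ofFinite (IrrCharacter N)
  letI : MulAction G (IrrCharacter N) :=
    { smul := fun g ν => twist g ν
      one_smul := fun ν => Subtype.ext (funext fun n => by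
        show (ν : N → ℂ) _ = _
        refine congrArg (ν : N → ℂ) (Subtype.ext ?_)
        simp)
      mul_smul := fun g h ν => Subtype.ext (funext fun n => by
        show (ν : N → ℂ) _ = (ν : N → ℂ) _
        refine congrArg (ν : N → ℂ) (Subtype.ext ?_)
        simp [mul_assoc]) }
  refine ⟨MulAction.stabilizer G μ, fun g => ?_, ?_⟩
  · rw [MulAction.mem_stabilizer_iff]
    constructor
    · intro h n n' hn'
      have h' := congrFun (congrArg Subtype.val h) n'
      rw [← h']
      show (μ : N → ℂ) _ = _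
      refine congrArg (μ : N → ℂ) (Subtype.ext ?_)
      simp [hn', mul_assoc]
    · intro h
      refine Subtype.ext (funext fun n => ?_)
      exact (h _ n (by simp [mul_assoc])).symm
  rw [MulAction.index_stabilizer]
  let triv : IrrCharacter N := ⟨fun _ => 1, isIrrCharacter_one⟩
  suffices h : MulAction.orbit G μ = {triv}ᶜ by
    rw [h, Set.ncard_compl, Set.ncard_singleton, card_irr_eq_card_conjClasses]
    congr 1
    refine (Nat.card_congr (Equiv.ofBijective ConjClasses.mk ⟨fun a b e => ?_,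
      ConjClasses.mk_surjective⟩)).symm
    obtain ⟨c, rfl⟩ := isConj_iff.mp (ConjClasses.mk_eq_mk_iff_isConj.mp e)
    rw [hab c a, mul_inv_cancel_right]
  set S : Finset (IrrCharacter N) := Finset.univ.filter (· ∈ MulAction.orbit G μ) with hS
  let f : N → ℂ := fun n => ∑ ν ∈ S, (ν : N → ℂ) n
  have hinv : ∀ (g : G) (n : N), f ((MulAut.conjNormal g⁻¹ : MulAut N) n) = f n := by
    intro g n
    refine Finset.sum_bij' (fun ν _ => g • ν) (fun ν _ => g⁻¹ • ν) (fun ν hν => ?_) (fun ν hν => ?_)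
      (fun ν _ => inv_smul_smul g ν) (fun ν _ => smul_inv_smul g ν) (fun ν _ => rfl)
    · rw [hS, Finset.mem_filter] at hν ⊢
      exact ⟨Finset.mem_univ _, MulAction.mem_orbit_of_mem_orbit g hν.2⟩
    · rw [hS, Finset.mem_filter] at hν ⊢
      exact ⟨Finset.mem_univ _, MulAction.mem_orbit_of_mem_orbit g⁻¹ hν.2⟩
  have hconst : ∀ a b : N, a ≠ 1 → b ≠ 1 → f a = f b := by
    intro a b ha hb
    obtain ⟨c, hc⟩ := isConj_iff.mp
      (htr a a.2 b b.2 (fun e => ha (Subtype.ext e)) fun e => hb (Subtype.ext e))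
    rw [← hinv c b]
    congr 1
    exact Subtype.ext (by simp [← hc, mul_assoc])
  obtain ⟨x₀, hx₀⟩ : ∃ x₀ : N, x₀ ≠ 1 := by
    by_contra h
    push Not at h
    refine hμ (funext fun n => ?_)
    rw [h n]
    exact degree_one_of_comm hab μ
  have hinner : ∀ ν : IrrCharacter N, ν ≠ triv →
      classInner f ν = (Nat.card N : ℂ)⁻¹ * (f 1 - f x₀) := by
    intro ν hν
    have hdeg : (ν : N → ℂ) 1 = 1 := degree_one_of_comm hab ν
    have h0 := classInner_irr_ne (Ne.symm hν)
    rw [classInner] at h0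
    have h0' := (mul_eq_zero.mp h0).resolve_left (inv_ne_zero (Nat.cast_ne_zero.mpr Nat.card_pos.ne'))
    simp only [triv, one_mul] at h0'
    rw [classInner]
    congr 1
    have hsum : ∑ n : N, (f n - f x₀) * conj ((ν : N → ℂ) n) = f 1 - f x₀ := by
      rw [Finset.sum_eq_single_of_mem (1 : N) (Finset.mem_univ _) fun n _ hn => by
        rw [hconst n x₀ hn hx₀, sub_self, zero_mul], hdeg, map_one, mul_one]
    simp only [sub_mul, Finset.sum_sub_distrib, ← Finset.mul_sum, h0', mul_zero, sub_zero] at hsum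
    exact hsum
  have hmem : ∀ ν : IrrCharacter N, classInner f ν = if ν ∈ S then 1 else 0 := by
    intro ν
    show classInner (fun n => ∑ ν ∈ S, (ν : N → ℂ) n) ν = _
    rw [show (fun n => ∑ ν ∈ S, (ν : N → ℂ) n) = ∑ ν ∈ S, (ν : N → ℂ) from
      funext fun n => (Finset.sum_apply n S _).symm, classInner_sum_left]
    simp [classInner_irr]
  have hμt : μ ≠ triv := fun e => hμ (congrArg Subtype.val e)
  have hμS : μ ∈ S := Finset.mem_filter.mpr ⟨Finset.mem_univ _, MulAction.mem_orbit_self μ⟩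
  ext ν
  refine ⟨?_, fun hν => ?_⟩
  · rintro ⟨g, rfl⟩ e
    refine hμ (funext fun n => ?_)
    have e' : g • μ = triv := e
    have h2 := congrFun (congrArg Subtype.val e') ((MulAut.conjNormal g : MulAut N) n)
    refine Eq.trans ?_ h2
    show _ = (μ : N → ℂ) _
    refine congrArg (μ : N → ℂ) (Subtype.ext ?_)
    simp [mul_assoc]
  · by_contra h
    have h1 := (hmem ν).symm.trans (hinner ν hν)
    rw [← hinner μ hμt, hmem μ, if_pos hμS,
      if_neg fun hS' => h (Finset.mem_filter.mp hS').2] at h1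
    exact zero_ne_one h1

end CfsgLib.Char.TwoNonzero
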