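import Cfsg.Agent.Lib.Char.Inertia

/-!
# Fully ramified characters
-/

set_option autoImplicit false
set_option linter.unusedSectionVars false

namespace CfsgLib.Char

open scoped ComplexConjugate
open Representation Module Cfsg

universe u

variable {G : Type u} [Group G] [Fintype G] (N : Subgroup G) [hN : N.Normal] [Fintype N]
  {χ : G → ℂ} (hχ : IsIrrCharacter G χ) {ϑ : N → ℂ} (hϑ : IsIrrCharacter N ϑ)
  (hcon : classInner (fun n : N => χ n) ϑ ≠ 0)

include hχ hϑ hcon in
theorem restrict_eq_smul_of_invariant (hinv : ∀ g : G, conjFun N ϑ g = ϑ) :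
    ∃ e : ℕ, e ≠ 0 ∧ classInner (fun n : N => χ n) ϑ = e ∧ (fun n : N => χ n) = (e : ℂ) • ϑ := by
  obtain ⟨e, he⟩ := classInner_isCharacter
    (isCharacter_comp (isCharacter_of_isIrr hχ) N.subtype) (isCharacter_of_isIrr hϑ)
  have he' : classInner (fun n : N => χ n) ϑ = e := he
  refine ⟨e, fun h => hcon (by rw [he', h, Nat.cast_zero]), he', ?_⟩
  have h := clifford N hχ hϑ hcon
  rwa [he', show {ψ : N → ℂ | ∃ g : G, ψ = conjFun N ϑ g} = {ϑ} from Set.ext fun ψ => by
    simp [hinv], finsum_mem_singleton] at h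

include hχ hϑ hcon in
theorem invariant_of_restrict_eq_smul {e : ℕ} (h : (fun n : N => χ n) = (e : ℂ) • ϑ) (g : G) :
    conjFun N ϑ g = ϑ := by
  have he : (e : ℂ) ≠ 0 := fun h0 => hcon (by rw [h, h0, zero_smul, classInner_zero_left])
  funext n
  have h1 := congrFun h n
  have h2 := congrFun h ⟨g * n * g⁻¹, hN.conj_mem (n : G) n.2 g⟩
  simp only [Pi.smul_apply, smul_eq_mul] at h1 h2
  rw [isClassFunction_of_isCharacter (isCharacter_of_isIrr hχ) (n : G) g, h1] at h2
  exact (mul_left_cancel₀ he h2).symm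

include hχ hϑ in
theorem sq_eq_index_iff_vanish {e : ℕ} (h : (fun n : N => χ n) = (e : ℂ) • ϑ) :
    e ^ 2 = N.index ↔ ∀ g : G, g ∉ N → χ g = 0 := by
  classical
  have h1 := classInner_irr_self ⟨χ, hχ⟩
  have h2 := classInner_irr_self ⟨ϑ, hϑ⟩
  rw [classInner_self, Complex.ofReal_eq_one, inv_mul_eq_one₀
    (by exact_mod_cast Nat.card_pos.ne')] at h1 h2
  have h3 : ∑ g ∈ Finset.univ.filter (· ∈ N), ‖χ g‖ ^ 2 = (e : ℝ) ^ 2 * Nat.card N := by
    rw [Finset.sum_subtype (p := fun g => g ∈ N) _ (fun x => by simp) (fun g => ‖χ g‖ ^ 2), h2,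
      Finset.mul_sum]
    refine Fintype.sum_congr _ _ fun n => ?_
    rw [show χ (n : G) = (e : ℂ) * ϑ n from congrFun h n, norm_mul, Complex.norm_natCast, mul_pow]
  have h4 := Finset.sum_filter_add_sum_filter_not Finset.univ (· ∈ N) (fun g => ‖χ g‖ ^ 2)
  rw [h3, ← h1, ← N.card_mul_index, Nat.cast_mul] at h4
  constructor
  · intro he g hg
    have h5 : ∑ x ∈ Finset.univ.filter (fun x => x ∉ N), ‖χ x‖ ^ 2 = 0 := by
      rw [← he, Nat.cast_pow] at h4
      linarith
    exact norm_eq_zero.mp (sq_eq_zero_iff.mp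
      ((Finset.sum_eq_zero_iff_of_nonneg fun _ _ => sq_nonneg _).mp h5 g (by simp [hg])))
  · intro hv
    rw [Finset.sum_eq_zero (s := Finset.univ.filter fun x => x ∉ N) fun g hg => by
      rw [hv g (Finset.mem_filter.mp hg).2, norm_zero, sq, zero_mul], add_zero] at h4
    have h6 : (e : ℝ) ^ 2 = N.index :=
      mul_right_cancel₀ (b := (Nat.card N : ℝ)) (by exact_mod_cast Nat.card_pos.ne')
        (by rw [h4, mul_comm])
    exact_mod_cast h6

include hχ hϑ hcon in
theorem fully_ramified_iff :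
    ((∃ e : ℕ, (fun n : N => χ n) = (e : ℂ) • ϑ ∧ e ^ 2 = N.index) ↔
        ((∀ g : G, g ∉ N → χ g = 0) ∧ ∀ g : G, conjFun N ϑ g = ϑ)) ∧
      ((∃ e : ℕ, (fun n : N => χ n) = (e : ℂ) • ϑ ∧ e ^ 2 = N.index) ↔
        ((∀ g : G, conjFun N ϑ g = ϑ) ∧ ∀ ψ : G → ℂ, IsIrrCharacter G ψ →
          classInner (indFun N ϑ) ψ ≠ 0 → ψ = χ)) := by
  classical
  refine ⟨⟨fun ⟨e, h, he⟩ => ⟨(sq_eq_index_iff_vanish N hχ hϑ h).mp he,
      invariant_of_restrict_eq_smul N hχ hϑ hcon h⟩, fun ⟨hv, hinv⟩ => ?_⟩, ?_⟩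
  · obtain ⟨e, -, -, h⟩ := restrict_eq_smul_of_invariant N hχ hϑ hcon hinv
    exact ⟨e, h, (sq_eq_index_iff_vanish N hχ hϑ h).mpr hv⟩
  have hχc := isClassFunction_of_isCharacter (isCharacter_of_isIrr hχ)
  have hff : ∀ e : ℕ, (∀ g : G, conjFun N ϑ g = ϑ) → classInner (fun n : N => χ n) ϑ = e →
      classInner (indFun N ϑ - (e : ℂ) • χ) (indFun N ϑ - (e : ℂ) • χ) =
        (N.index : ℂ) - (e : ℂ) ^ 2 := by
    intro e hinv he
    have h1 := card_smul_classInner_indFun_self N hϑ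
    rw [show inertia N ϑ = ⊤ from eq_top_iff.mpr fun g _ => hinv g, Subgroup.card_top,
      ← N.card_mul_index, Nat.cast_mul] at h1
    have h1' := mul_left_cancel₀ (by exact_mod_cast Nat.card_pos.ne') h1
    have h2 : classInner (indFun N ϑ) χ = e := by
      rw [classInner_indFun N ϑ χ hχc, ← classInner_conj, he, map_natCast]
    have h3 : classInner χ (indFun N ϑ) = e := by rw [← classInner_conj, h2, map_natCast]
    rw [classInner_sub_left, classInner_sub_right, classInner_sub_right, classInner_smul_left,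
      classInner_smul_right, classInner_smul_left, classInner_smul_right, h1', h2, h3,
      classInner_irr_self ⟨χ, hχ⟩, map_natCast]
    ring
  constructor
  · rintro ⟨e, h, he⟩
    have hinv := invariant_of_restrict_eq_smul N hχ hϑ hcon h
    refine ⟨hinv, fun ψ hψ hne => ?_⟩
    have he' : classInner (fun n : N => χ n) ϑ = e := by
      rw [h, classInner_smul_left, classInner_irr_self ⟨ϑ, hϑ⟩, mul_one]
    have hf : indFun N ϑ - (e : ℂ) • χ = 0 := classInner_self_eq_zero (by
      rw [hff e hinv he', ← he, Nat.cast_pow, sub_self])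
    rw [sub_eq_zero.mp hf, classInner_smul_left] at hne
    have := irr_eq_of_inner_ne_zero (χ := ⟨χ, hχ⟩) (ψ := ⟨ψ, hψ⟩) (right_ne_zero_of_mul hne)
    exact (congrArg Subtype.val this).symm
  · rintro ⟨hinv, huniq⟩
    obtain ⟨e, -, he', h⟩ := restrict_eq_smul_of_invariant N hχ hϑ hcon hinv
    refine ⟨e, h, ?_⟩
    have h2 : classInner (indFun N ϑ) χ = e := by
      rw [classInner_indFun N ϑ χ hχc, ← classInner_conj, he', map_natCast]
    have hf : indFun N ϑ - (e : ℂ) • χ = 0 := by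
      refine sub_eq_zero.mpr (classFun_ext (isClassFunction_indFun N ϑ)
        (fun a b => by simp [hχc a b]) fun ψ => ?_)
      rw [classInner_smul_left]
      by_cases hψ : (⟨χ, hχ⟩ : IrrCharacter G) = ψ
      · subst hψ
        rw [classInner_irr_self ⟨χ, hχ⟩, mul_one]
        exact h2
      · rw [show classInner χ (ψ : G → ℂ) = 0 from classInner_irr_ne hψ, mul_zero]
        by_contra hne
        exact hψ (Subtype.ext (huniq _ ψ.2 hne).symm)
    have h4 := hff e hinv he'
    rw [hf, classInner_zero_left, eq_comm, sub_eq_zero] at h4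
    exact_mod_cast h4.symm

end CfsgLib.Char
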