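import Cfsg.Agent.Lib.Char.Gallagher
import Cfsg.Agent.Lib.Char.Ramified
import Cfsg.Agent.Lib.Char.ExtendCriteria
import Cfsg.Agent.Lib.Char.IndMap

/-!
# The Clifford correspondence and abelian inertia quotients
-/

set_option autoImplicit false
set_option linter.unusedSectionVars false

namespace CfsgLib.Char

open scoped ComplexConjugate
open Representation Module Cfsg

universe u

variable {G : Type u} [Group G] [Fintype G] (N : Subgroup G) [hN : N.Normal] [Fintype N]

/-- The invariant character of `N` seen on `N` inside an overgroup. -/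
noncomputable def subOfFun {T : Subgroup G} (θ : N → ℂ) : N.subgroupOf T → ℂ :=
  fun x => θ ⟨((x : T) : G), Subgroup.mem_subgroupOf.mp x.2⟩

theorem isIrrCharacter_subOfFun {T : Subgroup G} (hNT : N ≤ T) {θ : N → ℂ} (hθ : IsIrrCharacter N θ) :
    IsIrrCharacter (N.subgroupOf T) (subOfFun N (T := T) θ) :=
  isIrrCharacter_comp_surjective hθ (Subgroup.subgroupOfEquivOfLe hNT).toMonoidHom
    (Subgroup.subgroupOfEquivOfLe hNT).surjective

theorem classInner_subOfFun {T : Subgroup G} [Fintype T] [Fintype (N.subgroupOf T)] (hNT : N ≤ T)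
    (ψ : T → ℂ) (θ : N → ℂ) :
    classInner (fun x : N.subgroupOf T => ψ x) (subOfFun N θ) =
      classInner (fun n : N => ψ (Subgroup.inclusion hNT n)) θ :=
  classInner_equiv (Subgroup.subgroupOfEquivOfLe hNT)
    (fun n : N => ψ (Subgroup.inclusion hNT n)) θ

theorem conjFun_subOfFun {θ : N → ℂ} {T : Subgroup G} (hT : T ≤ inertia N θ) (g : T) :
    conjFun (N.subgroupOf T) (subOfFun N θ) g = subOfFun N θ :=
  funext fun x => congrFun ((mem_inertia N θ (g : G)).mp (hT g.2))
    ⟨((x : T) : G), Subgroup.mem_subgroupOf.mp x.2⟩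

/-- Induction from the inertia group is irreducible on characters over `θ`. -/
theorem correspondence_irr {θ : N → ℂ} (hθ : IsIrrCharacter N θ) [Fintype (inertia N θ)]
    (hNT : N ≤ inertia N θ) (ψ : IrrCharacter (inertia N θ))
    (hψ : classInner (fun n : N => (ψ : inertia N θ → ℂ) (Subgroup.inclusion hNT n)) θ ≠ 0) :
    IsIrrCharacter G (indFun (inertia N θ) (ψ : inertia N θ → ℂ)) ∧
      classInner (fun n : N => indFun (inertia N θ) (ψ : inertia N θ → ℂ) n) θ =
        classInner (fun n : N => (ψ : inertia N θ → ℂ) (Subgroup.inclusion hNT n)) θ := by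
  classical
  set F := indFun (inertia N θ) (ψ : inertia N θ → ℂ) with hF
  have hFc : IsCharacter G F := isCharacter_indFun _ (isCharacter_irr ψ)
  have hF0 : F ≠ 0 := fun e => by
    have h := congrFun e 1
    rw [hF, indFun_one, Pi.zero_apply, mul_eq_zero] at h
    rcases h with h | h
    · exact Subgroup.index_ne_zero_of_finite (by exact_mod_cast h)
    · exact irr_one_ne_zero ψ h
  obtain ⟨χ, hχ⟩ := exists_irr_inner_ne_zero hFc hF0
  have hψχ : classInner (fun t : inertia N θ => (χ : G → ℂ) t) (ψ : inertia N θ → ℂ) ≠ 0 := by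
    intro h
    apply hχ
    rw [hF, classInner_indFun _ _ _ (isClassFunction_irr χ), ← classInner_conj, h, map_zero]
  have hs := isCharacter_comp
    (isCharacter_sub_constituent (isCharacter_comp (isCharacter_irr χ) (inertia N θ).subtype) ψ hψχ)
    (Subgroup.inclusion hNT)
  obtain ⟨s, hs⟩ := classInner_isCharacter hs (isCharacter_of_isIrr hθ)
  obtain ⟨f, hf⟩ := classInner_isCharacter
    (isCharacter_comp (isCharacter_irr ψ) (Subgroup.inclusion hNT)) (isCharacter_of_isIrr hθ)
  have hf' : classInner (fun n : N => (ψ : inertia N θ → ℂ) (Subgroup.inclusion hNT n)) θ = f := hf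
  have he : classInner (fun n : N => (χ : G → ℂ) n) θ = ((s + f : ℕ) : ℂ) := by
    have h2 : (fun x : N => ((fun t : inertia N θ => (χ : G → ℂ) t) - (ψ : inertia N θ → ℂ))
        (Subgroup.inclusion hNT x)) = (fun n : N => (χ : G → ℂ) n) -
          (fun n : N => (ψ : inertia N θ → ℂ) (Subgroup.inclusion hNT n)) := rfl
    have h3 : classInner ((fun n : N => (χ : G → ℂ) n) -
          (fun n : N => (ψ : inertia N θ → ℂ) (Subgroup.inclusion hNT n))) θ = (s : ℂ) := h2 ▸ hs
    rw [classInner_sub_left, hf'] at h3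
    push_cast
    linear_combination h3
  have hf0 : f ≠ 0 := fun h => hψ (by rw [hf', h, Nat.cast_zero])
  have hne : classInner (fun n : N => (χ : G → ℂ) n) θ ≠ 0 := by
    rw [he]; exact_mod_cast (by omega : s + f ≠ 0)
  obtain ⟨d, hd0, hd⟩ := isIrrCharacter_degree hθ
  have hχ1 : (χ : G → ℂ) 1 = (((s + f) * (inertia N θ).index * d : ℕ) : ℂ) := by
    rw [clifford_degree N χ.2 hθ hne, he, hd, Nat.cast_mul, Nat.cast_mul]
  have hψ1 : (ψ : inertia N θ → ℂ) 1 = ((f * d : ℕ) : ℂ) := by
    have := Fintype.ofFinite (N.subgroupOf (inertia N θ))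
    obtain ⟨e', -, he', hres⟩ := restrict_eq_smul_of_invariant (N.subgroupOf (inertia N θ)) ψ.2
      (isIrrCharacter_subOfFun N hNT hθ) (by rw [classInner_subOfFun N hNT]; exact hψ)
      (conjFun_subOfFun N le_rfl)
    rw [classInner_subOfFun N hNT, hf', Nat.cast_inj] at he'
    subst he'
    rw [show (ψ : inertia N θ → ℂ) 1 =
        (fun x : N.subgroupOf (inertia N θ) => (ψ : inertia N θ → ℂ) x) 1 from rfl, hres,
      Pi.smul_apply, smul_eq_mul, show subOfFun N θ (T := inertia N θ) 1 = θ 1 from rfl, hd,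
      Nat.cast_mul]
  obtain ⟨hle, heq⟩ := degree_le_of_constituent hFc χ hχ
    (a := (inertia N θ).index * (f * d)) (by rw [hF, indFun_one, hψ1, ← Nat.cast_mul]) hχ1
  have hpos : 0 < (inertia N θ).index := Nat.pos_of_ne_zero Subgroup.index_ne_zero_of_finite
  have hs0 : s = 0 := by
    have h1 : (s + f) * ((inertia N θ).index * d) ≤ f * ((inertia N θ).index * d) :=
      calc (s + f) * ((inertia N θ).index * d) = (s + f) * (inertia N θ).index * d := by ring
        _ ≤ (inertia N θ).index * (f * d) := hle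
        _ = f * ((inertia N θ).index * d) := by ring
    have := Nat.le_of_mul_le_mul_right h1 (Nat.mul_pos hpos hd0)
    omega
  have hFχ : F = (χ : G → ℂ) := heq (by rw [hs0]; ring)
  exact ⟨hFχ ▸ χ.2, by rw [hFχ, he, hs0, zero_add, hf']⟩

/-- Induction from the inertia group is injective on characters over `θ`. -/
theorem correspondence_injective {θ : N → ℂ} (hθ : IsIrrCharacter N θ) [Fintype (inertia N θ)]
    (hNT : N ≤ inertia N θ) (ψ ψ' : IrrCharacter (inertia N θ))
    (hψ : classInner (fun n : N => (ψ : inertia N θ → ℂ) (Subgroup.inclusion hNT n)) θ ≠ 0)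
    (hψ' : classInner (fun n : N => (ψ' : inertia N θ → ℂ) (Subgroup.inclusion hNT n)) θ ≠ 0)
    (h : indFun (inertia N θ) (ψ : inertia N θ → ℂ) =
      indFun (inertia N θ) (ψ' : inertia N θ → ℂ)) : ψ = ψ' := by
  classical
  by_contra hne
  obtain ⟨hirr, he⟩ := correspondence_irr N hθ hNT ψ hψ
  set χ : IrrCharacter G := ⟨_, hirr⟩
  have hres : IsCharacter (inertia N θ) (fun t => (χ : G → ℂ) t) :=
    isCharacter_comp (isCharacter_irr χ) (inertia N θ).subtype
  have hin : ∀ φ : IrrCharacter (inertia N θ), classInner (fun t : inertia N θ => (χ : G → ℂ) t)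
      (φ : inertia N θ → ℂ) = conj (classInner (indFun (inertia N θ) (φ : inertia N θ → ℂ)) (χ : G → ℂ)) :=
    fun φ => by rw [classInner_indFun _ _ _ (isClassFunction_irr χ), classInner_conj]
  have h1 := isCharacter_sub_constituent hres ψ (by
    rw [hin, classInner_irr_self χ, map_one]; exact one_ne_zero)
  have h2 := isCharacter_sub_constituent h1 ψ' (by
    rw [classInner_sub_left, classInner_irr_ne hne, sub_zero, hin, ← h, classInner_irr_self χ, map_one]
    exact one_ne_zero)
  obtain ⟨s, hs⟩ := classInner_isCharacter (isCharacter_comp h2 (Subgroup.inclusion hNT))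
    (isCharacter_of_isIrr hθ)
  obtain ⟨f, hf⟩ := classInner_isCharacter
    (isCharacter_comp (isCharacter_irr ψ') (Subgroup.inclusion hNT)) (isCharacter_of_isIrr hθ)
  have h3 : classInner ((fun n : N => (χ : G → ℂ) n) -
      (fun n : N => (ψ : inertia N θ → ℂ) (Subgroup.inclusion hNT n)) -
        (fun n : N => (ψ' : inertia N θ → ℂ) (Subgroup.inclusion hNT n))) θ = (s : ℂ) := hs
  rw [classInner_sub_left, classInner_sub_left] at h3
  rw [show classInner (fun n : N => (χ : G → ℂ) n) θ =
    classInner (fun n : N => (ψ : inertia N θ → ℂ) (Subgroup.inclusion hNT n)) θ from he] at h3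
  have hf' : classInner (fun n : N => (ψ' : inertia N θ → ℂ) (Subgroup.inclusion hNT n)) θ = f := hf
  rw [hf', sub_self, zero_sub] at h3
  have h4 : ((s + f : ℕ) : ℂ) = 0 := by push_cast; linear_combination -h3
  exact hψ' (by rw [hf', show f = 0 by have := Nat.cast_eq_zero.mp h4; omega, Nat.cast_zero])

/-- The decomposition of an induced invariant character with abelian quotient. -/
theorem invariant_abelian_decomp {θ : N → ℂ} (hθ : IsIrrCharacter N θ)
    (hinv : ∀ g : G, conjFun N θ g = θ) (hab : ∀ x y : G, x * y * x⁻¹ * y⁻¹ ∈ N) :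
    ∃ (e : ℕ) (C : Finset (IrrCharacter G)), 0 < e ∧
      indFun N θ = (e : ℂ) • ∑ ψ ∈ C, (ψ : G → ℂ) ∧ e ^ 2 * C.card = N.index ∧
      (∀ ψ : IrrCharacter G, ψ ∈ C ↔ classInner (fun n : N => (ψ : G → ℂ) n) θ ≠ 0) ∧
      ∀ ψ ∈ C, (ψ : G → ℂ) 1 = (e : ℂ) * θ 1 ∧
        classInner (fun n : N => (ψ : G → ℂ) n) θ = e := by
  classical
  have := Fintype.ofFinite (IrrCharacter G)
  have hIc : IsCharacter G (indFun N θ) := isCharacter_indFun N (isCharacter_of_isIrr hθ)
  obtain ⟨d, hd0, hd⟩ := isIrrCharacter_degree hθ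
  have hI1 : indFun N θ 1 = ((N.index * d : ℕ) : ℂ) := by rw [indFun_one, hd, Nat.cast_mul]
  obtain ⟨ψ0, hψ0⟩ := exists_irr_inner_ne_zero hIc fun h => by
    rw [h, Pi.zero_apply, eq_comm, Nat.cast_eq_zero, mul_eq_zero] at hI1
    rcases hI1 with h | h
    · exact Subgroup.index_ne_zero_of_finite h
    · omega
  have hin : ∀ ψ : IrrCharacter G, classInner (indFun N θ) (ψ : G → ℂ) =
      conj (classInner (fun n : N => (ψ : G → ℂ) n) θ) := fun ψ => by
    rw [classInner_indFun N θ _ (isClassFunction_irr ψ), classInner_conj]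
  have hψ0' : classInner (fun n : N => (ψ0 : G → ℂ) n) θ ≠ 0 := fun h => hψ0 (by
    rw [hin, h, map_zero])
  obtain ⟨e, he0, he, hres0⟩ := restrict_eq_smul_of_invariant N ψ0.2 hθ hψ0' hinv
  have hall : ∀ ψ : IrrCharacter G, classInner (fun n : N => (ψ : G → ℂ) n) θ ≠ 0 →
      (ψ : G → ℂ) 1 = (e : ℂ) * θ 1 ∧ classInner (fun n : N => (ψ : G → ℂ) n) θ = e := by
    intro ψ hψ
    obtain ⟨e', he'0, he', hres⟩ := restrict_eq_smul_of_invariant N ψ.2 hθ hψ hinv
    set η := cosetAvg N (fun x => (ψ : G → ℂ) x * conj ((ψ0 : G → ℂ) x)) with hη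
    have hηc : IsCharacter G η := isCharacter_cosetAvg N
      (isCharacter_mul (isCharacter_irr ψ) (isCharacter_conj (isCharacter_irr ψ0)))
    have hη1 : η 1 = (e' : ℂ) * e := by
      rw [hη, cosetAvg_one_eq, hres, hres0, classInner_smul_left, classInner_smul_right,
        classInner_irr_self ⟨θ, hθ⟩, map_natCast, mul_one]
    obtain ⟨β, hβ⟩ := exists_irr_inner_ne_zero hηc fun h => by
      rw [h, Pi.zero_apply, eq_comm, mul_eq_zero, Nat.cast_eq_zero, Nat.cast_eq_zero] at hη1
      rcases hη1 with h | h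
      · exact he'0 h
      · exact he0 h
    have hβc : cosetAvg N (β : G → ℂ) = (β : G → ℂ) :=
      (cosetAvg_irr N β).resolve_right fun h => hβ (by
        rw [hη, classInner_cosetAvg, h, classInner_zero_right])
    have hβ1 : (β : G → ℂ) 1 = 1 := by
      obtain ⟨β, m, ρ, hρ, rfl⟩ := β
      show ρ.character 1 = 1
      have hker : ∀ n : N, ρ n = LinearMap.id := fun n => (char_eq_degree_iff ρ _).mp (by
        have h1 : ρ.character ((n : G) * 1) = ρ.character 1 := by
          have hn := congrFun hβc ((n : G) * 1)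
          rw [cosetAvg_mul_left, congrFun hβc 1] at hn
          exact hn.symm
        rwa [mul_one, Representation.char_one] at h1)
      rw [Representation.char_one, finrank_eq_one_of_comm ρ fun a b => ?_, Nat.cast_one]
      calc ρ a * ρ b = ρ ((⟨_, hab a b⟩ : N) * (b * a)) := by
            rw [← map_mul]; congr 1; group
        _ = ρ b * ρ a := by rw [map_mul, hker, map_mul]; rfl
    obtain ⟨f, hf⟩ := exists_hom_of_linear (isCharacter_irr β) hβ1
    have hnorm : classInner ((ψ0 : G → ℂ) * (β : G → ℂ)) ((ψ0 : G → ℂ) * (β : G → ℂ)) = 1 := by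
      rw [classInner, ← classInner_irr_self ψ0, classInner]
      congr 1
      refine Finset.sum_congr rfl fun g _ => ?_
      have h1 : (f g : ℂ) * conj (f g : ℂ) = 1 := by
        rw [Complex.mul_conj', Complex.norm_eq_one_of_pow_eq_one (n := Nat.card G) ?_
          Nat.card_pos.ne']
        · simp
        · rw [← Units.val_pow_eq_pow_val, ← map_pow, pow_card_eq_one', map_one, Units.val_one]
      simp only [hf, Pi.mul_apply, map_mul]
      linear_combination ((ψ0 : G → ℂ) g * conj ((ψ0 : G → ℂ) g)) * h1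
    have hirr : IsIrrCharacter G ((ψ0 : G → ℂ) * (β : G → ℂ)) :=
      isIrr_of_isCharacter_norm_one (isCharacter_mul (isCharacter_irr ψ0) (isCharacter_irr β)) hnorm
    have hinner : classInner (ψ : G → ℂ) ((ψ0 : G → ℂ) * (β : G → ℂ)) =
        classInner η (β : G → ℂ) := by
      rw [hη, classInner_cosetAvg, hβc]
      simp only [classInner, Pi.mul_apply, map_mul]
      congr 1
      exact Finset.sum_congr rfl fun g _ => by ring
    have heq : ψ = ⟨_, hirr⟩ := irr_eq_of_inner_ne_zero
      (show classInner (ψ : G → ℂ) ((ψ0 : G → ℂ) * (β : G → ℂ)) ≠ 0 by rw [hinner]; exact hβ)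
    have h01 : (ψ0 : G → ℂ) 1 = (e : ℂ) * θ 1 := congrFun hres0 1
    have h1' : (ψ : G → ℂ) 1 = (e : ℂ) * θ 1 := by
      rw [congrArg Subtype.val heq]
      show (ψ0 : G → ℂ) 1 * (β : G → ℂ) 1 = _
      rw [hβ1, mul_one, h01]
    refine ⟨h1', ?_⟩
    rw [he']
    have h' : (ψ : G → ℂ) 1 = (e' : ℂ) * θ 1 := congrFun hres 1
    exact mul_right_cancel₀ (b := θ 1) (by rw [hd]; exact_mod_cast hd0.ne') (h'.symm.trans h1')
  refine ⟨e, Finset.univ.filter fun ψ => classInner (fun n : N => (ψ : G → ℂ) n) θ ≠ 0,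
    Nat.pos_of_ne_zero he0, ?_, ?_, fun ψ => by simp, fun ψ hψ => hall ψ (Finset.mem_filter.mp hψ).2⟩
  all_goals
    have hexp : indFun N θ = (e : ℂ) • ∑ ψ ∈ Finset.univ.filter
        (fun ψ : IrrCharacter G => classInner (fun n : N => (ψ : G → ℂ) n) θ ≠ 0), (ψ : G → ℂ) := by
      conv_lhs => rw [classFun_expand (isClassFunction_indFun N θ)]
      rw [Finset.smul_sum, Finset.sum_filter]
      refine Finset.sum_congr rfl fun ψ _ => ?_
      split_ifs with h
      · rw [hin, (hall ψ h).2, map_natCast]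
      · rw [hin, not_not.mp h, map_zero, zero_smul]
  · exact hexp
  · have h := congrFun hexp 1
    rw [Pi.smul_apply, Finset.sum_apply, Finset.sum_congr rfl fun ψ hψ =>
      (hall ψ (Finset.mem_filter.mp hψ).2).1, Finset.sum_const, nsmul_eq_mul, smul_eq_mul, hI1, hd] at h
    set k := (Finset.univ.filter fun ψ : IrrCharacter G =>
      classInner (fun n : N => (ψ : G → ℂ) n) θ ≠ 0).card
    have h' : N.index * d = e * (k * (e * d)) := by exact_mod_cast h
    refine Nat.eq_of_mul_eq_mul_right hd0 ?_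
    rw [h']
    ring

end CfsgLib.Char
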