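import Cfsg.Agent.Lib.Char.FrobeniusSchur

/-!
# Square roots and the Frobenius–Schur indicator

`sqInd χ` is the indicator; `card_square_roots` counts square roots; `swap_invariant` gives the
symmetry type of an invariant form.
-/

set_option autoImplicit false
set_option linter.unusedSectionVars false

namespace CfsgLib.Char

open scoped ComplexConjugate Matrix
open Representation Module Cfsg

universe u

variable {G : Type u} [Group G] [Fintype G]

/-- The indicator of a function on a group. -/
noncomputable def sqInd (χ : G → ℂ) : ℂ := (Nat.card G : ℂ)⁻¹ * ∑ s : G, χ (s * s)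

theorem sqInd_cases (χ : IrrCharacter G) :
    (sqInd (χ : G → ℂ) = 0 ∨ sqInd (χ : G → ℂ) = 1 ∨ sqInd (χ : G → ℂ) = -1) ∧
      (sqInd (χ : G → ℂ) = 0 ↔ ∃ s : G, ((χ : G → ℂ) s).im ≠ 0) := by
  obtain ⟨χ, n, ρ, hρ, rfl⟩ := χ
  have := hρ
  exact fs_indicator_cases ρ

theorem conj_sqInd (χ : IrrCharacter G) : conj (sqInd (χ : G → ℂ)) = sqInd (χ : G → ℂ) := by
  rcases (sqInd_cases χ).1 with h | h | h <;> rw [h] <;> simp

theorem sqInd_one : sqInd (fun _ : G => (1 : ℂ)) = 1 := by
  rw [sqInd, Finset.sum_const, Finset.card_univ, ← Nat.card_eq_fintype_card, nsmul_eq_mul, mul_one,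
    inv_mul_cancel₀ card_ne_zero']

theorem real_of_sqInd_ne_zero (χ : IrrCharacter G) (h : sqInd (χ : G → ℂ) ≠ 0) (g : G) :
    ((χ : G → ℂ) g).im = 0 := by
  by_contra hg
  exact h ((sqInd_cases χ).2.mpr ⟨g, hg⟩)

/-- The number of square roots of an element. -/
theorem card_square_roots [Fintype (IrrCharacter G)] (g : G) :
    (Nat.card {s : G // s * s = g} : ℂ) =
      ∑ χ : IrrCharacter G, sqInd (χ : G → ℂ) * (χ : G → ℂ) g := by
  classical
  let θ : G → ℂ := fun x => (Nat.card {s : G // s * s = x} : ℂ)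
  have hθ : IsClassFunction G θ := fun x y => by
    show (Nat.card {s : G // s * s = y * x * y⁻¹} : ℂ) = (Nat.card {s : G // s * s = x} : ℂ)
    refine congrArg (Nat.cast : ℕ → ℂ) (Nat.card_congr
      ((MulAut.conj y⁻¹).toEquiv.subtypeEquiv fun s => ?_))
    show s * s = y * x * y⁻¹ ↔ MulAut.conj y⁻¹ s * MulAut.conj y⁻¹ s = x
    rw [← map_mul]
    simp only [MulAut.conj_apply, inv_inv]
    constructor
    · intro e; rw [e]; group
    · intro e; rw [← e]; group
  have hc : ∀ χ : IrrCharacter G, classInner θ χ = sqInd (χ : G → ℂ) := by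
    intro χ
    have e : ∑ x : G, θ x * conj ((χ : G → ℂ) x) = conj (∑ s : G, (χ : G → ℂ) (s * s)) := by
      rw [map_sum]
      conv_rhs => rw [← Finset.sum_fiberwise Finset.univ (fun s : G => s * s)]
      refine Finset.sum_congr rfl fun x _ => ?_
      rw [Finset.sum_congr rfl (g := fun _ => conj ((χ : G → ℂ) x))
        fun s hs => by rw [show s * s = x from (Finset.mem_filter.mp hs).2],
        Finset.sum_const, nsmul_eq_mul]
      show (Nat.card {s : G // s * s = x} : ℂ) * _ = _
      rw [Nat.card_eq_fintype_card, Fintype.card_subtype]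
    rw [classInner, e, ← conj_sqInd χ, sqInd, map_mul, map_inv₀, Complex.conj_natCast]
  have h := congrFun (classFun_expand hθ) g
  simp only [Finset.sum_apply, Pi.smul_apply, smul_eq_mul, hc] at h
  exact h

/-- An invariant form of a representation with real character of norm one is symmetric or
alternating according to the indicator. -/
theorem swap_invariant {m : ℕ} (ρ : Representation ℂ G (Fin m → ℂ))
    (hnorm : classInner ρ.character (fun g => conj (ρ.character g)) = 1)
    (B : Matrix (Fin m) (Fin m) ℂ)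
    (hB : ∀ g : G, (LinearMap.toMatrix' (ρ g))ᵀ * B * LinearMap.toMatrix' (ρ g) = B) :
    Bᵀ = sqInd ρ.character • B := by
  classical
  have hproj := (LinearMap.isProj_range_iff_isIdempotentElem (formProj ρ)).mpr (formProj_idem ρ)
  have htr := trace_formProj ρ
  rw [hnorm, hproj.trace] at htr
  have hd : finrank ℂ (LinearMap.range (formProj ρ)) = 1 := by exact_mod_cast htr
  obtain ⟨⟨B₀, hB₀⟩, hB0, hspan⟩ := finrank_eq_one_iff'.mp hd
  have hswap : formSwap B₀ ∈ LinearMap.range (formProj ρ) := by
    obtain ⟨X, rfl⟩ := hB₀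
    exact ⟨formSwap X, (LinearMap.congr_fun (formSwap_comm ρ) X).symm⟩
  obtain ⟨ε, hε⟩ := hspan ⟨_, hswap⟩
  have hεv : ε • B₀ = formSwap B₀ := congrArg Subtype.val hε
  have hQ : formSwap * formProj ρ = ε • formProj ρ := by
    refine LinearMap.ext fun X => ?_
    obtain ⟨c, hc⟩ := hspan ⟨_, LinearMap.mem_range_self (formProj ρ) X⟩
    have hcv : c • B₀ = formProj ρ X := congrArg Subtype.val hc
    show formSwap (formProj ρ X) = ε • formProj ρ X
    rw [← hcv, map_smul, ← hεv, smul_comm]
  have hε' : sqInd ρ.character = ε := by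
    rw [sqInd, ← trace_formSwap_formProj, hQ, map_smul, hproj.trace, hd, Nat.cast_one, smul_eq_mul,
      mul_one]
  have hfix : formProj ρ B = B := by
    simp only [formProj, LinearMap.smul_apply, LinearMap.sum_apply]
    rw [Finset.sum_congr rfl fun g _ => show formAct (LinearMap.toMatrix' (ρ g)) B = B from hB g,
      Finset.sum_const, Finset.card_univ, ← Nat.card_eq_fintype_card, ← Nat.cast_smul_eq_nsmul ℂ,
      smul_smul, inv_mul_cancel₀ card_ne_zero', one_smul]
  have h := LinearMap.congr_fun hQ B
  rw [Module.End.mul_apply, LinearMap.smul_apply, hfix] at h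
  rw [hε']
  exact h

/-- A real irreducible representation has a nonzero invariant form. -/
theorem exists_invariant {m : ℕ} (ρ : Representation ℂ G (Fin m → ℂ))
    (hnorm : classInner ρ.character (fun g => conj (ρ.character g)) = 1) :
    ∃ B : Matrix (Fin m) (Fin m) ℂ, B ≠ 0 ∧
      ∀ g : G, (LinearMap.toMatrix' (ρ g))ᵀ * B * LinearMap.toMatrix' (ρ g) = B := by
  classical
  have hproj := (LinearMap.isProj_range_iff_isIdempotentElem (formProj ρ)).mpr (formProj_idem ρ)
  have htr := trace_formProj ρ
  rw [hnorm, hproj.trace] at htr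
  have hd : finrank ℂ (LinearMap.range (formProj ρ)) = 1 := by exact_mod_cast htr
  obtain ⟨⟨B, hB⟩, hB0, -⟩ := finrank_eq_one_iff'.mp hd
  refine ⟨B, fun e => hB0 (Subtype.ext e), fun g => ?_⟩
  obtain ⟨X, rfl⟩ := hB
  show formAct (LinearMap.toMatrix' (ρ g)) (formProj ρ X) = formProj ρ X
  simp only [formProj, LinearMap.smul_apply, LinearMap.sum_apply, map_smul, map_sum]
  congr 1
  refine Fintype.sum_bijective (fun x => x * g) (Group.mulRight_bijective g) _ _ fun x => ?_
  rw [map_mul, LinearMap.toMatrix'_mul, formAct_mul]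
  rfl

end CfsgLib.Char
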