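import Cfsg.Agent.Lib.Char.Perm
import Cfsg.Agent.Lib.Char.Inertia
import Cfsg.Agent.Lib.Char.Linear

/-!
# The permutation character of the special linear group on nonzero vectors
-/

set_option autoImplicit false
set_option linter.unusedSectionVars false

namespace CfsgLib.Char

open scoped ComplexConjugate
open Cfsg Matrix

universe u

variable {F : Type u} [Field F] {n : ℕ}

theorem exists_sl_pair {i₀ i₁ i₂ : Fin n} (h01 : i₀ ≠ i₁) (h02 : i₀ ≠ i₂) (h12 : i₁ ≠ i₂)
    {v w : Fin n → F} (h : LinearIndependent F ![v, w]) :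
    ∃ g : Matrix.SpecialLinearGroup (Fin n) F,
      (g : Matrix (Fin n) (Fin n) F).mulVec (Pi.single i₀ 1) = v ∧
        (g : Matrix (Fin n) (Fin n) F).mulVec (Pi.single i₁ 1) = w := by
  classical
  have hne : v ≠ w := by
    have h' := h.injective.ne (show (0 : Fin 2) ≠ 1 by decide)
    simpa using h'
  have hs := h.linearIndepOn_id
  let b := Module.Basis.extend hs
  have hv : v ∈ hs.extend (Set.subset_univ (Set.range ![v, w])) :=
    Module.Basis.subset_extend hs ⟨0, rfl⟩
  have hw : w ∈ hs.extend (Set.subset_univ (Set.range ![v, w])) :=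
    Module.Basis.subset_extend hs ⟨1, rfl⟩
  let σ₀ := (Pi.basisFun F (Fin n)).indexEquiv b
  let σ₁ := σ₀.trans (Equiv.swap (σ₀ i₀) ⟨v, hv⟩)
  have h10 : σ₁ i₀ = ⟨v, hv⟩ := Equiv.swap_apply_left _ _
  let σ := σ₁.trans (Equiv.swap (σ₁ i₁) ⟨w, hw⟩)
  have hs0 : σ i₀ = ⟨v, hv⟩ := by
    show Equiv.swap (σ₁ i₁) ⟨w, hw⟩ (σ₁ i₀) = _
    rw [Equiv.swap_apply_of_ne_of_ne (fun e => h01 (σ₁.injective e))
      (by rw [h10]; exact fun e => hne (congrArg Subtype.val e)), h10]
  have hs1 : σ i₁ = ⟨w, hw⟩ := Equiv.swap_apply_left _ _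
  set M : Matrix (Fin n) (Fin n) F := Matrix.of fun i j => b (σ j) i with hM
  have hcol : ∀ j, M.col j = b (σ j) := fun j => rfl
  have hunit : IsUnit M := Matrix.linearIndependent_cols_iff_isUnit.1 (by
    rw [show M.col = fun j => b (σ j) from funext hcol]
    exact b.linearIndependent.comp σ σ.injective)
  have hdet : M.det ≠ 0 := ((Matrix.isUnit_iff_isUnit_det M).1 hunit).ne_zero
  refine ⟨⟨M.updateCol i₂ (M.det⁻¹ • M.col i₂), ?_⟩, ?_, ?_⟩
  · rw [Matrix.det_updateCol_smul, show M.updateCol i₂ (M.col i₂) = M from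
      Matrix.updateCol_eq_self M i₂, inv_mul_cancel₀ hdet]
  · rw [Matrix.mulVec_single_one]
    funext i
    show M.updateCol i₂ _ i i₀ = v i
    rw [Matrix.updateCol_ne h02]
    show b (σ i₀) i = v i
    rw [hs0, Module.Basis.extend_apply_self]
  · rw [Matrix.mulVec_single_one]
    funext i
    show M.updateCol i₂ _ i i₁ = w i
    rw [Matrix.updateCol_ne h12]
    show b (σ i₁) i = w i
    rw [hs1, Module.Basis.extend_apply_self]

theorem indep_pair_iff {v w : Fin n → F} (hv : v ≠ 0) :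
    LinearIndependent F ![v, w] ↔ ∀ c : F, c • v ≠ w :=
  LinearIndependent.pair_iff' hv

theorem sum_hom_units {A : Type u} [CommGroup A] [Fintype A] [Fintype (A →* ℂˣ)] {x : A} (hx : x ≠ 1) :
    ∑ θ : A →* ℂˣ, (θ x : ℂ) = 0 := by
  obtain ⟨φ, hφ⟩ := CommGroup.exists_apply_ne_one_of_hasEnoughRootsOfUnity A ℂ hx
  have h : ∑ θ : A →* ℂˣ, (θ x : ℂ) = (φ x : ℂ) * ∑ θ : A →* ℂˣ, (θ x : ℂ) := by
    rw [Finset.mul_sum]
    exact (Fintype.sum_equiv (Equiv.mulLeft φ) _ _ fun θ => by
      simp [MonoidHom.mul_apply, Units.val_mul]).symm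
  by_contra h0
  exact hφ (Units.ext ((mul_eq_right₀ h0).1 h.symm))

local notation "SLn" => Matrix.SpecialLinearGroup (Fin n) F

theorem vector_perm_character [Fintype F] [DecidableEq F] (hn : 3 ≤ n) :
    ∃ χ : (Fˣ →* ℂˣ) → (Matrix.SpecialLinearGroup (Fin n) F → ℂ),
      (∀ i, IsIrrCharacter (Matrix.SpecialLinearGroup (Fin n) F) (χ i)) ∧ Function.Injective χ ∧
      ∀ [Fintype (Fˣ →* ℂˣ)] (g : Matrix.SpecialLinearGroup (Fin n) F),
        (Nat.card {v : Fin n → F // v ≠ 0 ∧ (g : Matrix (Fin n) (Fin n) F).mulVec v = v} : ℂ) =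
          1 + ∑ i, χ i g := by
  classical
  let i₀ : Fin n := ⟨0, by omega⟩
  let i₁ : Fin n := ⟨1, by omega⟩
  let i₂ : Fin n := ⟨2, by omega⟩
  have h01 : i₀ ≠ i₁ := by simp [i₀, i₁, Fin.ext_iff]
  have h02 : i₀ ≠ i₂ := by simp [i₀, i₂, Fin.ext_iff]
  have h12 : i₁ ≠ i₂ := by simp [i₁, i₂, Fin.ext_iff]
  haveI : Finite SLn := Finite.of_injective (fun g : SLn => (g : Matrix (Fin n) (Fin n) F)) Subtype.val_injective
  haveI := Fintype.ofFinite SLn
  let X := {v : Fin n → F // v ≠ 0}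
  let act : MulAction SLn X :=
    { smul := fun g v => ⟨(g : Matrix (Fin n) (Fin n) F).mulVec v.1, fun h => v.2 (by
        have h1 : ((g⁻¹ * g : SLn) : Matrix (Fin n) (Fin n) F).mulVec v.1 = 0 := by
          rw [Matrix.SpecialLinearGroup.coe_mul, ← Matrix.mulVec_mulVec, h, Matrix.mulVec_zero]
        simpa using h1)⟩
      one_smul := fun v => Subtype.ext (by
        show ((1 : SLn) : Matrix (Fin n) (Fin n) F).mulVec v.1 = v.1
        simp)
      mul_smul := fun g h v => Subtype.ext (by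
        show ((g * h : SLn) : Matrix (Fin n) (Fin n) F).mulVec v.1 =
          (g : Matrix (Fin n) (Fin n) F).mulVec ((h : Matrix (Fin n) (Fin n) F).mulVec v.1)
        rw [Matrix.SpecialLinearGroup.coe_mul, Matrix.mulVec_mulVec]) }
  have hsm : ∀ (g : SLn) (v : X), (g • v).1 = (g : Matrix (Fin n) (Fin n) F).mulVec v.1 := fun _ _ => rfl
  set e₀ : Fin n → F := Pi.single i₀ 1 with he₀
  set e₁ : Fin n → F := Pi.single i₁ 1 with he₁
  have he0ne : e₀ ≠ 0 := fun h => by simpa [he₀] using congrFun h i₀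
  have he1ne : e₁ ≠ 0 := fun h => by simpa [he₁] using congrFun h i₁
  let x₀ : X := ⟨e₀, he0ne⟩
  let x₁ : X := ⟨e₁, he1ne⟩
  have hsmulX : ∀ (c : Fˣ) (v : X), (c : F) • v.1 ≠ 0 := fun c v => smul_ne_zero c.ne_zero v.2
  -- transitivity
  have hex : ∀ v : X, ∃ j, ∀ c : F, c • v.1 ≠ Pi.single j 1 := by
    intro v
    by_contra! hall
    obtain ⟨c, hc⟩ := hall i₀
    obtain ⟨d, hd⟩ := hall i₁
    have hcne : c ≠ 0 := fun h => by
      rw [h, zero_smul] at hc
      simpa using congrFun hc.symm i₀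
    have e1 := congrFun hc i₁
    have e2 := congrFun hd i₁
    rw [Pi.smul_apply, smul_eq_mul, Pi.single_eq_of_ne h01.symm, mul_eq_zero] at e1
    rw [Pi.smul_apply, smul_eq_mul, Pi.single_eq_same] at e2
    rcases e1 with e1 | e1
    · exact hcne e1
    · rw [e1, mul_zero] at e2; exact zero_ne_one e2
  haveI htrans : MulAction.IsPretransitive SLn X := by
    have key : ∀ v : X, ∃ g : SLn, g • x₀ = v := by
      intro v
      obtain ⟨j, hj⟩ := hex v
      obtain ⟨g, hg, -⟩ := exists_sl_pair h01 h02 h12 ((indep_pair_iff v.2).2 hj)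
      exact ⟨g, Subtype.ext hg⟩
    refine ⟨fun v w => ?_⟩
    obtain ⟨g, rfl⟩ := key v
    obtain ⟨h, rfl⟩ := key w
    exact ⟨h * g⁻¹, by rw [mul_smul, inv_smul_smul]⟩
  -- orbits on pairs
  set Q := MulAction.orbitRel.Quotient SLn (X × X)
  have hmk : ∀ p p' : X × X, (Quotient.mk _ p : Q) = Quotient.mk _ p' ↔ ∃ g : SLn, g • p' = p :=
    fun p p' => Quotient.eq.trans Iff.rfl
  have hindep01 : LinearIndependent F ![e₀, e₁] := (indep_pair_iff he0ne).2 fun c h => by
    have := congrFun h i₁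
    rw [he₀, he₁, Pi.smul_apply, Pi.single_eq_of_ne h01.symm, smul_zero, Pi.single_eq_same] at this
    exact zero_ne_one this
  let toQ : Option Fˣ → Q := fun o => o.elim (Quotient.mk _ (x₀, x₁))
    fun c => Quotient.mk _ (x₀, ⟨(c : F) • e₀, hsmulX c x₀⟩)
  have htoQ : Function.Bijective toQ := by
    have hdep : ∀ (c : Fˣ) (p : X × X) (g : SLn), g • (x₀, (⟨(c : F) • e₀, hsmulX c x₀⟩ : X)) = p →
        p.2.1 = (c : F) • p.1.1 := by
      rintro c p g rfl
      show (g : Matrix (Fin n) (Fin n) F).mulVec ((c : F) • e₀) =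
        (c : F) • (g : Matrix (Fin n) (Fin n) F).mulVec e₀
      rw [Matrix.mulVec_smul]
    refine ⟨?_, ?_⟩
    · rintro (_ | c) (_ | d) h
      · rfl
      · obtain ⟨g, hg⟩ := (hmk _ _).1 h
        exact absurd (hdep d _ g hg).symm ((indep_pair_iff he0ne).1 hindep01 (d : F))
      · obtain ⟨g, hg⟩ := (hmk _ _).1 h.symm
        exact absurd (hdep c _ g hg).symm ((indep_pair_iff he0ne).1 hindep01 (c : F))
      · obtain ⟨g, hg⟩ := (hmk _ _).1 h
        have h1 := congrFun (hdep d _ g hg) i₀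
        simp only [x₀, he₀, Pi.smul_apply, Pi.single_eq_same, smul_eq_mul, mul_one] at h1
        rw [Units.ext h1]
    · intro q
      obtain ⟨⟨v, w⟩, rfl⟩ := Quotient.mk_surjective q
      by_cases hvw : ∃ c : F, c • v.1 = w.1
      · obtain ⟨c, hc⟩ := hvw
        have hc0 : c ≠ 0 := fun h => w.2 (by rw [← hc, h, zero_smul])
        obtain ⟨g, hg⟩ := MulAction.exists_smul_eq SLn v x₀
        refine ⟨some (Units.mk0 c hc0), (hmk _ _).2 ⟨g, Prod.ext hg (Subtype.ext ?_)⟩⟩
        show (g : Matrix (Fin n) (Fin n) F).mulVec w.1 = c • e₀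
        rw [← hc, Matrix.mulVec_smul, ← hsm, hg]
      · push Not at hvw
        obtain ⟨g, hg0, hg1⟩ := exists_sl_pair h01 h02 h12 ((indep_pair_iff v.2).2 hvw)
        exact ⟨none, ((hmk _ _).2 ⟨g, Prod.ext (Subtype.ext hg0) (Subtype.ext hg1)⟩).symm⟩
  have hnorm : classInner (permChar SLn X) (permChar SLn X) = ((Fintype.card Fˣ + 1 : ℕ) : ℂ) := by
    rw [classInner_permChar_self, ← Nat.card_congr (Equiv.ofBijective toQ htoQ),
      Nat.card_eq_fintype_card, Fintype.card_option]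
  -- the stabilizer of the line
  let K : Subgroup SLn :=
    { carrier := {g | ∃ c : Fˣ, (g : Matrix (Fin n) (Fin n) F).mulVec e₀ = (c : F) • e₀}
      one_mem' := ⟨1, by simp⟩
      mul_mem' := by
        rintro g h ⟨c, hc⟩ ⟨d, hd⟩
        exact ⟨d * c, by
          rw [Matrix.SpecialLinearGroup.coe_mul, ← Matrix.mulVec_mulVec, hd, Matrix.mulVec_smul, hc,
            smul_smul, Units.val_mul]⟩
      inv_mem' := by
        rintro g ⟨c, hc⟩
        refine ⟨c⁻¹, ?_⟩
        have h1 : (((g⁻¹ * g : SLn)) : Matrix (Fin n) (Fin n) F).mulVec e₀ = e₀ := by simp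
        rw [Matrix.SpecialLinearGroup.coe_mul, ← Matrix.mulVec_mulVec, hc, Matrix.mulVec_smul] at h1
        calc _ = ((c⁻¹ : Fˣ) : F) • ((c : F) • ((g⁻¹ : SLn) : Matrix (Fin n) (Fin n) F).mulVec e₀) := by
              rw [smul_smul, Units.inv_mul, one_smul]
          _ = _ := by rw [h1] }
  choose κf hκf using fun g : K => (g.2 : ∃ c : Fˣ, (g.1 : Matrix (Fin n) (Fin n) F).mulVec e₀ = (c : F) • e₀)
  have hκu : ∀ (c d : Fˣ), (c : F) • e₀ = (d : F) • e₀ → c = d := fun c d h => by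
    have := congrFun h i₀
    simp only [he₀, Pi.smul_apply, Pi.single_eq_same, smul_eq_mul, mul_one] at this
    exact Units.ext this
  let κ : K →* Fˣ :=
    { toFun := κf
      map_one' := hκu _ _ (by rw [← hκf]; simp)
      map_mul' := fun g h => hκu _ _ (by
        rw [← hκf, show ((g * h : K) : SLn) = g.1 * h.1 from rfl, Matrix.SpecialLinearGroup.coe_mul,
          ← Matrix.mulVec_mulVec, hκf, Matrix.mulVec_smul, hκf, smul_smul, Units.val_mul, mul_comm]) }
  have hκsurj : Function.Surjective κ := by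
    intro c
    obtain ⟨g, hg⟩ := MulAction.exists_smul_eq SLn x₀ ⟨(c : F) • e₀, hsmulX c x₀⟩
    have hg' : (g : Matrix (Fin n) (Fin n) F).mulVec e₀ = (c : F) • e₀ := congrArg Subtype.val hg
    exact ⟨⟨g, c, hg'⟩, hκu _ _ ((hκf ⟨g, c, hg'⟩).symm.trans hg')⟩
  have hcardK : Nat.card K = Nat.card (MulAction.stabilizer SLn x₀) * Fintype.card Fˣ := by
    rw [← κ.ker.card_mul_index, Subgroup.index_ker, MonoidHom.range_eq_top.2 hκsurj, Subgroup.card_top,
      Nat.card_eq_fintype_card (α := Fˣ)]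
    congr 1
    refine Nat.card_congr
      { toFun := fun k => ⟨k.1.1, Subtype.ext (by
          show (k.1.1 : Matrix (Fin n) (Fin n) F).mulVec e₀ = e₀
          rw [hκf, show κf k.1 = 1 from k.2, Units.val_one, one_smul])⟩
        invFun := fun g => ⟨⟨g.1, ⟨1, (congrArg Subtype.val g.2).trans ((one_smul F e₀).symm)⟩⟩,
          hκu _ _ ((hκf _).symm.trans ((congrArg Subtype.val g.2).trans (one_smul F e₀).symm))⟩
        left_inv := fun _ => rfl
        right_inv := fun _ => rfl }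
  haveI : Finite (Fˣ →* ℂˣ) := by
    refine Finite.of_equiv _ (linearCharEquiv (G := Fˣ)).symm
  haveI hF := Fintype.ofFinite (Fˣ →* ℂˣ)
  have hcardhom : Fintype.card (Fˣ →* ℂˣ) = Fintype.card Fˣ := by
    rw [← Nat.card_eq_fintype_card, ← Nat.card_eq_fintype_card,
      CommGroup.card_monoidHom_of_hasEnoughRootsOfUnity Fˣ ℂ]
  let π : (Fˣ →* ℂˣ) → SLn → ℂ := fun θ => indFun K (fun k => ((θ (κ k) : ℂˣ) : ℂ))
  have hπchar : ∀ θ, IsCharacter SLn (π θ) := fun θ =>
    isCharacter_indFun K (isCharacter_of_isIrr (isIrrCharacter_lin (θ.comp κ)))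
  have hsumπ : ∀ g, permChar SLn X g = ∑ θ, π θ g := by
    intro g
    have h1 : ∑ θ : Fˣ →* ℂˣ, π θ = indFun K (∑ θ : Fˣ →* ℂˣ, fun k => ((θ (κ k) : ℂˣ) : ℂ)) :=
      (indFun_sum K Finset.univ _).symm
    have h2 := congrFun h1 g
    rw [Finset.sum_apply] at h2
    rw [h2, permChar_eq_indFun X x₀]
    have h3 : ∀ y : SLn, extendByZero K (∑ θ : Fˣ →* ℂˣ, fun k => ((θ (κ k) : ℂˣ) : ℂ)) y =
        (Fintype.card Fˣ : ℂ) * extendByZero (MulAction.stabilizer SLn x₀) (fun _ => 1) y := by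
      intro y
      by_cases hy : y ∈ MulAction.stabilizer SLn x₀
      · have hy' : (y : Matrix (Fin n) (Fin n) F).mulVec e₀ = e₀ := congrArg Subtype.val hy
        have hyK : y ∈ K := ⟨1, by rw [hy', Units.val_one, one_smul]⟩
        have hk : κ ⟨y, hyK⟩ = 1 := hκu _ _ ((hκf _).symm.trans (by rw [hy', Units.val_one, one_smul]))
        rw [extendByZero_mem K _ hyK, extendByZero_mem _ _ hy, Finset.sum_apply, hk]
        simp [hcardhom]
      · rw [extendByZero_not_mem (MulAction.stabilizer SLn x₀) _ hy, mul_zero]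
        by_cases hyK : y ∈ K
        · rw [extendByZero_mem K _ hyK, Finset.sum_apply]
          refine sum_hom_units fun hk => hy (Subtype.ext ?_)
          show (y : Matrix (Fin n) (Fin n) F).mulVec e₀ = e₀
          rw [hκf ⟨y, hyK⟩, show κf ⟨y, hyK⟩ = 1 from hk, Units.val_one, one_smul]
        · exact extendByZero_not_mem K _ hyK
    simp only [indFun, h3, ← Finset.mul_sum, hcardK, Nat.cast_mul]
    have h0 : (Fintype.card Fˣ : ℂ) ≠ 0 := by exact_mod_cast Fintype.card_pos.ne'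
    field_simp
  -- the trivial component
  let one : IrrCharacter SLn := ⟨fun _ => 1, isIrrCharacter_one⟩
  have h1one : classInner (π 1) (one : SLn → ℂ) = 1 := by
    show classInner (indFun K _) _ = 1
    rw [classInner_indFun K _ _ (fun _ _ => rfl)]
    simp only [MonoidHom.one_apply, Units.val_one]
    exact classInner_irr_self (⟨fun _ => 1, isIrrCharacter_one⟩ : IrrCharacter K)
  set χ₀ : SLn → ℂ := π 1 - (one : SLn → ℂ) with hχ₀
  have hχ₀char : IsCharacter SLn χ₀ := isCharacter_sub_constituent (hπchar 1) one (by rw [h1one]; norm_num)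
  have hKne : 2 ≤ K.index := by
    obtain ⟨g, hg⟩ := MulAction.exists_smul_eq SLn x₀ x₁
    refine Subgroup.one_lt_index_of_ne_top fun h => ?_
    obtain ⟨c, hc⟩ := (h ▸ Subgroup.mem_top g : g ∈ K)
    exact (indep_pair_iff he0ne).1 hindep01 (c : F) (hc.symm.trans (congrArg Subtype.val hg))
  have hχ₀one : χ₀ 1 = ((K.index - 1 : ℕ) : ℂ) := by
    rw [hχ₀, Pi.sub_apply, show π 1 1 = _ from indFun_one K _, show (one : SLn → ℂ) 1 = 1 from rfl]
    simp only [map_one, Units.val_one, mul_one]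
    rw [Nat.cast_sub (by omega), Nat.cast_one]
  have hχ₀ne : χ₀ ≠ 0 := fun h => by
    have := congrFun h 1
    rw [hχ₀one, Pi.zero_apply, Nat.cast_eq_zero] at this
    omega
  have hπ1 : π 1 = (one : SLn → ℂ) + χ₀ := by rw [hχ₀]; abel
  choose m hm using fun θ φ : Fˣ →* ℂˣ => classInner_isCharacter (hπchar θ) (hπchar φ)
  have hmsum : ∑ θ, ∑ φ, m θ φ = Fintype.card Fˣ + 1 := by
    have h : classInner (∑ θ, π θ) (∑ φ, π φ) = ((Fintype.card Fˣ + 1 : ℕ) : ℂ) := by
      rw [← hnorm]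
      congr 1 <;> funext g <;> rw [Finset.sum_apply, hsumπ g]
    rw [classInner_sum_left] at h
    simp only [classInner_sum_right, hm] at h
    exact_mod_cast h
  have hdiag : ∀ θ, 1 ≤ m θ θ := fun θ => by
    by_contra h0
    have h1 : classInner (π θ) (π θ) = 0 := by rw [hm, show m θ θ = 0 by omega, Nat.cast_zero]
    have h2 := congrFun (classInner_self_eq_zero h1) 1
    rw [show π θ 1 = _ from indFun_one K _, map_one, Pi.zero_apply] at h2
    simp only [map_one, Units.val_one, mul_one, Nat.cast_eq_zero] at h2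
    omega
  obtain ⟨m0, hm0⟩ := classInner_isCharacter hχ₀char hχ₀char
  have hm0pos : 1 ≤ m0 := by
    by_contra h0
    exact hχ₀ne (classInner_self_eq_zero (by rw [hm0, show m0 = 0 by omega, Nat.cast_zero]))
  have hc01 : classInner χ₀ (one : SLn → ℂ) = 0 := by
    rw [hχ₀, classInner_sub_left, h1one, classInner_irr_self, sub_self]
  have hc10 : classInner (one : SLn → ℂ) χ₀ = 0 := by rw [← classInner_conj, hc01, map_zero]
  have hm11 : m 1 1 = 1 + m0 := by
    have h := hm 1 1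
    rw [hπ1, classInner_add_left, classInner_add_right, classInner_add_right, classInner_irr_self,
      hc10, hc01, hm0] at h
    simp only [add_zero, zero_add] at h
    exact_mod_cast h.symm
  -- all inequalities are equalities
  set s : (Fˣ →* ℂˣ) → ℕ := fun θ => if θ = 1 then 2 else 1 with hs
  have hsle : ∀ θ, s θ ≤ m θ θ := fun θ => by
    simp only [hs]
    split_ifs with h
    · subst h; omega
    · exact hdiag θ
  have hssum : ∑ θ, s θ = Fintype.card Fˣ + 1 := by
    have h : ∀ θ, s θ = 1 + (if θ = 1 then 1 else 0) := fun θ => by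
      simp only [hs]; split_ifs <;> rfl
    rw [← hcardhom, Finset.sum_congr rfl fun θ _ => h θ, Finset.sum_add_distrib, Finset.sum_ite_eq']
    simp
  have hrow : ∀ θ, ∑ φ, m θ φ = s θ := by
    have hle : ∀ θ ∈ (Finset.univ : Finset (Fˣ →* ℂˣ)), s θ ≤ ∑ φ, m θ φ := fun θ _ =>
      (hsle θ).trans (Finset.single_le_sum (f := m θ) (fun _ _ => Nat.zero_le _) (Finset.mem_univ θ))
    exact fun θ => ((Finset.sum_eq_sum_iff_of_le hle).1 (hssum.trans hmsum.symm) θ (Finset.mem_univ θ)).symm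
  have hoff : ∀ θ φ, θ ≠ φ → m θ φ = 0 := by
    intro θ φ hne
    have h := Finset.add_sum_erase _ (m θ) (Finset.mem_univ θ)
    rw [hrow θ] at h
    have h1 := Finset.single_le_sum (f := m θ) (fun _ _ => Nat.zero_le _)
      (Finset.mem_erase.2 ⟨hne.symm, Finset.mem_univ φ⟩)
    have h2 := hsle θ
    omega
  have hdeq : ∀ θ, m θ θ = s θ := fun θ =>
    le_antisymm (hrow θ ▸ Finset.single_le_sum (f := m θ) (fun _ _ => Nat.zero_le _) (Finset.mem_univ θ))
      (hsle θ)
  refine ⟨fun θ => if θ = 1 then χ₀ else π θ, fun θ => ?_, fun θ φ hθφ => ?_, fun {inst} g => ?_⟩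
  · dsimp only
    split_ifs with h
    · refine isIrr_of_isCharacter_norm_one hχ₀char ?_
      have := hdeq 1
      simp only [hs, if_pos rfl] at this
      rw [hm0, show m0 = 1 by omega, Nat.cast_one]
    · refine isIrr_of_isCharacter_norm_one (hπchar θ) ?_
      rw [hm, hdeq, hs]
      simp [h]
  · by_contra hne
    have key : ∀ φ, φ ≠ 1 → χ₀ ≠ π φ := fun φ hφ e => by
      have h1 := hm 1 φ
      rw [hoff 1 φ (Ne.symm hφ), hπ1, classInner_add_left, ← e, hc10, hm0] at h1
      simp only [zero_add, Nat.cast_zero, Nat.cast_eq_zero] at h1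
      omega
    dsimp only at hθφ
    split_ifs at hθφ with h1 h2 h2
    · exact hne (h1.trans h2.symm)
    · exact key φ h2 hθφ
    · exact key θ h1 hθφ.symm
    · have h3 := hm θ φ
      rw [hoff θ φ hne, ← hθφ, hm θ θ, Nat.cast_inj] at h3
      have := hdiag θ
      omega
  · obtain rfl : inst = hF := Subsingleton.elim _ _
    have hfix : (Nat.card {v : Fin n → F // v ≠ 0 ∧ (g : Matrix (Fin n) (Fin n) F).mulVec v = v} : ℂ) =
        permChar SLn X g := by
      show _ = ((Nat.card (MulAction.fixedBy X g) : ℕ) : ℂ)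
      congr 1
      exact Nat.card_congr
        { toFun := fun v => ⟨⟨v.1, v.2.1⟩, Subtype.ext v.2.2⟩
          invFun := fun v => ⟨v.1.1, v.1.2, congrArg Subtype.val v.2⟩
          left_inv := fun _ => rfl
          right_inv := fun _ => rfl }
    rw [hfix, hsumπ]
    have hi : ∀ i, (fun θ => if θ = 1 then χ₀ else π θ) i g =
        π i g - (if i = 1 then (1 : ℂ) else 0) := by
      intro i
      dsimp only
      split_ifs with h
      · subst h; rfl
      · rw [sub_zero]
    rw [Finset.sum_congr rfl (fun i _ => hi i), Finset.sum_sub_distrib, Finset.sum_ite_eq']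
    simp

end CfsgLib.Char
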