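import Mathlib
import Cfsg.Prelude.Def_Blocks
import Cfsg.Agent.Lib.Char.Correspondence
import Cfsg.Agent.Lib.Char.Gallagher
import Cfsg.Agent.Lib.Char.InvariantAbove
import Cfsg.Agent.Lib.Char.FrobeniusSchur
import Cfsg.Agent.Lib.Char.SquareRoots

/-!
# Linear characters times an extension to the inertia group
-/

set_option autoImplicit false
set_option linter.unusedSectionVars false

namespace CfsgLib.Char.LinearTimesExtension

open scoped ComplexConjugate Matrix
open Cfsg CfsgLib.Char Module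

universe u

variable {G : Type u} [Group G] [Fintype G] (N : Subgroup G) [N.Normal] [Fintype N]

theorem hom_eq_one_of_perfect (hN : N ≠ ⊥)
    (hmin : ∀ M : Subgroup G, M.Normal → M ≤ N → M = ⊥ ∨ M = N) (hna : ¬ IsMulCommutative ↥N)
    (f : G →* ℂˣ) {n : G} (hn : n ∈ N) : f n = 1 := by
  have h : ⁅N, N⁆ = N := by
    refine (hmin _ inferInstance (Subgroup.commutator_le_left N N)).resolve_left fun h => hna ?_
    refine ⟨⟨fun a b => Subtype.ext ?_⟩⟩
    exact Subgroup.mem_centralizer_iff.mp (Subgroup.commutator_eq_bot_iff_le_centralizer.mp h b.2) a a.2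
  rw [← h] at hn
  exact MonoidHom.mem_ker.mp (Abelianization.commutator_subset_ker f
    (Subgroup.commutator_mono le_top le_top hn))

theorem card_trivial_on (T : Subgroup G) :
    Nat.card {f : G →* ℂˣ // ∀ t ∈ T, f t = 1} ≤ T.index := by
  classical
  haveI := Fintype.ofFinite (G ⧸ T)
  haveI : Finite (G →* ℂˣ) := Finite.of_equiv _ (linearCharEquiv (G := G)).symm
  haveI := Fintype.ofFinite {f : G →* ℂˣ // ∀ t ∈ T, f t = 1}
  let v : {f : G →* ℂˣ // ∀ t ∈ T, f t = 1} → (G ⧸ T → ℂ) := fun f q => ((f.1 q.out : ℂˣ) : ℂ)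
  let L : (G ⧸ T → ℂ) →ₗ[ℂ] (G → ℂ) :=
    { toFun := fun w g => w (g : G ⧸ T), map_add' := fun _ _ => rfl, map_smul' := fun _ _ => rfl }
  have hv : ∀ (f : {f : G →* ℂˣ // ∀ t ∈ T, f t = 1}) (g : G), L (v f) g = ((f.1 g : ℂˣ) : ℂ) := by
    intro f g
    show ((f.1 (g : G ⧸ T).out : ℂˣ) : ℂ) = _
    have h1 : (g : G ⧸ T).out⁻¹ * g ∈ T := QuotientGroup.eq.mp (by rw [QuotientGroup.out_eq'])
    have h2 := f.2 _ h1
    rw [map_mul, map_inv, inv_mul_eq_one] at h2
    rw [h2]
  have hind : LinearIndependent ℂ v := by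
    refine LinearIndependent.of_comp L ?_
    have h := (linearIndependent_monoidHom G ℂ).comp
      (fun f : {f : G →* ℂˣ // ∀ t ∈ T, f t = 1} => (Units.coeHom ℂ).comp f.1)
      (fun f f' e => Subtype.ext (MonoidHom.ext fun g => Units.ext (DFunLike.congr_fun e g)))
    have e : (⇑L ∘ v) = fun f : {f : G →* ℂˣ // ∀ t ∈ T, f t = 1} => ⇑((Units.coeHom ℂ).comp f.1) :=
      funext fun f => funext fun g => hv f g
    rw [e]
    exact h
  have h := hind.fintype_card_le_finrank
  rwa [Module.finrank_fintype_fun_eq_card, ← Nat.card_eq_fintype_card, ← Nat.card_eq_fintype_card,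
    ← Subgroup.index_eq_card] at h

section

variable (φ : IrrCharacter N)

/-- The character induced from a linear multiple of an extension. -/
noncomputable def liftFun (ψ : IrrCharacter (inertia N (φ : N → ℂ))) (f : G →* ℂˣ) : G → ℂ :=
  indFun (inertia N (φ : N → ℂ)) (fun t => ((f (t : G) : ℂˣ) : ℂ) * (ψ : inertia N (φ : N → ℂ) → ℂ) t)

variable (hNT : N ≤ inertia N (φ : N → ℂ)) (ψ : IrrCharacter (inertia N (φ : N → ℂ)))
  (hψ : ∀ n : N, (ψ : inertia N (φ : N → ℂ) → ℂ) (Subgroup.inclusion hNT n) = (φ : N → ℂ) n)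
  (hperf : ∀ (f : G →* ℂˣ), ∀ n ∈ N, f n = 1)

include hψ hperf

theorem twist_inner (f : G →* ℂˣ) :
    classInner (fun n : N => ((f (Subgroup.inclusion hNT n : G) : ℂˣ) : ℂ) *
      (ψ : inertia N (φ : N → ℂ) → ℂ) (Subgroup.inclusion hNT n)) (φ : N → ℂ) = 1 := by
  rw [← classInner_irr_self φ]
  congr 1
  funext n
  rw [hψ, show ((Subgroup.inclusion hNT n : inertia N (φ : N → ℂ)) : G) = (n : G) from rfl, hperf f n n.2,
    Units.val_one, one_mul]

theorem isIrr_liftFun (f : G →* ℂˣ) : IsIrrCharacter G (liftFun N φ ψ f) := by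
  classical
  haveI := Fintype.ofFinite (inertia N (φ : N → ℂ))
  refine (correspondence_irr N φ.2 hNT
    ⟨_, isIrrCharacter_mul_linear ψ (f.comp (inertia N (φ : N → ℂ)).subtype)⟩ ?_).1
  exact ne_of_eq_of_ne (twist_inner N φ hNT ψ hψ hperf f) one_ne_zero

theorem degree_liftFun (f : G →* ℂˣ) :
    charDegree (liftFun N φ ψ f) = charDegree (φ : N → ℂ) * (inertia N (φ : N → ℂ)).index := by
  obtain ⟨d, -, hd⟩ := isIrrCharacter_degree φ.2
  have h1 : (ψ : inertia N (φ : N → ℂ) → ℂ) 1 = d := by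
    rw [← hd, ← hψ 1, map_one]
  rw [charDegree, charDegree, liftFun, indFun_one, OneMemClass.coe_one, map_one, Units.val_one, one_mul, h1,
    hd, ← Nat.cast_mul, Complex.natCast_re, Complex.natCast_re, Nat.floor_natCast, Nat.floor_natCast, mul_comm]

theorem eq_on_inertia (f f' : G →* ℂˣ) (h : liftFun N φ ψ f = liftFun N φ ψ f') :
    ∀ t ∈ inertia N (φ : N → ℂ), f t = f' t := by
  classical
  haveI := Fintype.ofFinite (inertia N (φ : N → ℂ))
  let T := inertia N (φ : N → ℂ)
  haveI : (N.subgroupOf T).Normal := inferInstance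
  haveI := Fintype.ofFinite (N.subgroupOf T)
  have e := congrArg Subtype.val (correspondence_injective N φ.2 hNT
    ⟨_, isIrrCharacter_mul_linear ψ (f.comp T.subtype)⟩
    ⟨_, isIrrCharacter_mul_linear ψ (f'.comp T.subtype)⟩
    (ne_of_eq_of_ne (twist_inner N φ hNT ψ hψ hperf f) one_ne_zero)
    (ne_of_eq_of_ne (twist_inner N φ hNT ψ hψ hperf f') one_ne_zero) h)
  have hres : IsIrrCharacter (N.subgroupOf T) (fun n : N.subgroupOf T => (ψ : T → ℂ) n) := by
    have := isIrrCharacter_subOfFun N hNT φ.2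
    refine (congrArg _ (funext fun x => ?_)).mp this
    exact (hψ ⟨((x : T) : G), Subgroup.mem_subgroupOf.mp x.2⟩).symm
  have hone := cosetAvg_self_eq_one (N.subgroupOf T) ψ hres
  intro t ht
  by_contra hne
  have hzero : ∀ n : N.subgroupOf T, (ψ : T → ℂ) ((n : T) * ⟨t, ht⟩) = 0 := by
    intro n
    have e1 := congrFun e ((n : T) * ⟨t, ht⟩)
    by_contra h0
    refine hne (Units.ext ?_)
    have hn := Subgroup.mem_subgroupOf.mp n.2
    have e2 := mul_right_cancel₀ h0 e1
    simp only [MonoidHom.comp_apply, Subgroup.coe_subtype, Subgroup.coe_mul, map_mul, hperf f _ hn,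
      hperf f' _ hn, one_mul] at e2
    exact e2
  have := congrFun hone ⟨t, ht⟩
  simp only [cosetAvg, hzero, zero_mul, Finset.sum_const_zero, mul_zero] at this
  exact zero_ne_one this

/-- Counting: linear characters with property `L` against characters with property `P`. -/
theorem linear_count (L : (G →* ℂˣ) → Prop) (P : IrrCharacter G → Prop)
    (hP : ∀ f, L f → P ⟨_, isIrr_liftFun N φ hNT ψ hψ hperf f⟩) :
    Nat.card {f : G →* ℂˣ // L f} ≤ (inertia N (φ : N → ℂ)).index *
      Nat.card {χ : IrrCharacter G //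
        charDegree (χ : G → ℂ) = charDegree (φ : N → ℂ) * (inertia N (φ : N → ℂ)).index ∧ P χ} := by
  classical
  haveI : Finite (G →* ℂˣ) := Finite.of_equiv _ (linearCharEquiv (G := G)).symm
  haveI := Fintype.ofFinite {f : G →* ℂˣ // L f}
  haveI := Fintype.ofFinite {χ : IrrCharacter G //
    charDegree (χ : G → ℂ) = charDegree (φ : N → ℂ) * (inertia N (φ : N → ℂ)).index ∧ P χ}
  rw [Nat.card_eq_fintype_card, Nat.card_eq_fintype_card, ← Finset.card_univ, ← Finset.card_univ]
  refine Finset.card_le_mul_card_image_of_maps_to (f := fun f : {f : G →* ℂˣ // L f} =>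
    (⟨⟨_, isIrr_liftFun N φ hNT ψ hψ hperf f.1⟩, degree_liftFun N φ hNT ψ hψ hperf f.1, hP f.1 f.2⟩ :
      {χ : IrrCharacter G //
        charDegree (χ : G → ℂ) = charDegree (φ : N → ℂ) * (inertia N (φ : N → ℂ)).index ∧ P χ}))
    (fun f _ => Finset.mem_univ _) _ fun χ _ => ?_
  rcases (Finset.univ.filter fun f : {f : G →* ℂˣ // L f} =>
    (⟨⟨_, isIrr_liftFun N φ hNT ψ hψ hperf f.1⟩, degree_liftFun N φ hNT ψ hψ hperf f.1, hP f.1 f.2⟩ :
      {χ : IrrCharacter G //
        charDegree (χ : G → ℂ) = charDegree (φ : N → ℂ) * (inertia N (φ : N → ℂ)).index ∧ P χ}) = χ).eq_empty_or_nonempty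
    with h | ⟨f₀, hf₀⟩
  · rw [h]; simp
  refine le_trans ?_ (card_trivial_on (inertia N (φ : N → ℂ)))
  haveI := Fintype.ofFinite {f : G →* ℂˣ // ∀ t ∈ inertia N (φ : N → ℂ), f t = 1}
  rw [Nat.card_eq_fintype_card, ← Finset.card_univ]
  have hon : ∀ f ∈ Finset.univ.filter (fun f : {f : G →* ℂˣ // L f} =>
      (⟨⟨_, isIrr_liftFun N φ hNT ψ hψ hperf f.1⟩, degree_liftFun N φ hNT ψ hψ hperf f.1, hP f.1 f.2⟩ :
        {χ : IrrCharacter G //
          charDegree (χ : G → ℂ) = charDegree (φ : N → ℂ) * (inertia N (φ : N → ℂ)).index ∧ P χ}) = χ),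
      ∀ t ∈ inertia N (φ : N → ℂ), (f.1 * f₀.1⁻¹) t = 1 := by
    intro f hf t ht
    have e := (Finset.mem_filter.mp hf).2.trans (Finset.mem_filter.mp hf₀).2.symm
    have := eq_on_inertia N φ hNT ψ hψ hperf f.1 f₀.1
      (congrArg (fun χ => (χ.1 : G → ℂ)) e) t ht
    rw [MonoidHom.mul_apply, MonoidHom.inv_apply, this, mul_inv_cancel]
  refine Finset.card_le_card_of_injOn (fun f => if h : ∀ t ∈ inertia N (φ : N → ℂ), (f.1 * f₀.1⁻¹) t = 1
    then ⟨f.1 * f₀.1⁻¹, h⟩ else ⟨1, fun _ _ => rfl⟩) (fun _ _ => Finset.mem_coe.mpr (Finset.mem_univ _)) ?_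
  intro a ha b hb e
  simp only [dif_pos (hon a ha), dif_pos (hon b hb)] at e
  refine Subtype.ext (MonoidHom.ext fun g => ?_)
  have := DFunLike.congr_fun (congrArg Subtype.val e) g
  simpa using this

end

/-- `X ↦ A X Bᵀ`. -/
noncomputable def biMul {m : ℕ} (A B : Matrix (Fin m) (Fin m) ℂ) :
    Matrix (Fin m) (Fin m) ℂ →ₗ[ℂ] Matrix (Fin m) (Fin m) ℂ where
  toFun X := A * X * Bᵀ
  map_add' X Y := by rw [Matrix.mul_add, Matrix.add_mul]
  map_smul' c X := by simp

theorem biMul_single {m : ℕ} (A B : Matrix (Fin m) (Fin m) ℂ) (i j a b : Fin m) :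
    biMul A B (Matrix.single i j 1) a b = A a i * B b j := by
  show (A * Matrix.single i j (1 : ℂ) * Bᵀ : Matrix (Fin m) (Fin m) ℂ) a b = _
  rw [Matrix.mul_apply, Finset.sum_eq_single j]
  · simp [Matrix.mul_apply, Matrix.single]
  · intro x _ hx; simp [Matrix.mul_apply, Matrix.single, Ne.symm hx]
  · intro h; exact absurd (Finset.mem_univ _) h

theorem schur_pair_zero {H : Type u} [Group H] [Fintype H] {m : ℕ} (M M' : H →* Matrix (Fin m) (Fin m) ℂ)
    (h : ∑ n : H, (M n).trace * (M' n).trace = 0) (a b c d : Fin m) :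
    ∑ n : H, M n a b * M' n c d = 0 := by
  set S : Matrix (Fin m) (Fin m) ℂ →ₗ[ℂ] Matrix (Fin m) (Fin m) ℂ := ∑ n : H, biMul (M n) (M' n) with hS
  have hS0 : ∀ n : H, biMul (M n) (M' n) * S = S := fun n => by
    rw [hS, Finset.mul_sum]
    refine Fintype.sum_equiv (Equiv.mulLeft n) _ _ fun k => LinearMap.ext fun X => ?_
    show M n * (M k * X * (M' k)ᵀ) * (M' n)ᵀ = M (n * k) * X * (M' (n * k))ᵀ
    rw [map_mul, map_mul, Matrix.transpose_mul]
    simp only [Matrix.mul_assoc]
  have hSS : S * S = (Nat.card H : ℂ) • S := by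
    conv_lhs => arg 1; rw [hS]
    rw [Finset.sum_mul, Finset.sum_congr rfl fun n _ => hS0 n, Finset.sum_const, Finset.card_univ,
      ← Nat.card_eq_fintype_card, Nat.cast_smul_eq_nsmul]
  have hc0 : (Nat.card H : ℂ) ≠ 0 := Nat.cast_ne_zero.mpr Nat.card_pos.ne'
  have hP : IsIdempotentElem ((Nat.card H : ℂ)⁻¹ • S) := by
    show _ * _ = _
    rw [smul_mul_smul_comm, hSS, smul_smul, mul_assoc, inv_mul_cancel₀ hc0, mul_one]
  have hproj := (LinearMap.isProj_range_iff_isIdempotentElem _).mpr hP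
  have htr := hproj.trace
  have htS : LinearMap.trace ℂ _ S = 0 := by
    rw [hS, map_sum, ← h]
    refine Finset.sum_congr rfl fun n _ => ?_
    rw [trace_matrix_end, Matrix.trace, Matrix.trace, Finset.sum_mul_sum]
    exact Finset.sum_congr rfl fun i _ => Finset.sum_congr rfl fun j _ => biMul_single _ _ i j i j
  rw [map_smul, htS, smul_zero] at htr
  have hr : finrank ℂ (LinearMap.range ((Nat.card H : ℂ)⁻¹ • S)) = 0 := by exact_mod_cast htr.symm
  have hS00 : S = 0 := by
    have := LinearMap.range_eq_bot.mp (Submodule.finrank_eq_zero.mp hr)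
    exact (smul_eq_zero.mp this).resolve_left (inv_ne_zero hc0)
  have := congrArg (fun T : Matrix (Fin m) (Fin m) ℂ →ₗ[ℂ] Matrix (Fin m) (Fin m) ℂ =>
    T (Matrix.single b d 1) a c) hS00
  simp only [hS, LinearMap.sum_apply, Matrix.sum_apply, biMul_single, LinearMap.zero_apply,
    Matrix.zero_apply] at this
  exact this

/-- A character of indicator one of the inertia group over an irreducible restriction induces
to one of indicator one. -/
theorem sqInd_indFun (φ : IrrCharacter N) [Fintype (inertia N (φ : N → ℂ))] (hNT : N ≤ inertia N (φ : N → ℂ))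
    (θ : IrrCharacter (inertia N (φ : N → ℂ)))
    (hθ : ∀ n : N, (θ : inertia N (φ : N → ℂ) → ℂ) (Subgroup.inclusion hNT n) = (φ : N → ℂ) n)
    (h1 : sqInd (θ : inertia N (φ : N → ℂ) → ℂ) = 1) :
    sqInd (indFun (inertia N (φ : N → ℂ)) (θ : inertia N (φ : N → ℂ) → ℂ)) = 1 := by
  classical
  have hG0 : (Nat.card G : ℂ) ≠ 0 := Nat.cast_ne_zero.mpr Nat.card_pos.ne'
  have hreal : ∀ n : N, conj ((φ : N → ℂ) n) = (φ : N → ℂ) n := fun n => by
    rw [← hθ]
    exact Complex.conj_eq_iff_im.mpr (real_of_sqInd_ne_zero θ (by rw [h1]; exact one_ne_zero) _)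
  set E := extendByZero (inertia N (φ : N → ℂ)) (θ : (inertia N (φ : N → ℂ)) → ℂ) with hE
  -- the cosets outside the inertia group
  have houter : ∀ g : G, g ∉ (inertia N (φ : N → ℂ)) → ∑ n : N, E (g * n * (g * n)) = 0 := by
    intro g hg
    have hsplit : ∀ n : N, g * (n : G) * (g * n) = g * g * (g⁻¹ * n * g * n) := fun n => by group
    have hconjN : ∀ n : N, g⁻¹ * (n : G) * g ∈ N := fun n => by
      simpa using Subgroup.Normal.conj_mem (H := N) inferInstance _ n.2 g⁻¹
    by_cases hg2 : g * g ∈ (inertia N (φ : N → ℂ))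
    · obtain ⟨m, σ, hσi, hσ⟩ := θ.2
      let M : (inertia N (φ : N → ℂ)) → Matrix (Fin m) (Fin m) ℂ := fun t => LinearMap.toMatrix' (σ t)
      have hM : ∀ a b, M (a * b) = M a * M b := fun a b => by
        show LinearMap.toMatrix' _ = _; rw [map_mul, LinearMap.toMatrix'_mul]
      have hM1 : M 1 = 1 := by show LinearMap.toMatrix' _ = _; rw [map_one, LinearMap.toMatrix'_one]
      have htr : ∀ t, (M t).trace = (θ : (inertia N (φ : N → ℂ)) → ℂ) t := fun t => by rw [← hσ]; exact toMatrix'_trace σ t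
      let a : N →* N :=
        { toFun := fun n => ⟨g⁻¹ * n * g, hconjN n⟩
          map_one' := Subtype.ext (by simp)
          map_mul' := fun x y => Subtype.ext (by simp [mul_assoc]) }
      let M1 : N →* Matrix (Fin m) (Fin m) ℂ :=
        { toFun := fun n => M (Subgroup.inclusion hNT (a n))
          map_one' := by rw [map_one, map_one, hM1]
          map_mul' := fun x y => by rw [map_mul, map_mul, hM] }
      let M2 : N →* Matrix (Fin m) (Fin m) ℂ :=
        { toFun := fun n => M (Subgroup.inclusion hNT n)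
          map_one' := by rw [map_one, hM1]
          map_mul' := fun x y => by rw [map_mul, hM] }
      have hsum : ∑ n : N, (M1 n).trace * (M2 n).trace = 0 := by
        let φ' : IrrCharacter N := ⟨conjFun N (φ : N → ℂ) g⁻¹, isIrrCharacter_conjFun N φ.2 g⁻¹⟩
        have hne : φ' ≠ φ := fun e => hg (inv_mem_iff.mp ((mem_inertia N _ _).mpr (congrArg Subtype.val e)))
        have h := classInner_irr_ne hne
        rw [classInner, mul_eq_zero] at h
        refine Eq.trans ?_ (h.resolve_left (inv_ne_zero (Nat.cast_ne_zero.mpr Nat.card_pos.ne')))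
        refine Finset.sum_congr rfl fun n _ => ?_
        show (M (Subgroup.inclusion hNT (a n))).trace * (M (Subgroup.inclusion hNT n)).trace = _
        rw [htr, htr, hθ, hθ, hreal n]
        show _ = conjFun N (φ : N → ℂ) g⁻¹ n * _
        simp [conjFun, a]
      have hterm : ∀ n : N, E (g * n * (g * n)) = (M ⟨g * g, hg2⟩ * (M1 n * M2 n)).trace := fun n => by
        rw [hsplit, show g * g * (g⁻¹ * (n : G) * g * n) =
          (((⟨g * g, hg2⟩ : (inertia N (φ : N → ℂ))) * (Subgroup.inclusion hNT (a n) * Subgroup.inclusion hNT n) : (inertia N (φ : N → ℂ))) : G) from rfl,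
          hE, extendByZero_mem (inertia N (φ : N → ℂ)) (θ : (inertia N (φ : N → ℂ)) → ℂ) (Subtype.coe_prop _), Subtype.coe_eta, ← htr, hM, hM]
        rfl
      rw [Finset.sum_congr rfl fun n _ => hterm n]
      simp only [Matrix.trace, Matrix.diag_apply, Matrix.mul_apply, Finset.mul_sum]
      rw [Finset.sum_comm]
      refine Finset.sum_eq_zero fun i _ => ?_
      rw [Finset.sum_comm]
      refine Finset.sum_eq_zero fun b _ => ?_
      rw [Finset.sum_comm]
      refine Finset.sum_eq_zero fun c _ => ?_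
      rw [← Finset.mul_sum, schur_pair_zero M1 M2 hsum, mul_zero]
    · refine Finset.sum_eq_zero fun n _ => ?_
      rw [hsplit, hE, extendByZero]
      refine Function.extend_apply' _ _ _ ?_
      rintro ⟨t, ht⟩
      exact hg2 (((inertia N (φ : N → ℂ)).mul_mem_cancel_right (hNT (N.mul_mem (hconjN n) n.2))).mp (ht ▸ t.2))
  have hout : ∑ g ∈ Finset.univ.filter (fun g => g ∉ (inertia N (φ : N → ℂ))), E (g * g) = 0 := by
    have hN0 : (Nat.card N : ℂ) ≠ 0 := Nat.cast_ne_zero.mpr Nat.card_pos.ne'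
    have hshift : ∀ n : N, ∑ g ∈ Finset.univ.filter (fun g => g ∉ (inertia N (φ : N → ℂ))), E (g * n * (g * n)) =
        ∑ g ∈ Finset.univ.filter (fun g => g ∉ (inertia N (φ : N → ℂ))), E (g * g) := fun n =>
      Finset.sum_equiv (Equiv.mulRight (n : G)) (fun g => by
        simp [(inertia N (φ : N → ℂ)).mul_mem_cancel_right (hNT n.2)]) fun g _ => rfl
    have h := Finset.sum_eq_zero (s := Finset.univ.filter fun g => g ∉ (inertia N (φ : N → ℂ)))
      (f := fun g => ∑ n : N, E (g * n * (g * n))) fun g hg => houter g (Finset.mem_filter.mp hg).2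
    rw [Finset.sum_comm, Finset.sum_congr rfl fun n _ => hshift n, Finset.sum_const, Finset.card_univ,
      nsmul_eq_mul, ← Nat.card_eq_fintype_card] at h
    exact (mul_eq_zero.mp h).resolve_left hN0
  have hin : ∑ g ∈ Finset.univ.filter (fun g => g ∈ (inertia N (φ : N → ℂ))), E (g * g) = ∑ t : (inertia N (φ : N → ℂ)), (θ : (inertia N (φ : N → ℂ)) → ℂ) (t * t) := by
    refine (Finset.sum_subtype (F := inferInstance) (Finset.univ.filter fun g => g ∈ (inertia N (φ : N → ℂ))) (p := fun g => g ∈ (inertia N (φ : N → ℂ))) (by simp) _).trans ?_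
    refine Finset.sum_congr rfl fun t _ => ?_
    rw [hE, extendByZero_mem (inertia N (φ : N → ℂ)) (θ : (inertia N (φ : N → ℂ)) → ℂ) ((inertia N (φ : N → ℂ)).mul_mem t.2 t.2)]
    rfl
  have hfull : ∑ g : G, E (g * g) = ∑ t : (inertia N (φ : N → ℂ)), (θ : (inertia N (φ : N → ℂ)) → ℂ) (t * t) := by
    rw [← Finset.sum_filter_add_sum_filter_not Finset.univ (fun g => g ∈ (inertia N (φ : N → ℂ))), hin, hout, add_zero]
  have hswap : ∀ x : G, ∑ g : G, E (x⁻¹ * (g * g) * x) = ∑ g : G, E (g * g) := fun x =>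
    Fintype.sum_equiv (MulAut.conj x⁻¹).toEquiv _ _ fun g => congrArg E (by simp [mul_assoc])
  rw [← h1, sqInd, sqInd]
  simp only [indFun, ← Finset.mul_sum]
  rw [Finset.sum_comm]
  simp only [← hE, hswap, hfull, Finset.sum_const, Finset.card_univ, nsmul_eq_mul]
  rw [← Nat.card_eq_fintype_card]
  field_simp

end CfsgLib.Char.LinearTimesExtension
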