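import Cfsg.Agent.Lib.PGroup.CharPLocal
import Cfsg.Agent.Lib.Fusion.Residual
import Cfsg.Prelude.Def_BaumannBlocks
import Mathlib.GroupTheory.GroupAction.Quotient

/-!
# The Thompson–Wielandt theorem on maximal subgroups

For two distinct conjugate maximal subgroups `H`, `K` of a finite group, both of trivial core, the
second cores `snd H K`, `snd K H` are, when both non-trivial, `p`-groups for one prime `p`, and
`H`, `K` then have self-centralizing `p`-cores.  The index of `snd H K` in `H` is bounded in terms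
of `|H : H ∩ K|` only.
-/

set_option autoImplicit false
set_option linter.style.haveILetI false
set_option linter.unusedSectionVars false

open Subgroup CfsgLib.Coprime CfsgLib.Invol
open scoped Nat

namespace CfsgLib.Char.TW

variable {G : Type*} [Group G]

/-! ### Characteristic subgroups of subgroups, in the ambient group -/

/-- `O_p(H)` as a subgroup of the ambient group. -/
abbrev coreOf (p : ℕ) (H : Subgroup G) : Subgroup G := (Cfsg.pCore p H).map H.subtype

/-- `E(H)` as a subgroup of the ambient group. -/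
abbrev layerOf (H : Subgroup G) : Subgroup G := (Cfsg.layer H).map H.subtype

theorem coreOf_le (p : ℕ) (H : Subgroup G) : coreOf p H ≤ H := map_subtype_le _

theorem layerOf_le (H : Subgroup G) : layerOf H ≤ H := map_subtype_le _

theorem normalizer_le_coreOf (p : ℕ) (H : Subgroup G) :
    normalizer (H : Set G) ≤ normalizer (coreOf p H : Set G) :=
  haveI := pCore_characteristic (G := H) p
  CfsgLib.PGroup.le_normalizer_map_char _

theorem normalizer_le_layerOf (H : Subgroup G) :
    normalizer (H : Set G) ≤ normalizer (layerOf H : Set G) :=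
  haveI := layer_characteristic (G := H)
  CfsgLib.PGroup.le_normalizer_map_char _

theorem le_normalizer_coreOf (p : ℕ) (H : Subgroup G) : H ≤ normalizer (coreOf p H : Set G) :=
  le_normalizer.trans (normalizer_le_coreOf p H)

theorem le_normalizer_layerOf (H : Subgroup G) : H ≤ normalizer (layerOf H : Set G) :=
  le_normalizer.trans (normalizer_le_layerOf H)

theorem normalizer_le_pResidualOf (p : ℕ) (H : Subgroup G) :
    normalizer (H : Set G) ≤ normalizer (Cfsg.pResidualOf p H : Set G) := by
  haveI : (Cfsg.pResidual p H).Characteristic := by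
    refine characteristic_iff_map_le.2 fun e => (MonoidHom.map_closure _ _).trans_le
      ((closure_le _).2 ?_)
    rintro _ ⟨x, hx, rfl⟩
    exact subset_closure (by simpa using hx)
  exact CfsgLib.PGroup.le_normalizer_map_char _

theorem pResidualOf_eq_closure (p : ℕ) (H : Subgroup G) :
    Cfsg.pResidualOf p H = closure {g : G | g ∈ H ∧ (orderOf g).Coprime p} := by
  rw [Cfsg.pResidualOf, Cfsg.pResidual, MonoidHom.map_closure]
  congr 1
  ext g
  constructor
  · rintro ⟨x, hx, rfl⟩
    exact ⟨x.2, by simpa [Subgroup.orderOf_coe] using hx⟩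
  · rintro ⟨hg, hc⟩
    exact ⟨⟨g, hg⟩, by simpa [Subgroup.orderOf_mk] using hc, rfl⟩

theorem map_map_subtype {H : Subgroup G} (e : G ≃* G) (S : Subgroup H) :
    (S.map (e.subgroupMap H).toMonoidHom).map (H.map (e : G →* G)).subtype =
      (S.map H.subtype).map (e : G →* G) := by
  rw [Subgroup.map_map, Subgroup.map_map]
  rfl

theorem coreOf_map (p : ℕ) (H : Subgroup G) (e : G ≃* G) :
    coreOf p (H.map e.toMonoidHom) = (coreOf p H).map e.toMonoidHom := by
  show (Cfsg.pCore p (H.map (e : G →* G))).map (H.map (e : G →* G)).subtype = _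
  rw [← map_pCore_equiv (e.subgroupMap H) p]
  exact map_map_subtype e _

theorem layerOf_map (H : Subgroup G) (e : G ≃* G) :
    layerOf (H.map e.toMonoidHom) = (layerOf H).map e.toMonoidHom := by
  show (Cfsg.layer (H.map (e : G →* G))).map (H.map (e : G →* G)).subtype = _
  rw [← map_layer_equiv (e.subgroupMap H)]
  exact map_map_subtype e _

theorem pResidualOf_map (p : ℕ) (H : Subgroup G) (e : G ≃* G) :
    Cfsg.pResidualOf p (H.map e.toMonoidHom) = (Cfsg.pResidualOf p H).map e.toMonoidHom := by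
  rw [pResidualOf_eq_closure, pResidualOf_eq_closure, MonoidHom.map_closure]
  congr 1
  ext g
  constructor
  · rintro ⟨⟨x, hx, rfl⟩, hc⟩
    exact ⟨x, ⟨hx, by simpa using hc⟩, rfl⟩
  · rintro ⟨x, ⟨hx, hc⟩, rfl⟩
    exact ⟨⟨x, hx, rfl⟩, by simpa using hc⟩

theorem inf_centralizer_map (C S : Subgroup G) (e : G ≃* G) :
    C.map e.toMonoidHom ⊓ centralizer (S.map e.toMonoidHom : Set G) =
      (C ⊓ centralizer (S : Set G)).map e.toMonoidHom := by
  rw [map_inf _ _ _ e.injective]
  congr 1
  ext x
  rw [mem_map_equiv, mem_centralizer_iff, mem_centralizer_iff]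
  constructor
  · intro h s hs
    have := h (e s) (mem_map_of_mem _ hs)
    apply e.injective
    simpa using this
  · rintro h _ ⟨s, hs, rfl⟩
    have := congrArg e (h s hs)
    simpa using this

theorem card_mul_relIndex {X Y : Subgroup G} (h : X ≤ Y) :
    Nat.card X * X.relIndex Y = Nat.card Y := by
  rw [← relIndex_bot_left, ← relIndex_bot_left, relIndex_mul_relIndex _ _ _ bot_le h]

theorem card_map_equiv (S : Subgroup G) (e : G ≃* G) :
    Nat.card (S.map e.toMonoidHom) = Nat.card S :=
  (Nat.card_congr (S.equivMapOfInjective _ e.injective).toEquiv).symm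

/-! ### Subnormal subgroups of subgroups -/

/-- `A` is a subnormal subgroup of the subgroup `H`. -/
def Sn (A H : Subgroup G) : Prop := A ≤ H ∧ (A.subgroupOf H).IsSubnormal

theorem Sn.of_normalized {A H : Subgroup G} (h : A ≤ H) (hn : H ≤ normalizer (A : Set G)) :
    Sn A H :=
  haveI : (A.subgroupOf H).Normal := (normal_subgroupOf_iff_le_normalizer h).2 hn
  ⟨h, Subgroup.Normal.isSubnormal inferInstance⟩

theorem Sn.trans {A B C : Subgroup G} (h₁ : Sn A B) (h₂ : Sn B C) : Sn A C := by
  refine ⟨h₁.1.trans h₂.1, ?_⟩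
  have hle : A.subgroupOf C ≤ B.subgroupOf C := fun x hx => h₁.1 hx
  have e := map_subgroupOf_eq_of_le hle
  rw [← e, isSubnormal_map_subtype_iff h₂.2]
  exact h₁.2.comap (subgroupOfEquivOfLe h₂.1).toMonoidHom

theorem Sn.of_le {A B C : Subgroup G} (h : Sn A C) (hAB : A ≤ B) (hBC : B ≤ C) : Sn A B :=
  ⟨hAB, h.2.comap (inclusion hBC)⟩

variable [Finite G]

theorem isPGroup_coreOf (p : ℕ) (H : Subgroup G) : IsPGroup p (coreOf p H) :=
  (pCore_isPGroup p).map _

theorem Sn.le_coreOf {p : ℕ} [Fact p.Prime] {N H : Subgroup G} (h : Sn N H)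
    (hp : IsPGroup p N) : N ≤ coreOf p H := by
  rw [← map_subgroupOf_eq_of_le h.1]
  exact map_mono (le_pCore_of_isSubnormal h.2
    (hp.of_equiv (subgroupOfEquivOfLe h.1).symm))

theorem le_coreOf {p : ℕ} [Fact p.Prime] {N H : Subgroup G} (h : N ≤ H)
    (hn : H ≤ normalizer (N : Set G)) (hp : IsPGroup p N) : N ≤ coreOf p H :=
  (Sn.of_normalized h hn).le_coreOf hp

theorem Sn.coreOf_le {p : ℕ} [Fact p.Prime] {X H : Subgroup G} (h : Sn X H) :
    coreOf p X ≤ coreOf p H :=
  ((Sn.of_normalized (TW.coreOf_le p X) (le_normalizer_coreOf p X)).trans h).le_coreOf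
    (isPGroup_coreOf p X)

/-- The `p`-residual does not grow on adding a `p`-group on top of a subnormal chain. -/
theorem mem_of_coprime_of_index_pow {p : ℕ} [hp : Fact p.Prime] {X : Subgroup G}
    (hX : X.IsSubnormal) (hi : ∃ n, X.index = p ^ n) :
    ∀ g : G, (orderOf g).Coprime p → g ∈ X := by
  induction hc : Nat.card G using Nat.strong_induction_on generalizing G with
  | _ n ih =>
    subst hc
    intro g hg
    by_cases htop : X = ⊤
    · exact htop ▸ mem_top g
    obtain ⟨N, hN, hle, hlt⟩ := hX.exists_normal_and_le_and_lt_top_of_ne htop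
    haveI := hN
    obtain ⟨m, hm⟩ := hi
    have hNi : N.index ∣ p ^ m := hm ▸ index_dvd_of_le hle
    obtain ⟨i, -, hi'⟩ := (Nat.dvd_prime_pow hp.out).1 hNi
    have hgN : g ∈ N := CfsgLib.Fusion.pResidual_le_of_isPGroup_quotient N
      (IsPGroup.of_card (n := i) (by rw [← index_eq_card]; exact hi'))
      (CfsgLib.Fusion.mem_pResidual hg)
    have hlt' : Nat.card N < Nat.card G :=
      lt_of_not_ge fun hge => hlt.ne (eq_top_of_le_card N hge)
    have hrel : (X.subgroupOf N).index ∣ p ^ m := hm ▸ relIndex_dvd_index_of_le hle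
    obtain ⟨j, -, hj⟩ := (Nat.dvd_prime_pow hp.out).1 hrel
    have := ih _ hlt' (G := N) (X := X.subgroupOf N) hX.subgroupOf ⟨j, hj⟩ rfl ⟨g, hgN⟩
      (by rwa [← Subgroup.orderOf_coe])
    exact this

/-- Wielandt: `O_p(M)` normalizes `O^p(X)` for every subnormal subgroup `X` of `M`. -/
theorem Sn.coreOf_le_normalizer {p : ℕ} [hp : Fact p.Prime] {X M : Subgroup G} (h : Sn X M) :
    coreOf p M ≤ normalizer (Cfsg.pResidualOf p X : Set G) := by
  set O := coreOf p M
  have hXO : X ≤ normalizer (O : Set G) := h.1.trans (le_normalizer_coreOf p M)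
  set Y := X ⊔ O with hY
  have hYM : Y ≤ M := sup_le h.1 (TW.coreOf_le p M)
  have hsn : Sn X Y := h.of_le le_sup_left hYM
  have hidx : ∃ n, (X.subgroupOf Y).index = p ^ n := by
    obtain ⟨k, hk⟩ := (IsPGroup.iff_card).1 (isPGroup_coreOf p M)
    have hd : X.relIndex Y ∣ p ^ k := by
      rw [← hk]
      have h1 : X.relIndex Y * Nat.card X = Nat.card Y := by
        rw [mul_comm]; exact card_mul_relIndex le_sup_left
      have h2 : Nat.card Y ∣ Nat.card X * Nat.card O := card_sup_dvd_of_le_normalizer hXO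
      rw [← h1, mul_comm (Nat.card X)] at h2
      exact Nat.dvd_of_mul_dvd_mul_right Nat.card_pos h2
    obtain ⟨j, -, hj⟩ := (Nat.dvd_prime_pow hp.out).1 hd
    exact ⟨j, hj⟩
  have he : Cfsg.pResidualOf p Y = Cfsg.pResidualOf p X := by
    rw [pResidualOf_eq_closure, pResidualOf_eq_closure]
    congr 1
    ext g
    exact ⟨fun hg => ⟨mem_of_coprime_of_index_pow hsn.2 hidx ⟨g, hg.1⟩
        (by rw [← Subgroup.orderOf_coe]; exact hg.2), hg.2⟩,
      fun hg => ⟨le_sup_left (a := X) (b := O) hg.1, hg.2⟩⟩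
  rw [← he]
  exact (le_sup_right.trans le_normalizer).trans (normalizer_le_pResidualOf p Y)

/-! ### Components of subgroups -/

/-- `C` is a component of the subgroup `H`. -/
def CompIn (C H : Subgroup G) : Prop := C ≤ H ∧ Cfsg.IsComponent (C.subgroupOf H)

theorem CompIn.sn {C H : Subgroup G} (h : CompIn C H) : Sn C H := ⟨h.1, h.2.1⟩

theorem CompIn.trans {C X H : Subgroup G} (h : CompIn C X) (hX : Sn X H) : CompIn C H :=
  ⟨h.1.trans hX.1, (h.sn.trans hX).2, isQuasisimple_congr
    ((subgroupOfEquivOfLe h.1).trans (subgroupOfEquivOfLe (h.1.trans hX.1)).symm) h.2.2⟩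

theorem CompIn.of_le {C B H : Subgroup G} (h : CompIn C H) (hCB : C ≤ B) (hBH : B ≤ H) :
    CompIn C B :=
  ⟨hCB, (h.sn.of_le hCB hBH).2, isQuasisimple_congr
    ((subgroupOfEquivOfLe h.1).trans (subgroupOfEquivOfLe hCB).symm) h.2.2⟩

theorem compIn_map {H : Subgroup G} {C : Subgroup H} (h : Cfsg.IsComponent C) :
    CompIn (C.map H.subtype) H :=
  ⟨map_subtype_le _, by rwa [subgroupOf, comap_map_eq_self_of_injective H.subtype_injective]⟩

theorem CompIn.le_layerOf {C H : Subgroup G} (h : CompIn C H) : C ≤ layerOf H :=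
  (map_subgroupOf_eq_of_le h.1).ge.trans (map_mono (component_le_layer h.2))

theorem layerOf_le_iff {H S : Subgroup G} :
    layerOf H ≤ S ↔ ∀ C : Subgroup G, CompIn C H → C ≤ S :=
  ⟨fun h _ hC => hC.le_layerOf.trans h, fun h => map_le_iff_le_comap.2 (sSup_le fun _ hC =>
    map_le_iff_le_comap.1 (h _ (compIn_map hC)))⟩

theorem layerOf_mono {X H : Subgroup G} (h : Sn X H) : layerOf X ≤ layerOf H :=
  layerOf_le_iff.2 fun _ hC => (hC.trans h).le_layerOf

theorem CompIn.commutator_eq_bot {C D H : Subgroup G} (hC : CompIn C H) (hD : CompIn D H)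
    (hne : C ≠ D) : ⁅C, D⁆ = ⊥ := by
  have h := components_commute hC.2 hD.2 fun e => hne (by
    rw [← map_subgroupOf_eq_of_le hC.1, ← map_subgroupOf_eq_of_le hD.1, e])
  have h2 := congrArg (Subgroup.map H.subtype) h
  rwa [map_commutator, map_subgroupOf_eq_of_le hC.1, map_subgroupOf_eq_of_le hD.1,
    Subgroup.map_bot] at h2

theorem CompIn.layerOf_le_normalizer {C H : Subgroup G} (hC : CompIn C H) :
    layerOf H ≤ normalizer (C : Set G) := by
  have := (map_mono (f := H.subtype) (layer_le_normalizer_component hC.2)).trans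
    (le_normalizer_map H.subtype)
  rwa [map_subgroupOf_eq_of_le hC.1] at this

theorem layerOf_commutator_coreOf (p : ℕ) [Fact p.Prime] (H : Subgroup G) :
    ⁅layerOf H, coreOf p H⁆ = ⊥ := by
  have h : ⁅Cfsg.layer H, Cfsg.pCore p H⁆ = ⊥ := le_bot_iff.1
    ((commutator_mono le_rfl (pCore_le_fitting p)).trans layer_commutator_fitting_eq_bot.le)
  rw [layerOf, coreOf, ← map_commutator, h, Subgroup.map_bot]

theorem coreOf_commutator_coreOf {p q : ℕ} [Fact p.Prime] [Fact q.Prime] (hne : p ≠ q)
    (H : Subgroup G) : ⁅coreOf p H, coreOf q H⁆ = ⊥ := by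
  rw [← le_bot_iff, ← disjoint_iff.1 (IsPGroup.disjoint_of_ne p q hne _ _ (isPGroup_coreOf p H) (isPGroup_coreOf q H))]
  refine le_inf ?_ (le_normalizer_iff_commutator_le_right.1
    ((TW.coreOf_le p H).trans (le_normalizer_coreOf q H)))
  rw [commutator_comm]
  exact le_normalizer_iff_commutator_le_right.1
    ((TW.coreOf_le q H).trans (le_normalizer_coreOf p H))

theorem fitting_eq_bot_of_coreOf {H : Subgroup G}
    (h : ∀ p : ℕ, p.Prime → coreOf p H = ⊥) : Cfsg.fittingSubgroup H = ⊥ := by
  rw [fitting_eq_iSup_pCore, iSup_eq_bot]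
  exact fun p => (map_eq_bot_iff_of_injective _ H.subtype_injective).1 (h p p.2)

theorem layerOf_ne_bot {X : Subgroup G} (hX : X ≠ ⊥)
    (h : ∀ p : ℕ, p.Prime → coreOf p X = ⊥) : layerOf X ≠ ⊥ := by
  intro hE
  rw [layerOf, map_eq_bot_iff_of_injective _ X.subtype_injective] at hE
  have hF := centralizer_fitting_le_of_layer_eq_bot hE
  rw [fitting_eq_bot_of_coreOf h] at hF
  refine hX ((Subgroup.eq_bot_iff_forall _).2 fun x hx => ?_)
  have : (⟨x, hx⟩ : X) ∈ (⊥ : Subgroup X) :=
    hF (mem_centralizer_iff.2 fun y hy => by rw [mem_bot.1 hy, one_mul, mul_one])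
  exact congrArg Subtype.val (mem_bot.1 this)

/-! ### Cores inside a subgroup -/

/-- The largest subgroup of `Y` normalized by `H`, inside `H`. -/
abbrev ncore (H Y : Subgroup G) : Subgroup G := (Y.subgroupOf H).normalCore.map H.subtype

theorem ncore_le_left (H Y : Subgroup G) : ncore H Y ≤ H := map_subtype_le _

theorem ncore_le (H Y : Subgroup G) : ncore H Y ≤ Y := by
  rintro _ ⟨x, hx, rfl⟩
  exact mem_subgroupOf.1 (normalCore_le _ hx)

theorem le_normalizer_ncore (H Y : Subgroup G) : H ≤ normalizer (ncore H Y : Set G) := by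
  have h := (le_normalizer_map (H := (Y.subgroupOf H).normalCore) H.subtype)
  rwa [normalizer_eq_top, ← MonoidHom.range_eq_map, range_subtype] at h

theorem le_ncore {N H Y : Subgroup G} (hNY : N ≤ Y) (hNH : N ≤ H)
    (hn : H ≤ normalizer (N : Set G)) : N ≤ ncore H Y := by
  haveI : (N.subgroupOf H).Normal := (normal_subgroupOf_iff_le_normalizer hNH).2 hn
  rw [← map_subgroupOf_eq_of_le hNH]
  exact map_mono (normal_le_normalCore.2 fun x hx => hNY hx)

/-- The first core: the core in `H` of `H ∩ K`. -/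
abbrev fst (H K : Subgroup G) : Subgroup G := ncore H (H ⊓ K)

/-- The second core: the core in `H` of the intersection of the two first cores. -/
abbrev snd (H K : Subgroup G) : Subgroup G := ncore H (fst H K ⊓ fst K H)

theorem snd_le_inf (H K : Subgroup G) : snd H K ≤ H ⊓ K :=
  (ncore_le _ _).trans (inf_le_left.trans (ncore_le _ _))

theorem snd_le_fst (H K : Subgroup G) : snd H K ≤ fst K H :=
  (ncore_le _ _).trans inf_le_right

theorem sn_snd_right (H K : Subgroup G) : Sn (snd H K) K := by
  refine (Sn.of_normalized (snd_le_fst H K) ?_).trans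
    (Sn.of_normalized (ncore_le_left _ _) (le_normalizer_ncore _ _))
  exact ((ncore_le _ _).trans inf_le_right).trans (le_normalizer_ncore _ _)

theorem sn_snd_left (H K : Subgroup G) : Sn (snd H K) H :=
  Sn.of_normalized (ncore_le_left _ _) (le_normalizer_ncore _ _)

/-! ### Two maximal subgroups -/

/-- Two distinct conjugate maximal subgroups with trivial core. -/
structure Pair (H K : Subgroup G) : Prop where
  coatomH : IsCoatom H
  coatomK : IsCoatom K
  ne : H ≠ K
  coreH : H.normalCore = ⊥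
  coreK : K.normalCore = ⊥
  conj : ∃ g : G, K = H.map (MulAut.conj g).toMonoidHom

theorem Pair.symm {H K : Subgroup G} (hP : Pair H K) : Pair K H := by
  refine ⟨hP.coatomK, hP.coatomH, hP.ne.symm, hP.coreK, hP.coreH, ?_⟩
  obtain ⟨g, hg⟩ := hP.conj
  refine ⟨g⁻¹, ?_⟩
  rw [hg, Subgroup.map_map]
  convert (Subgroup.map_id H).symm
  ext x
  simp [MulAut.conj_apply, mul_assoc]

theorem Pair.normalizer_eq {H K : Subgroup G} (hP : Pair H K) {Y : Subgroup G} (hY : Y ≤ H)
    (hn : H ≤ normalizer (Y : Set G)) (hne : Y ≠ ⊥) : normalizer (Y : Set G) = H := by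
  refine ((hP.coatomH.le_iff).1 hn).resolve_left fun h => hne (le_bot_iff.1 ?_)
  haveI := normalizer_eq_top_iff.1 h
  exact hP.coreH ▸ normal_le_normalCore.2 hY

theorem Pair.eq_bot_of_both {H K : Subgroup G} (hP : Pair H K) {Y : Subgroup G} (hY : Y ≤ H)
    (hH : H ≤ normalizer (Y : Set G)) (hK : K ≤ normalizer (Y : Set G)) : Y = ⊥ := by
  by_contra hne
  rw [hP.normalizer_eq hY hH hne] at hK
  exact hP.ne ((hP.coatomK.le_iff.1 hK).resolve_left fun h => hP.coatomH.1 h)

theorem Pair.eq_bot_of_le {H K : Subgroup G} (hP : Pair H K) {S T : Subgroup G} (hS : S ≤ H)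
    (hnS : H ≤ normalizer (S : Set G)) (hnT : K ≤ normalizer (T : Set G)) (hle : S ≤ T)
    (hc : Nat.card T = Nat.card S) : S = ⊥ ∧ T = ⊥ := by
  have e : S = T := eq_of_le_of_card_ge hle hc.le
  subst e
  exact ⟨hP.eq_bot_of_both hS hnS hnT, hP.eq_bot_of_both hS hnS hnT⟩

theorem Pair.card_eq {H K : Subgroup G} (hP : Pair H K) : Nat.card K = Nat.card H := by
  obtain ⟨g, hg⟩ := hP.conj
  rw [hg, card_map_equiv]

theorem Pair.card_coreOf {H K : Subgroup G} (hP : Pair H K) (p : ℕ) :
    Nat.card (coreOf p K) = Nat.card (coreOf p H) := by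
  obtain ⟨g, hg⟩ := hP.conj
  rw [hg, coreOf_map, card_map_equiv]

theorem Pair.card_layerOf {H K : Subgroup G} (hP : Pair H K) :
    Nat.card (layerOf K) = Nat.card (layerOf H) := by
  obtain ⟨g, hg⟩ := hP.conj
  rw [hg, layerOf_map, card_map_equiv]

theorem Pair.pClean {H K : Subgroup G} (hP : Pair H K) {p : ℕ} [Fact p.Prime]
    (h : PClean p H) : PClean p K := by
  obtain ⟨g, hg⟩ := hP.conj
  exact pClean_subgroup_congr hg.symm (pClean_congr ((MulAut.conj g).subgroupMap H) h)

theorem le_inf_normalizer (H K : Subgroup G) {Y : Subgroup G}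
    (hH : H ≤ normalizer (Y : Set G)) : H ⊓ K ≤ normalizer (Y : Set G) := inf_le_left.trans hH

/-- Step 1: the second cores do not both have trivial Fitting subgroup. -/
theorem Pair.exists_coreOf_ne_bot {H K : Subgroup G} (hP : Pair H K) (hX : snd H K ≠ ⊥)
    (hX' : snd K H ≠ ⊥) :
    ∃ p : ℕ, p.Prime ∧ (coreOf p (snd H K) ≠ ⊥ ∨ coreOf p (snd K H) ≠ ⊥) := by
  by_contra hcon
  simp only [not_exists, not_and, not_or, not_not] at hcon
  set Y := layerOf (snd H K) with hY
  set Y' := layerOf (snd K H) with hY'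
  have hYne : Y ≠ ⊥ := layerOf_ne_bot hX fun p hp => (hcon p hp).1
  have hY'ne : Y' ≠ ⊥ := layerOf_ne_bot hX' fun p hp => (hcon p hp).2
  have hNY : normalizer (Y : Set G) = H := hP.normalizer_eq
    ((TW.layerOf_le _).trans (ncore_le_left _ _))
    ((le_normalizer_ncore _ _).trans (normalizer_le_layerOf _)) hYne
  have hNY' : normalizer (Y' : Set G) = K := hP.symm.normalizer_eq
    ((TW.layerOf_le _).trans (ncore_le_left _ _))
    ((le_normalizer_ncore _ _).trans (normalizer_le_layerOf _)) hY'ne
  have key : ∀ X M : Subgroup G, Sn X M → layerOf M ≤ normalizer (layerOf X : Set G) := by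
    intro X M hXM x hx
    have h1 : ∀ y ∈ layerOf M, (layerOf X).map (MulAut.conj y).toMonoidHom ≤ layerOf X := by
      intro y hy
      rw [map_le_iff_le_comap, layerOf_le_iff]
      intro C hC c hc
      exact hC.le_layerOf ((mem_normalizer_iff.1 ((hC.trans hXM).layerOf_le_normalizer hy) c).1 hc)
    refine mem_normalizer_iff.2 fun z => ⟨fun hz => h1 x hx (mem_map_of_mem _ hz), fun hz => ?_⟩
    simpa [MulAut.conj_apply, mul_assoc] using h1 x⁻¹ (inv_mem hx) (mem_map_of_mem _ hz)
  have hEK : layerOf K ≤ H ⊓ K :=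
    le_inf (hNY ▸ key _ _ (sn_snd_right H K)) (TW.layerOf_le K)
  have hEH : layerOf H ≤ H ⊓ K :=
    le_inf (TW.layerOf_le H) (hNY' ▸ key _ _ (sn_snd_right K H))
  have hYE : Y ≤ layerOf K := layerOf_mono (sn_snd_right H K)
  have hY'E : Y' ≤ layerOf H := layerOf_mono (sn_snd_right K H)
  set Cs := K ⊓ centralizer (layerOf K : Set G) with hCs
  have hCsn : K ≤ normalizer (Cs : Set G) := inf_le_normalizer le_normalizer
    ((le_normalizer_layerOf K).trans (normalizer_le_normalizer_centralizer _))
  have hCsH : Cs ≤ H := hNY ▸ inf_le_right.trans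
    ((Subgroup.centralizer_le hYE).trans (centralizer_le_normalizer _))
  have hF : ∀ q : ℕ, q.Prime → coreOf q H = ⊥ := by
    intro q hq
    haveI := Fact.mk hq
    set R := coreOf q H with hR
    have hREH : R ≤ centralizer (layerOf H : Set G) := by
      rw [le_centralizer_iff, ← commutator_eq_bot_iff_le_centralizer]
      exact layerOf_commutator_coreOf q H
    have hRL : R ≤ H ⊓ K := le_inf (TW.coreOf_le q H) (hNY' ▸ hREH.trans
      ((Subgroup.centralizer_le hY'E).trans (centralizer_le_normalizer _)))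
    have hRLn : H ⊓ K ≤ normalizer (R : Set G) := inf_le_left.trans (le_normalizer_coreOf q H)
    have hRc : R ≤ coreOf q (H ⊓ K) := le_coreOf hRL hRLn (isPGroup_coreOf q H)
    have hRCs : R ≤ Cs := le_inf (hRL.trans inf_le_right) (by
      rw [le_centralizer_iff, ← commutator_eq_bot_iff_le_centralizer, eq_bot_iff,
        ← layerOf_commutator_coreOf q (H ⊓ K)]
      refine commutator_mono ?_ hRc
      exact layerOf_le_iff.2 fun C hC =>
        (hC.of_le (hC.le_layerOf.trans hEK) inf_le_right).le_layerOf)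
    have hle : R ≤ coreOf q K := Sn.le_coreOf ((Sn.of_normalized hRCs
      (hCsH.trans (le_normalizer_coreOf q H))).trans (Sn.of_normalized inf_le_left hCsn))
      (isPGroup_coreOf q H)
    exact (hP.eq_bot_of_le (TW.coreOf_le q H) (le_normalizer_coreOf q H)
      (le_normalizer_coreOf q K) hle (hP.card_coreOf q)).1
  have hFK : Cfsg.fittingSubgroup K = ⊥ := fitting_eq_bot_of_coreOf fun q hq => by
    rw [← card_eq_one, hP.card_coreOf q, hF q hq, card_bot]
  have hle : layerOf H ≤ layerOf K := by
    refine layerOf_le_iff.2 fun D hD => ?_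
    by_contra hDK
    have hDL : CompIn D (H ⊓ K) := hD.of_le (hD.le_layerOf.trans hEH) inf_le_left
    have hDc : D ≤ centralizer (layerOf K : Set G) := by
      refine le_centralizer_iff.2 (layerOf_le_iff.2 fun C hC => ?_)
      rw [← commutator_eq_bot_iff_le_centralizer]
      exact (hC.of_le (hC.le_layerOf.trans hEK) inf_le_right).commutator_eq_bot hDL
        fun e => hDK (e ▸ hC.le_layerOf)
    refine hDK ((?_ : D ≤ ⊥).trans bot_le)
    intro d hd
    have hdK : d ∈ K := (hDL.1 hd).2
    have h1 : (⟨d, hdK⟩ : K) ∈ centralizer (Cfsg.layer K : Set K) :=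
      mem_centralizer_iff.2 fun y hy => Subtype.ext
        (mem_centralizer_iff.1 (hDc hd) _ (mem_map_of_mem K.subtype hy))
    have hgen : Cfsg.generalizedFittingSubgroup K = Cfsg.layer K := by
      rw [Cfsg.generalizedFittingSubgroup, hFK, sup_bot_eq]
    have h2 : (⟨d, hdK⟩ : K) ∈ Cfsg.layer K := by
      have := centralizer_generalizedFitting_le (G := K)
      rw [hgen] at this
      exact this h1
    have h3 := layer_inf_centralizer_layer_le_fitting (G := K) ⟨h2, h1⟩
    rw [hFK, mem_bot] at h3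
    exact mem_bot.2 (congrArg Subtype.val h3)
  exact hYne (le_bot_iff.1 (hYE.trans (hP.eq_bot_of_le (TW.layerOf_le H) (le_normalizer_layerOf H)
    (le_normalizer_layerOf K) hle hP.card_layerOf).2.le))

/-- Step 2: `O_p(X) ≠ 1` forces characteristic `p`. -/
theorem Pair.pClean_of_coreOf_ne_bot {H K : Subgroup G} (hP : Pair H K) {p : ℕ}
    [hp : Fact p.Prime] (hXp : coreOf p (snd H K) ≠ ⊥) (hX' : snd K H ≠ ⊥) : PClean p H := by
  set R := coreOf p H with hR
  set T := coreOf p K with hT
  have hNXp : normalizer (coreOf p (snd H K) : Set G) = H := hP.normalizer_eq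
    ((TW.coreOf_le _ _).trans (ncore_le_left _ _))
    ((le_normalizer_ncore _ _).trans (normalizer_le_coreOf _ _)) hXp
  have hXpT : coreOf p (snd H K) ≤ T := (sn_snd_right H K).coreOf_le
  set Cs := K ⊓ centralizer (T : Set G) with hCs
  have hCsn : K ≤ normalizer (Cs : Set G) := inf_le_normalizer le_normalizer
    ((le_normalizer_coreOf p K).trans (normalizer_le_normalizer_centralizer _))
  have hCsH : Cs ≤ H := hNXp ▸ inf_le_right.trans
    ((Subgroup.centralizer_le hXpT).trans (centralizer_le_normalizer _))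
  set U := R ⊓ K with hU
  have hUn : H ⊓ K ≤ normalizer (U : Set G) :=
    inf_le_normalizer (inf_le_left.trans (le_normalizer_coreOf p H))
      (inf_le_right.trans le_normalizer)
  have hCsU : Cs ≤ normalizer (U : Set G) := (le_inf hCsH inf_le_left).trans hUn
  have hUp : IsPGroup p U := (isPGroup_coreOf p H).to_le inf_le_left
  have hRU : R ⊓ centralizer (U : Set G) ≤ U := by
    suffices h : R ⊓ centralizer (U : Set G) ≤ K from le_inf inf_le_left h
    obtain ⟨q, hq, hne⟩ | hE : (∃ q : ℕ, q.Prime ∧ coreOf q (snd K H) ≠ ⊥) ∨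
        layerOf (snd K H) ≠ ⊥ := by
      by_cases h : ∀ q : ℕ, q.Prime → coreOf q (snd K H) = ⊥
      · exact Or.inr (layerOf_ne_bot hX' h)
      · exact Or.inl (by simpa only [not_forall, exists_prop] using h)
    · haveI := Fact.mk hq
      have hN : normalizer (coreOf q (snd K H) : Set G) = K := hP.symm.normalizer_eq
        ((TW.coreOf_le _ _).trans (ncore_le_left _ _))
        ((le_normalizer_ncore _ _).trans (normalizer_le_coreOf _ _)) hne
      have hle : coreOf q (snd K H) ≤ coreOf q H := (sn_snd_right K H).coreOf_le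
      by_cases e : q = p
      · subst e
        refine inf_le_right.trans ((Subgroup.centralizer_le ?_).trans
          ((centralizer_le_normalizer _).trans hN.le))
        exact le_inf hle ((TW.coreOf_le _ _).trans (ncore_le_left _ _))
      · refine inf_le_left.trans (((commutator_eq_bot_iff_le_centralizer.1 ?_).trans
          (centralizer_le_normalizer _)).trans hN.le)
        exact le_bot_iff.1 ((commutator_mono le_rfl hle).trans
          (coreOf_commutator_coreOf (Ne.symm e) H).le)
    · have hN : normalizer (layerOf (snd K H) : Set G) = K := hP.symm.normalizer_eq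
        ((TW.layerOf_le _).trans (ncore_le_left _ _))
        ((le_normalizer_ncore _ _).trans (normalizer_le_layerOf _)) hE
      refine inf_le_left.trans (((commutator_eq_bot_iff_le_centralizer.1 ?_).trans
        (centralizer_le_normalizer _)).trans hN.le)
      rw [commutator_comm]
      exact le_bot_iff.1 ((commutator_mono (layerOf_mono (sn_snd_right K H)) le_rfl).trans
        (layerOf_commutator_coreOf p H).le)
  set Ds := H ⊓ centralizer (R : Set G) with hDs
  have hle : Cfsg.pResidualOf p Cs ≤ Cfsg.pResidualOf p Ds := by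
    rw [pResidualOf_eq_closure, pResidualOf_eq_closure]
    refine closure_mono ?_
    rintro x ⟨hx, hxc⟩
    refine ⟨⟨hCsH hx, ?_⟩, hxc⟩
    have hQc : (Nat.card (zpowers x)).Coprime p := by rwa [Nat.card_zpowers]
    have hQU : zpowers x ≤ normalizer (U : Set G) := zpowers_le.2 (hCsU hx)
    have h1 : ⁅U, zpowers x⁆ ≤ U ⊓ Cs := by
      refine le_inf ?_ ?_
      · rw [commutator_comm]; exact le_normalizer_iff_commutator_le_right.1 hQU
      · exact (le_normalizer_iff_commutator_le_right.1
          ((inf_le_right.trans hCsn : U ≤ normalizer (Cs : Set G)))).trans' (commutator_mono le_rfl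
            (zpowers_le.2 hx))
    have h2 : U ⊓ Cs ≤ T := Sn.le_coreOf ((Sn.of_normalized inf_le_right
      (inf_le_normalizer hCsU le_normalizer)).trans
      (Sn.of_normalized inf_le_left hCsn)) (hUp.to_le inf_le_left)
    have h3 : zpowers x ≤ centralizer (U : Set G) := by
      haveI := hUp.isNilpotent
      refine le_centralizer_of_le_centralizer_commutator hQU ?_ (Or.inr inferInstance)
        (zpowers_le.2 (Subgroup.centralizer_le (h1.trans h2) hx.2))
      obtain ⟨k, hk⟩ := hUp.exists_card_eq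
      rw [hk]
      exact hQc.pow_right k
    have h4 : zpowers x ≤ centralizer (R : Set G) := pq_lemma hUp hQc (isPGroup_coreOf p H)
      (le_centralizer_iff.1 h3) ((inf_le_left.trans (le_normalizer)))
      (zpowers_le.2 (le_normalizer_coreOf p H (hCsH hx)))
      (hRU.trans (le_centralizer_iff.1 h3))
    exact h4 (mem_zpowers x)
  obtain ⟨g, hg⟩ := hP.conj
  have hmap : Cs = Ds.map (MulAut.conj g).toMonoidHom := by
    rw [hCs, hT, hDs, hR, hg, coreOf_map, inf_centralizer_map]
  have hcard : Nat.card (Cfsg.pResidualOf p Ds) = Nat.card (Cfsg.pResidualOf p Cs) := by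
    rw [hmap, pResidualOf_map, card_map_equiv]
  have hDsn : H ≤ normalizer (Ds : Set G) := inf_le_normalizer le_normalizer
    ((le_normalizer_coreOf p H).trans (normalizer_le_normalizer_centralizer _))
  have hbot : Cfsg.pResidualOf p Ds = ⊥ :=
    (hP.symm.eq_bot_of_le ((map_subtype_le _).trans inf_le_left)
      (hCsn.trans (normalizer_le_pResidualOf p _)) (hDsn.trans (normalizer_le_pResidualOf p _))
      hle hcard).2
  intro y hy hc
  have hyD : (y : G) ∈ Cfsg.pResidualOf p Ds := by
    rw [pResidualOf_eq_closure]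
    refine subset_closure ⟨⟨y.2, mem_centralizer_iff.2 ?_⟩, by rwa [Subgroup.orderOf_coe]⟩
    rintro _ ⟨w, hw, rfl⟩
    exact congrArg Subtype.val (mem_centralizer_iff.1 hc w hw)
  rw [hbot, mem_bot] at hyD
  exact Subtype.ext hyD

/-- The normalizer condition inside a `p`-group. -/
theorem eq_of_inf_normalizer_le {p : ℕ} [Fact p.Prime] {P T : Subgroup G} (hP : IsPGroup p P)
    (hTP : T ≤ P) (h : P ⊓ normalizer (T : Set G) ≤ T) : T = P := by
  by_contra hne
  haveI : Group.IsNilpotent P := hP.isNilpotent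
  have hne' : T.subgroupOf P ≠ ⊤ := fun e => hne (le_antisymm hTP (subgroupOf_eq_top.1 e))
  obtain ⟨x, hxN, hxT⟩ := SetLike.exists_of_lt
    (Group.normalizerCondition_of_isNilpotent _ hne'.lt_top)
  rw [← subgroupOf_normalizer_eq hTP] at hxN
  exact hxT (mem_subgroupOf.2 (h ⟨x.2, hxN⟩))

/-- Step 3: in characteristic `p` the second core is a `p`-group. -/
theorem Pair.isPGroup_snd {H K : Subgroup G} (hP : Pair H K) {p : ℕ} [hp : Fact p.Prime]
    (hH : PClean p H) : IsPGroup p (snd H K) := by
  have hK : PClean p K := hP.pClean hH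
  set X := snd H K with hX
  set Z := Cfsg.pResidualOf p X with hZ
  suffices hZb : Z = ⊥ by
    refine isPGroup_of_coprime_trivial _ fun y hy hc => ?_
    rw [← mem_bot, ← hZb, hZ, pResidualOf_eq_closure]
    exact subset_closure ⟨hy, hc⟩
  by_contra hZb
  have hNZ : normalizer (Z : Set G) = H := hP.normalizer_eq
    ((map_subtype_le _).trans (ncore_le_left _ _))
    ((le_normalizer_ncore _ _).trans (normalizer_le_pResidualOf p _)) hZb
  set R := coreOf p H with hR
  set T := coreOf p K with hT
  have hTH : T ≤ H := hNZ ▸ (sn_snd_right H K).coreOf_le_normalizer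
  set T₂ := coreOf p (H ⊓ K) with hT₂
  have hTT₂ : T ≤ T₂ := le_coreOf (le_inf hTH (TW.coreOf_le p K))
    (inf_le_right.trans (le_normalizer_coreOf p K)) (isPGroup_coreOf p K)
  have hBX : fst K H ≤ normalizer (X : Set G) :=
    ((ncore_le _ _).trans inf_le_right).trans (le_normalizer_ncore _ _)
  have hT₂B : T₂ ≤ fst K H := by
    intro x hx
    have hxK : x ∈ K := (TW.coreOf_le p _ hx).2
    refine mem_map.2 ⟨⟨x, hxK⟩, ?_, rfl⟩
    intro b
    have hconj : coreOf p ((H ⊓ K).map (MulAut.conj (b : G)).toMonoidHom) ≤ H := by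
      set M := (H ⊓ K).map (MulAut.conj (b : G)).toMonoidHom with hM
      have hBM : fst K H ≤ M := by
        intro y hy
        refine mem_map_equiv.2 ?_
        have := (mem_normalizer_iff.1 (le_normalizer_ncore K (K ⊓ H) (inv_mem b.2)) y).1 hy
        have := (ncore_le K (K ⊓ H)) this
        simpa [MulAut.conj_symm_apply, and_comm, Subgroup.mem_inf, mul_assoc] using this
      have hMK : M ≤ normalizer (fst K H : Set G) := by
        refine le_trans ?_ (le_normalizer_ncore _ _)
        rintro _ ⟨y, hy, rfl⟩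
        simpa [MulAut.conj_apply] using K.mul_mem (K.mul_mem b.2 hy.2) (K.inv_mem b.2)
      exact hNZ ▸ ((Sn.of_normalized (snd_le_fst H K) hBX).trans
        (Sn.of_normalized hBM hMK)).coreOf_le_normalizer
    rw [coreOf_map] at hconj
    refine mem_subgroupOf.2 ⟨?_, ?_⟩
    · exact K.mul_mem (K.mul_mem b.2 hxK) (K.inv_mem b.2)
    · have := hconj (mem_map_of_mem _ hx)
      simpa [MulAut.conj_apply] using this
  have hT₂T : T₂ ≤ T := Sn.le_coreOf ((Sn.of_normalized hT₂B
    ((((ncore_le _ _).trans (inf_comm K H).le)).trans (le_normalizer_coreOf p _))).trans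
    (Sn.of_normalized (ncore_le_left _ _) (le_normalizer_ncore _ _))) (isPGroup_coreOf p _)
  have hRK : R ⊓ K ≤ T := (le_coreOf (inf_le_inf_right K (TW.coreOf_le p H))
    (inf_le_normalizer (inf_le_left.trans (le_normalizer_coreOf p H))
      (inf_le_right.trans le_normalizer))
    ((isPGroup_coreOf p H).to_le inf_le_left)).trans hT₂T
  have hTne : T ≠ ⊥ := by
    intro h0
    have hc : Cfsg.pCore p K = ⊥ := (map_eq_bot_iff_of_injective _ K.subtype_injective).1 h0
    have h1 := hK.centralizer_le
    rw [hc] at h1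
    refine hZb (le_bot_iff.1 ((map_subtype_le _).trans ((sn_snd_right H K).1.trans ?_)))
    intro x hx
    have := h1 (show (⟨x, hx⟩ : K) ∈ centralizer ((⊥ : Subgroup K) : Set K) from
      mem_centralizer_iff.2 fun y hy => by rw [mem_bot.1 hy, one_mul, mul_one])
    exact mem_bot.2 (congrArg Subtype.val (mem_bot.1 this))
  have hNT : normalizer (T : Set G) = K :=
    hP.symm.normalizer_eq (TW.coreOf_le p K) (le_normalizer_coreOf p K) hTne
  have hTR : T ≤ normalizer (R : Set G) := hTH.trans (le_normalizer_coreOf p H)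
  have hsup : T = T ⊔ R := by
    refine eq_of_inf_normalizer_le
      ((isPGroup_coreOf p K).to_sup_of_normal_right' (isPGroup_coreOf p H) hTR) le_sup_left ?_
    rintro x ⟨hx, hxN⟩
    rw [hNT] at hxN
    obtain ⟨r, hr, t, ht, rfl⟩ := mem_sup_exists hTR (sup_comm T R ▸ hx)
    refine mul_mem (hRK ⟨hr, ?_⟩) ht
    simpa using K.mul_mem hxN (K.inv_mem (TW.coreOf_le p K ht))
  have hRT : R ≤ T := hsup ▸ le_sup_right
  exact hTne (hP.eq_bot_of_le (TW.coreOf_le p H) (le_normalizer_coreOf p H)
    (le_normalizer_coreOf p K) hRT (hP.card_coreOf p)).2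

/-- The Thompson–Wielandt theorem. -/
theorem Pair.thompson_wielandt {H K : Subgroup G} (hP : Pair H K) (hX : snd H K ≠ ⊥)
    (hX' : snd K H ≠ ⊥) :
    ∃ p : ℕ, p.Prime ∧ PClean p H ∧ PClean p K ∧ IsPGroup p (snd H K) ∧ IsPGroup p (snd K H) := by
  obtain ⟨p, hp, h⟩ := hP.exists_coreOf_ne_bot hX hX'
  haveI := Fact.mk hp
  have hH : PClean p H := h.elim (fun h => hP.pClean_of_coreOf_ne_bot h hX')
    fun h => hP.symm.pClean (hP.symm.pClean_of_coreOf_ne_bot h hX)
  exact ⟨p, hp, hH, hP.pClean hH, hP.isPGroup_snd hH, hP.symm.isPGroup_snd (hP.pClean hH)⟩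

/-! ### The index of the second core -/

/-- The core of the kernel of `f : A →* S` has index in `A` dividing `|S|` to the number of cosets
of a subgroup normalizing that kernel. -/
theorem index_normalCore_dvd {Γ S : Type*} [Group Γ] [Finite Γ] [Group S] [Finite S]
    (A L M : Subgroup Γ) [A.Normal] (hMA : M ≤ A) (hLM : L ≤ normalizer (M : Set Γ))
    (f : A →* S) (hf : f.ker = M.subgroupOf A) :
    M.normalCore.relIndex A ∣ Nat.card S ^ L.index := by
  let r : Γ ⧸ L → Γ := fun q => q.out
  let F : A →* (Γ ⧸ L → S) :=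
    Pi.monoidHom fun q => f.comp ((MulAut.conjNormal ((r q)⁻¹) : MulAut A).toMonoidHom)
  have hker : F.ker = M.normalCore.subgroupOf A := by
    ext a
    have h1 : a ∈ F.ker ↔ ∀ q, (r q)⁻¹ * (a : Γ) * r q ∈ M := by
      rw [MonoidHom.mem_ker, funext_iff]
      refine forall_congr' fun q => ?_
      show f (MulAut.conjNormal (r q)⁻¹ a) = 1 ↔ _
      rw [← MonoidHom.mem_ker, hf, mem_subgroupOf, MulAut.conjNormal_apply, inv_inv]
    rw [h1, mem_subgroupOf]
    constructor
    · intro h b
      set q : Γ ⧸ L := ((b⁻¹ : Γ) : Γ ⧸ L) with hq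
      have hl : (r q)⁻¹ * b⁻¹ ∈ L := QuotientGroup.eq.1 (by rw [QuotientGroup.out_eq'])
      have := (mem_normalizer_iff.1 (hLM (L.inv_mem hl)) _).1 (h q)
      simpa [mul_assoc] using this
    · intro h q
      simpa using h (r q)⁻¹
  calc M.normalCore.relIndex A = F.ker.index := by rw [hker]; rfl
    _ = Nat.card F.range := index_ker F
    _ ∣ Nat.card (Γ ⧸ L → S) := card_subgroup_dvd_card _
    _ = Nat.card S ^ L.index := by rw [Nat.card_fun, ← index_eq_card]

theorem Pair.relIndex_eq {H K : Subgroup G} (hP : Pair H K) :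
    (H ⊓ K).relIndex K = (H ⊓ K).relIndex H := by
  have h1 := card_mul_relIndex (inf_le_right : H ⊓ K ≤ K)
  have h2 := card_mul_relIndex (inf_le_left : H ⊓ K ≤ H)
  rw [hP.card_eq] at h1
  exact Nat.eq_of_mul_eq_mul_left Nat.card_pos (h1.trans h2.symm)

/-- The order of the stabilizer of a point in a full symmetric group. -/
theorem card_perm_stabilizer {α : Type*} [Finite α] (a : α) :
    Nat.card (MulAction.stabilizer (Equiv.Perm α) a) = (Nat.card α - 1)! := by
  haveI := Fintype.ofFinite α
  classical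
  have h := (MulAction.stabilizer (Equiv.Perm α) a).index_mul_card
  have ho : MulAction.orbit (Equiv.Perm α) a = Set.univ :=
    Set.eq_univ_of_forall fun b => ⟨Equiv.swap a b, Equiv.swap_apply_left a b⟩
  rw [MulAction.index_stabilizer, ho, Set.ncard_univ, Nat.card_perm] at h
  have hpos : 0 < Nat.card α := Nat.card_pos_iff.2 ⟨⟨a⟩, inferInstance⟩
  rw [← Nat.mul_factorial_pred hpos.ne'] at h
  exact Nat.eq_of_mul_eq_mul_left hpos h

theorem Pair.index_snd_dvd {H K : Subgroup G} (hP : Pair H K) {d : ℕ}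
    (hd : (H ⊓ K).relIndex H = d) :
    ((fst H K ⊓ fst K H).subgroupOf H).normalCore.index ∣ d ! * ((d - 1)!) ^ d := by
  set A := ((H ⊓ K).subgroupOf H).normalCore with hA
  have hAd : A.index ∣ d ! := by
    rw [hA, normalCore_eq_ker, index_ker]
    refine (card_subgroup_dvd_card _).trans ?_
    rw [Nat.card_perm, ← index_eq_card]
    exact (congrArg Nat.factorial hd).dvd
  haveI : A.Normal := inferInstance
  set α := K ⧸ (K ⊓ H).subgroupOf K
  set base : α := ((1 : K) : α)
  have hAK : ∀ a : A, ((a : H) : G) ∈ K := fun a => (mem_subgroupOf.1 (normalCore_le _ a.2)).2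
  let g : A →* K := ((H.subtype.comp A.subtype).codRestrict K hAK)
  let f : A →* MulAction.stabilizer (Equiv.Perm α) base :=
    ((MulAction.toPermHom K α).comp g).codRestrict _ fun a => by
      show g a • base = base
      rw [show g a • base = ((g a * 1 : K) : α) from rfl, QuotientGroup.eq, mem_subgroupOf]
      show (((g a : K) * 1)⁻¹ * 1 : G) ∈ K ⊓ H
      rw [mul_one, mul_one]
      exact (K ⊓ H).inv_mem ⟨(g a).2, (a : H).2⟩
  set M := (fst H K ⊓ fst K H).subgroupOf H with hM
  have hMA : M ≤ A := fun x hx => by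
    obtain ⟨y, hy, e⟩ := (mem_subgroupOf.1 hx).1
    exact Subtype.ext e ▸ hy
  have hker : f.ker = M.subgroupOf A := by
    ext a
    rw [MonoidHom.ker_codRestrict, ← MonoidHom.comap_ker, ← normalCore_eq_ker, mem_comap,
      mem_subgroupOf, mem_subgroupOf, Subgroup.mem_inf]
    constructor
    · exact fun h => ⟨mem_map_of_mem _ a.2, ⟨_, h, rfl⟩⟩
    · rintro ⟨-, y, hy, e⟩
      rwa [show g a = y from Subtype.ext e.symm]
  have hL : (H ⊓ K).subgroupOf H ≤ normalizer (M : Set H) := by
    intro x hx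
    have hn : (x : G) ∈ normalizer ((fst H K ⊓ fst K H : Subgroup G) : Set G) :=
      inf_le_normalizer (A := H ⊓ K) (inf_le_left.trans (le_normalizer_ncore _ _))
        (inf_le_right.trans (le_normalizer_ncore _ _)) hx
    refine mem_normalizer_iff.2 fun y => ?_
    simpa [hM, mem_subgroupOf] using mem_normalizer_iff.1 hn (y : G)
  have hS : Nat.card (MulAction.stabilizer (Equiv.Perm α) base) = (d - 1)! := by
    rw [card_perm_stabilizer, ← index_eq_card]
    refine congrArg (fun n => (n - 1)!) ?_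
    show (K ⊓ H).relIndex K = d
    rw [inf_comm, hP.relIndex_eq, hd]
  have h2 := index_normalCore_dvd A ((H ⊓ K).subgroupOf H) M hMA hL f hker
  rw [hS, show ((H ⊓ K).subgroupOf H).index = d from hd] at h2
  rw [← relIndex_mul_index ((normalCore_le M).trans hMA), mul_comm]
  exact mul_dvd_mul hAd h2

/-- Wielandt's dichotomy: characteristic `p`, or a stabilizer of bounded order. -/
theorem Pair.wielandt {H K : Subgroup G} (hP : Pair H K) {d : ℕ}
    (hd : (H ⊓ K).relIndex H = d) :
    (∃ p : ℕ, p.Prime ∧ PClean p H ∧ IsPGroup p (snd H K) ∧ snd H K ≠ ⊥) ∨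
      Nat.card H ∣ d ! * ((d - 1)!) ^ d := by
  have key : ∀ {H' K' : Subgroup G}, Pair H' K' → (H' ⊓ K').relIndex H' = d → snd H' K' = ⊥ →
      Nat.card H' ∣ d ! * ((d - 1)!) ^ d := by
    intro H' K' hP' hd' h0
    have h := hP'.index_snd_dvd hd'
    rwa [(map_eq_bot_iff_of_injective _ H'.subtype_injective).1 h0, index_bot] at h
  by_cases hX : snd H K = ⊥
  · exact Or.inr (key hP hd hX)
  by_cases hX' : snd K H = ⊥
  · refine Or.inr (hP.card_eq ▸ key hP.symm ?_ hX')
    rw [inf_comm, hP.relIndex_eq, hd]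
  · obtain ⟨p, hp, hH, -, hpX, -⟩ := hP.thompson_wielandt hX hX'
    exact Or.inl ⟨p, hp, hH, hpX, hX⟩

/-! ### Primitive groups -/

open MulAction in
theorem relIndex_stabilizer {Ω : Type*} [MulAction G Ω] (a b : Ω) :
    (stabilizer G a ⊓ stabilizer G b).relIndex (stabilizer G a) =
      Nat.card (orbit (stabilizer G a) b) := by
  rw [inf_relIndex_left, Subgroup.relIndex, Nat.card_coe_set_eq, ← index_stabilizer]
  congr 1

open MulAction in
theorem pair_of_isPreprimitive {Ω : Type*} [MulAction G Ω] [FaithfulSMul G Ω]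
    (hprim : IsPreprimitive G Ω) (a b : Ω) (h2 : 2 ≤ Nat.card (orbit (stabilizer G a) b)) :
    Pair (stabilizer G a) (stabilizer G b) := by
  haveI := hprim
  have hab : stabilizer G a ≠ stabilizer G b := by
    intro e
    have : orbit (stabilizer G a) b = {b} := Set.eq_singleton_iff_unique_mem.2
      ⟨mem_orbit_self b, by rintro _ ⟨g, rfl⟩; exact (e ▸ g.2 : (g : G) ∈ stabilizer G b)⟩
    rw [this, Nat.card_unique] at h2
    omega
  haveI : Nontrivial Ω := ⟨⟨a, b, fun e => hab (e ▸ rfl)⟩⟩
  have hcore : ∀ c : Ω, (stabilizer G c).normalCore = ⊥ := by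
    intro c
    refine (Subgroup.eq_bot_iff_forall _).2 fun x hx => FaithfulSMul.eq_of_smul_eq_smul fun w : Ω => ?_
    obtain ⟨g, rfl⟩ := exists_smul_eq G c w
    have := mem_stabilizer_iff.1 (hx g⁻¹)
    rw [inv_inv, mul_smul, mul_smul] at this
    rw [one_smul]
    simpa using congrArg (g • ·) this
  refine ⟨IsPreprimitive.isCoatom_stabilizer_of_isPreprimitive G a,
    IsPreprimitive.isCoatom_stabilizer_of_isPreprimitive G b, hab, hcore a, hcore b, ?_⟩
  obtain ⟨g, rfl⟩ := exists_smul_eq G a b
  exact ⟨g, stabilizer_smul_eq_stabilizer_map_conj g a⟩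

/-- If the `p`-core of `H ∩ K` lies in the first core of `H`, it is trivial. -/
theorem Pair.coreOf_inf_eq_bot {H K : Subgroup G} (hP : Pair H K) {p : ℕ} [Fact p.Prime]
    (hle : coreOf p (H ⊓ K) ≤ fst H K) : coreOf p (H ⊓ K) = ⊥ := by
  set Q := coreOf p (H ⊓ K) with hQ
  have hAL : fst H K ≤ H ⊓ K := ncore_le _ _
  have hAH : H ≤ normalizer (fst H K : Set G) := le_normalizer_ncore _ _
  have e : Q = coreOf p (fst H K) := by
    refine le_antisymm (le_coreOf hle (hAL.trans (le_normalizer_coreOf p _))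
      (isPGroup_coreOf p _)) ?_
    exact le_coreOf ((TW.coreOf_le p _).trans hAL)
      ((inf_le_left.trans hAH).trans (normalizer_le_coreOf p _)) (isPGroup_coreOf p _)
  have hQH : Q ≤ H := (TW.coreOf_le p _).trans inf_le_left
  have hHQ : H ≤ normalizer (Q : Set G) := e ▸ hAH.trans (normalizer_le_coreOf p _)
  have hQR : Q ≤ coreOf p H := le_coreOf hQH hHQ (isPGroup_coreOf p _)
  by_contra hne
  set T := coreOf p K with hT
  have hTH : T ⊓ H ≤ Q := le_coreOf (le_inf inf_le_right (inf_le_left.trans (TW.coreOf_le p K)))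
    (inf_le_normalizer (inf_le_right.trans (le_normalizer_coreOf p K))
      (inf_le_left.trans le_normalizer)) ((isPGroup_coreOf p K).to_le inf_le_left)
  have hQT : Q ≤ normalizer (T : Set G) :=
    ((TW.coreOf_le p _).trans inf_le_right).trans (le_normalizer_coreOf p K)
  have hsup : Q = Q ⊔ T := by
    refine eq_of_inf_normalizer_le
      ((isPGroup_coreOf p _).to_sup_of_normal_right' (isPGroup_coreOf p K) hQT) le_sup_left ?_
    rintro x ⟨hx, hxN⟩
    rw [hP.normalizer_eq hQH hHQ hne] at hxN
    obtain ⟨t, ht, q, hq, rfl⟩ := mem_sup_exists hQT (sup_comm Q T ▸ hx)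
    refine mul_mem (hTH ⟨ht, ?_⟩) hq
    simpa using H.mul_mem hxN (H.inv_mem (hQH hq))
  have hTR : T ≤ coreOf p H := (hsup ▸ le_sup_right : T ≤ Q).trans hQR
  have hR := (hP.symm.eq_bot_of_le (TW.coreOf_le p K) (le_normalizer_coreOf p K)
    (le_normalizer_coreOf p H) hTR (hP.card_coreOf p).symm).2
  exact hne (le_bot_iff.1 (hQR.trans hR.le))

end CfsgLib.Char.TW
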