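/-
Three primes across a normal chain are joined by an edge of the prime graph.
-/
import Cfsg.Agent.Lib.Coprime.FpfAction
import Cfsg.Agent.Lib.Coprime.Hall
import Cfsg.Agent.Lib.Coprime.Primitive
import Cfsg.Agent.Lib.Coprime.Core
import Cfsg.Agent.Lib.PGroup.CentralizerCount
import Mathlib.GroupTheory.Sylow

set_option autoImplicit false

open Subgroup
open scoped Pointwise

namespace CfsgLib.Char.ThreeChain

universe u

variable {G : Type u} [Group G] [Finite G]

theorem exists_order_mul {x y : G} (hc : Commute x y) {s t : ℕ} (hs : s.Prime) (ht : t.Prime) (hne : s ≠ t)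
    (hx : s ∣ orderOf x) (hy : t ∣ orderOf y) : ∃ g : G, orderOf g = s * t := by
  have h1 := orderOf_pow_orderOf_div (orderOf_pos x).ne' hx
  have h2 := orderOf_pow_orderOf_div (orderOf_pos y).ne' hy
  refine ⟨x ^ (orderOf x / s) * y ^ (orderOf y / t), ?_⟩
  rw [(hc.pow_pow _ _).orderOf_mul_eq_mul_orderOf_of_coprime (by rw [h1, h2]; exact (Nat.coprime_primes hs ht).2 hne),
    h1, h2]

theorem prime_dvd_of_mem {s : ℕ} (hs : s.Prime) {P : Subgroup G} (hP : IsPGroup s P) {x : G} (hx : x ∈ P)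
    (hx1 : x ≠ 1) : s ∣ orderOf x := by
  obtain ⟨k, hk⟩ := hP ⟨x, hx⟩
  have h : x ^ s ^ k = 1 := congrArg Subtype.val hk
  obtain ⟨j, -, hj⟩ := (Nat.dvd_prime_pow hs).1 (orderOf_dvd_of_pow_eq_one h)
  rw [hj]
  exact dvd_pow_self s fun e => hx1 (orderOf_eq_one_iff.1 (by rw [hj, e, pow_zero]))

/-- A Sylow subgroup of a normal subgroup, with the Frattini argument. -/
theorem exists_sylow_frattini (N : Subgroup G) [N.Normal] {p : ℕ} (hp : p.Prime) (hd : p ∣ Nat.card N) :
    ∃ P : Subgroup G, P ≤ N ∧ IsPGroup p P ∧ P ≠ ⊥ ∧ normalizer (P : Set G) ⊔ N = ⊤ := by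
  haveI := Fact.mk hp
  obtain ⟨P⟩ : Nonempty (Sylow p N) := inferInstance
  refine ⟨(P : Subgroup N).map N.subtype, map_subtype_le _, P.2.map _, fun e => ?_,
    Sylow.normalizer_sup_eq_top P⟩
  have h1 := P.dvd_card_of_dvd_card hd
  rw [(map_eq_bot_iff_of_injective _ N.subtype_injective).1 e, card_bot] at h1
  exact hp.ne_one (Nat.dvd_one.1 h1)

theorem false_of_chain (K M : Subgroup G) [K.Normal] [M.Normal] (hKM : K ≤ M) {p q r : ℕ} (hp : p.Prime)
    (hq : q.Prime) (hr : r.Prime) (hpq : p ≠ q) (hpr : p ≠ r) (hqr : q ≠ r) (hpK : p ∣ Nat.card K)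
    (hqM : q ∣ K.relIndex M) (hrG : r ∣ M.index) (n1 : ∀ g : G, orderOf g ≠ p * q)
    (n2 : ∀ g : G, orderOf g ≠ p * r) (n3 : ∀ g : G, orderOf g ≠ q * r) : False := by
  haveI := Fact.mk hp
  haveI := Fact.mk hq
  haveI := Fact.mk hr
  obtain ⟨P, hPK, hPp, hP0, hfr⟩ := exists_sylow_frattini K hp hpK
  set N1 := normalizer (P : Set G) with hN1
  set M1 := M.subgroupOf N1 with hM1
  have hqM1 : q ∣ Nat.card M1 := by
    have e1 : Nat.card M1 = Nat.card (M ⊓ N1 : Subgroup G) :=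
      Nat.card_congr ((subgroupOfEquivOfLe (H := M ⊓ N1) (K := N1) inf_le_right).toEquiv) ▸ by
        rw [inf_subgroupOf_right]
    rw [e1]
    refine hqM.trans ?_
    have e2 : K.relIndex M = K.relIndex (M ⊓ N1) := by
      have hM : (M ⊓ N1) ⊔ K = M := by
        refine le_antisymm (sup_le inf_le_left hKM) fun m hm => ?_
        have h : m ∈ ((N1 ⊔ K : Subgroup G) : Set G) := by rw [hfr]; trivial
        rw [mul_normal] at h
        obtain ⟨a, ha, b, hb, rfl⟩ := h
        exact mul_mem (mem_sup_left ⟨by simpa using mul_mem hm (inv_mem (hKM hb)), ha⟩) (mem_sup_right hb)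
      conv_lhs => rw [← hM]
      exact relIndex_sup_right _ _
    rw [e2, ← Nat.card_congr (subgroupOfEquivOfLe (H := M ⊓ N1) (K := M ⊓ N1) le_rfl).toEquiv]
    exact (dvd_mul_right _ _).trans (dvd_of_eq (by
      rw [Subgroup.relIndex, subgroupOf_self, mul_comm, card_mul_index, card_top]))
  obtain ⟨Q', hQM, hQq, hQ0, hfr2⟩ := exists_sylow_frattini M1 hq hqM1
  set Q : Subgroup G := Q'.map N1.subtype with hQdef
  have hQN1 : Q ≤ N1 := map_subtype_le _
  set N2 : Subgroup G := (normalizer (Q' : Set N1)).map N1.subtype with hN2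
  have hN2top : N2 ⊔ M = ⊤ := by
    rw [eq_top_iff, ← hfr]
    refine sup_le ?_ (hKM.trans le_sup_right)
    intro x hx
    have h : (⟨x, hx⟩ : N1) ∈ ((normalizer (Q' : Set N1) ⊔ M1 : Subgroup N1) : Set N1) := by rw [hfr2]; trivial
    rw [mul_normal] at h
    obtain ⟨a, ha, b, hb, e⟩ := h
    have e' : (a : G) * b = x := congrArg Subtype.val e
    rw [← e']
    exact mul_mem (mem_sup_left ⟨a, ha, rfl⟩) (mem_sup_right hb)
  obtain ⟨⟨z, hzN2⟩, hz⟩ := exists_prime_orderOf_dvd_card' (G := N2) r (hrG.trans (by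
    have e : M.index = M.relIndex N2 := by
      rw [← relIndex_top_right, ← hN2top]
      exact relIndex_sup_right _ _
    rw [e]
    exact (dvd_mul_left _ _).trans (dvd_of_eq (card_mul_index (M.subgroupOf N2)))))
  have hzo : orderOf z = r := by rw [← hz, ← Subgroup.orderOf_coe]
  have hzQ : z ∈ normalizer (Q : Set G) := by
    obtain ⟨a, ha, rfl⟩ := hzN2
    exact le_normalizer_map N1.subtype ⟨a, ha, rfl⟩
  have hzN1 : z ∈ N1 := map_subtype_le _ hzN2
  set Z := zpowers z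
  set A := Q ⊔ Z with hA
  have hAN1 : A ≤ N1 := sup_le hQN1 (zpowers_le.2 hzN1)
  have hQne : Q ≠ ⊥ := fun e => hQ0 ((map_eq_bot_iff_of_injective _ N1.subtype_injective).1 e)
  have hQg : IsPGroup q Q := hQq.map _
  set V : Subgroup G := (center P).map P.subtype with hV
  haveI : IsMulCommutative V := ⟨⟨by
    rintro ⟨_, a, ha, rfl⟩ ⟨_, b, hb, rfl⟩
    exact Subtype.ext (congrArg (fun t : P => (t : G)) (mem_center_iff.1 hb a))⟩⟩
  have hVP : V ≤ P := map_subtype_le _
  have hV0 : V ≠ ⊥ := by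
    haveI := (Subgroup.nontrivial_iff_ne_bot P).2 hP0
    haveI := hPp.center_nontrivial
    exact fun e => ((Subgroup.nontrivial_iff_ne_bot _).1 inferInstance)
      ((map_eq_bot_iff_of_injective _ P.subtype_injective).1 e)
  have hAV : A ≤ normalizer (V : Set G) := by
    refine hAN1.trans ?_
    intro g hg
    rw [mem_normalizer_iff]
    intro x
    have key : ∀ g ∈ N1, ∀ x ∈ V, g * x * g⁻¹ ∈ V := by
      rintro g hg _ ⟨c, hc, rfl⟩
      refine ⟨⟨g * c * g⁻¹, (mem_normalizer_iff.1 hg _).1 c.2⟩, mem_center_iff.2 fun w => Subtype.ext ?_, rfl⟩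
      have hw : g⁻¹ * w * g ∈ P := by
        have := (mem_normalizer_iff.1 (inv_mem hg) _).1 w.2
        rwa [inv_inv] at this
      have h : (g⁻¹ * w * g) * c = c * (g⁻¹ * w * g) := congrArg Subtype.val (mem_center_iff.1 hc ⟨_, hw⟩)
      show (w : G) * (g * c * g⁻¹) = g * c * g⁻¹ * w
      calc (w : G) * (g * c * g⁻¹) = g * ((g⁻¹ * w * g) * c) * g⁻¹ := by group
        _ = g * c * g⁻¹ * w := by rw [h]; group
    exact ⟨key g hg x, fun h => by simpa [mul_assoc] using key g⁻¹ (inv_mem hg) _ h⟩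
  have hfpf : Coprime.IsFpfOn A V := by
    intro a ha ha1
    refine (eq_bot_iff_forall _).2 fun v ⟨hv, hva⟩ => ?_
    by_contra hv1
    have hc : Commute v a := mem_centralizer_singleton_iff.1 hva
    have hpv := prime_dvd_of_mem hp hPp (hVP hv) hv1
    obtain ⟨s, hs, hsa⟩ := Nat.exists_prime_and_dvd (mt orderOf_eq_one_iff.1 ha1)
    have hcard : Nat.card A ∣ Nat.card Q * r := by
      have hle : A ≤ normalizer (Q : Set G) := sup_le le_normalizer (zpowers_le.2 hzQ)
      set Qa := Q.subgroupOf A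
      haveI : Qa.Normal := normal_subgroupOf_of_le_normalizer hle
      have e1 : Z.subgroupOf A ⊔ Qa = ⊤ := by
        rw [← subgroupOf_sup le_sup_right le_sup_left, sup_comm]
        exact subgroupOf_self A
      have h := PGroup.card_sup_mul_card_inf (Z.subgroupOf A) Qa
      rw [e1, card_top, Nat.card_congr (subgroupOfEquivOfLe (H := Z) (K := A) le_sup_right).toEquiv,
        Nat.card_congr (subgroupOfEquivOfLe (H := Q) (K := A) le_sup_left).toEquiv, Nat.card_zpowers, hzo,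
        mul_comm r] at h
      exact h ▸ dvd_mul_right _ _
    obtain ⟨k, hk⟩ := IsPGroup.iff_card.1 hQg
    have hsd : s ∣ q ^ k * r := hk ▸ hsa.trans ((orderOf_dvd_natCard A ha).trans hcard)
    rcases hs.dvd_mul.1 hsd with h | h
    · have e := (Nat.prime_dvd_prime_iff_eq hs hq).1 (hs.dvd_of_dvd_pow h)
      obtain ⟨g, hg⟩ := exists_order_mul hc hp hq hpq hpv (e ▸ hsa)
      exact n1 g hg
    · have e := (Nat.prime_dvd_prime_iff_eq hs hr).1 h
      obtain ⟨g, hg⟩ := exists_order_mul hc hp hr hpr hpv (e ▸ hsa)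
      exact n2 g hg
  refine hfpf.false_of_frobenius hAV hV0 le_sup_left le_sup_right hQne
    (fun e => hr.ne_one (by rw [← hzo, zpowers_eq_bot.1 e, orderOf_one])) (zpowers_le.2 hzQ) ?_
  intro t ht ht1 u hu e
  by_contra hu1
  have hc : Commute u t := (mul_inv_eq_iff_eq_mul.1 e).symm
  obtain ⟨g, hg⟩ := exists_order_mul hc hq hr hqr (prime_dvd_of_mem hq hQg hu hu1)
    (prime_dvd_of_mem hr (IsPGroup.of_card (n := 1) (by rw [Nat.card_zpowers, hzo, pow_one])) ht ht1)
  exact n3 g hg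

theorem exists_chain [Group.IsSolvable G] {ρ : Finset ℕ} (hρ : 3 ≤ ρ.card)
    (hd : ∀ s ∈ ρ, s.Prime ∧ s ∣ Nat.card G) (hall : ∀ s : ℕ, s.Prime → s ∣ Nat.card G → s ∈ ρ) :
    ∃ (K M : Subgroup G) (p q r : ℕ), K.Normal ∧ M.Normal ∧ K ≤ M ∧ p ∈ ρ ∧ q ∈ ρ ∧ r ∈ ρ ∧ p ≠ q ∧ p ≠ r ∧ q ≠ r ∧
      p ∣ Nat.card K ∧ q ∣ K.relIndex M ∧ r ∣ M.index := by
  obtain ⟨s0, hs0⟩ := Finset.card_pos.1 (show 0 < ρ.card by omega)
  haveI : Nontrivial G := Finite.one_lt_card_iff_nontrivial.1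
    ((hd s0 hs0).1.one_lt.trans_le (Nat.le_of_dvd Nat.card_pos (hd s0 hs0).2))
  obtain ⟨V, hVn, hV0, -, hVmin⟩ := Coprime.exists_minimal_normal_le (N := (⊤ : Subgroup G)) top_ne_bot
  haveI := hVn
  obtain ⟨p, d, hp, hd0, hVcard, -, -⟩ := Coprime.exists_minimal_abelian V hV0 hVmin
  set R := Cfsg.piCore ({p} : Set ℕ) G with hR
  have hRp : Coprime.IsPiNum ({p} : Set ℕ) (Nat.card R) := Coprime.piCore_isPiNum _
  have hVR : V ≤ R := Coprime.le_piCore (by
    rw [hVcard]; intro s hs hsd; exact Set.mem_singleton_iff.2 ((Nat.prime_dvd_prime_iff_eq hs hp).1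
      (hs.dvd_of_dvd_pow hsd)))
  have hpR : p ∣ Nat.card R :=
    (hVcard ▸ dvd_pow_self p hd0.ne').trans (card_dvd_of_le hVR)
  obtain ⟨s1, hs1, hs1p⟩ := Finset.exists_mem_ne (show 1 < ρ.card by omega) p
  have hRtop : R ≠ ⊤ := fun e => hs1p (by
    have := hRp s1 (hd s1 hs1).1 (by rw [e, card_top]; exact (hd s1 hs1).2)
    simpa using this)
  haveI : Nontrivial (G ⧸ R) := QuotientGroup.nontrivial_iff.2 hRtop
  obtain ⟨W, hWn, hW0, -, hWmin⟩ := Coprime.exists_minimal_normal_le (N := (⊤ : Subgroup (G ⧸ R))) top_ne_bot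
  haveI := hWn
  obtain ⟨q, e, hq, he0, hWcard, -, -⟩ := Coprime.exists_minimal_abelian W hW0 hWmin
  set M := W.comap (QuotientGroup.mk' R) with hM
  have hRM : R ≤ M := fun x hx => by
    show QuotientGroup.mk' R x ∈ W
    rw [QuotientGroup.mk'_apply, (QuotientGroup.eq_one_iff x).2 hx]; exact one_mem W
  have hrel : R.relIndex M = q ^ e := by
    have h1 := relIndex_comap (⊥ : Subgroup (G ⧸ R)) (QuotientGroup.mk' R) M
    rw [MonoidHom.comap_bot, QuotientGroup.ker_mk', relIndex_bot_left, map_comap_eq_self_of_surjective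
      (QuotientGroup.mk'_surjective R)] at h1
    rw [h1, hWcard]
  have hMcard : Nat.card M = Nat.card R * q ^ e := by rw [← hrel, Coprime.card_mul_relIndex hRM]
  have hqp : p ≠ q := fun e0 => by
    subst e0
    have hle : M ≤ R := Coprime.le_piCore (by
      rw [hMcard]
      intro s hs hsd
      rcases hs.dvd_mul.1 hsd with h | h
      · exact hRp s hs h
      · exact Set.mem_singleton_iff.2 ((Nat.prime_dvd_prime_iff_eq hs hp).1 (hs.dvd_of_dvd_pow h)))
    rw [relIndex_eq_one.2 hle] at hrel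
    exact absurd hrel.symm (Nat.one_lt_pow he0.ne' hq.one_lt).ne'
  have hpρ : p ∈ ρ := hall p hp (hpR.trans (card_subgroup_dvd_card R))
  have hqρ : q ∈ ρ := hall q hq (((dvd_pow_self q he0.ne').trans (dvd_mul_left _ _)).trans
    (hMcard ▸ card_subgroup_dvd_card M))
  obtain ⟨r, hrρ, hr⟩ : ∃ r ∈ ρ, r ∉ ({p, q} : Finset ℕ) := by
    by_contra hc
    push Not at hc
    have := (Finset.card_le_card hc).trans Finset.card_le_two
    omega
  simp only [Finset.mem_insert, Finset.mem_singleton, not_or] at hr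
  refine ⟨R, M, p, q, r, inferInstance, inferInstance, hRM, hpρ, hqρ, hrρ, hqp, Ne.symm hr.1, Ne.symm hr.2, hpR,
    hrel ▸ dvd_pow_self q he0.ne', ?_⟩
  obtain ⟨hrp, hrd⟩ := hd r hrρ
  rw [← card_mul_index M] at hrd
  refine (hrp.dvd_mul.1 hrd).resolve_left fun h => ?_
  rw [hMcard] at h
  rcases hrp.dvd_mul.1 h with h | h
  · exact hr.1 (by simpa using hRp r hrp h)
  · exact hr.2 ((Nat.prime_dvd_prime_iff_eq hrp hq).1 (hrp.dvd_of_dvd_pow h))

/-- A solvable group has no three pairwise non-adjacent primes. -/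
theorem not_coclique_three [Group.IsSolvable G] {ρ : Finset ℕ} (hρ : 3 ≤ ρ.card)
    (hd : ∀ s ∈ ρ, s.Prime ∧ s ∣ Nat.card G)
    (hne : ∀ r ∈ ρ, ∀ s ∈ ρ, r ≠ s → ¬ ∃ x : G, orderOf x = r * s) : False := by
  obtain ⟨m, n, hmn, hm, hn⟩ := Coprime.exists_pi_split (↑ρ : Set ℕ) (N := Nat.card G) Nat.card_pos.ne'
  have hcop : m.Coprime n := Coprime.isPiNum_coprime hm hn
  obtain ⟨H, hH⟩ := Coprime.exists_hall hmn hcop
  have hdH : ∀ s ∈ ρ, s.Prime ∧ s ∣ Nat.card H := fun s hs => by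
    refine ⟨(hd s hs).1, ?_⟩
    have h := (hd s hs).2
    rw [hmn] at h
    rw [hH]
    exact ((hd s hs).1.dvd_mul.1 h).resolve_right fun h' => hn s (hd s hs).1 h' hs
  obtain ⟨K, M, p, q, r, hK, hM, hKM, hp, hq, hr, hpq, hpr, hqr, h1, h2, h3⟩ :=
    exists_chain (G := H) hρ hdH fun s hs hsd => hm s hs (hH ▸ hsd)
  have key : ∀ a ∈ ρ, ∀ b ∈ ρ, a ≠ b → ∀ g : H, orderOf g ≠ a * b := fun a ha b hb hab g hg =>
    hne a ha b hb hab ⟨g, by rw [Subgroup.orderOf_coe, hg]⟩
  exact false_of_chain K M hKM (hd p hp).1 (hd q hq).1 (hd r hr).1 hpq hpr hqr h1 h2 h3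
    (key p hp q hq hpq) (key p hp r hr hpr) (key q hq r hr hqr)

/-- A coclique meets a solvable normal subgroup in at most one prime. -/
theorem eq_of_dvd_solvable {ρ : Finset ℕ} (hρ : 3 ≤ ρ.card) (hd : ∀ s ∈ ρ, s.Prime ∧ s ∣ Nat.card G)
    (hne : ∀ r ∈ ρ, ∀ s ∈ ρ, r ≠ s → ¬ ∃ x : G, orderOf x = r * s) (K : Subgroup G) [hKn : K.Normal]
    (hK : Group.IsSolvable K) {r s : ℕ} (hr : r ∈ ρ) (hs : s ∈ ρ) (hrK : r ∣ Nat.card K) (hsK : s ∣ Nat.card K) :
    r = s := by
  classical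
  by_contra hrs
  haveI := hK
  obtain ⟨t, htρ, ht⟩ : ∃ t ∈ ρ, t ∉ ({r, s} : Finset ℕ) := by
    by_contra hc
    push Not at hc
    have := (Finset.card_le_card hc).trans Finset.card_le_two
    omega
  simp only [Finset.mem_insert, Finset.mem_singleton, not_or] at ht
  by_cases htK : t ∣ Nat.card K
  · refine not_coclique_three (G := K) (ρ := {r, s, t}) ?_ ?_ ?_
    · rw [Finset.card_eq_three.2 ⟨r, s, t, hrs, Ne.symm ht.1, Ne.symm ht.2, rfl⟩]
    · intro a ha
      simp only [Finset.mem_insert, Finset.mem_singleton] at ha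
      rcases ha with rfl | rfl | rfl
      exacts [⟨(hd _ hr).1, hrK⟩, ⟨(hd _ hs).1, hsK⟩, ⟨(hd _ htρ).1, htK⟩]
    · intro a ha b hb hab ⟨x, hx⟩
      simp only [Finset.mem_insert, Finset.mem_singleton] at ha hb
      have ha' : a ∈ ρ := by rcases ha with rfl | rfl | rfl <;> assumption
      have hb' : b ∈ ρ := by rcases hb with rfl | rfl | rfl <;> assumption
      exact hne a ha' b hb' hab ⟨x, by rw [Subgroup.orderOf_coe, hx]⟩
  -- pass to the quotient chain `O_a(L) ≤ L ≤ N(L)` for a Hall subgroup `L` of `K`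
  obtain ⟨m, n, hmn, hm, hn⟩ := Coprime.exists_pi_split ({r, s} : Set ℕ) (N := Nat.card K) Nat.card_pos.ne'
  have hcop : m.Coprime n := Coprime.isPiNum_coprime hm hn
  obtain ⟨L0, hL0⟩ := Coprime.exists_hall hmn hcop
  set L := L0.map K.subtype with hL
  have hLc : Nat.card L = m := by
    rw [← hL0]; exact (Nat.card_congr (L0.equivMapOfInjective _ K.subtype_injective).toEquiv).symm
  set X := normalizer (L : Set G) with hX
  have hfr : X ⊔ K = ⊤ := by
    refine eq_top_iff.2 fun g _ => ?_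
    let σ : MulAut K := MulAut.conjNormal g
    obtain ⟨k, hk⟩ := Coprime.hall_conj hmn hcop (H := L0.map σ.toMonoidHom) (K := L0)
      (by rw [← hL0]; exact (Nat.card_congr (L0.equivMapOfInjective _ σ.injective).toEquiv).symm) hL0
    have hmem : (k : G) * g ∈ X := by
      have key : ∀ x ∈ L, (k : G) * g * x * ((k : G) * g)⁻¹ ∈ L := by
        rintro _ ⟨y, hy, rfl⟩
        refine ⟨(MulAut.conj k) (σ y), hk ▸ ⟨σ y, ⟨y, hy, rfl⟩, rfl⟩, ?_⟩
        simp [σ, MulAut.conjNormal_apply, mul_assoc]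
      exact mem_normalizer_fintype key
    rw [show g = (k : G)⁻¹ * ((k : G) * g) by group]
    exact mul_mem (mem_sup_right (inv_mem k.2)) (mem_sup_left hmem)
  haveI : Group.IsSolvable L := Coprime.isSolvable_congr (L0.equivMapOfInjective _ K.subtype_injective) inferInstance
  set L' := L.subgroupOf X with hL'
  haveI : L'.Normal := normal_in_normalizer
  have hL'e : L' ≃* L := subgroupOfEquivOfLe le_normalizer
  haveI : Group.IsSolvable L' := Coprime.isSolvable_congr hL'e.symm inferInstance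
  haveI : Nontrivial L' := by
    refine Finite.one_lt_card_iff_nontrivial.1 ?_
    rw [Nat.card_congr hL'e.toEquiv, hLc]
    refine (Nat.one_lt_iff_ne_zero_and_ne_one.2 ⟨fun e => ?_, fun e => ?_⟩)
    · rw [e, zero_mul] at hmn; exact Nat.card_pos.ne' hmn
    · rw [e, one_mul] at hmn
      exact hn r (hd r hr).1 (hmn ▸ hrK) (Or.inl rfl)
  obtain ⟨V, hVn, hV0, -, hVmin⟩ := Coprime.exists_minimal_normal_le (N := (⊤ : Subgroup L')) top_ne_bot
  haveI := hVn
  obtain ⟨a, d, ha, hd0, hVcard, -, -⟩ := Coprime.exists_minimal_abelian V hV0 hVmin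
  set R0 := Cfsg.piCore ({a} : Set ℕ) L' with hR0
  haveI : R0.Characteristic := Coprime.piCore_characteristic _
  set R := R0.map L'.subtype with hR
  haveI : R.Normal := inferInstance
  have hRL : R ≤ L' := map_subtype_le _
  have hRp : Coprime.IsPiNum ({a} : Set ℕ) (Nat.card R0) := Coprime.piCore_isPiNum _
  have haR : a ∣ Nat.card R := by
    rw [← Nat.card_congr (R0.equivMapOfInjective _ L'.subtype_injective).toEquiv]
    refine (hVcard ▸ dvd_pow_self a hd0.ne').trans (card_dvd_of_le (Coprime.le_piCore ?_))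
    rw [hVcard]; intro x hx hxd
    exact Set.mem_singleton_iff.2 ((Nat.prime_dvd_prime_iff_eq hx ha).1 (hx.dvd_of_dvd_pow hxd))
  have haL : a ∣ m := by
    rw [← hLc, ← Nat.card_congr hL'e.toEquiv]
    exact haR.trans (card_dvd_of_le hRL)
  have hsub : ∀ x : ℕ, x.Prime → x ∣ Nat.card K → x ∈ ({r, s} : Set ℕ) → x ∣ m := fun x hx hxd hxm => by
    rw [hmn] at hxd
    exact (hx.dvd_mul.1 hxd).resolve_right fun h => hn x hx h hxm
  obtain ⟨b, hbmem, hba, hbρ, haρ⟩ : ∃ b, b ∈ ({r, s} : Set ℕ) ∧ a ≠ b ∧ b ∈ ρ ∧ a ∈ ρ := by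
    rcases hm a ha haL with e | e
    · exact ⟨s, Or.inr rfl, fun e' => hrs (e.symm.trans e'), hs, e ▸ hr⟩
    · rw [Set.mem_singleton_iff] at e
      exact ⟨r, Or.inl rfl, fun e' => hrs (e'.symm.trans e), hr, e ▸ hs⟩
  have hat : a ≠ t := by
    rcases hm a ha haL with e | e
    · rw [e]; exact Ne.symm ht.1
    · rw [Set.mem_singleton_iff.1 e]; exact Ne.symm ht.2
  have hbt : b ≠ t := by
    rcases hbmem with e | e
    · rw [e]; exact Ne.symm ht.1
    · rw [Set.mem_singleton_iff.1 e]; exact Ne.symm ht.2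
  have key : ∀ x ∈ ρ, ∀ y ∈ ρ, x ≠ y → ∀ g : X, orderOf g ≠ x * y := fun x hx y hy hxy g hg =>
    hne x hx y hy hxy ⟨g, by rw [Subgroup.orderOf_coe, hg]⟩
  refine false_of_chain R L' hRL ha (hd b hbρ).1 (hd t htρ).1 hba hat hbt haR ?_ ?_
    (key a haρ b hbρ hba) (key a haρ t htρ hat) (key b hbρ t htρ hbt)
  · have hbL : b ∣ Nat.card L' := by
      rw [Nat.card_congr hL'e.toEquiv, hLc]
      refine hsub b (hd b hbρ).1 ?_ hbmem
      rcases hbmem with e | e
      · exact e ▸ hrK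
      · rw [Set.mem_singleton_iff.1 e]; exact hsK
    rw [← Coprime.card_mul_relIndex hRL] at hbL
    refine ((hd b hbρ).1.dvd_mul.1 hbL).resolve_left fun h => hba ?_
    rw [← Nat.card_congr (R0.equivMapOfInjective _ L'.subtype_injective).toEquiv] at h
    exact (Set.mem_singleton_iff.1 (hRp b (hd b hbρ).1 h)).symm
  · have htX : t ∣ Nat.card X := by
      have e : K.index = K.relIndex X := by
        rw [← relIndex_top_right, ← hfr]; exact relIndex_sup_right _ _
      have h := (hd t htρ).2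
      rw [← card_mul_index K] at h
      have h' := ((hd t htρ).1.dvd_mul.1 h).resolve_left htK
      rw [e] at h'
      exact h'.trans ((dvd_mul_left _ _).trans (dvd_of_eq (card_mul_index (K.subgroupOf X))))
    rw [← card_mul_index L'] at htX
    refine ((hd t htρ).1.dvd_mul.1 htX).resolve_left fun h => htK ?_
    rw [Nat.card_congr hL'e.toEquiv, hLc] at h
    exact h.trans (hmn ▸ dvd_mul_right m n)

end CfsgLib.Char.ThreeChain
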