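import Cfsg.Agent.Lib.Char.SemiSpectrum
import Cfsg.Agent.Lib.Word.Suzuki

/-!
# Fixed vectors of Suzuki elements in the natural module, and the prime graph of `Fⁿ ⋊ Sz(q)`
-/

set_option autoImplicit false
set_option linter.unusedSectionVars false
set_option linter.style.haveILetI false

namespace CfsgLib.Char.SuzukiGraph

open Matrix Cfsg.Lie

variable {F : Type*} [Field F]

/-- The adjoint of a matrix for the form `altForm4`. -/
def adjJ (g : Matrix (Fin 4) (Fin 4) F) : Matrix (Fin 4) (Fin 4) F :=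
  Matrix.of fun i j => g (3 - j) (3 - i)

section sp

variable {g : GL (Fin 4) F}

theorem adjJ_mul (hg : g ∈ Sp4 F) : adjJ g.1 * g.1 = 1 := by
  ext i j
  have h := hg (Pi.single (3 - i) 1) (Pi.single j 1)
  simp only [Units.coeHom_apply, Matrix.mulVec_single_one, altForm4, Matrix.col_apply] at h
  simp only [Matrix.mul_apply, adjJ, Matrix.of_apply, Fin.sum_univ_four]
  fin_cases i <;> fin_cases j <;>
    simp [Pi.single_apply, Matrix.one_apply] at h ⊢ <;> linear_combination h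

theorem mul_adjJ (hg : g ∈ Sp4 F) : g.1 * adjJ g.1 = 1 :=
  mul_eq_one_comm.1 (adjJ_mul hg)

theorem inv_eq_adjJ (hg : g ∈ Sp4 F) : (g⁻¹).1 = adjJ g.1 := by
  have h1 : (g⁻¹).1 * g.1 = 1 := by rw [← Units.val_mul, inv_mul_cancel]; rfl
  calc (g⁻¹).1 = (g⁻¹).1 * (g.1 * adjJ g.1) := by rw [mul_adjJ hg, mul_one]
    _ = adjJ g.1 := by rw [← mul_assoc, h1, one_mul]

/-- The column relation. -/
theorem col_rel (hg : g ∈ Sp4 F) (i j : Fin 4) :
    g.1 0 i * g.1 3 j + g.1 1 i * g.1 2 j + g.1 2 i * g.1 1 j + g.1 3 i * g.1 0 j =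
      if i + j = 3 then 1 else 0 := by
  have h := congrFun (congrFun (adjJ_mul hg) (3 - i)) j
  simp only [Matrix.mul_apply, adjJ, Matrix.of_apply, Fin.sum_univ_four, Matrix.one_apply] at h
  rw [show (3 : Fin 4) - (3 - i) = i by simp] at h
  simp only [show (3 : Fin 4) - 0 = 3 by decide, show (3 : Fin 4) - 1 = 2 by decide,
    show (3 : Fin 4) - 2 = 1 by decide, show (3 : Fin 4) - 3 = 0 by decide] at h
  have hc : (3 - i = j) ↔ (i + j = 3) := by clear h; revert i j; decide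
  simp only [hc] at h
  linear_combination h

/-- The row relation. -/
theorem row_rel (hg : g ∈ Sp4 F) (k l : Fin 4) :
    g.1 k 0 * g.1 l 3 + g.1 k 1 * g.1 l 2 + g.1 k 2 * g.1 l 1 + g.1 k 3 * g.1 l 0 =
      if k + l = 3 then 1 else 0 := by
  have h := congrFun (congrFun (mul_adjJ hg) k) (3 - l)
  simp only [Matrix.mul_apply, adjJ, Matrix.of_apply, Fin.sum_univ_four, Matrix.one_apply] at h
  rw [show (3 : Fin 4) - (3 - l) = l by simp] at h
  simp only [show (3 : Fin 4) - 0 = 3 by decide, show (3 : Fin 4) - 1 = 2 by decide,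
    show (3 : Fin 4) - 2 = 1 by decide, show (3 : Fin 4) - 3 = 0 by decide] at h
  have hc : (k = 3 - l) ↔ (k + l = 3) := by clear h; revert k l; decide
  simp only [hc] at h
  linear_combination h

variable [CharP F 2]

theorem star4_mul {a b : GL (Fin 4) F} (ha : a ∈ Sp4 F) (hb : b ∈ Sp4 F) :
    star4 (a.1 * b.1) = star4 a.1 * star4 b.1 := by
  have h2 : (2 : F) = 0 := CharTwo.two_eq_zero
  ext p r
  have hp : (pairOf p).1 + (pairOf p).2 ≠ 3 := by revert p; decide
  have hr : (pairOf r).1 + (pairOf r).2 ≠ 3 := by revert r; decide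
  have hR := row_rel ha (pairOf p).1 (pairOf p).2
  have hC := col_rel hb (pairOf r).1 (pairOf r).2
  rw [if_neg hp] at hR
  rw [if_neg hr] at hC
  simp only [star4, Matrix.of_apply, Matrix.mul_apply, Fin.sum_univ_four]
  simp only [show pairOf 0 = (0, 1) from rfl, show pairOf 1 = (0, 2) from rfl,
    show pairOf 2 = (1, 3) from rfl, show pairOf 3 = (2, 3) from rfl]
  generalize (pairOf p).1 = k at hR ⊢
  generalize (pairOf p).2 = l at hR ⊢
  generalize (pairOf r).1 = i at hC ⊢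
  generalize (pairOf r).2 = j at hC ⊢
  grobner

end sp

section closure

variable [CharP F 2] {n : ℕ}

theorem sz_spec (g : GL (Fin 4) F) (hg : g ∈ Sz F (2 ^ n)) :
    g ∈ Sp4 F ∧ star4 g.1 = g.1.map (iterateFrobenius F 2 n) := by
  induction hg using Subgroup.closure_induction with
  | mem x hx => exact ⟨hx.1, hx.2⟩
  | one =>
    refine ⟨one_mem _, ?_⟩
    rw [Units.val_one, Matrix.map_one _ (map_zero _) (map_one _)]
    ext p r
    fin_cases p <;> fin_cases r <;> simp [star4, pairOf, Matrix.one_apply]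
  | mul a b _ _ ha hb =>
    refine ⟨mul_mem ha.1 hb.1, ?_⟩
    rw [Units.val_mul, star4_mul ha.1 hb.1, ha.2, hb.2, Matrix.map_mul]
  | inv a _ ha =>
    refine ⟨inv_mem ha.1, ?_⟩
    have hone : star4 (1 : Matrix (Fin 4) (Fin 4) F) = 1 := by
      ext p r
      fin_cases p <;> fin_cases r <;> simp [star4, pairOf, Matrix.one_apply]
    have h1 : star4 (a⁻¹).1 * star4 a.1 = 1 := by
      rw [← star4_mul (inv_mem ha.1) ha.1, ← Units.val_mul, inv_mul_cancel, Units.val_one, hone]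
    have h2 : a.1.map (iterateFrobenius F 2 n) * (a⁻¹).1.map (iterateFrobenius F 2 n) = 1 := by
      rw [← Matrix.map_mul, ← Units.val_mul, mul_inv_cancel, Units.val_one,
        Matrix.map_one _ (map_zero _) (map_one _)]
    rw [ha.2] at h1
    calc star4 (a⁻¹).1 = star4 (a⁻¹).1 * (a.1.map (iterateFrobenius F 2 n) * (a⁻¹).1.map (iterateFrobenius F 2 n)) := by
          rw [h2, mul_one]
      _ = _ := by rw [← mul_assoc, h1, one_mul]

/-- An element of the Suzuki group fixing a nonzero vector has order dividing `4`. -/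
theorem pow_four_of_fixed {g : GL (Fin 4) F} (hg : g ∈ Sz F (2 ^ n)) {v : Fin 4 → F}
    (hv : v ≠ 0) (hfix : g.1 *ᵥ v = v) : g ^ 4 = 1 := by
  obtain ⟨hsp, hstar⟩ := sz_spec g hg
  have hinv := inv_eq_adjJ hsp
  have h2 : (2 : F) = 0 := CharTwo.two_eq_zero
  set h := g.1 + (g⁻¹).1 with hh
  set s := g.1 0 0 + g.1 1 1 + g.1 2 2 + g.1 3 3 with hs
  set c := (g.1 0 0 + g.1 3 3) * (g.1 1 1 + g.1 2 2) + (g.1 0 1 + g.1 2 3) * (g.1 1 0 + g.1 3 2) +
    (g.1 0 2 + g.1 1 3) * (g.1 2 0 + g.1 3 1) with hc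
  have hquad : h * h + s • h + c • 1 = 0 := by
    rw [hh, hinv, hs, hc]
    generalize g.1 = A
    ext i j
    simp only [Matrix.add_apply, Matrix.mul_apply, Fin.sum_univ_four, Matrix.smul_apply, Matrix.one_apply,
      Matrix.zero_apply, adjJ, Matrix.of_apply, smul_eq_mul]
    fin_cases i <;> fin_cases j <;> simp <;> grobner
  have hfix' : (g⁻¹).1 *ᵥ v = v := by
    conv_lhs => rw [← hfix]
    rw [Matrix.mulVec_mulVec, ← Units.val_mul, inv_mul_cancel, Units.val_one, Matrix.one_mulVec]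
  have hker : h *ᵥ v = 0 := by
    rw [hh, Matrix.add_mulVec, hfix, hfix']
    exact funext fun i => CharTwo.add_self_eq_zero _
  have hc0 : c = 0 := by
    have := congrArg (fun M : Matrix (Fin 4) (Fin 4) F => M *ᵥ v) hquad
    simp only [Matrix.add_mulVec, Matrix.smul_mulVec, ← Matrix.mulVec_mulVec, hker, Matrix.mulVec_zero,
      smul_zero, zero_add, Matrix.one_mulVec, Matrix.zero_mulVec] at this
    exact (smul_eq_zero.1 this).resolve_right hv
  have htr : (iterateFrobenius F 2 n) s = c := by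
    rw [hs, map_add, map_add, map_add]
    have e : ∀ i, (iterateFrobenius F 2 n) (g.1 i i) = star4 g.1 i i := fun i => by
      rw [hstar]; rfl
    rw [e, e, e, e, hc]
    have r := row_rel hsp 0 3
    have q := col_rel hsp 0 3
    rw [if_pos (by decide)] at r q
    simp [star4, pairOf]
    grobner
  have hs0 : s = 0 := by
    apply (iterateFrobenius F 2 n).injective
    rw [htr, hc0, map_zero]
  rw [hs0, hc0, zero_smul, zero_smul, add_zero, add_zero] at hquad
  apply Units.ext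
  have hsq : g.1 * g.1 + (g⁻¹).1 * (g⁻¹).1 = 0 := by
    rw [← hquad, hh]
    have e1 : g.1 * (g⁻¹).1 = 1 := by rw [← Units.val_mul, mul_inv_cancel]; rfl
    have e2 : (g⁻¹).1 * g.1 = 1 := by rw [← Units.val_mul, inv_mul_cancel]; rfl
    rw [mul_add, add_mul, add_mul, e1, e2]
    have h11 : (1 : Matrix (Fin 4) (Fin 4) F) + 1 = 0 := by
      ext i j; simp [CharTwo.add_self_eq_zero]
    calc g.1 * g.1 + (g⁻¹).1 * (g⁻¹).1
        = g.1 * g.1 + (g⁻¹).1 * (g⁻¹).1 + (1 + 1) := by rw [h11, add_zero]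
      _ = _ := by abel
  have heq : g.1 * g.1 = (g⁻¹).1 * (g⁻¹).1 := by
    ext i j
    exact CharTwo.add_eq_zero.1 (congrFun (congrFun hsq i) j)
  calc ((g ^ 4 : GL (Fin 4) F)).1 = (g.1 * g.1) * (g.1 * g.1) := by
        rw [Units.val_pow_eq_pow_val]; noncomm_ring
    _ = (g.1 * g.1) * ((g⁻¹).1 * (g⁻¹).1) := by rw [← heq]
    _ = ((g * g * (g⁻¹ * g⁻¹) : GL (Fin 4) F)).1 := rfl
    _ = _ := by simp [mul_assoc]

end closure

section graph

variable {e : ℕ}

/-- The natural action. -/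
instance natAct : DistribMulAction ↥(Sz F e) (Fin 4 → F) where
  smul g v := g.1.1 *ᵥ v
  one_smul := Matrix.one_mulVec
  mul_smul g h v := (Matrix.mulVec_mulVec v g.1.1 h.1.1).symm
  smul_zero g := Matrix.mulVec_zero g.1.1
  smul_add g := Matrix.mulVec_add g.1.1

theorem natAct_apply (g : ↥(Sz F e)) (v : Fin 4 → F) : g • v = g.1.1 *ᵥ v := rfl

variable [Fintype F] [CharP F 2] {n : ℕ}

theorem two_dvd_card (hn : ∀ t : F, (t ^ 2 ^ n) ^ 2 ^ n = t ^ 2) : 2 ∣ Nat.card ↥(Sz F (2 ^ n)) := by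
  let x : ↥(Sz F (2 ^ n)) := ⟨_, CfsgLib.Word.Suzuki.Lu_mem (by positivity) (1 : F) (hn 1)⟩
  have hx : x ≠ 1 := fun h => by
    have := congrArg (fun y : ↥(Sz F (2 ^ n)) => y.1.1 1 0) h
    simp [x, CfsgLib.Word.Suzuki.Lu, CfsgLib.Word.Suzuki.Lm, CfsgLib.Word.Suzuki.tmpl] at this
  have hfix : x.1.1 *ᵥ (Pi.single 3 1) = Pi.single 3 1 := by
    funext i
    fin_cases i <;> simp [x, CfsgLib.Word.Suzuki.Lu, CfsgLib.Word.Suzuki.Lm, CfsgLib.Word.Suzuki.tmpl]
  have h4 : x ^ 4 = 1 := Subtype.ext (pow_four_of_fixed x.2 (by simp) hfix)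
  have hd : orderOf x ∣ 2 ^ 2 := orderOf_dvd_of_pow_eq_one h4
  obtain ⟨k, hk, hk'⟩ := (Nat.dvd_prime_pow Nat.prime_two).1 hd
  have hk0 : k ≠ 0 := fun h => hx (orderOf_eq_one_iff.1 (by rw [hk', h, pow_zero]))
  exact (dvd_pow_self 2 hk0).trans (hk' ▸ orderOf_dvd_natCard x)

/-- Large groups with the prime graph of the Suzuki group. -/
theorem unbounded_graph (hn : ∀ t : F, (t ^ 2 ^ n) ^ 2 ^ n = t ^ 2) (N : ℕ) :
    ∃ (H : Type) (_ : Group H) (_ : Fintype H), N < Fintype.card H ∧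
      ((∀ r : ℕ, r.Prime → (r ∣ Nat.card ↥(Sz F (2 ^ n)) ↔ r ∣ Nat.card H)) ∧
      (∀ r s : ℕ, r.Prime → s.Prime → r ≠ s →
        ((∃ x : ↥(Sz F (2 ^ n)), orderOf x = r * s) ↔ (∃ y : H, orderOf y = r * s)))) := by
  classical
  let V := Fin (N + 1) → Fin 4 → F
  let G := Semi ↥(Sz F (2 ^ n)) V
  haveI : Finite G := Finite.of_injective (fun x => (x.left.toAdd, x.right)) fun a b hab => by
    rw [semiPair_eta a, semiPair_eta b, (Prod.mk.inj hab).1, (Prod.mk.inj hab).2]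
  letI : Fintype (Shrink.{0} G) := Fintype.ofFinite _
  let φ : Shrink.{0} G ≃* G := Shrink.mulEquiv
  have hcard : Nat.card (Shrink.{0} G) = Nat.card V * Nat.card ↥(Sz F (2 ^ n)) := by
    rw [Nat.card_congr φ.toEquiv, SemidirectProduct.card, Nat.card_congr Multiplicative.toAdd]
  have h2 : ∀ v : V, addOrderOf v ∣ 2 := fun v => addOrderOf_dvd_of_nsmul_eq_zero <| by
    funext i j
    show (2 : ℕ) • v i j = 0
    rw [two_nsmul, CharTwo.add_self_eq_zero]
  refine ⟨Shrink.{0} G, inferInstance, inferInstance, ?_, fun r hr => ?_, fun r s hr hs hrs => ?_⟩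
  · rw [← Nat.card_eq_fintype_card, hcard]
    calc N < N + 1 := Nat.lt_succ_self N
      _ < 2 ^ (N + 1) := Nat.lt_pow_self (by norm_num)
      _ ≤ Nat.card (Fin 4 → F) ^ (N + 1) := Nat.pow_le_pow_left Finite.one_lt_card _
      _ = Nat.card V := by rw [Nat.card_fun (α := Fin (N + 1)), Nat.card_fin]
      _ ≤ _ := Nat.le_mul_of_pos_right _ Nat.card_pos
  · rw [hcard]
    refine ⟨fun h => h.mul_left _, fun h => (hr.dvd_mul.1 h).elim (fun h1 => ?_) id⟩
    have : Fact r.Prime := ⟨hr⟩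
    obtain ⟨v, hv⟩ := exists_prime_addOrderOf_dvd_card' r h1
    rw [(Nat.prime_dvd_prime_iff_eq hr Nat.prime_two).1 (hv ▸ h2 v)]
    exact two_dvd_card hn
  constructor
  · rintro ⟨x, hx⟩
    refine ⟨φ.symm (SemidirectProduct.inr x), ?_⟩
    rw [MulEquiv.orderOf_eq, orderOf_injective (SemidirectProduct.inr : ↥(Sz F (2 ^ n)) →* G)
      SemidirectProduct.inr_injective, hx]
  rintro ⟨y, hy⟩
  rw [← φ.orderOf_eq, semiPair_eta (φ y)] at hy
  generalize (φ y).left.toAdd = v at hy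
  generalize (φ y).right = g at hy
  rw [orderOf_semiPair] at hy
  set S := ∑ i ∈ Finset.range (orderOf g), g ^ i • v with hS
  rcases (Nat.dvd_prime Nat.prime_two).1 (h2 S) with h1 | h1 <;> rw [h1] at hy
  · exact ⟨g, by rw [mul_one] at hy; exact hy⟩
  exfalso
  have hS0 : S ≠ 0 := fun h => by rw [h, addOrderOf_zero] at h1; omega
  obtain ⟨i, hi⟩ := Function.ne_iff.1 hS0
  have hfix : g.1.1 *ᵥ S i = S i := congrFun (smul_geom_sum_smul v g) i
  have h4 : orderOf g ∣ 2 ^ 2 :=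
    orderOf_dvd_of_pow_eq_one (Subtype.ext (pow_four_of_fixed g.2 hi hfix) : g ^ 4 = 1)
  have hd : r * s ∣ 2 ^ 3 := hy ▸ (Nat.mul_dvd_mul h4 (dvd_refl 2))
  have er := (Nat.prime_dvd_prime_iff_eq hr Nat.prime_two).1 (hr.dvd_of_dvd_pow ((dvd_mul_right r s).trans hd))
  have es := (Nat.prime_dvd_prime_iff_eq hs Nat.prime_two).1 (hs.dvd_of_dvd_pow ((dvd_mul_left s r).trans hd))
  omega

end graph

end CfsgLib.Char.SuzukiGraph
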