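import Cfsg.Agent.Lib.Char.Correspondence

/-!
# Induction from a normal subgroup with abelian inertia quotient
-/

set_option autoImplicit false
set_option linter.unusedSectionVars false

namespace CfsgLib.Char

open scoped ComplexConjugate
open Representation Module Cfsg

universe u

variable {G : Type u} [Group G] [Fintype G] (N : Subgroup G) [hN : N.Normal] [Fintype N]

theorem abelian_inertia_decomp {θ : N → ℂ} (hθ : IsIrrCharacter N θ)
    (hab : ∀ x ∈ inertia N θ, ∀ y ∈ inertia N θ, x * y * x⁻¹ * y⁻¹ ∈ N) :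
    ∃ (e : ℕ) (C : Finset (G → ℂ)), 0 < e ∧ (∀ χ ∈ C, IsIrrCharacter G χ) ∧
      e ^ 2 * C.card = N.relIndex (inertia N θ) ∧ indFun N θ = (e : ℂ) • ∑ χ ∈ C, χ ∧
      (∀ χ ∈ C, χ 1 = ((inertia N θ).index : ℂ) * e * θ 1) ∧
      (Nat.Coprime (Nat.card N) (N.relIndex (inertia N θ)) → e = 1) := by
  classical
  have hNT : N ≤ inertia N θ :=
    le_inertia N (isClassFunction_of_isCharacter (isCharacter_of_isIrr hθ))
  have := Fintype.ofFinite (inertia N θ)
  have := Fintype.ofFinite (N.subgroupOf (inertia N θ))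
  have hθ' := isIrrCharacter_subOfFun N hNT hθ
  have hinv := conjFun_subOfFun N (θ := θ) (T := inertia N θ) le_rfl
  obtain ⟨e, C, he, hexp, hcard, hmem, hC⟩ := invariant_abelian_decomp
    (N.subgroupOf (inertia N θ)) hθ' hinv fun x y => hab x x.2 y y.2
  have hne : ∀ ψ ∈ C, classInner (fun n : N => (ψ : inertia N θ → ℂ) (Subgroup.inclusion hNT n)) θ ≠ 0 :=
    fun ψ hψ => by rw [← classInner_subOfFun N hNT]; exact (hmem ψ).mp hψ
  have hinj : Set.InjOn (fun ψ : IrrCharacter (inertia N θ) =>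
      indFun (inertia N θ) (ψ : inertia N θ → ℂ)) C :=
    fun ψ hψ ψ' hψ' h => correspondence_injective N hθ hNT ψ ψ' (hne ψ hψ) (hne ψ' hψ') h
  refine ⟨e, C.image fun ψ : IrrCharacter (inertia N θ) => indFun (inertia N θ) (ψ : inertia N θ → ℂ), he, fun χ hχ => ?_, ?_, ?_,
    fun χ hχ => ?_, fun hcop => ?_⟩
  · obtain ⟨ψ, hψ, rfl⟩ := Finset.mem_image.mp hχ
    exact (correspondence_irr N hθ hNT ψ (hne ψ hψ)).1
  · rw [Finset.card_image_of_injOn hinj]
    exact hcard
  · rw [Finset.sum_image hinj, ← indFun_sum, ← indFun_smul, ← hexp]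
    exact (indFun_trans N (inertia N θ) hNT θ).symm
  · obtain ⟨ψ, hψ, rfl⟩ := Finset.mem_image.mp hχ
    rw [indFun_one, (hC ψ hψ).1, mul_assoc]
    rfl
  · obtain ⟨m, ρ, hρ, hρe⟩ := hθ'
    have hdvd : m * orderOf (detHom ρ) ∣
        Nat.card (N.subgroupOf (inertia N θ)) * Nat.card (N.subgroupOf (inertia N θ)) := by
      refine Nat.mul_dvd_mul ?_ (orderOf_dvd_of_pow_eq_one (MonoidHom.ext fun n => ?_))
      · have h := degree_dvd_card ⟨_, m, ρ, hρ, rfl⟩ (Representation.char_one ρ)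
        rwa [Module.finrank_fin_fun] at h
      · rw [MonoidHom.pow_apply, ← map_pow, pow_card_eq_one', map_one, MonoidHom.one_apply]
    have hc : Nat.Coprime (N.subgroupOf (inertia N θ)).index (m * orderOf (detHom ρ)) := by
      refine Nat.Coprime.coprime_dvd_right hdvd ?_
      rw [Nat.card_congr (Subgroup.subgroupOfEquivOfLe hNT).toEquiv]
      exact hcop.symm.mul_right hcop.symm
    obtain ⟨σ, hσ⟩ := extends_of_sylow (N.subgroupOf (inertia N θ)) ρ
      (fun g n => by
        have h := congrFun (hinv g) n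
        rw [← hρe] at h
        exact h)
      fun p hp h1 h2 => (hp.one_lt.ne' (Nat.dvd_one.mp (hc.gcd_eq_one ▸ Nat.dvd_gcd h1 h2))).elim
    let ψ : IrrCharacter (inertia N θ) :=
      ⟨σ.character, isIrrCharacter_of_extends _ ρ hσ⟩
    have h1 : classInner (fun n : N.subgroupOf (inertia N θ) => (ψ : inertia N θ → ℂ) n)
        (subOfFun N θ) = 1 := by
      rw [show (fun n : N.subgroupOf (inertia N θ) => (ψ : inertia N θ → ℂ) n) = subOfFun N θ from
        funext fun n => (congrArg (LinearMap.trace ℂ _) (hσ n)).trans (congrFun hρe n)]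
      exact classInner_irr_self ⟨_, m, ρ, hρ, hρe⟩
    have h2 := (hC ψ ((hmem ψ).mpr (by rw [h1]; exact one_ne_zero))).2
    rw [h1] at h2
    exact_mod_cast h2.symm

end CfsgLib.Char
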