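/-
Feit–Thompson: degree bounds from an abelian subgroup `H` with `H ∩ Z(G) = 1` such that the
centralizer of a non-central element meets at most one conjugate of `H` non-trivially.
-/
import Cfsg.Agent.Lib.Char.Orthogonality
import Cfsg.Agent.Lib.Char.Scalar
import Cfsg.Agent.Lib.Char.Linear
import Cfsg.Agent.Lib.Char.Integrality
import Cfsg.Agent.Lib.Invol.PrincipalBlock

set_option autoImplicit false

open Cfsg
open scoped ComplexConjugate

namespace CfsgLib.Char.AbelianTIBound

universe u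

variable {G : Type u} [Group G] [Fintype G]

/-- An irreducible character that is not trivial on a subgroup `K` normal in the group has
average zero on each coset of `K`. -/
theorem sum_coset_eq_zero {N : Type u} [Group N] [Finite N] (K : Subgroup N) [K.Normal] [Fintype K]
    (θ : IrrCharacter N) (hk : ∃ k ∈ K, (θ : N → ℂ) k ≠ (θ : N → ℂ) 1) (x : N) :
    ∑ a : K, (θ : N → ℂ) (x * a) = 0 := by
  obtain ⟨θ, n, ρ, hρ, rfl⟩ := θ
  obtain ⟨k, hkK, hk⟩ := hk
  haveI := hρ
  let T : (Fin n → ℂ) →ₗ[ℂ] (Fin n → ℂ) := ∑ a : K, ρ (a : N)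
  obtain ⟨c, hc⟩ := schur_scalar ρ T fun y => by
    simp only [T, Finset.sum_mul, Finset.mul_sum, ← map_mul]
    let e : K → K := fun a => ⟨y⁻¹ * a * y, by
      have := (inferInstance : K.Normal).conj_mem a a.2 y⁻¹; rwa [inv_inv] at this⟩
    have he : Function.Bijective e := Finite.injective_iff_bijective.1 fun a b h => Subtype.ext
      (mul_left_cancel (mul_right_cancel (congrArg Subtype.val h)))
    refine (Fintype.sum_bijective e he _ _ fun a => ?_)
    congr 1
    show (a : N) * y = y * (y⁻¹ * a * y)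
    group
  have hfix : ρ k * T = T := by
    simp only [T, Finset.mul_sum, ← map_mul]
    exact Fintype.sum_equiv (Equiv.mulLeft (⟨k, hkK⟩ : K)) _ _ fun a => rfl
  have hc0 : c = 0 := by
    by_contra hc0
    refine hk ?_
    have h1 : ρ k = LinearMap.id := by
      rw [hc] at hfix
      refine smul_right_injective _ hc0 ?_
      show c • ρ k = c • LinearMap.id
      conv_rhs => rw [← hfix]
      ext v
      simp [Module.End.mul_apply]
    show ρ.character k = ρ.character 1
    rw [Representation.char_one, (char_eq_degree_iff ρ k).2 h1]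
  show ∑ a : K, LinearMap.trace ℂ (Fin n → ℂ) (ρ (x * a)) = 0
  simp only [map_mul, ← map_sum, ← Finset.mul_sum]
  rw [show (∑ a : K, ρ (a : N)) = T from rfl, hc, hc0, zero_smul, mul_zero, map_zero]

section

variable {H : Subgroup G} [Fintype H]

variable (H) in
/-- The average of a function over the left coset of `H`. -/
noncomputable def avg (f : G → ℂ) (x : G) : ℂ :=
  (Nat.card H : ℂ)⁻¹ * ∑ a : H, f (x * a)

theorem card_ne : (Nat.card H : ℂ) ≠ 0 := by exact_mod_cast Nat.card_pos.ne'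

theorem avg_mul (f : G → ℂ) (x : G) (a : H) : avg H f (x * a) = avg H f x := by
  simp only [avg]
  congr 1
  exact Fintype.sum_equiv (Equiv.mulLeft a) _ _ fun b => by simp [mul_assoc]

theorem avg_one (f : G → ℂ) : avg H f 1 = classInner (fun h : H => f h) (fun _ => 1) := by
  simp [avg, classInner]

/-- `χ(1)² > |H| m²` where `m` is the multiplicity of the principal character in `χ_H`. -/
theorem degree_sq_gt (hab : ∀ a ∈ H, ∀ b ∈ H, a * b = b * a) (hZ : H ⊓ Subgroup.center G = ⊥)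
    (hone : ∀ g : G, g ∉ Subgroup.center G → ∀ a b : G,
      Subgroup.centralizer ({g} : Set G) ⊓ H.map (MulAut.conj a).toMonoidHom ≠ ⊥ →
      Subgroup.centralizer ({g} : Set G) ⊓ H.map (MulAut.conj b).toMonoidHom ≠ ⊥ →
      H.map (MulAut.conj a).toMonoidHom = H.map (MulAut.conj b).toMonoidHom)
    (χ : IrrCharacter G) (hker : ∃ h ∈ H, (χ : G → ℂ) h ≠ (χ : G → ℂ) 1) :
    (Nat.card H : ℝ) * ‖classInner (fun h : H => (χ : G → ℂ) h) (fun _ => 1)‖ ^ 2 <
      ((χ : G → ℂ) 1).re ^ 2 := by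
  classical
  rw [← avg_one]
  obtain ⟨k, hkH, hk⟩ := hker
  let N : Subgroup G := Subgroup.normalizer (H : Set G)
  let H' : Subgroup N := H.subgroupOf N
  haveI : H'.Normal := Subgroup.normal_in_normalizer
  have hHN : H ≤ N := Subgroup.le_normalizer
  let eH : H' ≃ H := (Subgroup.subgroupOfEquivOfLe hHN).toEquiv
  have hcl := isClassFunction_irr χ
  let φ : N → ℂ := fun x => (χ : G → ℂ) x
  let ψ : N → ℂ := fun x => avg H (χ : G → ℂ) x
  have hNmem : ∀ x : N, ∀ a ∈ H, (x : G) * a * (x : G)⁻¹ ∈ H := fun x a ha =>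
    (Subgroup.mem_normalizer_iff.1 x.2 a).1 ha
  -- a constituent of the restriction which is not trivial on `H`
  have hφchar : IsCharacter N φ := isCharacter_comp (isCharacter_irr χ) N.subtype
  haveI := Fintype.ofFinite (IrrCharacter N)
  obtain ⟨θ, hθne, hθk⟩ : ∃ θ : IrrCharacter N, classInner φ θ ≠ 0 ∧
      ∃ y ∈ H', (θ : N → ℂ) y ≠ (θ : N → ℂ) 1 := by
    by_contra hh
    refine hk ?_
    have hexp := classFun_expand (isClassFunction_of_isCharacter hφchar)
    show φ ⟨k, hHN hkH⟩ = φ 1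
    rw [hexp]
    simp only [Finset.sum_apply, Pi.smul_apply, smul_eq_mul]
    refine Finset.sum_congr rfl fun θ _ => ?_
    by_cases h0 : classInner φ θ = 0
    · rw [h0, zero_mul, zero_mul]
    · congr 1
      by_contra hne
      exact hh ⟨θ, h0, ⟨k, hHN hkH⟩, Subgroup.mem_subgroupOf.2 hkH, hne⟩
  -- orthogonality relations
  have hshift : ∀ f : N → ℂ, ∀ a : H, ∑ x : N, f x = ∑ x : N, f (x * ⟨a, hHN a.2⟩) := fun f a =>
    (Fintype.sum_equiv (Equiv.mulRight (⟨a, hHN a.2⟩ : N)) _ _ fun x => rfl).symm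
  have horth : ∑ x : N, φ x * conj (ψ x) = ∑ x : N, ψ x * conj (ψ x) := by
    have h1 : ∀ a : H, ∑ x : N, φ x * conj (ψ x) =
        ∑ x : N, (χ : G → ℂ) ((x : G) * a) * conj (ψ x) := fun a => by
      rw [hshift _ a]
      refine Finset.sum_congr rfl fun x _ => ?_
      simp only [φ, ψ, Subgroup.coe_mul, avg_mul]
    have h2 : ∑ _a : H, ∑ x : N, φ x * conj (ψ x) =
        ∑ a : H, ∑ x : N, (χ : G → ℂ) ((x : G) * a) * conj (ψ x) :=
      Finset.sum_congr rfl fun a _ => h1 a
    rw [Finset.sum_const, Finset.card_univ, ← Nat.card_eq_fintype_card, nsmul_eq_mul,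
      Finset.sum_comm] at h2
    rw [eq_comm, ← mul_right_inj' (card_ne (H := H)), h2, Finset.mul_sum]
    refine Finset.sum_congr rfl fun x _ => ?_
    rw [← Finset.sum_mul]
    simp only [ψ, avg]
    rw [← mul_assoc, ← mul_assoc (Nat.card H : ℂ), mul_inv_cancel₀ (card_ne (H := H)), one_mul]
  have hψθ : classInner ψ (θ : N → ℂ) = 0 := by
    have h1 : ∑ x : N, ψ x * conj ((θ : N → ℂ) x) = 0 := by
      simp only [ψ, avg, mul_assoc, ← Finset.mul_sum, Finset.sum_mul]
      refine mul_eq_zero_of_right _ ?_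
      rw [Finset.sum_comm]
      have h2 : ∀ a : H, ∑ x : N, (χ : G → ℂ) ((x : G) * a) * conj ((θ : N → ℂ) x) =
          ∑ x : N, φ x * conj ((θ : N → ℂ) (x * ⟨(a : G)⁻¹, hHN (inv_mem a.2)⟩)) := fun a => by
        rw [hshift (fun x => φ x * conj ((θ : N → ℂ) (x * ⟨(a : G)⁻¹, hHN (inv_mem a.2)⟩))) a]
        refine Finset.sum_congr rfl fun x _ => ?_
        rw [show (x * ⟨(a : G), hHN a.2⟩ : N) * ⟨(a : G)⁻¹, hHN (inv_mem a.2)⟩ = x from
          Subtype.ext (by simp)]
        rfl
      rw [Finset.sum_congr rfl fun a _ => h2 a, Finset.sum_comm]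
      refine Finset.sum_eq_zero fun x _ => ?_
      rw [← Finset.mul_sum, ← map_sum, ← Fintype.sum_equiv ((Equiv.inv H').trans eH)
        (fun y : H' => (θ : N → ℂ) (x * y)) _ fun y => ?_, sum_coset_eq_zero H' θ hθk x, map_zero,
        mul_zero]
      refine congrArg (θ : N → ℂ) (Subtype.ext ?_)
      simp [eH, Subgroup.subgroupOfEquivOfLe]
    rw [classInner, h1, mul_zero]
  -- the norm of `χ - ψ` on `N` is at least one
  have hnorm : (Nat.card N : ℝ) + ∑ x : N, ‖ψ x‖ ^ 2 ≤ ∑ x : N, ‖φ x‖ ^ 2 := by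
    obtain ⟨e, he⟩ := classInner_char_irr_nat hφchar θ
    have he1 : 1 ≤ e := by
      rcases Nat.eq_zero_or_pos e with rfl | h
      · exact absurd (by simpa using he) hθne
      · exact h
    have hN0 : (Nat.card N : ℂ) ≠ 0 := by exact_mod_cast Nat.card_pos.ne'
    have hφψ : classInner φ ψ = classInner ψ ψ := by simp only [classInner, horth]
    have hψφ : classInner ψ φ = classInner ψ ψ := by
      rw [← classInner_conj φ ψ, hφψ, classInner_conj]
    have hθψ : classInner (θ : N → ℂ) ψ = 0 := by rw [← classInner_conj ψ, hψθ, map_zero]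
    have hθφ : classInner (θ : N → ℂ) φ = (e : ℂ) := by rw [← classInner_conj φ, he, map_natCast]
    have key : classInner (φ - ψ - (e : ℂ) • (θ : N → ℂ)) (φ - ψ - (e : ℂ) • (θ : N → ℂ)) =
        classInner φ φ - classInner ψ ψ - (e : ℂ) ^ 2 := by
      simp only [classInner_sub_left, classInner_sub_right, classInner_smul_left,
        classInner_smul_right, hφψ, hψφ, hψθ, hθψ, hθφ, he, classInner_irr_self, map_natCast]
      ring
    rw [classInner_self, classInner_self, classInner_self] at key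
    have key' := congrArg Complex.re key
    simp only [Complex.ofReal_re, Complex.sub_re, ← Nat.cast_pow, Complex.natCast_re] at key'
    have hpos : 0 ≤ (Nat.card N : ℝ)⁻¹ *
        ∑ g : N, ‖(φ - ψ - (e : ℂ) • (θ : N → ℂ)) g‖ ^ 2 := by positivity
    have he2 : (1 : ℝ) ≤ ((e ^ 2 : ℕ) : ℝ) := by exact_mod_cast Nat.one_le_pow _ _ he1
    rw [key', ← mul_sub] at hpos
    have hc : (0 : ℝ) < Nat.card N := by exact_mod_cast Nat.card_pos
    have h3 : 1 ≤ (Nat.card N : ℝ)⁻¹ * (∑ g : N, ‖φ g‖ ^ 2 - ∑ g : N, ‖ψ g‖ ^ 2) := by linarith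
    rw [inv_mul_eq_div, le_div_iff₀ hc, one_mul] at h3
    linarith
  -- the exceptional elements
  let Z := Subgroup.center G
  have hZN : Z ≤ N := fun z hz => Subgroup.mem_normalizer_iff.2 fun a => by
    rw [(Subgroup.mem_center_iff.1 hz a).symm, mul_inv_cancel_right]
  let E : N → Prop := fun x => (x : G) ∈ Z ∨ ∃ a ∈ H, a ≠ 1 ∧ a * (x : G) = (x : G) * a
  have hψout : ∀ x : N, ¬ E x → φ x = ψ x := by
    intro x hx
    let d : H → H := fun a => ⟨(x : G)⁻¹ * a * x * (a : G)⁻¹, mul_mem (by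
      simpa using hNmem x⁻¹ a a.2) (inv_mem a.2)⟩
    have hcomm : ∀ u v : H, (u : G) * v = v * u := fun u v => hab u u.2 v v.2
    have hd : Function.Bijective d := Finite.injective_iff_bijective.1 fun a b h => by
      by_contra hne
      refine hx (Or.inr ⟨(b : G)⁻¹ * a, mul_mem (inv_mem b.2) a.2, fun e => hne (Subtype.ext
        (inv_mul_eq_one.1 e).symm), ?_⟩)
      have h1 : (x : G)⁻¹ * a * x * (a : G)⁻¹ = (x : G)⁻¹ * b * x * (b : G)⁻¹ :=
        congrArg Subtype.val h
      rw [mul_inv_eq_iff_eq_mul] at h1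
      have h3 : (x : G)⁻¹ * ((b : G)⁻¹ * a) * x = (b : G)⁻¹ * a := by
        calc (x : G)⁻¹ * ((b : G)⁻¹ * a) * x
            = ((x : G)⁻¹ * b * x)⁻¹ * ((x : G)⁻¹ * a * x) := by group
          _ = (b : G)⁻¹ * a := by rw [h1]; group
      conv_rhs => rw [← h3]
      group
    have h1 : ∀ a : H, φ x = (χ : G → ℂ) ((x : G) * (d a : G)) := fun a => by
      show (χ : G → ℂ) x = _
      rw [← hcl x (a : G)]
      congr 1
      simp only [d]
      group
    have h2 : ∑ _a : H, φ x = ∑ b : H, (χ : G → ℂ) ((x : G) * b) :=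
      Fintype.sum_bijective d hd _ _ h1
    rw [Finset.sum_const, Finset.card_univ, ← Nat.card_eq_fintype_card, nsmul_eq_mul] at h2
    simp only [ψ, avg]
    rw [← h2, ← mul_assoc, inv_mul_cancel₀ (card_ne (H := H)), one_mul]
  -- central elements act by scalars
  set m := avg H (χ : G → ℂ) 1
  set d1 := ((χ : G → ℂ) 1).re
  obtain ⟨n, ρ, hρ, hχρ⟩ := χ.2
  haveI := hρ
  have hdeg : (χ : G → ℂ) 1 = (n : ℂ) := by rw [← hχρ, Representation.char_one, Module.finrank_fin_fun]
  have hd1 : d1 = n := by simp only [d1, hdeg, Complex.natCast_re]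
  have hn : 0 < n := by
    have := finrank_pos_of_irreducible ρ
    rwa [Module.finrank_fin_fun] at this
  have hscal : ∀ z ∈ Z, ∃ c : ℂ, ‖c‖ = 1 ∧ ∀ y : G, (χ : G → ℂ) (z * y) = c * (χ : G → ℂ) y := by
    intro z hz
    obtain ⟨c, hc⟩ := exists_scalar_of_mem_center ρ hz
    have h1 : ∀ y : G, (χ : G → ℂ) (z * y) = c * (χ : G → ℂ) y := fun y => by
      rw [← hχρ]
      show LinearMap.trace ℂ _ (ρ (z * y)) = c * LinearMap.trace ℂ _ (ρ y)
      rw [map_mul, hc, Module.End.mul_eq_comp, LinearMap.smul_comp, LinearMap.id_comp, map_smul,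
        smul_eq_mul]
    refine ⟨c, ?_, h1⟩
    have hnt := nontrivial_of_irreducible ρ
    obtain ⟨v, hv⟩ := exists_ne (0 : Fin n → ℂ)
    refine norm_eq_one_of_pow_eq_one' (orderOf_pos z).ne' (smul_left_injective ℂ hv ?_)
    show c ^ orderOf z • v = (1 : ℂ) • v
    have h2 := rho_pow_orderOf ρ z
    rw [hc, smul_pow, ← Module.End.one_eq_id, one_pow] at h2
    simpa using LinearMap.congr_fun h2 v
  -- the sum over the exceptional non-central elements
  let D : Finset G := Finset.univ.filter fun g => g ∈ N ∧ g ∉ Z ∧ ∃ a ∈ H, a ≠ 1 ∧ a * g = g * a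
  have hbound : (Fintype.card G : ℝ) * ∑ g ∈ D, ‖(χ : G → ℂ) g‖ ^ 2 ≤
      (Nat.card N : ℝ) * ((Fintype.card G : ℝ) - (Nat.card Z : ℝ) * d1 ^ 2) := by
    have h1 : ∀ x : G, ∑ g ∈ D, ‖(χ : G → ℂ) g‖ ^ 2 =
        ∑ g : G, if x⁻¹ * g * x ∈ D then ‖(χ : G → ℂ) g‖ ^ 2 else 0 := fun x => by
      rw [← Finset.sum_filter]
      refine Finset.sum_bij' (fun g _ => x * g * x⁻¹) (fun g _ => x⁻¹ * g * x) ?_ ?_ ?_ ?_ ?_
      · intro g hg; simp only [Finset.mem_filter, Finset.mem_univ, true_and]; convert hg using 1; group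
      · intro g hg; exact (Finset.mem_filter.1 hg).2
      · intro g _; group
      · intro g _; group
      · intro g _; rw [hcl g x]
    have h2 : (Fintype.card G : ℝ) * ∑ g ∈ D, ‖(χ : G → ℂ) g‖ ^ 2 =
        ∑ g : G, ∑ x : G, if x⁻¹ * g * x ∈ D then ‖(χ : G → ℂ) g‖ ^ 2 else 0 := by
      rw [Finset.sum_comm, ← Finset.sum_congr rfl fun x _ => h1 x, Finset.sum_const,
        Finset.card_univ, nsmul_eq_mul]
    have h3 : ∀ g : G, ∑ x : G, (if x⁻¹ * g * x ∈ D then ‖(χ : G → ℂ) g‖ ^ 2 else 0) ≤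
        (Nat.card N : ℝ) * (if g ∈ Z then 0 else ‖(χ : G → ℂ) g‖ ^ 2) := by
      intro g
      rw [← Finset.sum_filter, Finset.sum_const, nsmul_eq_mul]
      by_cases hg : g ∈ Z
      · rw [if_pos hg, mul_zero, Finset.card_eq_zero.2 ?_, Nat.cast_zero, zero_mul]
        refine Finset.filter_eq_empty_iff.2 fun x _ hx => ?_
        simp only [D, Finset.mem_filter] at hx
        exact hx.2.2.1 (by rwa [show x⁻¹ * g * x = g by
          rw [mul_assoc, ← Subgroup.mem_center_iff.1 hg x, inv_mul_cancel_left]])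
      rw [if_neg hg]
      refine mul_le_mul_of_nonneg_right ?_ (by positivity)
      rcases (Finset.univ.filter fun x => x⁻¹ * g * x ∈ D).eq_empty_or_nonempty with h | ⟨x₀, hx₀⟩
      · simp [h]
      have hconj : ∀ x, x⁻¹ * g * x ∈ D →
          Subgroup.centralizer ({g} : Set G) ⊓ H.map (MulAut.conj x).toMonoidHom ≠ ⊥ := by
        intro x hx hbot
        simp only [D, Finset.mem_filter] at hx
        obtain ⟨a, haH, ha1, hag⟩ := hx.2.2.2
        refine ha1 ?_
        have h4 : x * a * x⁻¹ ∈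
            Subgroup.centralizer ({g} : Set G) ⊓ H.map (MulAut.conj x).toMonoidHom := by
          refine ⟨?_, a, haH, rfl⟩
          show x * a * x⁻¹ ∈ Subgroup.centralizer ({g} : Set G)
          rw [Subgroup.mem_centralizer_singleton_iff]
          symm
          calc g * (x * a * x⁻¹) = x * ((x⁻¹ * g * x) * a) * x⁻¹ := by group
            _ = x * (a * (x⁻¹ * g * x)) * x⁻¹ := by rw [hag]
            _ = x * a * x⁻¹ * g := by group
        rw [hbot, Subgroup.mem_bot] at h4
        exact conj_eq_one_iff.1 h4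
      have h5 : (Finset.univ.filter fun x => x⁻¹ * g * x ∈ D) ⊆
          Finset.univ.map ⟨fun y : N => x₀ * (y : G), fun y z h =>
            Subtype.ext (mul_left_cancel h)⟩ := by
        intro x hx
        rw [Finset.mem_filter] at hx hx₀
        have h6 := hone g hg x₀ x (hconj x₀ hx₀.2) (hconj x hx.2)
        refine Finset.mem_map.2 ⟨⟨x₀⁻¹ * x, Subgroup.mem_normalizer_iff.2 fun a => ?_⟩,
          Finset.mem_univ _, mul_inv_cancel_left x₀ x⟩
        have hm : ∀ (y u : G), u ∈ H.map (MulAut.conj y).toMonoidHom ↔ y⁻¹ * u * y ∈ H := by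
          intro y u
          rw [Subgroup.mem_map_equiv]
          simp [MulAut.conj_symm_apply]
        have h7 := SetLike.ext_iff.1 h6 (x * a * x⁻¹)
        rw [hm, hm, show x⁻¹ * (x * a * x⁻¹) * x = a by group] at h7
        rw [← h7]
        apply iff_of_eq
        congr 1
        group
      have h8 := Finset.card_le_card h5
      rw [Finset.card_map, Finset.card_univ, ← Nat.card_eq_fintype_card] at h8
      exact_mod_cast h8
    have h9 : ∑ g : G, (if g ∈ Z then (0 : ℝ) else ‖(χ : G → ℂ) g‖ ^ 2) =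
        (Fintype.card G : ℝ) - (Nat.card Z : ℝ) * d1 ^ 2 := by
      have h10 := classInner_irr_self χ
      rw [classInner_self, Complex.ofReal_eq_one, inv_mul_eq_div,
        div_eq_one_iff_eq (by exact_mod_cast Nat.card_pos.ne')] at h10
      have h11 : ∑ g : G, (if g ∈ Z then ‖(χ : G → ℂ) g‖ ^ 2 else 0) =
          (Nat.card Z : ℝ) * d1 ^ 2 := by
        rw [← Finset.sum_filter, Finset.sum_congr rfl fun g hg => show ‖(χ : G → ℂ) g‖ ^ 2 = d1 ^ 2 by
          obtain ⟨c, hc, hcy⟩ := hscal g (Finset.mem_filter.1 hg).2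
          have := hcy 1
          rw [mul_one] at this
          rw [this, norm_mul, hc, one_mul, hdeg, hd1, Complex.norm_natCast],
          Finset.sum_const, nsmul_eq_mul]
        congr 2
        rw [Nat.card_eq_fintype_card, Fintype.card_subtype]
      have h12 : ∑ g : G, (if g ∈ Z then (0 : ℝ) else ‖(χ : G → ℂ) g‖ ^ 2) +
          ∑ g : G, (if g ∈ Z then ‖(χ : G → ℂ) g‖ ^ 2 else 0) =
          ∑ g : G, ‖(χ : G → ℂ) g‖ ^ 2 := by
        rw [← Finset.sum_add_distrib]
        exact Finset.sum_congr rfl fun g _ => by split <;> simp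
      rw [h11, h10, Nat.card_eq_fintype_card (α := G)] at h12
      linarith
    rw [h2]
    refine (Finset.sum_le_sum fun g _ => h3 g).trans ?_
    rw [← Finset.mul_sum, h9]
  -- compare
  have hmain : (Nat.card N : ℝ) + (Nat.card H : ℝ) * (Nat.card Z : ℝ) * ‖m‖ ^ 2 ≤
      ∑ g ∈ D, ‖(χ : G → ℂ) g‖ ^ 2 + (Nat.card Z : ℝ) * d1 ^ 2 := by
    have h1 : ∑ x : N, (if E x then ‖ψ x‖ ^ 2 else 0) + (Nat.card N : ℝ) ≤
        ∑ x : N, (if E x then ‖φ x‖ ^ 2 else 0) := by
      have h2 : ∀ f : N → ℂ, ∑ x : N, ‖f x‖ ^ 2 = ∑ x : N, (if E x then ‖f x‖ ^ 2 else 0) +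
          ∑ x : N, (if E x then 0 else ‖f x‖ ^ 2) := fun f => by
        rw [← Finset.sum_add_distrib]
        exact Finset.sum_congr rfl fun x _ => by split <;> simp
      have h3 : ∑ x : N, (if E x then 0 else ‖φ x‖ ^ 2) = ∑ x : N, (if E x then 0 else ‖ψ x‖ ^ 2) :=
        Finset.sum_congr rfl fun x _ => by
          split
          · rfl
          · rename_i h; rw [hψout x h]
      rw [h2 φ, h2 ψ, h3] at hnorm
      linarith
    have h4 : ∑ x : N, (if E x then ‖φ x‖ ^ 2 else 0) =
        ∑ g ∈ D, ‖(χ : G → ℂ) g‖ ^ 2 + (Nat.card Z : ℝ) * d1 ^ 2 := by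
      let Zf : Finset G := Finset.univ.filter fun g => g ∈ Z
      have hdisj : Disjoint D Zf := Finset.disjoint_left.2 fun g h h' =>
        ((Finset.mem_filter.1 h).2.2.1 (Finset.mem_filter.1 h').2)
      have h5 : ∑ g ∈ Zf, ‖(χ : G → ℂ) g‖ ^ 2 = (Nat.card Z : ℝ) * d1 ^ 2 := by
        rw [Finset.sum_congr rfl fun g hg => show ‖(χ : G → ℂ) g‖ ^ 2 = d1 ^ 2 by
          obtain ⟨c, hc, hcy⟩ := hscal g (Finset.mem_filter.1 hg).2
          have := hcy 1
          rw [mul_one] at this
          rw [this, norm_mul, hc, one_mul, hdeg, hd1, Complex.norm_natCast],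
          Finset.sum_const, nsmul_eq_mul, Nat.card_eq_fintype_card, Fintype.card_subtype]
      rw [← h5, ← Finset.sum_union hdisj, ← Finset.sum_filter]
      refine Finset.sum_bij (fun x _ => (x : G)) ?_ (fun a _ b _ h => Subtype.ext h) ?_ fun _ _ => rfl
      · intro x hx
        simp only [D, Zf, Finset.mem_union, Finset.mem_filter, Finset.mem_univ, true_and]
        by_cases hz : (x : G) ∈ Z
        · exact Or.inr hz
        · exact Or.inl ⟨x.2, hz, (Finset.mem_filter.1 hx).2.resolve_left hz⟩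
      · intro g hg
        simp only [D, Zf, Finset.mem_union, Finset.mem_filter, Finset.mem_univ, true_and] at hg
        rcases hg with ⟨hgN, -, h⟩ | h
        · exact ⟨⟨g, hgN⟩, Finset.mem_filter.2 ⟨Finset.mem_univ _, Or.inr h⟩, rfl⟩
        · exact ⟨⟨g, hZN h⟩, Finset.mem_filter.2 ⟨Finset.mem_univ _, Or.inl h⟩, rfl⟩
    have h6 : (Nat.card H : ℝ) * (Nat.card Z : ℝ) * ‖m‖ ^ 2 ≤
        ∑ x : N, (if E x then ‖ψ x‖ ^ 2 else 0) := by
      let j : Z × H ↪ N := ⟨fun p => ⟨(p.1 : G) * p.2, mul_mem (hZN p.1.2) (hHN p.2.2)⟩, fun p q h => by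
        have h7 : (p.1 : G) * p.2 = q.1 * q.2 := congrArg Subtype.val h
        have h8 : (q.1 : G)⁻¹ * p.1 = q.2 * (p.2 : G)⁻¹ := by
          rw [eq_mul_inv_iff_mul_eq, mul_assoc, h7, inv_mul_cancel_left]
        have h9 : (q.1 : G)⁻¹ * p.1 = 1 := (Subgroup.eq_bot_iff_forall _).1 hZ _
          (Subgroup.mem_inf.2 ⟨h8 ▸ mul_mem q.2.2 (inv_mem p.2.2), mul_mem (inv_mem q.1.2) p.1.2⟩)
        have h10 : p.1 = q.1 := Subtype.ext (inv_mul_eq_one.1 h9).symm
        rw [h10] at h7
        exact Prod.ext h10 (Subtype.ext (mul_left_cancel h7))⟩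
      have h7 : ∀ p : Z × H, (if E (j p) then ‖ψ (j p)‖ ^ 2 else 0) = ‖m‖ ^ 2 := by
        rintro ⟨z, a⟩
        have hE : E (j (z, a)) := by
          by_cases ha : (a : G) = 1
          · refine Or.inl ?_
            show (z : G) * a ∈ Z
            rw [ha, mul_one]
            exact z.2
          · refine Or.inr ⟨a, a.2, ha, ?_⟩
            show (a : G) * (z * a) = z * a * a
            rw [← mul_assoc, Subgroup.mem_center_iff.1 z.2 a]
        rw [if_pos hE]
        show ‖avg H (χ : G → ℂ) ((z : G) * a)‖ ^ 2 = _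
        rw [avg_mul]
        obtain ⟨c, hc, hcy⟩ := hscal z z.2
        simp only [m, avg, one_mul, hcy, ← Finset.mul_sum, norm_mul, hc]
      calc (Nat.card H : ℝ) * (Nat.card Z : ℝ) * ‖m‖ ^ 2
          = ∑ p : Z × H, (if E (j p) then ‖ψ (j p)‖ ^ 2 else 0) := by
            rw [Finset.sum_congr rfl fun p _ => h7 p, Finset.sum_const, Finset.card_univ,
              nsmul_eq_mul, Fintype.card_prod, Nat.cast_mul, ← Nat.card_eq_fintype_card,
              ← Nat.card_eq_fintype_card]
            ring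
        _ = ∑ x ∈ Finset.univ.map j, (if E x then ‖ψ x‖ ^ 2 else 0) := (Finset.sum_map _ j
              (fun x => if E x then ‖ψ x‖ ^ 2 else 0)).symm
        _ ≤ _ := Finset.sum_le_sum_of_subset_of_nonneg (Finset.subset_univ _)
              fun _ _ _ => by split <;> positivity
    linarith
  have hNle : (0 : ℝ) < Nat.card N := by exact_mod_cast Nat.card_pos
  have hZpos : (0 : ℝ) < Nat.card Z := by exact_mod_cast Nat.card_pos
  have hG : (0 : ℝ) < Fintype.card G := by exact_mod_cast Fintype.card_pos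
  have hdp : (0 : ℝ) < d1 := by rw [hd1]; exact_mod_cast hn
  have hA := mul_le_mul_of_nonneg_left hmain hG.le
  have hB : 0 < (Nat.card N : ℝ) * (Nat.card Z : ℝ) * d1 ^ 2 := by positivity
  rw [mul_add, mul_add] at hA
  rw [mul_sub] at hbound
  by_contra hcon
  have hC : 0 ≤ (Fintype.card G : ℝ) * (Nat.card Z : ℝ) * ((Nat.card H : ℝ) * ‖m‖ ^ 2 - d1 ^ 2) :=
    mul_nonneg (mul_nonneg hG.le hZpos.le) (by linarith [not_lt.1 hcon])
  linarith

/-- `(1 + χ(1))² > |H|` for non-linear `χ`, if `H` lies in no proper normal subgroup. -/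
theorem succ_degree_sq_gt (hab : ∀ a ∈ H, ∀ b ∈ H, a * b = b * a) (hZ : H ⊓ Subgroup.center G = ⊥)
    (hone : ∀ g : G, g ∉ Subgroup.center G → ∀ a b : G,
      Subgroup.centralizer ({g} : Set G) ⊓ H.map (MulAut.conj a).toMonoidHom ≠ ⊥ →
      Subgroup.centralizer ({g} : Set G) ⊓ H.map (MulAut.conj b).toMonoidHom ≠ ⊥ →
      H.map (MulAut.conj a).toMonoidHom = H.map (MulAut.conj b).toMonoidHom)
    (χ : IrrCharacter G) (h1 : (χ : G → ℂ) 1 ≠ 1)
    (hM : ∀ M : Subgroup G, M.Normal → H ≤ M → M = ⊤) :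
    (Nat.card H : ℝ) < (1 + ((χ : G → ℂ) 1).re) ^ 2 := by
  classical
  haveI := Fintype.ofFinite (IrrCharacter G)
  haveI := Fintype.ofFinite (IrrCharacter H)
  obtain ⟨d, hd⟩ := isCharacter_degree (isCharacter_irr χ)
  have hd2 : 2 ≤ d := by
    rcases d with _ | _ | d
    · exact absurd (by simpa using hd) (irr_one_ne_zero χ)
    · exact absurd (by simpa using hd) h1
    · omega
  rw [hd, Complex.natCast_re]
  let f : G → ℂ := fun g => (χ : G → ℂ) g * conj ((χ : G → ℂ) g)
  have hf : IsCharacter G f := isCharacter_mul (isCharacter_irr χ) (isCharacter_conj (isCharacter_irr χ))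
  let one : IrrCharacter G := ⟨fun _ => 1, isIrrCharacter_one⟩
  choose e he using fun ψ : IrrCharacter G => classInner_char_irr_nat hf ψ
  choose l hl using fun ψ : IrrCharacter G => classInner_isCharacter
    (isCharacter_comp (isCharacter_irr ψ) H.subtype) (isCharacter_of_isIrr (isIrrCharacter_one (G := H)))
  have he1 : e one = 1 := by
    have h2 : classInner f (one : G → ℂ) = 1 := by
      rw [← classInner_irr_self χ]
      simp [classInner, f, one]
    rw [he] at h2
    exact_mod_cast h2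
  have hl1 : l one = 1 := by
    have h2 := hl one
    have h3 : classInner (fun _ : H => (1 : ℂ)) (fun _ => 1) = 1 :=
      classInner_irr_self ⟨_, isIrrCharacter_one⟩
    change classInner (fun _ : H => (1 : ℂ)) (fun _ => 1) = _ at h2
    rw [h3] at h2
    exact_mod_cast h2.symm
  have hexp : f = ∑ ψ : IrrCharacter G, (e ψ : ℂ) • (ψ : G → ℂ) := by
    conv_lhs => rw [classFun_expand (isClassFunction_of_isCharacter hf)]
    exact Finset.sum_congr rfl fun ψ _ => by rw [he]
  choose w hw using fun ψ : IrrCharacter G => isCharacter_degree (isCharacter_irr ψ)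
  have hdeg : d * d = ∑ ψ : IrrCharacter G, e ψ * w ψ := by
    have h2 := congrFun hexp 1
    simp only [f, Finset.sum_apply, Pi.smul_apply, smul_eq_mul] at h2
    rw [hd, map_natCast] at h2
    simp only [hw] at h2
    exact_mod_cast h2
  have hinner : classInner (fun a : H => f a) (fun _ => 1) =
      ∑ ψ : IrrCharacter G, ((e ψ * l ψ : ℕ) : ℂ) := by
    have h2 : (fun a : H => f a) = ∑ ψ : IrrCharacter G, (e ψ : ℂ) • (fun a : H => (ψ : G → ℂ) a) := by
      funext a
      simp [hexp, Finset.sum_apply]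
    rw [h2, classInner_sum_left]
    refine Finset.sum_congr rfl fun ψ _ => ?_
    rw [classInner_smul_left, show classInner (fun a : H => (ψ : G → ℂ) a) (fun _ => 1) = (l ψ : ℂ)
      from hl ψ, Nat.cast_mul]
  -- the restriction to the abelian group has norm at least its degree
  have hge : d ≤ ∑ ψ : IrrCharacter G, e ψ * l ψ := by
    let r : H → ℂ := fun a => (χ : G → ℂ) a
    have hr : IsCharacter H r := isCharacter_comp (isCharacter_irr χ) H.subtype
    choose c hc using fun lam : IrrCharacter H => classInner_char_irr_nat hr lam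
    have h2 : classInner (fun a : H => f a) (fun _ => 1) = classInner r r := by
      simp [classInner, f, r]
    have h3 : classInner r r = ∑ lam : IrrCharacter H, ((c lam * c lam : ℕ) : ℂ) := by
      rw [classInner_expand (f := r) (isClassFunction_of_isCharacter hr)]
      simp [hc]
    have h4 : (d : ℂ) = ∑ lam : IrrCharacter H, ((c lam : ℕ) : ℂ) := by
      rw [← hd]
      show r 1 = _
      rw [classFun_expand (isClassFunction_of_isCharacter hr)]
      simp [Finset.sum_apply, hc, degree_one_of_comm (G := H) (fun a b => Subtype.ext (hab a a.2 b b.2))]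
    rw [h2, h3, ← Nat.cast_sum, ← Nat.cast_sum] at hinner
    rw [← Nat.cast_sum] at h4
    rw [← Nat.cast_inj.1 hinner, Nat.cast_inj.1 h4]
    exact Finset.sum_le_sum fun lam _ => Nat.le_mul_self (c lam)
  set s := Real.sqrt (Nat.card H : ℝ)
  have hs2 : s * s = (Nat.card H : ℝ) := Real.mul_self_sqrt (Nat.cast_nonneg _)
  have hs0 : 0 ≤ s := Real.sqrt_nonneg _
  have hterm : ∀ ψ : IrrCharacter G, ψ ≠ one → s * (l ψ : ℝ) < (w ψ : ℝ) := by
    intro ψ hψ
    have hker : ∃ a ∈ H, (ψ : G → ℂ) a ≠ (ψ : G → ℂ) 1 := by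
      by_contra hh
      obtain ⟨K, hK, hmem⟩ := CfsgLib.Invol.exists_charKernel ψ
      have hK' := hM K hK fun a ha => (hmem a).2 (by by_contra hne; exact hh ⟨a, ha, hne⟩)
      refine hψ ?_
      have h2 := CfsgLib.Invol.eq_oneChar_of_constant ψ fun g => (hmem g).1 (hK' ▸ Subgroup.mem_top g)
      rw [h2]
      rfl
    have h2 := degree_sq_gt hab hZ hone ψ hker
    rw [show classInner (fun h : H => (ψ : G → ℂ) h) (fun _ => 1) = (l ψ : ℂ) from hl ψ, hw,
      Complex.norm_natCast, Complex.natCast_re] at h2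
    exact lt_of_pow_lt_pow_left₀ 2 (Nat.cast_nonneg _) (by rw [mul_pow, sq s, hs2]; exact h2)
  have hsplit : ∀ g : IrrCharacter G → ℕ, ((∑ ψ : IrrCharacter G, e ψ * g ψ : ℕ) : ℝ) =
      (g one : ℝ) + ∑ ψ ∈ Finset.univ.erase one, (e ψ : ℝ) * g ψ := fun g => by
    rw [← Finset.add_sum_erase _ _ (Finset.mem_univ one), he1, one_mul]
    push_cast
    rfl
  have hw1 : w one = 1 := by
    have := hw one
    change (1 : ℂ) = _ at this
    exact_mod_cast this.symm
  have hA := hsplit l
  have hB := hsplit w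
  rw [hl1] at hA
  rw [hw1, ← hdeg] at hB
  have hge' : (d : ℝ) ≤ ((∑ ψ : IrrCharacter G, e ψ * l ψ : ℕ) : ℝ) := by exact_mod_cast hge
  have hd2' : (2 : ℝ) ≤ d := by exact_mod_cast hd2
  have hlt : s * ∑ ψ ∈ Finset.univ.erase one, (e ψ : ℝ) * l ψ <
      ∑ ψ ∈ Finset.univ.erase one, (e ψ : ℝ) * w ψ := by
    rw [Finset.mul_sum]
    refine Finset.sum_lt_sum (fun ψ hψ => ?_) ?_
    · rw [mul_left_comm]
      exact mul_le_mul_of_nonneg_left (hterm ψ (Finset.ne_of_mem_erase hψ)).le (Nat.cast_nonneg _)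
    · by_contra hh
      have h2 : ∑ ψ ∈ Finset.univ.erase one, (e ψ : ℝ) * l ψ = 0 := by
        refine Finset.sum_eq_zero fun ψ hψ => ?_
        rcases Nat.eq_zero_or_pos (e ψ) with h | h
        · simp [h]
        · refine absurd ⟨ψ, hψ, ?_⟩ hh
          rw [mul_left_comm]
          exact mul_lt_mul_of_pos_left (hterm ψ (Finset.ne_of_mem_erase hψ)) (Nat.cast_pos.2 h)
      rw [h2] at hA
      push_cast at hA hge'
      linarith
  push_cast at hA hB hge'
  have h5 : s * ((d : ℝ) - 1) ≤ s * ∑ ψ ∈ Finset.univ.erase one, (e ψ : ℝ) * l ψ :=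
    mul_le_mul_of_nonneg_left (by linarith) hs0
  have h6 : s < 1 + (d : ℝ) := by
    refine lt_of_mul_lt_mul_right ?_ (by linarith : (0 : ℝ) ≤ (d : ℝ) - 1)
    nlinarith
  rw [← hs2]
  nlinarith

end

end CfsgLib.Char.AbelianTIBound
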