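/-
Three-closures of affine permutation groups over prime fields.
-/
import Mathlib.LinearAlgebra.Transvection.Basic
import Mathlib.LinearAlgebra.Determinant
import Mathlib.LinearAlgebra.FiniteDimensional.Basic
import Mathlib.Algebra.Field.ZMod
import Cfsg.Agent.Lib.PGroup.FpfModule

set_option autoImplicit false

namespace CfsgLib.Char.AffineClosure

universe u

theorem plane_two_cases : ∀ x : Fin 2 → ZMod 2, x = 0 ∨ x = Pi.single 0 1 ∨ x = Pi.single 1 1 ∨ x = ![1, 1] := by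
  decide

theorem plane_two_ne : (![1, 1] : Fin 2 → ZMod 2) ≠ 0 ∧ (![1, 1] : Fin 2 → ZMod 2) ≠ Pi.single 0 1 ∧
    (![1, 1] : Fin 2 → ZMod 2) ≠ Pi.single 1 1 := by
  decide

variable {p d : ℕ} [Fact p.Prime]

local notation "𝔽" => ZMod p
local notation "𝕍" => Fin d → ZMod p

/-- Permutations given by an affine formula. -/
def IsAff (τ : Equiv.Perm (Fin d → ZMod p)) : Prop :=
  ∃ (A : (Fin d → ZMod p) ≃ₗ[ZMod p] (Fin d → ZMod p)) (b : Fin d → ZMod p), ∀ x, τ x = A x + b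

theorem isAff_of_combination (hp : p ≠ 2) (σ : Equiv.Perm (Fin d → ZMod p))
    (h : ∀ (a b : 𝕍) (c : 𝔽), σ (a + c • (b - a)) = σ a + c • (σ b - σ a)) : IsAff σ := by
  have h2 : (2 : 𝔽) ≠ 0 := by
    have : ((2 : ℕ) : 𝔽) ≠ 0 := fun e =>
      hp ((Nat.prime_dvd_prime_iff_eq Fact.out Nat.prime_two).1 ((ZMod.natCast_eq_zero_iff _ _).1 e))
      
    exact_mod_cast this
  have hsmul : ∀ (c : 𝔽) (x : 𝕍), σ (c • x) - σ 0 = c • (σ x - σ 0) := fun c x => by
    have := h 0 x c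
    rw [sub_zero, zero_add] at this
    rw [this]; abel
  have hadd : ∀ x y : 𝕍, σ (x + y) - σ 0 = (σ x - σ 0) + (σ y - σ 0) := fun x y => by
    have e : x + y = (2 : 𝔽) • (x + (2⁻¹ : 𝔽) • (y - x)) := by
      rw [smul_add, smul_smul, mul_inv_cancel₀ h2, one_smul, two_smul]; abel
    rw [e, hsmul, h x y, show σ x + (2⁻¹ : 𝔽) • (σ y - σ x) - σ 0 = (σ x - σ 0) + (2⁻¹ : 𝔽) • (σ y - σ x) by abel,
      smul_add, smul_smul, mul_inv_cancel₀ h2, one_smul, two_smul]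
    abel
  let L : 𝕍 →ₗ[𝔽] 𝕍 :=
    { toFun := fun x => σ x - σ 0
      map_add' := hadd
      map_smul' := hsmul }
  have hL : Function.Injective L := fun x y e => σ.injective (sub_left_inj.1 e)
  refine ⟨LinearEquiv.ofInjectiveEndo L hL, σ 0, fun x => ?_⟩
  show σ x = (σ x - σ 0) + σ 0
  abel

theorem exists_linearEquiv_pair {V : Type u} [AddCommGroup V] [Module 𝔽 V] [Finite V] {a b a' b' : V}
    (h : LinearIndependent 𝔽 ![a, b]) (h' : LinearIndependent 𝔽 ![a', b']) :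
    ∃ A : V ≃ₗ[𝔽] V, A a = a' ∧ A b = b' := by
  haveI : Module.Finite 𝔽 V := Module.Finite.of_finite
  let e := (Module.Basis.span h).equiv (Module.Basis.span h') (Equiv.refl _)
  obtain ⟨g, hg⟩ := Submodule.exists_linearEquiv_restrict_eq e
  have key : ∀ i, g (![a, b] i) = ![a', b'] i := fun i => by
    have e1 : ((Module.Basis.span h i : Submodule.span 𝔽 (Set.range ![a, b])) : V) = ![a, b] i := by
      rw [Module.Basis.span_apply]
    rw [← e1, ← hg, Module.Basis.equiv_apply, Equiv.refl_apply, Module.Basis.span_apply]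
  exact ⟨g, key 0, key 1⟩

theorem linearIndependent_pair_two {a b : Fin d → ZMod 2} (ha : a ≠ 0) (hb : b ≠ 0) (hab : a ≠ b) :
    LinearIndependent (ZMod 2) ![a, b] := by
  rw [LinearIndependent.pair_iff]
  intro s t h
  have two : ∀ u : ZMod 2, u = 0 ∨ u = 1 := by decide
  rcases two s with rfl | rfl <;> rcases two t with rfl | rfl
  · exact ⟨rfl, rfl⟩
  · simp [hb] at h
  · simp [ha] at h
  · exact absurd (by rw [one_smul, one_smul] at h; rw [eq_neg_of_add_eq_zero_left h]; funext i; exact ZMod.neg_eq_self_mod_two _) hab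

theorem exists_linearEquiv_two {a b a' b' : Fin d → ZMod 2} (h1 : a = 0 ↔ a' = 0) (h2 : b = 0 ↔ b' = 0)
    (h3 : a = b ↔ a' = b') : ∃ A : (Fin d → ZMod 2) ≃ₗ[ZMod 2] (Fin d → ZMod 2), A a = a' ∧ A b = b' := by
  by_cases ha : a = 0
  · have ha' := h1.1 ha
    subst ha ha'
    by_cases hb : b = 0
    · exact ⟨LinearEquiv.refl _ _, rfl, by rw [hb, h2.1 hb]; rfl⟩
    · obtain ⟨A, hA⟩ := PGroup.exists_linearEquiv_apply_eq (F := ZMod 2) hb (fun e => hb (h2.2 e))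
      exact ⟨A, map_zero _, hA⟩
  obtain ⟨A, hA⟩ := PGroup.exists_linearEquiv_apply_eq (F := ZMod 2) ha (fun e => ha (h1.2 e))
  by_cases hb : b = 0
  · exact ⟨A, hA, by rw [hb, h2.1 hb, map_zero]⟩
  by_cases hab : a = b
  · exact ⟨A, hA, by rw [← hab, ← h3.1 hab, hA]⟩
  exact exists_linearEquiv_pair (linearIndependent_pair_two ha hb hab)
    (linearIndependent_pair_two (fun e => ha (h1.2 e)) (fun e => hb (h2.2 e)) (fun e => hab (h3.2 e)))

theorem three_transitive_two (σ : Equiv.Perm (Fin d → ZMod 2)) (t : Fin 3 → (Fin d → ZMod 2)) :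
    ∃ (A : (Fin d → ZMod 2) ≃ₗ[ZMod 2] (Fin d → ZMod 2)) (b : Fin d → ZMod 2), ∀ i, σ (t i) = A (t i) + b := by
  obtain ⟨A, hA1, hA2⟩ := exists_linearEquiv_two (a := t 1 - t 0) (b := t 2 - t 0)
    (a' := σ (t 1) - σ (t 0)) (b' := σ (t 2) - σ (t 0))
    (by simp only [sub_eq_zero, σ.injective.eq_iff]) (by simp only [sub_eq_zero, σ.injective.eq_iff])
    (by simp only [sub_left_inj, σ.injective.eq_iff])
  rw [map_sub] at hA1 hA2
  refine ⟨A, σ (t 0) - A (t 0), fun i => ?_⟩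
  match i with
  | 0 => abel
  | 1 => rw [show A (t 1) + (σ (t 0) - A (t 0)) = (A (t 1) - A (t 0)) + σ (t 0) by abel, hA1]; abel
  | 2 => rw [show A (t 2) + (σ (t 0) - A (t 0)) = (A (t 2) - A (t 0)) + σ (t 0) by abel, hA2]; abel

theorem isAff_of_triples (hp : p ≠ 2) (G : Subgroup (Equiv.Perm (Fin d → ZMod p))) (haff : ∀ τ ∈ G, IsAff τ)
    (σ : Equiv.Perm (Fin d → ZMod p)) (hσ : ∀ t : Fin 3 → 𝕍, ∃ g ∈ G, ∀ i, σ (t i) = g (t i)) : IsAff σ := by
  refine isAff_of_combination hp σ fun a b c => ?_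
  obtain ⟨g, hg, he⟩ := hσ ![a, b, a + c • (b - a)]
  have e0 : σ a = g a := he 0
  have e1 : σ b = g b := he 1
  have e2 : σ (a + c • (b - a)) = g (a + c • (b - a)) := he 2
  obtain ⟨A, w, hA⟩ := haff g hg
  rw [e0, e1, e2, hA, hA, hA, map_add, map_smul, map_sub]
  rw [show A b + w - (A a + w) = A b - A a by abel]
  abel

theorem plane_closed (G : Subgroup (Equiv.Perm (Fin 2 → ZMod p)))
    (haff : ∀ τ ∈ G, IsAff τ) (σ : Equiv.Perm (Fin 2 → ZMod p))
    (hσ : ∀ t : Fin 3 → (Fin 2 → ZMod p), ∃ g ∈ G, ∀ i, σ (t i) = g (t i)) : σ ∈ G := by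
  obtain ⟨g, hg, he⟩ := hσ ![0, Pi.single 0 1, Pi.single 1 1]
  set τ := g⁻¹ * σ with hτ
  suffices τ = 1 by
    have : σ = g := (inv_mul_eq_one.1 this).symm
    exact this ▸ hg
  have h0 : τ 0 = 0 := by
    rw [hτ, Equiv.Perm.mul_apply, show σ 0 = g 0 from he 0, Equiv.Perm.inv_def, Equiv.symm_apply_apply]
  have h1 : τ (Pi.single 0 1) = Pi.single 0 1 := by
    rw [hτ, Equiv.Perm.mul_apply, show σ (Pi.single 0 1) = g (Pi.single 0 1) from he 1, Equiv.Perm.inv_def,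
      Equiv.symm_apply_apply]
  have h2 : τ (Pi.single 1 1) = Pi.single 1 1 := by
    rw [hτ, Equiv.Perm.mul_apply, show σ (Pi.single 1 1) = g (Pi.single 1 1) from he 2, Equiv.Perm.inv_def,
      Equiv.symm_apply_apply]
  by_cases hp : p = 2
  · subst hp
    ext1 x
    have key := plane_two_cases
    have ne := plane_two_ne
    rcases key x with rfl | rfl | rfl | rfl
    · simpa using h0
    · simpa using h1
    · simpa using h2
    · rcases key (τ ![1, 1]) with e | e | e | e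
      · exact absurd (τ.injective (e.trans h0.symm)) ne.1
      · exact absurd (τ.injective (e.trans h1.symm)) ne.2.1
      · exact absurd (τ.injective (e.trans h2.symm)) ne.2.2
      · simpa using e
  have hτt : ∀ t : Fin 3 → (Fin 2 → ZMod p), ∃ k ∈ G, ∀ i, τ (t i) = k (t i) := fun t => by
    obtain ⟨k, hk, hke⟩ := hσ t
    exact ⟨g⁻¹ * k, mul_mem (inv_mem hg) hk, fun i => by rw [hτ, Equiv.Perm.mul_apply, hke]; rfl⟩
  obtain ⟨A, w, hA⟩ := isAff_of_triples hp G haff τ hτt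
  have hw : w = 0 := by have := hA 0; rwa [h0, map_zero, zero_add, eq_comm] at this
  simp only [hw, add_zero] at hA
  have hAid : (A : (Fin 2 → ZMod p) →ₗ[ZMod p] (Fin 2 → ZMod p)) = LinearMap.id := by
    refine (Pi.basisFun (ZMod p) (Fin 2)).ext fun i => ?_
    rw [Pi.basisFun_apply]
    show A (Pi.single i 1) = Pi.single i 1
    rw [← hA]
    match i with
    | 0 => exact h1
    | 1 => exact h2
  ext1 x
  rw [hA]
  exact LinearMap.congr_fun hAid x

/-- An affine map agrees on any three points with a determinant one affine map. -/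
theorem exists_det_one_agree (hd : 3 ≤ d) (A : 𝕍 ≃ₗ[𝔽] 𝕍) (a c : 𝕍) :
    ∃ B : 𝕍 ≃ₗ[𝔽] 𝕍, LinearMap.det (B : 𝕍 →ₗ[𝔽] 𝕍) = 1 ∧ B a = A a ∧ B c = A c := by
  classical
  set W := Submodule.span 𝔽 ({a, c} : Set 𝕍) with hW
  have hWd : Module.finrank 𝔽 W ≤ 2 := by
    have h := finrank_span_le_card (R := 𝔽) ({a, c} : Set 𝕍)
    refine h.trans ?_
    rw [Set.toFinset_insert, Set.toFinset_singleton]
    exact Finset.card_le_two
  obtain ⟨w, hw⟩ : ∃ w, w ∉ W := by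
    by_contra hc
    push Not at hc
    have : W = ⊤ := eq_top_iff.2 fun x _ => hc x
    rw [this, finrank_top, Module.finrank_fin_fun] at hWd
    omega
  obtain ⟨f, hfw, hf⟩ := Submodule.exists_dual_map_eq_bot_of_notMem hw inferInstance
  have hf0 : ∀ x ∈ W, f x = 0 := fun x hx => by
    have : f x ∈ W.map f := Submodule.mem_map_of_mem hx
    rwa [hf, Submodule.mem_bot] at this
  set D := LinearMap.det (A : 𝕍 →ₗ[𝔽] 𝕍) with hD
  have hD0 : D ≠ 0 := (LinearEquiv.isUnit_det' A).ne_zero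
  set T := LinearMap.transvection f (((D⁻¹ - 1) * (f w)⁻¹) • w) with hT
  have hTd : LinearMap.det T = D⁻¹ := by
    rw [hT, LinearMap.transvection.det, map_smul, smul_eq_mul, mul_assoc, inv_mul_cancel₀ hfw, mul_one]
    abel
  set B0 := (A : 𝕍 →ₗ[𝔽] 𝕍).comp T with hB0
  have hB0d : LinearMap.det B0 = 1 := by rw [hB0, LinearMap.det_comp, hTd, ← hD, mul_inv_cancel₀ hD0]
  have hne : LinearMap.det B0 ≠ 0 := by rw [hB0d]; exact one_ne_zero
  refine ⟨LinearMap.equivOfDetNeZero B0 hne, hB0d, ?_, ?_⟩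
  · show A (T a) = A a
    rw [hT, LinearMap.transvection.apply, hf0 a (Submodule.subset_span (by simp)), zero_smul, add_zero]
  · show A (T c) = A c
    rw [hT, LinearMap.transvection.apply, hf0 c (Submodule.subset_span (by simp)), zero_smul, add_zero]

theorem three_closure_iff (hp : p ≠ 2) (hd : 3 ≤ d) (G : Subgroup (Equiv.Perm (Fin d → ZMod p)))
    (haff : ∀ τ ∈ G, IsAff τ) (htrans : ∀ b : 𝕍, ∃ g ∈ G, ∀ x, g x = x + b)
    (hsl : ∀ A : 𝕍 ≃ₗ[𝔽] 𝕍, LinearMap.det (A : 𝕍 →ₗ[𝔽] 𝕍) = 1 → ∃ g ∈ G, ∀ x, g x = A x)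
    (σ : Equiv.Perm (Fin d → ZMod p)) :
    (∀ t : Fin 3 → 𝕍, ∃ g ∈ G, ∀ i, σ (t i) = g (t i)) ↔ IsAff σ := by
  refine ⟨isAff_of_triples hp G haff σ, ?_⟩
  rintro ⟨A, b, hA⟩ t
  obtain ⟨B, hBd, hB1, hB2⟩ := exists_det_one_agree hd A (t 1 - t 0) (t 2 - t 0)
  obtain ⟨g1, hg1, he1⟩ := htrans (A (t 0) + b)
  obtain ⟨g2, hg2, he2⟩ := hsl B hBd
  obtain ⟨g3, hg3, he3⟩ := htrans (-t 0)
  refine ⟨g1 * g2 * g3, mul_mem (mul_mem hg1 hg2) hg3, fun i => ?_⟩
  have key : g1 (g2 (g3 (t i))) = B (t i - t 0) + (A (t 0) + b) := by rw [he3, he2, he1, sub_eq_add_neg]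
  rw [Equiv.Perm.mul_apply, Equiv.Perm.mul_apply, key, hA]
  match i with
  | 0 => rw [sub_self, map_zero, zero_add]
  | 1 => rw [hB1, map_sub]; abel
  | 2 => rw [hB2, map_sub]; abel

end CfsgLib.Char.AffineClosure
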