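import Mathlib
import Cfsg.Prelude.Def_Perm

/-!
# Closures of one-dimensional affine groups
-/

set_option autoImplicit false
set_option linter.style.haveILetI false

namespace CfsgLib.Char

open Polynomial

variable {p : ℕ} [Fact p.Prime]

theorem sum_pow_zmod {i : ℕ} (hi : i < p - 1) : ∑ x : ZMod p, x ^ i = 0 :=
  FiniteField.sum_pow_lt_card_sub_one (ZMod p) i (by rwa [ZMod.card])

theorem sum_pow_top : ∑ x : ZMod p, x ^ (p - 1) = -1 := by
  classical
  have h0 : (0 : ZMod p) ^ (p - 1) = 0 := zero_pow (by have := (Fact.out : p.Prime).two_le; omega)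
  rw [← Finset.add_sum_erase _ _ (Finset.mem_univ (0 : ZMod p)), h0, zero_add,
    Finset.sum_congr rfl (g := fun _ => (1 : ZMod p)) fun x hx => ZMod.pow_card_sub_one_eq_one (Finset.mem_erase.1 hx).1,
    Finset.sum_const, Finset.card_erase_of_mem (Finset.mem_univ _), Finset.card_univ, ZMod.card, nsmul_eq_mul,
    mul_one, Nat.cast_sub (Fact.out : p.Prime).one_le, ZMod.natCast_self, Nat.cast_one, zero_sub]

theorem sum_eval_eq_neg_coeff {g : (ZMod p)[X]} (hg : g.natDegree ≤ p - 1) :
    ∑ x : ZMod p, g.eval x = -g.coeff (p - 1) := by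
  have he : ∀ x : ZMod p, g.eval x = ∑ i ∈ Finset.range (p - 1 + 1), g.coeff i * x ^ i := fun x =>
    eval_eq_sum_range' (Nat.lt_succ_of_le hg) x
  simp only [he]
  rw [Finset.sum_comm, Finset.sum_range_succ, Finset.sum_eq_zero fun i hi => ?_, zero_add, ← Finset.mul_sum,
    sum_pow_top, mul_neg, mul_one]
  rw [← Finset.mul_sum, sum_pow_zmod (Finset.mem_range.1 hi), mul_zero]

/-- A map all of whose difference quotients lie in a set of at most `(p - 1) / 2` elements is affine. -/
theorem affine_of_directions (hodd : p ≠ 2) (f : ZMod p → ZMod p) (M : Finset (ZMod p))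
    (hM : M.card ≤ (p - 1) / 2) (hf : ∀ x y, x ≠ y → ∃ a ∈ M, f x - f y = a * (x - y)) :
    ∃ a b : ZMod p, ∀ x, f x = a * x + b := by
  classical
  have hp := (Fact.out : p.Prime)
  have hp2 : p % 2 = 1 := Nat.odd_iff.1 (hp.odd_of_ne_two hodd)
  have hp3 : 3 ≤ p := by have := hp.two_le; omega
  set h := (p - 1) / 2 with hh
  -- vanishing power sums
  have hS : ∀ i j : ℕ, i + j ≤ h → ∑ x : ZMod p, x ^ i * f x ^ j = 0 := by
    intro i j hij
    set k := i + j with hk
    let P : (ZMod p)[X] := ∑ x : ZMod p, (C x * X + C (f x)) ^ k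
    have hdeg : P.natDegree ≤ k := by
      refine natDegree_sum_le_of_forall_le _ _ fun x _ => ?_
      refine natDegree_pow_le.trans ?_
      refine (Nat.mul_le_mul_left k (natDegree_linear_le)).trans (by rw [mul_one])
    let R : Finset (ZMod p) := Finset.univ.filter fun c => -c ∉ M
    have hR : p - M.card ≤ R.card := by
      have h1 := Finset.card_filter_add_card_filter_not (s := (Finset.univ : Finset (ZMod p))) (fun c => -c ∉ M)
      have h2 : (Finset.univ.filter fun c => ¬ -c ∉ M).card ≤ M.card :=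
        Finset.card_le_card_of_injOn (fun c => -c) (fun c hc => by simpa using (Finset.mem_filter.1 hc).2)
          (fun a _ b _ e => neg_injective e)
      rw [Finset.card_univ, ZMod.card] at h1
      change R.card + _ = _ at h1
      omega
    have hroot : ∀ c ∈ R, P.eval c = 0 := by
      intro c hc
      have hc' := (Finset.mem_filter.1 hc).2
      have hinj : Function.Injective fun x => x * c + f x := by
        intro x y e
        by_contra hne
        obtain ⟨a, ha, he⟩ := hf x y hne
        refine hc' ?_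
        have : (a + c) * (x - y) = 0 := by
          change x * c + f x = y * c + f y at e
          linear_combination e - he
        rw [show -c = a from by linear_combination -(mul_eq_zero.1 this).resolve_right (sub_ne_zero.2 hne)]
        exact ha
      rw [eval_finsetSum]
      simp only [eval_pow, eval_add, eval_mul, eval_C, eval_X]
      rw [Fintype.sum_bijective _ (Finite.injective_iff_bijective.1 hinj) (fun x => (x * c + f x) ^ k) (fun x => x ^ k)
        fun x => rfl]
      exact sum_pow_zmod (by omega)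
    have hP : P = 0 := eq_zero_of_natDegree_lt_card_of_eval_eq_zero' P R hroot (by omega)
    have hcoef := congrArg (fun q : (ZMod p)[X] => q.coeff i) hP
    simp only [P, finsetSum_coeff, coeff_zero] at hcoef
    have hterm : ∀ x : ZMod p, ((C x * X + C (f x)) ^ k).coeff i = (k.choose i : ZMod p) * (x ^ i * f x ^ j) := by
      intro x
      rw [add_pow, finsetSum_coeff, Finset.sum_eq_single i]
      · rw [mul_pow, ← C_pow, ← C_pow, ← C_eq_natCast, coeff_mul_C, coeff_mul_C, coeff_C_mul, coeff_X_pow_self,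
          show k - i = j by omega]
        ring
      · intro m _ hm
        rw [mul_pow, ← C_pow, ← C_pow, ← C_eq_natCast, coeff_mul_C, coeff_mul_C, coeff_C_mul, coeff_X_pow,
          if_neg (Ne.symm hm)]
        ring
      · intro hi
        exact absurd (Finset.mem_range.2 (by omega)) hi
    simp only [hterm, ← Finset.mul_sum] at hcoef
    refine (mul_eq_zero.1 hcoef).resolve_left ?_
    intro h0
    rw [CharP.cast_eq_zero_iff (ZMod p) p] at h0
    have hdvd : p ∣ k.factorial := h0.trans (Dvd.intro _ (by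
      rw [← mul_assoc]; exact Nat.choose_mul_factorial_mul_factorial (show i ≤ k by omega)))
    have := (Nat.Prime.dvd_factorial hp).1 hdvd
    omega
  -- the interpolating polynomial
  let P := Lagrange.interpolate (Finset.univ : Finset (ZMod p)) id f
  have hPe : ∀ x, P.eval x = f x := fun x => Lagrange.eval_interpolate_at_node f (fun a _ b _ e => e) (Finset.mem_univ x)
  have hPd : P.natDegree ≤ p - 1 := by
    rcases eq_or_ne P 0 with h0 | h0
    · rw [h0]; simp
    have h1 := Lagrange.degree_interpolate_lt f (s := (Finset.univ : Finset (ZMod p))) (v := id) (fun a _ b _ e => e)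
    rw [Finset.card_univ, ZMod.card, ← natDegree_lt_iff_degree_lt h0] at h1
    change P.natDegree < p at h1
    omega
  have key : ∀ i j : ℕ, i + j ≤ h → i + j * P.natDegree = p - 1 → P.leadingCoeff = 0 := by
    intro i j hij heq
    have hsum := hS i j hij
    simp only [← hPe] at hsum
    have hd : (X ^ i * P ^ j).natDegree ≤ p - 1 := by
      refine natDegree_mul_le.trans ?_
      rw [natDegree_X_pow]
      have := natDegree_pow_le (p := P) (n := j)
      omega
    have h2 := sum_eval_eq_neg_coeff hd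
    simp only [eval_mul, eval_pow, eval_X] at h2
    rw [hsum, eq_comm, neg_eq_zero, ← heq, add_comm i, coeff_X_pow_mul, coeff_pow_of_natDegree_le le_rfl] at h2
    exact eq_zero_of_pow_eq_zero h2
  have hn1 : P.natDegree ≤ 1 := by
    by_contra hn
    push Not at hn
    have hl : P.leadingCoeff ≠ 0 := leadingCoeff_ne_zero.2 (fun h0 => by rw [h0, natDegree_zero] at hn; omega)
    by_cases hbig : h < P.natDegree
    · exact hl (key (p - 1 - P.natDegree) 1 (by omega) (by omega))
    · push Not at hbig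
      set n := P.natDegree with hn'
      have hdm := Nat.div_add_mod (p - 1) n
      have hmod := Nat.mod_lt (p - 1) (by omega : n > 0)
      refine hl (key ((p - 1) % n) ((p - 1) / n) ?_ (by rw [mul_comm]; omega))
      set j := (p - 1) / n
      set i := (p - 1) % n
      have hj : 2 ≤ j := by
        by_contra hj
        push Not at hj
        have : n * j ≤ n * 1 := Nat.mul_le_mul_left n (by omega)
        omega
      have hpe : 2 * h = p - 1 := by omega
      rcases Nat.lt_or_ge n 3 with hn3 | hn3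
      · have : n = 2 := by omega
        rw [this] at hdm hmod
        omega
      · obtain ⟨n', hn''⟩ : ∃ n', n = n' + 3 := ⟨n - 3, by omega⟩
        obtain ⟨j', hj'⟩ : ∃ j', j = j' + 2 := ⟨j - 2, by omega⟩
        rw [hn'', hj'] at hdm
        rw [hn''] at hmod
        nlinarith
  refine ⟨P.coeff 1, P.coeff 0, fun x => ?_⟩
  rw [← hPe, eval_eq_sum_range' (Nat.lt_succ_of_le hn1) x, Finset.sum_range_succ, Finset.sum_range_one]
  ring

theorem mem_affine_iff (σ : Equiv.Perm (ZMod p)) :
    σ ∈ Cfsg.affineGroup (ZMod p) ↔ ∃ a : (ZMod p)ˣ, ∃ b : ZMod p, ∀ x, σ x = (a : ZMod p) * x + b := Iff.rfl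

theorem two_closed_proper {G : Subgroup (Equiv.Perm (ZMod p))} (hG : G ≤ Cfsg.affineGroup (ZMod p))
    (htrans : ∀ b : ZMod p, ∃ g ∈ G, ∀ x, g x = x + b) (hne : G ≠ Cfsg.affineGroup (ZMod p))
    (σ : Equiv.Perm (ZMod p)) (hσ : ∀ t : Fin 2 → ZMod p, ∃ g ∈ G, ∀ i, σ (t i) = g (t i)) : σ ∈ G := by
  classical
  let M : Subgroup (ZMod p)ˣ :=
    { carrier := {a | ∃ g ∈ G, ∀ x : ZMod p, g x = (a : ZMod p) * x}
      one_mem' := ⟨1, one_mem G, fun x => by simp⟩
      mul_mem' := fun {a b} ⟨g, hg, hga⟩ ⟨g', hg', hgb⟩ => ⟨g * g', mul_mem hg hg', fun x => by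
        rw [Equiv.Perm.mul_apply, hgb, hga, Units.val_mul, mul_assoc]⟩
      inv_mem' := fun {a} ⟨g, hg, hga⟩ => ⟨g⁻¹, inv_mem hg, fun x => g.injective (by
        rw [Equiv.Perm.inv_def, Equiv.apply_symm_apply, hga, ← mul_assoc, Units.mul_inv, one_mul])⟩ }
  have hdec : ∀ g ∈ G, ∀ (a : (ZMod p)ˣ) (b : ZMod p), (∀ x, g x = (a : ZMod p) * x + b) → a ∈ M := by
    intro g hg a b h
    obtain ⟨t, ht, htx⟩ := htrans (-b)
    exact ⟨t * g, mul_mem ht hg, fun x => by rw [Equiv.Perm.mul_apply, htx, h]; ring⟩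
  have hMne : M ≠ ⊤ := fun h => hne (le_antisymm hG fun τ ⟨a, b, hτ⟩ => by
    obtain ⟨g, hg, hga⟩ := (h ▸ Subgroup.mem_top a : a ∈ M)
    obtain ⟨t, ht, htx⟩ := htrans b
    rw [show τ = t * g from Equiv.ext fun x => by rw [Equiv.Perm.mul_apply, htx, hga, hτ]]
    exact mul_mem ht hg)
  have hidx : 2 ≤ M.index := by
    have h1 : M.index ≠ 1 := fun h => hMne (Subgroup.index_eq_one.1 h)
    have h0 : M.index ≠ 0 := Subgroup.index_ne_zero_of_finite
    omega
  have hcard := M.card_mul_index
  rw [Nat.card_units, Nat.card_eq_fintype_card (α := ZMod p), ZMod.card] at hcard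
  have hodd : p ≠ 2 := by
    intro h
    have : Nat.card M * M.index = 1 := by rw [hcard]; omega
    have := Nat.eq_one_of_mul_eq_one_left this
    omega
  let S : Finset (ZMod p) := Finset.image (Units.val : (ZMod p)ˣ → ZMod p) (Finset.univ.filter fun a : (ZMod p)ˣ => a ∈ M)
  have hS : S.card ≤ (p - 1) / 2 := by
    refine Finset.card_image_le.trans ?_
    rw [← Fintype.card_subtype, ← Nat.card_eq_fintype_card, Nat.le_div_iff_mul_le two_pos, ← hcard]
    exact Nat.mul_le_mul_left _ hidx
  obtain ⟨a, b, hab⟩ := affine_of_directions hodd σ S hS fun x y hxy => by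
    obtain ⟨g, hg, hgt⟩ := hσ ![x, y]
    obtain ⟨a, b, hga⟩ := hG hg
    refine ⟨(a : ZMod p), Finset.mem_image.2 ⟨a, Finset.mem_filter.2 ⟨Finset.mem_univ _, hdec g hg a b hga⟩, rfl⟩, ?_⟩
    have h0 := hgt 0
    have h1 := hgt 1
    simp at h0 h1
    rw [h0, h1, hga, hga]
    ring
  have ha : a ≠ 0 := fun h0 => zero_ne_one (σ.injective (by rw [hab, hab, h0]; ring) : (0 : ZMod p) = 1)
  obtain ⟨g, hg, hgt⟩ := hσ ![0, 1]
  obtain ⟨a', b', hga⟩ := hG hg
  have h0 := hgt 0
  have h1 := hgt 1
  simp only [Matrix.cons_val_zero, Matrix.cons_val_one] at h0 h1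
  rw [hab, hga] at h0 h1
  have hb : b = b' := by simpa using h0
  have haa : a = (a' : ZMod p) := by linear_combination h1 - hb
  rw [show σ = g from Equiv.ext fun x => by rw [hab, hga, haa, hb]]
  exact hg

theorem two_closure_affine (σ : Equiv.Perm (ZMod p)) (t : Fin 2 → ZMod p) :
    ∃ g ∈ Cfsg.affineGroup (ZMod p), ∀ i, σ (t i) = g (t i) := by
  by_cases h : t 0 = t 1
  · refine ⟨Equiv.addRight (σ (t 0) - t 0), ⟨1, σ (t 0) - t 0, fun x => by simp⟩, fun i => ?_⟩
    fin_cases i <;> simp [← h]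
  · have h1 : t 0 - t 1 ≠ 0 := sub_ne_zero.2 h
    have h2 : σ (t 0) - σ (t 1) ≠ 0 := sub_ne_zero.2 fun e => h (σ.injective e)
    let a : (ZMod p)ˣ := Units.mk0 ((σ (t 0) - σ (t 1)) / (t 0 - t 1)) (div_ne_zero h2 h1)
    refine ⟨(Equiv.mulLeft₀ (a : ZMod p) a.ne_zero).trans (Equiv.addRight (σ (t 0) - (a : ZMod p) * t 0)),
      ⟨a, σ (t 0) - (a : ZMod p) * t 0, fun x => by simp⟩, fun i => ?_⟩
    fin_cases i
    · simp
    · simp [a]
      field_simp
      ring

theorem three_closed_affine (σ : Equiv.Perm (ZMod p))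
    (hσ : ∀ t : Fin 3 → ZMod p, ∃ g ∈ Cfsg.affineGroup (ZMod p), ∀ i, σ (t i) = g (t i)) :
    σ ∈ Cfsg.affineGroup (ZMod p) := by
  obtain ⟨g, hg, hgt⟩ := hσ ![0, 1, 0]
  obtain ⟨a, b, hga⟩ := hg
  refine ⟨a, b, fun x => ?_⟩
  obtain ⟨g', hg', hgt'⟩ := hσ ![0, 1, x]
  obtain ⟨a', b', hga'⟩ := hg'
  have e0 := (hgt' 0).symm.trans (hgt 0)
  have e1 := (hgt' 1).symm.trans (hgt 1)
  have e2 := hgt' 2
  simp [hga, hga'] at e0 e1 e2
  rw [e2, e0]
  rw [e0] at e1
  linear_combination (x : ZMod p) * e1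

end CfsgLib.Char
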