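/-
Permutations of prime order: invariant subsets and classes of derangements.
-/
import Mathlib.GroupTheory.Perm.Cycle.Type
import Mathlib.Algebra.IsPrimePow
import Mathlib.Data.Nat.Choose.Lucas
import Mathlib.Data.Nat.Factorization.PrimePow
import Mathlib.Algebra.GCDMonoid.Multiset
import Mathlib.GroupTheory.Perm.Cycle.PossibleTypes
import Mathlib.Data.Nat.Prime.Factorial

set_option autoImplicit false

open Equiv Equiv.Perm

namespace CfsgLib.Char.PermPrimeOrder

variable {α : Type*} [Fintype α] [DecidableEq α]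

theorem orderOf_of_cycleType {r j : ℕ} {σ : Perm α} (h : σ.cycleType = Multiset.replicate (j + 1) r) :
    orderOf σ = r := by
  rw [← lcm_cycleType, h]
  refine Nat.dvd_antisymm (Multiset.lcm_dvd.2 fun x hx => (Multiset.eq_of_mem_replicate hx).dvd) ?_
  exact Multiset.dvd_lcm (Multiset.mem_replicate.2 ⟨Nat.succ_ne_zero j, rfl⟩)

theorem card_support_of_cycleType {r j : ℕ} {σ : Perm α} (h : σ.cycleType = Multiset.replicate j r) :
    σ.support.card = j * r := by
  rw [← sum_cycleType, h, Multiset.sum_replicate, smul_eq_mul]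

theorem exists_cycleType {r j : ℕ} (hr : 2 ≤ r) (hj : j * r ≤ Fintype.card α) :
    ∃ σ : Perm α, σ.cycleType = Multiset.replicate j r :=
  (exists_with_cycleType_iff α).2
    ⟨by rwa [Multiset.sum_replicate, smul_eq_mul], fun a ha => (Multiset.eq_of_mem_replicate ha).symm ▸ hr⟩

/-- An invariant set splits into fixed points and whole cycles. -/
theorem split_of_invariant {r j : ℕ} [Fact r.Prime] {σ : Perm α} (hσ : σ ^ r = 1)
    (hc : σ.cycleType = Multiset.replicate j r) {s : Finset α} (hs : s.image σ = s) :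
    ∃ a b : ℕ, a ≤ j ∧ b + j * r ≤ Fintype.card α ∧ a * r + b = s.card := by
  set b := (s.filter fun x => σ x = x).card with hb
  set m := (s.filter fun x => ¬ σ x = x).card with hm
  have hsum : b + m = s.card := Finset.card_filter_add_card_filter_not _
  have hm_le : m ≤ j * r := by
    rw [← card_support_of_cycleType hc, hm]
    exact Finset.card_le_card fun x hx => mem_support.2 (Finset.mem_filter.1 hx).2
  have hb_le : b + j * r ≤ Fintype.card α := by
    rw [← card_support_of_cycleType hc, ← Finset.card_add_card_compl σ.support, add_comm]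
    exact Nat.add_le_add_left (Finset.card_le_card fun x hx => by
      simpa [mem_support] using (Finset.mem_filter.1 hx).2) _
  have hp : ∀ x, σ x ∈ s ↔ x ∈ s := fun x =>
    ⟨fun h => by
      rw [← hs] at h
      obtain ⟨y, hy, e⟩ := Finset.mem_image.1 h
      rwa [← σ.injective e],
    fun h => hs ▸ Finset.mem_image_of_mem _ h⟩
  set τ := σ.subtypePerm (p := fun x => x ∈ s) hp with hτ
  have hτr : τ ^ r ^ 1 = 1 := by
    ext x; simp [hτ, pow_one, subtypePerm_pow, hσ]
  have hmod := card_compl_support_modEq hτr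
  have hfix : τ.supportᶜ.card = b := by
    rw [hb, ← Finset.card_map (Function.Embedding.subtype _)]
    congr 1
    ext x
    simp [hτ, Subtype.ext_iff, and_comm]
  rw [hfix, Fintype.card_coe, ← hsum] at hmod
  have hdvd : r ∣ m := by
    have h := (Nat.modEq_iff_dvd' (Nat.le_add_right b m)).1 hmod
    rwa [Nat.add_sub_cancel_left] at h
  obtain ⟨a, ha⟩ := hdvd
  refine ⟨a, b, Nat.le_of_mul_le_mul_right (by rwa [mul_comm a r, ← ha]) (Fact.out : r.Prime).pos, hb_le, ?_⟩
  rw [mul_comm, ← ha, add_comm, hsum]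

/-- Whole cycles and fixed points give invariant sets. -/
theorem invariant_of_split {r j a b : ℕ} {σ : Perm α} (hc : σ.cycleType = Multiset.replicate j r) (ha : a ≤ j)
    (hb : b + j * r ≤ Fintype.card α) : ∃ s : Finset α, s.card = a * r + b ∧ s.image σ = s := by
  have hcard : σ.cycleFactorsFinset.card = j := by
    have h := congrArg Multiset.card hc
    rw [cycleType_def, Multiset.card_map, Multiset.card_replicate] at h
    exact h
  obtain ⟨C, hC, hCc⟩ := Finset.exists_subset_card_eq (hcard.symm ▸ ha : a ≤ σ.cycleFactorsFinset.card)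
  obtain ⟨F, hF, hFc⟩ := Finset.exists_subset_card_eq (s := σ.supportᶜ) (n := b) (by
    rw [Finset.card_compl, card_support_of_cycleType hc]; omega)
  have hsub : C.biUnion support ⊆ σ.support := fun x hx => by
    obtain ⟨c, hcC, hx⟩ := Finset.mem_biUnion.1 hx
    exact mem_cycleFactorsFinset_support_le (hC hcC) hx
  have hdisj : _root_.Disjoint (C.biUnion support) F :=
    Finset.disjoint_left.2 fun x hx hxF => Finset.mem_compl.1 (hF hxF) (hsub hx)
  refine ⟨C.biUnion support ∪ F, ?_, ?_⟩
  · rw [Finset.card_union_of_disjoint hdisj, hFc, Finset.card_biUnion, ← hCc]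
    · congr 1
      rw [← smul_eq_mul, ← Finset.sum_const]
      refine Finset.sum_congr rfl fun c hcC => ?_
      have : c.support.card ∈ σ.cycleType := by
        rw [cycleType_def]; exact Multiset.mem_map.2 ⟨c, hC hcC, rfl⟩
      rw [hc] at this
      exact Multiset.eq_of_mem_replicate this
    · intro c hcC c' hcC' hne
      exact (cycleFactorsFinset_pairwise_disjoint σ (hC hcC) (hC hcC') hne).disjoint_support
  refine Finset.eq_of_subset_of_card_le (fun x hx => ?_) (le_of_eq (Finset.card_image_of_injective _ σ.injective).symm)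
  obtain ⟨y, hy, rfl⟩ := Finset.mem_image.1 hx
  rcases Finset.mem_union.1 hy with hy | hy
  · obtain ⟨c, hcC, hy⟩ := Finset.mem_biUnion.1 hy
    refine Finset.mem_union_left _ (Finset.mem_biUnion.2 ⟨c, hcC, ?_⟩)
    rw [← (mem_cycleFactorsFinset_iff.1 (hC hcC)).2 y hy]
    exact apply_mem_support.2 hy
  · rw [show σ y = y from notMem_support.1 (Finset.mem_compl.1 (hF hy))]
    exact Finset.mem_union_right _ hy

theorem all_fix_subset_iff (n k r : ℕ) (hr : r.Prime) (hk : 1 ≤ k) (hkn : 2 * k < n) (hrd : r ∣ n.choose k) :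
    (∀ σ : Perm (Fin n), orderOf σ = r → ∃ s : Finset (Fin n), s.card = k ∧ s.image σ = s) ↔
      (r ≤ k ∧ k % r ≤ n % r) := by
  haveI := Fact.mk hr
  constructor
  · intro h
    have hrn : r ≤ n := by
      have : r ∣ n.factorial := by
        rw [← Nat.choose_mul_factorial_mul_factorial (show k ≤ n by omega), mul_assoc]
        exact hrd.mul_right _
      exact hr.dvd_factorial.1 this
    obtain ⟨j, hj⟩ : ∃ j, n / r = j + 1 := ⟨n / r - 1, by have := Nat.div_pos hrn hr.pos; omega⟩
    have hdm := Nat.div_add_mod' n r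
    rw [hj] at hdm
    obtain ⟨σ, hσ⟩ := exists_cycleType (α := Fin n) hr.two_le (j := j + 1) (by rw [Fintype.card_fin]; omega)
    obtain ⟨s, hs, hsi⟩ := h σ (orderOf_of_cycleType hσ)
    obtain ⟨a, b, -, hb, hab⟩ := split_of_invariant
      (by rw [← orderOf_of_cycleType hσ]; exact pow_orderOf_eq_one σ) hσ hsi
    rw [Fintype.card_fin] at hb
    have hbn : b ≤ n % r := by omega
    have hbr : b < r := hbn.trans_lt (Nat.mod_lt _ hr.pos)
    have hkb : k % r = b := by rw [← hs, ← hab, Nat.mul_add_mod', Nat.mod_eq_of_lt hbr]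
    refine ⟨?_, hkb.trans_le hbn⟩
    by_contra hlt
    push Not at hlt
    rw [Nat.mod_eq_of_lt hlt] at hkb
    have hl : n.choose k % r = ((n % r).choose (k % r) * (n / r).choose (k / r)) % r :=
      Choose.choose_modEq_choose_mod_mul_choose_div_nat
    rw [Nat.mod_eq_of_lt hlt, Nat.div_eq_of_lt hlt, Nat.choose_zero_right, mul_one, Nat.dvd_iff_mod_eq_zero.1 hrd] at hl
    have hd : r ∣ (n % r).choose k := Nat.dvd_of_mod_eq_zero hl.symm
    have : r ∣ (n % r).factorial := by
      rw [← Nat.choose_mul_factorial_mul_factorial (show k ≤ n % r by omega), mul_assoc]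
      exact hd.mul_right _
    have := hr.dvd_factorial.1 this
    have := Nat.mod_lt n hr.pos
    omega
  · rintro ⟨hrk, hmod⟩ σ hσ
    obtain ⟨j, hj⟩ := cycleType_prime_order (σ := σ) (hσ.symm ▸ hr)
    rw [hσ] at hj
    have hle : (j + 1) * r ≤ n := by
      rw [← card_support_of_cycleType hj]; simpa using σ.support.card_le_univ
    have hk0 := Nat.div_add_mod' k r
    have hn0 := Nat.div_add_mod' n r
    have hjn : (j + 1) ≤ n / r := (Nat.le_div_iff_mul_le hr.pos).2 hle
    rcases le_or_gt (k / r) (j + 1) with h | h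
    · obtain ⟨s, hs, hsi⟩ := invariant_of_split hj h (b := k % r) (by
        rw [Fintype.card_fin]
        have := Nat.mul_le_mul_right r hjn
        omega)
      exact ⟨s, by omega, hsi⟩
    · have := Nat.mul_le_mul_right r h.le
      obtain ⟨s, hs, hsi⟩ := invariant_of_split hj le_rfl (b := k - (j + 1) * r) (by
        rw [Fintype.card_fin]; omega)
      exact ⟨s, by omega, hsi⟩

theorem card_derangement_classes (n : ℕ) (hn : 5 ≤ n) :
    Nat.card {c : ConjClasses (Perm (Fin n)) // ∃ g : Perm (Fin n), ConjClasses.mk g = c ∧ (orderOf g).Prime ∧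
      ∀ i : Fin n, g i ≠ i} = n.primeFactors.card := by
  classical
  have key : ∀ g : Perm (Fin n), (orderOf g).Prime → (∀ i, g i ≠ i) →
      orderOf g ∈ n.primeFactors ∧ g.cycleType = Multiset.replicate (n / orderOf g) (orderOf g) := by
    intro g hg hf
    obtain ⟨j, hj⟩ := cycleType_prime_order hg
    have hs : g.support = Finset.univ := Finset.eq_univ_of_forall fun i => mem_support.2 (hf i)
    have hc := card_support_of_cycleType hj
    rw [hs, Finset.card_univ, Fintype.card_fin] at hc
    refine ⟨Nat.mem_primeFactors.2 ⟨hg, ⟨j + 1, by rw [mul_comm]; exact hc⟩, by omega⟩, ?_⟩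
    rw [show n / orderOf g = j + 1 from Nat.div_eq_of_eq_mul_left hg.pos hc]
    exact hj
  have hex : ∀ r : n.primeFactors, ∃ g : Perm (Fin n), g.cycleType = Multiset.replicate (n / (r : ℕ)) (r : ℕ) :=
    fun r => exists_cycleType (Nat.prime_of_mem_primeFactors r.2).two_le
      (by rw [Fintype.card_fin]; exact Nat.div_mul_le_self _ _)
  choose f hf using hex
  have hord : ∀ r, orderOf (f r) = (r : ℕ) ∧ ∀ i, f r i ≠ i := fun r => by
    have hr := Nat.prime_of_mem_primeFactors r.2
    have hd := Nat.dvd_of_mem_primeFactors r.2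
    obtain ⟨j, hj⟩ : ∃ j, n / (r : ℕ) = j + 1 :=
      ⟨n / (r : ℕ) - 1, by have := Nat.div_pos (Nat.le_of_dvd (by omega) hd) hr.pos; omega⟩
    refine ⟨orderOf_of_cycleType (j := j) (by rw [← hj]; exact hf r), fun i => mem_support.1 ?_⟩
    have hc := card_support_of_cycleType (hf r)
    rw [Nat.div_mul_cancel hd] at hc
    rw [Finset.eq_univ_of_card _ (hc.trans (Fintype.card_fin n).symm)]
    exact Finset.mem_univ i
  rw [← Nat.card_eq_finsetCard]
  symm
  refine Nat.card_eq_of_bijective
    (fun r => ⟨ConjClasses.mk (f r), f r, rfl, by rw [(hord r).1]; exact Nat.prime_of_mem_primeFactors r.2, (hord r).2⟩) ⟨?_, ?_⟩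
  · intro r r' h
    have h1 := ConjClasses.mk_eq_mk_iff_isConj.1 (congrArg Subtype.val h)
    obtain ⟨c, hc⟩ := isConj_iff.1 h1
    refine Subtype.ext ?_
    rw [← (hord r).1, ← (hord r').1, ← hc]
    exact (MulEquiv.orderOf_eq (MulAut.conj c) (f r)).symm
  · rintro ⟨c, g, rfl, hg, hgf⟩
    obtain ⟨hm, ht⟩ := key g hg hgf
    refine ⟨⟨orderOf g, hm⟩, Subtype.ext (ConjClasses.mk_eq_mk_iff_isConj.2 ?_)⟩
    rw [isConj_iff_cycleType_eq, hf, ht]

theorem unique_derangement_class_iff (n : ℕ) (hn : 5 ≤ n) :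
    Nat.card {c : ConjClasses (Perm (Fin n)) // ∃ g : Perm (Fin n), ConjClasses.mk g = c ∧ (orderOf g).Prime ∧
      ∀ i : Fin n, g i ≠ i} = 1 ↔ IsPrimePow n := by
  rw [card_derangement_classes n hn, isPrimePow_iff_card_primeFactors_eq_one]

end CfsgLib.Char.PermPrimeOrder
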