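import Cfsg.Agent.Lib.Char.SylvesterSchur.Main
import Cfsg.Agent.Lib.Char.PermPrimeOrder
import Cfsg.Agent.Lib.PGroup.JordanPrime
import Cfsg.Agent.Lib.Perm.Groups.AltAut
import Mathlib.GroupTheory.Perm.Centralizer
import Mathlib.GroupTheory.GroupAction.Primitive

/-!
# Primitive groups with alternating socle: a derangement of the largest prime order
-/

set_option autoImplicit false
set_option linter.unusedSectionVars false

open Equiv Equiv.Perm MulAction

namespace CfsgLib.Char.AltLargestPrime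

/-! ### General facts -/

/-- A prime dividing the order but not that of a subgroup. -/
theorem exists_not_conj_of_not_dvd {A : Type*} [Group A] [Finite A] (M : Subgroup A) {r : ℕ}
    (hr : r.Prime) (hd : r ∣ Nat.card A) (hM : ¬ r ∣ Nat.card M) :
    ∃ x : A, orderOf x = r ∧ ∀ c : A, c * x * c⁻¹ ∉ M := by
  haveI := Fact.mk hr
  obtain ⟨x, hx⟩ := exists_prime_orderOf_dvd_card' r hd
  refine ⟨x, hx, fun c hc => hM ?_⟩
  have h := M.orderOf_dvd_natCard hc
  rwa [← MulAut.conj_apply, MulEquiv.orderOf_eq, hx] at h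

/-- A subgroup of index prime to `p` contains a conjugate of each `p`-element. -/
theorem exists_conj_mem {A : Type*} [Group A] [Finite A] (M : Subgroup A) {p : ℕ} [hp : Fact p.Prime]
    (hM : ¬ p ∣ M.index) {x : A} {k : ℕ} (hx : x ^ p ^ k = 1) : ∃ c : A, c * x * c⁻¹ ∈ M := by
  let P₀ : Sylow p M := default
  obtain ⟨j, hj⟩ := IsPGroup.iff_card.1 (P₀.2.map M.subtype)
  have hidx : ¬ p ∣ ((P₀ : Subgroup M).map M.subtype).index := by
    rw [Subgroup.index_map_of_injective _ M.subtype_injective, Subgroup.range_subtype]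
    exact fun h => (hp.out.dvd_mul.1 h).elim P₀.not_dvd_index hM
  obtain ⟨P, hP⟩ : ∃ P : Sylow p A, (P : Subgroup A) ≤ M :=
    ⟨(P₀.2.map M.subtype).toSylow hidx, Subgroup.map_subtype_le _⟩
  have hxp : IsPGroup p (Subgroup.zpowers x) := by
    obtain ⟨i, -, hi⟩ := (Nat.dvd_prime_pow hp.out).1 (orderOf_dvd_of_pow_eq_one hx)
    exact IsPGroup.of_card (n := i) (by rw [Nat.card_zpowers, hi])
  obtain ⟨Q, hQ⟩ := hxp.exists_le_sylow
  obtain ⟨c, hc⟩ := MulAction.exists_smul_eq A Q P
  refine ⟨c, hP ?_⟩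
  rw [← hc]
  exact ⟨x, hQ (Subgroup.mem_zpowers x), rfl⟩

theorem index_dvd_card_div {A : Type*} [Group A] [Finite A] {M : Subgroup A} {r : ℕ}
    (hd : r ∣ M.index) (hM : r ∣ Nat.card M) : r * r ∣ Nat.card A := by
  rw [← Subgroup.card_mul_index M]
  exact Nat.mul_dvd_mul hM hd

variable {m : ℕ}

theorem dvd_card_alt {p : ℕ} (hp : p.Prime) (hp2 : p ≠ 2) (hpm : p ≤ m) :
    p ∣ Nat.card (alternatingGroup (Fin m)) := by
  haveI : Nontrivial (Fin m) := Fin.nontrivial_iff_two_le.2 (hp.two_le.trans hpm)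
  have h := two_mul_nat_card_alternatingGroup (α := Fin m)
  rw [Nat.card_perm, Nat.card_fin] at h
  have h2 : p ∣ 2 * Nat.card (alternatingGroup (Fin m)) := h ▸ hp.dvd_factorial.2 hpm
  exact (hp.dvd_mul.1 h2).resolve_left fun h => hp2 ((Nat.prime_dvd_prime_iff_eq hp Nat.prime_two).1 h)

theorem not_sq_dvd_card_alt {p : ℕ} (hp : p.Prime) (hpm : m < 2 * p) :
    ¬ p * p ∣ Nat.card (alternatingGroup (Fin m)) := fun h => by
  haveI : Fact p.Prime := ⟨hp⟩
  have hd : Nat.card (alternatingGroup (Fin m)) ∣ m.factorial := by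
    have := (alternatingGroup (Fin m)).card_subgroup_dvd_card
    rwa [Nat.card_perm, Nat.card_fin] at this
  have h1 : p ^ 2 ∣ m.factorial := by rw [sq]; exact h.trans hd
  rw [hp.pow_dvd_iff_le_factorization m.factorial_ne_zero, Nat.factorization_def _ hp,
    padicValNat_factorial (b := Nat.log p m + 1) (Nat.lt_succ_self _)] at h1
  have h2 : ∀ i ∈ Finset.Ico 1 (Nat.log p m + 1), m / p ^ i ≤ if i = 1 then 1 else 0 := by
    intro i hi
    have hi1 := (Finset.mem_Ico.1 hi).1
    split_ifs with h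
    · subst h
      rw [pow_one, Nat.le_iff_lt_add_one]
      exact Nat.div_lt_of_lt_mul (by omega)
    · refine le_of_eq (Nat.div_eq_of_lt ?_)
      calc m < 2 * p := hpm
        _ ≤ p * p := Nat.mul_le_mul_right p hp.two_le
        _ = p ^ 2 := (sq p).symm
        _ ≤ p ^ i := Nat.pow_le_pow_right hp.pos (by omega)
  have h3 := h1.trans (Finset.sum_le_sum h2)
  rw [Finset.sum_ite_eq'] at h3
  split_ifs at h3 <;> omega

theorem sign_of_replicate {σ : Perm (Fin m)} {j r : ℕ} (h : σ.cycleType = Multiset.replicate j r) :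
    Perm.sign σ = (-1) ^ (j * (r + 1)) := by
  rw [Perm.sign_of_cycleType, h, Multiset.sum_replicate, Multiset.card_replicate, smul_eq_mul,
    mul_add, mul_one]

theorem exists_cycle {r : ℕ} (hr : r.Prime) (hr2 : r ≠ 2) (hrm : r ≤ m) :
    ∃ x : alternatingGroup (Fin m), orderOf x = r ∧ (x : Perm (Fin m)).IsCycle ∧
      (x : Perm (Fin m)).support.card = r := by
  obtain ⟨σ, hσ⟩ := PermPrimeOrder.exists_cycleType (α := Fin m) hr.two_le (j := 1) (by simpa using hrm)
  have hs : σ ∈ alternatingGroup (Fin m) := by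
    rw [Perm.mem_alternatingGroup, sign_of_replicate hσ, one_mul]
    exact Even.neg_one_pow (Nat.even_add_one.2 (Nat.not_even_iff_odd.2 (hr.odd_of_ne_two hr2)))
  refine ⟨⟨σ, hs⟩, ?_, ?_, ?_⟩
  · rw [← Subgroup.orderOf_coe]
    exact PermPrimeOrder.orderOf_of_cycleType (j := 0) hσ
  · exact Perm.card_cycleType_eq_one.1 (by rw [hσ, Multiset.card_replicate])
  · rw [PermPrimeOrder.card_support_of_cycleType hσ, one_mul]

/-! ### Stabilizers of subsets -/

/-- The permutations preserving a finite set. -/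
def setStab (S : Finset (Fin m)) : Subgroup (Perm (Fin m)) where
  carrier := {σ | S.image σ = S}
  one_mem' := by simp
  mul_mem' := fun {a b} ha hb => by
    show S.image (a * b) = S
    rw [Perm.coe_mul, ← Finset.image_image, show S.image b = S from hb, show S.image a = S from ha]
  inv_mem' := fun {a} ha => by
    show S.image ⇑(a⁻¹ : Perm (Fin m)) = S
    conv_lhs => rw [← show S.image a = S from ha]
    rw [Finset.image_image]
    simp

theorem exists_even_image {k : ℕ} (hk : k + 2 ≤ m) {S S' : Finset (Fin m)} (hS : S.card = k)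
    (hS' : S'.card = k) : ∃ σ ∈ alternatingGroup (Fin m), S.image σ = S' := by
  obtain ⟨σ, hσ⟩ : ∃ σ : Perm (Fin m), S.image σ = S' := by
    let e : {x // x ∈ S} ≃ {x // x ∈ S'} := Finset.equivOfCardEq (hS.trans hS'.symm)
    refine ⟨e.extendSubtype, Finset.eq_of_subset_of_card_le (fun x hx => ?_) ?_⟩
    · obtain ⟨y, hy, rfl⟩ := Finset.mem_image.1 hx
      exact e.extendSubtype_mem y hy
    · rw [Finset.card_image_of_injective _ (Equiv.injective _), hS, hS']
  by_cases hs : σ ∈ alternatingGroup (Fin m)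
  · exact ⟨σ, hs, hσ⟩
  obtain ⟨a, ha, b, hb, hab⟩ := Finset.one_lt_card.1 (show 1 < S'ᶜ.card by
    rw [Finset.card_compl, hS', Fintype.card_fin]; omega)
  rw [Finset.mem_compl] at ha hb
  refine ⟨Equiv.swap a b * σ, ?_, ?_⟩
  · rw [Perm.mem_alternatingGroup] at hs ⊢
    rw [map_mul, Perm.sign_swap hab,
      (Int.units_eq_one_or (Perm.sign σ)).resolve_left hs]
    rfl
  · rw [Perm.coe_mul, ← Finset.image_image, hσ]
    refine (Finset.image_congr fun x hx => ?_).trans Finset.image_id
    exact Equiv.swap_apply_of_ne_of_ne (fun e => ha (e ▸ hx)) fun e => hb (e ▸ hx)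

/-- The number of `k`-sets is the index of a stabilizer. -/
theorem index_setStab {k : ℕ} (hk : k + 2 ≤ m) {S : Finset (Fin m)} (hS : S.card = k) :
    ((setStab S).subgroupOf (alternatingGroup (Fin m))).index = m.choose k := by
  letI : MulAction (alternatingGroup (Fin m)) {s : Finset (Fin m) // s.card = k} :=
    { smul := fun σ s => ⟨s.1.image (σ : Perm (Fin m)),
        by rw [Finset.card_image_of_injective _ (Equiv.injective _), s.2]⟩
      one_smul := fun s => Subtype.ext (by
        show s.1.image ((1 : alternatingGroup (Fin m)) : Perm (Fin m)) = s.1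
        simp)
      mul_smul := fun a b s => Subtype.ext (by
        show s.1.image ((a * b : alternatingGroup (Fin m)) : Perm (Fin m)) =
          (s.1.image (b : Perm (Fin m))).image (a : Perm (Fin m))
        rw [Finset.image_image, Subgroup.coe_mul, Perm.coe_mul]) }
  have hst : stabilizer (alternatingGroup (Fin m)) (⟨S, hS⟩ : {s : Finset (Fin m) // s.card = k}) =
      (setStab S).subgroupOf (alternatingGroup (Fin m)) := by
    ext σ
    rw [mem_stabilizer_iff, Subgroup.mem_subgroupOf]
    exact ⟨fun h => congrArg Subtype.val h, fun h => Subtype.ext h⟩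
  have horb : orbit (alternatingGroup (Fin m)) (⟨S, hS⟩ : {s : Finset (Fin m) // s.card = k}) = Set.univ :=
    Set.eq_univ_of_forall fun s => by
      obtain ⟨σ, hσ, e⟩ := exists_even_image hk hS s.2
      exact ⟨⟨σ, hσ⟩, Subtype.ext e⟩
  rw [← hst, index_stabilizer, horb, Set.ncard_univ, Nat.card_eq_fintype_card,
    Fintype.card_subtype]
  have : (Finset.univ.filter fun s : Finset (Fin m) => s.card = k) = Finset.univ.powersetCard k := by
    ext s
    simp
  rw [this, Finset.card_powersetCard, Finset.card_univ, Fintype.card_fin]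

/-- An even permutation of order `r` fixing no `k`-set. -/
theorem exists_no_invariant {k r : ℕ} (hr : r.Prime) (hk : 1 ≤ k) (hkr : k < r) (hkm : k ≤ m)
    (hd : r ∣ m.choose k) (hm : 5 ≤ m) (h2 : r = 2 → 4 ∣ m) :
    ∃ x : alternatingGroup (Fin m), orderOf x = r ∧
      ∀ S : Finset (Fin m), S.card = k → S.image (x : Perm (Fin m)) ≠ S := by
  haveI := Fact.mk hr
  have hrm : r ≤ m := hr.dvd_factorial.1 (by
    rw [← Nat.choose_mul_factorial_mul_factorial hkm, mul_assoc]
    exact hd.mul_right _)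
  have hmod : m % r < k := by
    by_contra hle
    have hl : m.choose k % r = ((m % r).choose (k % r) * (m / r).choose (k / r)) % r :=
      Choose.choose_modEq_choose_mod_mul_choose_div_nat
    rw [Nat.mod_eq_of_lt hkr, Nat.div_eq_of_lt hkr, Nat.choose_zero_right, mul_one,
      Nat.dvd_iff_mod_eq_zero.1 hd] at hl
    have h1 : r ∣ (m % r).factorial := by
      rw [← Nat.choose_mul_factorial_mul_factorial (show k ≤ m % r by omega), mul_assoc]
      exact (Nat.dvd_of_mod_eq_zero hl.symm).mul_right _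
    have := hr.dvd_factorial.1 h1
    have := Nat.mod_lt m hr.pos
    omega
  obtain ⟨j, hj⟩ : ∃ j, m / r = j + 1 :=
    ⟨m / r - 1, by have := Nat.div_pos hrm hr.pos; omega⟩
  have hdm := Nat.div_add_mod' m r
  rw [hj] at hdm
  obtain ⟨σ, hσ⟩ := PermPrimeOrder.exists_cycleType (α := Fin m) hr.two_le (j := j + 1)
    (by rw [Fintype.card_fin]; omega)
  have hs : σ ∈ alternatingGroup (Fin m) := by
    rw [Perm.mem_alternatingGroup, sign_of_replicate hσ]
    refine Even.neg_one_pow ?_
    by_cases hr2 : r = 2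
    · obtain ⟨q, hq⟩ := h2 hr2
      subst hr2
      exact Even.mul_right ⟨q, by omega⟩ _
    · exact (Nat.even_add_one.2 (Nat.not_even_iff_odd.2 (hr.odd_of_ne_two hr2))).mul_left _
  have ho := PermPrimeOrder.orderOf_of_cycleType hσ
  refine ⟨⟨σ, hs⟩, by rw [← Subgroup.orderOf_coe]; exact ho, fun S hS hS' => ?_⟩
  obtain ⟨a, b, -, hb, hab⟩ := PermPrimeOrder.split_of_invariant
    (by rw [← ho]; exact pow_orderOf_eq_one σ) hσ hS'
  rw [Fintype.card_fin] at hb
  rcases Nat.eq_zero_or_pos a with rfl | ha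
  · omega
  · have := Nat.le_mul_of_pos_left r ha
    omega

/-! ### Subgroups of the symmetric group maximal outside the alternating group -/

theorem exists_of_intransitive (hm : 5 ≤ m) (H : Subgroup (Perm (Fin m)))
    (hmax : ∀ K : Subgroup (Perm (Fin m)), H ≤ K → ¬ alternatingGroup (Fin m) ≤ K →
      ∀ a ∈ alternatingGroup (Fin m), a ∈ K → a ∈ H)
    {S : Finset (Fin m)} (hk : 1 ≤ S.card) (hk2 : 2 * S.card ≤ m) (hHS : H ≤ setStab S)
    {r : ℕ} (hr : r.Prime) (hrd : r ∣ (H.subgroupOf (alternatingGroup (Fin m))).index)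
    (hrmax : ∀ s : ℕ, s.Prime → s ∣ (H.subgroupOf (alternatingGroup (Fin m))).index → s ≤ r) :
    ∃ x : alternatingGroup (Fin m), orderOf x = r ∧
      ∀ c, c * x * c⁻¹ ∉ H.subgroupOf (alternatingGroup (Fin m)) := by
  set k := S.card with hS
  have hnA : ¬ alternatingGroup (Fin m) ≤ setStab S := by
    intro hle
    obtain ⟨u, hu⟩ := Finset.card_pos.1 hk
    obtain ⟨v, hv⟩ : ∃ v, v ∉ S := by
      by_contra hall
      simp only [not_exists, not_not] at hall
      have : S = Finset.univ := Finset.eq_univ_of_forall hall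
      rw [hS, this, Finset.card_univ, Fintype.card_fin] at hk2
      omega
    obtain ⟨σ, hσ, e⟩ := exists_even_image (k := 1) (by omega) (Finset.card_singleton u)
      (Finset.card_singleton v)
    rw [Finset.image_singleton, Finset.singleton_inj] at e
    refine hv ?_
    rw [← show S.image σ = S from hle hσ, ← e]
    exact Finset.mem_image_of_mem _ hu
  have heq : H.subgroupOf (alternatingGroup (Fin m)) =
      (setStab S).subgroupOf (alternatingGroup (Fin m)) := by
    ext a
    rw [Subgroup.mem_subgroupOf, Subgroup.mem_subgroupOf]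
    exact ⟨fun h => hHS h, hmax _ hHS hnA a a.2⟩
  rw [heq, index_setStab (k := k) (by omega) rfl] at hrd hrmax
  obtain ⟨p, hp, hkp, hpd⟩ := SylvesterSchur.exists_prime_gt_dvd_choose hk hk2
  have hkr : k < r := hkp.trans_le (hrmax p hp hpd)
  obtain ⟨x, hx, hx'⟩ := exists_no_invariant hr hk hkr (by omega) hrd hm (fun h2 => by
    subst h2
    have hk1 : k = 1 := by omega
    rw [hk1, Nat.choose_one_right] at hrmax
    obtain ⟨a, ha⟩ : ∃ a, m = 2 ^ a := ⟨m.factorization 2, by
      conv_lhs => rw [← Nat.prod_factorization_pow_eq_self (show m ≠ 0 by omega)]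
      rw [Finsupp.prod_of_support_subset (s := {2}) _ (fun q hq => ?_) _ (fun i _ => pow_zero i),
        Finset.prod_singleton]
      rw [Nat.support_factorization] at hq
      have hqp := Nat.prime_of_mem_primeFactors hq
      have h := hrmax q hqp (Nat.dvd_of_mem_primeFactors hq)
      have := hqp.two_le
      exact Finset.mem_singleton.2 (by omega)⟩
    rcases a with _ | _ | a
    · omega
    · omega
    · exact ⟨2 ^ a, by rw [ha]; ring⟩)
  refine ⟨x, hx, fun c hc => ?_⟩
  rw [Subgroup.mem_subgroupOf] at hc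
  have hinv : S.image ((c * x * c⁻¹ : alternatingGroup (Fin m)) : Perm (Fin m)) = S := hHS hc
  refine hx' (S.image (c⁻¹ : alternatingGroup (Fin m))) ?_ ?_
  · rw [Finset.card_image_of_injective _ (Equiv.injective _)]
  · conv_rhs => rw [← hinv]
    rw [Finset.image_image, Finset.image_image]
    refine Finset.image_congr fun y _ => ?_
    simp

theorem exists_of_transitive (hm : 5 ≤ m) (H : Subgroup (Perm (Fin m)))
    (htr : IsPretransitive H (Fin m)) (hA : ¬ alternatingGroup (Fin m) ≤ H)
    {r : ℕ} (hr : r.Prime) (hrd : r ∣ (H.subgroupOf (alternatingGroup (Fin m))).index)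
    (hrmax : ∀ s : ℕ, s.Prime → s ∣ (H.subgroupOf (alternatingGroup (Fin m))).index → s ≤ r) :
    ∃ x : alternatingGroup (Fin m), orderOf x = r ∧
      ∀ c, c * x * c⁻¹ ∉ H.subgroupOf (alternatingGroup (Fin m)) := by
  set A := alternatingGroup (Fin m) with hAdef
  set M := H.subgroupOf A with hM
  have hrA : r ∣ Nat.card A := hrd.trans M.index_dvd_card
  by_cases hrM : r ∣ Nat.card M
  swap
  · exact exists_not_conj_of_not_dvd M hr hrA hrM
  have hrr := index_dvd_card_div hrd hrM
  have h2r : 2 * r ≤ m := by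
    by_contra h
    exact not_sq_dvd_card_alt hr (by omega) hrr
  obtain ⟨p, hp, hp1, hp2⟩ := Nat.exists_prime_lt_and_le_two_mul (m / 2) (by omega)
  haveI := Fact.mk hp
  have hpodd : p ≠ 2 := by omega
  have hpM : ¬ p ∣ M.index := fun h => by
    have := hrmax p hp h
    omega
  obtain ⟨y, hy⟩ := exists_prime_orderOf_dvd_card' p (dvd_card_alt (m := m) hp hpodd (by omega))
  obtain ⟨c, hc⟩ := exists_conj_mem M hpM (x := y) (k := 1) (by rw [pow_one, ← hy, pow_orderOf_eq_one])
  have hyc : orderOf ((c * y * c⁻¹ : A) : Perm (Fin m)) = p := by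
    rw [Subgroup.orderOf_coe, ← MulAut.conj_apply, MulEquiv.orderOf_eq, hy]
  have hcyc := Perm.isCycle_of_prime_order' (σ := ((c * y * c⁻¹ : A) : Perm (Fin m)))
    (hyc.symm ▸ hp) (by rw [hyc, Fintype.card_fin]; omega)
  have hsupp : ((c * y * c⁻¹ : A) : Perm (Fin m)).support.card = p := by rw [← hcyc.orderOf, hyc]
  haveI := htr
  have hprim : IsPreprimitive H (Fin m) := CfsgLib.PGroup.isPreprimitive_of_prime_cycle
    (Subgroup.mem_subgroupOf.1 hc) hcyc hp hsupp (by rw [Nat.card_fin]; omega)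
  by_cases hr2 : r = 2
  · exfalso
    subst hr2
    haveI : Fact (Nat.Prime 3) := ⟨Nat.prime_three⟩
    obtain ⟨z, hz, hzc, hzs⟩ := exists_cycle (m := m) Nat.prime_three (by norm_num) (by omega)
    obtain ⟨d, hd⟩ := exists_conj_mem M (fun h => by have := hrmax 3 Nat.prime_three h; omega)
      (x := z) (k := 1) (by rw [pow_one, ← hz, pow_orderOf_eq_one])
    refine hA (Equiv.Perm.alternatingGroup_le_of_isPreprimitive_of_isThreeCycle_mem hprim ?_
      (Subgroup.mem_subgroupOf.1 hd))
    rw [← card_support_eq_three_iff, Subgroup.coe_mul, Subgroup.coe_mul, Subgroup.coe_inv,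
      Perm.card_support_conj, hzs]
  · obtain ⟨x, hx, hxc, hxs⟩ := exists_cycle (m := m) hr hr2 (by omega)
    refine ⟨x, hx, fun d hd => hA (CfsgLib.PGroup.alternatingGroup_le_of_prime_cycle hprim
      (Subgroup.mem_subgroupOf.1 hd) ?_ hr ?_ ?_)⟩
    · simpa using hxc.conj (g := (d : Perm (Fin m)))
    · rw [Subgroup.coe_mul, Subgroup.coe_mul, Subgroup.coe_inv, Perm.card_support_conj, hxs]
    · rw [Nat.card_fin]
      have := hr.two_le
      omega

/-- The case `m ≠ 6`. -/
theorem exists_of_maximal (hm : 5 ≤ m) (H : Subgroup (Perm (Fin m)))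
    (hA : ¬ alternatingGroup (Fin m) ≤ H)
    (hmax : ∀ K : Subgroup (Perm (Fin m)), H ≤ K → ¬ alternatingGroup (Fin m) ≤ K →
      ∀ a ∈ alternatingGroup (Fin m), a ∈ K → a ∈ H)
    {r : ℕ} (hr : r.Prime) (hrd : r ∣ (H.subgroupOf (alternatingGroup (Fin m))).index)
    (hrmax : ∀ s : ℕ, s.Prime → s ∣ (H.subgroupOf (alternatingGroup (Fin m))).index → s ≤ r) :
    ∃ x : alternatingGroup (Fin m), orderOf x = r ∧
      ∀ c, c * x * c⁻¹ ∉ H.subgroupOf (alternatingGroup (Fin m)) := by
  classical
  by_cases htr : IsPretransitive H (Fin m)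
  · exact exists_of_transitive hm H htr hA hr hrd hrmax
  let x₀ : Fin m := ⟨0, by omega⟩
  let O : Finset (Fin m) := Finset.univ.filter (fun y => y ∈ orbit H x₀)
  have hOne : 1 ≤ O.card :=
    Finset.card_pos.2 ⟨x₀, Finset.mem_filter.2 ⟨Finset.mem_univ _, mem_orbit_self _⟩⟩
  have hOlt : O.card < m := by
    by_contra h
    refine htr ((isPretransitive_iff_base x₀).2 fun y => ?_)
    have hO : O = Finset.univ :=
      Finset.eq_univ_of_card _ (le_antisymm (Finset.card_le_univ _) (by rw [Fintype.card_fin]; omega))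
    exact (Finset.mem_filter.1 (hO ▸ Finset.mem_univ y : y ∈ O)).2
  have hmem : ∀ y, y ∈ O ↔ y ∈ orbit H x₀ := fun y => by simp [O]
  have hle : ∀ h ∈ H, ∀ y, h y ∈ O ↔ y ∈ O := fun h hh y => by
    rw [hmem, hmem]
    show ((⟨h, hh⟩ : H) • y) ∈ orbit H x₀ ↔ _
    constructor
    · rintro ⟨k, hk⟩
      exact ⟨(⟨h, hh⟩ : H)⁻¹ * k, by
        show ((⟨h, hh⟩ : H)⁻¹ * k) • x₀ = y
        rw [mul_smul, show k • x₀ = (⟨h, hh⟩ : H) • y from hk, inv_smul_smul]⟩
    · rintro ⟨k, rfl⟩
      exact ⟨(⟨h, hh⟩ : H) * k, mul_smul _ _ _⟩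
  have hO : H ≤ setStab O := fun h hh => Finset.eq_of_subset_of_card_le (fun y hy => by
    obtain ⟨z, hz, rfl⟩ := Finset.mem_image.1 hy
    exact (hle h hh z).2 hz) (by rw [Finset.card_image_of_injective _ (Equiv.injective _)])
  by_cases h2 : 2 * O.card ≤ m
  · exact exists_of_intransitive hm H hmax hOne h2 hO hr hrd hrmax
  · refine exists_of_intransitive hm H hmax (S := Oᶜ) ?_ ?_ ?_ hr hrd hrmax
    · rw [Finset.card_compl, Fintype.card_fin]; omega
    · rw [Finset.card_compl, Fintype.card_fin]; omega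
    · exact fun h hh => Finset.eq_of_subset_of_card_le (fun y hy => by
        obtain ⟨z, hz, rfl⟩ := Finset.mem_image.1 hy
        rw [Finset.mem_compl] at hz ⊢
        exact fun h' => hz ((hle h hh z).1 h'))
        (by rw [Finset.card_image_of_injective _ (Equiv.injective _)])

/-! ### Degree six -/

theorem cube_root_zmod_five : ∀ z : ZMod 5, z * z * z - 1 = 0 → z - 1 = 0 := by decide

theorem no_order_fifteen (σ : Perm (Fin 6)) : orderOf σ ≠ 15 := by
  intro h
  have hs : σ.cycleType.sum ≤ 6 := by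
    rw [Perm.sum_cycleType]
    exact (Finset.card_le_univ _).trans (by simp)
  have hl : σ.cycleType.lcm = 15 := by rw [Perm.lcm_cycleType, h]
  have hd : ∀ i ∈ σ.cycleType, i = 3 ∨ i = 5 := by
    intro i hi
    have h1 : i ∣ 15 := hl ▸ Multiset.dvd_lcm hi
    have h2 := Perm.two_le_of_mem_cycleType hi
    have h3 : i ≤ 6 := (Multiset.single_le_sum (fun _ _ => Nat.zero_le _) i hi).trans hs
    interval_cases i <;> omega
  have h5 : 5 ∈ σ.cycleType := by
    by_contra hno
    have : σ.cycleType.lcm ∣ 3 := Multiset.lcm_dvd.2 fun i hi => by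
      rcases hd i hi with rfl | rfl
      · exact dvd_rfl
      · exact absurd hi hno
    rw [hl] at this
    omega
  have h3 : 3 ∈ σ.cycleType := by
    by_contra hno
    have : σ.cycleType.lcm ∣ 5 := Multiset.lcm_dvd.2 fun i hi => by
      rcases hd i hi with rfl | rfl
      · exact absurd hi hno
      · exact dvd_rfl
    rw [hl] at this
    omega
  obtain ⟨t, ht⟩ := Multiset.exists_cons_of_mem h5
  rw [ht, Multiset.mem_cons] at h3
  have h3t : 3 ∈ t := h3.resolve_left (by norm_num)
  have := Multiset.single_le_sum (fun _ _ => Nat.zero_le _) 3 h3t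
  rw [ht, Multiset.sum_cons] at hs
  omega

/-- The case `m = 6`. -/
theorem exists_six (M : Subgroup (alternatingGroup (Fin 6))) (hM : M ≠ ⊤) {r : ℕ} (hr : r.Prime)
    (hrd : r ∣ M.index) (hrmax : ∀ s : ℕ, s.Prime → s ∣ M.index → s ≤ r) :
    ∃ x : alternatingGroup (Fin 6), orderOf x = r ∧ ∀ c, c * x * c⁻¹ ∉ M := by
  haveI : Fact r.Prime := ⟨hr⟩
  have hcard : Nat.card (alternatingGroup (Fin 6)) = 360 := by
    have h := two_mul_nat_card_alternatingGroup (α := Fin 6)
    rw [Nat.card_perm, Nat.card_fin, show Nat.factorial 6 = 720 from rfl] at h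
    change 2 * Nat.card (alternatingGroup (Fin 6)) = 720 at h
    omega
  by_cases hrM : r ∣ Nat.card M
  swap
  · exact exists_not_conj_of_not_dvd M hr (hrd.trans M.index_dvd_card) hrM
  have hrr := index_dvd_card_div hrd hrM
  rw [hcard] at hrr
  have hr3 : r = 2 ∨ r = 3 := by
    have h360 : r ≤ 18 := by
      have := Nat.le_of_dvd (by norm_num) hrr
      nlinarith
    have key : ∀ r < 19, r.Prime → r * r ∣ 360 → r = 2 ∨ r = 3 := by decide +kernel
    exact key r (by omega) hr hrr
  rcases hr3 with rfl | rfl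
  · exfalso
    haveI : Fact (Nat.Prime 3) := ⟨Nat.prime_three⟩
    haveI : Fact (Nat.Prime 5) := ⟨by norm_num⟩
    have h3 : ¬ 3 ∣ M.index := fun h => by have := hrmax 3 Nat.prime_three h; omega
    have h5 : ¬ 5 ∣ M.index := fun h => by have := hrmax 5 (by norm_num) h; omega
    have hidx : M.index ∣ 360 := hcard ▸ M.index_dvd_card
    have hidx8 : M.index ∣ 8 := by
      refine Nat.Coprime.dvd_of_dvd_mul_right (?_ : Nat.Coprime M.index 45) (by simpa using hidx)
      rw [show (45 : ℕ) = 3 ^ 2 * 5 from rfl]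
      refine Nat.Coprime.mul_right (Nat.Coprime.pow_right 2 ?_) ?_
      · exact ((Nat.prime_three).coprime_iff_not_dvd.2 h3).symm
      · exact ((show Nat.Prime 5 by norm_num).coprime_iff_not_dvd.2 h5).symm
    have hMcard : 45 ∣ Nat.card M := by
      have h := M.card_mul_index
      rw [hcard] at h
      refine Nat.Coprime.dvd_of_dvd_mul_right (?_ : Nat.Coprime 45 M.index) (h.symm ▸ ⟨8, rfl⟩)
      exact (Nat.Coprime.coprime_dvd_left hidx8 (by norm_num : Nat.Coprime 8 45)).symm
    haveI := alternatingGroup.isSimpleGroup (α := Fin 6) (by simp)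
    -- small index is impossible
    have hidx' : M.index = 8 := by
      have h1 : M.index ≠ 1 := fun h => hM (Subgroup.index_eq_one.1 h)
      have hmem : M.index ∈ Nat.divisors 8 := Nat.mem_divisors.2 ⟨hidx8, by norm_num⟩
      have h24 : M.index = 2 ∨ M.index = 4 ∨ M.index = 8 := by
        rw [show Nat.divisors 8 = {1, 2, 4, 8} by decide] at hmem
        simp only [Finset.mem_insert, Finset.mem_singleton] at hmem
        omega
      by_contra h8
      have hle : M.index ≤ 4 := by omega
      have hker : M.normalCore = ⊥ := (IsSimpleGroup.eq_bot_or_eq_top_of_normal _ inferInstance).resolve_right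
        fun h => hM (top_le_iff.1 (h ▸ M.normalCore_le))
      have h3 : Nat.card (alternatingGroup (Fin 6)) ∣ (M.index).factorial := by
        have h4 : (MulAction.toPermHom (alternatingGroup (Fin 6)) ((alternatingGroup (Fin 6)) ⧸ M)).ker = ⊥ := by rw [← Subgroup.normalCore_eq_ker, hker]
        have h5 := Subgroup.card_dvd_of_injective _ ((MonoidHom.ker_eq_bot_iff _).1 h4)
        rwa [Nat.card_perm, ← Subgroup.index_eq_card] at h5
      have h6 := Nat.le_of_dvd (Nat.factorial_pos _) h3
      have h7 : (M.index).factorial ≤ (4 : ℕ).factorial := Nat.factorial_le hle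
      rw [show (4 : ℕ).factorial = 24 from rfl] at h7
      omega
    have hM45 : Nat.card M = 45 := by
      have h := M.card_mul_index
      rw [hcard, hidx'] at h
      omega
    obtain ⟨u, hu⟩ := exists_prime_orderOf_dvd_card' (G := M) 3 (by rw [hM45]; norm_num)
    obtain ⟨v, hv⟩ := exists_prime_orderOf_dvd_card' (G := M) 5 (by rw [hM45]; norm_num)
    let P : Sylow 5 M := default
    have hn5 : Nat.card (Sylow 5 M) = 1 := by
      have h1 : Nat.card (Sylow 5 M) ∣ 45 := hM45 ▸ (P.card_dvd_index.trans (Subgroup.index_dvd_card _))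
      have h2 := card_sylow_modEq_one 5 M
      have h3 : Nat.card (Sylow 5 M) ∈ Nat.divisors 45 := Nat.mem_divisors.2 ⟨h1, by norm_num⟩
      rw [show Nat.divisors 45 = {1, 3, 5, 9, 15, 45} by decide] at h3
      simp only [Finset.mem_insert, Finset.mem_singleton] at h3
      unfold Nat.ModEq at h2
      omega
    haveI : Subsingleton (Sylow 5 M) := (Nat.card_eq_one_iff_unique.1 hn5).1
    have hP5 : Nat.card (P : Subgroup M) = 5 := by
      rw [P.card_eq_multiplicity, hM45]
      decide +kernel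
    have hvP : v ∈ (P : Subgroup M) := by
      obtain ⟨Q, hQ⟩ := (IsPGroup.of_card (p := 5) (n := 1)
        (by rw [Nat.card_zpowers, hv, pow_one]) : IsPGroup 5 (Subgroup.zpowers v)).exists_le_sylow
      exact Subsingleton.elim Q P ▸ hQ (Subgroup.mem_zpowers v)
    have hzv : (P : Subgroup M) = Subgroup.zpowers v :=
      (Subgroup.eq_of_le_of_card_ge (Subgroup.zpowers_le.2 hvP) (by rw [Nat.card_zpowers, hv, hP5])).symm
    have hconj : u * v * u⁻¹ ∈ Subgroup.zpowers v := by
      rw [← hzv]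
      exact (Sylow.normal_of_subsingleton P).conj_mem v hvP u
    obtain ⟨i, hi⟩ := Subgroup.mem_zpowers_iff.1 hconj
    have hcomm : Commute u v := by
      have h2 : u * (u * (u * v * u⁻¹) * u⁻¹) * u⁻¹ = v ^ (i * i * i) := by
        rw [← hi, ← conj_zpow, ← hi, ← zpow_mul, ← conj_zpow, ← hi, ← zpow_mul]
        ring_nf
      rw [show u * (u * (u * v * u⁻¹) * u⁻¹) * u⁻¹ = (u * u * u) * v * (u * u * u)⁻¹ by group,
        show u * u * u = u ^ 3 by rw [pow_succ, pow_two], ← hu,
        pow_orderOf_eq_one, one_mul, inv_one, mul_one] at h2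
      have h3 : (v : M) ^ (i * i * i - 1) = 1 := by rw [zpow_sub_one, ← h2, mul_inv_cancel]
      have h4 : (5 : ℤ) ∣ i * i * i - 1 := by
        have := orderOf_dvd_iff_zpow_eq_one.2 h3
        rwa [hv] at this
      have h5 : (5 : ℤ) ∣ i - 1 := by
        have h6 := (ZMod.intCast_zmod_eq_zero_iff_dvd _ 5).2 h4
        push_cast at h6
        have h7 := cube_root_zmod_five (i : ZMod 5) h6
        refine (ZMod.intCast_zmod_eq_zero_iff_dvd _ 5).1 ?_
        push_cast
        exact h7
      have h6 : v ^ (i - 1) = 1 := orderOf_dvd_iff_zpow_eq_one.1 (hv ▸ h5)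
      rw [zpow_sub_one, mul_inv_eq_one] at h6
      rw [h6] at hi
      exact mul_inv_eq_iff_eq_mul.1 hi.symm
    have h15 : orderOf (u * v) = 15 := by
      rw [hcomm.orderOf_mul_eq_mul_orderOf_of_coprime (by rw [hu, hv]; norm_num), hu, hv]
    exact no_order_fifteen (((u * v : M) : (alternatingGroup (Fin 6))) : Perm (Fin 6))
      (by rw [Subgroup.orderOf_coe, Subgroup.orderOf_coe, h15])
  · -- `r = 3`
    have h9 : ¬ 9 ∣ Nat.card M := fun h => by
      have h1 : 27 ∣ 360 := by
        rw [← hcard, ← M.card_mul_index]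
        exact (show 27 = 9 * 3 by norm_num) ▸ Nat.mul_dvd_mul h hrd
      omega
    let Q : Sylow 3 M := default
    have hQ : Nat.card (Q : Subgroup M) = 3 := by
      obtain ⟨j, hj⟩ := IsPGroup.iff_card.1 Q.2
      have h1 : 3 ∣ Nat.card (Q : Subgroup M) := Q.dvd_card_of_dvd_card hrM
      have h2 : Nat.card (Q : Subgroup M) ∣ Nat.card M := Subgroup.card_subgroup_dvd_card _
      rcases j with _ | _ | j
      · rw [hj] at h1; norm_num at h1
      · simpa using hj
      · exact absurd ((hj ▸ ⟨3 ^ j, by ring⟩ : 9 ∣ Nat.card (Q : Subgroup M)).trans h2) h9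
    obtain ⟨σ, hσ⟩ := PermPrimeOrder.exists_cycleType (α := Fin 6) (r := 3) (j := 1) (by norm_num) (by simp)
    obtain ⟨τ, hτ⟩ := PermPrimeOrder.exists_cycleType (α := Fin 6) (r := 3) (j := 2) (by norm_num) (by simp)
    have hσA : σ ∈ (alternatingGroup (Fin 6)) := by
      rw [Perm.mem_alternatingGroup, sign_of_replicate hσ]
      decide
    have hτA : τ ∈ (alternatingGroup (Fin 6)) := by
      rw [Perm.mem_alternatingGroup, sign_of_replicate hτ]
      decide
    have hoσ : orderOf (⟨σ, hσA⟩ : (alternatingGroup (Fin 6))) = 3 := by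
      rw [← Subgroup.orderOf_coe]; exact PermPrimeOrder.orderOf_of_cycleType hσ
    have hoτ : orderOf (⟨τ, hτA⟩ : (alternatingGroup (Fin 6))) = 3 := by
      rw [← Subgroup.orderOf_coe]; exact PermPrimeOrder.orderOf_of_cycleType hτ
    by_contra hno
    simp only [not_exists, not_and, not_forall, not_not] at hno
    obtain ⟨c, hc⟩ := hno _ hoσ
    obtain ⟨d, hd⟩ := hno _ hoτ
    have key : ∀ w : M, orderOf w = 3 → ∃ g : M, g * w * g⁻¹ ∈ (Q : Subgroup M) := by
      intro w hw
      exact exists_conj_mem (Q : Subgroup M) Q.not_dvd_index (k := 1)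
        (by rw [pow_one, ← hw, pow_orderOf_eq_one])
    have ho : ∀ (z : (alternatingGroup (Fin 6))) (e : (alternatingGroup (Fin 6))) (he : e * z * e⁻¹ ∈ M), orderOf z = 3 →
        orderOf (⟨_, he⟩ : M) = 3 := fun z e he hz => by
      rw [Subgroup.orderOf_mk, ← MulAut.conj_apply, MulEquiv.orderOf_eq, hz]
    obtain ⟨g₁, hg₁⟩ := key _ (ho _ c hc hoσ)
    obtain ⟨g₂, hg₂⟩ := key _ (ho _ d hd hoτ)
    set w₁ : M := g₁ * ⟨_, hc⟩ * g₁⁻¹ with hw₁
    set w₂ : M := g₂ * ⟨_, hd⟩ * g₂⁻¹ with hw₂
    have ho₁ : orderOf w₁ = 3 := by rw [hw₁, ← MulAut.conj_apply, MulEquiv.orderOf_eq, ho _ c hc hoσ]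
    have hz : (Q : Subgroup M) = Subgroup.zpowers w₁ :=
      (Subgroup.eq_of_le_of_card_ge (Subgroup.zpowers_le.2 hg₁) (by rw [Nat.card_zpowers, ho₁, hQ])).symm
    rw [hz, mem_zpowers_iff_mem_range_orderOf, ho₁] at hg₂
    obtain ⟨i, hi, hi'⟩ := Finset.mem_image.1 hg₂
    rw [Finset.mem_range] at hi
    have hct₁ : (((w₁ : M) : (alternatingGroup (Fin 6))) : Perm (Fin 6)).cycleType = Multiset.replicate 1 3 := by
      simp only [hw₁, Subgroup.coe_mul, Subgroup.coe_inv, Perm.cycleType_conj, hσ]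
    have hct₂ : (((w₂ : M) : (alternatingGroup (Fin 6))) : Perm (Fin 6)).cycleType = Multiset.replicate 2 3 := by
      simp only [hw₂, Subgroup.coe_mul, Subgroup.coe_inv, Perm.cycleType_conj, hτ]
    interval_cases i
    · rw [← hi', pow_zero, Subgroup.coe_one, Subgroup.coe_one, Perm.cycleType_one] at hct₂
      exact absurd (congrArg Multiset.card hct₂) (by simp)
    · rw [← hi', pow_one, hct₁] at hct₂
      exact absurd (congrArg Multiset.card hct₂) (by simp)
    · have h2 : w₁ ^ 2 = w₁⁻¹ := eq_inv_of_mul_eq_one_left (by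
        rw [← pow_succ, show (2 : ℕ) + 1 = 3 from rfl, ← ho₁, pow_orderOf_eq_one])
      rw [← hi', h2, Subgroup.coe_inv, Subgroup.coe_inv, Perm.cycleType_inv, hct₁] at hct₂
      exact absurd (congrArg Multiset.card hct₂) (by simp)

/-! ### The theorem -/

/-- A primitive group with alternating socle has a derangement whose order is the largest prime
divisor of the degree. -/
theorem exists_derangement {G Ω : Type*} [Group G] [Finite G] [MulAction G Ω] [FaithfulSMul G Ω]
    [Finite Ω] (T : Subgroup G) (hT : T.Normal) (hTc : Subgroup.centralizer (T : Set G) = ⊥)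
    (m : ℕ) (hm : 5 ≤ m) (eT : ↥T ≃* ↥(alternatingGroup (Fin m))) (hprim : IsPreprimitive G Ω)
    (hΩ : 2 ≤ Nat.card Ω) (r : ℕ) (hr : r.Prime) (hrd : r ∣ Nat.card Ω)
    (hmax : ∀ s : ℕ, s.Prime → s ∣ Nat.card Ω → s ≤ r) :
    ∃ g : G, orderOf g = r ∧ ∀ ω : Ω, g • ω ≠ ω := by
  classical
  haveI := hT
  haveI := hprim
  haveI hTt : IsPretransitive T Ω := by
    refine IsQuasiPreprimitive.isPretransitive_of_normal (G := G) (N := T) fun hfix => ?_
    have hTb : T = ⊥ := (Subgroup.eq_bot_iff_forall _).2 fun t ht =>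
      FaithfulSMul.eq_of_smul_eq_smul fun w : Ω => by
        rw [one_smul]
        exact (Set.eq_univ_iff_forall.1 hfix w) ⟨t, ht⟩
    haveI : Nontrivial (alternatingGroup (Fin m)) :=
      alternatingGroup.nontrivial_of_three_le_card (by simp; omega)
    haveI : Nontrivial T := eT.toEquiv.nontrivial
    exact (Subgroup.nontrivial_iff_ne_bot T).1 inferInstance hTb
  obtain ⟨ω₀⟩ : Nonempty Ω := (Nat.card_pos_iff.1 (by omega)).1
  haveI : Nontrivial Ω := Finite.one_lt_card_iff_nontrivial.1 (by omega)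
  set M := (stabilizer T ω₀).map eT.toMonoidHom with hMdef
  have hidx : M.index = Nat.card Ω := by
    rw [hMdef, Subgroup.index_map_of_bijective (f := eT.toMonoidHom) eT.bijective, index_stabilizer_of_transitive]
  have hMtop : M ≠ ⊤ := fun h => by rw [h, Subgroup.index_top] at hidx; omega
  suffices ∃ x : alternatingGroup (Fin m), orderOf x = r ∧ ∀ c, c * x * c⁻¹ ∉ M by
    obtain ⟨x, hx, hxc⟩ := this
    refine ⟨(eT.symm x : T), ?_, fun ω hω => ?_⟩
    · rw [Subgroup.orderOf_coe, MulEquiv.orderOf_eq, hx]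
    obtain ⟨t, rfl⟩ := exists_smul_eq T ω₀ ω
    refine hxc (eT t)⁻¹ ⟨t⁻¹ * eT.symm x * t, ?_, by simp⟩
    show (t⁻¹ * eT.symm x * t) • ω₀ = ω₀
    rw [mul_smul, mul_smul, show eT.symm x • t • ω₀ = t • ω₀ from hω, inv_smul_smul]
  by_cases h6 : m = 6
  · subst h6
    exact exists_six M hMtop hr (hidx ▸ hrd) (hidx ▸ hmax)
  -- the embedding in the symmetric group
  let φ := MulEquiv.ofBijective _ (CfsgLib.Perm.Groups.AltAut.conjNormal_bijective (Ω := Fin m)
    (by simp; omega) (by simpa using h6))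
  let ι : G →* Perm (Fin m) :=
    (φ.symm.toMonoidHom.comp (MulAut.congr eT).toMonoidHom).comp MulAut.conjNormal
  have hconj : ∀ g, (MulAut.conjNormal : Perm (Fin m) →* MulAut (alternatingGroup (Fin m))) (ι g) =
      MulAut.congr eT (MulAut.conjNormal g) := fun g => φ.apply_symm_apply _
  have hker : Function.Injective ι := by
    refine (injective_iff_map_eq_one ι).2 fun g hg => ?_
    have h1 : (MulAut.congr eT) (MulAut.conjNormal g) = 1 := by rw [← hconj, hg, map_one]
    have h2 : (MulAut.conjNormal g : MulAut T) = 1 := (MulAut.congr eT).map_eq_one_iff.1 h1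
    rw [← Subgroup.mem_bot, ← hTc, Subgroup.mem_centralizer_iff]
    intro t ht
    have h3 := congrArg (fun w : MulAut T => ((w ⟨t, ht⟩ : T) : G)) h2
    simp only [MulAut.conjNormal_apply, MulAut.one_apply] at h3
    exact (mul_inv_eq_iff_eq_mul.1 h3).symm
  have hιT : ∀ t : T, ι t = eT t := by
    intro t
    refine (CfsgLib.Perm.Groups.AltAut.conjNormal_bijective (Ω := Fin m) (by simp; omega)
      (by simpa using h6)).1 ?_
    rw [hconj]
    refine MulEquiv.ext fun a => Subtype.ext ?_
    have h1 : (MulAut.congr eT (MulAut.conjNormal (t : G))) a = eT (t * eT.symm a * t⁻¹) := by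
      show eT (MulAut.conjNormal (t : G) (eT.symm a)) = _
      congr 1
    rw [h1]
    simp [MulAut.conjNormal_apply]
  set H := (stabilizer G ω₀).map ι with hHdef
  have hHM : H.subgroupOf (alternatingGroup (Fin m)) = M := by
    ext a
    rw [Subgroup.mem_subgroupOf]
    constructor
    · rintro ⟨g, hg, hga⟩
      have : g = ((eT.symm a : T) : G) := hker (by rw [hιT, eT.apply_symm_apply]; exact hga)
      exact ⟨eT.symm a, mem_stabilizer_iff.2 (show ((eT.symm a : T) : G) • ω₀ = ω₀ from this ▸ hg),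
        eT.apply_symm_apply a⟩
    · rintro ⟨t, ht, rfl⟩
      exact ⟨(t : G), mem_stabilizer_iff.2 (show ((t : G)) • ω₀ = ω₀ from ht), hιT t⟩
  rw [← hHM] at hidx hMtop ⊢
  refine exists_of_maximal hm H (fun hle => hMtop (Subgroup.subgroupOf_eq_top.2 hle))
    (fun K hHK hK a ha haK => ?_) hr (hidx ▸ hrd) (hidx ▸ hmax)
  have hco := (IsPreprimitive.isCoatom_stabilizer_of_isPreprimitive G ω₀)
  rcases hco.le_iff.1 (show stabilizer G ω₀ ≤ K.comap ι from fun g hg => hHK (Subgroup.mem_map_of_mem ι hg))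
    with h | h
  · refine absurd (fun b hb => ?_) hK
    have hb' : ((eT.symm ⟨b, hb⟩ : T) : G) ∈ K.comap ι := h ▸ Subgroup.mem_top _
    rw [Subgroup.mem_comap, hιT, eT.apply_symm_apply] at hb'
    exact hb'
  · refine ⟨((eT.symm ⟨a, ha⟩ : T) : G), ?_, by rw [hιT, eT.apply_symm_apply]⟩
    rw [← h]
    show ((eT.symm ⟨a, ha⟩ : T) : G) ∈ K.comap ι
    rw [Subgroup.mem_comap, hιT, eT.apply_symm_apply]
    exact haK

end CfsgLib.Char.AltLargestPrime
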