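import Mathlib

/-!
# Carmichael's presentation of the alternating group
-/

set_option autoImplicit false
set_option linter.style.haveILetI false

namespace CfsgLib.Char.AltPres

open Subgroup

/-- the relations among the first `m` generators -/
structure Rel {P : Type*} [Group P] (x : ℕ → P) (m : ℕ) : Prop where
  cube : 0 < m → x 0 ^ 3 = 1
  sq : ∀ i, 1 ≤ i → i < m → x i ^ 2 = 1
  braid : ∀ i, i + 1 < m → (x i * x (i + 1)) ^ 3 = 1
  far : ∀ i j, i + 1 < j → j < m → (x i * x j) ^ 2 = 1

section

variable {P : Type*} [Group P] {x : ℕ → P} {m : ℕ}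

theorem Rel.mono (h : Rel x m) {k : ℕ} (hk : k ≤ m) : Rel x k :=
  ⟨fun h0 => h.cube (by omega), fun i h1 h2 => h.sq i h1 (by omega), fun i hi => h.braid i (by omega),
    fun i j h1 h2 => h.far i j h1 (by omega)⟩

theorem Rel.mul_self (h : Rel x m) {i : ℕ} (h1 : 1 ≤ i) (h2 : i < m) : x i * x i = 1 := by
  rw [← pow_two, h.sq i h1 h2]

theorem Rel.inv_eq (h : Rel x m) {i : ℕ} (h1 : 1 ≤ i) (h2 : i < m) : (x i)⁻¹ = x i :=
  inv_eq_of_mul_eq_one_right (h.mul_self h1 h2)

/-- `x j` (`j ≥ 2`) inverts `x 0` -/
theorem Rel.conj_zero (h : Rel x m) {j : ℕ} (h1 : 2 ≤ j) (h2 : j < m) :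
    x j * x 0 = (x 0)⁻¹ * x j ∧ x 0 * x j = x j * (x 0)⁻¹ := by
  have e := h.far 0 j (by omega) h2
  rw [pow_two] at e
  have e1 : x 0 * x j = (x j)⁻¹ * (x 0)⁻¹ := by
    rw [← mul_inv_rev]
    exact eq_inv_of_mul_eq_one_left e
  rw [h.inv_eq (by omega) h2] at e1
  refine ⟨?_, e1⟩
  calc x j * x 0 = (x 0)⁻¹ * ((x 0 * x j) * x 0) := by group
    _ = (x 0)⁻¹ * x j := by rw [e1, mul_assoc, inv_mul_cancel, mul_one]

theorem Rel.commute_far (h : Rel x m) {i j : ℕ} (h1 : 1 ≤ i) (h3 : i + 1 < j) (h2 : j < m) :
    x i * x j = x j * x i := by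
  have e := h.far i j h3 h2
  rw [pow_two] at e
  have e1 : x i * x j = (x i * x j)⁻¹ := eq_inv_of_mul_eq_one_left e
  rwa [mul_inv_rev, h.inv_eq h1 (by omega), h.inv_eq (by omega) h2] at e1

theorem Rel.braid_eq (h : Rel x m) {i : ℕ} (h1 : 1 ≤ i) (h2 : i + 1 < m) :
    x (i + 1) * x i * x (i + 1) = x i * x (i + 1) * x i := by
  have e := h.braid i h2
  rw [pow_succ, pow_two] at e
  have e1 : x (i + 1) * x i * x (i + 1) = (x i)⁻¹ * (x i * x (i + 1) * (x i * x (i + 1)) * (x i * x (i + 1))) * (x (i + 1))⁻¹ * (x i)⁻¹ * 1 := by group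
  have e2 : x (i + 1) * x i * x (i + 1) * (x i * x (i + 1) * x i) = (x i)⁻¹ * ((x i * x (i + 1) * (x i * x (i + 1)) * (x i * x (i + 1)))) * x i := by group
  rw [e, mul_one, inv_mul_cancel] at e2
  rw [eq_inv_of_mul_eq_one_left e2, mul_inv_rev, mul_inv_rev, h.inv_eq h1 (by omega),
    h.inv_eq (by omega) h2, mul_assoc]

theorem Rel.braid_zero (h : Rel x m) (h2 : 1 < m) :
    x 1 * x 0 * x 1 = (x 0)⁻¹ * x 1 * (x 0)⁻¹ := by
  have e := h.braid 0 h2
  rw [pow_succ, pow_two] at e
  have e2 : x 1 * x 0 * x 1 * (x 0 * x 1 * x 0) =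
      (x 0)⁻¹ * ((x 0 * x 1 * (x 0 * x 1) * (x 0 * x 1))) * x 0 := by group
  rw [e, mul_one, inv_mul_cancel] at e2
  rw [eq_inv_of_mul_eq_one_left e2, mul_inv_rev, mul_inv_rev, h.inv_eq le_rfl h2, mul_assoc]

theorem exists_closed_cosets (h : Rel x (m + 1)) (o : P ⧸ closure (x '' Set.Iio m))
    (ho : ∀ j < m, x j • o = o) :
    ∃ s : Finset (P ⧸ closure (x '' Set.Iio m)), s.card ≤ m + 3 ∧ o ∈ s ∧
      ∀ z ∈ s, ∀ j ≤ m, x j • z ∈ s := by
  classical
  let p : ℕ → P ⧸ closure (x '' Set.Iio m) :=
    fun i => (List.range' i (m + 1 - i)).foldr (fun k z => x k • z) o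
  have ptop : p (m + 1) = o := by simp [p]
  have pstep : ∀ i ≤ m, p i = x i • p (i + 1) := fun i hi => by
    simp only [p]
    rw [show m + 1 - i = (m + 1 - (i + 1)) + 1 by omega, List.range'_succ]
    rfl
  have hA : ∀ d i j, i + d = m + 1 → j + 2 ≤ i → x j • p i = p i := by
    intro d
    induction d with
    | zero => intro i j hi hj; rw [show i = m + 1 by omega, ptop, ho j (by omega)]
    | succ d ih =>
      intro i j hi hj
      have hn := ih (i + 1) j (by omega) (by omega)
      rw [pstep i (by omega), ← mul_smul]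
      rcases Nat.eq_zero_or_pos j with rfl | hj0
      · rw [(h.conj_zero (j := i) (by omega) (by omega)).2, mul_smul,
          show (x 0)⁻¹ • p (i + 1) = p (i + 1) from inv_smul_eq_iff.2 hn.symm]
      · rw [h.commute_far (i := j) (j := i) hj0 (by omega) (by omega), mul_smul, hn]
  have hA' : ∀ i j, i ≤ m + 1 → j + 2 ≤ i → x j • p i = p i := fun i j hi hj =>
    hA (m + 1 - i) i j (by omega) hj
  have hB : ∀ d i j, i + d + 1 = j → 1 ≤ i → j ≤ m → x j • p i = p i := by
    intro d
    induction d with
    | zero =>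
      intro i j hij h1 hj
      obtain rfl : j = i + 1 := by omega
      rw [pstep i (by omega), pstep (i + 1) hj, ← mul_smul, ← mul_smul, h.braid_eq h1 (by omega),
        mul_smul, mul_smul, hA' (i + 2) i (by omega) le_rfl]
    | succ d ih =>
      intro i j hij h1 hj
      rw [pstep i (by omega), ← mul_smul, ← h.commute_far (i := i) (j := j) h1 (by omega) (by omega),
        mul_smul, ih (i + 1) j (by omega) (by omega) hj]
  let q := x 0 • p 0
  have h0q : x 0 • q = p 1 := by
    show x 0 • x 0 • p 0 = p 1
    rw [pstep 0 (Nat.zero_le _), ← mul_smul, ← mul_smul, ← pow_three',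
      h.cube (by omega), one_smul]
  have hjp0 : ∀ j, 1 ≤ j → j ≤ m → x j • p 0 = q := by
    intro j h1 hj
    have hq : q = (x 0)⁻¹ • p 1 := by rw [← h0q, inv_smul_smul]
    rw [hq, pstep 0 (Nat.zero_le _), ← mul_smul]
    rcases Nat.lt_or_ge j 2 with hj2 | hj2
    · obtain rfl : j = 1 := by omega
      rw [pstep 1 hj, ← mul_smul, h.braid_zero (by omega), mul_smul, mul_smul,
        show (x 0)⁻¹ • p 2 = p 2 from inv_smul_eq_iff.2 (hA' 2 0 (by omega) le_rfl).symm]
    · rw [(h.conj_zero hj2 (by omega)).1, mul_smul, hB (j - 2) 1 j (by omega) le_rfl hj]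
  refine ⟨insert o (insert q ((Finset.range (m + 1)).image p)), ?_, Finset.mem_insert_self _ _, ?_⟩
  · refine (Finset.card_insert_le _ _).trans (Nat.add_le_add_right ((Finset.card_insert_le _ _).trans
      (Nat.add_le_add_right (Finset.card_image_le.trans_eq (Finset.card_range _)) 1)) 1)
  have hmem : ∀ i ≤ m + 1, p i ∈ insert o (insert q ((Finset.range (m + 1)).image p)) := by
    intro i hi
    rcases eq_or_ne i (m + 1) with rfl | hne
    · rw [ptop]; exact Finset.mem_insert_self _ _
    · exact Finset.mem_insert_of_mem (Finset.mem_insert_of_mem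
        (Finset.mem_image_of_mem p (Finset.mem_range.2 (by omega))))
  have hqm : q ∈ insert o (insert q ((Finset.range (m + 1)).image p)) :=
    Finset.mem_insert_of_mem (Finset.mem_insert_self _ _)
  intro z hz j hj
  rw [Finset.mem_insert, Finset.mem_insert, Finset.mem_image] at hz
  rcases hz with rfl | rfl | ⟨i, hi, rfl⟩
  · rcases eq_or_ne j m with rfl | hne
    · rw [show x j • z = p j by rw [pstep j le_rfl, ptop]]
      exact hmem j (by omega)
    · rw [ho j (by omega)]
      exact Finset.mem_insert_self _ _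
  · rcases Nat.eq_zero_or_pos j with rfl | hj0
    · rw [h0q]; exact hmem 1 (by omega)
    · rw [show x j • q = p 0 by rw [← hjp0 j hj0 hj, ← mul_smul, h.mul_self hj0 (by omega), one_smul]]
      exact hmem 0 (by omega)
  · rw [Finset.mem_range] at hi
    rcases Nat.eq_zero_or_pos i with rfl | hi0
    · rcases Nat.eq_zero_or_pos j with rfl | hj0
      · exact hqm
      · rw [hjp0 j hj0 hj]; exact hqm
    · rcases Nat.lt_or_ge (j + 1) i with hc | hc
      · rw [hA' i j (by omega) (by omega)]; exact hmem i (by omega)
      rcases eq_or_ne (j + 1) i with rfl | hc'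
      · rw [← pstep j hj]; exact hmem j (by omega)
      rcases eq_or_ne j i with rfl | hc''
      · rw [pstep j hj, ← mul_smul, h.mul_self hi0 (by omega), one_smul]
        exact hmem (j + 1) (by omega)
      · rw [hB (j - i - 1) i j (by omega) hi0 hj]; exact hmem i (by omega)

theorem card_closure_le : ∀ m, Rel x m → Finite (closure (x '' Set.Iio m)) ∧
    2 * Nat.card (closure (x '' Set.Iio m)) ≤ (m + 2).factorial := by
  intro m
  induction m with
  | zero =>
    intro _
    rw [show x '' Set.Iio 0 = ∅ by simp, Subgroup.closure_empty]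
    exact ⟨inferInstance, by simp⟩
  | succ m ih =>
    intro h
    obtain ⟨hfin, hle⟩ := ih (h.mono (by omega))
    set H := closure (x '' Set.Iio m) with hH
    obtain ⟨o, ho'⟩ : ∃ o : P ⧸ H, o = QuotientGroup.mk 1 := ⟨_, rfl⟩
    obtain ⟨s, hs, hos, hcl⟩ := exists_closed_cosets h o fun j hj => by
      rw [ho', MulAction.Quotient.smul_mk, smul_eq_mul, mul_one, QuotientGroup.eq, mul_one]
      exact inv_mem (hH ▸ subset_closure ⟨j, hj, rfl⟩)
    set K := closure (x '' Set.Iio (m + 1)) with hK
    have hHK : H ≤ K := closure_mono (Set.image_mono (Set.Iio_subset_Iio (by omega)))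
    have hall : ∀ g ∈ K, ∀ z ∈ s, g • z ∈ s := by
      classical
      intro g hg
      induction hg using Subgroup.closure_induction with
      | mem t ht => obtain ⟨j, hj, rfl⟩ := ht; exact fun z hz => hcl z hz j (Nat.lt_succ_iff.1 hj)
      | one => exact fun z hz => by rwa [one_smul]
      | mul a b _ _ ha hb => exact fun z hz => by rw [mul_smul]; exact ha _ (hb z hz)
      | inv a _ ha =>
        intro z hz
        have himg : s.image (fun y => a • y) = s :=
          Finset.eq_of_subset_of_card_le (fun y hy => by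
            obtain ⟨w, hw, rfl⟩ := Finset.mem_image.1 hy
            exact ha w hw) (by rw [Finset.card_image_of_injective _ (MulAction.injective a)])
        obtain ⟨w, hw, e⟩ := Finset.mem_image.1 (himg.symm ▸ hz)
        rw [← e, inv_smul_smul]
        exact hw
    let f : K ⧸ H.subgroupOf K → s := fun c => ⟨Quotient.liftOn' c
      (fun g : K => (g : P) • o) (fun a b hab => by
        show (a : P) • o = (b : P) • o
        rw [QuotientGroup.leftRel_apply, mem_subgroupOf] at hab
        rw [ho', MulAction.Quotient.smul_mk, MulAction.Quotient.smul_mk, QuotientGroup.eq]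
        simpa using hab),
      Quotient.inductionOn' c fun g => hall g g.2 o hos⟩
    have hf : Function.Injective f := by
      intro c c'
      refine QuotientGroup.induction_on c fun a => QuotientGroup.induction_on c' fun b e => ?_
      have e' : (a : P) • o = (b : P) • o := congrArg Subtype.val e
      rw [ho', MulAction.Quotient.smul_mk, MulAction.Quotient.smul_mk, QuotientGroup.eq] at e'
      rw [QuotientGroup.eq, mem_subgroupOf]
      simpa using e'
    haveI : Finite (K ⧸ H.subgroupOf K) := Finite.of_injective f hf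
    haveI : Finite (H.subgroupOf K) := Finite.of_equiv _ (subgroupOfEquivOfLe hHK).symm.toEquiv
    haveI : Finite K := Finite.of_equiv _
      (Subgroup.groupEquivQuotientProdSubgroup (s := H.subgroupOf K)).symm
    refine ⟨inferInstance, ?_⟩
    rw [Subgroup.card_eq_card_quotient_mul_card_subgroup (H.subgroupOf K),
      Nat.card_congr (subgroupOfEquivOfLe hHK).toEquiv]
    have hq : Nat.card (K ⧸ H.subgroupOf K) ≤ m + 3 := by
      refine le_trans (Nat.card_le_card_of_injective f hf) ?_
      rw [Nat.card_eq_fintype_card, Fintype.card_coe]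
      exact hs
    calc 2 * (Nat.card (K ⧸ H.subgroupOf K) * Nat.card H)
        = Nat.card (K ⧸ H.subgroupOf K) * (2 * Nat.card H) := by ring
      _ ≤ (m + 3) * (m + 2).factorial := Nat.mul_le_mul hq hle
      _ = (m + 1 + 2).factorial := by rw [show m + 1 + 2 = (m + 2) + 1 by omega]; exact (Nat.factorial_succ (m + 2)).symm

end

/-! ### the permutations -/

variable (n : ℕ) [NeZero n]

/-- a point -/
def pt (i : ℕ) : Fin n := ⟨i % n, Nat.mod_lt _ (Nat.pos_of_ne_zero (NeZero.ne n))⟩

/-- the generators -/
def gen (i : ℕ) : Equiv.Perm (Fin n) :=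
  if i = 0 then Equiv.swap (pt n 0) (pt n 1) * Equiv.swap (pt n 1) (pt n 2)
  else Equiv.swap (pt n 0) (pt n 1) * Equiv.swap (pt n (i + 1)) (pt n (i + 2))

variable {n}

theorem pt_ne {i j : ℕ} (hi : i < n) (hj : j < n) (h : i ≠ j) : pt n i ≠ pt n j := fun e => h (by
  have := congrArg Fin.val e
  simpa [pt, Nat.mod_eq_of_lt hi, Nat.mod_eq_of_lt hj] using this)

theorem swap_comm_of_ne {α : Type*} [DecidableEq α] {a b c d : α} (h1 : a ≠ c) (h2 : a ≠ d)
    (h3 : b ≠ c) (h4 : b ≠ d) : Commute (Equiv.swap a b) (Equiv.swap c d) := by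
  ext x
  simp only [Equiv.Perm.mul_apply, Equiv.swap_apply_def]
  split_ifs <;> simp_all

theorem gen_rel {m : ℕ} (hm : m + 2 ≤ n) : Rel (gen n) m := by
  have sq : ∀ a b c d : Fin n, Commute (Equiv.swap a b) (Equiv.swap c d) →
      (Equiv.swap a b * Equiv.swap c d) ^ 2 = 1 := fun a b c d h => by
    rw [h.mul_pow, pow_two, pow_two, Equiv.swap_mul_self, Equiv.swap_mul_self, one_mul]
  have cub : ∀ a b c : Fin n, a ≠ b → a ≠ c → b ≠ c → (Equiv.swap a b * Equiv.swap a c) ^ 3 = 1 :=
    fun a b c h1 h2 h3 => by
      rw [← (Equiv.Perm.isThreeCycle_swap_mul_swap_same h1 h2 h3).orderOf]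
      exact pow_orderOf_eq_one _
  refine ⟨fun h0 => ?_, fun i h1 h2 => ?_, fun i hi => ?_, fun i j hij hj => ?_⟩
  · rw [gen, if_pos rfl, Equiv.swap_comm (pt n 0)]
    exact cub _ _ _ (pt_ne (by omega) (by omega) (by omega)) (pt_ne (by omega) (by omega) (by omega))
      (pt_ne (by omega) (by omega) (by omega))
  · rw [gen, if_neg (by omega)]
    exact sq _ _ _ _ (swap_comm_of_ne (pt_ne (by omega) (by omega) (by omega))
      (pt_ne (by omega) (by omega) (by omega)) (pt_ne (by omega) (by omega) (by omega))
      (pt_ne (by omega) (by omega) (by omega)))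
  · rcases Nat.eq_zero_or_pos i with rfl | hi0
    · rw [gen, gen, if_pos rfl, if_neg (by omega)]
      have e : Equiv.swap (pt n 0) (pt n 1) * Equiv.swap (pt n 1) (pt n 2) * Equiv.swap (pt n 0) (pt n 1)
          = Equiv.swap (pt n 2) (pt n 0) := by
        rw [Equiv.swap_comm (pt n 1) (pt n 2), Equiv.swap_comm (pt n 0) (pt n 1),
          Equiv.swap_mul_swap_mul_swap (pt_ne (by omega) (by omega) (by omega)).symm (pt_ne (by omega) (by omega) (by omega))]
        exact Equiv.swap_comm _ _
      rw [← mul_assoc, e]
      exact cub _ _ _ (pt_ne (by omega) (by omega) (by omega)) (pt_ne (by omega) (by omega) (by omega))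
        (pt_ne (by omega) (by omega) (by omega))
    · rw [gen, gen, if_neg (by omega), if_neg (by omega)]
      have hc : Commute (Equiv.swap (pt n (i + 1)) (pt n (i + 2))) (Equiv.swap (pt n 0) (pt n 1)) :=
        swap_comm_of_ne (pt_ne (by omega) (by omega) (by omega)) (pt_ne (by omega) (by omega) (by omega))
          (pt_ne (by omega) (by omega) (by omega)) (pt_ne (by omega) (by omega) (by omega))
      rw [mul_assoc, ← mul_assoc (Equiv.swap (pt n (i + 1)) (pt n (i + 2))), hc.eq, mul_assoc,
        ← mul_assoc (Equiv.swap (pt n 0) (pt n 1)), Equiv.swap_mul_self, one_mul,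
        Equiv.swap_comm (pt n (i + 1))]
      exact cub _ _ _ (pt_ne (by omega) (by omega) (by omega)) (pt_ne (by omega) (by omega) (by omega))
        (pt_ne (by omega) (by omega) (by omega))
  · rcases Nat.eq_zero_or_pos i with rfl | hi0
    · rw [gen, gen, if_pos rfl, if_neg (by omega)]
      have e : Equiv.swap (pt n 0) (pt n 1) * Equiv.swap (pt n 1) (pt n 2) * Equiv.swap (pt n 0) (pt n 1)
          = Equiv.swap (pt n 2) (pt n 0) := by
        rw [Equiv.swap_comm (pt n 1) (pt n 2), Equiv.swap_comm (pt n 0) (pt n 1),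
          Equiv.swap_mul_swap_mul_swap (pt_ne (by omega) (by omega) (by omega)).symm (pt_ne (by omega) (by omega) (by omega))]
        exact Equiv.swap_comm _ _
      rw [← mul_assoc, e]
      exact sq _ _ _ _ (swap_comm_of_ne (pt_ne (by omega) (by omega) (by omega))
        (pt_ne (by omega) (by omega) (by omega)) (pt_ne (by omega) (by omega) (by omega))
        (pt_ne (by omega) (by omega) (by omega)))
    · rw [gen, gen, if_neg (by omega), if_neg (by omega)]
      have hc : Commute (Equiv.swap (pt n (i + 1)) (pt n (i + 2))) (Equiv.swap (pt n 0) (pt n 1)) :=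
        swap_comm_of_ne (pt_ne (by omega) (by omega) (by omega)) (pt_ne (by omega) (by omega) (by omega))
          (pt_ne (by omega) (by omega) (by omega)) (pt_ne (by omega) (by omega) (by omega))
      rw [mul_assoc, ← mul_assoc (Equiv.swap (pt n (i + 1)) (pt n (i + 2))), hc.eq, mul_assoc,
        ← mul_assoc (Equiv.swap (pt n 0) (pt n 1)), Equiv.swap_mul_self, one_mul]
      exact sq _ _ _ _ (swap_comm_of_ne (pt_ne (by omega) (by omega) (by omega))
        (pt_ne (by omega) (by omega) (by omega)) (pt_ne (by omega) (by omega) (by omega))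
        (pt_ne (by omega) (by omega) (by omega)))

theorem gen_mem_alt {i : ℕ} (hi : i + 2 < n) : gen n i ∈ alternatingGroup (Fin n) := by
  rw [Equiv.Perm.mem_alternatingGroup, gen]
  split_ifs with h
  · rw [map_mul, Equiv.Perm.sign_swap (pt_ne (by omega) (by omega) (by omega)),
      Equiv.Perm.sign_swap (pt_ne (by omega) (by omega) (by omega))]
    rfl
  · rw [map_mul, Equiv.Perm.sign_swap (pt_ne (by omega) (by omega) (by omega)),
      Equiv.Perm.sign_swap (pt_ne (by omega) (by omega) (by omega))]
    rfl

/-- even permutations of the first `m + 2` points are generated -/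
theorem mem_closure_gen : ∀ m, 1 ≤ m → m + 2 ≤ n → ∀ g : Equiv.Perm (Fin n), g ∈ alternatingGroup (Fin n) →
    (∀ k : Fin n, m + 2 ≤ (k : ℕ) → g k = k) → g ∈ closure (gen n '' Set.Iio m) := by
  intro m h1
  induction m, h1 using Nat.le_induction with
  | base =>
    intro hn g hg hfix
    let a := pt n 0; let b := pt n 1; let c := pt n 2
    have hab : a ≠ b := pt_ne (by omega) (by omega) (by omega)
    have hac : a ≠ c := pt_ne (by omega) (by omega) (by omega)
    have hbc : b ≠ c := pt_ne (by omega) (by omega) (by omega)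
    have h3 : ∀ k : Fin n, k = a ∨ k = b ∨ k = c ∨ g k = k := fun k => by
      rcases Nat.lt_or_ge (k : ℕ) 3 with h | h
      · have hk : k = pt n k := Fin.ext (by simp [pt, Nat.mod_eq_of_lt k.2])
        generalize hv : (k : ℕ) = v at h hk
        interval_cases v <;> simp [a, b, c, hk]
      · exact Or.inr (Or.inr (Or.inr (hfix k h)))
    have hgen : gen n 0 = Equiv.swap a b * Equiv.swap b c := by rw [gen, if_pos rfl]
    have hsupp : g.support ⊆ {a, b, c} := fun k hk => by
      rw [Equiv.Perm.mem_support] at hk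
      rcases h3 k with h | h | h | h <;> simp_all
    by_cases hg1 : g = 1
    · rw [hg1]; exact one_mem _
    have hcard : g.support.card = 3 := by
      have hle : g.support.card ≤ 3 := (Finset.card_le_card hsupp).trans Finset.card_le_three
      have h2 : 2 ≤ g.support.card := Equiv.Perm.two_le_card_support_of_ne_one hg1
      rcases eq_or_ne g.support.card 2 with h | h
      · obtain ⟨u, v, huv, rfl⟩ := Equiv.Perm.card_support_eq_two.1 h
        rw [Equiv.Perm.mem_alternatingGroup, Equiv.Perm.sign_swap huv] at hg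
        exact absurd hg (by decide)
      · omega
    have hsupp' : g.support = {a, b, c} :=
      Finset.eq_of_subset_of_card_le hsupp (by rw [hcard]; exact Finset.card_le_three)
    have hga : g a = b ∨ g a = c := by
      have hmem : a ∈ g.support := by rw [hsupp']; simp
      have h2 : g a ∈ g.support := Equiv.Perm.apply_mem_support.2 hmem
      rw [hsupp', Finset.mem_insert, Finset.mem_insert, Finset.mem_singleton] at h2
      exact h2.resolve_left (Equiv.Perm.mem_support.1 hmem)
    have hne : ∀ k ∈ ({a, b, c} : Finset (Fin n)), g k ≠ k := fun k hk =>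
      Equiv.Perm.mem_support.1 (hsupp' ▸ hk)
    have hin : ∀ k ∈ ({a, b, c} : Finset (Fin n)), g k = a ∨ g k = b ∨ g k = c := fun k hk => by
      have h2 : g k ∈ g.support := Equiv.Perm.apply_mem_support.2 (hsupp' ▸ hk)
      simpa [hsupp'] using h2
    have na := hne a (by simp); have nb := hne b (by simp); have nc := hne c (by simp)
    have ib := hin b (by simp); have ic := hin c (by simp)
    have iab : g a ≠ g b := g.injective.ne hab
    have iac : g a ≠ g c := g.injective.ne hac
    have ibc : g b ≠ g c := g.injective.ne hbc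
    have hmem : gen n 0 ∈ closure (gen n '' Set.Iio 1) := subset_closure ⟨0, by simp, rfl⟩
    rcases hga with hga | hga
    · have hgb : g b = c := by
        rcases ib with h | h | h
        · exfalso
          rcases ic with h' | h' | h'
          · exact ibc (h.trans h'.symm)
          · exact iac (hga.trans h'.symm)
          · exact nc h'
        · exact absurd h nb
        · exact h
      have hgc : g c = a := by
        rcases ic with h | h | h
        · exact h
        · exact absurd (hga.trans h.symm) iac
        · exact absurd h nc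
      have : g = gen n 0 := by
        rw [hgen]
        ext k
        rcases h3 k with rfl | rfl | rfl | h
        · simp [hga, Equiv.swap_apply_def, hab, hac]
        · simp [hgb, Equiv.swap_apply_def, hab.symm, hac.symm, hbc.symm]
        · simp [hgc, Equiv.swap_apply_def, hac.symm, hbc.symm]
        · by_cases hk : k ∈ g.support
          · exact absurd h (Equiv.Perm.mem_support.1 hk)
          · rw [hsupp', Finset.mem_insert, Finset.mem_insert, Finset.mem_singleton, not_or, not_or] at hk
            simp [h, Equiv.swap_apply_def, hk.1, hk.2.1, hk.2.2]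
      rw [this]; exact hmem
    · have hgc : g c = b := by
        rcases ic with h | h | h
        · exfalso
          rcases ib with h' | h' | h'
          · exact ibc (h'.trans h.symm)
          · exact nb h'
          · exact iab (hga.trans h'.symm)
        · exact h
        · exact absurd h nc
      have hgb : g b = a := by
        rcases ib with h | h | h
        · exact h
        · exact absurd h nb
        · exact absurd (hga.trans h.symm) iab
      have : g = (gen n 0)⁻¹ := by
        rw [hgen, mul_inv_rev, Equiv.swap_inv, Equiv.swap_inv]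
        ext k
        rcases h3 k with rfl | rfl | rfl | h
        · simp [hga, Equiv.swap_apply_def, hab, hac, hab.symm]
        · simp [hgb, Equiv.swap_apply_def, hab, hac, hab.symm, hbc]
        · simp [hgc, Equiv.swap_apply_def, hac.symm, hbc.symm, hbc]
        · by_cases hk : k ∈ g.support
          · exact absurd h (Equiv.Perm.mem_support.1 hk)
          · rw [hsupp', Finset.mem_insert, Finset.mem_insert, Finset.mem_singleton, not_or, not_or] at hk
            simp [h, Equiv.swap_apply_def, hk.1, hk.2.1, hk.2.2]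
      rw [this]; exact inv_mem hmem
  | succ m h1 ih =>
    intro hn g hg hfix
    have ih := ih (by omega)
    set K := closure (gen n '' Set.Iio (m + 1)) with hK
    have hsub : closure (gen n '' Set.Iio m) ≤ K :=
      closure_mono (Set.image_mono (Set.Iio_subset_Iio (by omega)))
    let t := pt n (m + 2)
    let u := pt n (m + 1)
    have htv : (t : ℕ) = m + 2 := Nat.mod_eq_of_lt (by omega)
    have huv : (u : ℕ) = m + 1 := Nat.mod_eq_of_lt (by omega)
    have hgm : gen n m ∈ K := subset_closure ⟨m, by simp, rfl⟩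
    have hgmu : gen n m u = t := by
      rw [gen, if_neg (by omega), Equiv.Perm.mul_apply, Equiv.swap_apply_left,
        Equiv.swap_apply_of_ne_of_ne (pt_ne (by omega) (by omega) (by omega)) (pt_ne (by omega) (by omega) (by omega))]
    have hgmfix : ∀ k : Fin n, m + 3 ≤ (k : ℕ) → gen n m k = k := by
      intro k hk
      have hne : ∀ i, i ≤ m + 2 → k ≠ pt n i := fun i hi e => by
        have := congrArg Fin.val e
        simp [pt, Nat.mod_eq_of_lt (show i < n by omega)] at this
        omega
      rw [gen, if_neg (by omega), Equiv.Perm.mul_apply,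
        Equiv.swap_apply_of_ne_of_ne (hne _ (by omega)) (hne _ (by omega)),
        Equiv.swap_apply_of_ne_of_ne (hne _ (by omega)) (hne _ (by omega))]
    -- move `g t` back to `t`
    have htrans : ∃ h ∈ K, h ∈ alternatingGroup (Fin n) ∧ h (g t) = t ∧
        ∀ k : Fin n, m + 3 ≤ (k : ℕ) → h k = k := by
      by_cases hgt : g t = t
      · exact ⟨1, one_mem _, one_mem _, by simpa using hgt, fun k _ => rfl⟩
      have hlt : (g t : ℕ) < m + 2 := by
        by_contra hc
        rcases eq_or_ne ((g t : ℕ)) (m + 2) with h | h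
        · exact hgt (Fin.ext (h.trans htv.symm))
        · exact hgt (g.injective (hfix (g t) (by omega)))
      by_cases hgu : g t = u
      · exact ⟨gen n m, hgm, gen_mem_alt (by omega), by rw [hgu, hgmu], hgmfix⟩
      obtain ⟨l, hl1, hl2, hl3⟩ : ∃ l : Fin n, (l : ℕ) < m + 1 ∧ l ≠ g t ∧ l ≠ u := by
        rcases eq_or_ne (g t) (pt n 0) with h | h
        · exact ⟨pt n 1, by simp [pt, Nat.mod_eq_of_lt (show 1 < n by omega)]; omega,
            h ▸ pt_ne (by omega) (by omega) (by omega), pt_ne (by omega) (by omega) (by omega)⟩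
        · exact ⟨pt n 0, by simp [pt], h.symm, pt_ne (by omega) (by omega) (by omega)⟩
      let c := Equiv.swap u l * Equiv.swap (g t) l
      have hc : c ∈ closure (gen n '' Set.Iio m) := by
        refine ih c ?_ fun k hk => ?_
        · rw [Equiv.Perm.mem_alternatingGroup, map_mul, Equiv.Perm.sign_swap hl3.symm, Equiv.Perm.sign_swap hl2.symm]
          rfl
        · have k1 : k ≠ u := fun e => by rw [e, huv] at hk; omega
          have k2 : k ≠ l := fun e => by rw [e] at hk; omega
          have k3 : k ≠ g t := fun e => by rw [e] at hk; omega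
          simp [c, Equiv.swap_apply_of_ne_of_ne k1 k2, Equiv.swap_apply_of_ne_of_ne k3 k2]
      refine ⟨gen n m * c, mul_mem hgm (hsub hc), mul_mem (gen_mem_alt (by omega)) ?_, ?_, fun k hk => ?_⟩
      · rw [Equiv.Perm.mem_alternatingGroup, map_mul, Equiv.Perm.sign_swap hl3.symm, Equiv.Perm.sign_swap hl2.symm]
        rfl
      · rw [Equiv.Perm.mul_apply, show c (g t) = u by simp [c], hgmu]
      · have k1 : k ≠ u := fun e => by rw [e, huv] at hk; omega
        have k2 : k ≠ l := fun e => by rw [e] at hk; omega
        have k3 : k ≠ g t := fun e => by rw [e] at hk; omega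
        rw [Equiv.Perm.mul_apply, show c k = k by
          simp [c, Equiv.swap_apply_of_ne_of_ne k1 k2, Equiv.swap_apply_of_ne_of_ne k3 k2], hgmfix k hk]
    obtain ⟨h, hhK, hhA, hht, hhfix⟩ := htrans
    have : h * g ∈ closure (gen n '' Set.Iio m) := by
      refine ih _ (mul_mem hhA hg) fun k hk => ?_
      rw [Equiv.Perm.mul_apply]
      rcases eq_or_ne (k : ℕ) (m + 2) with e | e
      · rw [show k = t from Fin.ext (e.trans htv.symm), hht]
      · rw [hfix k (by omega), hhfix k (by omega)]
    rw [← inv_mul_cancel_left h g]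
    exact mul_mem (inv_mem hhK) (hsub this)

end CfsgLib.Char.AltPres
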