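import Cfsg.Agent.Lib.Coprime.Hall
import Cfsg.Agent.Lib.PGroup.PrimePair
import Cfsg.Agent.Lib.PGroup.CentralizerCount

/-!
# Groups with the order and element orders of an alternating group
-/

set_option autoImplicit false

namespace CfsgLib.Char.AltOrderSpectrum

universe u

theorem perm_not_dvd_orderOf {n p q : ℕ} (hp : p.Prime) (hq : q.Prime) (hne : p ≠ q) (hn : n < p + q)
    (σ : Equiv.Perm (Fin n)) : ¬ p * q ∣ orderOf σ := by
  intro h
  rw [← Equiv.Perm.lcm_cycleType] at h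
  have key : ∀ {r : ℕ}, r.Prime → r ∣ σ.cycleType.lcm → ∃ a ∈ σ.cycleType, r ∣ a := by
    intro r hr
    induction σ.cycleType using Multiset.induction_on with
    | empty => intro h; simp at h; exact absurd h hr.ne_one
    | cons a s ih =>
      intro h
      rw [Multiset.lcm_cons] at h
      rcases (hr.dvd_mul).1 (h.trans (lcm_dvd (dvd_mul_right a s.lcm) (dvd_mul_left s.lcm a))) with h' | h'
      · exact ⟨a, Multiset.mem_cons_self a s, h'⟩
      · obtain ⟨b, hb, hb'⟩ := ih h'
        exact ⟨b, Multiset.mem_cons_of_mem hb, hb'⟩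
  obtain ⟨a, ha, hpa⟩ := key hp ((dvd_mul_right p q).trans h)
  obtain ⟨b, hb, hqb⟩ := key hq ((dvd_mul_left q p).trans h)
  have hsum : σ.cycleType.sum ≤ n := by
    rw [Equiv.Perm.sum_cycleType]; exact (Finset.card_le_univ _).trans (Fintype.card_fin n).le
  have ha2 := Equiv.Perm.two_le_of_mem_cycleType ha
  have hb2 := Equiv.Perm.two_le_of_mem_cycleType hb
  rcases eq_or_ne a b with rfl | hab
  · have h1 : p * q ∣ a := Nat.Coprime.mul_dvd_of_dvd_of_dvd ((Nat.coprime_primes hp hq).2 hne) hpa hqb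
    have h2 := Nat.le_of_dvd (by omega) h1
    have h3 : a ≤ n := (Multiset.le_sum_of_mem ha).trans hsum
    have h4 : p + q ≤ p * q := by
      have := hp.two_le
      have := hq.two_le
      nlinarith
    omega
  · obtain ⟨s, hs⟩ := Multiset.exists_cons_of_mem ha
    rw [hs] at hb hsum
    have h3 : b ∈ s := (Multiset.mem_cons.1 hb).resolve_left hab.symm
    have h4 := Multiset.le_sum_of_mem h3
    rw [Multiset.sum_cons] at hsum
    have h5 := Nat.le_of_dvd (by omega) hpa
    have h6 := Nat.le_of_dvd (by omega) hqb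
    omega

theorem alt_not_dvd_orderOf {n p q : ℕ} (hp : p.Prime) (hq : q.Prime) (hne : p ≠ q) (hn : n < p + q)
    {G : Type u} [Group G] (hspec : Set.range (orderOf : G → ℕ) = Set.range (orderOf : ↥(alternatingGroup (Fin n)) → ℕ))
    (g : G) : ¬ p * q ∣ orderOf g := by
  intro h
  obtain ⟨σ, hσ⟩ : orderOf g ∈ Set.range (orderOf : ↥(alternatingGroup (Fin n)) → ℕ) := hspec ▸ ⟨g, rfl⟩
  rw [← hσ, ← Subgroup.orderOf_coe] at h
  exact perm_not_dvd_orderOf hp hq hne hn σ.1 h

theorem two_mul_card {n : ℕ} (hn : 2 ≤ n) : 2 * Nat.card ↥(alternatingGroup (Fin n)) = n.factorial := by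
  haveI : Nontrivial (Fin n) := Fin.nontrivial_iff_two_le.2 hn
  rw [Nat.card_eq_fintype_card, two_mul_card_alternatingGroup, Fintype.card_perm, Fintype.card_fin]

theorem dvd_card_alt {n p : ℕ} (hn : 2 ≤ n) (hp : p.Prime) (hp3 : 3 ≤ p) (hpn : p ≤ n) :
    p ∣ Nat.card ↥(alternatingGroup (Fin n)) := by
  have h : p ∣ 2 * Nat.card ↥(alternatingGroup (Fin n)) := two_mul_card hn ▸ Nat.dvd_factorial hp.pos hpn
  exact (hp.dvd_mul.1 h).resolve_left fun h2 => by
    have := Nat.le_of_dvd (by norm_num) h2; omega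

theorem not_sq_dvd_card_alt {n p : ℕ} (hn : 2 ≤ n) (hp : p.Prime) (hp3 : 3 ≤ p) (hpn : p ≤ n) (hbig : n < 2 * p) :
    ¬ p ^ 2 ∣ Nat.card ↥(alternatingGroup (Fin n)) := by
  intro h
  haveI := Fact.mk hp
  have h1 : p ^ 2 ∣ n.factorial := two_mul_card hn ▸ dvd_mul_of_dvd_right h 2
  rw [padicValNat_dvd_iff_le n.factorial_ne_zero,
    padicValNat_factorial (show Nat.log p n < 2 from Nat.log_lt_of_lt_pow (by omega) (by nlinarith))] at h1
  have : n / p < 2 := (Nat.div_lt_iff_lt_mul hp.pos).2 hbig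
  rw [show Finset.Ico 1 2 = {1} from rfl, Finset.sum_singleton, pow_one] at h1
  omega

/-- An element of order `q` normalizing a subgroup of prime order `p` centralizes it when `q ∤ p - 1`. -/
theorem exists_orderOf_mul {G : Type u} [Group G] [Finite G] {p q : ℕ} (hp : p.Prime) (hq : q.Prime)
    (hne : p ≠ q) (hpq : ¬ q ∣ p - 1) {P : Subgroup G} (hP : Nat.card P = p) {y : G}
    (hy : y ∈ Subgroup.normalizer (P : Set G)) (hyq : orderOf y = q) : ∃ g : G, p * q ∣ orderOf g := by
  haveI := Fact.mk hp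
  haveI : IsCyclic P := isCyclic_of_prime_card hP
  haveI : Finite (MulAut P) := Finite.of_injective (fun φ : MulAut P => (φ : P → P)) DFunLike.coe_injective
  obtain ⟨x, hx⟩ : ∃ x : P, orderOf x = p := exists_prime_orderOf_dvd_card' p (by rw [hP])
  set φ := Subgroup.normalizerMonoidHom P ⟨y, hy⟩ with hφ
  have h1 : φ ^ q = 1 := by
    rw [hφ, ← map_pow, show (⟨y, hy⟩ : ↥(Subgroup.normalizer (P : Set G))) ^ q = 1 from
      Subtype.ext (by rw [SubgroupClass.coe_pow, ← hyq, pow_orderOf_eq_one]; rfl), map_one]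
  have hone : φ = 1 := by
    have hd : orderOf φ ∣ p - 1 := by
      refine orderOf_dvd_natCard φ |>.trans ?_
      rw [IsCyclic.card_mulAut, hP, Nat.totient_prime hp]
    rcases (Nat.dvd_prime hq).1 (orderOf_dvd_of_pow_eq_one h1) with h | h
    · exact orderOf_eq_one_iff.1 h
    · exact absurd (h ▸ hd) hpq
  have hc : Commute (x : G) y := by
    have h2 : y * (x : G) * y⁻¹ = x := congrArg (fun ψ : MulAut P => ((ψ x : P) : G)) hone
    exact (mul_inv_eq_iff_eq_mul.1 h2).symm
  refine ⟨(x : G) * y, ?_⟩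
  rw [hc.orderOf_mul_eq_mul_orderOf_of_coprime, Subgroup.orderOf_coe, hx, hyq]
  rw [Subgroup.orderOf_coe, hx, hyq]
  exact (Nat.coprime_primes hp hq).2 hne

theorem two_primes {n : ℕ} (hn : 11 ≤ n) :
    ∃ p q : ℕ, p.Prime ∧ q.Prime ∧ n < 2 * p ∧ p < q ∧ q ≤ n := by
  rcases Nat.lt_or_ge n 17 with h | h
  · rcases Nat.lt_or_ge n 14 with h' | h'
    · exact ⟨7, 11, by norm_num, by norm_num, by omega, by norm_num, by omega⟩
    · exact ⟨11, 13, by norm_num, by norm_num, by omega, by norm_num, by omega⟩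
  · obtain ⟨p, q, h1, h2, h3, h4, h5⟩ := CfsgLib.PGroup.exists_prime_pair n h
    exact ⟨p, q, h1, h2, h3, by omega, h5⟩

theorem not_dvd_pred {n p q : ℕ} (hn : 5 ≤ n) (hp : p.Prime) (hq : q.Prime) (hne : p ≠ q)
    (hp' : n < 2 * p ∧ p ≤ n) (hq' : n < 2 * q ∧ q ≤ n) : ¬ q ∣ p - 1 := by
  intro h
  have hpodd : p % 2 = 1 := Nat.odd_iff.1 (hp.odd_of_ne_two (by omega))
  have hqodd : q % 2 = 1 := Nat.odd_iff.1 (hq.odd_of_ne_two (by omega))
  obtain ⟨k, hk⟩ := h
  rcases (show k = 0 ∨ k = 1 ∨ 2 ≤ k by omega) with rfl | rfl | hk2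
  · have := hp.two_le; omega
  · omega
  · have : q * 2 ≤ q * k := Nat.mul_le_mul_left q hk2
    omega

/-- Two nonadjacent primes each dividing the order of a solvable group prevent it. -/
theorem not_solvable_of_pair {G : Type u} [Group G] [Finite G] {p q : ℕ} (hp : p.Prime) (hq : q.Prime)
    (hlt : p < q) (hpq : ¬ p ∣ q - 1) {a : ℕ} (ha : a = 1 ∨ a = 2) (hcard : p ^ a * q ∣ Nat.card G)
    (hp' : ¬ p ^ (a + 1) ∣ Nat.card G) (hq' : ¬ q ^ 2 ∣ Nat.card G) (hpq2 : ¬ q ∣ p ^ a - 1)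
    (hno : ∀ g : G, ¬ q * p ∣ orderOf g) : ¬ Group.IsSolvable G := by
  intro hs
  obtain ⟨n, hn⟩ := hcard
  have hco : (p ^ a * q).Coprime n := by
    refine Nat.Coprime.mul_left (Nat.Coprime.pow_left a (hp.coprime_iff_not_dvd.2 fun h => hp' ?_))
      (hq.coprime_iff_not_dvd.2 fun h => hq' ?_)
    · obtain ⟨m, rfl⟩ := h
      exact ⟨q * m, by rw [hn]; ring⟩
    · obtain ⟨m, rfl⟩ := h
      exact ⟨p ^ a * m, by rw [hn]; ring⟩
  obtain ⟨H, hH⟩ := CfsgLib.Coprime.exists_hall hn hco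
  haveI := Fact.mk hq
  haveI := Fact.mk hp
  let Q : Sylow q H := default
  have hQ : Nat.card Q = q := by
    rw [Sylow.card_eq_multiplicity, hH, Nat.factorization_mul (pow_ne_zero a hp.ne_zero) hq.ne_zero,
      Finsupp.add_apply, Nat.factorization_pow, hp.factorization, hq.factorization]
    simp [hlt.ne]
  have h1 : Nat.card (Sylow q H) ∣ p ^ a := by
    have h := Q.card_dvd_index
    have h2 := (Q : Subgroup H).card_mul_index
    rw [show Nat.card ↥(Q : Subgroup H) = q from hQ, hH, mul_comm (p ^ a)] at h2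
    rwa [Nat.eq_of_mul_eq_mul_left hq.pos h2] at h
  have hone : Nat.card (Sylow q H) = 1 := by
    obtain ⟨i, hi, he⟩ := (Nat.dvd_prime_pow hp).1 h1
    have hmod := card_sylow_modEq_one q H
    rw [he] at hmod ⊢
    have hd : q ∣ p ^ i - 1 := (Nat.modEq_iff_dvd' (Nat.one_le_pow _ _ hp.pos)).1 hmod.symm
    rcases (show i = 0 ∨ i = 1 ∨ i = a by omega) with rfl | rfl | rfl
    · rfl
    · have := Nat.le_of_dvd (by have := hp.two_le; simp; omega) hd
      simp only [pow_one] at this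
      omega
    · exact absurd hd hpq2
  haveI : Subsingleton (Sylow q H) := (Nat.card_eq_one_iff_unique.1 hone).1
  obtain ⟨y, hy⟩ := exists_prime_orderOf_dvd_card' (G := H) p
    (by rw [hH]; exact dvd_mul_of_dvd_left (dvd_pow_self p (by omega)) q)
  haveI := Q.normal_of_subsingleton
  obtain ⟨g, hg⟩ := exists_orderOf_mul hq hp hlt.ne' hpq (show Nat.card ↥(Q : Subgroup H) = q from hQ)
    (y := y) (by rw [Subgroup.normalizer_eq_top]; trivial) hy
  exact hno g.1 (by rw [Subgroup.orderOf_coe]; exact hg)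

theorem not_solvable {G : Type u} [Group G] [Finite G] (n : ℕ) (hn : 5 ≤ n)
    (hcard : Nat.card G = Nat.card ↥(alternatingGroup (Fin n)))
    (hspec : Set.range (orderOf : G → ℕ) = Set.range (orderOf : ↥(alternatingGroup (Fin n)) → ℕ)) :
    ¬ Group.IsSolvable G := by
  have key : ∀ p q : ℕ, p.Prime → q.Prime → 3 ≤ p → n < 2 * p → p < q → q ≤ n →
      ¬ Group.IsSolvable G := by
    intro p q hp hq h3 hbig hlt hqn
    refine not_solvable_of_pair hp hq hlt (not_dvd_pred hn hq hp hlt.ne' ⟨by omega, hqn⟩ ⟨hbig, by omega⟩)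
      (a := 1) (Or.inl rfl) ?_ ?_ ?_ ?_ (fun g => alt_not_dvd_orderOf hq hp hlt.ne' (by omega) hspec g)
    · rw [pow_one, hcard]
      exact Nat.Coprime.mul_dvd_of_dvd_of_dvd ((Nat.coprime_primes hp hq).2 hlt.ne)
        (dvd_card_alt (by omega) hp h3 (by omega)) (dvd_card_alt (by omega) hq (by omega) hqn)
    · rw [hcard]; exact not_sq_dvd_card_alt (by omega) hp h3 (by omega) hbig
    · rw [hcard]; exact not_sq_dvd_card_alt (by omega) hq (by omega) hqn (by omega)
    · intro h
      have := Nat.le_of_dvd (by simp; omega) h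
      simp only [pow_one] at this
      omega
  rcases (show n ≤ 5 ∨ n = 6 ∨ (7 ≤ n ∧ n ≤ 9) ∨ n = 10 ∨ 11 ≤ n by omega) with h | rfl | h | rfl | h
  · exact key 3 5 (by norm_num) (by norm_num) (by norm_num) (by omega) (by norm_num) (by omega)
  · have hc : Nat.card ↥(alternatingGroup (Fin 6)) = 360 := by
      have := two_mul_card (n := 6) (by norm_num)
      rw [show Nat.factorial 6 = 720 from rfl] at this; omega
    refine not_solvable_of_pair (p := 3) (q := 5) (by norm_num) (by norm_num) (by norm_num) (by norm_num)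
      (a := 2) (Or.inr rfl) ?_ ?_ ?_ (by norm_num)
      (fun g => alt_not_dvd_orderOf (n := 6) (by norm_num) (by norm_num) (by norm_num) (by norm_num) hspec g) <;>
      rw [hcard, hc] <;> norm_num
  · exact key 5 7 (by norm_num) (by norm_num) (by norm_num) (by omega) (by norm_num) (by omega)
  · have hc : Nat.card ↥(alternatingGroup (Fin 10)) = 1814400 := by
      have := two_mul_card (n := 10) (by norm_num)
      rw [show Nat.factorial 10 = 3628800 from rfl] at this; omega
    refine not_solvable_of_pair (p := 5) (q := 7) (by norm_num) (by norm_num) (by norm_num) (by norm_num)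
      (a := 2) (Or.inr rfl) ?_ ?_ ?_ (by norm_num)
      (fun g => alt_not_dvd_orderOf (n := 10) (by norm_num) (by norm_num) (by norm_num) (by norm_num) hspec g) <;>
      rw [hcard, hc] <;> norm_num
  · obtain ⟨p, q, hp, hq, h1, h2, h3⟩ := two_primes h
    exact key p q hp hq (by omega) h1 h2 h3

/-- A minimal normal subgroup whose order a prime divides exactly once is simple. -/
theorem isSimpleGroup_of_minimal {G : Type u} [Group G] [Finite G] {p : ℕ} (hp : p.Prime) {L : Subgroup G}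
    [L.Normal] (hmin : ∀ M : Subgroup G, M.Normal → M ≤ L → M = ⊥ ∨ M = L) (h1 : p ∣ Nat.card L)
    (h2 : ¬ p ^ 2 ∣ Nat.card L) : IsSimpleGroup L := by
  classical
  haveI := Fact.mk hp
  haveI : Nontrivial L := by
    rw [← Finite.one_lt_card_iff_nontrivial]
    exact lt_of_lt_of_le hp.one_lt (Nat.le_of_dvd Nat.card_pos h1)
  refine ⟨fun M hM => ?_⟩
  have hbig : ∀ M : Subgroup L, M.Normal → p ∣ Nat.card M → M = ⊤ := by
    intro M hM hd
    haveI := hM
    -- the subgroup generated by all elements of order `p`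
    let S : Subgroup G := Subgroup.closure {g | g ∈ L ∧ g ^ p = 1}
    have hSn : S.Normal := by
      refine Subgroup.Normal.mk fun g hg x => ?_
      induction hg using Subgroup.closure_induction with
      | mem g hg =>
        exact Subgroup.subset_closure ⟨Subgroup.Normal.conj_mem ‹L.Normal› g hg.1 x,
          by rw [conj_pow, hg.2, mul_one, mul_inv_cancel]⟩
      | one => simp
      | mul a b _ _ ha hb =>
        rw [show x * (a * b) * x⁻¹ = (x * a * x⁻¹) * (x * b * x⁻¹) by group]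
        exact mul_mem ha hb
      | inv a _ ha =>
        rw [show x * a⁻¹ * x⁻¹ = (x * a * x⁻¹)⁻¹ by group]
        exact inv_mem ha
    have hSL : S ≤ L := (Subgroup.closure_le L).2 fun g hg => hg.1
    obtain ⟨a, ha⟩ := exists_prime_orderOf_dvd_card' (G := M) p hd
    have hS : S = L := (hmin S hSn hSL).resolve_left fun h => by
      have hmem : ((a : L) : G) ∈ S := Subgroup.subset_closure ⟨(a : L).2, by
        have := congrArg (fun z : M => ((z : L) : G)) (pow_orderOf_eq_one a)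
        rwa [ha] at this⟩
      rw [h, Subgroup.mem_bot] at hmem
      have : a = 1 := Subtype.ext (Subtype.ext hmem)
      rw [this, orderOf_one] at ha
      exact hp.ne_one ha.symm
    have hle : ∀ g : G, ∀ hg : g ∈ L, g ^ p = 1 → (⟨g, hg⟩ : L) ∈ M := by
      intro g hg hgp
      by_contra hnot
      have hq : orderOf (QuotientGroup.mk' M ⟨g, hg⟩) = p :=
        orderOf_eq_prime (by rw [← map_pow, show (⟨g, hg⟩ : L) ^ p = 1 from Subtype.ext hgp, map_one])
          fun h => hnot ((QuotientGroup.eq_one_iff _).1 h)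
      refine h2 ?_
      rw [Subgroup.card_eq_card_quotient_mul_card_subgroup M, pow_two]
      exact Nat.mul_dvd_mul (hq ▸ orderOf_dvd_natCard _) hd
    rw [Subgroup.eq_top_iff']
    have hmap : S ≤ M.map L.subtype :=
      (Subgroup.closure_le _).2 fun g hg => ⟨⟨g, hg.1⟩, hle g hg.1 hg.2, rfl⟩
    intro x
    obtain ⟨z, hz, e⟩ := hmap (hS.symm ▸ x.2 : (x : G) ∈ S)
    exact Subtype.ext e ▸ hz
  by_cases hd : p ∣ Nat.card M
  · exact Or.inr (hbig M hM hd)
  left
  -- the largest normal subgroup of order prime to `p`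
  obtain ⟨X, hX, hXmax⟩ := (Set.toFinite {X : Subgroup L | X.Normal ∧ ¬ p ∣ Nat.card X}).exists_maximal
    ⟨M, hM, hd⟩
  obtain ⟨hXn, hXd⟩ := hX
  have hle : ∀ Y : Subgroup L, Y.Normal → ¬ p ∣ Nat.card Y → Y ≤ X := by
    intro Y hY hYd
    haveI := hY
    haveI := hXn
    refine le_trans le_sup_right (hXmax ⟨Subgroup.sup_normal X Y, fun h => ?_⟩ le_sup_left)
    have h3 : Nat.card ↥(X ⊔ Y) ∣ Nat.card X * Nat.card Y := by
      rw [← CfsgLib.PGroup.card_sup_mul_card_inf X Y]
      exact dvd_mul_right _ _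
    exact (hp.dvd_mul.1 (h.trans h3)).elim hXd hYd
  have hXG : (X.map L.subtype).Normal := by
    haveI : X.Characteristic := by
      refine Subgroup.characteristic_iff_map_le.2 fun φ => hle _ ?_ ?_
      · exact hXn.map _ φ.surjective
      · rwa [Subgroup.card_map_of_injective φ.injective]
    exact ConjAct.normal_of_characteristic_of_normal
  rcases hmin _ hXG (Subgroup.map_subtype_le X) with h | h
  · rw [Subgroup.map_eq_bot_iff_of_injective _ L.subtype_injective] at h
    exact le_bot_iff.1 (h ▸ hle M hM hd)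
  · exfalso
    refine hXd ?_
    rw [← Subgroup.card_map_of_injective L.subtype_injective, h]
    exact h1

theorem simple_section {G : Type u} [Group G] [Finite G] (n : ℕ) (hn : 11 ≤ n)
    (hcard : Nat.card G = Nat.card ↥(alternatingGroup (Fin n)))
    (hspec : Set.range (orderOf : G → ℕ) = Set.range (orderOf : ↥(alternatingGroup (Fin n)) → ℕ)) :
    ∃ (N H : Subgroup G) (_ : N.Normal), H.Normal ∧ N < H ∧
      IsSimpleGroup (↥H ⧸ N.subgroupOf H) ∧ ¬ IsMulCommutative (↥H ⧸ N.subgroupOf H) ∧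
      ∀ p : ℕ, p.Prime → n < 2 * p → p ≤ n → p ∣ Nat.card (↥H ⧸ N.subgroupOf H) := by
  classical
  let Big : ℕ → Prop := fun p => p.Prime ∧ n < 2 * p ∧ p ≤ n
  have hdvd : ∀ p, Big p → p ∣ Nat.card G ∧ ¬ p ^ 2 ∣ Nat.card G := fun p ⟨hp, h1, h2⟩ =>
    hcard ▸ ⟨dvd_card_alt (by omega) hp (by omega) h2, not_sq_dvd_card_alt (by omega) hp (by omega) h2 h1⟩
  obtain ⟨N, ⟨hN, hNd⟩, hNmax⟩ :=
    (Set.toFinite {N : Subgroup G | N.Normal ∧ ∀ p, Big p → ¬ p ∣ Nat.card N}).exists_maximal
      ⟨⊥, inferInstance, fun p hp h => hp.1.ne_one (Nat.dvd_one.1 (by rwa [Subgroup.card_bot] at h))⟩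
  haveI := hN
  obtain ⟨p₀, q₀, hp₀, hq₀, h₁, h₂, h₃⟩ := two_primes hn
  have hNtop : N ≠ ⊤ := fun h => hNd p₀ ⟨hp₀, h₁, by omega⟩
    (by rw [h, Subgroup.card_top]; exact (hdvd p₀ ⟨hp₀, h₁, by omega⟩).1)
  obtain ⟨L, ⟨hL, hLne⟩, hLmin⟩ :=
    (Set.toFinite {L : Subgroup (G ⧸ N) | L.Normal ∧ L ≠ ⊥}).exists_minimal
      ⟨⊤, inferInstance, fun h => hNtop (by
        rw [eq_top_iff]
        intro x _
        exact (QuotientGroup.eq_one_iff x).1 (Subgroup.mem_bot.1 (h ▸ Subgroup.mem_top _)))⟩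
  haveI := hL
  have hmin : ∀ M : Subgroup (G ⧸ N), M.Normal → M ≤ L → M = ⊥ ∨ M = L := fun M hM hle => by
    by_cases h : M = ⊥
    · exact Or.inl h
    · exact Or.inr (le_antisymm hle (hLmin ⟨hM, h⟩ hle))
  let H : Subgroup G := L.comap (QuotientGroup.mk' N)
  have hNH : N ≤ H := fun x hx => by
    show QuotientGroup.mk' N x ∈ L
    rw [show QuotientGroup.mk' N x = 1 from (QuotientGroup.eq_one_iff x).2 hx]
    exact one_mem L
  have hlt : N < H := lt_of_le_of_ne hNH fun h => hLne (by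
    rw [← Subgroup.map_comap_eq_self_of_surjective (QuotientGroup.mk'_surjective N) L,
      show Subgroup.comap (QuotientGroup.mk' N) L = N from h.symm, QuotientGroup.map_mk'_self])
  let ψ : H →* L := ((QuotientGroup.mk' N).comp H.subtype).codRestrict L fun x => x.2
  have hψs : Function.Surjective ψ := fun l => by
    obtain ⟨x, hx⟩ := QuotientGroup.mk'_surjective N l.1
    exact ⟨⟨x, show QuotientGroup.mk' N x ∈ L from hx ▸ l.2⟩, Subtype.ext hx⟩
  have hψk : ψ.ker = N.subgroupOf H := by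
    ext x
    rw [MonoidHom.mem_ker, Subgroup.mem_subgroupOf, ← QuotientGroup.eq_one_iff (x : G)]
    exact ⟨fun h => congrArg Subtype.val h, fun h => Subtype.ext h⟩
  let e : (↥H ⧸ N.subgroupOf H) ≃* L :=
    (QuotientGroup.quotientMulEquivOfEq hψk.symm).trans (QuotientGroup.quotientKerEquivOfSurjective ψ hψs)
  have hcardH : Nat.card H = Nat.card L * Nat.card N := by
    rw [Subgroup.card_eq_card_quotient_mul_card_subgroup (N.subgroupOf H), Nat.card_congr e.toEquiv,
      Nat.card_congr (Subgroup.subgroupOfEquivOfLe hNH).toEquiv]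
  obtain ⟨p, hpB, hpL⟩ : ∃ p, Big p ∧ p ∣ Nat.card L := by
    by_contra! hall
    refine hlt.not_ge (hNmax ⟨hL.comap _, fun p hp h => ?_⟩ hNH)
    rw [hcardH] at h
    exact (hp.1.dvd_mul.1 h).elim (hall p hp) (hNd p hp)
  obtain ⟨hp, hpbig, hpn⟩ := hpB
  have hLG : ∀ r, Big r → ¬ r ^ 2 ∣ Nat.card L := fun r hr h =>
    (hdvd r hr).2 (h.trans ((dvd_mul_right _ _).trans (hcardH ▸ Subgroup.card_subgroup_dvd_card H)))
  have hno : ∀ q, Big q → p ≠ q → ∀ g : G ⧸ N, ¬ p * q ∣ orderOf g := fun q ⟨hq, hq1, hq2⟩ hne g h => by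
    obtain ⟨x, rfl⟩ := QuotientGroup.mk'_surjective N g
    exact alt_not_dvd_orderOf hp hq hne (by omega) hspec x (h.trans (orderOf_map_dvd _ x))
  have hQdvd : ∀ r, Big r → r ∣ Nat.card (G ⧸ N) := fun r hr => by
    have h := (hdvd r hr).1
    rw [Subgroup.card_eq_card_quotient_mul_card_subgroup N] at h
    exact (hr.1.dvd_mul.1 h).resolve_right (hNd r hr)
  haveI hS : IsSimpleGroup L := isSimpleGroup_of_minimal hp hmin hpL (hLG p ⟨hp, hpbig, hpn⟩)
  have hall : ∀ q, Big q → q ∣ Nat.card L := by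
    intro q hqB
    obtain ⟨hq, hq1, hq2⟩ := hqB
    by_contra hnd
    have hne : p ≠ q := fun h => hnd (h ▸ hpL)
    haveI := Fact.mk hp
    haveI := Fact.mk hq
    let P : Sylow p L := default
    have hP : Nat.card P = p := by
      rw [Sylow.card_eq_multiplicity]
      have h1 : 1 ≤ (Nat.card L).factorization p := hp.factorization_pos_of_dvd Nat.card_pos.ne' hpL
      have h2 : ¬ 2 ≤ (Nat.card L).factorization p := fun h => hLG p ⟨hp, hpbig, hpn⟩
        ((hp.pow_dvd_iff_le_factorization Nat.card_pos.ne').2 h)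
      rw [show (Nat.card L).factorization p = 1 by omega, pow_one]
    have htop := Sylow.normalizer_sup_eq_top P
    set P' : Subgroup (G ⧸ N) := (P : Subgroup L).map L.subtype
    have hP' : Nat.card P' = p := by rw [Subgroup.card_map_of_injective L.subtype_injective]; exact hP
    have hdivN : q ∣ Nat.card ↥(Subgroup.normalizer (P' : Set (G ⧸ N))) := by
      have h1 : Nat.card ↥(Subgroup.normalizer (P' : Set (G ⧸ N)) ⊔ L) ∣
          Nat.card ↥(Subgroup.normalizer (P' : Set (G ⧸ N))) * Nat.card L := by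
        rw [← CfsgLib.PGroup.card_sup_mul_card_inf (Subgroup.normalizer (P' : Set (G ⧸ N))) L]
        exact dvd_mul_right _ _
      rw [htop, Subgroup.card_top] at h1
      exact (hq.dvd_mul.1 ((hQdvd q ⟨hq, hq1, hq2⟩).trans h1)).resolve_right hnd
    obtain ⟨y, hy⟩ := exists_prime_orderOf_dvd_card' q hdivN
    obtain ⟨g, hg⟩ := exists_orderOf_mul hp hq hne (not_dvd_pred (by omega) hp hq hne ⟨hpbig, hpn⟩ ⟨hq1, hq2⟩) hP'
      (y := y.1) y.2 (by rw [Subgroup.orderOf_coe]; exact hy)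
    exact hno q ⟨hq, hq1, hq2⟩ hne g hg
  refine ⟨N, H, hN, hL.comap _, hlt, e.isSimpleGroup, fun hcomm => ?_, fun r hr h1 h2 => ?_⟩
  · haveI := hcomm
    have hLcomm : ∀ a b : L, a * b = b * a := fun a b => e.symm.injective (by
      rw [map_mul, map_mul]; exact mul_comm' _ _)
    letI : CommGroup L := { (inferInstance : Group L) with mul_comm := hLcomm }
    have hprime : (Nat.card L).Prime := IsSimpleGroup.prime_card
    obtain ⟨q, hq, hne⟩ : ∃ q, Big q ∧ q ≠ p := by
      by_cases h : p₀ = p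
      · exact ⟨q₀, ⟨hq₀, by omega, h₃⟩, by omega⟩
      · exact ⟨p₀, ⟨hp₀, h₁, by omega⟩, h⟩
    have e1 := (Nat.prime_dvd_prime_iff_eq hp hprime).1 hpL
    exact hne ((Nat.prime_dvd_prime_iff_eq hq.1 hprime).1 (hall q hq) |>.trans e1.symm)
  · rw [Nat.card_congr e.toEquiv]
    exact hall r ⟨hr, h1, h2⟩

end CfsgLib.Char.AltOrderSpectrum
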