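import Cfsg.Agent.Lib.Char.IndSpan
import Cfsg.Agent.Lib.Char.Linear

/-!
# Artin's induction theorem
-/

set_option autoImplicit false
set_option linter.unusedSectionVars false

namespace CfsgLib.Char

open scoped ComplexConjugate
open Representation Module Cfsg

universe u

/-- `|A|` on the generators of `A`, zero elsewhere. -/
noncomputable def genFun {H : Type u} [Group H] (A : Subgroup H) : A → ℂ :=
  open Classical in fun a => if Subgroup.zpowers (a : H) = A then (Nat.card A : ℂ) else 0

theorem artin_identity {H : Type u} [Group H] [Fintype H] [Fintype (Subgroup H)] :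
    ∑ A : Subgroup H, indFun A (genFun A) = fun _ => (Nat.card H : ℂ) := by
  classical
  funext g
  have hterm : ∀ (A : Subgroup H) (x : H), (Nat.card A : ℂ)⁻¹ * extendByZero A (genFun A) (x⁻¹ * g * x) =
      if Subgroup.zpowers (x⁻¹ * g * x) = A then 1 else 0 := by
    intro A x
    by_cases hA : x⁻¹ * g * x ∈ A
    · rw [extendByZero_mem A _ hA, genFun]
      split_ifs with h
      · exact inv_mul_cancel₀ (by exact_mod_cast Nat.card_pos.ne')
      · rw [mul_zero]
    · rw [extendByZero_not_mem A _ hA, mul_zero, if_neg]
      intro h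
      exact hA (h ▸ Subgroup.mem_zpowers _)
  simp only [Finset.sum_apply, indFun, Finset.mul_sum, hterm]
  rw [Finset.sum_comm]
  simp [Nat.card_eq_fintype_card]

theorem isClassFunction_genFun {H : Type u} [Group H] (A : Subgroup H) :
    IsClassFunction A (genFun A) := by
  classical
  intro a b
  have hcomm : ∀ c : H, Subgroup.zpowers c = A → (b : H) * (a : H) * (b : H)⁻¹ = a := by
    intro c hc
    have hb : (b : H) ∈ Subgroup.zpowers c := by rw [hc]; exact b.2
    have ha : (a : H) ∈ Subgroup.zpowers c := by rw [hc]; exact a.2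
    obtain ⟨i, hi⟩ := Subgroup.mem_zpowers_iff.mp hb
    obtain ⟨j, hj⟩ := Subgroup.mem_zpowers_iff.mp ha
    rw [← hi, ← hj, (Commute.zpow_zpow_self c i j).eq, mul_inv_cancel_right]
  simp only [genFun]
  refine if_congr ⟨fun h => ?_, fun h => ?_⟩ rfl rfl
  · have h' : Subgroup.zpowers ((b : H) * a * (b : H)⁻¹) = A := h
    have e := hcomm _ h'
    rwa [e] at h'
  · show Subgroup.zpowers ((b : H) * a * (b : H)⁻¹) = A
    rw [hcomm _ h]
    exact h

theorem isGeneralizedCharacter_genFun : ∀ (H : Type u) [Group H] [Fintype H] (A : Subgroup H),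
    IsGeneralizedCharacter A (genFun A) := by
  intro H _ _ A
  induction hn : Nat.card A using Nat.strong_induction_on generalizing H with
  | _ m ih =>
    subst hn
    classical
    have := Fintype.ofFinite A
    have := Fintype.ofFinite (Subgroup A)
    have hid := artin_identity (H := A)
    rw [← Finset.add_sum_erase _ _ (Finset.mem_univ (⊤ : Subgroup A))] at hid
    have htop : indFun (⊤ : Subgroup A) (genFun (⊤ : Subgroup A)) = genFun A := by
      rw [← indFun_top (genFun A) (isClassFunction_genFun A)]
      congr 1
      funext a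
      simp only [genFun, Subgroup.card_top]
      refine if_congr ⟨fun h => ?_, fun h => ?_⟩ rfl rfl
      · have := congrArg (Subgroup.map A.subtype) h
        rwa [MonoidHom.map_zpowers, ← MonoidHom.range_eq_map, Subgroup.range_subtype] at this
      · apply Subgroup.map_injective A.subtype_injective
        rwa [MonoidHom.map_zpowers, ← MonoidHom.range_eq_map, Subgroup.range_subtype]
    rw [htop, ← eq_sub_iff_add_eq] at hid
    rw [hid]
    refine isGeneralizedCharacter_sub ?_ ?_
    · have e : (fun _ : A => (Nat.card A : ℂ)) = ((Nat.card A : ℤ) : ℂ) • fun _ : A => (1 : ℂ) := by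
        funext a; simp
      rw [e]
      exact isGeneralizedCharacter_zsmul (isGeneralizedCharacter_of_isCharacter
        (isCharacter_of_isIrr isIrrCharacter_one)) _
    · refine isGeneralizedCharacter_sum _ _ fun B hB => ?_
      have hlt : Nat.card B < Nat.card A := by
        rcases Nat.lt_or_ge (Nat.card B) (Nat.card A) with h | h
        · exact h
        · exact absurd (Subgroup.eq_top_of_card_eq B (le_antisymm (Subgroup.card_le_card_group B) h))
            (Finset.mem_erase.mp hB).1
      exact isGeneralizedCharacter_indFun B (ih _ hlt A B rfl)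

theorem artin_list {G : Type u} [Group G] [Fintype G] {χ : G → ℂ} (hχ : IsCharacter G χ) :
    ∃ l : List ((A : Subgroup G) × ((A →* ℂˣ) × ℤ)), (∀ t ∈ l, IsCyclic t.1) ∧
      (Nat.card G : ℂ) • χ = (l.map fun t => (t.2.2 : ℂ) • indFun t.1 (fun a => (t.2.1 a : ℂ))).sum := by
  classical
  let K : AddSubgroup (G → ℂ) := AddSubgroup.closure
    {f | ∃ (A : Subgroup G) (lam : A →* ℂˣ), IsCyclic A ∧ f = indFun A (fun a => (lam a : ℂ))}
  have := Fintype.ofFinite (Subgroup G)
  have hmem : (Nat.card G : ℂ) • χ ∈ K := by
    have e : (Nat.card G : ℂ) • χ = ∑ A : Subgroup G, indFun A (fun a => genFun A a * χ a) := by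
      rw [Finset.sum_congr rfl fun A _ => (indFun_mul A (genFun A) (isClassFunction_of_isCharacter hχ)).symm,
        ← Finset.sum_mul, artin_identity]
      funext g
      simp
    rw [e]
    refine AddSubgroup.sum_mem _ fun A _ => ?_
    by_cases hA : IsCyclic A
    · have := Fintype.ofFinite A
      have := Fintype.ofFinite (IrrCharacter A)
      have hgen : IsGeneralizedCharacter A (fun a => genFun A a * χ a) :=
        isGeneralizedCharacter_mul (isGeneralizedCharacter_genFun G A)
          (isGeneralizedCharacter_of_isCharacter (isCharacter_comp hχ A.subtype))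
      obtain ⟨m, -, hexp, -⟩ := generalized_expand hgen
      rw [hexp, indFun_sum]
      refine AddSubgroup.sum_mem _ fun ψ _ => ?_
      rw [indFun_smul, Int.cast_smul_eq_zsmul ℂ]
      refine AddSubgroup.zsmul_mem _ ?_ _
      let cg : CommGroup A := hA.commGroup
      obtain ⟨lam, hlam⟩ := linearCharEquiv.surjective
        (⟨ψ, degree_one_of_comm (fun a b => mul_comm a b) ψ⟩ :
          {χ : IrrCharacter A // (χ : A → ℂ) 1 = 1})
      rw [← show (fun a => (lam a : ℂ)) = (ψ : A → ℂ) from
        congrArg (fun z => ((z.1 : IrrCharacter A) : A → ℂ)) hlam]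
      exact AddSubgroup.subset_closure ⟨A, lam, hA, rfl⟩
    · have e0 : (fun a : A => genFun A a * χ a) = 0 := by
        funext a
        simp only [genFun, Pi.zero_apply]
        rw [if_neg, zero_mul]
        intro h
        exact hA (isCyclic_iff_exists_zpowers_eq_top.mpr ⟨a, by
          apply Subgroup.map_injective A.subtype_injective
          rwa [MonoidHom.map_zpowers, ← MonoidHom.range_eq_map, Subgroup.range_subtype]⟩)
      rw [e0, indFun_zero]
      exact zero_mem _
  clear hχ
  generalize (Nat.card G : ℂ) • χ = f at hmem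
  induction hmem using AddSubgroup.closure_induction with
  | mem x hx =>
    obtain ⟨E, lam, hE, rfl⟩ := hx
    exact ⟨[⟨E, lam, 1⟩], fun t ht => by rw [List.mem_singleton.mp ht]; exact hE, by simp⟩
  | zero => exact ⟨[], by simp, by simp⟩
  | add x y _ _ hx hy =>
    obtain ⟨l, hl, rfl⟩ := hx
    obtain ⟨l', hl', rfl⟩ := hy
    refine ⟨l ++ l', fun t ht => ?_, by simp⟩
    rcases List.mem_append.mp ht with h | h
    · exact hl t h
    · exact hl' t h
  | neg x _ hx =>
    obtain ⟨l, hl, rfl⟩ := hx
    refine ⟨l.map fun t => ⟨t.1, t.2.1, -t.2.2⟩, fun t ht => ?_, ?_⟩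
    · obtain ⟨s, hs, rfl⟩ := List.mem_map.mp ht
      exact hl s hs
    · rw [List.sum_neg, List.map_map, List.map_map]
      congr 1
      refine List.map_congr_left fun t _ => ?_
      simp

end CfsgLib.Char
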