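import Cfsg.Agent.S4470
import Cfsg.Agent.Lib.Char.Burnside

/-!
# Blichfeldt's sixty degree theorem, for elements whose normal closure is everything

If an element has an eigenvalue such that every other eigenvalue lies less than sixty degrees
away from it, and its conjugates generate the group, then it acts as a scalar in every
irreducible representation.
-/

set_option autoImplicit false
set_option linter.unusedSectionVars false

namespace CfsgLib.Char.BlichfeldtSixty

open scoped ComplexConjugate Matrix InnerProductSpace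
open Matrix Module

universe u

variable {G : Type u} [Group G] {n : Type} [Fintype n] [DecidableEq n]

/-- The squared norm of the block of `T` from the index set `A` to its complement. -/
noncomputable def off (A : Finset n) (T : Matrix n n ℂ) : ℝ :=
  ∑ j ∈ A, ∑ i ∈ Aᶜ, Complex.normSq (T i j)

theorem off_nonneg (A : Finset n) (T : Matrix n n ℂ) : 0 ≤ off A T :=
  Finset.sum_nonneg fun _ _ => Finset.sum_nonneg fun _ _ => Complex.normSq_nonneg _

theorem off_eq_zero_iff (A : Finset n) (T : Matrix n n ℂ) :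
    off A T = 0 ↔ ∀ j ∈ A, ∀ i ∉ A, T i j = 0 := by
  rw [off, Finset.sum_eq_zero_iff_of_nonneg fun _ _ => Finset.sum_nonneg fun _ _ =>
    Complex.normSq_nonneg _]
  refine forall₂_congr fun j _ => ?_
  rw [Finset.sum_eq_zero_iff_of_nonneg fun _ _ => Complex.normSq_nonneg _]
  simp [Complex.normSq_eq_zero]

/-- A unitary matrix preserves the sum of the squared norms. -/
theorem sum_normSq_mulVec {U : Matrix n n ℂ} (hU : Uᴴ * U = 1) (v : n → ℂ) :
    ∑ i, Complex.normSq ((U *ᵥ v) i) = ∑ i, Complex.normSq (v i) := by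
  have e : ∀ w : n → ℂ, ((∑ i, Complex.normSq (w i) : ℝ) : ℂ) = star w ⬝ᵥ w := fun w => by
    rw [Complex.ofReal_sum]
    exact Finset.sum_congr rfl fun i _ => Complex.normSq_eq_conj_mul_self
  apply Complex.ofReal_injective
  rw [e, e, star_mulVec, ← dotProduct_mulVec, mulVec_mulVec, hU, one_mulVec]

theorem diagonal_ind_mulVec (A : Finset n) (v : n → ℂ) (i : n) :
    (diagonal (fun k => if k ∈ A then (1 : ℂ) else 0) *ᵥ v) i = if i ∈ A then v i else 0 := by
  rw [mulVec_diagonal]; split_ifs <;> simp

theorem re_gt_half {c : ℂ} (h1 : ‖c‖ = 1) (h2 : ‖c - 1‖ < 1) : 1 / 2 < c.re := by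
  have e1 : c.re * c.re + c.im * c.im = 1 := by
    rw [← Complex.normSq_apply, Complex.normSq_eq_norm_sq, h1, one_pow]
  have e2 : ‖c - 1‖ ^ 2 < 1 := by
    have := norm_nonneg (c - 1)
    nlinarith
  rw [Complex.sq_norm, Complex.normSq_apply] at e2
  simp only [Complex.sub_re, Complex.sub_im, Complex.one_re, Complex.one_im, sub_zero] at e2
  nlinarith

/-- Every conjugate of an element with the sixty degree property fixes its eigenspace. -/
theorem conj_commute_projection [Finite G] (R : G →* Matrix n n ℂ) (hR : ∀ g, R g⁻¹ = (R g)ᴴ)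
    {x : G} (f : n → ℂ)
    (hx : R x = diagonal f) (i₀ : n) (h60 : ∀ i, ‖f i / f i₀ - 1‖ < 1) :
    ∀ g, diagonal (fun k => if f k = f i₀ then (1 : ℂ) else 0) * R (g * x * g⁻¹) =
      R (g * x * g⁻¹) * diagonal (fun k => if f k = f i₀ then (1 : ℂ) else 0) := by
  classical
  have hli : ∀ g, R g⁻¹ * R g = 1 := fun g => by rw [← map_mul, inv_mul_cancel, map_one]
  have hri : ∀ g, R g * R g⁻¹ = 1 := fun g => by rw [← map_mul, mul_inv_cancel, map_one]
  have hunit : ∀ g, (R g)ᴴ * R g = 1 := fun g => by rw [← hR, hli]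
  have hf1 : ∀ i, ‖f i‖ = 1 := by
    intro i
    have h := congrFun (congrFun (hunit x) i) i
    rw [hx, diagonal_conjTranspose, diagonal_mul_diagonal, diagonal_apply_eq, one_apply_eq,
      Pi.star_apply] at h
    have h' : ((Complex.normSq (f i) : ℝ) : ℂ) = 1 := by rw [Complex.normSq_eq_conj_mul_self]; exact h
    have h'' : Complex.normSq (f i) = 1 := by exact_mod_cast h'
    have := congrArg Real.sqrt h''
    rwa [Complex.normSq_eq_norm_sq, Real.sqrt_sq (norm_nonneg _), Real.sqrt_one] at this
  set l := f i₀ with hl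
  have hl0 : l ≠ 0 := fun e => by
    have := hf1 i₀
    rw [← hl, e, norm_zero] at this
    exact zero_ne_one this
  set A : Finset n := Finset.univ.filter fun i => f i = l with hA
  have memA : ∀ i, i ∈ A ↔ f i = l := fun i => by simp [hA]
  set c : n → ℂ := fun i => f i / l with hc
  have hc1 : ∀ i, ‖c i‖ = 1 := fun i => by
    show ‖f i / l‖ = 1
    rw [norm_div, hf1, hl, hf1, div_one]
  have hcA : ∀ i ∈ A, c i = 1 := fun i hi => by
    show f i / l = 1
    rw [(memA i).1 hi, div_self hl0]
  -- the subgroup stabilising the eigenspace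
  let Hm : Submonoid G :=
    { carrier := {g | off A (R g) = 0}
      one_mem' := by
        show off A (R 1) = 0
        rw [map_one, off_eq_zero_iff]
        exact fun j hj i hi => one_apply_ne fun e => hi (e ▸ hj)
      mul_mem' := by
        intro g h hg hh
        simp only [Set.mem_setOf_eq] at hg hh ⊢
        rw [off_eq_zero_iff] at hg hh ⊢
        intro j hj i hi
        rw [map_mul, mul_apply]
        refine Finset.sum_eq_zero fun k _ => ?_
        by_cases hk : k ∈ A
        · rw [hg k hk i hi, zero_mul]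
        · rw [hh j hj k hk, mul_zero] }
  have hHinv : ∀ g, g ∈ Hm → g⁻¹ ∈ Hm := fun g hg => by
    have : g ^ (orderOf g - 1) = g⁻¹ := by
      refine eq_inv_of_mul_eq_one_left ?_
      rw [← pow_succ, Nat.sub_add_cancel (orderOf_pos g), pow_orderOf_eq_one]
    exact this ▸ pow_mem hg _
  let H : Subgroup G := { Hm with inv_mem' := fun {g} hg => hHinv g hg }
  have hxH : x ∈ H := by
    show off A (R x) = 0
    rw [off_eq_zero_iff, hx]
    exact fun j hj i hi => diagonal_apply_ne _ fun e => hi (e ▸ hj)
  -- the projection, which commutes with the stabiliser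
  set E : Matrix n n ℂ := diagonal fun k => if k ∈ A then (1 : ℂ) else 0 with hE
  have hEH : ∀ g ∈ H, E * R g = R g * E := by
    intro g hg
    have h1 := (off_eq_zero_iff A (R g)).1 hg
    have h2 := (off_eq_zero_iff A (R g⁻¹)).1 (H.inv_mem hg)
    ext i j
    rw [hE, diagonal_mul, mul_diagonal]
    by_cases hi : i ∈ A <;> by_cases hj : j ∈ A
    · simp [hi, hj]
    · have h3 := h2 i hi j hj
      rw [hR, conjTranspose_apply, star_eq_zero] at h3
      simp [hi, hj, h3]
    · simp [hi, hj, h1 j hj i hi]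
    · simp [hi, hj]
  -- one step of contraction
  obtain ⟨r, hr0, hr1, hr⟩ : ∃ r : ℝ, 0 ≤ r ∧ r < 1 ∧ ∀ k, Complex.normSq (c k - 1) ≤ r := by
    haveI : Nonempty n := ⟨i₀⟩
    obtain ⟨k, -, hk⟩ := Finset.exists_max_image Finset.univ (fun k => Complex.normSq (c k - 1))
      Finset.univ_nonempty
    refine ⟨_, Complex.normSq_nonneg _, ?_, fun j => hk j (Finset.mem_univ _)⟩
    rw [Complex.normSq_eq_norm_sq]
    have := h60 k
    have := norm_nonneg (c k - 1)
    nlinarith
  have hstep : ∀ g, off A (R (g⁻¹ * x * g)) ≤ r * off A (R g) := by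
    intro g
    rw [off, off, Finset.mul_sum]
    refine Finset.sum_le_sum fun j hj => ?_
    set v : n → ℂ := fun k => (c k - 1) * R g k j with hv
    have hent : ∀ i ∈ Aᶜ, R (g⁻¹ * x * g) i j = l * (R g⁻¹ *ᵥ v) i := by
      intro i hi
      have hij : i ≠ j := fun e => (Finset.mem_compl.1 hi) (e ▸ hj)
      have h0 : ∑ k, R g⁻¹ i k * R g k j = 0 := by
        rw [← mul_apply, hli, one_apply_ne hij]
      rw [map_mul, map_mul, hx, mul_apply]
      simp only [mul_diagonal, mulVec, dotProduct, Finset.mul_sum, hv]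
      calc ∑ k, R g⁻¹ i k * f k * R g k j
          = ∑ k, (l * (R g⁻¹ i k * ((c k - 1) * R g k j)) + l * (R g⁻¹ i k * R g k j)) := by
            refine Finset.sum_congr rfl fun k _ => ?_
            have : f k = l * c k := by
              show f k = l * (f k / l)
              rw [mul_div_cancel₀ _ hl0]
            rw [this]; ring
        _ = _ := by rw [Finset.sum_add_distrib, ← Finset.mul_sum (a := l) (f := fun k => R g⁻¹ i k * R g k j),
              h0, mul_zero, add_zero]
    calc ∑ i ∈ Aᶜ, Complex.normSq (R (g⁻¹ * x * g) i j)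
        = ∑ i ∈ Aᶜ, Complex.normSq ((R g⁻¹ *ᵥ v) i) := Finset.sum_congr rfl fun i hi => by
          rw [hent i hi, Complex.normSq_mul, Complex.normSq_eq_norm_sq l, hl, hf1, one_pow, one_mul]
      _ ≤ ∑ i, Complex.normSq ((R g⁻¹ *ᵥ v) i) :=
          Finset.sum_le_univ_sum_of_nonneg fun _ => Complex.normSq_nonneg _
      _ = ∑ i, Complex.normSq (v i) := sum_normSq_mulVec (hunit g⁻¹) v
      _ = ∑ i ∈ Aᶜ, Complex.normSq (v i) := by
          symm
          refine Finset.sum_subset (Finset.subset_univ _) fun i _ hi => ?_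
          rw [Finset.mem_compl, not_not] at hi
          simp [hv, hcA i hi]
      _ ≤ r * ∑ i ∈ Aᶜ, Complex.normSq (R g i j) := by
          rw [Finset.mul_sum]
          refine Finset.sum_le_sum fun i _ => ?_
          rw [hv, Complex.normSq_mul]
          exact mul_le_mul_of_nonneg_right (hr i) (Complex.normSq_nonneg _)
  -- all conjugates of `x` stabilise the eigenspace
  have hall : ∀ g : G, g⁻¹ * x * g ∈ H := by
    by_contra hne
    simp only [not_forall] at hne
    obtain ⟨g₀, hg₀⟩ := hne
    obtain ⟨g, hg, hmin⟩ := Set.exists_min_image {g : G | g⁻¹ * x * g ∉ H} (fun g => off A (R g))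
      (Set.toFinite _) ⟨g₀, hg₀⟩
    have hpos : 0 < off A (R g) := by
      refine lt_of_le_of_ne (off_nonneg _ _) fun e => hg ?_
      have hgH : g ∈ H := e.symm
      exact H.mul_mem (H.mul_mem (H.inv_mem hgH) hxH) hgH
    set y := g⁻¹ * x * g with hy
    have hz : y⁻¹ * x * y ∈ H := by
      by_contra h
      have h1 := hmin y h
      have h2 := hstep g
      rw [← hy] at h2
      nlinarith
    -- `x` commutes with the conjugated projection
    set F : Matrix n n ℂ := R y * E * R y⁻¹ with hF
    have hxF : R x * F = F * R x := by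
      have h1 := hEH _ hz
      rw [map_mul, map_mul] at h1
      have h2 := congrArg (fun T => R y * T * R y⁻¹) h1
      simp only [mul_assoc] at h2
      rw [hri, mul_one] at h2
      rw [← mul_assoc (R y) (R y⁻¹) (R x * (R y * (E * R y⁻¹))), hri, one_mul] at h2
      rw [hF, mul_assoc (R y) E, mul_assoc (R y) (E * R y⁻¹) (R x), mul_assoc E]
      exact h2.symm
    have hFij : ∀ i j, ¬ (i ∈ A ↔ j ∈ A) → F i j = 0 := by
      intro i j hij
      have h := congrFun (congrFun hxF i) j
      rw [hx, diagonal_mul, mul_diagonal] at h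
      have hne : f i ≠ f j := fun e => hij (by rw [memA, memA, e])
      by_contra h0
      exact hne (mul_right_cancel₀ h0 (h.trans (mul_comm _ _)))
    have hFE : F * E = E * F := by
      ext i j
      rw [hE, diagonal_mul, mul_diagonal]
      by_cases hij : i ∈ A ↔ j ∈ A
      · by_cases hi : i ∈ A
        · simp [hi, hij.1 hi]
        · simp [hi, (not_congr hij).1 hi]
      · simp [hFij i j hij]
    apply hg
    show off A (R y) = 0
    rw [off_eq_zero_iff]
    intro j hj i hi
    set v : n → ℂ := R y *ᵥ Pi.single j 1 with hv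
    have hEej : E *ᵥ Pi.single j 1 = Pi.single j 1 := by
      ext k
      rw [hE, diagonal_ind_mulVec]
      by_cases hk : k = j
      · subst hk; rw [if_pos hj]
      · rw [Pi.single_eq_of_ne hk]; simp
    have hFv : F *ᵥ v = v := by
      rw [hv, hF, mulVec_mulVec, mul_assoc (R y * E), hli, mul_one, ← mulVec_mulVec, hEej]
    set w : n → ℂ := v - E *ᵥ v with hw
    have hFw : F *ᵥ w = w := by
      rw [hw, mulVec_sub, hFv, mulVec_mulVec, hFE, ← mulVec_mulVec, hFv]
    set u : n → ℂ := R y⁻¹ *ᵥ w with hu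
    have hEu : E *ᵥ u = u := by
      have h := congrArg (fun t => R y⁻¹ *ᵥ t) hFw
      simp only [mulVec_mulVec, hF] at h
      rw [← mul_assoc, ← mul_assoc, hli, one_mul, ← mulVec_mulVec] at h
      exact h
    have huw : R y *ᵥ u = w := by rw [hu, mulVec_mulVec, hri, one_mulVec]
    have hdot : star u ⬝ᵥ (R y *ᵥ u) = 0 := by
      rw [huw, dotProduct]
      refine Finset.sum_eq_zero fun k _ => ?_
      by_cases hk : k ∈ A
      · have : w k = 0 := by rw [hw, Pi.sub_apply, hE, diagonal_ind_mulVec, if_pos hk, sub_self]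
        rw [this, mul_zero]
      · have : u k = 0 := by rw [← hEu, hE, diagonal_ind_mulVec, if_neg hk]
        rw [Pi.star_apply, this, star_zero, zero_mul]
    set t : n → ℂ := R g *ᵥ u with ht
    have hform : star u ⬝ᵥ (R y *ᵥ u) = l * ∑ k, c k * ((Complex.normSq (t k) : ℝ) : ℂ) := by
      rw [hy, map_mul, map_mul, hR, ← mulVec_mulVec, ← mulVec_mulVec, ← ht, dotProduct_mulVec,
        ← star_mulVec, ← ht, dotProduct, Finset.mul_sum]
      refine Finset.sum_congr rfl fun k _ => ?_
      rw [hx, mulVec_diagonal, Complex.normSq_eq_conj_mul_self, Pi.star_apply]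
      have : f k = l * c k := by
        show f k = l * (f k / l)
        rw [mul_div_cancel₀ _ hl0]
      rw [this]
      show star (t k) * (l * c k * t k) = l * (c k * (star (t k) * t k))
      ring
    rw [hdot] at hform
    have hsum := congrArg Complex.re ((mul_eq_zero.1 hform.symm).resolve_left hl0)
    rw [Complex.re_sum, Complex.zero_re] at hsum
    simp only [Complex.re_mul_ofReal] at hsum
    have hre : ∀ k, 0 < (c k).re := fun k => by
      have := re_gt_half (hc1 k) (h60 k)
      linarith
    have ht0 : t = 0 := by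
      funext k
      have := (Finset.sum_eq_zero_iff_of_nonneg fun k _ =>
        mul_nonneg (hre k).le (Complex.normSq_nonneg _)).1 hsum k (Finset.mem_univ k)
      exact Complex.normSq_eq_zero.1 ((mul_eq_zero.1 this).resolve_left (hre k).ne')
    have hu0 : u = 0 := by
      have h := congrArg (fun s => R g⁻¹ *ᵥ s) ht0
      simp only [ht, mulVec_mulVec, mulVec_zero, hli, one_mulVec] at h
      exact h
    have hw0 : w = 0 := by rw [← huw, hu0, mulVec_zero]
    have h := congrFun hw0 i
    rw [hw, Pi.sub_apply, hE, diagonal_ind_mulVec, if_neg hi, sub_zero, hv, mulVec_single_one] at h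
    exact h
  intro g
  have h1 := hall g⁻¹
  rw [inv_inv] at h1
  have h2 := hEH _ h1
  rw [hE] at h2
  simp only [memA] at h2
  exact h2

/-- Blichfeldt's theorem for a unitary matrix representation with scalar commutant. -/
theorem scalar_of_sixty [Finite G] (R : G →* Matrix n n ℂ) (hR : ∀ g, R g⁻¹ = (R g)ᴴ)
    (hirr : ∀ T : Matrix n n ℂ, (∀ g, T * R g = R g * T) → ∃ c : ℂ, T = c • 1)
    {x : G} (hgen : Subgroup.normalClosure ({x} : Set G) = ⊤) (f : n → ℂ)
    (hx : R x = diagonal f) (i₀ : n) (h60 : ∀ i, ‖f i / f i₀ - 1‖ < 1) :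
    ∀ i, f i = f i₀ := by
  classical
  set E : Matrix n n ℂ := diagonal (fun k => if f k = f i₀ then (1 : ℂ) else 0) with hE
  have hc := conj_commute_projection R hR f hx i₀ h60
  obtain ⟨e, he⟩ := hirr E fun g => by
    have hg : g ∈ Subgroup.normalClosure ({x} : Set G) := hgen ▸ Subgroup.mem_top g
    induction hg using Subgroup.closure_induction with
    | mem a ha =>
      obtain ⟨b, hb, hba⟩ := Group.mem_conjugatesOfSet_iff.1 ha
      rw [Set.mem_singleton_iff] at hb
      subst hb
      obtain ⟨c, hc'⟩ := isConj_iff.1 hba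
      rw [← hc']
      exact hc c
    | one => rw [map_one, mul_one, one_mul]
    | mul a b _ _ h1 h2 => rw [map_mul, ← mul_assoc, h1, mul_assoc, h2, ← mul_assoc]
    | inv a _ h =>
      calc E * R a⁻¹ = R a⁻¹ * (R a * E) * R a⁻¹ := by
            rw [← mul_assoc, ← map_mul, inv_mul_cancel, map_one, one_mul]
        _ = R a⁻¹ * (E * R a) * R a⁻¹ := by rw [h]
        _ = R a⁻¹ * E := by rw [mul_assoc, mul_assoc, ← map_mul, mul_inv_cancel, map_one, mul_one]
  have h0 := congrFun (congrFun he i₀) i₀
  rw [hE, diagonal_apply_eq, if_pos rfl, Matrix.smul_apply, one_apply_eq, smul_eq_mul, mul_one] at h0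
  intro i
  have h1 := congrFun (congrFun he i) i
  rw [hE, diagonal_apply_eq, Matrix.smul_apply, one_apply_eq, smul_eq_mul, mul_one, ← h0] at h1
  by_contra hi
  rw [if_neg hi] at h1
  exact zero_ne_one h1

/-- A unitary matrix model of an irreducible representation in which a given element is diagonal. -/
theorem exists_diagonal_model [Finite G] {d : ℕ} (ρ : Representation ℂ G (Fin d → ℂ))
    [ρ.IsIrreducible] (x : G) :
    ∃ (m : ℕ) (R : G →* Matrix (Fin m) (Fin m) ℂ) (f : Fin m → ℂ), (∀ g, R g⁻¹ = (R g)ᴴ) ∧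
      (∀ T : Matrix (Fin m) (Fin m) ℂ, (∀ g, T * R g = R g * T) → ∃ c : ℂ, T = c • 1) ∧
      R x = diagonal f ∧ (∀ g, Matrix.trace (R g) = ρ.character g) ∧
      (∀ g h, R g = R h → ρ g = ρ h) := by
  have := Fintype.ofFinite G
  have hL : Function.Injective (Cfsg.Agent.S4470.embed ρ) := fun v w h => by
    funext i
    have := congrArg (fun z : EuclideanSpace ℂ (G × Fin d) => z (1, i)) h
    simpa [Cfsg.Agent.S4470.embed] using this
  let e := LinearEquiv.ofInjective (Cfsg.Agent.S4470.embed ρ) hL
  let U : G →* (LinearMap.range (Cfsg.Agent.S4470.embed ρ) →L[ℂ]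
      LinearMap.range (Cfsg.Agent.S4470.embed ρ)) :=
    { toFun := fun g => LinearMap.toContinuousLinearMap (e.conj (ρ g))
      map_one' := by ext y; simp [LinearEquiv.conj_apply]
      map_mul' := fun a b => by
        apply ContinuousLinearMap.ext
        intro y
        show e (ρ (a * b) (e.symm y)) = e (ρ a (e.symm (e (ρ b (e.symm y)))))
        rw [LinearEquiv.symm_apply_apply, map_mul]
        rfl }
  have hU : ∀ g y z, ⟪U g y, U g z⟫_ℂ = ⟪y, z⟫_ℂ := by
    intro g y z
    obtain ⟨v, rfl⟩ := e.surjective y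
    obtain ⟨w, rfl⟩ := e.surjective z
    show ⟪e (ρ g (e.symm (e v))), e (ρ g (e.symm (e w)))⟫_ℂ = _
    rw [LinearEquiv.symm_apply_apply, LinearEquiv.symm_apply_apply, Submodule.coe_inner,
      Submodule.coe_inner]
    show ⟪Cfsg.Agent.S4470.embed ρ (ρ g v), Cfsg.Agent.S4470.embed ρ (ρ g w)⟫_ℂ =
      ⟪Cfsg.Agent.S4470.embed ρ v, Cfsg.Agent.S4470.embed ρ w⟫_ℂ
    rw [PiLp.inner_apply, PiLp.inner_apply]
    refine Fintype.sum_equiv ((Equiv.mulRight g).prodCongr (Equiv.refl _)) _ _ fun q => ?_
    simp [Cfsg.Agent.S4470.embed]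
  obtain ⟨o, ho⟩ := Cfsg.Agent.S4470.exists_eigenbasis
    (W := LinearMap.range (Cfsg.Agent.S4470.embed ρ)) U hU (Subgroup.zpowers x) fun a ha b hb => by
    obtain ⟨i, rfl⟩ := Subgroup.mem_zpowers_iff.1 ha
    obtain ⟨j, rfl⟩ := Subgroup.mem_zpowers_iff.1 hb
    exact (Commute.zpow_zpow (Commute.refl x) i j).eq
  choose f hf using fun i => ho i x (Subgroup.mem_zpowers x)
  let b := o.toBasis.map e.symm
  let R : G →* Matrix _ _ ℂ :=
    { toFun := fun g => LinearMap.toMatrix b b (ρ g)
      map_one' := by rw [map_one]; exact LinearMap.toMatrix_one b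
      map_mul' := fun g h => by rw [map_mul]; exact LinearMap.toMatrix_mul b _ _ }
  have hent : ∀ g i j, R g i j = ⟪o i, U g (o j)⟫_ℂ := by
    intro g i j
    show LinearMap.toMatrix b b (ρ g) i j = _
    rw [LinearMap.toMatrix_apply, ← OrthonormalBasis.repr_apply_apply]
    simp [b, U, LinearEquiv.conj_apply, OrthonormalBasis.coe_toBasis_repr_apply]
  refine ⟨_, R, f, fun g => ?_, fun T hT => ?_, ?_, fun g => ?_, fun g h hgh => ?_⟩
  · ext i j
    rw [conjTranspose_apply, hent, hent, ← starRingEnd_apply,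
      inner_conj_symm (𝕜 := ℂ) (U g (o i)) (o j), ← hU g,
      show U g (U g⁻¹ (o j)) = (U g * U g⁻¹) (o j) from rfl, ← map_mul, mul_inv_cancel, map_one]
    rfl
  · obtain ⟨c, hc⟩ := schur_scalar ρ (Matrix.toLin b b T) fun g => by
      apply (LinearMap.toMatrix b b).injective
      rw [LinearMap.toMatrix_mul, LinearMap.toMatrix_mul, LinearMap.toMatrix_toLin]
      exact hT g
    refine ⟨c, ?_⟩
    have := congrArg (LinearMap.toMatrix b b) hc
    rwa [LinearMap.toMatrix_toLin, map_smul, LinearMap.toMatrix_id] at this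
  · ext i j
    rw [hent, hf, inner_smul_right, orthonormal_iff_ite.1 o.orthonormal, diagonal_apply]
    split_ifs with h <;> simp [h]
  · exact (LinearMap.trace_eq_matrix_trace ℂ b (ρ g)).symm
  · exact (LinearMap.toMatrix b b).injective hgh

end CfsgLib.Char.BlichfeldtSixty
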