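/-
Bochert's bound on the order of a primitive group.
-/
import Mathlib.GroupTheory.GroupAction.Jordan
import Mathlib.GroupTheory.Perm.Cycle.Type

set_option autoImplicit false

open Equiv

namespace CfsgLib.Char.Bochert

variable {α : Type*} [Fintype α] [DecidableEq α]

theorem threeCycle_of_meet_once {P : Subgroup (Perm α)} {g h : Perm α} (hg : g ∈ P) (hh : h ∈ P) {t : α}
    (hgt : g t ≠ t) (hht : h t ≠ t) (hmeet : ∀ x, g x ≠ x → h x ≠ x → x = t) :
    ∃ k ∈ P, k.IsThreeCycle := by
  have gh : ∀ x, g x ≠ x → x ≠ t → h x = x := fun x h1 h2 => by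
    by_contra h3; exact h2 (hmeet x h1 h3)
  have hgg : ∀ x, h x ≠ x → x ≠ t → g x = x := fun x h1 h2 => by
    by_contra h3; exact h2 (hmeet x h3 h1)
  set a := g t with ha
  set b := h t with hb
  have hga : g a ≠ a := fun e => hgt (g.injective e)
  have hhb : h b ≠ b := fun e => hht (h.injective e)
  have hha : h a = a := gh a hga hgt
  have hgb : g b = b := hgg b hhb hht
  have hab : a ≠ b := fun e => hhb (e ▸ hha)
  refine ⟨g * h * g⁻¹ * h⁻¹, mul_mem (mul_mem (mul_mem hg hh) (inv_mem hg)) (inv_mem hh), ?_⟩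
  suffices g * h * g⁻¹ * h⁻¹ = swap t b * swap t a by
    rw [this]; exact Perm.isThreeCycle_swap_mul_swap_same hht.symm hgt.symm hab.symm
  ext x
  simp only [Perm.mul_apply]
  by_cases hxt : x = t
  · subst hxt
    have h1 : h (h⁻¹ x) = x := by simp
    have h2 : h⁻¹ x ≠ x := fun e => hht (by rw [e] at h1; exact h1)
    have h3 : g (h⁻¹ x) = h⁻¹ x := hgg _ (fun e => h2 (by rw [← e, h1])) h2
    have h4 : g⁻¹ (h⁻¹ x) = h⁻¹ x := Perm.inv_eq_iff_eq.2 h3.symm
    rw [h4, h1, Equiv.swap_apply_left, Equiv.swap_apply_of_ne_of_ne hgt hab]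
  by_cases hxa : x = a
  · subst hxa
    rw [Perm.inv_eq_iff_eq.2 hha.symm, Perm.inv_eq_iff_eq.2 ha, ← hb, hgb, Equiv.swap_apply_right,
      Equiv.swap_apply_left]
  by_cases hxb : x = b
  · subst hxb
    rw [Perm.inv_eq_iff_eq.2 hb]
    have h1 : g (g⁻¹ t) = t := by simp
    have h2 : g⁻¹ t ≠ t := fun e => hgt (by rw [e] at h1; exact h1)
    have h3 : h (g⁻¹ t) = g⁻¹ t := gh _ (fun e => h2 (by rw [← e, h1])) h2
    rw [h3, h1, Equiv.swap_apply_of_ne_of_ne hxt hxa, Equiv.swap_apply_right]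
  rw [Equiv.swap_apply_of_ne_of_ne hxt hxa, Equiv.swap_apply_of_ne_of_ne hxt hxb]
  by_cases hhx : h x = x
  · rw [Perm.inv_eq_iff_eq.2 hhx.symm]
    by_cases hgx : g x = x
    · rw [Perm.inv_eq_iff_eq.2 hgx.symm, hhx, hgx]
    · have h1 : g (g⁻¹ x) = x := by simp
      have h2 : g⁻¹ x ≠ t := fun e => hxa (by rw [ha, ← e, h1])
      have h3 : g (g⁻¹ x) ≠ g⁻¹ x := fun e => hgx (by rw [h1] at e; rw [← e] at h1; exact h1)
      rw [gh _ h3 h2, h1]
  · have h1 : h (h⁻¹ x) = x := by simp
    have h2 : h⁻¹ x ≠ t := fun e => hxb (by rw [hb, ← e, h1])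
    have h3 : h (h⁻¹ x) ≠ h⁻¹ x := fun e => hhx (by rw [h1] at e; rw [← e] at h1; exact h1)
    rw [Perm.inv_eq_iff_eq.2 (hgg _ h3 h2).symm, h1]
    exact hgg x hhx hxt

theorem bound {P : Subgroup (Perm α)} (hP : MulAction.IsPreprimitive P α) (hA : ¬ alternatingGroup α ≤ P) :
    Nat.card P * Nat.factorial ((Fintype.card α + 1) / 2) ≤ Nat.factorial (Fintype.card α) := by
  classical
  set good : Finset (Finset α) := Finset.univ.filter fun S => ∀ g ∈ P, (∀ x ∉ S, g x = x) → g = 1 with hgood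
  have hne : (∅ : Finset α) ∈ good :=
    Finset.mem_filter.2 ⟨Finset.mem_univ _, fun g _ h => Equiv.ext fun x => h x (Finset.notMem_empty x)⟩
  obtain ⟨S, hS, hmax⟩ := Finset.exists_max_image good Finset.card ⟨∅, hne⟩
  have hS' := (Finset.mem_filter.1 hS).2
  have hbig : (Fintype.card α + 1) / 2 ≤ S.card := by
    by_contra hlt
    push Not at hlt
    have hc := Finset.card_compl S
    have hT : Sᶜ ∉ good := fun h => by have := hmax _ h; omega
    simp only [hgood, Finset.mem_filter, Finset.mem_univ, true_and, not_forall] at hT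
    obtain ⟨h, hh, hfix, h1⟩ := hT
    obtain ⟨t, ht⟩ : ∃ t, h t ≠ t := by
      by_contra e; push Not at e; exact h1 (Equiv.ext e)
    have htS : t ∉ S := fun e => ht (hfix t (by simp [e]))
    have hSt : insert t S ∉ good := fun e => by
      have := hmax _ e
      rw [Finset.card_insert_of_notMem htS] at this
      omega
    simp only [hgood, Finset.mem_filter, Finset.mem_univ, true_and, not_forall] at hSt
    obtain ⟨g, hg, hgfix, hg1⟩ := hSt
    have hgt : g t ≠ t := fun e => hg1 (hS' g hg fun x hx => by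
      by_cases hxt : x = t
      · rw [hxt, e]
      · exact hgfix x (by simp [hx, hxt]))
    obtain ⟨k, hk, hk3⟩ := threeCycle_of_meet_once hg hh hgt ht fun x h2 h3 => by
      have hxS : x ∉ S := fun e => h3 (hfix x (by simp [e]))
      by_contra hxt
      exact h2 (hgfix x (by simp [hxS, hxt]))
    exact hA (Equiv.Perm.alternatingGroup_le_of_isPreprimitive_of_isThreeCycle_mem hP hk3 hk)
  refine le_trans (Nat.mul_le_mul_left _ (Nat.factorial_le hbig)) ?_
  have hinj : Function.Injective (fun q : P × Perm S => (q.1 : Perm α) * Perm.ofSubtype q.2) := by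
    rintro ⟨g, π⟩ ⟨g', π'⟩ e
    simp only at e
    have h1 : (g' : Perm α)⁻¹ * g = Perm.ofSubtype π' * (Perm.ofSubtype π)⁻¹ := by
      rw [eq_mul_inv_iff_mul_eq, mul_assoc, e, inv_mul_cancel_left]
    have h2 : (g' : Perm α)⁻¹ * g = 1 := hS' _ (mul_mem (inv_mem g'.2) g.2) fun x hx => by
      rw [h1, ← map_inv, ← map_mul, Perm.ofSubtype_apply_of_not_mem _ hx]
    rw [h2, eq_comm, mul_inv_eq_one] at h1
    exact Prod.ext (Subtype.ext (inv_mul_eq_one.1 h2).symm) (Perm.ofSubtype_injective h1.symm)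
  have := Nat.card_le_card_of_injective _ hinj
  rwa [Nat.card_prod, Nat.card_perm, Nat.card_perm, Nat.card_eq_fintype_card (α := α),
    Nat.card_eq_fintype_card (α := S), Fintype.card_coe] at this

theorem bochert {G Ω : Type*} [Group G] [Finite G] [MulAction G Ω] [FaithfulSMul G Ω] [Fintype Ω] [DecidableEq Ω]
    (hprim : MulAction.IsPreprimitive G Ω) (hA : ¬ alternatingGroup Ω ≤ (MulAction.toPermHom G Ω).range) :
    Nat.card G * Nat.factorial ((Fintype.card Ω + 1) / 2) ≤ Nat.factorial (Fintype.card Ω) := by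
  have hP : MulAction.IsPreprimitive (MulAction.toPermHom G Ω).range Ω := by
    haveI := hprim
    exact MulAction.IsPreprimitive.of_surjective
      (φ := (MulAction.toPermHom G Ω).rangeRestrict) (f := ⟨id, fun _ _ => rfl⟩) Function.surjective_id
  have e : Nat.card G = Nat.card (MulAction.toPermHom G Ω).range :=
    Nat.card_congr (MonoidHom.ofInjective MulAction.toPerm_injective).toEquiv
  rw [e]
  exact bound hP hA

end CfsgLib.Char.Bochert
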