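import Mathlib
import Cfsg.Agent.Lib.Char.ExceptionalConst

/-!
# Families of TI abelian subgroups covering a group up to conjugacy
-/

set_option autoImplicit false
set_option linter.unusedSectionVars false
set_option linter.style.haveILetI false

namespace CfsgLib.Char

open scoped ComplexConjugate
open Cfsg

universe u

/-- A family of representatives of the conjugacy classes of centralizers in a CA-group. -/
structure CAFamily (G : Type u) [Group G] (ι : Type u) where
  A : ι → Subgroup G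
  self : ∀ i, ∀ x ∈ A i, x ≠ 1 → Subgroup.centralizer ({x} : Set G) = A i
  comm : ∀ i, ∀ a ∈ A i, ∀ b ∈ A i, a * b = b * a
  nontriv : ∀ i, ∃ x ∈ A i, x ≠ 1
  cover : ∀ x : G, x ≠ 1 → ∃ i, ∃ y : G, y * x * y⁻¹ ∈ A i
  sep : ∀ i l (x y : G), x ∈ A i → x ≠ 1 → y * x * y⁻¹ ∈ A l → i = l

variable {G : Type u} [Group G]

theorem exists_caFamily [Finite G]
    (hCA : ∀ x : G, x ≠ 1 → ∀ a ∈ Subgroup.centralizer ({x} : Set G),
      ∀ b ∈ Subgroup.centralizer ({x} : Set G), a * b = b * a) :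
    ∃ (ι : Type u) (_ : Fintype ι), Nonempty (CAFamily G ι) := by
  classical
  let S := {A : Subgroup G // ∃ x : G, x ≠ 1 ∧ Subgroup.centralizer ({x} : Set G) = A}
  let r : Setoid S :=
    { r := fun A B => ∃ y : G, A.1.map (MulAut.conj y).toMonoidHom = B.1
      iseqv := ⟨fun A => ⟨1, by ext z; simp⟩, fun {A B} ⟨y, hy⟩ => ⟨y⁻¹, by
          rw [← hy, Subgroup.map_map]; ext z; simp [mul_assoc]⟩,
        fun {A B C} ⟨y, hy⟩ ⟨z, hz⟩ => ⟨z * y, by
          rw [← hz, ← hy, Subgroup.map_map]; ext w; simp [mul_assoc]⟩⟩ }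
  haveI : Finite S := Subtype.finite
  haveI : Finite (Quotient r) := Quotient.finite _
  refine ⟨Quotient r, Fintype.ofFinite _, ⟨?_⟩⟩
  have hmem : ∀ (x : G), x ∈ Subgroup.centralizer ({x} : Set G) := fun x =>
    Subgroup.mem_centralizer_singleton_iff.2 rfl
  have hself : ∀ (B : S), ∀ x ∈ B.1, x ≠ 1 → Subgroup.centralizer ({x} : Set G) = B.1 := by
    rintro ⟨B, x₀, hx₀, rfl⟩ x hx hx1
    refine le_antisymm (fun z hz => ?_) fun z hz => ?_
    · rw [Subgroup.mem_centralizer_singleton_iff]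
      exact hCA x hx1 z hz x₀ (Subgroup.mem_centralizer_singleton_iff.2
        (Subgroup.mem_centralizer_singleton_iff.1 hx).symm)
    · rw [Subgroup.mem_centralizer_singleton_iff]
      exact hCA x₀ hx₀ z hz x hx
  refine ⟨fun q => (Quotient.out q).1, fun q => hself _, fun q => ?_, fun q => ?_, fun x hx => ?_,
    fun i l x y hx hx1 hy => ?_⟩
  · obtain ⟨x₀, hx₀, e⟩ := (Quotient.out q).2
    exact fun a ha b hb => hCA x₀ hx₀ a (e ▸ ha) b (e ▸ hb)
  · obtain ⟨x₀, hx₀, e⟩ := (Quotient.out q).2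
    exact ⟨x₀, e ▸ hmem x₀, hx₀⟩
  · obtain ⟨y, hy⟩ := Setoid.symm (Quotient.mk_out (s := r) (⟨_, x, hx, rfl⟩ : S))
    refine ⟨Quotient.mk r ⟨_, x, hx, rfl⟩, y, ?_⟩
    show y * x * y⁻¹ ∈ (Quotient.out (Quotient.mk r _)).1
    rw [← hy]
    exact ⟨x, hmem x, rfl⟩
  · have hy1 : y * x * y⁻¹ ≠ 1 := fun e => hx1 (conj_eq_one_iff.1 e)
    rw [← Quotient.out_eq i, ← Quotient.out_eq l]
    refine Quotient.sound ⟨y, ?_⟩
    rw [← hself _ x hx hx1, ← hself _ _ hy hy1]
    ext z
    rw [Subgroup.mem_map_equiv]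
    simp only [Subgroup.mem_centralizer_singleton_iff, MulAut.conj_symm_apply]
    constructor
    · intro h
      calc z * (y * x * y⁻¹) = y * ((y⁻¹ * z * y) * x) * y⁻¹ := by group
        _ = y * (x * (y⁻¹ * z * y)) * y⁻¹ := by rw [h]
        _ = y * x * y⁻¹ * z := by group
    · intro h
      calc y⁻¹ * z * y * x = y⁻¹ * (z * (y * x * y⁻¹)) * y := by group
        _ = y⁻¹ * ((y * x * y⁻¹) * z) * y := by rw [h]
        _ = x * (y⁻¹ * z * y) := by group

variable {ι : Type u} (F : CAFamily G ι)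

theorem CAFamily.exists_sylow_le [Finite G] {i : ι} {p : ℕ} [Fact p.Prime]
    (hi : p ∣ Nat.card (F.A i)) : ∃ P : Sylow p G, P.1 ≤ F.A i := by
  obtain ⟨x, hx⟩ := exists_prime_orderOf_dvd_card' (G := F.A i) p hi
  have hx1 : (x : G) ≠ 1 := fun e => (Fact.out : p.Prime).ne_one (by
    rw [← hx, ← Subgroup.orderOf_coe, e, orderOf_one])
  obtain ⟨P, hP⟩ := (IsPGroup.of_card (n := 1)
    (by rw [pow_one, Nat.card_zpowers, Subgroup.orderOf_coe, hx] :
      Nat.card (Subgroup.zpowers (x : G)) = p ^ 1)).exists_le_sylow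
  refine ⟨P, ?_⟩
  haveI : Nontrivial P.1 := ⟨⟨⟨x, hP (Subgroup.mem_zpowers _)⟩, 1, fun e => hx1 (congrArg Subtype.val e)⟩⟩
  obtain ⟨⟨z, hz⟩, hz1⟩ := Subgroup.ne_bot_iff_exists_ne_one.1 (ne_bot_of_gt (IsPGroup.bot_lt_center P.2))
  have hzc : Commute ((z : P.1) : G) (x : G) := (congrArg Subtype.val
    (Subgroup.mem_center_iff.1 hz ⟨x, hP (Subgroup.mem_zpowers _)⟩)).symm
  have hzA : ((z : P.1) : G) ∈ F.A i := by
    rw [← F.self i x x.2 hx1]
    exact Subgroup.mem_centralizer_singleton_iff.2 hzc.eq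
  intro w hw
  rw [← F.self i _ hzA (fun e => hz1 (Subtype.ext (Subtype.ext e)))]
  exact Subgroup.mem_centralizer_singleton_iff.2 (congrArg Subtype.val
    (Subgroup.mem_center_iff.1 hz ⟨w, hw⟩))

theorem CAFamily.eq_of_prime [Finite G] {i l : ι} {p : ℕ} [Fact p.Prime]
    (hi : p ∣ Nat.card (F.A i)) (hl : p ∣ Nat.card (F.A l)) : i = l := by
  obtain ⟨P, hP⟩ := F.exists_sylow_le hi
  obtain ⟨Q, hQ⟩ := F.exists_sylow_le hl
  obtain ⟨y, hy⟩ := MulAction.exists_smul_eq G P Q
  have hPne : ∃ x ∈ P.1, x ≠ 1 := by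
    by_contra! h
    have hc : Nat.card P.1 = 1 := Subgroup.card_eq_one.2 ((Subgroup.eq_bot_iff_forall _).2 h)
    rw [P.card_eq_multiplicity, Nat.pow_eq_one] at hc
    rcases hc with hc | hc
    · exact (Fact.out : p.Prime).ne_one hc
    · exact absurd hc ((Nat.Prime.factorization_pos_of_dvd Fact.out Nat.card_pos.ne'
        (hi.trans (Subgroup.card_subgroup_dvd_card _))).ne')
  obtain ⟨x, hx, hx1⟩ := hPne
  refine F.sep i l x y (hP hx) hx1 (hQ ?_)
  rw [← hy, Sylow.coe_subgroup_smul, Subgroup.pointwise_smul_def]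
  exact ⟨x, hx, rfl⟩

theorem CAFamily.sum_class_function [Fintype G] [Fintype ι] [∀ i, Fintype (F.A i)] {f : G → ℂ}
    (hf : IsClassFunction G f) [DecidableEq G] :
    ∑ x : G, f x = f 1 + ∑ i, (Nat.card G : ℂ) / (Nat.card (Subgroup.normalizer (F.A i : Set G)) : ℂ) *
      ∑ k ∈ Finset.univ.filter (fun k : F.A i => k ≠ 1), f k := by
  classical
  rw [← Finset.add_sum_erase _ _ (Finset.mem_univ (1 : G))]
  congr 1
  set c : ι → ℂ := fun i => ((Nat.card (Subgroup.normalizer (F.A i : Set G)) : ℂ))⁻¹ with hc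
  have h1 : ∀ i, (Nat.card G : ℂ) / (Nat.card (Subgroup.normalizer (F.A i : Set G)) : ℂ) *
      ∑ k ∈ Finset.univ.filter (fun k : F.A i => k ≠ 1), f k =
      c i * ∑ y : G, ∑ k ∈ Finset.univ.filter (fun k : F.A i => k ≠ 1), f (y * k * y⁻¹) := by
    intro i
    simp only [hf _ _, Finset.sum_const, Finset.card_univ, nsmul_eq_mul, ← Nat.card_eq_fintype_card, hc]
    ring
  rw [Finset.sum_congr rfl fun i _ => h1 i]
  -- group the conjugates by their values
  have h2 : ∀ i (y : G), ∑ k ∈ Finset.univ.filter (fun k : F.A i => k ≠ 1), f (y * k * y⁻¹) =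
      ∑ x ∈ Finset.univ.erase (1 : G), if y⁻¹ * x * y ∈ F.A i then f x else 0 := by
    intro i y
    rw [← Finset.sum_filter]
    refine Finset.sum_bij (fun k _ => y * (k : G) * y⁻¹) (fun k hk => ?_) (fun a _ b _ h => ?_)
      (fun x hx => ?_) fun k _ => rfl
    · simp only [Finset.mem_filter, Finset.mem_univ, true_and] at hk
      refine Finset.mem_filter.2 ⟨Finset.mem_erase.2 ⟨fun e => hk (Subtype.ext (conj_eq_one_iff.1 e)),
        Finset.mem_univ _⟩, ?_⟩
      simp [mul_assoc]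
    · exact Subtype.ext (mul_left_cancel (mul_right_cancel h))
    · obtain ⟨hx1, hxA⟩ := Finset.mem_filter.1 hx
      refine ⟨⟨_, hxA⟩, Finset.mem_filter.2 ⟨Finset.mem_univ _, fun e => (Finset.mem_erase.1 hx1).1 ?_⟩,
        by group⟩
      have h : y⁻¹ * x * y = 1 := congrArg Subtype.val e
      calc x = y * (y⁻¹ * x * y) * y⁻¹ := by group
        _ = 1 := by rw [h]; group
  simp only [h2, Finset.mul_sum]
  have h3 : ∀ x ∈ Finset.univ.erase (1 : G),
      (∑ i, ∑ y : G, c i * if y⁻¹ * x * y ∈ F.A i then f x else 0) = f x := by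
    intro x hx
    have hx1 := (Finset.mem_erase.1 hx).1
    obtain ⟨i, y₀, hy₀⟩ := F.cover x hx1
    rw [Finset.sum_eq_single i]
    · rw [← Finset.mul_sum, ← Finset.sum_filter, Finset.sum_const, nsmul_eq_mul]
      have hcard : (Finset.univ.filter fun y : G => y⁻¹ * x * y ∈ F.A i).card =
          Nat.card (Subgroup.normalizer (F.A i : Set G)) := by
        rw [← Fintype.card_subtype, Nat.card_eq_fintype_card]
        refine Fintype.card_congr
          { toFun := fun y => ⟨y₀ * y.1, ?_⟩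
            invFun := fun n => ⟨y₀⁻¹ * n.1, ?_⟩
            left_inv := fun y => Subtype.ext (by group)
            right_inv := fun n => Subtype.ext (by group) }
        · by_contra hn
          have h := ca_ti (F.A i) (F.self i) _ hn _ y.2 (by
            have e : y₀ * y.1 * (y.1⁻¹ * x * y.1) * (y₀ * y.1)⁻¹ = y₀ * x * y₀⁻¹ := by group
            rw [e]; exact hy₀)
          refine hx1 ?_
          calc x = y.1 * (y.1⁻¹ * x * y.1) * y.1⁻¹ := by group
            _ = 1 := by rw [h]; group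
        · have := (Subgroup.mem_normalizer_iff''.1 n.2 (y₀ * x * y₀⁻¹)).1 hy₀
          simpa [mul_assoc] using this
      rw [hcard, hc, ← mul_assoc, inv_mul_cancel₀ (Nat.cast_ne_zero.2 Nat.card_pos.ne'), one_mul]
    · intro l _ hl
      refine Finset.sum_eq_zero fun y _ => ?_
      rw [if_neg, mul_zero]
      intro hy
      refine hl (F.sep l i (y⁻¹ * x * y) (y₀ * y) hy (fun e => hx1 ?_) ?_)
      · calc x = y * (y⁻¹ * x * y) * y⁻¹ := by group
          _ = 1 := by rw [e]; group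
      · have e : y₀ * y * (y⁻¹ * x * y) * (y₀ * y)⁻¹ = y₀ * x * y₀⁻¹ := by group
        rw [e]; exact hy₀
    · exact fun h => absurd (Finset.mem_univ _) h
  rw [← Finset.sum_congr rfl h3, Finset.sum_comm]
  exact Finset.sum_congr rfl fun i _ => Finset.sum_comm

end CfsgLib.Char
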