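import Mathlib
import Cfsg.Agent.Lib.Char.CAPartition
import Cfsg.Agent.Lib.Char.RealChar

/-!
# Column relations for a family of self-centralizing TI subgroups in a group of odd order
-/

set_option autoImplicit false
set_option linter.unusedSectionVars false
set_option linter.style.haveILetI false

namespace CfsgLib.Char

open scoped ComplexConjugate
open Cfsg

universe u

variable {G : Type u} [Group G] [Fintype G] {ι : Type u} [Fintype ι] (F : CAFamily G ι)
  (D : ∀ i, ExcData (F.A i)) (hs : ∀ i, 2 ≤ Nat.card (Exc (F.A i)))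

include hs

theorem nontrivial_exc (i : ι) : Nontrivial (Exc (F.A i)) :=
  Finite.one_lt_card_iff_nontrivial.1 (hs i)

theorem nontrivial_fam (i : ι) : Nontrivial (F.A i) := by
  obtain ⟨x, hx, hx1⟩ := F.nontriv i
  exact ⟨⟨⟨x, hx⟩, 1, fun e => hx1 (congrArg Subtype.val e)⟩⟩

theorem theta_ne {i l : ι} (h : i ≠ l) (χ : Exc (F.A i)) (η : Exc (F.A l)) :
    (D i).θ χ ≠ (D l).θ η := by
  classical
  intro hEq
  haveI := nontrivial_exc F hs i
  haveI := nontrivial_exc F hs l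
  obtain ⟨χ', hχ'⟩ := exists_ne χ
  obtain ⟨η', hη'⟩ := exists_ne η
  -- the supports of the two differences are disjoint
  have hzero : classInner (indFun (Subgroup.normalizer (F.A i : Set G))
      ((χ.1 : ↥(Subgroup.normalizer (F.A i : Set G)) → ℂ) - (χ'.1 : ↥(Subgroup.normalizer (F.A i : Set G)) → ℂ)))
      (indFun (Subgroup.normalizer (F.A l : Set G))
      ((η.1 : ↥(Subgroup.normalizer (F.A l : Set G)) → ℂ) - (η'.1 : ↥(Subgroup.normalizer (F.A l : Set G)) → ℂ))) = 0 := by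
    rw [classInner, Finset.sum_eq_zero, mul_zero]
    intro x _
    by_cases hx : ∃ y : G, y * x * y⁻¹ ∈ F.A i ∧ y * x * y⁻¹ ≠ 1
    · obtain ⟨y, hy, hy1⟩ := hx
      rw [exc_diff_vanish (F.A l) (F.self l) (F.comm l) η η' x fun z hz => by
        by_contra hz1
        refine h (F.sep i l (y * x * y⁻¹) (z * y⁻¹) hy hy1 ?_)
        have e : z * y⁻¹ * (y * x * y⁻¹) * (z * y⁻¹)⁻¹ = z * x * z⁻¹ := by group
        rw [e]; exact hz, map_zero, mul_zero]
    · simp only [not_exists, not_and, not_not] at hx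
      rw [exc_diff_vanish (F.A i) (F.self i) (F.comm i) χ χ' x hx, zero_mul]
  rw [(D i).ind, (D l).ind, classInner_smul_left, classInner_smul_right, classInner_sub_left,
    classInner_sub_right, classInner_sub_right, classInner_irr, classInner_irr, classInner_irr,
    classInner_irr, if_pos hEq, if_neg (fun e => hη' ((D l).inj (hEq.symm.trans e)).symm),
    if_neg (fun e => hχ' ((D i).inj (e.trans hEq.symm))), map_intCast] at hzero
  have hi : ((D i).ε : ℂ) ≠ 0 := by rcases (D i).sign with e | e <;> rw [e] <;> simp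
  have hl : ((D l).ε : ℂ) ≠ 0 := by rcases (D l).sign with e | e <;> rw [e] <;> simp
  rcases mul_eq_zero.1 hzero with h0 | h0
  · exact hi h0
  rcases mul_eq_zero.1 h0 with h0 | h0
  · exact hl h0
  split_ifs at h0 <;> norm_num at h0

theorem exists_int_on (l i : ι) (h : l ≠ i) :
    ∃ m : ℤ, ∀ (χ : Exc (F.A l)) (k : G), k ∈ F.A i → k ≠ 1 → ((D l).θ χ : G → ℂ) k = m := by
  classical
  haveI := nontrivial_fam F hs i
  haveI := nontrivial_exc F hs l
  obtain ⟨χ₀⟩ : Nonempty (Exc (F.A l)) := inferInstance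
  obtain ⟨m, hm⟩ := exists_const_value (F.A i) (F.self i) (F.comm i) (D i) ((D l).θ χ₀)
  refine ⟨m, fun χ k hk hk1 => ?_⟩
  have h0 := (hm ⟨k, Subgroup.le_normalizer hk⟩ hk (fun e => hk1 (congrArg Subtype.val e))).2
    fun η e => theta_ne F D hs h χ₀ η e.symm
  have hd := congrFun ((D l).ind χ χ₀) k
  rw [exc_diff_vanish (F.A l) (F.self l) (F.comm l) χ χ₀ k fun y hy => by
    by_contra hy1
    exact h (F.sep i l k y hk hk1 hy).symm, Pi.smul_apply, Pi.sub_apply, smul_eq_mul] at hd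
  have hl : ((D l).ε : ℂ) ≠ 0 := by rcases (D l).sign with e | e <;> rw [e] <;> simp
  rw [eq_comm, mul_eq_zero, or_iff_right hl, sub_eq_zero] at hd
  rw [hd]
  exact h0

theorem exists_int_own (i : ι) :
    ∃ c : ℤ, ∀ (χ : Exc (F.A i)) (k : ↥(Subgroup.normalizer (F.A i : Set G))), (k : G) ∈ F.A i →
      k ≠ 1 → ((D i).θ χ : G → ℂ) k =
        ((D i).ε : ℂ) * (χ.1 : ↥(Subgroup.normalizer (F.A i : Set G)) → ℂ) k + c := by
  classical
  haveI := nontrivial_fam F hs i
  haveI := nontrivial_exc F hs i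
  obtain ⟨χ₀⟩ : Nonempty (Exc (F.A i)) := inferInstance
  obtain ⟨c, hc⟩ := exists_const_value (F.A i) (F.self i) (F.comm i) (D i) ((D i).θ χ₀)
  refine ⟨c, fun χ k hk hk1 => ?_⟩
  have h0 := (hc k hk hk1).1 χ₀ rfl
  have hd := exc_diff_ind (F.A i) (F.self i) (F.comm i) χ χ₀ k
  rw [(D i).ind, Pi.smul_apply, Pi.sub_apply, smul_eq_mul] at hd
  have h2 : ((D i).ε : ℂ) * ((D i).ε : ℂ) = 1 := by rcases (D i).sign with e | e <;> rw [e] <;> simp
  linear_combination h0 + ((D i).ε : ℂ) * hd +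
    (((D i).θ χ₀ : G → ℂ) k - ((D i).θ χ : G → ℂ) k) * h2

theorem irr_cases (hodd : Odd (Nat.card G)) (ψ : IrrCharacter G) :
    (ψ : G → ℂ) = (fun _ => 1) ∨ ∃ l, ∃ χ : Exc (F.A l), (D l).θ χ = ψ := by
  classical
  refine or_iff_not_imp_right.2 fun hno => irr_eq_one_of_real hodd ψ fun g => ?_
  by_cases hg : g = 1
  · subst hg; exact conj_irr_one ψ
  obtain ⟨i, y, hy⟩ := F.cover g hg
  haveI := nontrivial_fam F hs i
  obtain ⟨c, hc⟩ := exists_const_value (F.A i) (F.self i) (F.comm i) (D i) ψ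
  have hcf := isClassFunction_of_isGeneralized
    (isGeneralizedCharacter_of_isCharacter (isCharacter_irr ψ))
  have h0 := (hc ⟨_, Subgroup.le_normalizer hy⟩ hy fun e => hg
    (conj_eq_one_iff.1 (congrArg Subtype.val e))).2 fun χ e => hno ⟨i, χ, e⟩
  simp only [hcf g y] at h0
  rw [h0, map_intCast]

theorem sum_irr_split (hodd : Odd (Nat.card G)) [Fintype (IrrCharacter G)]
    [∀ l, Fintype (Exc (F.A l))] (Φ : IrrCharacter G → ℂ) :
    ∑ ψ, Φ ψ = Φ ⟨fun _ => 1, isIrrCharacter_one⟩ + ∑ l, ∑ χ : Exc (F.A l), Φ ((D l).θ χ) := by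
  classical
  set one : IrrCharacter G := ⟨fun _ => 1, isIrrCharacter_one⟩ with hone
  let g : Option (Σ l, Exc (F.A l)) → IrrCharacter G := fun o =>
    o.elim one fun p => (D p.1).θ p.2
  have hg : Function.Bijective g := by
    refine ⟨?_, fun ψ => ?_⟩
    · have hne : ∀ p : Σ l, Exc (F.A l), (D p.1).θ p.2 ≠ one := fun p e => by
        haveI := nontrivial_exc F hs p.1
        exact exc_not_one (F.A p.1) (F.self _) (F.comm _) (D p.1) p.2 (congrArg Subtype.val e)
      rintro (_ | ⟨l, χ⟩) (_ | ⟨i, η⟩) e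
      · rfl
      · exact absurd e.symm (hne ⟨i, η⟩)
      · exact absurd e (hne ⟨l, χ⟩)
      · rcases eq_or_ne l i with rfl | h
        · exact congrArg _ (congrArg (Sigma.mk l) ((D l).inj e))
        · exact absurd e (theta_ne F D hs h χ η)
    · rcases irr_cases F D hs hodd ψ with h | ⟨l, χ, h⟩
      · exact ⟨none, Subtype.ext h.symm⟩
      · exact ⟨some ⟨l, χ⟩, h⟩
  rw [← hg.sum_comp, Fintype.sum_option, Fintype.sum_sigma]
  rfl

omit hs in
theorem even_card_exc (hodd : Odd (Nat.card G)) (i : ι) :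
    Even (Nat.card (Exc (F.A i))) ∧ Odd (excIndex (F.A i)) := by
  have ha : Odd (Nat.card (F.A i)) := hodd.of_dvd_nat (Subgroup.card_subgroup_dvd_card _)
  have he : Odd (excIndex (F.A i)) := hodd.of_dvd_nat
    ((Subgroup.index_dvd_card _).trans (Subgroup.card_subgroup_dvd_card _))
  refine ⟨?_, he⟩
  have h := card_exc (F.A i) (F.self i) (F.comm i)
  obtain ⟨t, ht⟩ := ha
  rcases Nat.even_or_odd (Nat.card (Exc (F.A i))) with h1 | h1
  · exact h1
  · exfalso
    obtain ⟨u, hu⟩ := h1.mul he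
    omega

/-- The sum of squares over the exceptional characters on their own subgroup. -/
theorem sum_own (i : ι) [Fintype (Exc (F.A i))] :
    ∃ X : ℤ, 0 ≤ X ∧ ∀ k ∈ F.A i, k ≠ 1 →
      ∑ χ : Exc (F.A i), ((D i).θ χ : G → ℂ) k * conj (((D i).θ χ : G → ℂ) k) =
        (((Nat.card (F.A i) : ℤ) - (excIndex (F.A i) : ℤ) + X : ℤ) : ℂ) := by
  classical
  obtain ⟨c, hc⟩ := exists_int_own F D hs i
  refine ⟨(Nat.card (Exc (F.A i)) : ℤ) * c ^ 2 - 2 * (D i).ε * c, ?_, fun a ha ha1 => ?_⟩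
  · have h2' : (2 : ℤ) ≤ (Nat.card (Exc (F.A i)) : ℤ) := by exact_mod_cast hs i
    have hcc : 0 ≤ c ^ 2 - (D i).ε * c := by
      rcases lt_trichotomy c 0 with h | h | h <;> rcases (D i).sign with e | e <;> rw [e] <;>
        nlinarith
    nlinarith
  set k : ↥(Subgroup.normalizer (F.A i : Set G)) := ⟨a, Subgroup.le_normalizer ha⟩ with hk
  have hk1 : k ≠ 1 := fun e => ha1 (congrArg Subtype.val e)
  obtain ⟨h1, h2⟩ := sum_exc_column (F.A i) (F.self i) (F.comm i) (k := k) ha hk1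
  have e2 : ((D i).ε : ℂ) * ((D i).ε : ℂ) = 1 := by rcases (D i).sign with e | e <;> rw [e] <;> simp
  have h1' : ∑ χ : Exc (F.A i), conj ((χ.1 : ↥(Subgroup.normalizer (F.A i : Set G)) → ℂ) k) = -1 := by
    rw [← map_sum, h1]; simp
  have hterm : ∀ χ : Exc (F.A i), ((D i).θ χ : G → ℂ) a * conj (((D i).θ χ : G → ℂ) a) =
      (χ.1 : ↥(Subgroup.normalizer (F.A i : Set G)) → ℂ) k *
          conj ((χ.1 : ↥(Subgroup.normalizer (F.A i : Set G)) → ℂ) k) +
        (((D i).ε : ℂ) * c) * (χ.1 : ↥(Subgroup.normalizer (F.A i : Set G)) → ℂ) k +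
        (((D i).ε : ℂ) * c) * conj ((χ.1 : ↥(Subgroup.normalizer (F.A i : Set G)) → ℂ) k) +
        (c : ℂ) ^ 2 := fun χ => by
    rw [show ((D i).θ χ : G → ℂ) a = _ from hc χ k ha hk1]
    simp only [map_add, map_mul, map_intCast]
    linear_combination ((χ.1 : ↥(Subgroup.normalizer (F.A i : Set G)) → ℂ) k *
      conj ((χ.1 : ↥(Subgroup.normalizer (F.A i : Set G)) → ℂ) k)) * e2
  push_cast
  simp only [hterm, Finset.sum_add_distrib, ← Finset.mul_sum, h1, h1', h2, Finset.sum_const,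
    Finset.card_univ, ← Nat.card_eq_fintype_card, nsmul_eq_mul]
  ring

/-- The column inequality. -/
theorem sum_sq_values_le (hodd : Odd (Nat.card G)) (m : ι → ι → ℤ)
    (hm : ∀ l i, l ≠ i → ∀ (χ : Exc (F.A l)) (k : G), k ∈ F.A i → k ≠ 1 →
      ((D l).θ χ : G → ℂ) k = m l i) [DecidableEq ι] (i : ι) :
    ∑ l ∈ Finset.univ.erase i, (Nat.card (Exc (F.A l)) : ℤ) * m l i ^ 2 ≤ (excIndex (F.A i) : ℤ) - 1 := by
  classical
  haveI := Fintype.ofFinite (IrrCharacter G)
  haveI : ∀ l, Fintype (Exc (F.A l)) := fun l => Fintype.ofFinite _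
  obtain ⟨a, ha, ha1⟩ := F.nontriv i
  obtain ⟨X, hX0, hX⟩ := sum_own F D hs i
  have hcol := sum_irr_mul_conj a a
  rw [if_pos (IsConj.refl a), F.self i a ha ha1, sum_irr_split F D hs hodd,
    ← Finset.add_sum_erase _ _ (Finset.mem_univ i)] at hcol
  rw [hX a ha ha1, Finset.sum_congr rfl (g := fun l => (((Nat.card (Exc (F.A l)) : ℤ) * m l i ^ 2 : ℤ) : ℂ))
    fun l hl => by
      simp only [hm l i (Finset.mem_erase.1 hl).1 _ a ha ha1, map_intCast, Finset.sum_const,
        Finset.card_univ, ← Nat.card_eq_fintype_card, nsmul_eq_mul]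
      push_cast
      ring, ← Int.cast_sum] at hcol
  simp only [map_one, mul_one] at hcol
  set S := ∑ l ∈ Finset.univ.erase i, (Nat.card (Exc (F.A l)) : ℤ) * m l i ^ 2 with hS
  have hint : 1 - (excIndex (F.A i) : ℤ) + X + S = 0 := by
    apply Int.cast_injective (α := ℂ)
    push_cast at hcol ⊢
    linear_combination hcol
  omega

/-- For two different members one of the two mutual values is non-zero. -/
theorem values_ne_zero (hodd : Odd (Nat.card G)) (m : ι → ι → ℤ)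
    (hm : ∀ l i, l ≠ i → ∀ (χ : Exc (F.A l)) (k : G), k ∈ F.A i → k ≠ 1 →
      ((D l).θ χ : G → ℂ) k = m l i) {i j : ι} (hij : i ≠ j) : m i j ≠ 0 ∨ m j i ≠ 0 := by
  classical
  by_contra! h
  haveI := Fintype.ofFinite (IrrCharacter G)
  haveI : ∀ l, Fintype (Exc (F.A l)) := fun l => Fintype.ofFinite _
  obtain ⟨a, ha, ha1⟩ := F.nontriv i
  obtain ⟨b, hb, hb1⟩ := F.nontriv j
  have hcol := sum_irr_mul_conj a b
  rw [if_neg (fun hc => hij (by
      obtain ⟨y, hy⟩ := isConj_iff.1 hc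
      exact F.sep i j a y ha ha1 (hy ▸ hb))), sum_irr_split F D hs hodd,
    ← Finset.add_sum_erase _ _ (Finset.mem_univ i),
    ← Finset.add_sum_erase _ _ (Finset.mem_erase.2 ⟨hij.symm, Finset.mem_univ j⟩)] at hcol
  have hi0 : ∑ χ : Exc (F.A i), ((D i).θ χ : G → ℂ) a * conj (((D i).θ χ : G → ℂ) b) = 0 :=
    Finset.sum_eq_zero fun χ _ => by rw [hm i j hij χ b hb hb1, h.1]; simp
  have hj0 : ∑ χ : Exc (F.A j), ((D j).θ χ : G → ℂ) a * conj (((D j).θ χ : G → ℂ) b) = 0 :=
    Finset.sum_eq_zero fun χ _ => by rw [hm j i hij.symm χ a ha ha1, h.2]; simp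
  rw [hi0, hj0, zero_add, zero_add, Finset.sum_congr rfl
    (g := fun l => (((Nat.card (Exc (F.A l)) : ℤ) * (m l i * m l j) : ℤ) : ℂ)) fun l hl => by
      obtain ⟨hlj, hl'⟩ := Finset.mem_erase.1 hl
      simp only [hm l i (Finset.mem_erase.1 hl').1 _ a ha ha1, hm l j hlj _ b hb hb1, map_intCast,
        Finset.sum_const, Finset.card_univ, ← Nat.card_eq_fintype_card, nsmul_eq_mul]
      push_cast
      ring, ← Int.cast_sum] at hcol
  simp only [map_one, mul_one] at hcol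
  have hint : 1 + ∑ l ∈ (Finset.univ.erase i).erase j, (Nat.card (Exc (F.A l)) : ℤ) * (m l i * m l j) = 0 := by
    apply Int.cast_injective (α := ℂ)
    push_cast at hcol ⊢
    linear_combination hcol
  obtain ⟨t, ht⟩ : (2 : ℤ) ∣ ∑ l ∈ (Finset.univ.erase i).erase j,
      (Nat.card (Exc (F.A l)) : ℤ) * (m l i * m l j) := by
    refine Finset.dvd_sum fun l _ => Dvd.dvd.mul_right ?_ _
    obtain ⟨t, ht⟩ := (even_card_exc F hodd l).1
    exact ⟨t, by omega⟩
  omega

end CfsgLib.Char
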