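import Mathlib
import Cfsg.Agent.Lib.Char.CAColumns
import Cfsg.Agent.Lib.Char.FrobeniusFormula
import Cfsg.Agent.Lib.Char.TiInduced
import Cfsg.Agent.Lib.Coprime.FpfAction

/-!
# Suzuki: a group of odd order with abelian centralizers is solvable
-/

set_option autoImplicit false
set_option linter.unusedSectionVars false
set_option linter.style.haveILetI false

namespace CfsgLib.Char

open scoped ComplexConjugate
open Cfsg

universe u

variable {G : Type u} [Group G] [Fintype G] {ι : Type u} [Fintype ι] (F : CAFamily G ι)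

theorem card_normalizer_eq (i : ι) :
    Nat.card (Subgroup.normalizer (F.A i : Set G)) = Nat.card (F.A i) * excIndex (F.A i) := by
  rw [← (Subgroup.subgroupOf (F.A i) (Subgroup.normalizer (F.A i : Set G))).card_mul_index,
    Nat.card_congr (Subgroup.subgroupOfEquivOfLe Subgroup.le_normalizer).toEquiv]

/-- The measure of the conjugates of a member of the family. -/
noncomputable def caWeight (i : ι) : ℝ :=
  ((Nat.card (F.A i) : ℝ) - 1) / ((Nat.card (F.A i) : ℝ) * (excIndex (F.A i) : ℝ))

theorem sum_nonone_const (i : ι) [Fintype (F.A i)] [DecidableEq G] (z : ℂ) :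
    ∑ _k ∈ Finset.univ.filter (fun k : F.A i => k ≠ 1), z = ((Nat.card (F.A i) : ℂ) - 1) * z := by
  classical
  rw [Finset.sum_const, Finset.filter_ne', Finset.card_erase_of_mem (Finset.mem_univ _),
    Finset.card_univ, nsmul_eq_mul, Nat.card_eq_fintype_card, Nat.cast_sub Fintype.card_pos,
    Nat.cast_one]

theorem sum_caWeight : ∑ i, caWeight F i = 1 - 1 / (Nat.card G : ℝ) := by
  classical
  haveI : ∀ i, Fintype (F.A i) := fun i => Fintype.ofFinite _
  have h := F.sum_class_function (f := fun _ => (1 : ℂ)) (fun _ _ => rfl)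
  simp only [sum_nonone_const F, mul_one, Finset.sum_const, Finset.card_univ, nsmul_eq_mul,
    card_normalizer_eq F, Nat.cast_mul, ← Nat.card_eq_fintype_card (α := G)] at h
  have hg : (Nat.card G : ℝ) ≠ 0 := Nat.cast_ne_zero.2 Nat.card_pos.ne'
  have h' : (Nat.card G : ℝ) = 1 + (Nat.card G : ℝ) * ∑ i, caWeight F i := by
    apply Complex.ofReal_injective
    simp only [caWeight]
    push_cast
    rw [Finset.mul_sum]
    exact h.trans (congrArg _ (Finset.sum_congr rfl fun i _ => by ring))
  field_simp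
  linarith

variable (D : ∀ i, ExcData (F.A i)) (hs : ∀ i, 2 ≤ Nat.card (Exc (F.A i)))

include hs

/-- The norm inequality. -/
theorem sum_weight_sq_le (m : ι → ι → ℤ)
    (hm : ∀ l i, l ≠ i → ∀ (χ : Exc (F.A l)) (k : G), k ∈ F.A i → k ≠ 1 →
      ((D l).θ χ : G → ℂ) k = m l i) [DecidableEq ι] (l : ι) :
    ∑ i ∈ Finset.univ.erase l, caWeight F i * (m l i : ℝ) ^ 2 ≤
      (excIndex (F.A l) : ℝ) / (Nat.card (F.A l) : ℝ) := by
  classical
  haveI : ∀ i, Fintype (F.A i) := fun i => Fintype.ofFinite _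
  haveI := Fintype.ofFinite (Exc (F.A l))
  obtain ⟨X, hX0, hX⟩ := sum_own F D hs l
  let f : G → ℂ := fun x => ∑ χ : Exc (F.A l), ((D l).θ χ : G → ℂ) x * conj (((D l).θ χ : G → ℂ) x)
  have hf : IsClassFunction G f := fun a b => Finset.sum_congr rfl fun χ _ => by
    rw [isClassFunction_irr _ a b]
  have hnorm : ∑ x : G, f x = (Nat.card (Exc (F.A l)) : ℂ) * (Nat.card G : ℂ) := by
    rw [Finset.sum_comm, Nat.card_eq_fintype_card (α := Exc (F.A l)), ← Finset.card_univ,
      ← nsmul_eq_mul, ← Finset.sum_const]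
    refine Finset.sum_congr rfl fun χ _ => ?_
    have h := classInner_irr_self ((D l).θ χ)
    rw [classInner, inv_mul_eq_one₀ card_ne_zero'] at h
    exact h.symm
  set r : ℝ := ∑ χ : Exc (F.A l), Complex.normSq (((D l).θ χ : G → ℂ) 1) with hr
  have hf1 : f 1 = (r : ℂ) := by
    rw [hr, Complex.ofReal_sum]
    exact Finset.sum_congr rfl fun χ _ => Complex.mul_conj _
  have hr0 : 0 ≤ r := Finset.sum_nonneg fun χ _ => Complex.normSq_nonneg _
  have hl : ∑ k ∈ Finset.univ.filter (fun k : F.A l => k ≠ 1), f k = ((Nat.card (F.A l) : ℂ) - 1) *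
      (((Nat.card (F.A l) : ℤ) - (excIndex (F.A l) : ℤ) + X : ℤ) : ℂ) := by
    rw [← sum_nonone_const F]
    exact Finset.sum_congr rfl fun k hk => hX k k.2 fun e => (Finset.mem_filter.1 hk).2 (Subtype.ext e)
  have hother : ∀ i, l ≠ i → ∑ k ∈ Finset.univ.filter (fun k : F.A i => k ≠ 1), f k =
      ((Nat.card (F.A i) : ℂ) - 1) * ((Nat.card (Exc (F.A l)) : ℂ) * (m l i : ℂ) ^ 2) := by
    intro i hi
    rw [← sum_nonone_const F]
    refine Finset.sum_congr rfl fun k hk => ?_
    simp only [f, hm l i hi _ k k.2 (fun e => (Finset.mem_filter.1 hk).2 (Subtype.ext e)),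
      map_intCast, Finset.sum_const, Finset.card_univ, ← Nat.card_eq_fintype_card, nsmul_eq_mul]
    ring
  have h := F.sum_class_function hf
  rw [hnorm, hf1, ← Finset.add_sum_erase _ _ (Finset.mem_univ l), hl,
    Finset.sum_congr rfl (s₁ := Finset.univ.erase l) (fun i hi => congrArg _ (hother i (Finset.mem_erase.1 hi).1.symm))] at h
  simp only [card_normalizer_eq F, Nat.cast_mul] at h
  set s : ℝ := (Nat.card (Exc (F.A l)) : ℝ) with hs_
  set g : ℝ := (Nat.card G : ℝ) with hg_
  set a : ℝ := (Nat.card (F.A l) : ℝ) with ha_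
  set e : ℝ := (excIndex (F.A l) : ℝ) with he_
  set T : ℝ := ∑ i ∈ Finset.univ.erase l, caWeight F i * (m l i : ℝ) ^ 2 with hT
  have h' : s * g = r + (g / (a * e) * ((a - 1) * (a - e + X)) + g * s * T) := by
    apply Complex.ofReal_injective
    simp only [hT, caWeight, hs_, hg_, ha_, he_]
    push_cast at h ⊢
    rw [Finset.mul_sum]
    exact h.trans (congrArg _ (congrArg _ (Finset.sum_congr rfl fun i _ => by ring)))
  have hsa : s * e = a - 1 := by
    rw [hs_, he_, ha_, ← Nat.cast_mul, card_exc (F.A l) (F.self l) (F.comm l),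
      Nat.cast_sub Nat.card_pos, Nat.cast_one]
  have ha0 : 0 < a := Nat.cast_pos.2 Nat.card_pos
  have he0 : 0 < e := Nat.cast_pos.2 (Nat.pos_of_ne_zero Subgroup.index_ne_zero_of_finite)
  have hg0 : 0 < g := Nat.cast_pos.2 Nat.card_pos
  have hs0 : 0 < s := Nat.cast_pos.2 (lt_of_lt_of_le two_pos (hs l))
  rw [← hsa] at h'
  have h2 : g / (a * e) * (s * e * (a - e + X)) = g * s * ((a - e + X) / a) := by
    field_simp
  rw [h2] at h'
  have hX0' : (0 : ℝ) ≤ X := Int.cast_nonneg hX0
  have h3 : (a - e + X) / a + T ≤ 1 := by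
    have hgs : 0 < g * s := mul_pos hg0 hs0
    nlinarith
  have h4 : (a - e) / a ≤ (a - e + X) / a := div_le_div_of_nonneg_right (by linarith) ha0.le
  have h5 : (a - e) / a = 1 - e / a := by field_simp
  linarith

omit hs in
theorem caWeight_le (i : ι) : 0 ≤ caWeight F i ∧ caWeight F i ≤ 1 / (excIndex (F.A i) : ℝ) := by
  have ha : (1 : ℝ) ≤ (Nat.card (F.A i) : ℝ) := Nat.one_le_cast.2 Nat.card_pos
  have he : (0 : ℝ) < (excIndex (F.A i) : ℝ) :=
    Nat.cast_pos.2 (Nat.pos_of_ne_zero Subgroup.index_ne_zero_of_finite)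
  refine ⟨div_nonneg (by linarith) (by positivity), ?_⟩
  rw [caWeight, div_le_div_iff₀ (by positivity) he]
  nlinarith

include D in
theorem caFamily_odd_false [Nonempty ι] (hodd : Odd (Nat.card G))
    (hsq : ∀ i, Nat.card (F.A i) ^ 2 ≤ Nat.card G) (he : ∀ i, 2 ≤ excIndex (F.A i)) : False := by
  classical
  have hex : ∀ l i, ∃ m : ℤ, l ≠ i → ∀ (χ : Exc (F.A l)) (k : G), k ∈ F.A i → k ≠ 1 →
      ((D l).θ χ : G → ℂ) k = m := fun l i => by
    by_cases h : l = i
    · exact ⟨0, fun h' => absurd h h'⟩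
    · exact (exists_int_on F D hs l i h).imp fun _ hm _ => hm
  choose m hm using hex
  obtain ⟨o, -, ho⟩ := Finset.exists_min_image Finset.univ (fun i => excIndex (F.A i)) Finset.univ_nonempty
  set s : ι → ℝ := fun i => (Nat.card (Exc (F.A i)) : ℝ) with hs_
  set a : ℝ := (Nat.card (F.A o) : ℝ) with ha_
  set e : ℝ := (excIndex (F.A o) : ℝ) with he_
  set g : ℝ := (Nat.card G : ℝ) with hg_
  have he3 : (3 : ℝ) ≤ e := by
    obtain ⟨t, ht⟩ := (even_card_exc F hodd o).2
    have := he o
    rw [he_]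
    exact_mod_cast (show 3 ≤ excIndex (F.A o) by omega)
  have hsa : s o * e = a - 1 := by
    rw [ha_, he_]
    show (Nat.card (Exc (F.A o)) : ℝ) * _ = _
    rw [← Nat.cast_mul, card_exc (F.A o) (F.self o) (F.comm o), Nat.cast_sub Nat.card_pos, Nat.cast_one]
  have hga : a ^ 2 ≤ g := by rw [ha_, hg_]; exact_mod_cast hsq o
  set L := (Finset.univ.erase o).filter fun l => m l o ≠ 0 with hL
  set B := (Finset.univ.erase o).filter fun i => m o i ≠ 0 with hB
  have hsq1 : ∀ {z : ℤ}, z ≠ 0 → (1 : ℤ) ≤ z ^ 2 := fun {z} hz =>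
    Int.add_one_le_iff.2 (lt_of_le_of_ne (sq_nonneg z) (Ne.symm (pow_ne_zero 2 hz)))
  -- the column bound
  have hLs : ∑ l ∈ L, s l ≤ e - 1 := by
    have h := sum_sq_values_le F D hs hodd m hm o
    have h' : ∑ l ∈ L, (Nat.card (Exc (F.A l)) : ℤ) ≤ (excIndex (F.A o) : ℤ) - 1 := by
      refine le_trans ?_ h
      refine le_trans (Finset.sum_le_sum fun l hl => ?_) (Finset.sum_le_sum_of_subset_of_nonneg
        (Finset.filter_subset _ _) fun l _ _ => mul_nonneg (Int.natCast_nonneg _) (sq_nonneg _))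
      exact le_mul_of_one_le_right (Int.natCast_nonneg _) (hsq1 (Finset.mem_filter.1 hl).2)
    have h'' : ((∑ l ∈ L, (Nat.card (Exc (F.A l)) : ℤ) : ℤ) : ℝ) ≤
        (((excIndex (F.A o) : ℤ) - 1 : ℤ) : ℝ) := Int.cast_le.2 h'
    simpa [hs_, he_] using h''
  -- the norm bound
  have hBw : ∑ i ∈ B, caWeight F i ≤ e / a := by
    refine le_trans ?_ (sum_weight_sq_le F D hs m hm o)
    refine le_trans (Finset.sum_le_sum fun i hi => ?_) (Finset.sum_le_sum_of_subset_of_nonneg
      (Finset.filter_subset _ _) fun i _ _ => mul_nonneg (caWeight_le F i).1 (sq_nonneg _))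
    refine le_mul_of_one_le_right (caWeight_le F i).1 ?_
    exact_mod_cast hsq1 (Finset.mem_filter.1 hi).2
  have hsplit : 1 - 1 / g - caWeight F o ≤ ∑ l ∈ L, caWeight F l + ∑ i ∈ B, caWeight F i := by
    rw [← sum_caWeight F, ← Finset.add_sum_erase _ _ (Finset.mem_univ o), add_sub_cancel_left,
      ← Finset.sum_union_inter]
    refine le_trans (Finset.sum_le_sum_of_subset_of_nonneg ?_ fun i _ _ => (caWeight_le F i).1)
      (le_add_of_nonneg_right (Finset.sum_nonneg fun i _ => (caWeight_le F i).1))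
    intro i hi
    rcases values_ne_zero F D hs hodd m hm (Finset.mem_erase.1 hi).1 with h | h
    · exact Finset.mem_union_left _ (Finset.mem_filter.2 ⟨hi, h⟩)
    · exact Finset.mem_union_right _ (Finset.mem_filter.2 ⟨hi, h⟩)
  have hmin : ∀ l, e ≤ (excIndex (F.A l) : ℝ) := fun l => Nat.cast_le.2 (ho l (Finset.mem_univ l))
  have hwo : caWeight F o = s o / a := by
    rw [caWeight, ← ha_, ← he_, ← hsa]
    field_simp
  have hw : ∀ l, caWeight F l ≤ 1 / e := fun l =>
    (caWeight_le F l).2.trans (one_div_le_one_div_of_le (by linarith) (hmin l))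
  obtain ⟨t, ht⟩ := (even_card_exc F hodd o).1
  rcases (show t = 1 ∨ 2 ≤ t by have := hs o; omega) with rfl | ht2
  · -- two exceptional characters
    have hso : s o = 2 := by simp only [hs_, ht]; norm_num
    rw [hso] at hsa hwo
    have hwl : ∀ l ∈ L, caWeight F l ≤ s l / (2 * (e + 2)) := by
      intro l hl
      obtain ⟨t', ht'⟩ := (even_card_exc F hodd l).1
      rcases (show t' = 1 ∨ 2 ≤ t' by have := hs l; omega) with rfl | ht2'
      · have hne : excIndex (F.A o) ≠ excIndex (F.A l) := fun hE => by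
          have h1 := card_exc (F.A o) (F.self o) (F.comm o)
          have h2 := card_exc (F.A l) (F.self l) (F.comm l)
          rw [ht] at h1
          rw [ht', ← hE] at h2
          have hc : Nat.card (F.A l) = Nat.card (F.A o) := by
            have := Nat.card_pos (α := F.A o)
            have := Nat.card_pos (α := F.A l)
            omega
          have := he o
          haveI := Fact.mk (Nat.minFac_prime (n := Nat.card (F.A o)) (by omega))
          exact (Finset.mem_erase.1 (Finset.mem_filter.1 hl).1).1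
            (F.eq_of_prime (p := (Nat.card (F.A o)).minFac) (hc ▸ Nat.minFac_dvd _) (Nat.minFac_dvd _))
        have hle : excIndex (F.A o) + 2 ≤ excIndex (F.A l) := by
          obtain ⟨u, hu⟩ := (even_card_exc F hodd o).2
          obtain ⟨v, hv⟩ := (even_card_exc F hodd l).2
          have := ho l (Finset.mem_univ l)
          omega
        have hsl : s l = 2 := by simp only [hs_, ht']; norm_num
        refine (caWeight_le F l).2.trans ?_
        rw [hsl, div_mul_cancel_left₀ two_ne_zero, ← one_div]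
        exact one_div_le_one_div_of_le (by linarith) (by rw [he_]; exact_mod_cast hle)
      · have hsl : (4 : ℝ) ≤ s l := by
          simp only [hs_, ht']
          exact_mod_cast (show 4 ≤ t' + t' by omega)
        refine (hw l).trans ?_
        rw [div_le_div_iff₀ (by linarith) (by linarith)]
        nlinarith
    have hLw : ∑ l ∈ L, caWeight F l ≤ (e - 1) / (2 * (e + 2)) := by
      refine (Finset.sum_le_sum hwl).trans ?_
      rw [← Finset.sum_div]
      exact div_le_div_of_nonneg_right hLs (by linarith)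
    have hae : a = 2 * e + 1 := by linarith
    have key : 1 - 1 / g ≤ (e - 1) / (2 * (e + 2)) + e / a + 2 / a := by linarith
    rw [hae] at key hga
    have hg1 : 1 / g ≤ 1 / (2 * e + 1) ^ 2 := one_div_le_one_div_of_le (by positivity) hga
    have hlt : (e - 1) / (2 * (e + 2)) + e / (2 * e + 1) + 2 / (2 * e + 1) + 1 / (2 * e + 1) ^ 2 < 1 := by
      rw [div_add_div _ _ (by positivity) (by positivity), div_add_div _ _ (by positivity) (by positivity),
        div_add_div _ _ (by positivity) (by positivity), div_lt_one (by positivity)]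
      nlinarith [mul_nonneg (mul_nonneg (sq_nonneg (2 * e + 1)) (sq_nonneg (2 * e + 1))) (sub_nonneg.2 he3)]
    linarith
  · -- at least four exceptional characters
    have hso : (4 : ℝ) ≤ s o := by
      simp only [hs_, ht]
      exact_mod_cast (show 4 ≤ t + t by omega)
    have hwl : ∀ l ∈ L, caWeight F l ≤ s l / (2 * e) := fun l _ => by
      refine (hw l).trans ?_
      have h2 : (2 : ℝ) ≤ s l := Nat.ofNat_le_cast.2 (hs l)
      rw [div_le_div_iff₀ (by linarith) (by linarith)]
      nlinarith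
    have hLw : ∑ l ∈ L, caWeight F l ≤ (e - 1) / (2 * e) := by
      refine (Finset.sum_le_sum hwl).trans ?_
      rw [← Finset.sum_div]
      exact div_le_div_of_nonneg_right hLs (by linarith)
    have hae : 4 * e + 1 ≤ a := by nlinarith
    have h1 : e / a ≤ 1 / 4 := by rw [div_le_div_iff₀ (by linarith) (by norm_num)]; linarith
    have h2 : (e - 1) / (2 * e) + 1 / e = 1 / 2 + 1 / (2 * e) := by field_simp; ring
    have h3 : 1 / (2 * e) ≤ 1 / 6 := one_div_le_one_div_of_le (by norm_num) (by linarith)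
    have h4 : 1 / g ≤ 1 / 169 := one_div_le_one_div_of_le (by norm_num) (by nlinarith)
    have h5 := hw o
    linarith

omit hs in
theorem simple_ca_odd_false {G : Type u} [Group G] [Fintype G] [IsSimpleGroup G] (hodd : Odd (Nat.card G))
    (hnc : ¬ ∀ a b : G, a * b = b * a)
    (hCA : ∀ x : G, x ≠ 1 → ∀ a ∈ Subgroup.centralizer ({x} : Set G),
      ∀ b ∈ Subgroup.centralizer ({x} : Set G), a * b = b * a) : False := by
  classical
  obtain ⟨ι, hι, ⟨F⟩⟩ := exists_caFamily hCA
  obtain ⟨x, hx⟩ := exists_ne (1 : G)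
  haveI : Nonempty ι := ⟨(F.cover x hx).choose⟩
  have hne : ∀ i, F.A i ≠ ⊥ := fun i h => by
    obtain ⟨y, hy, hy1⟩ := F.nontriv i
    rw [h, Subgroup.mem_bot] at hy
    exact hy1 hy
  have htop : ∀ i, F.A i ≠ ⊤ := fun i h => hnc fun a b =>
    F.comm i a (h ▸ Subgroup.mem_top a) b (h ▸ Subgroup.mem_top b)
  have he : ∀ i, 2 ≤ excIndex (F.A i) := by
    intro i
    by_contra hlt
    have h1 : excIndex (F.A i) = 1 := by
      have : excIndex (F.A i) ≠ 0 := Subgroup.index_ne_zero_of_finite
      omega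
    have hN : Subgroup.normalizer (F.A i : Set G) ≤ F.A i :=
      Subgroup.subgroupOf_eq_top.1 (Subgroup.index_eq_one.1 h1)
    obtain ⟨y, hy, hy1⟩ := F.nontriv i
    have hcard : Nat.card (F.A i) ≠ 1 := fun h => hne i (Subgroup.card_eq_one.1 h)
    set p := (Nat.card (F.A i)).minFac with hp_
    haveI hp : Fact p.Prime := ⟨Nat.minFac_prime hcard⟩
    obtain ⟨P, hP⟩ := F.exists_sylow_le (i := i) (p := p) (Nat.minFac_dvd _)
    have hpG : p ∣ Nat.card G := (Nat.minFac_dvd _).trans (Subgroup.card_subgroup_dvd_card _)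
    have hPne : (P : Subgroup G) ≠ ⊥ := fun h => by
      have hd := P.dvd_card_of_dvd_card hpG
      rw [h, Subgroup.card_bot, Nat.dvd_one] at hd
      exact hp.out.ne_one hd
    have hPC : Subgroup.normalizer ((P : Subgroup G) : Set G) ≤ Subgroup.centralizer ((P : Subgroup G) : Set G) := by
      intro z hz
      obtain ⟨⟨w, hw⟩, hw1⟩ := Subgroup.ne_bot_iff_exists_ne_one.1 hPne
      have hzA : z ∈ F.A i := hN (by
        by_contra hzN
        exact hw1 (Subtype.ext (ca_ti (F.A i) (F.self i) z hzN w (hP hw)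
          (hP ((Subgroup.mem_normalizer_iff.1 hz w).1 hw)))))
      exact Subgroup.mem_centralizer_iff.2 fun v hv => F.comm i v (hP hv) z hzA
    have hK := MonoidHom.ker_transferSylow_isComplement' P hPC
    rcases (MonoidHom.transferSylow P hPC).normal_ker.eq_bot_or_eq_top with hk | hk
    · rw [hk, Subgroup.isComplement'_bot_left] at hK
      exact htop i (top_le_iff.1 (hK ▸ hP))
    · rw [hk, Subgroup.isComplement'_top_left] at hK
      exact hPne hK
  have hs : ∀ i, 2 ≤ Nat.card (Exc (F.A i)) := by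
    intro i
    obtain ⟨t, ht⟩ := (even_card_exc F hodd i).1
    have h := card_exc (F.A i) (F.self i) (F.comm i)
    rcases Nat.eq_zero_or_pos t with rfl | htp
    · rw [ht, add_zero, zero_mul] at h
      have h1 : Nat.card (F.A i) ≠ 1 := fun h' => hne i (Subgroup.card_eq_one.1 h')
      have := Nat.card_pos (α := F.A i)
      omega
    · omega
  have hsq : ∀ i, Nat.card (F.A i) ^ 2 ≤ Nat.card G := by
    intro i
    have hN : Subgroup.normalizer (F.A i : Set G) ≠ ⊤ := fun h => by
      haveI := Subgroup.normalizer_eq_top_iff.1 h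
      rcases ‹(F.A i).Normal›.eq_bot_or_eq_top with h' | h'
      · exact hne i h'
      · exact htop i h'
    obtain ⟨y, -, hy⟩ := SetLike.exists_of_lt (lt_top_iff_ne_top.2 hN)
    rw [sq, ← Nat.card_prod]
    refine Nat.card_le_card_of_injective (fun q : F.A i × F.A i => (q.1 : G) * (y * q.2 * y⁻¹))
      fun q q' h => ?_
    replace h : (q.1 : G) * (y * q.2 * y⁻¹) = q'.1 * (y * q'.2 * y⁻¹) := h
    have hmem : y * ((q.2 : G) * (q'.2 : G)⁻¹) * y⁻¹ ∈ F.A i := by
      have e : y * ((q.2 : G) * (q'.2 : G)⁻¹) * y⁻¹ = (q.1 : G)⁻¹ * q'.1 := by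
        rw [eq_inv_mul_iff_mul_eq]
        calc (q.1 : G) * (y * ((q.2 : G) * (q'.2 : G)⁻¹) * y⁻¹)
            = (q.1 : G) * (y * q.2 * y⁻¹) * (y * (q'.2 : G)⁻¹ * y⁻¹) := by group
          _ = q'.1 := by rw [h]; group
      rw [e]
      exact (F.A i).mul_mem ((F.A i).inv_mem q.1.2) q'.1.2
    have h2 : q.2 = q'.2 := Subtype.ext (mul_inv_eq_one.1
      (ca_ti (F.A i) (F.self i) y hy _ ((F.A i).mul_mem q.2.2 ((F.A i).inv_mem q'.2.2)) hmem))
    rw [h2] at h
    exact Prod.ext (Subtype.ext (mul_right_cancel h)) h2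
  exact caFamily_odd_false F (fun i => (nonempty_excData (F.A i) (F.self i) (F.comm i)).some) hs
    hodd hsq he

omit hs in
theorem isSolvable_of_ca_odd {G : Type u} [Group G] [Finite G] (hodd : Odd (Nat.card G))
    (hCA : ∀ x : G, x ≠ 1 → ∀ a ∈ Subgroup.centralizer ({x} : Set G),
      ∀ b ∈ Subgroup.centralizer ({x} : Set G), a * b = b * a) : Group.IsSolvable G := by
  classical
  induction hn : Nat.card G using Nat.strong_induction_on generalizing G with
  | _ n ih =>
  subst hn
  by_cases htriv : ∀ a b : G, a * b = b * a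
  · exact Group.isSolvable_of_comm htriv
  haveI : Nontrivial G := not_subsingleton_iff_nontrivial.1 fun h => htriv fun a b => Subsingleton.elim _ _
  by_cases hsimp : IsSimpleGroup G
  · haveI := Fintype.ofFinite G
    exact (simple_ca_odd_false hodd htriv hCA).elim
  obtain ⟨N, hNn, hNb, hNt⟩ : ∃ N : Subgroup G, N.Normal ∧ N ≠ ⊥ ∧ N ≠ ⊤ := by
    by_contra! h
    exact hsimp ⟨fun N hN => (eq_or_ne N ⊥).imp id (h N hN)⟩
  have hsolN : Group.IsSolvable N := by
    refine ih (Nat.card N) ?_ (hodd.of_dvd_nat (Subgroup.card_subgroup_dvd_card _)) (fun x hx a ha b hb =>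
      Subtype.ext (hCA x (fun e => hx (Subtype.ext e)) a ?_ b ?_)) rfl
    · exact lt_of_le_of_ne (Nat.le_of_dvd Nat.card_pos (Subgroup.card_subgroup_dvd_card _))
        fun h => hNt (Subgroup.eq_top_of_card_eq N h)
    · rw [Subgroup.mem_centralizer_singleton_iff] at ha ⊢
      exact congrArg Subtype.val ha
    · rw [Subgroup.mem_centralizer_singleton_iff] at hb ⊢
      exact congrArg Subtype.val hb
  obtain ⟨A, -, hAn, -, -, hAne, hAab, -⟩ := exists_normal_elementary_le N hNb hsolN
  obtain ⟨⟨a₀, ha₀⟩, ha₁⟩ := Subgroup.ne_bot_iff_exists_ne_one.1 hAne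
  have ha1 : a₀ ≠ 1 := fun e => ha₁ (Subtype.ext e)
  set M := Subgroup.centralizer ({a₀} : Set G) with hM
  have hAM : A ≤ M := fun a ha => Subgroup.mem_centralizer_singleton_iff.2 (hAab a ha a₀ ha₀)
  have hself : ∀ x ∈ M, x ≠ 1 → Subgroup.centralizer ({x} : Set G) = M := by
    intro x hx hx1
    refine le_antisymm (fun z hz => Subgroup.mem_centralizer_singleton_iff.2 ?_)
      fun z hz => Subgroup.mem_centralizer_singleton_iff.2 (hCA a₀ ha1 z hz x hx)
    exact hCA x hx1 z hz a₀ (Subgroup.mem_centralizer_singleton_iff.2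
      (Subgroup.mem_centralizer_singleton_iff.1 hx).symm)
  have hMab : ∀ a ∈ M, ∀ b ∈ M, a * b = b * a := hCA a₀ ha1
  haveI hMn : M.Normal := ⟨fun z hz g => by
    have hg : g * a₀ * g⁻¹ ∈ M := hAM (hAn.conj_mem a₀ ha₀ g)
    rw [← hself _ hg (fun e => ha1 (conj_eq_one_iff.1 e)), Subgroup.mem_centralizer_singleton_iff]
    calc g * z * g⁻¹ * (g * a₀ * g⁻¹) = g * (z * a₀) * g⁻¹ := by group
      _ = g * (a₀ * z) * g⁻¹ := by rw [Subgroup.mem_centralizer_singleton_iff.1 hz]
      _ = g * a₀ * g⁻¹ * (g * z * g⁻¹) := by group⟩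
  have hcop : (Nat.card M).Coprime M.index := by
    haveI := Fintype.ofFinite G
    have h := index_coprime_of_centralizer_le M fun k hk hk1 => (hself k hk hk1).le
    rwa [Subgroup.normalizer_eq_top, ← Subgroup.relIndex, Subgroup.relIndex_top_right] at h
  obtain ⟨E, hE⟩ := Subgroup.exists_right_complement'_of_coprime hcop
  have hfpf : CfsgLib.Coprime.IsFpfOn E M := by
    intro z hz hz1
    refine (Subgroup.eq_bot_iff_forall _).2 fun v hv => ?_
    by_contra hv1
    have : z ∈ M := by
      rw [← hself v hv.1 hv1, Subgroup.mem_centralizer_singleton_iff]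
      exact (Subgroup.mem_centralizer_singleton_iff.1 hv.2).symm
    exact hz1 ((Subgroup.eq_bot_iff_forall _).1 hE.disjoint.eq_bot z ⟨this, hz⟩)
  haveI : IsZGroup E := by
    refine ⟨fun p hp P => ?_⟩
    haveI := Fact.mk hp
    rcases CfsgLib.Coprime.IsFpfOn.sylow_cyclic_or_quaternion
      (by rw [Subgroup.normalizer_eq_top]; exact le_top) hfpf
      (fun h => ha1 (by
        have := hAM ha₀
        rw [h, Subgroup.mem_bot] at this
        exact this)) P with h | ⟨rfl, -⟩
    · exact h
    · have hP : Nat.card (P : Subgroup E) = 1 := by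
        rw [P.card_eq_multiplicity, Nat.factorization_eq_zero_of_not_dvd, pow_zero]
        have := hodd.of_dvd_nat (Subgroup.card_subgroup_dvd_card E)
        exact fun h2 => Nat.not_even_iff_odd.2 this (even_iff_two_dvd.2 h2)
      haveI := (Nat.card_eq_one_iff_unique.1 hP).1
      exact isCyclic_of_subsingleton
  rw [Group.isSolvable_iff_subgroup_quotient M]
  refine ⟨Group.isSolvable_of_comm fun a b => Subtype.ext (hMab a a.2 b b.2), ?_⟩
  exact Group.isSolvable_of_surjective (f := ((hE.symm.QuotientMulEquiv).symm : E →* G ⧸ M))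
    (hE.symm.QuotientMulEquiv).symm.surjective

end CfsgLib.Char
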