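import Mathlib
import Cfsg.Agent.Lib.Char.Basic
import Cfsg.Agent.Lib.Coprime.Action
import Cfsg.Agent.Lib.Coprime.Solvable
import Cfsg.Agent.Lib.Coprime.PGroupFrattini
import Cfsg.Agent.Lib.Block.PPrimeKernel
import Cfsg.Agent.Lib.Fusion.Tate
import Cfsg.Agent.Lib.PGroup.FixedPointFree
import Cfsg.Agent.S4558

/-!
Camina pairs: one of the kernel and the quotient has prime power order, or the pair is Frobenius.
-/

set_option autoImplicit false
set_option linter.unusedSectionVars false

namespace CfsgLib.Char.CaminaPairs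

open Subgroup

universe u

variable {G : Type u} [Group G] [Finite G]

/-- The hypothesis. -/
def Cam (N : Subgroup G) : Prop := ∀ g : G, g ∉ N → ∀ n ∈ N, ∃ x : G, x * g * x⁻¹ = g * n

variable {N : Subgroup G} [N.Normal]

theorem orderOf_mul (hc : Cam N) {g n : G} (hg : g ∉ N) (hn : n ∈ N) :
    orderOf (g * n) = orderOf g := by
  obtain ⟨x, hx⟩ := hc g hg n hn
  rw [← hx]
  exact orderOf_injective (MulAut.conj x).toMonoidHom (MulEquiv.injective _) g

/-- What commutes with an outside `p`-element is a `p`-element. -/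
theorem pow_eq_one_of_commute (hc : Cam N) {p j : ℕ} {g n : G} (hg : g ∉ N) (hgp : g ^ p ^ j = 1)
    (hn : n ∈ N) (h : Commute g n) : n ^ p ^ j = 1 := by
  have h1 : (g * n) ^ p ^ j = 1 := by
    rw [← orderOf_dvd_iff_pow_eq_one, orderOf_mul hc hg hn]
    exact orderOf_dvd_of_pow_eq_one hgp
  rwa [h.mul_pow, hgp, one_mul] at h1

/-- A lift of prime power order with the same generated subgroup. -/
theorem exists_pElement {p : ℕ} (hp : p.Prime) {y : G ⧸ N} {j : ℕ} (hy : y ^ p ^ j = 1) :
    ∃ (g : G) (i : ℕ), g ^ p ^ i = 1 ∧ zpowers (QuotientGroup.mk g : G ⧸ N) = zpowers y := by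
  obtain ⟨g, rfl⟩ := QuotientGroup.mk_surjective y
  set n := orderOf g
  have hn : n ≠ 0 := (orderOf_pos g).ne'
  refine ⟨g ^ (n / p ^ n.factorization p), n.factorization p, ?_, ?_⟩
  · rw [← pow_mul, Nat.div_mul_cancel (Nat.ordProj_dvd n p), pow_orderOf_eq_one]
  · rw [QuotientGroup.mk_pow]
    have hcop : (orderOf (QuotientGroup.mk g : G ⧸ N)).Coprime (n / p ^ n.factorization p) :=
      ((Nat.coprime_ordCompl hp hn).pow_left j).coprime_dvd_left (orderOf_dvd_of_pow_eq_one hy)
    refine le_antisymm (zpowers_le.2 (Subgroup.pow_mem _ (mem_zpowers _) _)) (zpowers_le.2 ?_)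
    exact mem_zpowers_pow_iff.2 hcop.symm

theorem pElement_ne_of_dvd (hc : Cam N) {p : ℕ} [hp : Fact p.Prime] (hd : p ∣ N.index) :
    ∃ (g : G) (i : ℕ), g ∉ N ∧ g ^ p ^ i = 1 := by
  obtain ⟨y, hy⟩ := exists_prime_orderOf_dvd_card' (G := G ⧸ N) p hd
  obtain ⟨g, i, hgi, hg⟩ := exists_pElement hp.out (y := y) (j := 1)
    (by rw [pow_one, ← hy, pow_orderOf_eq_one])
  refine ⟨g, i, fun hgN => ?_, hgi⟩
  rw [(QuotientGroup.eq_one_iff g).2 hgN, zpowers_one_eq_bot] at hg
  rw [eq_comm, zpowers_eq_bot] at hg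
  rw [hg, orderOf_one] at hy
  exact hp.out.one_lt.ne hy

theorem vanish (hc : Cam N) (χ : Cfsg.IrrCharacter G) {g : G} (hg : g ∉ N) {n₀ : G} (hn₀ : n₀ ∈ N)
    (hne : (χ : G → ℂ) n₀ ≠ (χ : G → ℂ) 1) : (χ : G → ℂ) g = 0 := by
  classical
  obtain ⟨d, ρ, hirr, hρ⟩ := χ.2
  rw [← hρ] at hne ⊢
  haveI := Fintype.ofFinite N
  set T : (Fin d → ℂ) →ₗ[ℂ] (Fin d → ℂ) := ∑ n : N, ρ (n : G) with hT
  have hTfix : ∀ (m : N) v, ρ (m : G) (T v) = T v := fun m v => by
    simp only [hT, LinearMap.sum_apply, map_sum]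
    exact Fintype.sum_bijective _ (Group.mulLeft_bijective m) _ _ fun n => by
      rw [Subgroup.coe_mul, map_mul]; rfl
  let W : Subrepresentation ρ :=
    { toSubmodule :=
        { carrier := {v | ∀ m : N, ρ (m : G) v = v}
          add_mem' := fun {a b} ha hb m => by rw [map_add, ha m, hb m]
          zero_mem' := fun m => map_zero _
          smul_mem' := fun c a ha m => by rw [map_smul, ha m] }
      apply_mem_toSubmodule := fun x v hv m => by
        have h : x⁻¹ * (m : G) * x ∈ N := by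
          simpa using (inferInstance : N.Normal).conj_mem _ m.2 x⁻¹
        show ρ (m : G) (ρ x v) = ρ x v
        rw [← Module.End.mul_apply, ← map_mul,
          show (m : G) * x = x * (x⁻¹ * (m : G) * x) by group, map_mul, Module.End.mul_apply,
          hv ⟨_, h⟩] }
  have hW : W.toSubmodule = ⊥ := by
    rcases hirr.eq_bot_or_eq_top W with e | e
    · exact congrArg Subrepresentation.toSubmodule e
    · exfalso
      refine hne ?_
      have e' : W.toSubmodule = ⊤ := congrArg Subrepresentation.toSubmodule e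
      have : ρ n₀ = ρ 1 := LinearMap.ext fun v => by
        have hv : v ∈ W.toSubmodule := by rw [e']; trivial
        rw [map_one]
        exact hv ⟨n₀, hn₀⟩
      show LinearMap.trace _ _ (ρ n₀) = LinearMap.trace _ _ (ρ 1)
      rw [this]
  have hT0 : T = 0 := LinearMap.ext fun v => by
    have : T v ∈ W.toSubmodule := fun m => hTfix m v
    rwa [hW, Submodule.mem_bot] at this
  have hsum : ∑ n : N, ρ.character (g * (n : G)) = 0 := by
    have h : ∀ n : N, ρ.character (g * (n : G)) = LinearMap.trace ℂ (Fin d → ℂ) (ρ g * ρ (n : G)) :=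
      fun n => by rw [← map_mul]; rfl
    rw [Finset.sum_congr rfl fun n _ => h n, ← map_sum, ← Finset.mul_sum, ← hT, hT0, mul_zero,
      map_zero]
  have hconst : ∀ n : N, ρ.character (g * (n : G)) = ρ.character g := fun n => by
    obtain ⟨x, hx⟩ := hc g hg n n.2
    rw [← hx, Representation.char_conj]
  rw [Finset.sum_congr rfl fun n _ => hconst n, Finset.sum_const, nsmul_eq_mul] at hsum
  exact (mul_eq_zero.1 hsum).resolve_left (by simp)

theorem index_commutator_dvd {A B : Type u} [Group A] [Finite A] [Group B] [Finite B] (f : A →* B)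
    (hf : Function.Surjective f) : (commutator B).index ∣ (commutator A).index := by
  have h : (commutator A).map f = commutator B := by
    rw [commutator_def, commutator_def, map_commutator, ← MonoidHom.range_eq_map,
      MonoidHom.range_eq_top.2 hf]
  rw [← h]
  exact index_map_dvd _ hf

theorem dvd_abelianization_of_pGroup {p : ℕ} [hp : Fact p.Prime] {A B : Type u} [Group A] [Finite A]
    [Group B] [Finite B] [Nontrivial B] (hB : IsPGroup p B) (f : A →* B) (hf : Function.Surjective f) :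
    p ∣ (commutator A).index := by
  refine dvd_trans ?_ (index_commutator_dvd f hf)
  obtain ⟨n, hn⟩ := hB.index (commutator B)
  rw [hn]
  refine dvd_pow_self p fun h0 => ?_
  rw [h0, pow_zero, index_eq_one] at hn
  haveI : Group.IsNilpotent B := hB.isNilpotent
  haveI : Group.IsSolvable B := inferInstance
  exact (IsSolvable.commutator_lt_top_of_nontrivial B).ne hn

/-- A prime dividing both orders divides the abelianisation of the kernel. -/
theorem dvd_abelianization (hc : Cam N) {p : ℕ} [hp : Fact p.Prime] (hd : p ∣ N.index)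
    (hN : p ∣ Nat.card N) : p ∣ (commutator N).index := by
  classical
  obtain ⟨g, i, hg, hgi⟩ := pElement_ne_of_dvd hc hd
  have hker : ∀ χ : Cfsg.IrrCharacter G, ¬ p ∣ Cfsg.charDegree (χ : G → ℂ) →
      ∀ n ∈ N, (χ : G → ℂ) n = (χ : G → ℂ) 1 := by
    intro χ hχ n hn
    by_contra hne
    obtain ⟨j, -, hj⟩ := (Nat.dvd_prime_pow hp.out).1 (orderOf_dvd_of_pow_eq_one hgi)
    exact hχ (Cfsg.Agent.S4558.result p (χ : G → ℂ) (CfsgLib.Char.isCharacter_irr χ) g ⟨j, hj⟩
      (vanish hc χ hg hn hne))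
  obtain ⟨P⟩ := (inferInstance : Nonempty (Sylow p G))
  have hle : N ⊓ (P : Subgroup G) ≤ (frattini (P : Subgroup G)).map (P : Subgroup G).subtype := by
    intro x hx
    refine Subgroup.map_mono (CfsgLib.Coprime.commutator_le_frattini P.2) ?_
    by_contra hne
    have hne' : Abelianization.of (⟨x, hx.2⟩ : (P : Subgroup G)) ≠ 1 := fun h =>
      hne ⟨⟨x, hx.2⟩, (QuotientGroup.eq_one_iff _).1 h, rfl⟩
    obtain ⟨f, hf⟩ := CommGroup.exists_apply_ne_one_of_hasEnoughRootsOfUnity
      (Abelianization (P : Subgroup G)) ℂ hne'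
    exact hf (CfsgLib.Block.PPrimeKernel.lin_eq_one_of_forall (P : Subgroup G) P.not_dvd_index
      (f.comp Abelianization.of) (x := ⟨x, hx.2⟩) fun χ hχ => hker χ hχ x hx.1)
  obtain ⟨S, M, hMn, hMS⟩ := CfsgLib.Fusion.hasNormalPComplement_of_inf_le_frattini P N hle
  haveI := hMn
  have hcard : Nat.card (N ⧸ M) = Nat.card (S : Subgroup N) := by
    rw [← Subgroup.index_eq_card]
    exact hMS.symm.index_eq_card
  have hB : IsPGroup p (N ⧸ M) := by
    obtain ⟨a, ha⟩ := IsPGroup.iff_card.1 S.2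
    exact IsPGroup.of_card (hcard.trans ha)
  haveI : Nontrivial (N ⧸ M) := Finite.one_lt_card_iff_nontrivial.1 (by
    rw [hcard, S.card_eq_multiplicity]
    exact Nat.one_lt_pow (hp.out.factorization_pos_of_dvd Nat.card_pos.ne' hN).ne' hp.out.one_lt)
  exact dvd_abelianization_of_pGroup hB (QuotientGroup.mk' M) (QuotientGroup.mk'_surjective M)

theorem centralizer_card (hc : Cam N) {g : G} (hg : g ∉ N) :
    Nat.card (centralizer ({g} : Set G)) =
      Nat.card (centralizer ({(QuotientGroup.mk g : G ⧸ N)} : Set (G ⧸ N))) := by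
  classical
  set π := QuotientGroup.mk' N
  set K := (centralizer ({π g} : Set (G ⧸ N))).comap π with hK
  -- the preimage acts transitively on the coset
  have hmem : ∀ k : K, g⁻¹ * ((k : G) * g * (k : G)⁻¹) ∈ N := fun k => by
    have h := mem_centralizer_singleton_iff.1 k.2
    refine (QuotientGroup.eq_one_iff _).1 ?_
    show π (g⁻¹ * ((k : G) * g * (k : G)⁻¹)) = 1
    rw [map_mul, map_mul, map_mul, h, map_inv, map_inv]
    group
  have hcard : Nat.card K = Nat.card N * Nat.card (centralizer ({π g} : Set (G ⧸ N))) := by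
    have h1 := (centralizer ({π g} : Set (G ⧸ N))).index_comap_of_surjective
      (QuotientGroup.mk'_surjective N)
    have h2 := K.card_mul_index
    have h3 := (centralizer ({π g} : Set (G ⧸ N))).card_mul_index
    have h4 := N.card_mul_index
    rw [hK, h1, ← h4, N.index_eq_card, ← h3, ← mul_assoc] at h2
    exact Nat.eq_of_mul_eq_mul_right (Nat.pos_of_ne_zero FiniteIndex.index_ne_zero) h2
  have hle : centralizer ({g} : Set G) ≤ K := fun x hx => mem_centralizer_singleton_iff.2 (by
    rw [← map_mul, mem_centralizer_singleton_iff.1 hx, map_mul])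
  set C := (centralizer ({g} : Set G)).subgroupOf K
  have hCcard : Nat.card C = Nat.card (centralizer ({g} : Set G)) :=
    Nat.card_congr (subgroupOfEquivOfLe hle).toEquiv
  have hidx : C.index = Nat.card N := by
    let f : K ⧸ C → N := Quotient.lift (fun k : K => (⟨_, hmem k⟩ : N)) fun k k' h => by
      have h' : (k : G)⁻¹ * (k' : G) ∈ centralizer ({g} : Set G) :=
        mem_subgroupOf.1 (QuotientGroup.leftRel_apply.1 h)
      have e : ((k : G)⁻¹ * (k' : G)) * g = g * ((k : G)⁻¹ * (k' : G)) :=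
        mem_centralizer_singleton_iff.1 h'
      refine Subtype.ext ?_
      show g⁻¹ * ((k : G) * g * (k : G)⁻¹) = g⁻¹ * ((k' : G) * g * (k' : G)⁻¹)
      congr 1
      calc (k : G) * g * (k : G)⁻¹
          = (k : G) * (g * ((k : G)⁻¹ * (k' : G))) * (k' : G)⁻¹ := by group
        _ = (k : G) * (((k : G)⁻¹ * (k' : G)) * g) * (k' : G)⁻¹ := by rw [e]
        _ = _ := by group
    refine Nat.card_eq_of_bijective f ⟨?_, ?_⟩
    · intro a b
      refine Quotient.inductionOn₂ a b fun k k' h => Quotient.sound ?_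
      have e : (k : G) * g * (k : G)⁻¹ = (k' : G) * g * (k' : G)⁻¹ :=
        mul_left_cancel (congrArg Subtype.val h : g⁻¹ * _ = g⁻¹ * _)
      refine QuotientGroup.leftRel_apply.2 (mem_centralizer_singleton_iff.2 ?_)
      simp only [Subgroup.coe_subtype, Subgroup.coe_mul, Subgroup.coe_inv]
      calc (k : G)⁻¹ * (k' : G) * g = (k : G)⁻¹ * ((k' : G) * g * (k' : G)⁻¹) * (k' : G) := by group
        _ = (k : G)⁻¹ * ((k : G) * g * (k : G)⁻¹) * (k' : G) := by rw [e]
        _ = _ := by group
    · rintro ⟨n, hn⟩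
      obtain ⟨x, hx⟩ := hc g hg n hn
      have hxK : x ∈ K := mem_centralizer_singleton_iff.2 (by
        have h := congrArg π hx
        rw [map_mul, map_mul, map_inv, map_mul,
          show π n = 1 from (QuotientGroup.eq_one_iff n).2 hn, mul_one, mul_inv_eq_iff_eq_mul] at h
        exact h)
      exact ⟨Quotient.mk'' ⟨x, hxK⟩, Subtype.ext (by
        show g⁻¹ * (x * g * x⁻¹) = n
        rw [hx, inv_mul_cancel_left])⟩
  have h5 := C.card_mul_index
  rw [hCcard, hidx, hcard, mul_comm] at h5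
  exact Nat.eq_of_mul_eq_mul_left Nat.card_pos h5

theorem prod_elementary {α : Type*} [CommGroup α] (p : ℕ) [Fact p.Prime] (w : ZMod p → ZMod p → α) :
    (∏ i, ∏ j, w i (i * j)) * ∏ j, w 0 j = w 0 0 ^ p * ∏ i, ∏ j, w i j := by
  classical
  rw [Fintype.prod_eq_mul_prod_compl (0 : ZMod p) (fun i => ∏ j, w i (i * j)),
    Fintype.prod_eq_mul_prod_compl (0 : ZMod p) (fun i => ∏ j, w i j)]
  have h : ∏ i ∈ ({0}ᶜ : Finset (ZMod p)), ∏ j, w i (i * j) =
      ∏ i ∈ ({0}ᶜ : Finset (ZMod p)), ∏ j, w i j := by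
    refine Finset.prod_congr rfl fun i hi => ?_
    have hi0 : i ≠ 0 := by simpa using hi
    exact Fintype.prod_bijective _ (mulLeft_bijective₀ i hi0) _ _ fun j => rfl
  rw [h]
  simp only [zero_mul, Finset.prod_const, Finset.card_univ, ZMod.card]
  rw [mul_assoc, mul_comm (∏ i ∈ ({0}ᶜ : Finset (ZMod p)), ∏ j, w i j)]

/-- A shared prime and another prime in an abelian kernel are impossible. -/
theorem false_of_abelian (hc : Cam N) (hab : IsMulCommutative N) {p r : ℕ} [hp : Fact p.Prime]
    (hr : r.Prime) (hrp : r ≠ p) (hd : p ∣ N.index) (hNp : p ∣ Nat.card N)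
    (hNr : r ∣ Nat.card N) : False := by
  classical
  have hcomm : ∀ a ∈ N, ∀ b ∈ N, a * b = b * a := fun a ha b hb =>
    congrArg Subtype.val (hab.is_comm.comm (⟨a, ha⟩ : N) ⟨b, hb⟩)
  -- a largest cyclic `p`-subgroup of the quotient
  haveI := Fintype.ofFinite (G ⧸ N)
  obtain ⟨y₀, hy₀⟩ := exists_prime_orderOf_dvd_card' (G := G ⧸ N) p hd
  obtain ⟨y, hyS, hymax⟩ := (Finset.univ.filter fun y : G ⧸ N => ∃ j, y ^ p ^ j = 1).exists_max_image
    orderOf ⟨y₀, by
      simp only [Finset.mem_filter, Finset.mem_univ, true_and]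
      exact ⟨1, by rw [pow_one, ← hy₀, pow_orderOf_eq_one]⟩⟩
  simp only [Finset.mem_filter, Finset.mem_univ, true_and] at hyS hymax
  obtain ⟨j, hj⟩ := hyS
  obtain ⟨g, i, hgi, hgy⟩ := exists_pElement hp.out hj
  have hyord : p ≤ orderOf y := hy₀ ▸ hymax y₀ ⟨1, by rw [pow_one, ← hy₀, pow_orderOf_eq_one]⟩
  have hgord : orderOf (QuotientGroup.mk g : G ⧸ N) = orderOf y := by
    rw [← Nat.card_zpowers, hgy, Nat.card_zpowers]
  have hgN : g ∉ N := fun h => by
    rw [(QuotientGroup.eq_one_iff g).2 h, orderOf_one] at hgord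
    have := hp.out.two_le
    omega
  -- a fixed p-element of the kernel
  obtain ⟨c, hcN, hc1, hcg, k, hck⟩ : ∃ c ∈ N, c ≠ 1 ∧ Commute g c ∧ ∃ k, c ^ p ^ k = 1 := by
    obtain ⟨S⟩ := (inferInstance : Nonempty (Sylow p N))
    set S' := (S : Subgroup N).map N.subtype with hS'
    have hSn : (S : Subgroup N).Characteristic := by
      haveI := hab
      exact Sylow.characteristic_of_normal S
        ⟨fun a ha b => by rw [mul_comm' b a, mul_inv_cancel_right]; exact ha⟩
    haveI hS'n : S'.Normal := ConjAct.normal_of_characteristic_of_normal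
    have hS'p : IsPGroup p S' := S.2.map _
    have hgp : IsPGroup p (zpowers g) := by
      obtain ⟨m, -, hm⟩ := (Nat.dvd_prime_pow hp.out).1 (orderOf_dvd_of_pow_eq_one hgi)
      exact IsPGroup.of_card (n := m) (by rw [Nat.card_zpowers, hm])
    let act : MulAction (zpowers g) S' :=
      { smul := fun a s => ⟨(a : G) * s * (a : G)⁻¹, hS'n.conj_mem _ s.2 _⟩
        one_smul := fun s => Subtype.ext (by show (1 : G) * s * (1 : G)⁻¹ = _; group)
        mul_smul := fun a b s => Subtype.ext (by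
          show ((a : G) * b) * s * ((a : G) * b)⁻¹ = (a : G) * ((b : G) * s * (b : G)⁻¹) * (a : G)⁻¹
          group) }
    have hdvd : p ∣ Nat.card S' := by
      rw [hS', card_map_of_injective N.subtype_injective, S.card_eq_multiplicity]
      exact dvd_pow_self p (hp.out.factorization_pos_of_dvd Nat.card_pos.ne' hNp).ne'
    have h1fix : (1 : S') ∈ MulAction.fixedPoints (zpowers g) S' := fun a => Subtype.ext (by
      show (a : G) * 1 * (a : G)⁻¹ = 1; group)
    obtain ⟨c, hc, hc'⟩ := hgp.exists_fixed_point_of_prime_dvd_card_of_fixed_point S' hdvd h1fix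
    obtain ⟨k, hk⟩ := hS'p c
    exact ⟨c, map_subtype_le _ c.2, fun h => hc' (Subtype.ext h.symm),
      mul_inv_eq_iff_eq_mul.1 (congrArg Subtype.val (hc ⟨g, mem_zpowers g⟩)),
      k, by simpa using congrArg Subtype.val hk⟩
  -- the centraliser in the quotient is larger
  set π := QuotientGroup.mk' N
  set Cq := centralizer ({π g} : Set (G ⧸ N))
  have hU : ∃ m, p ^ m ∣ Nat.card Cq ∧ orderOf y < p ^ m := by
    set U := zpowers g ⊔ zpowers c
    have hUC : U ≤ centralizer ({g} : Set G) := sup_le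
      (zpowers_le.2 (mem_centralizer_singleton_iff.2 rfl))
      (zpowers_le.2 (mem_centralizer_singleton_iff.2 hcg.symm.eq))
    have hUp : IsPGroup p U := by
      have h1 : IsPGroup p (zpowers g) := by
        obtain ⟨m, -, hm⟩ := (Nat.dvd_prime_pow hp.out).1 (orderOf_dvd_of_pow_eq_one hgi)
        exact IsPGroup.of_card (n := m) (by rw [Nat.card_zpowers, hm])
      have h2 : IsPGroup p (zpowers c) := by
        obtain ⟨m, -, hm⟩ := (Nat.dvd_prime_pow hp.out).1 (orderOf_dvd_of_pow_eq_one hck)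
        exact IsPGroup.of_card (n := m) (by rw [Nat.card_zpowers, hm])
      refine h1.to_sup_of_normal_right' h2 (zpowers_le.2 ?_)
      refine mem_normalizer_iff.2 fun x => ?_
      constructor
      · intro hx
        obtain ⟨a, rfl⟩ := mem_zpowers_iff.1 hx
        rw [(hcg.zpow_right a).eq, mul_inv_cancel_right]
        exact hx
      · intro hx
        obtain ⟨a, ha⟩ := mem_zpowers_iff.1 hx
        have : x = c ^ a := by
          rw [show x = g⁻¹ * (g * x * g⁻¹) * g by group, ← ha, mul_assoc, ← (hcg.zpow_right a).eq,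
            inv_mul_cancel_left]
        rw [this]; exact zpow_mem (mem_zpowers c) a
    obtain ⟨m, hm⟩ := IsPGroup.iff_card.1 hUp
    refine ⟨m, ?_, ?_⟩
    · rw [← hm, show Nat.card Cq = _ from (centralizer_card hc hgN).symm]
      exact card_dvd_of_le hUC
    · have h3 := Subgroup.card_mul_index (π.comp U.subtype).ker
      rw [Subgroup.index_ker, hm] at h3
      have h4 : orderOf y ≤ Nat.card (π.comp U.subtype).range := by
        rw [← hgord, ← Nat.card_zpowers]
        refine card_le_of_le (zpowers_le.2 ⟨⟨g, mem_sup_left (mem_zpowers g)⟩, rfl⟩)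
      have h5 : 1 < Nat.card (π.comp U.subtype).ker := by
        have hm' : (⟨c, mem_sup_right (mem_zpowers c)⟩ : U) ∈ (π.comp U.subtype).ker :=
          (QuotientGroup.eq_one_iff c).2 hcN
        haveI : Nontrivial (π.comp U.subtype).ker :=
          ⟨⟨⟨_, hm'⟩, 1, fun e => hc1 (congrArg (fun z : (π.comp U.subtype).ker => (z.1 : G)) e)⟩⟩
        exact Finite.one_lt_card
      calc orderOf y ≤ Nat.card (π.comp U.subtype).range := h4
        _ < Nat.card (π.comp U.subtype).ker * Nat.card (π.comp U.subtype).range := by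
          nlinarith [Nat.card_pos (α := (π.comp U.subtype).range)]
        _ = p ^ m := h3
  obtain ⟨m, hmdvd, hmlt⟩ := hU
  obtain ⟨K, hK⟩ := Sylow.exists_subgroup_card_pow_prime p hmdvd
  obtain ⟨z, hzK, hz⟩ : ∃ z : Cq, z ∈ K ∧ (z : G ⧸ N) ∉ zpowers (π g) := by
    by_contra h
    push_neg at h
    have hle : K.map Cq.subtype ≤ zpowers (π g) := by
      rintro _ ⟨z, hz, rfl⟩; exact h z hz
    have h' := card_le_of_le hle
    rw [card_map_of_injective Cq.subtype_injective, hK, Nat.card_zpowers,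
      show orderOf (π g) = orderOf y from hgord] at h'
    omega
  set V := zpowers (π g) ⊔ zpowers (z : G ⧸ N)
  have hzp : ∃ e, (z : G ⧸ N) ^ p ^ e = 1 := by
    refine ⟨m, ?_⟩
    have := pow_card_eq_one' (G := K) (x := ⟨z, hzK⟩)
    rw [hK] at this
    simpa using congrArg (fun t : K => ((t.1 : Cq) : G ⧸ N)) this
  have hcgz : Commute (π g) (z : G ⧸ N) := (mem_centralizer_singleton_iff.1 z.2).symm
  have hgen : V = closure {π g, (z : G ⧸ N)} := by
    rw [show ({π g, (z : G ⧸ N)} : Set (G ⧸ N)) = {π g} ∪ {(z : G ⧸ N)} from rfl, Subgroup.closure_union,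
      ← zpowers_eq_closure, ← zpowers_eq_closure]
  have hVcomm : IsMulCommutative V := by
    rw [hgen]
    refine isMulCommutative_closure ?_
    rintro a (rfl | rfl) b (rfl | rfl)
    exacts [rfl, hcgz.eq, hcgz.symm.eq, rfl]
  haveI := hVcomm
  have hVp : ∀ v : V, ∃ e, (v : G ⧸ N) ^ p ^ e = 1 := by
    obtain ⟨e₂, he₂⟩ := hzp
    obtain ⟨e₁, he₁⟩ : ∃ e, (π g) ^ p ^ e = 1 := ⟨i, by rw [← map_pow, hgi, map_one]⟩
    rintro ⟨v, hv⟩
    refine ⟨e₁ + e₂, ?_⟩
    rw [hgen] at hv
    induction hv using Subgroup.closure_induction with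
    | mem x hx =>
      rcases hx with rfl | rfl
      · show (π g) ^ p ^ (e₁ + e₂) = 1
        rw [pow_add, pow_mul, he₁, one_pow]
      · show (z : G ⧸ N) ^ p ^ (e₁ + e₂) = 1
        rw [pow_add, mul_comm, pow_mul, he₂, one_pow]
    | one => exact one_pow _
    | mul x x' hx hx' h1 h2 =>
      have : Commute x x' := congrArg Subtype.val
        (hVcomm.is_comm.comm (⟨x, hgen ▸ hx⟩ : V) ⟨x', hgen ▸ hx'⟩)
      show (x * x') ^ p ^ (e₁ + e₂) = 1
      rw [this.mul_pow]
      exact (congrArg₂ (· * ·) (h1 (hgen ▸ hx)) (h2 (hgen ▸ hx'))).trans (one_mul 1)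
    | inv x hx h1 =>
      show x⁻¹ ^ p ^ (e₁ + e₂) = 1
      rw [inv_pow]
      exact (congrArg Inv.inv (h1 (hgen ▸ hx))).trans inv_one
  have hnc : ¬ IsCyclic V := by
    intro hcyc
    obtain ⟨v, hv⟩ := hcyc.exists_generator
    have h1 : orderOf (v : G ⧸ N) ≤ orderOf y := hymax _ (hVp v)
    have htop : V = zpowers (v : G ⧸ N) := le_antisymm (fun x hx => by
      obtain ⟨a, ha⟩ := mem_zpowers_iff.1 (hv ⟨x, hx⟩)
      exact mem_zpowers_iff.2 ⟨a, by simpa using congrArg Subtype.val ha⟩) (zpowers_le.2 v.2)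
    have h2 : zpowers (π g) = V := by
      refine eq_of_le_of_card_ge le_sup_left ?_
      rw [htop, Nat.card_zpowers, Nat.card_zpowers,
        show orderOf (π g) = orderOf y from hgord]
      exact h1
    exact hz (h2.ge (mem_sup_right (mem_zpowers _)))
  obtain ⟨q, e1, e2, hq, he1, he2, he2ne, he12⟩ :=
    CfsgLib.Coprime.exists_elementary_pair_of_not_cyclic hnc
  have hqp : q = p := by
    obtain ⟨t, ht⟩ := hVp e2
    have h1 : e2 ^ p ^ t = 1 := Subtype.ext (by simpa using ht)
    have h2 : orderOf e2 = q := haveI := Fact.mk hq; orderOf_eq_prime he2 he2ne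
    have h3 : q ∣ p ^ t := h2 ▸ orderOf_dvd_of_pow_eq_one h1
    exact (Nat.prime_dvd_prime_iff_eq hq hp.out).1 (hq.dvd_of_dvd_pow h3)
  subst q
  -- the action on the kernel
  open scoped IsMulCommutative in
  haveI := hab
  let A := G ⧸ N
  have hwell : ∀ (a b : G) (v : G), v ∈ N → (QuotientGroup.mk a : A) = QuotientGroup.mk b →
      a * v * a⁻¹ = b * v * b⁻¹ := by
    intro a b v hv h
    have hn : a⁻¹ * b ∈ N := QuotientGroup.eq.1 h
    calc a * v * a⁻¹ = a * (v * (a⁻¹ * b)) * (a⁻¹ * b)⁻¹ * a⁻¹ := by group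
      _ = a * ((a⁻¹ * b) * v) * (a⁻¹ * b)⁻¹ * a⁻¹ := by rw [hcomm v hv _ hn]
      _ = _ := by group
  have hconjN : ∀ (a v : G), v ∈ N → a * v * a⁻¹ ∈ N := fun a v hv =>
    (inferInstance : N.Normal).conj_mem v hv a
  let act : A → N → N := fun a v => ⟨Quotient.out a * v * (Quotient.out a)⁻¹, hconjN _ _ v.2⟩
  have hactmk : ∀ (a : G) (v : N), (act (QuotientGroup.mk a) v : G) = a * v * a⁻¹ := fun a v =>
    hwell _ _ v v.2 (QuotientGroup.out_eq' _)
  have hactmul : ∀ (a b : A) (v : N), act (a * b) v = act a (act b v) := by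
    intro a b v
    obtain ⟨a, rfl⟩ := QuotientGroup.mk_surjective a
    obtain ⟨b, rfl⟩ := QuotientGroup.mk_surjective b
    refine Subtype.ext ?_
    rw [← QuotientGroup.mk_mul, hactmk, hactmk, hactmk]
    group
  haveI : Fact r.Prime := ⟨hr⟩
  obtain ⟨v, hv⟩ := exists_prime_orderOf_dvd_card' (G := N) r hNr
  let E : ZMod p → ZMod p → A := fun s t => (e1 : A) ^ s.val * (e2 : A) ^ t.val
  have he1' : (e1 : A) ^ p = 1 := by simpa using congrArg Subtype.val he1
  have he2' : (e2 : A) ^ p = 1 := by simpa using congrArg Subtype.val he2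
  have hcm : Commute (e1 : A) (e2 : A) := congrArg Subtype.val (hVcomm.is_comm.comm e1 e2)
  have hEmul : ∀ s t s' t', E (s + s') (t + t') = E s t * E s' t' := by
    intro s t s' t'
    simp only [E, ZMod.val_add, ← pow_eq_pow_mod _ he1', ← pow_eq_pow_mod _ he2', pow_add]
    rw [mul_assoc, ← mul_assoc ((e1 : A) ^ s'.val), (hcm.pow_pow _ _).eq]
    group
  have hE0 : E 0 0 = 1 := by simp [E]
  have hEne : ∀ s t, E s t = 1 → s = 0 ∧ t = 0 := by
    intro s t h
    have h' : e1 ^ s.val * e2 ^ t.val = 1 := Subtype.ext (by simpa [E] using h)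
    have hs : s = 0 := by
      by_contra hs
      refine he12 ?_
      have hsv : (e1 : V) ^ s.val ∈ zpowers e2 := by
        rw [eq_inv_of_mul_eq_one_left h']
        exact inv_mem (pow_mem (mem_zpowers e2) _)
      have hk : e1 = (e1 ^ s.val) ^ (s⁻¹).val := by
        rw [← pow_mul]
        conv_lhs => rw [← pow_one e1]
        rw [pow_eq_pow_mod (s.val * (s⁻¹).val) he1, pow_eq_pow_mod 1 he1]
        congr 1
        have : (((s.val * (s⁻¹).val : ℕ)) : ZMod p) = ((1 : ℕ) : ZMod p) := by
          simp [hs]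
        exact ((ZMod.natCast_eq_natCast_iff' _ _ p).1 this).symm
      rw [hk]
      exact pow_mem hsv _
    refine ⟨hs, ?_⟩
    subst hs
    simp at h'
    by_contra ht
    have hlt := ZMod.val_lt t
    have hpos : 0 < t.val := Nat.pos_of_ne_zero fun h0 => ht ((ZMod.val_eq_zero t).1 h0)
    have h2 : orderOf e2 = p := orderOf_eq_prime he2 he2ne
    have := Nat.le_of_dvd hpos (h2 ▸ orderOf_dvd_of_pow_eq_one h')
    omega
  have hfpf : ∀ s t, (s ≠ 0 ∨ t ≠ 0) → ∀ u : N, act (E s t) u = u → (∃ e, u ^ r ^ e = 1) → u = 1 := by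
    intro s t hst u hu ⟨e, hue⟩
    have hpE : (E s t) ^ p ^ 1 = 1 := by
      rw [pow_one]
      simp only [E]
      rw [(hcm.pow_pow _ _).mul_pow, ← pow_mul, ← pow_mul, mul_comm s.val, mul_comm t.val,
        pow_mul, pow_mul, he1', he2', one_pow, one_pow, one_mul]
    obtain ⟨a, l, hal, haE⟩ := exists_pElement hp.out hpE
    have haN : a ∉ N := fun h => by
      rw [(QuotientGroup.eq_one_iff a).2 h, zpowers_one_eq_bot, eq_comm, zpowers_eq_bot] at haE
      exact hst.elim (fun hh => hh (hEne s t haE).1) (fun hh => hh (hEne s t haE).2)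
    have hfix : ∀ n : ℕ, act ((E s t) ^ n) u = u := by
      intro n
      induction n with
      | zero => exact Subtype.ext (by rw [pow_zero, ← QuotientGroup.mk_one, hactmk]; simp)
      | succ n ih => rw [pow_succ, hactmul, hu, ih]
    obtain ⟨n, hn⟩ := ((IsOfFinOrder.mem_powers_iff_mem_zpowers (isOfFinOrder_of_finite _)).2
      (haE.le (mem_zpowers _)) : _ ∈ Submonoid.powers (E s t))
    have hn' : (E s t) ^ n = QuotientGroup.mk a := hn
    have hau : Commute a (u : G) := by
      have h := congrArg Subtype.val (hfix n)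
      rw [hn', hactmk] at h
      exact mul_inv_eq_iff_eq_mul.1 h
    have h1 := pow_eq_one_of_commute hc haN hal u.2 hau
    refine Subtype.ext ?_
    have h2 : (u : G) ^ r ^ e = 1 := by simpa using congrArg Subtype.val hue
    have h3 := pow_gcd_eq_one.2 ⟨h1, h2⟩
    rwa [((Nat.coprime_primes hp.out hr).2 hrp.symm).pow _ _, pow_one] at h3
  let w : ZMod p → ZMod p → N := fun s t => act (E s t) v
  have hrpow : ∀ (a : A) (u : N), u ^ r = 1 → act a u ^ r = 1 := by
    intro a u hu
    refine Subtype.ext ?_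
    show (Quotient.out a * u * (Quotient.out a)⁻¹) ^ r = 1
    rw [conj_pow, show (u : G) ^ r = 1 by simpa using congrArg Subtype.val hu]
    simp
  have hvr : v ^ r = 1 := hv ▸ pow_orderOf_eq_one v
  open scoped IsMulCommutative in
  have hprod1 : ∀ (f : ZMod p → N) (s t : ZMod p), (s ≠ 0 ∨ t ≠ 0) →
      (∀ j, f j ^ r = 1) → (∀ j, act (E s t) (f j) = f (j + 1)) → ∏ j, f j = 1 := by
    intro f s t hst hfr hf
    refine hfpf s t hst _ ?_ ⟨1, by rw [pow_one, ← Finset.prod_pow]; simp [hfr]⟩
    let φ : N →* N :=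
      { toFun := act (E s t)
        map_one' := Subtype.ext (by simp [act])
        map_mul' := fun a b => Subtype.ext (by simp [act, mul_assoc]) }
    show φ (∏ j, f j) = _
    rw [map_prod]
    exact Fintype.prod_bijective _ (Equiv.addRight (1 : ZMod p)).bijective _ _ hf
  open scoped IsMulCommutative in
  have hlines : ∀ i : ZMod p, ∏ j, w j (j * i) = 1 := fun i =>
    hprod1 (fun j => w j (j * i)) 1 i (Or.inl one_ne_zero) (fun j => hrpow _ _ hvr) fun j => by
      simp only [w]
      rw [← hactmul, ← hEmul]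
      congr 2 <;> ring
  open scoped IsMulCommutative in
  have hlast : ∏ j, w 0 j = 1 :=
    hprod1 (fun j => w 0 j) 0 1 (Or.inr one_ne_zero) (fun j => hrpow _ _ hvr) fun j => by
      simp only [w]
      rw [← hactmul, ← hEmul]
      congr 2 <;> ring
  open scoped IsMulCommutative in
  have hall : ∏ i, ∏ j, w i j = 1 :=
    hprod1 (fun i => ∏ j, w i j) 1 0 (Or.inl one_ne_zero)
      (fun i => by rw [← Finset.prod_pow]; simp [w, hrpow _ _ hvr]) fun i => by
      let φ : N →* N :=
        { toFun := act (E 1 0)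
          map_one' := Subtype.ext (by simp [act])
          map_mul' := fun a b => Subtype.ext (by simp [act, mul_assoc]) }
      show φ (∏ j, w i j) = _
      rw [map_prod]
      refine Finset.prod_congr rfl fun j _ => ?_
      show act (E 1 0) (w i j) = _
      simp only [w]
      rw [← hactmul, ← hEmul]
      congr 2 <;> ring
  open scoped IsMulCommutative in
  have hkey := prod_elementary p w
  open scoped IsMulCommutative in
  rw [Finset.prod_comm, Finset.prod_congr rfl fun i _ => hlines i, Finset.prod_const_one, hlast,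
    one_mul, hall, mul_one] at hkey
  have hw0 : w 0 0 = v := Subtype.ext (by
    show (act (E 0 0) v : G) = v
    rw [hE0, ← QuotientGroup.mk_one, hactmk]; simp)
  rw [hw0] at hkey
  have h6 : r ∣ p := hv ▸ orderOf_dvd_of_pow_eq_one hkey.symm
  exact hrp ((Nat.prime_dvd_prime_iff_eq hr hp.out).1 h6)

theorem map_cam (hc : Cam N) {K : Subgroup G} [K.Normal] (hK : K ≤ N) :
    Cam (N.map (QuotientGroup.mk' K)) := by
  intro g hg n hn
  obtain ⟨g, rfl⟩ := QuotientGroup.mk'_surjective K g
  obtain ⟨n, hn', rfl⟩ := hn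
  obtain ⟨x, hx⟩ := hc g (fun h => hg (mem_map_of_mem _ h)) n hn'
  exact ⟨QuotientGroup.mk' K x, by rw [← map_inv, ← map_mul, ← map_mul, hx, map_mul]⟩

theorem dvd_abelianization_of_nilpotent (A : Type u) [Group A] [Finite A] [Group.IsNilpotent A]
    {r : ℕ} [hr : Fact r.Prime] (h : r ∣ Nat.card A) : r ∣ (commutator A).index := by
  classical
  have hn : ∀ {q : ℕ} [Fact q.Prime] (P : Sylow q A), P.Normal := fun {q} _ P =>
    (Group.isNilpotent_of_finite_tfae (G := A)).out 0 3 rfl rfl |>.mp ‹_› q ‹_› P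
  have hmem : r ∈ (Nat.card A).primeFactors :=
    Nat.mem_primeFactors.2 ⟨hr.out, h, Nat.card_pos.ne'⟩
  obtain ⟨P⟩ := (inferInstance : Nonempty (Sylow r A))
  let f : A →* (P : Subgroup A) :=
    ((Pi.evalMonoidHom (fun Q : Sylow r A => (Q : Subgroup A)) P).comp
      (Pi.evalMonoidHom (fun q : (Nat.card A).primeFactors => ∀ Q : Sylow (q : ℕ) A, (Q : Subgroup A))
        ⟨r, hmem⟩)).comp (Sylow.directProductOfNormal hn).symm.toMonoidHom
  have hf : Function.Surjective f := by
    intro x
    refine ⟨(Sylow.directProductOfNormal hn) (Pi.mulSingle ⟨r, hmem⟩ (Pi.mulSingle P x)), ?_⟩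
    simp [f]
  haveI : Nontrivial (P : Subgroup A) := Finite.one_lt_card_iff_nontrivial.1 (by
    rw [P.card_eq_multiplicity]
    exact Nat.one_lt_pow (hr.out.factorization_pos_of_dvd Nat.card_pos.ne' h).ne' hr.out.one_lt)
  exact dvd_abelianization_of_pGroup P.2 f hf

/-- The trichotomy. -/
theorem trichotomy (hN1 : N ≠ ⊥) (hN2 : N ≠ ⊤) (hc : Cam N) :
    (∀ x ∈ N, x ≠ 1 → centralizer ({x} : Set G) ≤ N) ∨ IsPrimePow (Nat.card N) ∨
      IsPrimePow N.index := by
  classical
  by_contra hcon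
  push_neg at hcon
  obtain ⟨⟨x, hxN, hx1, hxC⟩, hNnp, hinp⟩ := hcon
  obtain ⟨g, hgC, hgN⟩ := SetLike.not_le_iff_exists.1 hxC
  -- a common prime
  obtain ⟨p, hp, hd, hNp⟩ : ∃ p : ℕ, p.Prime ∧ p ∣ N.index ∧ p ∣ Nat.card N := by
    have hy : (QuotientGroup.mk g : G ⧸ N) ≠ 1 := fun h => hgN ((QuotientGroup.eq_one_iff g).1 h)
    obtain ⟨p, hp, hpd⟩ := Nat.exists_prime_and_dvd
      (n := orderOf (QuotientGroup.mk g : G ⧸ N)) (fun h => hy (orderOf_eq_one_iff.1 h))
    set o := orderOf (QuotientGroup.mk g : G ⧸ N)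
    have hop : (QuotientGroup.mk g : G ⧸ N) ^ (o / p) ≠ 1 := pow_ne_one_of_lt_orderOf
      (Nat.div_pos (Nat.le_of_dvd (orderOf_pos _) hpd) hp.pos).ne'
      (Nat.div_lt_self (orderOf_pos _) hp.one_lt)
    have hpow : ((QuotientGroup.mk g : G ⧸ N) ^ (o / p)) ^ p ^ 1 = 1 := by
      rw [pow_one, ← pow_mul, Nat.div_mul_cancel hpd, pow_orderOf_eq_one]
    set n := orderOf (g ^ (o / p))
    set h0 := (g ^ (o / p)) ^ (n / p ^ n.factorization p) with hh0
    have h0p : h0 ^ p ^ n.factorization p = 1 := by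
      rw [hh0, ← pow_mul, Nat.div_mul_cancel (Nat.ordProj_dvd n p), pow_orderOf_eq_one]
    have h0N : h0 ∉ N := fun hh => by
      have h1 : ((QuotientGroup.mk g : G ⧸ N) ^ (o / p)) ^ (n / p ^ n.factorization p) = 1 := by
        rw [← QuotientGroup.mk_pow, ← QuotientGroup.mk_pow]
        exact (QuotientGroup.eq_one_iff _).2 hh
      have h2 := pow_gcd_eq_one.2 ⟨hpow, h1⟩
      rw [(Nat.coprime_ordCompl hp (orderOf_pos (g ^ (o / p))).ne').pow_left 1, pow_one] at h2
      exact hop h2
    have hcg : Commute g x := mem_centralizer_singleton_iff.1 hgC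
    have hx' := pow_eq_one_of_commute hc h0N h0p hxN ((hcg.pow_left _).pow_left _)
    refine ⟨p, hp, hpd.trans (orderOf_dvd_natCard _), ?_⟩
    have h3 : orderOf x ∣ p ^ n.factorization p := orderOf_dvd_of_pow_eq_one hx'
    obtain ⟨j, -, hj⟩ := (Nat.dvd_prime_pow hp).1 h3
    rcases Nat.eq_zero_or_pos j with rfl | hj0
    · exact absurd (orderOf_eq_one_iff.1 (by rw [hj, pow_zero])) hx1
    · exact (dvd_pow_self p hj0.ne').trans (hj ▸ Subgroup.orderOf_dvd_natCard N hxN)
  haveI := Fact.mk hp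
  -- the abelianisation is a `p`-group
  have hab : ∀ r : ℕ, r.Prime → r ∣ (commutator N).index → r = p := by
    intro r hr hrd
    by_contra hrp
    set K := (commutator N).map N.subtype with hK
    haveI : K.Normal := by
      haveI : (commutator N).Characteristic := inferInstance
      exact ConjAct.normal_of_characteristic_of_normal
    have hKN : K ≤ N := map_subtype_le _
    set M := N.map (QuotientGroup.mk' K) with hM
    haveI : M.Normal := Subgroup.Normal.map inferInstance _ (QuotientGroup.mk'_surjective K)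
    have hMcard : Nat.card M = (commutator N).index := by
      rw [hM, ← range_subtype N, ← MonoidHom.range_comp, range_subtype, ← Subgroup.index_ker]
      congr 1
      ext a
      show QuotientGroup.mk' K (a : G) = 1 ↔ _
      rw [QuotientGroup.mk'_apply, QuotientGroup.eq_one_iff, hK]
      constructor
      · rintro ⟨b, hb, e⟩; rwa [show a = b from Subtype.ext e.symm]
      · exact fun h => ⟨a, h, rfl⟩
    have hMab : IsMulCommutative M := by
      refine ⟨⟨?_⟩⟩
      rintro ⟨_, a, ha, rfl⟩ ⟨_, b, hb, rfl⟩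
      refine Subtype.ext ?_
      show QuotientGroup.mk' K a * QuotientGroup.mk' K b = QuotientGroup.mk' K b * QuotientGroup.mk' K a
      rw [← map_mul, ← map_mul]
      refine (QuotientGroup.eq).2 ?_
      refine ⟨(⟨b, hb⟩ : N)⁻¹ * (⟨a, ha⟩ : N)⁻¹ * ⟨b, hb⟩ * ⟨a, ha⟩, ?_, by simp [mul_assoc]⟩
      have := commutator_mem_commutator (mem_top (⟨b, hb⟩ : N)⁻¹) (mem_top (⟨a, ha⟩ : N)⁻¹)
      simpa [commutatorElement_def, commutator_def] using this
    have hMidx : M.index = N.index := by
      rw [hM]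
      exact index_map_eq _ (QuotientGroup.mk'_surjective K) (by rwa [QuotientGroup.ker_mk'])
    exact false_of_abelian (map_cam hc hKN) hMab hr hrp (hMidx ▸ hd)
      (hMcard ▸ dvd_abelianization hc hd hNp) (hMcard ▸ hrd)
  -- another prime in the quotient
  obtain ⟨q, hq, hqd, hqp⟩ : ∃ q : ℕ, q.Prime ∧ q ∣ N.index ∧ q ≠ p := by
    by_contra h
    push_neg at h
    have h1 : N.index ≠ 1 := fun hh => hN2 (index_eq_one.1 hh)
    have h0 : N.index ≠ 0 := FiniteIndex.index_ne_zero
    have := Nat.eq_prime_pow_of_unique_prime_dvd h0 (fun {d} hd' hdd => h d hd' hdd)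
    refine hinp ⟨p, N.index.primeFactorsList.length, hp.prime, ?_, this.symm⟩
    exact Nat.pos_of_ne_zero fun h0' => h1 (by rw [this, h0', pow_zero])
  haveI := Fact.mk hq
  have hqN : ¬ q ∣ Nat.card N := fun h => hqp (hab q hq (dvd_abelianization hc hqd h))
  obtain ⟨y, hy⟩ := exists_prime_orderOf_dvd_card' (G := G) q
    (hqd.trans N.index_dvd_card)
  have hyN : y ∉ N := fun h => hqN (hy ▸ Subgroup.orderOf_dvd_natCard N h)
  let φ : N ≃* N := MulAut.conjNormal y
  have hnil : Group.IsNilpotent N := by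
    refine CfsgLib.PGroup.isNilpotent_of_fixedPointFree hq N φ (fun n hn => ?_) fun n => ?_
    · have hcy : Commute y (n : G) := mul_inv_eq_iff_eq_mul.1 (congrArg Subtype.val hn)
      have h1 := pow_eq_one_of_commute hc (p := q) (j := 1) hyN
        (by rw [pow_one, ← hy, pow_orderOf_eq_one]) n.2 hcy
      rw [pow_one] at h1
      have h2 : orderOf (n : G) ∣ 1 := by
        have hh := Nat.dvd_gcd (orderOf_dvd_of_pow_eq_one h1) (Subgroup.orderOf_dvd_natCard N n.2)
        rwa [((hq.coprime_iff_not_dvd).2 hqN).gcd_eq_one] at hh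
      exact Subtype.ext (orderOf_eq_one_iff.1 (Nat.dvd_one.1 h2))
    · have : ∀ j, ((φ^[j] n : N) : G) = y ^ j * n * (y ^ j)⁻¹ := by
        intro j
        induction j with
        | zero => simp
        | succ j ih =>
          rw [Function.iterate_succ_apply']
          show y * _ * y⁻¹ = _
          rw [ih, pow_succ']; group
      refine Subtype.ext ?_
      rw [this, ← hy, pow_orderOf_eq_one]; simp
  refine hNnp ?_
  have h0 : Nat.card N ≠ 0 := Nat.card_pos.ne'
  have hu : ∀ {d : ℕ}, d.Prime → d ∣ Nat.card N → d = p := fun {d} hd' hdd => by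
    haveI := Fact.mk hd'
    haveI := hnil
    exact hab d hd' (dvd_abelianization_of_nilpotent N hdd)
  have he := Nat.eq_prime_pow_of_unique_prime_dvd h0 hu
  refine ⟨p, _, hp.prime, ?_, he.symm⟩
  refine Nat.pos_of_ne_zero fun h0' => hN1 (eq_bot_of_card_eq _ ?_)
  rw [he, h0', pow_zero]

end CfsgLib.Char.CaminaPairs
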