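import Cfsg.Agent.Lib.Char.Virtual
import Cfsg.Agent.Lib.Coprime.MinimalNonNilpotent
import Mathlib

/-!
# Solvable groups inside central type factor groups

An induction on twisted group bases of full matrix algebras: a group `R` with a projective
representation whose nontrivial elements have trace zero and whose order is the square of the degree.
-/

set_option autoImplicit false
set_option linter.unusedSectionVars false
set_option linter.style.haveILetI false

namespace CfsgLib.Char.CentralTypeEmbedding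

open Matrix

universe u

/-- A twisted group basis of a full matrix algebra. -/
structure TBasis (m : ℕ) (ι : Type) [Fintype ι] [DecidableEq ι] (R : Type u) [Group R] where
  rep : R → Matrix ι ι ℂ
  rep_one : rep 1 = 1
  rep_mul : ∀ a b, ∃ c : ℂ, c ^ m = 1 ∧ rep a * rep b = c • rep (a * b)
  trace_zero : ∀ a, a ≠ 1 → (rep a).trace = 0
  card_eq : Nat.card R = Fintype.card ι ^ 2

/-- `G` embeds into a group with a twisted basis with the correct primes. -/
def Good (G : Type u) [Group G] : Prop :=
  ∃ (m : ℕ) (ι : Type) (_ : Fintype ι) (_ : DecidableEq ι) (R : Type u) (_ : Group R) (_ : Finite R)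
    (_ : TBasis m ι R) (f : G →* R),
    Function.Injective f ∧ 0 < Fintype.card ι ∧ Squarefree m ∧
      (∀ p : ℕ, p.Prime → (p ∣ m ↔ p ∣ Nat.card G)) ∧
      ∀ p : ℕ, p.Prime → p ∣ Fintype.card ι → p ∣ Nat.card G

theorem good_of_subsingleton (G : Type u) [Group G] [Subsingleton G] : Good G := by
  have h1 : Nat.card G = 1 := Nat.card_unique
  refine ⟨1, Unit, inferInstance, inferInstance, PUnit, inferInstance, inferInstance,
    ⟨fun _ => 1, rfl, fun _ _ => ⟨1, one_pow _, by simp⟩, fun a ha => absurd (Subsingleton.elim a 1) ha, by simp⟩,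
    1, fun a b _ => Subsingleton.elim a b, by simp, squarefree_one, fun p _ => by rw [h1], fun p hp h => by
      simp only [Fintype.card_unit, Nat.dvd_one] at h
      exact absurd h hp.ne_one⟩

/-! ### The wreath step -/

section Step

variable {m p : ℕ} [Fact p.Prime] {ι : Type} [Fintype ι] [DecidableEq ι] {R : Type u} [Group R]

/-- The cyclic shift of coordinates. -/
def shift (p : ℕ) (R : Type u) [Group R] : Multiplicative (ZMod p) →* MulAut (ZMod p → R) where
  toFun a :=
    { toFun := fun h k => h (k + a.toAdd)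
      invFun := fun h k => h (k - a.toAdd)
      left_inv := fun h => funext fun k => by simp
      right_inv := fun h => funext fun k => by simp
      map_mul' := fun _ _ => rfl }
  map_one' := by ext h k; simp
  map_mul' a b := by ext h k; simp [add_assoc]

/-- The larger group. -/
abbrev Step (p : ℕ) (R : Type u) [Group R] : Type u :=
  ((ZMod p → R) ⋊[shift p R] Multiplicative (ZMod p)) × Multiplicative (ZMod p)

variable (B : TBasis m ι R) (ζ : ℂ)

/-- The matrix of an element of the larger group. -/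
def opU (h : ZMod p → Matrix ι ι ℂ) (a b : ZMod p) :
    Matrix ((ZMod p → ι) × ZMod p) ((ZMod p → ι) × ZMod p) ℂ := fun x y =>
  if x.2 = y.2 + a then ζ ^ (b * y.2).val * ∏ k, h k (x.1 k) (y.1 (k + a)) else 0

theorem zeta_add (hζ : ζ ^ p = 1) (x y : ZMod p) : ζ ^ (x + y).val = ζ ^ x.val * ζ ^ y.val := by
  rw [ZMod.val_add, ← pow_add]
  conv_rhs => rw [← Nat.mod_add_div (x.val + y.val) p, pow_add, pow_mul, hζ, one_pow, mul_one]

theorem opU_mul (hζ : ζ ^ p = 1) (h h' : ZMod p → Matrix ι ι ℂ) (a a' b b' : ZMod p) :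
    opU ζ h a b * opU ζ h' a' b' = ζ ^ (b * a').val • opU ζ (fun k => h k * h' (k + a)) (a + a') (b + b') := by
  ext x y
  rw [Matrix.mul_apply, Matrix.smul_apply, smul_eq_mul]
  simp only [opU]
  rw [Fintype.sum_prod_type, Finset.sum_comm, Finset.sum_eq_single (y.2 + a')
    (fun j _ hj => Finset.sum_eq_zero fun g _ => by rw [if_neg hj, mul_zero]) (by simp)]
  by_cases hx : x.2 = y.2 + a' + a
  · rw [if_pos (by rw [hx]; ring : x.2 = y.2 + (a + a'))]
    simp only [if_pos hx, if_true]
    rw [← Fintype.sum_equiv ((Equiv.addRight a).arrowCongr (Equiv.refl ι))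
      (fun g : ZMod p → ι => _) _ (fun g => rfl)]
    have hprod : ∀ k, (h k * h' (k + a)) (x.1 k) (y.1 (k + (a + a'))) =
        ∑ l, h k (x.1 k) l * h' (k + a) l (y.1 (k + (a + a'))) := fun k => Matrix.mul_apply
    simp only [hprod]
    rw [Fintype.prod_sum, Finset.mul_sum, Finset.mul_sum]
    refine Finset.sum_congr rfl fun g _ => ?_
    simp only [Equiv.arrowCongr_apply, Equiv.coe_refl, Function.comp_apply, id_eq, Equiv.addRight_symm,
      Equiv.coe_addRight]
    rw [Finset.prod_mul_distrib, ← Fintype.prod_equiv (Equiv.addRight a)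
      (fun k => h' (k + a) (g k) (y.1 (k + (a + a'))))
      (fun k => h' k (g (k + -a)) (y.1 (k + a'))) (fun k => by simp [add_assoc]),
      show b * (y.2 + a') = b * a' + b * y.2 by ring, show (b + b') * y.2 = b * y.2 + b' * y.2 by ring,
      zeta_add ζ hζ, zeta_add ζ hζ]
    simp only [add_neg_cancel_right]
    ring
  · rw [if_neg (fun hc => hx (by rw [hc]; ring) : ¬ x.2 = y.2 + (a + a')), mul_zero]
    exact Finset.sum_eq_zero fun g _ => by rw [if_neg hx, zero_mul]

theorem trace_opU (hζ : IsPrimitiveRoot ζ p) (h : ZMod p → Matrix ι ι ℂ) (a b : ZMod p) :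
    (opU ζ h a b).trace = if a = 0 ∧ b = 0 then (p : ℂ) * ∏ k, (h k).trace else 0 := by
  simp only [Matrix.trace, Matrix.diag, opU]
  rw [Fintype.sum_prod_type, Finset.sum_comm]
  by_cases ha : a = 0
  · subst ha
    simp only [add_zero, if_true, true_and]
    rw [Finset.sum_congr rfl (g := fun j : ZMod p => ζ ^ (b * j).val * ∏ k, ∑ l, h k l l) fun j _ => by
      rw [Fintype.prod_sum, Finset.mul_sum], ← Finset.sum_mul]
    by_cases hb : b = 0
    · subst hb
      simp [ZMod.card]
    · rw [if_neg hb]
      refine mul_eq_zero_of_left ?_ _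
      rw [Fintype.sum_bijective (fun j => b * j) (mulLeft_bijective₀ b hb) _ (fun j : ZMod p => ζ ^ j.val) fun _ => rfl]
      rw [Finset.sum_bij (t := Finset.range p) (g := fun i => ζ ^ i) (fun (j : ZMod p) _ => j.val)
        (fun j _ => Finset.mem_range.2 (ZMod.val_lt j)) (fun j _ l _ e => ZMod.val_injective p e)
        (fun i hi => ⟨(i : ZMod p), Finset.mem_univ _, ZMod.val_cast_of_lt (Finset.mem_range.1 hi)⟩) (fun _ _ => rfl)]
      exact hζ.geom_sum_eq_zero (Fact.out : p.Prime).one_lt
  · rw [if_neg (fun h => ha h.1)]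
    refine Finset.sum_eq_zero fun j _ => Finset.sum_eq_zero fun g _ => if_neg fun hc => ha ?_
    simpa using hc

theorem opU_smul (c : ZMod p → ℂ) (h : ZMod p → Matrix ι ι ℂ) (a b : ZMod p) :
    opU ζ (fun k => c k • h k) a b = (∏ k, c k) • opU ζ h a b := by
  ext x y
  simp only [opU, Matrix.smul_apply, smul_eq_mul, Finset.prod_mul_distrib]
  split_ifs
  · ring
  · rw [mul_zero]

theorem opU_one : opU ζ (fun _ : ZMod p => (1 : Matrix ι ι ℂ)) 0 0 = 1 := by
  ext x y
  simp only [opU, add_zero, zero_mul, ZMod.val_zero, pow_zero, one_mul, Matrix.one_apply]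
  by_cases h : x = y
  · subst h
    simp
  · rw [if_neg h]
    by_cases h2 : x.2 = y.2
    · rw [if_pos h2]
      obtain ⟨k, hk⟩ := Function.ne_iff.1 fun h1 => h (Prod.ext h1 h2)
      exact Finset.prod_eq_zero (Finset.mem_univ k) (if_neg hk)
    · rw [if_neg h2]

/-- The basis of the larger group. -/
noncomputable def stepBasis (hm : 0 < m) (hζ : IsPrimitiveRoot ζ p) :
    TBasis (Nat.lcm m p) ((ZMod p → ι) × ZMod p) (Step p R) where
  rep x := opU ζ (fun k => B.rep (x.1.left k)) x.1.right.toAdd x.2.toAdd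
  rep_one := by simpa [B.rep_one] using opU_one (ι := ι) (p := p) ζ
  rep_mul x y := by
    choose c hc hmul using fun k => B.rep_mul (x.1.left k) (y.1.left (k + x.1.right.toAdd))
    refine ⟨ζ ^ (x.2.toAdd * y.1.right.toAdd).val * ∏ k, c k, ?_, ?_⟩
    · rw [mul_pow, ← pow_mul, mul_comm _ (Nat.lcm m p), pow_mul, ← Finset.prod_pow]
      obtain ⟨u, hu⟩ := Nat.dvd_lcm_right m p
      obtain ⟨w, hw⟩ := Nat.dvd_lcm_left m p
      rw [hu, pow_mul, hζ.pow_eq_one, one_pow, one_pow, one_mul]
      exact Finset.prod_eq_one fun k _ => by rw [← hu, hw, pow_mul, hc k, one_pow]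
    · rw [opU_mul ζ hζ.pow_eq_one]
      simp only [hmul]
      rw [opU_smul, smul_smul]
      rfl
  trace_zero x hx := by
    rw [trace_opU ζ hζ]
    split_ifs with h
    · obtain ⟨k, hk⟩ : ∃ k, x.1.left k ≠ 1 := by
        by_contra hall
        push Not at hall
        refine hx (Prod.ext (SemidirectProduct.ext (funext hall) ?_) ?_)
        · exact Multiplicative.toAdd.injective h.1
        · exact Multiplicative.toAdd.injective h.2
      rw [Finset.prod_eq_zero (Finset.mem_univ k) (B.trace_zero _ hk), mul_zero]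
    · rfl
  card_eq := by
    rw [Nat.card_prod, SemidirectProduct.card, Nat.card_fun, B.card_eq, Nat.card_zmod,
      Nat.card_congr Multiplicative.toAdd, Nat.card_zmod, Fintype.card_prod, Fintype.card_fun, ZMod.card]
    ring

end Step

theorem good_step {G : Type u} [Group G] [Finite G] (M : Subgroup G) [M.Normal] {p : ℕ} [Fact p.Prime]
    (hidx : M.index = p) (hM : Good M) : Good G := by
  obtain ⟨m, ι, _, _, R, _, _, B, f, hf, hι, hsq, hmp, hιp⟩ := hM
  classical
  have hcard : Nat.card G = Nat.card M * p := by rw [← hidx]; exact M.card_mul_index.symm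
  let e : G ⧸ M ≃* Multiplicative (ZMod p) := mulEquivOfPrimeCardEq (p := p)
    (by rw [← Subgroup.index_eq_card, hidx]) (by rw [Nat.card_congr Multiplicative.toAdd, Nat.card_zmod])
  let π : G →* Multiplicative (ZMod p) := e.toMonoidHom.comp (QuotientGroup.mk' M)
  have hker : ∀ g, π g = 1 ↔ g ∈ M := fun g => e.map_eq_one_iff.trans (QuotientGroup.eq_one_iff g)
  choose t ht using fun k : ZMod p =>
    (e.surjective.comp (QuotientGroup.mk'_surjective M)) (Multiplicative.ofAdd k)
  have ht' : ∀ k, π (t k) = Multiplicative.ofAdd k := ht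
  have hmem : ∀ g k, t k * g * (t (k + (π g).toAdd))⁻¹ ∈ M := fun g k => by
    rw [← hker, map_mul, map_mul, map_inv, ht', ht']
    simp
  let F : G → Step p R := fun g => (⟨fun k => f ⟨_, hmem g k⟩, π g⟩, 1)
  have hF : ∀ g g', F (g * g') = F g * F g' := fun g g' => by
    refine Prod.ext (SemidirectProduct.ext (funext fun k => ?_) (map_mul π g g')) (mul_one _).symm
    show f _ = f _ * f _
    rw [← map_mul]
    refine congrArg f (Subtype.ext ?_)
    show _ = (t k * g * _) * (t (k + (π g).toAdd) * g' * _)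
    simp [F, add_assoc, mul_assoc]
  have hp0 : 0 < p := (Fact.out : p.Prime).pos
  obtain ⟨ζ, hζ⟩ : ∃ ζ : ℂ, IsPrimitiveRoot ζ p := ⟨_, Complex.isPrimitiveRoot_exp p hp0.ne'⟩
  refine ⟨Nat.lcm m p, (ZMod p → ι) × ZMod p, inferInstance, inferInstance, Step p R, inferInstance, ?_,
    stepBasis B ζ (Nat.pos_of_ne_zero hsq.ne_zero) hζ, MonoidHom.mk' F hF, ?_, ?_, ?_, ?_, ?_⟩
  · exact Finite.of_equiv _ ((Equiv.prodCongr SemidirectProduct.equivProd (Equiv.refl _))).symm
  · refine (injective_iff_map_eq_one _).2 fun g hg => ?_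
    have h1 : π g = 1 := congrArg (fun x : Step p R => x.1.right) hg
    have h2 := congrFun (congrArg (fun x : Step p R => x.1.left) hg) 0
    have h3 : f ⟨_, hmem g 0⟩ = 1 := h2
    rw [← map_one f] at h3
    have h4 := congrArg Subtype.val (hf h3)
    simp only [h1, toAdd_one, add_zero, OneMemClass.coe_one] at h4
    rwa [conj_eq_one_iff] at h4
  · rw [Fintype.card_prod, Fintype.card_fun, ZMod.card]
    positivity
  · have hm0 : m ≠ 0 := hsq.ne_zero
    rw [Nat.squarefree_iff_factorization_le_one (Nat.lcm_ne_zero hm0 hp0.ne')]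
    intro q
    rw [Nat.factorization_lcm hm0 hp0.ne', Finsupp.sup_apply]
    exact max_le ((Nat.squarefree_iff_factorization_le_one hm0).1 hsq q)
      ((Nat.squarefree_iff_factorization_le_one hp0.ne').1 (Fact.out : p.Prime).squarefree q)
  · intro q hq
    rw [hq.dvd_lcm, hmp q hq, hcard, hq.dvd_mul]
  · intro q hq hd
    rw [Fintype.card_prod, Fintype.card_fun, ZMod.card, hq.dvd_mul] at hd
    rw [hcard, hq.dvd_mul]
    exact hd.imp (fun h => hιp q hq (hq.dvd_of_dvd_pow h)) id

theorem good_of_solvable : ∀ (n : ℕ) (G : Type u) [Group G] [Finite G],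
    Nat.card G = n → Group.IsSolvable G → Good G := by
  intro n
  induction n using Nat.strongRecOn with
  | ind n ih =>
    intro G _ _ hn hs
    rcases subsingleton_or_nontrivial G with h | h
    · exact good_of_subsingleton G
    haveI := hs
    obtain ⟨M, hMn, hp⟩ := CfsgLib.Coprime.exists_normal_prime_index (G := G)
    haveI := hMn
    haveI : Fact M.index.Prime := ⟨hp⟩
    refine good_step M rfl (ih _ ?_ M rfl inferInstance)
    rw [← hn, ← M.card_mul_index]
    exact lt_mul_of_one_lt_right Nat.card_pos hp.one_lt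

end CfsgLib.Char.CentralTypeEmbedding
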