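/-
Invariant characters restricted to an abelian chief factor.
-/
import Cfsg.Agent.Lib.Char.Clifford
import Cfsg.Agent.Lib.Char.Inertia
import Cfsg.Agent.Lib.Char.InvariantAbove
import Cfsg.Agent.Lib.Char.Determine

set_option autoImplicit false

open scoped ComplexConjugate
open Cfsg

namespace CfsgLib.Char.ChiefFactor

universe u

variable {K : Type u} [Group K] [Fintype K] (Lk : Subgroup K) [hLn : Lk.Normal] [Fintype Lk]

theorem classInner_restrict_self {θ : K → ℂ} {φ : Lk → ℂ} {e : ℕ} {C : Finset (Lk → ℂ)}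
    (hC : ∀ ψ ∈ C, IsIrrCharacter Lk ψ) (hθ : (fun n : Lk => θ n) = (e : ℂ) • ∑ ψ ∈ C, ψ)
    (hφ : φ = fun n : Lk => θ n) : classInner φ φ = ((e ^ 2 * C.card : ℕ) : ℂ) := by
  classical
  subst hφ
  rw [hθ, classInner_smul_left, classInner_smul_right, classInner_sum_left,
    Finset.sum_congr rfl (g := fun _ => (1 : ℂ)) fun ψ hψ => ?_]
  · simp; ring
  · rw [classInner_sum_right, Finset.sum_eq_single_of_mem ψ hψ fun b hb hne => ?_]
    · exact classInner_irr_self ⟨ψ, hC ψ hψ⟩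
    · exact classInner_irr_ne (χ := ⟨ψ, hC ψ hψ⟩) (ψ := ⟨b, hC b hb⟩) fun e => hne (congrArg Subtype.val e).symm

theorem exists_orbit_form {θ : K → ℂ} (hθ : IsIrrCharacter K θ) :
    ∃ (φ : Lk → ℂ) (e : ℕ) (C : Finset (Lk → ℂ)), IsIrrCharacter Lk φ ∧ φ ∈ C ∧
      classInner (fun n : Lk => θ n) φ ≠ 0 ∧ 0 < e ∧ (∀ ψ ∈ C, IsIrrCharacter Lk ψ) ∧
      C.card = (inertia Lk φ).index ∧ (fun n : Lk => θ n) = (e : ℂ) • ∑ ψ ∈ C, ψ := by
  classical
  have hch := isCharacter_comp (isCharacter_of_isIrr hθ) Lk.subtype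
  have hne : (fun n : Lk => θ n) ≠ 0 := fun h => irr_one_ne_zero ⟨θ, hθ⟩ (congrFun h 1)
  obtain ⟨φ, hφ⟩ := exists_irr_inner_ne_zero hch hne
  obtain ⟨e, he⟩ := classInner_char_irr_nat hch φ
  have he' : classInner (fun n : Lk => θ n) (φ : Lk → ℂ) = e := he
  set C : Finset (Lk → ℂ) := Finset.univ.image fun g : K => conjFun Lk (φ : Lk → ℂ) g with hCdef
  have hC : ∀ ψ ∈ C, IsIrrCharacter Lk ψ := fun ψ hψ => by
    obtain ⟨g, -, rfl⟩ := Finset.mem_image.1 hψ
    exact isIrrCharacter_conjFun Lk φ.2 g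
  have hset : {ψ : Lk → ℂ | ∃ g : K, ψ = conjFun Lk (φ : Lk → ℂ) g} = ↑C := by
    ext ψ
    simp [hCdef, eq_comm]
  have hcl := clifford Lk hθ φ.2 hφ
  rw [hset, finsum_mem_coe_finset, he'] at hcl
  refine ⟨φ, e, C, φ.2, Finset.mem_image.2 ⟨1, Finset.mem_univ _, conjFun_one Lk _⟩, hφ,
    Nat.pos_of_ne_zero fun h => hφ (he'.trans (by rw [h, Nat.cast_zero])), hC, ?_, hcl⟩
  have hd := clifford_degree Lk hθ φ.2 hφ
  rw [he'] at hd
  have h1 := congrFun hcl 1
  simp only [Pi.smul_apply, Finset.sum_apply, smul_eq_mul] at h1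
  rw [Finset.sum_congr rfl (g := fun _ => (φ : Lk → ℂ) 1) fun ψ hψ => by
    obtain ⟨g, -, rfl⟩ := Finset.mem_image.1 hψ
    simp [conjFun]; rfl, Finset.sum_const, nsmul_eq_mul] at h1
  have h2 : (e : ℂ) * ((inertia Lk (φ : Lk → ℂ)).index : ℂ) * (φ : Lk → ℂ) 1 =
      (e : ℂ) * (C.card : ℂ) * (φ : Lk → ℂ) 1 := by
    rw [← hd, mul_assoc, ← h1]
    rfl
  have he0 : (e : ℂ) ≠ 0 := fun h => hφ (he'.trans h)
  have h3 := mul_left_cancel₀ he0 (mul_right_cancel₀ (irr_one_ne_zero φ) h2)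
  exact_mod_cast h3.symm

theorem restrict_trichotomy (hab : ∀ a b : K, a * b * a⁻¹ * b⁻¹ ∈ Lk)
    (σ : Set (MulAut K)) (hσL : ∀ s ∈ σ, ∀ x : K, x ∈ Lk ↔ s x ∈ Lk)
    (hchief : ∀ M : Subgroup K, Lk ≤ M → (∀ s ∈ σ, ∀ x ∈ M, s x ∈ M) → M = Lk ∨ M = ⊤)
    {θ : K → ℂ} (hθ : IsIrrCharacter K θ) (hinv : ∀ s ∈ σ, ∀ x : K, θ (s x) = θ x) :
    IsIrrCharacter Lk (fun n : Lk => θ n) ∨
      (∃ (φ : Lk → ℂ) (e : ℕ), IsIrrCharacter Lk φ ∧ (fun n : Lk => θ n) = (e : ℂ) • φ ∧ e ^ 2 = Lk.index) ∨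
      ∃ F : Finset (Lk → ℂ), (∀ φ ∈ F, IsIrrCharacter Lk φ) ∧ F.card = Lk.index ∧
        (fun n : Lk => θ n) = ∑ φ ∈ F, φ := by
  classical
  obtain ⟨φ, e, C, hφ, hφC, hφ0, he, hC, hcard, hres⟩ := exists_orbit_form Lk hθ
  have hnorm := classInner_restrict_self Lk hC hres rfl
  set T := inertia Lk φ with hT
  have hLT : Lk ≤ T := le_inertia Lk (isClassFunction_of_isCharacter (isCharacter_of_isIrr hφ))
  have hTinv : ∀ s ∈ σ, ∀ x ∈ T, s x ∈ T := by
    intro s hs x hx
    let ψ : Lk → ℂ := fun n => φ ⟨s.symm n, by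
      have := hσL s hs (s.symm n)
      rw [MulEquiv.apply_symm_apply] at this
      exact this.2 n.2⟩
    let f : Lk →* Lk :=
      { toFun := fun n => ⟨s.symm n, by
          have := hσL s hs (s.symm n)
          rw [MulEquiv.apply_symm_apply] at this
          exact this.2 n.2⟩
        map_one' := Subtype.ext (by simp)
        map_mul' := fun a b => Subtype.ext (by simp) }
    have hf : Function.Bijective f := Finite.injective_iff_bijective.1 fun a b h =>
      Subtype.ext (s.symm.injective (congrArg Subtype.val h))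
    have hψ : IsIrrCharacter Lk ψ := isIrrCharacter_comp_surjective hφ f hf.2
    have hψ0 : classInner (fun n : Lk => θ n) ψ ≠ 0 := by
      refine fun h => hφ0 ?_
      rw [← h]
      simp only [classInner]
      congr 1
      refine (Fintype.sum_bijective f hf _ _ fun n => ?_).symm
      show θ n * conj (φ (f n)) = θ (f n : K) * conj (φ (f n))
      congr 1
      have := hinv s hs (s.symm n)
      rw [MulEquiv.apply_symm_apply] at this
      exact this
    obtain ⟨k, hk⟩ : ∃ k : K, conjFun Lk φ k = ψ := by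
      by_contra h
      push Not at h
      exact hψ0 (classInner_restrict_zero Lk hθ hφ hψ hφ0 h)
    have hTk : k * s x * k⁻¹ ∈ T := by
      have hsx : conjFun Lk ψ (s x) = ψ := by
        funext n
        show φ _ = φ _
        have e := congrFun ((mem_inertia Lk φ x).1 hx) (f n)
        rw [show φ ⟨s.symm n, _⟩ = φ (f n) from rfl, ← e]
        exact congrArg φ (Subtype.ext (by simp [f]))
      rw [mem_inertia, conjFun_mul, conjFun_mul, hk, hsx, ← hk, conjFun_inv_cancel]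
    have h2 := mul_mem (hLT (inv_mem (hab k (s x)))) hTk
    rwa [show (k * s x * k⁻¹ * (s x)⁻¹)⁻¹ * (k * s x * k⁻¹) = s x by group] at h2
  haveI := Fintype.ofFinite (linearOver Lk)
  have hid : ∑ f : linearOver Lk, classInner (fun k : K => (((f : K →* ℂˣ) k : ℂˣ) : ℂ) * θ k) θ =
      classInner (fun n : Lk => θ n) (fun n : Lk => θ n) := by
    simp only [classInner]
    rw [← Finset.mul_sum, Finset.sum_comm]
    have h1 : ∀ k : K, ∑ f : linearOver Lk, (((f : K →* ℂˣ) k : ℂˣ) : ℂ) * θ k * conj (θ k) =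
        (if k ∈ Lk then (Lk.index : ℂ) * (θ k * conj (θ k)) else 0) := by
      intro k
      rw [← Finset.sum_mul, ← Finset.sum_mul, sum_linearOver Lk hab k]
      split_ifs <;> ring
    rw [Finset.sum_congr rfl fun k _ => h1 k, ← Finset.sum_filter,
      Finset.sum_subtype (p := fun k => k ∈ Lk) _ (fun k => by simp), Finset.mul_sum, Finset.mul_sum]
    refine Finset.sum_congr rfl fun n _ => ?_
    have h2 : ((Lk.index : ℕ) : ℂ) * (Nat.card Lk : ℂ) = (Nat.card K : ℂ) := by exact_mod_cast Lk.index_mul_card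
    have h3 : (Nat.card K : ℂ) ≠ 0 := Nat.cast_ne_zero.2 Nat.card_pos.ne'
    have h4 : (Nat.card Lk : ℂ) ≠ 0 := Nat.cast_ne_zero.2 Nat.card_pos.ne'
    field_simp
    linear_combination (θ n * conj (θ n)) * h2
  have hterm : ∀ f : K →* ℂˣ, classInner (fun k : K => ((f k : ℂˣ) : ℂ) * θ k) θ =
      if linMul f ⟨θ, hθ⟩ = ⟨θ, hθ⟩ then (1 : ℂ) else 0 := fun f => classInner_irr (linMul f ⟨θ, hθ⟩) ⟨θ, hθ⟩
  simp only [hterm, hnorm] at hid
  rw [Finset.sum_boole, Nat.cast_inj] at hid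
  have hle : (Finset.univ.filter fun f : linearOver Lk => linMul (f : K →* ℂˣ) ⟨θ, hθ⟩ = ⟨θ, hθ⟩).card ≤ Lk.index := by
    rw [← card_linearOver Lk hab, Nat.card_eq_fintype_card]
    exact Finset.card_le_univ _
  rcases hchief T hLT hTinv with h | h
  · -- distinct conjugates
    refine Or.inr (Or.inr ⟨C, hC, hcard.trans (by rw [h]), ?_⟩)
    rw [hid, hcard, h] at hle
    have he1 : e ^ 2 ≤ 1 := Nat.le_of_mul_le_mul_right (by rwa [one_mul]) (Nat.pos_of_ne_zero Subgroup.index_ne_zero_of_finite)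
    have : e = 1 := by nlinarith
    rw [hres, this, Nat.cast_one, one_smul]
  have hC1 : C = {φ} := by
    rw [h, Subgroup.index_top] at hcard
    obtain ⟨a, ha⟩ := Finset.card_eq_one.1 hcard
    rw [ha, Finset.mem_singleton] at hφC
    rw [ha, hφC]
  rw [hC1, Finset.sum_singleton] at hres
  rw [hC1, Finset.card_singleton, mul_one] at hid
  let M : Subgroup K :=
    { carrier := {k | ∀ f ∈ linearOver Lk, linMul f ⟨θ, hθ⟩ = ⟨θ, hθ⟩ → f k = 1}
      one_mem' := fun f _ _ => map_one f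
      mul_mem' := fun {a b} ha hb f hf hfθ => by rw [map_mul, ha f hf hfθ, hb f hf hfθ, one_mul]
      inv_mem' := fun {a} ha f hf hfθ => by rw [map_inv, ha f hf hfθ, inv_one] }
  have hLM : Lk ≤ M := fun k hk f hf _ => hf k hk
  have hMinv : ∀ s ∈ σ, ∀ x ∈ M, s x ∈ M := by
    intro s hs x hx f hf hfθ
    refine hx (f.comp s.toMonoidHom) (fun k hk => hf _ ((hσL s hs k).1 hk)) (Subtype.ext (funext fun k => ?_))
    show ((f (s k) : ℂˣ) : ℂ) * θ k = θ k
    have := congrFun (congrArg Subtype.val hfθ) (s k)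
    simp only [linMul] at this
    rwa [hinv s hs] at this
  rcases hchief M hLM hMinv with hM | hM
  · -- fully ramified
    refine Or.inr (Or.inl ⟨φ, e, hφ, hres, ?_⟩)
    have hvan : ∀ k, k ∉ Lk → θ k = 0 := by
      intro k hk
      by_contra h0
      refine hk (hM ▸ (show k ∈ M from fun f hf hfθ => ?_))
      have := congrFun (congrArg Subtype.val hfθ) k
      simp only [linMul] at this
      exact Units.ext ((mul_eq_right₀ h0).1 this)
    have h1 : classInner θ θ = 1 := classInner_irr_self ⟨θ, hθ⟩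
    have h2 : (e ^ 2 : ℕ) = Lk.index := by
      have hn := hnorm
      rw [hC1, Finset.card_singleton, mul_one] at hn
      have : ((e ^ 2 : ℕ) : ℂ) = (Lk.index : ℂ) := by
        rw [← hn, ← mul_one (Lk.index : ℂ), ← h1]
        simp only [classInner]
        rw [← Finset.sum_subset (s₁ := Finset.univ.filter (· ∈ Lk)) (Finset.filter_subset _ _)
          (fun k _ hk => by rw [hvan k (fun h' => hk (Finset.mem_filter.2 ⟨Finset.mem_univ _, h'⟩)), zero_mul]),
          Finset.sum_subtype (p := fun k => k ∈ Lk) _ (fun k => by simp), ← mul_assoc]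
        congr 1
        have h2 : ((Lk.index : ℕ) : ℂ) * (Nat.card Lk : ℂ) = (Nat.card K : ℂ) := by exact_mod_cast Lk.index_mul_card
        have h3 : (Nat.card K : ℂ) ≠ 0 := Nat.cast_ne_zero.2 Nat.card_pos.ne'
        have h4 : (Nat.card Lk : ℂ) ≠ 0 := Nat.cast_ne_zero.2 Nat.card_pos.ne'
        field_simp
        linear_combination -h2
      exact_mod_cast this
    exact h2
  · -- irreducible
    refine Or.inl ?_
    have h1 : (Finset.univ.filter fun f : linearOver Lk => linMul (f : K →* ℂˣ) ⟨θ, hθ⟩ = ⟨θ, hθ⟩).card ≤ 1 := by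
      refine Finset.card_le_one.2 fun f hf f' hf' => ?_
      have key : ∀ f : linearOver Lk, linMul (f : K →* ℂˣ) ⟨θ, hθ⟩ = ⟨θ, hθ⟩ → f = 1 := fun f hfθ =>
        Subtype.ext (MonoidHom.ext fun k => (show k ∈ M from hM ▸ Subgroup.mem_top k) f f.2 hfθ)
      rw [key f (Finset.mem_filter.1 hf).2, key f' (Finset.mem_filter.1 hf').2]
    rw [hid] at h1
    have : e = 1 := by nlinarith
    rw [hres, this, Nat.cast_one, one_smul]
    exact hφ

end CfsgLib.Char.ChiefFactor
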