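import Cfsg.Agent.Lib.Block.ItoMichler

/-!
# Characters whose codegree is a power of `p`
-/

set_option autoImplicit false
set_option linter.unusedSectionVars false
set_option linter.style.haveILetI false

namespace CfsgLib.Char.CodegreePPower

open Cfsg CfsgLib

universe u

variable {G : Type u} [Group G] [Fintype G] {p : ℕ} [hp : Fact p.Prime]

theorem exists_sylow_induced (χ : IrrCharacter G) {k : ℕ}
    (hk : Nat.card G = p ^ k * charDegree (χ : G → ℂ)) (P : Sylow p G) :
    ∃ θ : ↥(P : Subgroup G) → ℂ, IsCharacter (P : Subgroup G) θ ∧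
      (χ : G → ℂ) = indFun (P : Subgroup G) θ := by
  classical
  have := Fintype.ofFinite (P : Subgroup G)
  have := Fintype.ofFinite (IrrCharacter (P : Subgroup G))
  have := Fintype.ofFinite (IrrCharacter G)
  set H : Subgroup G := (P : Subgroup G)
  have hres : IsCharacter H fun h : H => (χ : G → ℂ) h :=
    Char.isCharacter_comp (Char.isCharacter_irr χ) H.subtype
  choose m hm using fun θ : IrrCharacter H =>
    Char.classInner_isCharacter hres (Char.isCharacter_irr θ)
  have hsum : charDegree (χ : G → ℂ) = ∑ θ : IrrCharacter H, m θ * charDegree (θ : H → ℂ) := by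
    have h1 := congrFun (Char.classFun_expand (Char.isClassFunction_of_isCharacter hres)) 1
    rw [Finset.sum_apply] at h1
    simp only [Pi.smul_apply, smul_eq_mul, hm, Block.ItoMichler.one_eq_cast, OneMemClass.coe_one] at h1
    exact_mod_cast h1
  obtain ⟨a, ha⟩ := IsPGroup.iff_card.1 P.isPGroup'
  have hpow : ∀ θ : IrrCharacter H, ∃ i ≤ a, charDegree (θ : H → ℂ) = p ^ i := fun θ =>
    (Nat.dvd_prime_pow hp.out).1 (ha ▸ Char.degree_dvd_card θ (Block.ItoMichler.one_eq_cast θ))
  choose ex hexa hex using hpow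
  have hne : (Finset.univ.filter fun θ : IrrCharacter H => m θ ≠ 0).Nonempty := by
    by_contra he
    rw [Finset.not_nonempty_iff_eq_empty, Finset.filter_eq_empty_iff] at he
    have h0 : charDegree (χ : G → ℂ) = 0 := by
      rw [hsum]
      exact Finset.sum_eq_zero fun θ h => by rw [not_not.1 (he h), zero_mul]
    rw [h0, mul_zero] at hk
    exact Nat.card_pos.ne' hk
  obtain ⟨θ, hθ, hmin⟩ := Finset.exists_min_image _ ex hne
  refine ⟨(θ : H → ℂ), Char.isCharacter_irr θ, ?_⟩
  have hdvd : p ^ ex θ ∣ charDegree (χ : G → ℂ) := by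
    rw [hsum]
    refine Finset.dvd_sum fun ψ _ => ?_
    by_cases h0 : m ψ = 0
    · rw [h0, zero_mul]
      exact dvd_zero _
    · exact Dvd.dvd.mul_left (hex ψ ▸ pow_dvd_pow p (hmin ψ (Finset.mem_filter.2 ⟨Finset.mem_univ _, h0⟩))) _
  have hidx : H.index ∣ charDegree (χ : G → ℂ) := by
    refine (Nat.Coprime.dvd_mul_left ?_).1 (hk ▸ Subgroup.index_dvd_card H : H.index ∣ p ^ k * _)
    exact (Nat.Coprime.pow_left k ((Nat.Prime.coprime_iff_not_dvd hp.out).2 P.not_dvd_index)).symm
  have hle : H.index * charDegree (θ : H → ℂ) ≤ charDegree (χ : G → ℂ) := by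
    rw [hex]
    refine Nat.le_of_dvd (Nat.pos_of_ne_zero fun h0 => ?_) (Nat.Coprime.mul_dvd_of_dvd_of_dvd ?_ hidx hdvd)
    · rw [h0, mul_zero] at hk
      exact Nat.card_pos.ne' hk
    · exact (Nat.Coprime.pow_left _ ((Nat.Prime.coprime_iff_not_dvd hp.out).2 P.not_dvd_index)).symm
  choose c hc using fun ψ : IrrCharacter G =>
    Char.classInner_isCharacter (Char.isCharacter_indFun H (Char.isCharacter_irr θ)) (Char.isCharacter_irr ψ)
  have hexp := Char.classFun_expand (Char.isClassFunction_indFun H (θ : H → ℂ))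
  have hcχ : c χ ≠ 0 := by
    intro h0
    have h1 := hc χ
    rw [h0, Nat.cast_zero, Char.classInner_indFun H (θ : H → ℂ) _ (Char.isClassFunction_irr χ),
      ← Char.classInner_conj, hm θ] at h1
    refine (Finset.mem_filter.1 hθ).2 ?_
    simpa using h1
  have hdeg : H.index * charDegree (θ : H → ℂ) = ∑ ψ : IrrCharacter G, c ψ * charDegree (ψ : G → ℂ) := by
    have h1 := congrFun hexp 1
    rw [Finset.sum_apply, Char.indFun_one] at h1
    simp only [Pi.smul_apply, smul_eq_mul, hc, Block.ItoMichler.one_eq_cast] at h1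
    exact_mod_cast h1
  have hχ1 : 0 < charDegree (χ : G → ℂ) := Nat.pos_of_ne_zero fun h0 => by
    rw [h0, mul_zero] at hk
    exact Nat.card_pos.ne' hk
  have hsplit := Finset.add_sum_erase (Finset.univ : Finset (IrrCharacter G))
    (fun ψ => c ψ * charDegree (ψ : G → ℂ)) (Finset.mem_univ χ)
  have h1le : 1 ≤ c χ := Nat.one_le_iff_ne_zero.2 hcχ
  have hle2 : charDegree (χ : G → ℂ) ≤ c χ * charDegree (χ : G → ℂ) := Nat.le_mul_of_pos_left _ h1le
  have hrest : ∑ ψ ∈ Finset.univ.erase χ, c ψ * charDegree (ψ : G → ℂ) = 0 := by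
    try simp only at hsplit
    omega
  have hc1 : c χ = 1 := by
    try simp only at hsplit
    have h2 : c χ * charDegree (χ : G → ℂ) = 1 * charDegree (χ : G → ℂ) := by omega
    exact Nat.eq_of_mul_eq_mul_right hχ1 h2
  rw [hexp, Finset.sum_eq_single χ]
  · rw [hc, hc1, Nat.cast_one, one_smul]
  · intro ψ _ hψ
    have h2 := (Finset.sum_eq_zero_iff.1 hrest) ψ (Finset.mem_erase.2 ⟨hψ, Finset.mem_univ _⟩)
    have hψ1 : charDegree (ψ : G → ℂ) ≠ 0 := fun h0 => Char.irr_one_ne_zero ψ (by
      rw [Block.ItoMichler.one_eq_cast ψ, h0, Nat.cast_zero])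
    rw [hc, (Nat.mul_eq_zero.1 h2).resolve_right hψ1, Nat.cast_zero, zero_smul]
  · exact fun h => absurd (Finset.mem_univ χ) h

theorem codegree_of_induced (χ : IrrCharacter G) (P : Sylow p G) (θ : ↥(P : Subgroup G) → ℂ)
    (hθ : IsCharacter (P : Subgroup G) θ) (hχ : (χ : G → ℂ) = indFun (P : Subgroup G) θ) :
    ∃ k : ℕ, Nat.card G = p ^ k * charDegree (χ : G → ℂ) := by
  classical
  obtain ⟨d, hd⟩ := Char.isCharacter_degree hθ
  have h1 : charDegree (χ : G → ℂ) = (P : Subgroup G).index * d := by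
    have h := congrFun hχ 1
    rw [Char.indFun_one, hd, Block.ItoMichler.one_eq_cast] at h
    exact_mod_cast h
  obtain ⟨a, ha⟩ := IsPGroup.iff_card.1 P.isPGroup'
  have h2 := Char.degree_dvd_card χ (Block.ItoMichler.one_eq_cast χ)
  rw [h1, ← (P : Subgroup G).card_mul_index, mul_comm (Nat.card (P : Subgroup G)), ha] at h2
  obtain ⟨i, hi, hdi⟩ := (Nat.dvd_prime_pow hp.out).1
    (Nat.dvd_of_mul_dvd_mul_left (Nat.pos_of_ne_zero (P : Subgroup G).index_ne_zero_of_finite) h2)
  refine ⟨a - i, ?_⟩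
  rw [h1, hdi, ← (P : Subgroup G).card_mul_index, ha, mul_comm _ (p ^ i), ← mul_assoc, ← pow_add,
    Nat.sub_add_cancel hi]

end CfsgLib.Char.CodegreePPower
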