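import Cfsg.Agent.Lib.Char.CoherenceBasic

/-!
# Coherence systems: projection bound, constant degree, extension criterion
-/

set_option autoImplicit false
set_option linter.unusedSectionVars false

namespace CfsgLib.Char

open scoped ComplexConjugate
open Cfsg

universe u v

variable {L : Type u} [Group L] [Fintype L] {G : Type v} [Group G] [Fintype G]

/-- The coherence system of a set of irreducible characters. -/
theorem exists_coherenceSystem_irr (S : Set (L → ℂ)) (hS : S.Nonempty)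
    (hirr : ∀ χ ∈ S, IsIrrCharacter L χ) (hconj : ∀ χ ∈ S, Cfsg.conjFun χ ∈ S ∧ Cfsg.conjFun χ ≠ χ)
    (τ : (L → ℂ) → (G → ℂ)) (hτ : IsLinearIsometryOn (zspanOn S {1}ᶜ) τ)
    (hτ1 : ∀ α ∈ zspanOn S {1}ᶜ, τ α 1 = 0) :
    ∃ R : (L → ℂ) → Finset (G → ℂ), IsCoherenceSystem S τ R := by
  classical
  have horth : ∀ χ ∈ S, ∀ φ ∈ S, χ ≠ φ → classInner χ φ = 0 := fun χ hχ φ hφ hne =>
    classInner_irr_ne (χ := ⟨χ, hirr χ hχ⟩) (ψ := ⟨φ, hirr φ hφ⟩) fun e => hne (congrArg Subtype.val e)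
  have hmem : ∀ χ ∈ S, χ - Cfsg.conjFun χ ∈ zspanOn S {1}ᶜ := fun χ hχ =>
    mem_zspanOn_one_iff.mpr ⟨zspan_sub (zspan_subset_mem hχ) (zspan_subset_mem (hconj χ hχ).1), by
      show χ 1 - conj (χ 1) = 0
      rw [conj_irr_one ⟨χ, hirr χ hχ⟩, sub_self]⟩
  have hdata : ∀ χ, ∃ μ ν : IrrCharacter G, χ ∈ S →
      μ ≠ ν ∧ τ (χ - Cfsg.conjFun χ) = (μ : G → ℂ) - (ν : G → ℂ) := by
    intro χ
    by_cases hχ : χ ∈ S
    · obtain ⟨μ, ν, h1, h2⟩ := exists_sub_of_norm_two (hτ.2.2.2 _ (hmem χ hχ)) (by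
        rw [hτ.2.2.1 _ (hmem χ hχ) _ (hmem χ hχ), classInner_sub_left, classInner_sub_right,
          classInner_sub_right, horth χ hχ _ (hconj χ hχ).1 (hconj χ hχ).2.symm,
          horth _ (hconj χ hχ).1 χ hχ (hconj χ hχ).2, classInner_irr_self ⟨χ, hirr χ hχ⟩,
          classInner_irr_self ⟨_, hirr _ (hconj χ hχ).1⟩]
        norm_num) (hτ1 _ (hmem χ hχ))
      exact ⟨μ, ν, fun _ => ⟨h1, h2⟩⟩
    · exact ⟨⟨_, isIrrCharacter_one⟩, ⟨_, isIrrCharacter_one⟩, fun h => absurd h hχ⟩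
  choose μ ν hμν using hdata
  have hneg : ∀ a b : IrrCharacter G, (a : G → ℂ) ≠ -(b : G → ℂ) := fun a b h => by
    obtain ⟨da, hda, hda'⟩ := isIrrCharacter_degree a.2
    obtain ⟨db, -, hdb'⟩ := isIrrCharacter_degree b.2
    have h1 : ((da + db : ℕ) : ℂ) = 0 := by
      push_cast
      rw [← hda', ← hdb', h, Pi.neg_apply, neg_add_cancel]
    rw [Nat.cast_eq_zero] at h1
    omega
  refine ⟨fun χ => {(μ χ : G → ℂ), -(ν χ : G → ℂ)}, ⟨hS,
    fun χ hχ => isCharacter_of_isIrr (hirr χ hχ), fun χ hχ => (hconj χ hχ).1,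
    fun χ hχ => (hconj χ hχ).2, hτ, hτ1, horth, fun χ hχ α hα β hβ => ?_, fun χ hχ α hα => ?_,
    fun χ hχ => ?_, fun χ hχ φ hφ h1 h2 α hα β hβ => ?_⟩⟩
  · rw [Finset.mem_insert, Finset.mem_singleton] at hα hβ
    have hne := (hμν χ hχ).1
    rcases hα with rfl | rfl <;> rcases hβ with rfl | rfl
    · rw [classInner_irr_self, if_pos rfl]
    · rw [classInner_neg_right, classInner_irr_ne hne, neg_zero, if_neg (hneg _ _)]
    · rw [classInner_neg_left, classInner_irr_ne hne.symm, neg_zero, if_neg (hneg _ _).symm]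
    · rw [classInner_neg_left, classInner_neg_right, neg_neg, classInner_irr_self, if_pos rfl]
  · rw [Finset.mem_insert, Finset.mem_singleton] at hα
    rcases hα with rfl | rfl
    · exact isGeneralizedCharacter_of_isCharacter (isCharacter_irr _)
    · exact isGeneralizedCharacter_neg (isGeneralizedCharacter_of_isCharacter (isCharacter_irr _))
  · show τ (χ - Cfsg.conjFun χ) = ∑ α ∈ {(μ χ : G → ℂ), -(ν χ : G → ℂ)}, α
    rw [(hμν χ hχ).2, Finset.sum_pair (hneg _ _)]
    abel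
  · have e1 := (hμν χ hχ).1
    have e2 := (hμν φ hφ).1
    have hz : classInner (τ (φ - Cfsg.conjFun φ)) (τ (χ - Cfsg.conjFun χ)) = 0 := by
      have hne1 : φ ≠ χ := fun e => by
        rw [e, classInner_irr_self ⟨χ, hirr χ hχ⟩] at h1; exact one_ne_zero h1
      have hne2 : φ ≠ Cfsg.conjFun χ := fun e => by
        rw [e, classInner_irr_self ⟨_, hirr _ (hconj χ hχ).1⟩] at h2; exact one_ne_zero h2
      have hcc : ∀ f : L → ℂ, Cfsg.conjFun (Cfsg.conjFun f) = f := fun f =>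
        funext fun x => Complex.conj_conj _
      rw [hτ.2.2.1 _ (hmem φ hφ) _ (hmem χ hχ), classInner_sub_left, classInner_sub_right,
        classInner_sub_right, h1, h2, horth _ (hconj φ hφ).1 χ hχ (fun e => hne2 (by rw [← e, hcc])),
        horth _ (hconj φ hφ).1 _ (hconj χ hχ).1 (fun e => hne1 (by rw [← hcc φ, e, hcc]))]
      ring
    rw [(hμν φ hφ).2, (hμν χ hχ).2, classInner_sub_left, classInner_sub_right, classInner_sub_right,
      classInner_irr, classInner_irr, classInner_irr, classInner_irr] at hz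
    rw [Finset.mem_insert, Finset.mem_singleton] at hα hβ
    -- all four possible coincidences are excluded
    have key : μ φ ≠ μ χ ∧ μ φ ≠ ν χ ∧ ν φ ≠ μ χ ∧ ν φ ≠ ν χ := by
      refine ⟨fun e => ?_, fun e => ?_, fun e => ?_, fun e => ?_⟩
      · rw [if_pos e, if_neg (fun h : μ φ = ν χ => e1 (e.symm.trans h)),
          if_neg (fun h : ν φ = μ χ => e2 (e.trans h.symm))] at hz
        split_ifs at hz <;> norm_num at hz
      · rw [if_pos e, if_neg (fun h : μ φ = μ χ => e1 (h.symm.trans e)),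
          if_neg (fun h : ν φ = ν χ => e2 (e.trans h.symm))] at hz
        split_ifs at hz <;> norm_num at hz
      · rw [if_pos e, if_neg (fun h : μ φ = μ χ => e2 (h.trans e.symm)),
          if_neg (fun h : ν φ = ν χ => e1 (e.symm.trans h))] at hz
        split_ifs at hz <;> norm_num at hz
      · rw [if_pos e, if_neg (fun h : μ φ = ν χ => e2 (h.trans e.symm)),
          if_neg (fun h : ν φ = μ χ => e1 (h.symm.trans e))] at hz
        split_ifs at hz <;> norm_num at hz
    rcases hα with rfl | rfl <;> rcases hβ with rfl | rfl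
    · exact classInner_irr_ne key.1
    · rw [classInner_neg_right, classInner_irr_ne key.2.1, neg_zero]
    · rw [classInner_neg_left, classInner_irr_ne key.2.2.1, neg_zero]
    · rw [classInner_neg_left, classInner_neg_right, classInner_irr_ne key.2.2.2, neg_zero, neg_zero]

section System

variable {S : Set (L → ℂ)} {τ : (L → ℂ) → (G → ℂ)} {R : (L → ℂ) → Finset (G → ℂ)}

theorem cs_self_ne_zero (hS : IsCoherenceSystem S τ R) {φ : L → ℂ} (hφ : φ ∈ S) :
    classInner φ φ ≠ 0 := fun h => hS.conj_ne φ hφ (by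
  rw [classInner_self_eq_zero h]
  funext x
  exact map_zero (starRingEnd ℂ))

theorem cs_conj_self (hS : IsCoherenceSystem S τ R) {φ : L → ℂ} (hφ : φ ∈ S) :
    classInner (Cfsg.conjFun φ) (Cfsg.conjFun φ) = classInner φ φ := by
  rw [classInner_starFun]
  exact classInner_conj φ φ

theorem cs_conj_conj (f : L → ℂ) : Cfsg.conjFun (Cfsg.conjFun f) = f :=
  funext fun _ => Complex.conj_conj _

theorem cs_orth_conj (hS : IsCoherenceSystem S τ R) {φ : L → ℂ} (hφ : φ ∈ S) :
    classInner φ (Cfsg.conjFun φ) = 0 :=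
  hS.orthogonal φ hφ _ (hS.conj_mem φ hφ) (hS.conj_ne φ hφ).symm

theorem cs_orth_conj' (hS : IsCoherenceSystem S τ R) {φ : L → ℂ} (hφ : φ ∈ S) :
    classInner (Cfsg.conjFun φ) φ = 0 :=
  hS.orthogonal _ (hS.conj_mem φ hφ) φ hφ (hS.conj_ne φ hφ)

theorem cs_conj_one (hS : IsCoherenceSystem S τ R) {φ : L → ℂ} (hφ : φ ∈ S) :
    Cfsg.conjFun φ 1 = φ 1 := by
  obtain ⟨d, hd⟩ := isCharacter_degree (hS.isCharacter φ hφ)
  show conj (φ 1) = φ 1
  rw [hd, map_natCast]

theorem cs_sub_conj_mem (hS : IsCoherenceSystem S τ R) {φ : L → ℂ} (hφ : φ ∈ S) :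
    φ - Cfsg.conjFun φ ∈ zspanOn S {1}ᶜ :=
  mem_zspanOn_one_iff.mpr ⟨zspan_sub (zspan_subset_mem hφ) (zspan_subset_mem (hS.conj_mem φ hφ)),
    by rw [Pi.sub_apply, cs_conj_one hS hφ, sub_self]⟩

theorem cs_degree_pos (hS : IsCoherenceSystem S τ R) {φ : L → ℂ} (hφ : φ ∈ S) : φ 1 ≠ 0 := by
  intro h
  obtain ⟨m, ρ, rfl⟩ := hS.isCharacter φ hφ
  rw [Representation.char_one, Nat.cast_eq_zero] at h
  refine cs_self_ne_zero hS hφ ?_
  have hm := Module.finrank_zero_iff.mp h
  have : ρ.character = 0 := funext fun g => by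
    rw [Representation.character, Subsingleton.elim (ρ g) 0, map_zero, Pi.zero_apply]
  rw [this, classInner_zero_left]

theorem cs_norm_nat (hS : IsCoherenceSystem S τ R) {φ : L → ℂ} (hφ : φ ∈ S) :
    ∃ n : ℕ, classInner φ φ = n := classInner_isCharacter (hS.isCharacter φ hφ) (hS.isCharacter φ hφ)

theorem cs_card_R (hS : IsCoherenceSystem S τ R) {φ : L → ℂ} (hφ : φ ∈ S) :
    ((R φ).card : ℂ) = 2 * classInner φ φ := by
  classical
  have h := hS.isometry.2.2.1 _ (cs_sub_conj_mem hS hφ) _ (cs_sub_conj_mem hS hφ)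
  rw [classInner_sub_left φ, classInner_sub_right φ, classInner_sub_right (Cfsg.conjFun φ),
    cs_orth_conj hS hφ, cs_orth_conj' hS hφ, cs_conj_self hS hφ, hS.sum_eq φ hφ, classInner_sum_left,
    Finset.sum_congr rfl (g := fun _ => (1 : ℂ)) fun α hα => ?_, Finset.sum_const, nsmul_eq_mul,
    mul_one] at h
  · rw [h]; ring
  · rw [classInner_sum_right, Finset.sum_eq_single α
      (fun β hβ hne => by rw [hS.orthonormal φ hφ α hα β hβ, if_neg hne.symm]) (fun h => absurd hα h),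
      hS.orthonormal φ hφ α hα α hα, if_pos rfl]

/-- The projection bound of a coherence system. -/
theorem cs_projection (hS : IsCoherenceSystem S τ R) {χ ψ : L → ℂ} (hχ : χ ∈ S) (hψ : ψ ∈ zspan S)
    (h1 : classInner χ ψ = 0) (h2 : classInner (Cfsg.conjFun χ) ψ = 0) (τ₁ : (L → ℂ) → (G → ℂ))
    (hτ₁ : IsLinearIsometryOn (zspan {χ - ψ, χ - Cfsg.conjFun χ}) τ₁)
    (hagree : τ₁ (χ - Cfsg.conjFun χ) = τ (χ - Cfsg.conjFun χ)) :
    ∃ c : (G → ℂ) → ℤ, (∀ α ∈ R χ, classInner (τ₁ (χ - ψ)) α = c α) ∧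
      classInner χ χ = ((∑ α ∈ R χ, c α : ℤ) : ℂ) ∧
      ((∑ α ∈ R χ, c α ^ 2 : ℤ) : ℝ) ≤ (classInner (τ₁ (χ - ψ)) (τ₁ (χ - ψ))).re := by
  classical
  have hm1 : χ - ψ ∈ zspan ({χ - ψ, χ - Cfsg.conjFun χ} : Set (L → ℂ)) :=
    zspan_subset_mem (Set.mem_insert _ _)
  have hm2 : χ - Cfsg.conjFun χ ∈ zspan ({χ - ψ, χ - Cfsg.conjFun χ} : Set (L → ℂ)) :=
    zspan_subset_mem (Set.mem_insert_of_mem _ rfl)
  obtain ⟨c, hc, hle, -⟩ :=
    orthonormal_bound (hS.orthonormal χ hχ) (hS.virtual χ hχ) (hτ₁.2.2.2 _ hm1)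
  refine ⟨c, hc, ?_, hle⟩
  rw [Int.cast_sum, ← Finset.sum_congr rfl hc, ← classInner_sum_right, ← hS.sum_eq χ hχ, ← hagree,
    hτ₁.2.2.1 _ hm1 _ hm2, classInner_sub_left, classInner_sub_right, classInner_sub_right,
    cs_orth_conj hS hχ, ← classInner_conj χ ψ, ← classInner_conj (Cfsg.conjFun χ) ψ, h1, h2,
    map_zero]
  ring

theorem cs_subset_sum (hS : IsCoherenceSystem S τ R) {φ : L → ℂ} (hφ : φ ∈ S)
    {S₁ : Set (L → ℂ)} (hφ₁ : φ ∈ S₁) (hφc : Cfsg.conjFun φ ∈ S₁) {τ₁ : (L → ℂ) → (G → ℂ)}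
    (hτ₁ : IsLinearIsometryOn (zspan S₁) τ₁) (hag : ∀ a ∈ zspanOn S₁ {1}ᶜ, τ₁ a = τ a) :
    ∃ T ⊆ R φ, τ₁ φ = ∑ α ∈ T, α := by
  have hm := zspan_subset_mem hφ₁
  have hmc := zspan_subset_mem hφc
  have hsub : φ - Cfsg.conjFun φ ∈ zspanOn S₁ {1}ᶜ :=
    mem_zspanOn_one_iff.mpr ⟨zspan_sub hm hmc, by rw [Pi.sub_apply, cs_conj_one hS hφ, sub_self]⟩
  obtain ⟨T, hT, he, -⟩ := eq_subset_sum (hS.orthonormal φ hφ) (hS.virtual φ hφ) (hτ₁.2.2.2 _ hm) (by
    rw [← hS.sum_eq φ hφ, ← hag _ hsub, hτ₁.2.2.1 _ hm _ hsub.1, hτ₁.2.2.1 _ hm _ hm,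
      classInner_sub_right, cs_orth_conj hS hφ, sub_zero])
  exact ⟨T, hT, he⟩

open Classical in
/-- A subset sum has the cardinality as norm and as inner product with the whole. -/
theorem cs_inner_subset (hS : IsCoherenceSystem S τ R) {φ : L → ℂ} (hφ : φ ∈ S)
    {T U : Finset (G → ℂ)} (hT : T ⊆ R φ) (hU : U ⊆ R φ) :
    classInner (∑ α ∈ T, α) (∑ α ∈ U, α) = ((T ∩ U).card : ℂ) := by
  rw [classInner_sum_left, Finset.sum_congr rfl (g := fun α => if α ∈ U then (1 : ℂ) else 0)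
    fun α hα => ?_, Finset.sum_boole, Finset.filter_mem_eq_inter]
  rw [classInner_sum_right, Finset.sum_congr rfl (g := fun β => if α = β then (1 : ℂ) else 0)
    fun β hβ => hS.orthonormal φ hφ α (hT hα) β (hU hβ), Finset.sum_ite_eq]

theorem cs_R_orth (hS : IsCoherenceSystem S τ R) {φ χ : L → ℂ} (hφ : φ ∈ S) (hχ : χ ∈ S)
    (h1 : φ ≠ χ) (h2 : φ ≠ Cfsg.conjFun χ) {T U : Finset (G → ℂ)} (hT : T ⊆ R φ) (hU : U ⊆ R χ) :
    classInner (∑ α ∈ T, α) (∑ α ∈ U, α) = 0 := by
  rw [classInner_sum_left]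
  refine Finset.sum_eq_zero fun α hα => ?_
  rw [classInner_sum_right]
  exact Finset.sum_eq_zero fun β hβ => hS.disjoint χ hχ φ hφ (hS.orthogonal φ hφ χ hχ h1)
    (hS.orthogonal φ hφ _ (hS.conj_mem χ hχ) h2) α (hT hα) β (hU hβ)

open Classical in
theorem cs_coef (hS : IsCoherenceSystem S τ R) {φ : L → ℂ} (hφ : φ ∈ S)
    {T : Finset (G → ℂ)} (hT : T ⊆ R φ) {α : G → ℂ} (hα : α ∈ R φ) :
    classInner (∑ β ∈ T, β) α = if α ∈ T then 1 else 0 := by
  rw [classInner_sum_left, Finset.sum_congr rfl (g := fun β => if β = α then (1 : ℂ) else 0)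
    fun β hβ => hS.orthonormal φ hφ β (hT hβ) α hα, Finset.sum_ite_eq']

theorem cs_coef_zero (hS : IsCoherenceSystem S τ R) {φ χ : L → ℂ} (hφ : φ ∈ S) (hχ : χ ∈ S)
    (h1 : φ ≠ χ) (h2 : φ ≠ Cfsg.conjFun χ) {T : Finset (G → ℂ)} (hT : T ⊆ R φ) {α : G → ℂ}
    (hα : α ∈ R χ) : classInner (∑ β ∈ T, β) α = 0 := by
  rw [classInner_sum_left]
  exact Finset.sum_eq_zero fun β hβ => hS.disjoint χ hχ φ hφ (hS.orthogonal φ hφ χ hχ h1)
    (hS.orthogonal φ hφ _ (hS.conj_mem χ hχ) h2) β (hT hβ) α hα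

/-- For members of equal degree the difference is a difference of two subset sums. -/
theorem cs_split (hS : IsCoherenceSystem S τ R) {χ φ : L → ℂ} (hχ : χ ∈ S) (hφ : φ ∈ S)
    (h1 : φ ≠ χ) (h2 : φ ≠ Cfsg.conjFun χ) (hd : φ 1 = χ 1) :
    ∃ T U : Finset (G → ℂ), T ⊆ R χ ∧ U ⊆ R φ ∧ τ (χ - φ) = ∑ α ∈ T, α - ∑ α ∈ U, α ∧
      (T.card : ℂ) = classInner χ χ := by
  classical
  have hm : χ - φ ∈ zspanOn S {1}ᶜ :=
    mem_zspanOn_one_iff.mpr ⟨zspan_sub (zspan_subset_mem hχ) (zspan_subset_mem hφ),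
      by rw [Pi.sub_apply, hd, sub_self]⟩
  have hbg := hS.isometry.2.2.2 _ hm
  have h1' : χ ≠ φ := h1.symm
  have h2' : χ ≠ Cfsg.conjFun φ := fun e => h2 (by rw [e, cs_conj_conj])
  obtain ⟨c, hc, -, -⟩ := orthonormal_bound (hS.orthonormal χ hχ) (hS.virtual χ hχ) hbg
  obtain ⟨e, he, -, -⟩ := orthonormal_bound (hS.orthonormal φ hφ) (hS.virtual φ hφ) hbg
  set b := τ (χ - φ) with hb
  have hsc : ((∑ α ∈ R χ, c α : ℤ) : ℂ) = classInner χ χ := by
    rw [Int.cast_sum, ← Finset.sum_congr rfl hc, ← classInner_sum_right, ← hS.sum_eq χ hχ, hb,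
      hS.isometry.2.2.1 _ hm _ (cs_sub_conj_mem hS hχ), classInner_sub_left, classInner_sub_right,
      classInner_sub_right, cs_orth_conj hS hχ, hS.orthogonal φ hφ χ hχ h1,
      hS.orthogonal φ hφ _ (hS.conj_mem χ hχ) h2]
    ring
  have hse : ((∑ α ∈ R φ, e α : ℤ) : ℂ) = -classInner φ φ := by
    rw [Int.cast_sum, ← Finset.sum_congr rfl he, ← classInner_sum_right, ← hS.sum_eq φ hφ, hb,
      hS.isometry.2.2.1 _ hm _ (cs_sub_conj_mem hS hφ), classInner_sub_left, classInner_sub_right,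
      classInner_sub_right, cs_orth_conj hS hφ, hS.orthogonal χ hχ φ hφ h1',
      hS.orthogonal χ hχ _ (hS.conj_mem φ hφ) h2']
    ring
  have hbb : classInner b b = classInner χ χ + classInner φ φ := by
    rw [hb, hS.isometry.2.2.1 _ hm _ hm, classInner_sub_left, classInner_sub_right,
      classInner_sub_right, hS.orthogonal φ hφ χ hχ h1, hS.orthogonal χ hχ φ hφ h1']
    ring
  -- the combined orthonormal family
  have hdisj : Disjoint (R χ) (R φ) := Finset.disjoint_left.mpr fun α hα hα' => by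
    have := hS.disjoint χ hχ φ hφ (hS.orthogonal φ hφ χ hχ h1)
      (hS.orthogonal φ hφ _ (hS.conj_mem χ hχ) h2) α hα' α hα
    rw [hS.orthonormal χ hχ α hα α hα, if_pos rfl] at this
    exact one_ne_zero this
  have hRR : ∀ α ∈ R χ ∪ R φ, ∀ β ∈ R χ ∪ R φ, classInner α β = if α = β then 1 else 0 := by
    intro α hα β hβ
    rcases Finset.mem_union.mp hα with hα | hα <;> rcases Finset.mem_union.mp hβ with hβ | hβ
    · exact hS.orthonormal χ hχ α hα β hβ
    · rw [if_neg fun e : α = β => Finset.disjoint_left.mp hdisj hα (e ▸ hβ)]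
      exact hS.disjoint φ hφ χ hχ (hS.orthogonal χ hχ φ hφ h1')
        (hS.orthogonal χ hχ _ (hS.conj_mem φ hφ) h2') α hα β hβ
    · rw [if_neg fun e : α = β => Finset.disjoint_left.mp hdisj (e ▸ hβ : α ∈ R χ) hα]
      exact hS.disjoint χ hχ φ hφ (hS.orthogonal φ hφ χ hχ h1)
        (hS.orthogonal φ hφ _ (hS.conj_mem χ hχ) h2) α hα β hβ
    · exact hS.orthonormal φ hφ α hα β hβ
  obtain ⟨f, hf, hle, heq⟩ := orthonormal_bound hRR (fun α hα => by
    rcases Finset.mem_union.mp hα with hα | hα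
    · exact hS.virtual χ hχ α hα
    · exact hS.virtual φ hφ α hα) hbg
  have hfc : ∀ α ∈ R χ, f α = c α := fun α hα => by
    exact_mod_cast (hf α (Finset.mem_union_left _ hα)).symm.trans (hc α hα)
  have hfe : ∀ α ∈ R φ, f α = e α := fun α hα => by
    exact_mod_cast (hf α (Finset.mem_union_right _ hα)).symm.trans (he α hα)
  have hsplit : ∑ α ∈ R χ ∪ R φ, f α ^ 2 = (∑ α ∈ R χ, c α ^ 2) + ∑ α ∈ R φ, e α ^ 2 := by
    rw [Finset.sum_union hdisj, Finset.sum_congr rfl fun α hα => by rw [hfc α hα],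
      Finset.sum_congr (s₁ := R φ) rfl fun α hα => by rw [hfe α hα]]
  have hre : (classInner b b).re = ((∑ α ∈ R χ, c α) + ∑ α ∈ R φ, -e α : ℤ) := by
    rw [hbb, ← hsc, show classInner φ φ = ((∑ α ∈ R φ, -e α : ℤ) : ℂ) by
      rw [Finset.sum_neg_distrib, Int.cast_neg, hse, neg_neg], ← Int.cast_add, Complex.intCast_re]
  rw [hsplit, hre] at hle heq
  have hle' := Int.cast_le.mp hle
  have hc2 : ∑ α ∈ R χ, c α ≤ ∑ α ∈ R χ, c α ^ 2 := Finset.sum_le_sum fun α _ => Int.le_self_sq _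
  have he2 : ∑ α ∈ R φ, -e α ≤ ∑ α ∈ R φ, e α ^ 2 :=
    Finset.sum_le_sum fun α _ => (Int.le_self_sq _).trans_eq (neg_sq _)
  have hc01 := int_zero_or_one_of_sum_le (R χ) c (by omega)
  have he01 := int_zero_or_one_of_sum_le (R φ) (fun α => -e α) (by
    simp only [neg_sq]; omega)
  have hb' := heq (Int.cast_le.mpr (by omega))
  refine ⟨(R χ).filter (fun α => c α = 1), (R φ).filter (fun α => -e α = 1), Finset.filter_subset _ _,
    Finset.filter_subset _ _, ?_, ?_⟩
  · rw [hb', Finset.sum_union hdisj, sub_eq_add_neg, Finset.sum_filter, Finset.sum_filter,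
      ← Finset.sum_neg_distrib]
    congr 1
    · refine Finset.sum_congr rfl fun α hα => ?_
      rw [hfc α hα]
      rcases hc01 α hα with h | h <;> simp [h]
    · refine Finset.sum_congr rfl fun α hα => ?_
      rw [hfe α hα]
      rcases he01 α hα with h | h
      · simp [neg_eq_zero.mp h]
      · simp [show e α = -1 by omega]
  · rw [← hsc, Finset.card_filter, Nat.cast_sum, Int.cast_sum]
    refine Finset.sum_congr rfl fun α hα => ?_
    rcases hc01 α hα with h | h <;> simp [h]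

theorem cs_finite (hS : IsCoherenceSystem S τ R) : S.Finite :=
  finite_of_orthogonal S (fun φ hφ ψ hψ h => hS.orthogonal φ hφ ψ hψ h) fun φ hφ => cs_self_ne_zero hS hφ

/-- A coherence system of constant degree is coherent. -/
theorem coherent_constant_degree (hS : IsCoherenceSystem S τ R)
    (hdeg : ∀ φ ∈ S, ∀ ψ ∈ S, φ 1 = ψ 1) : IsCoherent S {1}ᶜ τ := by
  classical
  obtain ⟨χ, hχ⟩ := hS.nonempty
  have hc := hS.conj_mem χ hχ
  obtain ⟨n, hn⟩ := cs_norm_nat hS hχ
  -- an `n`-subset `T` of `R χ` compatible with all differences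
  have hT : ∃ T ⊆ R χ, (T.card : ℂ) = classInner χ χ ∧
      ∀ φ ∈ S, φ ≠ χ → classInner (∑ α ∈ T, α) (τ (χ - φ)) = classInner χ χ := by
    have hbar : ∀ T ⊆ R χ, classInner (∑ α ∈ T, α) (τ (χ - Cfsg.conjFun χ)) = (T.card : ℂ) := by
      intro T hT
      rw [hS.sum_eq χ hχ, cs_inner_subset hS hχ hT subset_rfl, Finset.inter_eq_left.mpr hT]
    by_cases hex : ∃ φ₀ ∈ S, φ₀ ≠ χ ∧ φ₀ ≠ Cfsg.conjFun χ
    · obtain ⟨φ₀, hφ₀, h01, h02⟩ := hex
      obtain ⟨T, U, hT, hU, he, hcard⟩ := cs_split hS hχ hφ₀ h01 h02 (hdeg φ₀ hφ₀ χ hχ)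
      refine ⟨T, hT, hcard, fun φ hφ h1 => ?_⟩
      by_cases h2 : φ = Cfsg.conjFun χ
      · rw [h2, hbar T hT, hcard]
      obtain ⟨T', U', hT', hU', he', hcard'⟩ := cs_split hS hχ hφ h1 h2 (hdeg φ hφ χ hχ)
      have hTT : classInner (∑ α ∈ T, α) (τ (χ - φ)) = ((T ∩ T').card : ℂ) := by
        rw [he', classInner_sub_right, cs_inner_subset hS hχ hT hT',
          cs_R_orth hS hχ hφ (Ne.symm h1) (fun e => h2 (by rw [e, cs_conj_conj])) hT hU', sub_zero]
      -- the two subsets coincide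
      have hTeq : T = T' := by
        by_cases hφ0 : φ = φ₀
        · subst hφ0
          ext α
          have hcoef : ∀ (T : Finset (G → ℂ)), T ⊆ R χ → ∀ (U : Finset (G → ℂ)), U ⊆ R φ → α ∈ R χ →
              classInner (∑ β ∈ T, β - ∑ β ∈ U, β) α = if α ∈ T then 1 else 0 := by
            intro T hT U hU hα
            rw [classInner_sub_left, cs_coef hS hχ hT hα, cs_coef_zero hS hφ hχ h1 h2 hU hα, sub_zero]
          constructor
          · intro hα
            have e1 := hcoef T hT U hU (hT hα)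
            rw [← he, he', hcoef T' hT' U' hU' (hT hα), if_pos hα] at e1
            by_contra hα'
            rw [if_neg hα'] at e1
            exact zero_ne_one e1
          · intro hα
            have e1 := hcoef T' hT' U' hU' (hT' hα)
            rw [← he', he, hcoef T hT U hU (hT' hα), if_pos hα] at e1
            by_contra hα'
            rw [if_neg hα'] at e1
            exact zero_ne_one e1
        by_cases hφ0' : φ = Cfsg.conjFun φ₀
        · -- the difference is a multiple of `R φ₀`, orthogonal to `R χ`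
          have hrel : τ (χ - φ) = τ (χ - φ₀) + ∑ α ∈ R φ₀, α := by
            rw [← hS.sum_eq φ₀ hφ₀, ← hS.isometry.1 _ (mem_zspanOn_one_iff.mpr
              ⟨zspan_sub (zspan_subset_mem hχ) (zspan_subset_mem hφ₀),
                by rw [Pi.sub_apply, hdeg φ₀ hφ₀ χ hχ, sub_self]⟩) _ (cs_sub_conj_mem hS hφ₀), hφ0']
            congr 1
            abel
          ext α
          have hcoef : α ∈ R χ → (if α ∈ T' then (1 : ℂ) else 0) = if α ∈ T then 1 else 0 := by
            intro hα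
            have h := congrArg (fun f => classInner f α) hrel
            simp only [he, he', classInner_sub_left, classInner_add_left, cs_coef hS hχ hT hα,
              cs_coef hS hχ hT' hα, cs_coef_zero hS hφ hχ h1 h2 hU' hα,
              cs_coef_zero hS hφ₀ hχ h01 h02 hU hα,
              cs_coef_zero hS hφ₀ hχ h01 h02 subset_rfl hα, sub_zero, add_zero] at h
            exact h
          constructor
          · intro hα
            by_contra hα'
            have h := hcoef (hT hα)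
            rw [if_pos hα, if_neg hα'] at h
            exact zero_ne_one h
          · intro hα
            by_contra hα'
            have h := hcoef (hT' hα)
            rw [if_pos hα, if_neg hα'] at h
            exact one_ne_zero h
        -- independent pairs: compare the inner product of the two differences
        have h02' : χ ≠ Cfsg.conjFun φ₀ := fun e => h02 (by rw [e, cs_conj_conj])
        have h2' : χ ≠ Cfsg.conjFun φ := fun e => h2 (by rw [e, cs_conj_conj])
        have hinner : classInner (τ (χ - φ₀)) (τ (χ - φ)) = classInner χ χ := by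
          rw [hS.isometry.2.2.1 _ (mem_zspanOn_one_iff.mpr
              ⟨zspan_sub (zspan_subset_mem hχ) (zspan_subset_mem hφ₀),
                by rw [Pi.sub_apply, hdeg φ₀ hφ₀ χ hχ, sub_self]⟩) _ (mem_zspanOn_one_iff.mpr
              ⟨zspan_sub (zspan_subset_mem hχ) (zspan_subset_mem hφ),
                by rw [Pi.sub_apply, hdeg φ hφ χ hχ, sub_self]⟩),
            classInner_sub_left, classInner_sub_right, classInner_sub_right,
            hS.orthogonal χ hχ φ hφ (Ne.symm h1), hS.orthogonal φ₀ hφ₀ χ hχ h01,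
            hS.orthogonal φ₀ hφ₀ φ hφ (Ne.symm hφ0)]
          ring
        rw [he, he', classInner_sub_left, classInner_sub_right, classInner_sub_right,
          cs_inner_subset hS hχ hT hT', cs_R_orth hS hχ hφ (Ne.symm h1) h2' hT hU',
          cs_R_orth hS hφ₀ hχ h01 h02 hU hT',
          cs_R_orth hS hφ₀ hφ (Ne.symm hφ0) (fun e => hφ0' (by rw [e, cs_conj_conj])) hU hU'] at hinner
        simp only [sub_zero] at hinner
        have hcc : (T ∩ T').card = T.card := by exact_mod_cast hinner.trans hcard.symm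
        have hcc' : T'.card = T.card := by exact_mod_cast hcard'.trans hcard.symm
        have hTi : T ∩ T' = T := Finset.eq_of_subset_of_card_le Finset.inter_subset_left (by omega)
        exact Finset.eq_of_subset_of_card_le (Finset.inter_eq_left.mp hTi) (by omega)
      rw [hTT, ← hTeq, Finset.inter_self, hcard]
    · push Not at hex
      have hle : n ≤ (R χ).card := by
        have h2n : ((R χ).card : ℂ) = ((2 * n : ℕ) : ℂ) := by
          rw [cs_card_R hS hχ, hn]; push_cast; ring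
        have := Nat.cast_injective h2n
        omega
      obtain ⟨T, hT, hTc⟩ := Finset.exists_subset_card_eq hle
      refine ⟨T, hT, by rw [hTc, hn], fun φ hφ h1 => ?_⟩
      rw [hex φ hφ h1, hbar T hT, hTc, hn]
  obtain ⟨T, hT, hcard, hTφ⟩ := hT
  set Z := ∑ α ∈ T, α with hZ
  have hZgen : IsGeneralizedCharacter G Z :=
    isGeneralizedCharacter_sum T (fun α => α) fun α hα => hS.virtual χ hχ α (hT hα)
  have hZn : classInner Z Z = classInner χ χ := by
    rw [hZ, cs_inner_subset hS hχ hT hT, Finset.inter_self, hcard]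
  let S' := (cs_finite hS).toFinset
  have hS' : ∀ φ, φ ∈ S' ↔ φ ∈ S := fun φ => (cs_finite hS).mem_toFinset
  have hcoe : (S' : Set (L → ℂ)) = S := (cs_finite hS).coe_toFinset
  have hmem : ∀ φ ∈ S, χ - φ ∈ zspanOn S {1}ᶜ := fun φ hφ =>
    mem_zspanOn_one_iff.mpr ⟨zspan_sub (zspan_subset_mem hχ) (zspan_subset_mem hφ),
      by rw [Pi.sub_apply, hdeg φ hφ χ hχ, sub_self]⟩
  have hτ0 : τ 0 = 0 := iso_zero hS.isometry zspanOn_zero
  have hnb : ∀ φ ∈ S, classInner Z (τ (χ - φ)) = if φ = χ then 0 else classInner χ χ := fun φ hφ => by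
    split_ifs with h
    · rw [h, sub_self, hτ0, classInner_zero_right]
    · exact hTφ φ hφ h
  rw [← hcoe]
  refine isCoherent_of_images S' _ τ ?_ (fun φ hφ ψ hψ => hS.orthogonal φ ((hS' φ).mp hφ) ψ ((hS' ψ).mp hψ))
    (fun φ hφ => cs_self_ne_zero hS ((hS' φ).mp hφ)) (fun φ => Z - τ (χ - φ)) (fun φ hφ => ?_)
    (fun φ hφ ψ hψ => ?_) (fun c hc => ?_)
  · rw [hcoe]
    exact ⟨_, cs_sub_conj_mem hS hχ, fun h => hS.conj_ne χ hχ (sub_eq_zero.mp h).symm⟩
  · exact isGeneralizedCharacter_sub hZgen (hS.isometry.2.2.2 _ (hmem φ ((hS' φ).mp hφ)))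
  · have hφ' := (hS' φ).mp hφ
    have hψ' := (hS' ψ).mp hψ
    rw [classInner_sub_left, classInner_sub_right, classInner_sub_right, hZn, hnb ψ hψ',
      ← classInner_conj Z (τ (χ - φ)), hnb φ hφ', hS.isometry.2.2.1 _ (hmem φ hφ') _ (hmem ψ hψ'),
      classInner_sub_left, classInner_sub_right, classInner_sub_right]
    have hreal : ∀ f : L → ℂ, conj (classInner f f) = classInner f f := fun f => classInner_conj f f
    by_cases hφχ : φ = χ
    · subst hφχ
      by_cases hψχ : ψ = φ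
      · subst hψχ
        rw [if_pos rfl, map_zero]; ring
      · rw [if_neg hψχ, if_pos rfl, map_zero, hS.orthogonal φ hφ' ψ hψ' (Ne.symm hψχ)]; ring
    · by_cases hψχ : ψ = χ
      · subst hψχ
        rw [if_pos rfl, if_neg hφχ, hreal, hS.orthogonal φ hφ' ψ hψ' hφχ]; ring
      · rw [if_neg hψχ, if_neg hφχ, hreal, hS.orthogonal φ hφ' χ hχ hφχ,
          hS.orthogonal χ hχ ψ hψ' (Ne.symm hψχ)]
        ring
  · have hc1 := (mem_zspanOn_one_iff.mp hc).2
    rw [Finset.sum_apply, Finset.sum_congr rfl (g := fun φ => (c φ : ℂ) * χ 1) fun φ hφ => by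
      rw [Pi.smul_apply, smul_eq_mul, hdeg φ ((hS' φ).mp hφ) χ hχ], ← Finset.sum_mul, mul_eq_zero,
      or_iff_left (cs_degree_pos hS hχ)] at hc1
    have he : ∑ φ ∈ S', (c φ : ℂ) • φ = ∑ φ ∈ S', ((-c φ : ℤ) : ℂ) • (χ - φ) := by
      symm
      rw [Finset.sum_congr rfl (g := fun φ => (c φ : ℂ) • φ - (c φ : ℂ) • χ) fun φ _ => by
        push_cast; module, Finset.sum_sub_distrib, ← Finset.sum_smul, hc1, zero_smul, sub_zero]
    rw [he, iso_sum_zspanOn hS.isometry S' _ _ fun φ hφ => hmem φ ((hS' φ).mp hφ)]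
    simp only [smul_sub, Finset.sum_sub_distrib, ← Finset.sum_smul, hc1, zero_smul, zero_sub,
      Int.cast_neg, neg_smul, Finset.sum_neg_distrib]

end System

end CfsgLib.Char
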