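import Mathlib

/-!
# Minimal Frobenius groups with two prime element orders, and their products

`Aff p q` is the group of maps `x ↦ u x + v` of the field with `p ^ k` elements, `k` the order of
`p` modulo `q`, with `u ^ q = 1`.  A direct product of such groups on disjoint pairs of primes has
no proper section with the same set of element orders.
-/

set_option autoImplicit false

noncomputable section

namespace CfsgLib.Char.CriticalAffine

variable (p q : ℕ) [Fact p.Prime] [Fact q.Prime]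

/-- The field attached to the pair of primes. -/
abbrev Fld : Type := GaloisField p (orderOf (p : ZMod q))

/-- The maps `x ↦ u x + v` with `u ^ q = 1`. -/
@[ext]
structure Aff where
  u : rootsOfUnity q (Fld p q)
  v : Fld p q

variable {p q}

/-- The linear part as a field element. -/
def Aff.c (x : Aff p q) : Fld p q := ((x.u : (Fld p q)ˣ) : Fld p q)

instance : Mul (Aff p q) := ⟨fun x y => ⟨x.u * y.u, x.v + x.c * y.v⟩⟩

instance : One (Aff p q) := ⟨⟨1, 0⟩⟩

instance : Inv (Aff p q) := ⟨fun x => ⟨x.u⁻¹, -((((x.u⁻¹ : rootsOfUnity q (Fld p q)) : (Fld p q)ˣ) : Fld p q) * x.v)⟩⟩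

@[simp] theorem mul_u (x y : Aff p q) : (x * y).u = x.u * y.u := rfl
@[simp] theorem mul_v (x y : Aff p q) : (x * y).v = x.v + x.c * y.v := rfl
@[simp] theorem one_u : (1 : Aff p q).u = 1 := rfl
@[simp] theorem one_v : (1 : Aff p q).v = 0 := rfl
@[simp] theorem c_mul (x y : Aff p q) : (x * y).c = x.c * y.c := by simp [Aff.c]
@[simp] theorem c_one : (1 : Aff p q).c = 1 := by simp [Aff.c]

instance : Group (Aff p q) where
  mul_assoc x y z := by
    ext
    · simp [mul_assoc]
    · simp only [mul_v, c_mul]; ring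
  one_mul x := by ext <;> simp
  mul_one x := by ext <;> simp
  inv_mul_cancel x := by
    refine Aff.ext (inv_mul_cancel x.u) ?_
    show -(_ * x.v) + _ * x.v = (0 : Fld p q)
    exact neg_add_cancel _

/-- The coordinates of an element. -/
def coords : Aff p q ≃ rootsOfUnity q (Fld p q) × Fld p q where
  toFun x := (x.u, x.v)
  invFun x := ⟨x.1, x.2⟩
  left_inv _ := rfl
  right_inv _ := rfl

noncomputable instance : Fintype (Aff p q) :=
  @Fintype.ofEquiv _ _ (Fintype.ofFinite _) (coords (p := p) (q := q)).symm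

/-- The translation by `w`. -/
def trn (w : Fld p q) : Aff p q := ⟨1, w⟩

@[simp] theorem trn_u (w : Fld p q) : (trn w : Aff p q).u = 1 := rfl
@[simp] theorem trn_v (w : Fld p q) : (trn w : Aff p q).v = w := rfl
@[simp] theorem trn_c (w : Fld p q) : (trn w : Aff p q).c = 1 := by simp [Aff.c, trn]

theorem trn_mul (a b : Fld p q) : (trn a : Aff p q) * trn b = trn (a + b) := by ext <;> simp

theorem trn_zero : (trn 0 : Aff p q) = 1 := rfl

theorem trn_pow (a : Fld p q) (n : ℕ) : (trn a : Aff p q) ^ n = trn ((n : Fld p q) * a) := by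
  induction n with
  | zero => rw [pow_zero, Nat.cast_zero, zero_mul, trn_zero]
  | succ n ih => rw [pow_succ, ih, trn_mul, Nat.cast_succ, add_one_mul]

theorem eq_trn {x : Aff p q} (h : x.u = 1) : x = trn x.v := Aff.ext h rfl

theorem conj_trn (x : Aff p q) (w : Fld p q) : x * trn w * x⁻¹ = trn (x.c * w) := by
  rw [mul_inv_eq_iff_eq_mul]
  ext
  · simp
  · simp [add_comm]

theorem k_pos (hpq : p ≠ q) : 0 < orderOf (p : ZMod q) := by
  refine orderOf_pos_iff.2 (IsUnit.isOfFinOrder ?_)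
  rw [isUnit_iff_ne_zero, ne_eq, ZMod.natCast_eq_zero_iff]
  exact fun h => hpq ((Nat.prime_dvd_prime_iff_eq Fact.out Fact.out).1 h).symm

theorem card_fld (hpq : p ≠ q) : Nat.card (Fld p q) = p ^ orderOf (p : ZMod q) :=
  GaloisField.card p _ (k_pos hpq).ne'

theorem card_roots (hpq : p ≠ q) : Nat.card (rootsOfUnity q (Fld p q)) = q := by
  have : Fintype (Fld p q) := Fintype.ofFinite _
  classical
  obtain ⟨x, hx⟩ : ∃ x : (Fld p q)ˣ, orderOf x = q := by
    refine exists_prime_orderOf_dvd_card q ?_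
    rw [Fintype.card_units, ← Nat.card_eq_fintype_card, card_fld hpq]
    have h1 : ((p ^ orderOf (p : ZMod q) : ℕ) : ZMod q) = ((1 : ℕ) : ZMod q) := by
      rw [Nat.cast_pow, pow_orderOf_eq_one, Nat.cast_one]
    rw [← Nat.modEq_iff_dvd' (Nat.one_le_pow _ _ (Fact.out : p.Prime).pos)]
    exact ((ZMod.natCast_eq_natCast_iff _ _ _).1 h1).symm
  have hx' : IsPrimitiveRoot (x : Fld p q) q :=
    IsPrimitiveRoot.coe_units_iff.2 (IsPrimitiveRoot.iff_orderOf.2 hx)
  exact hx'.card_rootsOfUnity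

theorem card_aff (hpq : p ≠ q) : Nat.card (Aff p q) = q * p ^ orderOf (p : ZMod q) := by
  rw [Nat.card_congr coords, Nat.card_prod, card_roots hpq, card_fld hpq]

theorem u_pow (x : Aff p q) (n : ℕ) : (x ^ n).u = x.u ^ n := by
  induction n with
  | zero => simp
  | succ n ih => rw [pow_succ, pow_succ, mul_u, ih]

theorem u_pow_q (x : Aff p q) : x.u ^ q = 1 :=
  Subtype.ext ((mem_rootsOfUnity q (x.u : (Fld p q)ˣ)).1 x.u.2)

theorem c_ne_one {x : Aff p q} (h : x.u ≠ 1) : x.c ≠ 1 := by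
  intro h'
  exact h (Subtype.ext (Units.ext h'))

theorem pow_eq_one_of_u_one {x : Aff p q} (h : x.u = 1) : x ^ p = 1 := by
  rw [eq_trn h, trn_pow, CharP.cast_eq_zero (Fld p q) p, zero_mul, trn_zero]

theorem conj_pow_q {x : Aff p q} (h : x.u ≠ 1) : x ^ q = 1 := by
  let y : Aff p q := ⟨x.u, 0⟩
  have hy : y ^ q = 1 := by
    have : ∀ n : ℕ, y ^ n = ⟨x.u ^ n, 0⟩ := fun n => by
      induction n with
      | zero => simp [Aff.ext_iff]
      | succ n ih => rw [pow_succ, ih]; ext <;> simp [y, pow_succ]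
    rw [this, u_pow_q]; rfl
  have hc : (1 : Fld p q) - x.c ≠ 0 := sub_ne_zero.2 (c_ne_one h).symm
  have e : x = trn (x.v / (1 - x.c)) * y * (trn (x.v / (1 - x.c)))⁻¹ := by
    rw [eq_mul_inv_iff_mul_eq]
    ext
    · simp [y]
    · have e1 : x.v / (1 - x.c) * (1 - x.c) = x.v := div_mul_cancel₀ _ hc
      simp only [mul_v, trn_v, trn_c, y]
      linear_combination -e1
  rw [e, conj_pow, hy, mul_one, mul_inv_cancel]

theorem orderOf_cases (x : Aff p q) : orderOf x = 1 ∨ orderOf x = p ∨ orderOf x = q := by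
  by_cases h : x.u = 1
  · rcases (Nat.dvd_prime Fact.out).1 (orderOf_dvd_of_pow_eq_one (pow_eq_one_of_u_one h)) with e | e
    · exact Or.inl e
    · exact Or.inr (Or.inl e)
  · rcases (Nat.dvd_prime Fact.out).1 (orderOf_dvd_of_pow_eq_one (conj_pow_q h)) with e | e
    · exact Or.inl e
    · exact Or.inr (Or.inr e)

theorem trn_mem_of_stable (K : Subgroup (Aff p q)) (hpq : p ≠ q) {x : Aff p q} (hx : x.u ≠ 1)
    (hst : ∀ w, trn w ∈ K → trn (x.c * w) ∈ K) {w : Fld p q} (hw : w ≠ 0) (hwK : trn w ∈ K)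
    (z : Fld p q) : trn z ∈ K := by
  let W : AddSubgroup (Fld p q) :=
    { carrier := {a | trn a ∈ K}
      zero_mem' := by show trn 0 ∈ K; rw [trn_zero]; exact K.one_mem
      add_mem' := fun {a b} ha hb => by
        show trn (a + b) ∈ K; rw [← trn_mul]; exact K.mul_mem ha hb
      neg_mem' := fun {a} ha => by
        show trn (-a) ∈ K
        have e : (trn a : Aff p q)⁻¹ = trn (-a) :=
          inv_eq_of_mul_eq_one_right (by rw [trn_mul, add_neg_cancel, trn_zero])
        rw [← e]; exact K.inv_mem ha }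
  let R : Subring (Fld p q) :=
    { carrier := {f | ∀ a ∈ W, f * a ∈ W}
      one_mem' := fun a ha => by rwa [one_mul]
      zero_mem' := fun a _ => by rw [zero_mul]; exact W.zero_mem
      mul_mem' := fun {f g} hf hg a ha => by rw [mul_assoc]; exact hf _ (hg a ha)
      add_mem' := fun {f g} hf hg a ha => by rw [add_mul]; exact W.add_mem (hf a ha) (hg a ha)
      neg_mem' := fun {f} hf a ha => by rw [neg_mul]; exact W.neg_mem (hf a ha) }
  have hR : R = ⊤ := by
    classical
    have : Fintype R := Fintype.ofFinite _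
    let : Field R := Fintype.fieldOfDomain R
    obtain ⟨d, hdle, hd⟩ : ∃ d, d ≤ orderOf (p : ZMod q) ∧ Nat.card R.toAddSubgroup = p ^ d :=
      (Nat.dvd_prime_pow Fact.out).1 (card_fld hpq ▸ AddSubgroup.card_addSubgroup_dvd_card _)
    have hd' : Fintype.card R = p ^ d := by rw [← Nat.card_eq_fintype_card]; exact hd
    have hxR : x.c ∈ R := fun a ha => hst a ha
    have hord : orderOf (⟨x.c, hxR⟩ : R) = q := by
      rw [← orderOf_injective R.subtype.toMonoidHom Subtype.coe_injective]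
      refine orderOf_eq_prime ?_ (c_ne_one hx)
      show x.c ^ q = 1
      rw [Aff.c, ← Units.val_pow_eq_pow_val, (mem_rootsOfUnity q _).1 x.u.2, Units.val_one]
    have hne : (⟨x.c, hxR⟩ : R) ≠ 0 := fun h =>
      (Units.ne_zero (x.u : (Fld p q)ˣ)) (congrArg Subtype.val h)
    have hdvd : q ∣ p ^ d - 1 := by
      rw [← hord, ← hd']
      exact orderOf_dvd_of_pow_eq_one (FiniteField.pow_card_sub_one_eq_one _ hne)
    have hd0 : d ≠ 0 := by
      rintro rfl
      rw [pow_zero] at hd'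
      exact one_ne_zero (α := R) (Fintype.card_le_one_iff.1 hd'.le _ _)
    have hk : orderOf (p : ZMod q) ≤ d := by
      refine orderOf_le_of_pow_eq_one (Nat.pos_of_ne_zero hd0) ?_
      have h1 : ((1 : ℕ) : ZMod q) = ((p ^ d : ℕ) : ZMod q) :=
        (ZMod.natCast_eq_natCast_iff _ _ _).2 ((Nat.modEq_iff_dvd' (Nat.one_le_pow _ _ (Fact.out : p.Prime).pos)).2 hdvd)
      rw [← Nat.cast_pow, ← h1, Nat.cast_one]
    have hde : d = orderOf (p : ZMod q) := le_antisymm hdle hk
    refine Subring.toAddSubgroup_injective ?_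
    rw [show (⊤ : Subring (Fld p q)).toAddSubgroup = ⊤ from rfl]
    exact AddSubgroup.eq_top_of_card_eq _ (by rw [hd, hde, card_fld hpq])
  have h : z / w * w ∈ W := (hR ▸ Subring.mem_top (z / w) : z / w ∈ R) w hwK
  rw [div_mul_cancel₀ _ hw] at h
  exact h

/-- A subgroup with elements of both orders is everything. -/
theorem eq_top_of_orders (hpq : p ≠ q) (K : Subgroup (Aff p q))
    (h1 : ∃ x ∈ K, p ∣ orderOf x) (h2 : ∃ y ∈ K, q ∣ orderOf y) : K = ⊤ := by
  obtain ⟨x, hxK, hx⟩ := h1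
  obtain ⟨y, hyK, hy⟩ := h2
  have hp1 := (Fact.out : p.Prime).ne_one
  have hq1 := (Fact.out : q.Prime).ne_one
  have hxu : x.u = 1 := by
    by_contra h
    exact hpq ((Nat.prime_dvd_prime_iff_eq Fact.out Fact.out).1
      (hx.trans (orderOf_dvd_of_pow_eq_one (conj_pow_q h))))
  have hyu : y.u ≠ 1 := fun h => hpq ((Nat.prime_dvd_prime_iff_eq Fact.out Fact.out).1
    (hy.trans (orderOf_dvd_of_pow_eq_one (pow_eq_one_of_u_one h)))).symm
  have hxv : x.v ≠ 0 := by
    intro h
    have : x = 1 := Aff.ext hxu h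
    rw [this, orderOf_one] at hx
    exact hp1 (Nat.dvd_one.1 hx)
  have htr : ∀ z, trn z ∈ K := trn_mem_of_stable K hpq hyu
    (fun w hw => by rw [← conj_trn]; exact K.mul_mem (K.mul_mem hyK hw) (K.inv_mem hyK)) hxv
    (by rw [← eq_trn hxu]; exact hxK)
  refine eq_top_iff.2 fun g _ => ?_
  have hmem : g.u ∈ Subgroup.zpowers y.u := mem_zpowers_of_prime_card (card_roots hpq) hyu
  rw [← mem_powers_iff_mem_zpowers, Submonoid.mem_powers_iff] at hmem
  obtain ⟨n, hn⟩ := hmem
  have e : g * (y ^ n)⁻¹ = trn (g * (y ^ n)⁻¹).v := eq_trn (by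
    show g.u * (y ^ n).u⁻¹ = 1
    rw [u_pow, hn, mul_inv_cancel])
  have := K.mul_mem (e.symm ▸ htr _ : g * (y ^ n)⁻¹ ∈ K) (K.pow_mem hyK n)
  rwa [inv_mul_cancel_right] at this

theorem exists_u_ne_one (hpq : p ≠ q) : ∃ y : Aff p q, y.u ≠ 1 := by
  have : Nontrivial (rootsOfUnity q (Fld p q)) := Finite.one_lt_card_iff_nontrivial.1
    (by rw [card_roots hpq]; exact (Fact.out : q.Prime).one_lt)
  obtain ⟨u, hu⟩ := exists_ne (1 : rootsOfUnity q (Fld p q))
  exact ⟨⟨u, 0⟩, hu⟩

/-- A nontrivial normal subgroup contains every `q`-th power. -/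
theorem pow_mem_of_normal (hpq : p ≠ q) (N : Subgroup (Aff p q)) [N.Normal] {x : Aff p q}
    (hxN : x ∈ N) (hx : x ≠ 1) (g : Aff p q) : g ^ q ∈ N := by
  obtain ⟨y, hy⟩ := exists_u_ne_one hpq
  obtain ⟨w, hw, hwN⟩ : ∃ w, w ≠ 0 ∧ trn w ∈ N := by
    by_cases h : x.u = 1
    · exact ⟨x.v, fun h' => hx (Aff.ext h h'), by rw [← eq_trn h]; exact hxN⟩
    · refine ⟨x.c - 1, sub_ne_zero.2 (c_ne_one h), ?_⟩
      have h1 := ‹N.Normal›.conj_mem _ (N.inv_mem hxN) (trn (1 : Fld p q))
      have h2 := N.mul_mem hxN h1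
      have e : x * (trn 1 * x⁻¹ * (trn (1 : Fld p q))⁻¹) = trn (x.c - 1) := by
        have h3 : (trn (1 : Fld p q) : Aff p q)⁻¹ = trn (-1) :=
          inv_eq_of_mul_eq_one_right (by rw [trn_mul, add_neg_cancel, trn_zero])
        rw [← mul_assoc, ← mul_assoc, conj_trn, h3, trn_mul, mul_one, sub_eq_add_neg]
      rwa [e] at h2
  have htr := trn_mem_of_stable N hpq hy
    (fun w hw => by rw [← conj_trn]; exact ‹N.Normal›.conj_mem _ hw y) hw hwN
  have hg : (g ^ q).u = 1 := by rw [u_pow, u_pow_q]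
  rw [eq_trn hg]
  exact htr _

theorem exists_orderOf (hpq : p ≠ q) {r : ℕ} (hr : r = 1 ∨ r = p ∨ r = q) :
    ∃ x : Aff p q, orderOf x = r := by
  rcases hr with rfl | rfl | rfl
  · exact ⟨1, orderOf_one⟩
  · refine exists_prime_orderOf_dvd_card' r ?_
    rw [card_aff hpq]
    exact (dvd_pow_self r (k_pos hpq).ne').mul_left q
  · refine exists_prime_orderOf_dvd_card' r ?_
    rw [card_aff hpq]
    exact dvd_mul_right r _

theorem card_ne_swap (hpq : p ≠ q) : Nat.card (Aff p q) ≠ Nat.card (Aff q p) := by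
  intro h
  rw [card_aff hpq, card_aff hpq.symm] at h
  have hp : p.Prime := Fact.out
  have hq : q.Prime := Fact.out
  have hk := k_pos (p := p) (q := q) hpq
  have hl := k_pos (p := q) (q := p) hpq.symm
  have h1 := congrArg (fun n => n.factorization p) h
  have h2 := congrArg (fun n => n.factorization q) h
  simp [Nat.factorization_mul, hp.ne_zero, hq.ne_zero, hp.factorization, hq.factorization,
    hpq, hpq.symm] at h1 h2
  have e1 : ((p : ℕ) : ZMod q) = ((1 : ℕ) : ZMod q) := by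
    rw [Nat.cast_one]; exact h1
  have e2 : ((q : ℕ) : ZMod p) = ((1 : ℕ) : ZMod p) := by
    rw [Nat.cast_one]; exact orderOf_eq_one_iff.1 h2.symm
  have f1 := (Nat.modEq_iff_dvd' hp.one_le).1 ((ZMod.natCast_eq_natCast_iff _ _ _).1 e1).symm
  have f2 := (Nat.modEq_iff_dvd' hq.one_le).1 ((ZMod.natCast_eq_natCast_iff _ _ _).1 e2).symm
  have g1 := Nat.le_of_dvd (by have := hp.two_le; omega) f1
  have g2 := Nat.le_of_dvd (by have := hq.two_le; omega) f2
  omega

end CfsgLib.Char.CriticalAffine
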