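import Cfsg.Agent.Lib.Char.CriticalAffine

/-!
# Products of the groups `Aff` on disjoint pairs of primes
-/

set_option autoImplicit false

noncomputable section

namespace CfsgLib.Char.CriticalAffine

section coprime

variable {ι : Type*} [Fintype ι] [DecidableEq ι] {K : ι → Type*} [∀ i, Group (K i)]
  [∀ i, Finite (K i)]

theorem orderOf_pi (hco : ∀ i j, i ≠ j → (Nat.card (K i)).Coprime (Nat.card (K j))) (g : ∀ i, K i) :
    orderOf g = ∏ i, orderOf (g i) := by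
  refine Nat.dvd_antisymm (orderOf_dvd_of_pow_eq_one (funext fun i => ?_)) ?_
  · rw [Pi.pow_apply, Pi.one_apply]
    exact orderOf_dvd_iff_pow_eq_one.1 (Finset.dvd_prod_of_mem _ (Finset.mem_univ i))
  · suffices ∀ t : Finset ι, ∏ i ∈ t, orderOf (g i) ∣ orderOf g from this _
    intro t
    induction t using Finset.induction_on with
    | empty => simp
    | insert a t hat ih =>
      rw [Finset.prod_insert hat]
      refine Nat.Coprime.mul_dvd_of_dvd_of_dvd (Nat.Coprime.prod_right fun i hi => ?_)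
        (orderOf_map_dvd (Pi.evalMonoidHom K a) g) ih
      exact Nat.Coprime.coprime_dvd_left (orderOf_dvd_natCard _)
        ((hco a i fun h => hat (h ▸ hi)).coprime_dvd_right (orderOf_dvd_natCard _))

/-- The product of the other orders. -/
def other (K : ι → Type*) (j : ι) : ℕ := ∏ i ∈ Finset.univ.erase j, Nat.card (K i)

theorem coprime_other (hco : ∀ i j, i ≠ j → (Nat.card (K i)).Coprime (Nat.card (K j))) (j : ι) :
    (Nat.card (K j)).Coprime (other K j) :=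
  Nat.Coprime.prod_right fun i hi => hco j i (Finset.ne_of_mem_erase hi).symm

theorem pow_other (g : ∀ i, K i) {i j : ι} (h : i ≠ j) (n : ℕ) (hn : other K j ∣ n) :
    (g ^ n) i = 1 := by
  rw [Pi.pow_apply]
  exact orderOf_dvd_iff_pow_eq_one.1 ((orderOf_dvd_natCard _).trans
    ((Finset.dvd_prod_of_mem _ (Finset.mem_erase.2 ⟨h, Finset.mem_univ i⟩)).trans hn))

theorem single_mem (hco : ∀ i j, i ≠ j → (Nat.card (K i)).Coprime (Nat.card (K j)))
    (H : Subgroup (∀ i, K i)) {g : ∀ i, K i} (hg : g ∈ H) (j : ι) :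
    Pi.mulSingle j (g j) ∈ H := by
  obtain ⟨m, hm1, hm2⟩ := Nat.chineseRemainder (coprime_other hco j) 1 0
  have e : g ^ m = Pi.mulSingle j (g j) := by
    funext i
    rcases eq_or_ne i j with rfl | h
    · rw [Pi.mulSingle_eq_same, Pi.pow_apply]
      have hd : m ≡ 1 [MOD orderOf (g i)] := Nat.ModEq.of_dvd (orderOf_dvd_natCard _) hm1
      rw [pow_eq_pow_iff_modEq.2 hd, pow_one]
    · rw [Pi.mulSingle_eq_of_ne h, pow_other g h m (Nat.modEq_zero_iff_dvd.1 hm2)]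
  exact e ▸ H.pow_mem hg m

end coprime

variable {s : ℕ} (P Q : Fin s → ℕ) [hP : ∀ j, Fact (P j).Prime] [hQ : ∀ j, Fact (Q j).Prime]

/-- The product group. -/
abbrev Prod' : Type := ∀ j, Aff (P j) (Q j)

variable {P Q}

theorem coprime_cards (hPQ : ∀ j, P j ≠ Q j) (hPP : ∀ i j, i ≠ j → P i ≠ P j)
    (hQQ : ∀ i j, i ≠ j → Q i ≠ Q j) (hPQ' : ∀ i j, P i ≠ Q j) (i j : Fin s) (h : i ≠ j) :
    (Nat.card (Aff (P i) (Q i))).Coprime (Nat.card (Aff (P j) (Q j))) := by
  rw [card_aff (hPQ i), card_aff (hPQ j)]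
  have c : ∀ {a b : ℕ}, a.Prime → b.Prime → a ≠ b → a.Coprime b := fun ha hb hab =>
    (Nat.coprime_primes ha hb).2 hab
  exact Nat.Coprime.mul_left
    (Nat.Coprime.mul_right (c (hQ i).out (hQ j).out (hQQ i j h))
      ((c (hQ i).out (hP j).out (hPQ' j i).symm).pow_right _))
    (Nat.Coprime.mul_right ((c (hP i).out (hQ j).out (hPQ' i j)).pow_left _)
      ((c (hP i).out (hP j).out (hPP i j h)).pow _ _))

theorem range_prod (hPQ : ∀ j, P j ≠ Q j) (hPP : ∀ i j, i ≠ j → P i ≠ P j)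
    (hQQ : ∀ i j, i ≠ j → Q i ≠ Q j) (hPQ' : ∀ i j, P i ≠ Q j) :
    Set.range (orderOf : Prod' P Q → ℕ) =
      {m | ∃ c : Fin s → ℕ, (∀ j, c j = 1 ∨ c j = P j ∨ c j = Q j) ∧ m = ∏ j, c j} := by
  ext m
  constructor
  · rintro ⟨g, rfl⟩
    exact ⟨fun j => orderOf (g j), fun j => orderOf_cases (g j),
      orderOf_pi (coprime_cards hPQ hPP hQQ hPQ') g⟩
  · rintro ⟨c, hc, rfl⟩
    choose g hg using fun j => exists_orderOf (hPQ j) (hc j)
    exact ⟨g, by rw [orderOf_pi (coprime_cards hPQ hPP hQQ hPQ') g]; simp [hg]⟩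

/-- No proper section has all the element orders. -/
theorem section_eq (hPQ : ∀ j, P j ≠ Q j) (hPP : ∀ i j, i ≠ j → P i ≠ P j)
    (hQQ : ∀ i j, i ≠ j → Q i ≠ Q j) (hPQ' : ∀ i j, P i ≠ Q j)
    (H : Subgroup (Prod' P Q)) (N : Subgroup H) [N.Normal]
    (hp : ∀ j, P j ∈ Set.range (orderOf : (H ⧸ N) → ℕ))
    (hq : ∀ j, Q j ∈ Set.range (orderOf : (H ⧸ N) → ℕ)) : H = ⊤ ∧ N = ⊥ := by
  have hco := coprime_cards hPQ hPP hQQ hPQ'
  have hcomp : ∀ (j : Fin s) (r : ℕ), r.Prime → r ∣ Nat.card (Aff (P j) (Q j)) →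
      r ∈ Set.range (orderOf : (H ⧸ N) → ℕ) → ∃ g ∈ H, r ∣ orderOf (g j) := by
    rintro j r hr hrd ⟨x, hx⟩
    obtain ⟨g, rfl⟩ := QuotientGroup.mk'_surjective N x
    refine ⟨g, g.2, ?_⟩
    have h1 : r ∣ orderOf (g : Prod' P Q) := by
      rw [← hx, Subgroup.orderOf_coe]
      exact orderOf_map_dvd _ g
    rw [orderOf_pi hco] at h1
    obtain ⟨i, -, hi⟩ := (Prime.dvd_finset_prod_iff hr.prime _).1 h1
    rcases eq_or_ne i j with rfl | hij
    · exact hi
    · exact absurd (Nat.eq_one_of_dvd_coprimes (hco i j hij) (hi.trans (orderOf_dvd_natCard _)) hrd)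
        hr.ne_one
  have hHj : ∀ j, H.comap (MonoidHom.mulSingle (fun i => Aff (P i) (Q i)) j) = ⊤ := by
    intro j
    obtain ⟨g, hg, hgp⟩ := hcomp j (P j) (hP j).out
      (by rw [card_aff (hPQ j)]; exact (dvd_pow_self _ (k_pos (hPQ j)).ne').mul_left _) (hp j)
    obtain ⟨g', hg', hgq⟩ := hcomp j (Q j) (hQ j).out
      (by rw [card_aff (hPQ j)]; exact dvd_mul_right _ _) (hq j)
    exact eq_top_of_orders (hPQ j) _ ⟨g j, single_mem hco H hg j, hgp⟩
      ⟨g' j, single_mem hco H hg' j, hgq⟩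
  have hH : H = ⊤ := eq_top_iff.2 fun g _ =>
    Subgroup.pi_mem_of_mulSingle_mem g fun j =>
      (show g j ∈ H.comap (MonoidHom.mulSingle (fun i => Aff (P i) (Q i)) j) by rw [hHj j]; trivial)
  refine ⟨hH, ?_⟩
  by_contra hN
  obtain ⟨x, hxN, hx1⟩ := N.ne_bot_iff_exists_ne_one.1 hN |> fun ⟨y, hy⟩ =>
    (⟨(y : H), y.2, fun h => hy (Subtype.ext h)⟩ : ∃ x, x ∈ N ∧ x ≠ 1)
  obtain ⟨j, hj⟩ : ∃ j, (x : Prod' P Q) j ≠ 1 := by
    by_contra hall
    push Not at hall
    exact hx1 (Subtype.ext (funext hall))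
  let N' : Subgroup (Prod' P Q) := N.map H.subtype
  have hN'n : N'.Normal := by
    refine ⟨fun n hn g => ?_⟩
    obtain ⟨m, hm, rfl⟩ := hn
    have hg : g ∈ H := hH ▸ Subgroup.mem_top g
    exact ⟨⟨g, hg⟩ * m * ⟨g, hg⟩⁻¹, ‹N.Normal›.conj_mem m hm _, rfl⟩
  have : (N'.comap (MonoidHom.mulSingle (fun i => Aff (P i) (Q i)) j)).Normal := hN'n.comap _
  have hpow : ∀ g : H, g ^ (Q j * other (fun i => Aff (P i) (Q i)) j) ∈ N := by
    intro g
    have hmem : (g : Prod' P Q) ^ (Q j * other (fun i => Aff (P i) (Q i)) j) ∈ N' := by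
      have h1 := pow_mem_of_normal (hPQ j)
        (N'.comap (MonoidHom.mulSingle (fun i => Aff (P i) (Q i)) j))
        (single_mem hco N' ⟨x, hxN, rfl⟩ j) hj
        (((g : Prod' P Q) ^ other (fun i => Aff (P i) (Q i)) j) j)
      have e : (g : Prod' P Q) ^ (Q j * other (fun i => Aff (P i) (Q i)) j) =
          Pi.mulSingle j ((((g : Prod' P Q) ^ other (fun i => Aff (P i) (Q i)) j) j) ^ Q j) := by
        funext i
        rcases eq_or_ne i j with rfl | h
        · rw [Pi.mulSingle_eq_same, Pi.pow_apply, Pi.pow_apply, ← pow_mul, mul_comm]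
        · rw [Pi.mulSingle_eq_of_ne h, pow_other _ h _ (dvd_mul_left _ _)]
      rw [e]
      exact h1
    obtain ⟨m, hm, hme⟩ := hmem
    rwa [show m = g ^ (Q j * other (fun i => Aff (P i) (Q i)) j) from
      Subtype.ext (by rw [SubmonoidClass.coe_pow]; exact hme)] at hm
  obtain ⟨y, hy⟩ := hp j
  obtain ⟨g, rfl⟩ := QuotientGroup.mk'_surjective N y
  have hdvd : P j ∣ Q j * other (fun i => Aff (P i) (Q i)) j := by
    rw [← hy]
    refine orderOf_dvd_of_pow_eq_one ?_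
    rw [← map_pow]
    exact (QuotientGroup.eq_one_iff _).2 (hpow g)
  rcases (hP j).out.dvd_mul.1 hdvd with h | h
  · exact hPQ j ((Nat.prime_dvd_prime_iff_eq (hP j).out (hQ j).out).1 h)
  · exact (hP j).out.ne_one (Nat.eq_one_of_dvd_coprimes (coprime_other hco j)
      (by rw [card_aff (hPQ j)]; exact (dvd_pow_self _ (k_pos (hPQ j)).ne').mul_left _) h)

end CfsgLib.Char.CriticalAffine
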