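import Mathlib

/-!
# Element orders in a semidirect product with an abelian kernel
-/

set_option autoImplicit false

namespace CfsgLib.Char

universe u v

variable {C : Type u} [Group C] {V : Type v} [AddCommGroup V] [DistribMulAction C V]

/-- The action of `C` on the multiplicative version of `V`. -/
def semiAct (C : Type u) [Group C] (V : Type v) [AddCommGroup V] [DistribMulAction C V] :
    C →* MulAut (Multiplicative V) where
  toFun c := AddEquiv.toMultiplicative (DistribMulAction.toAddEquiv V c)
  map_one' := MulEquiv.ext fun x => congrArg Multiplicative.ofAdd (one_smul C x.toAdd)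
  map_mul' a b := MulEquiv.ext fun x => congrArg Multiplicative.ofAdd (mul_smul a b x.toAdd)

/-- The semidirect product of `V` and `C`. -/
abbrev Semi (C : Type u) [Group C] (V : Type v) [AddCommGroup V] [DistribMulAction C V] :=
  SemidirectProduct (Multiplicative V) C (semiAct C V)

/-- The element with given translation part and linear part. -/
def semiPair (v : V) (c : C) : Semi C V := ⟨Multiplicative.ofAdd v, c⟩

theorem semiPair_eta (x : Semi C V) : x = semiPair x.left.toAdd x.right := rfl

theorem semiPair_pow (v : V) (c : C) (n : ℕ) :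
    semiPair v c ^ n = semiPair (∑ i ∈ Finset.range n, c ^ i • v) (c ^ n) := by
  induction n with
  | zero => rw [pow_zero, pow_zero, Finset.sum_range_zero]; rfl
  | succ n ih =>
    rw [pow_succ, ih, Finset.sum_range_succ, pow_succ]
    rfl

theorem semiPair_one_pow (w : V) (n : ℕ) : semiPair w (1 : C) ^ n = semiPair (n • w) 1 := by
  rw [semiPair_pow, one_pow]
  simp

theorem orderOf_semiPair_one (w : V) : orderOf (semiPair w (1 : C)) = addOrderOf w := by
  refine Nat.dvd_antisymm (orderOf_dvd_of_pow_eq_one ?_) (addOrderOf_dvd_of_nsmul_eq_zero ?_)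
  · rw [semiPair_one_pow, addOrderOf_nsmul_eq_zero]; rfl
  · have h := pow_orderOf_eq_one (semiPair w (1 : C))
    rw [semiPair_one_pow] at h
    exact congrArg (fun x : Semi C V => x.left.toAdd) h

/-- The order of an element of the semidirect product. -/
theorem orderOf_semiPair [Finite C] [Finite V] (v : V) (c : C) :
    orderOf (semiPair v c) = orderOf c * addOrderOf (∑ i ∈ Finset.range (orderOf c), c ^ i • v) := by
  haveI : Finite (Semi C V) :=
    Finite.of_injective (fun x : Semi C V => (x.left.toAdd, x.right)) fun a b h => by
      rw [semiPair_eta a, semiPair_eta b, (Prod.mk.inj h).1, (Prod.mk.inj h).2]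
  have hdvd : orderOf c ∣ orderOf (semiPair v c) :=
    orderOf_map_dvd SemidirectProduct.rightHom (semiPair v c)
  have hp : semiPair v c ^ orderOf c = semiPair (∑ i ∈ Finset.range (orderOf c), c ^ i • v) 1 := by
    rw [semiPair_pow, pow_orderOf_eq_one]
  have h := orderOf_pow_of_dvd (orderOf_pos c).ne' hdvd
  rw [hp, orderOf_semiPair_one] at h
  rw [h, Nat.mul_div_cancel' hdvd]

/-- The geometric sum is fixed by the element. -/
theorem smul_geom_sum_smul (v : V) (c : C) :
    c • (∑ i ∈ Finset.range (orderOf c), c ^ i • v) = ∑ i ∈ Finset.range (orderOf c), c ^ i • v := by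
  rw [Finset.smul_sum]
  have h1 := Finset.sum_range_succ' (fun i => c ^ i • v) (orderOf c)
  rw [Finset.sum_range_succ, pow_orderOf_eq_one, pow_zero, add_left_inj] at h1
  rw [h1]
  exact Finset.sum_congr rfl fun i _ => by rw [smul_smul, pow_succ']

theorem pow_smul_geom_sum_smul (v : V) (c : C) (k : ℕ) :
    c ^ k • (∑ i ∈ Finset.range (orderOf c), c ^ i • v) = ∑ i ∈ Finset.range (orderOf c), c ^ i • v := by
  induction k with
  | zero => rw [pow_zero, one_smul]
  | succ k ih => rw [pow_succ', mul_smul, ih, smul_geom_sum_smul]

end CfsgLib.Char
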