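import Cfsg.Agent.Lib.Char.TwoByTwoTorus
import Cfsg.Agent.Lib.Char.SemiSpectrum

/-!
# A module over `ZMod 2` for `PSL(2,p)` on which elements of order `p` act without fixed points

The module consists of the functions on the group whose sums over the left cosets of all subgroups of
order `p` vanish.
-/

set_option autoImplicit false
set_option linter.unusedSectionVars false
set_option linter.style.haveILetI false

namespace CfsgLib.Char.TwoByTwo

open Matrix CfsgLib.PSL2Two

variable {F : Type*} [Field F] [Fintype F]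

/-- Functions with vanishing sums over cosets of subgroups of order `p`. -/
def cuspFuns (F : Type*) [Field F] [Fintype F] : AddSubgroup (PSL2 F → ZMod 2) where
  carrier := {f | ∀ h : PSL2 F, orderOf h = Fintype.card F →
    ∀ x, ∑ i ∈ Finset.range (Fintype.card F), f (x * h ^ i) = 0}
  add_mem' := fun {f g} hf hg h hh x => by
    show ∑ i ∈ Finset.range _, (f (x * h ^ i) + g (x * h ^ i)) = 0
    rw [Finset.sum_add_distrib, hf h hh x, hg h hh x, add_zero]
  zero_mem' := fun h _ x => by simp
  neg_mem' := fun {f} hf h hh x => by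
    show ∑ i ∈ Finset.range _, -f (x * h ^ i) = 0
    rw [Finset.sum_neg_distrib, hf h hh x, neg_zero]

/-- The cuspidal module. -/
def Cusp.{u} (F : Type u) [Field F] [Fintype F] : Type u := cuspFuns F

instance instAddCommGroupCusp : AddCommGroup (Cusp F) := inferInstanceAs (AddCommGroup (cuspFuns F))
noncomputable instance instFiniteCusp : Fintype (Cusp F) := Fintype.ofFinite (cuspFuns F)

/-- The value. -/
def Cusp.val (f : Cusp F) : PSL2 F → ZMod 2 := Subtype.val f

theorem Cusp.ext {f g : Cusp F} (h : f.val = g.val) : f = g := Subtype.ext h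

theorem Cusp.val_add (f g : Cusp F) : (f + g).val = f.val + g.val := rfl
theorem Cusp.val_zero : (0 : Cusp F).val = 0 := rfl

theorem Cusp.val_sum {ι : Type*} (s : Finset ι) (f : ι → Cusp F) :
    (∑ i ∈ s, f i).val = ∑ i ∈ s, (f i).val :=
  map_sum (AddMonoidHom.mk' Cusp.val Cusp.val_add) f s

theorem Cusp.vanish (f : Cusp F) {h : PSL2 F} (hh : orderOf h = Fintype.card F) (x : PSL2 F) :
    ∑ i ∈ Finset.range (Fintype.card F), f.val (x * h ^ i) = 0 := Subtype.property f h hh x

theorem translate_mem (c : PSL2 F) (f : Cusp F) : (fun x => f.val (x * c)) ∈ cuspFuns F := by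
  intro h hh x
  have h1 : orderOf (c⁻¹ * h * c) = Fintype.card F := by
    rw [← hh]
    conv_lhs => rw [show c⁻¹ * h * c = MulAut.conj c⁻¹ h by simp]
    exact MulEquiv.orderOf_eq _ _
  refine Eq.trans (Finset.sum_congr rfl fun i _ => ?_) (f.vanish h1 (x * c))
  have h2 := conj_pow (i := i) (a := c⁻¹) (b := h)
  rw [inv_inv] at h2
  rw [h2]
  simp [mul_assoc]

instance instActCusp : DistribMulAction (PSL2 F) (Cusp F) where
  smul c f := (⟨fun x => f.val (x * c), translate_mem c f⟩ : cuspFuns F)
  one_smul f := Cusp.ext (funext fun x => congrArg f.val (mul_one x))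
  mul_smul a b f := Cusp.ext (funext fun x => congrArg f.val (mul_assoc x a b).symm)
  smul_zero _ := rfl
  smul_add _ _ _ := rfl

theorem Cusp.smul_val (c : PSL2 F) (f : Cusp F) (x : PSL2 F) : (c • f).val x = f.val (x * c) := rfl

theorem Cusp.two_nsmul (f : Cusp F) : (2 : ℕ) • f = 0 := by
  rw [_root_.two_nsmul]
  exact Cusp.ext (funext fun x => CharTwo.add_self_eq_zero (f.val x))

theorem Cusp.geom_sum_eq_zero {h : PSL2 F} (hh : orderOf h = Fintype.card F) (f : Cusp F) :
    ∑ i ∈ Finset.range (Fintype.card F), h ^ i • f = 0 := by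
  refine Cusp.ext (funext fun x => ?_)
  rw [Cusp.val_sum, Finset.sum_apply, Cusp.val_zero, Pi.zero_apply]
  simp only [Cusp.smul_val]
  exact f.vanish hh x

open scoped Classical in
/-- The indicator of the elements with a lift of trace `τ`. -/
noncomputable def traceFun (τ : F) (g : PSL2 F) : ZMod 2 := if ∃ A : SL2 F, π A = g ∧ A.1.trace = τ then 1 else 0

open scoped Classical in
theorem traceFun_π {τ : F} (A : SL2 F) :
    traceFun τ (π A) = if A.1.trace = τ ∨ A.1.trace = -τ then 1 else 0 := by
  classical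
  unfold traceFun
  refine if_congr ⟨?_, ?_⟩ rfl rfl
  · rintro ⟨B, hB, ht⟩
    rcases π_eq_iff.mp hB with h | h
    · exact Or.inl (by rw [← h, ht])
    · refine Or.inr ?_
      rw [← ht, show B.1 = -A.1 from h, Matrix.trace_neg, neg_neg]
  · rintro (h | h)
    · exact ⟨A, rfl, h⟩
    · refine ⟨-A, π_eq_iff.mpr (Or.inr (by simp)), ?_⟩
      show (-A : SL2 F).1.trace = τ
      rw [show ((-A : SL2 F)).1 = -A.1 from Matrix.SpecialLinearGroup.coe_neg A, Matrix.trace_neg, h, neg_neg]

/-- Multiplying a nilpotent-centred matrix: the discriminant is a square. -/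
theorem isSquare_disc_of_trace_mul_nilpotent {X : SL2 F} {N : Matrix (Fin 2) (Fin 2) F}
    (h2 : (2 : F) ≠ 0) (hN : N ≠ 0) (htr : N.trace = 0) (hdet : N.det = 0) (hX : (X.1 * N).trace = 0) :
    IsSquare (X.1.trace ^ 2 - 4) := by
  have hXd := X.2
  rw [Matrix.det_fin_two] at hXd hdet
  rw [Matrix.trace_fin_two] at htr
  simp only [Matrix.trace_fin_two, Matrix.mul_apply, Fin.sum_univ_two] at hX
  rw [Matrix.trace_fin_two]
  set a := X.1 0 0
  set b := X.1 0 1
  set c := X.1 1 0
  set d := X.1 1 1
  set n := N 0 0 with hn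
  set m := N 0 1 with hm
  set l := N 1 0 with hl
  have h11 : N 1 1 = -n := by linear_combination htr
  rw [h11] at hdet hX
  by_cases hm0 : m = 0
  · have hn0 : n = 0 := by
      have : n * n = 0 := by rw [hm0] at hdet; linear_combination -hdet
      exact mul_self_eq_zero.mp this
    have hl0 : l ≠ 0 := fun h0 => hN (by
      ext i j
      fin_cases i <;> fin_cases j
      · exact hn0
      · exact hm0
      · exact h0
      · show N 1 1 = 0; rw [h11, hn0, neg_zero])
    have hb : b = 0 := by
      rw [hn0, hm0] at hX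
      have : b * l = 0 := by linear_combination hX
      exact (mul_eq_zero.mp this).resolve_right hl0
    exact ⟨a - d, by rw [hb] at hXd; linear_combination (4 : F) * hXd⟩
  · refine ⟨a - d - 2 * b * n / m, ?_⟩
    have h3 : c * m ^ 2 + (a - d) * n * m - b * n ^ 2 = 0 := by
      linear_combination m * hX + b * hdet
    field_simp
    linear_combination (4 : F) * b * h3 + (4 : F) * m ^ 2 * hXd

theorem prime_charP (hq : (Fintype.card F).Prime) : CharP F (Fintype.card F) := by
  obtain ⟨p, hc⟩ := CharP.exists F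
  obtain ⟨n, hp, hn⟩ := FiniteField.card F p
  have h : (n : ℕ) = 1 := (Nat.Prime.pow_eq_iff (p := Fintype.card F) hq).mp hn.symm |>.2
  rw [hn, h, pow_one]
  exact hc

theorem traceFun_mem (hq : (Fintype.card F).Prime) (hodd : Fintype.card F % 2 = 1) {τ : F} (hτ : τ ≠ 0)
    (hns : ¬ IsSquare (τ ^ 2 - 4)) : traceFun τ ∈ cuspFuns F := by
  classical
  intro h hh x
  haveI := prime_charP hq
  haveI : Fact (Fintype.card F).Prime := ⟨hq⟩
  have h2 := two_ne_zero_of_odd hodd
  obtain ⟨X, rfl⟩ := π_surjective x
  obtain ⟨U, rfl⟩ := π_surjective h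
  -- a lift with square-zero `U - 1`
  obtain ⟨V, hπV, hVsq⟩ : ∃ V : SL2 F, π V = π U ∧ V.1.trace = 2 := by
    have hpow := pow_orderOf_eq_one (π U)
    rw [hh, ← map_pow, π_eq_one_iff, Matrix.SpecialLinearGroup.coe_pow] at hpow
    have hD : disc U.1 = 0 := by
      rcases disc_cases hodd U.1 with h | h | h
      · exact h
      · exfalso
        have e := pow_card_sub_one_of_disc_sq hodd (by rw [U.2]; exact one_ne_zero) h
        have : π U ^ (Fintype.card F - 1) = 1 := by
          rw [← map_pow, π_eq_one_iff, Matrix.SpecialLinearGroup.coe_pow]; exact Or.inl e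
        have := Nat.le_of_dvd (by have := hq.two_le; omega) (orderOf_dvd_of_pow_eq_one this)
        omega
      · exfalso
        have e := pow_card_add_one_of_disc_nonsq hodd h
        rw [U.2, one_smul] at e
        have h1 : π U ^ (Fintype.card F + 1) = 1 := by
          rw [← map_pow, π_eq_one_iff, Matrix.SpecialLinearGroup.coe_pow]; exact Or.inl e
        rw [pow_succ, ← hh, pow_orderOf_eq_one, one_mul] at h1
        rw [h1, orderOf_one] at hh
        have := hq.two_le
        omega
    rw [disc, U.2, mul_one, sub_eq_zero] at hD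
    have hD' : U.1.trace ^ 2 = (2 : F) ^ 2 := by rw [hD]; norm_num
    rcases sq_eq_sq_iff_eq_or_eq_neg.mp hD' with h | h
    · exact ⟨U, rfl, h⟩
    · refine ⟨-U, π_eq_iff.mpr (Or.inr (by simp)), ?_⟩
      show (-U : SL2 F).1.trace = 2
      rw [show ((-U : SL2 F)).1 = -U.1 from Matrix.SpecialLinearGroup.coe_neg U, Matrix.trace_neg, h, neg_neg]
  rw [← hπV] at hh ⊢
  set N : Matrix (Fin 2) (Fin 2) F := V.1 - 1 with hN
  have hNtr : N.trace = 0 := by
    rw [hN, Matrix.trace_sub, hVsq, Matrix.trace_one, Fintype.card_fin]; norm_num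
  have hNdet : N.det = 0 := by
    have hd := V.2
    rw [Matrix.trace_fin_two] at hVsq
    rw [Matrix.det_fin_two] at hd
    simp [hN, Matrix.det_fin_two]
    linear_combination hd - hVsq
  have hNN : N * N = 0 := by
    rw [Matrix.trace_fin_two] at hNtr
    rw [Matrix.det_fin_two] at hNdet
    ext i j
    fin_cases i <;> fin_cases j <;> simp [Matrix.mul_apply, Fin.sum_univ_two]
    · linear_combination N 0 0 * hNtr - hNdet
    · linear_combination N 0 1 * hNtr
    · linear_combination N 1 0 * hNtr
    · linear_combination N 1 1 * hNtr - hNdet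
  have hN0 : N ≠ 0 := fun h0 => by
    have hV1 : π V = 1 := π_eq_one_iff.mpr (Or.inl (sub_eq_zero.mp h0))
    rw [hV1, orderOf_one] at hh
    have := hq.two_le
    omega
  have hVi : ∀ i : ℕ, V.1 ^ i = 1 + (i : F) • N := by
    intro i
    induction i with
    | zero => simp
    | succ i ih =>
      rw [pow_succ, ih, show V.1 = 1 + N by rw [hN]; abel, mul_add, add_mul, add_mul, one_mul, mul_one,
        one_mul, smul_mul_assoc, hNN, smul_zero, add_zero, Nat.cast_succ, add_smul, one_smul]
      abel
  have hterm : ∀ i : ℕ, traceFun τ (π X * π V ^ i) =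
      if X.1.trace + (i : F) * (X.1 * N).trace = τ ∨ X.1.trace + (i : F) * (X.1 * N).trace = -τ
      then 1 else 0 := by
    intro i
    rw [← map_pow, ← map_mul, traceFun_π, val_mul, Matrix.SpecialLinearGroup.coe_pow, hVi, mul_add, mul_one,
      mul_smul_comm, Matrix.trace_add, Matrix.trace_smul, smul_eq_mul]
  simp only [hterm]
  set s := X.1.trace
  set r := (X.1 * N).trace with hr
  by_cases hr0 : r = 0
  · have hsq := isSquare_disc_of_trace_mul_nilpotent h2 hN0 hNtr hNdet hr0
    refine Finset.sum_eq_zero fun i _ => if_neg ?_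
    rw [hr0, mul_zero, add_zero]
    rintro (e | e)
    · exact hns (e ▸ hsq)
    · apply hns
      have : τ ^ 2 - 4 = X.1.trace ^ 2 - 4 := by rw [show X.1.trace = -τ from e, neg_pow_two]
      rw [this]; exact hsq
  · have hbij : ∀ c : F, ∃ i ∈ Finset.range (Fintype.card F), s + (i : F) * r = c := by
      intro c
      obtain ⟨k, hk⟩ : ∃ k : ℕ, (k : F) = (c - s) / r := by
        have hs : Function.Bijective (ZMod.castHom (dvd_refl (Fintype.card F)) F) :=
          ZMod.castHom_bijective F rfl
        obtain ⟨z, hz⟩ := hs.2 ((c - s) / r)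
        exact ⟨z.val, by rw [← hz, ← map_natCast (ZMod.castHom (dvd_refl _) F), ZMod.natCast_zmod_val]⟩
      refine ⟨k % Fintype.card F, Finset.mem_range.mpr (Nat.mod_lt _ hq.pos), ?_⟩
      rw [← CharP.cast_eq_mod F (Fintype.card F) k, hk, div_mul_cancel₀ _ hr0]
      ring
    have huniq : ∀ i ∈ Finset.range (Fintype.card F), ∀ j ∈ Finset.range (Fintype.card F),
        s + (i : F) * r = s + (j : F) * r → i = j := by
      intro i hi j hj e
      have e2 : (i : F) = (j : F) := mul_right_cancel₀ hr0 (add_left_cancel e)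
      rw [CharP.natCast_eq_natCast F (Fintype.card F), Nat.ModEq, Nat.mod_eq_of_lt (Finset.mem_range.mp hi),
        Nat.mod_eq_of_lt (Finset.mem_range.mp hj)] at e2
      exact e2
    have hne : τ ≠ -τ := fun e => hτ (by
      have : (2 : F) * τ = 0 := by linear_combination e
      exact (mul_eq_zero.mp this).resolve_left h2)
    obtain ⟨i, hi, hii⟩ := hbij τ
    obtain ⟨j, hj, hjj⟩ := hbij (-τ)
    have hij : i ≠ j := fun e => hne (hii.symm.trans (by rw [e, hjj]))
    rw [Finset.sum_eq_add_of_mem i j hi hj hij (fun k hk hkij => if_neg (by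
      rintro (e | e)
      · exact hkij.1 (huniq k hk i hi (e.trans hii.symm))
      · exact hkij.2 (huniq k hk j hj (e.trans hjj.symm))))]
    rw [if_pos (Or.inl hii), if_pos (Or.inr hjj)]
    decide

/-- A trace `τ ≠ 0` with `τ^2 - 4` a nonsquare. -/
theorem exists_trace (hodd : Fintype.card F % 2 = 1) (h5 : 5 ≤ Fintype.card F) :
    ∃ τ : F, τ ≠ 0 ∧ ¬ IsSquare (τ ^ 2 - 4) := by
  obtain ⟨ε, hε0, hε⟩ := exists_nonsquare (F := F) hodd
  obtain ⟨u, hdet, hord⟩ := exists_psl_torus ε hodd h5
  set m := (Fintype.card F + 1) / 2 with hm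
  have h2 := two_ne_zero_of_odd hodd
  have hnorm : u.re ^ 2 - ε * u.im ^ 2 = 1 := by
    rw [det_torusMat, QuadraticAlgebra.norm_def] at hdet
    linear_combination hdet
  have him : u.im ≠ 0 := fun h0 => by
    rw [h0] at hnorm
    have h1 : π (torSL ε u hdet) = 1 := by
      refine π_eq_one_iff.mpr ?_
      rcases sq_eq_one_iff.mp (show u.re ^ 2 = 1 by linear_combination hnorm) with h | h
      · exact Or.inl (by ext i j; fin_cases i <;> fin_cases j <;> simp [torusMat, h, h0])
      · exact Or.inr (by ext i j; fin_cases i <;> fin_cases j <;> simp [torusMat, h, h0])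
    rw [h1, orderOf_one] at hord
    omega
  have hre : u.re ≠ 0 := fun h0 => by
    have h1 : π (torSL ε u hdet) ^ 2 = 1 := by
      refine (map_pow π (torSL ε u hdet) 2).symm.trans (π_eq_one_iff.mpr (Or.inr ?_))
      rw [Matrix.SpecialLinearGroup.coe_pow]
      show torusMat ε u ^ 2 = -1
      rw [h0] at hnorm
      ext i j
      fin_cases i <;> fin_cases j <;>
        simp [torusMat, pow_two, Matrix.mul_apply, Fin.sum_univ_two, h0] <;>
        linear_combination -hnorm
    have := Nat.le_of_dvd (by norm_num) (orderOf_dvd_of_pow_eq_one h1)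
    rw [hord] at this
    omega
  refine ⟨2 * u.re, mul_ne_zero h2 hre, ?_⟩
  rintro ⟨r, hr⟩
  refine hε.out (r / (2 * u.im)) ?_
  field_simp
  linear_combination -hr + (4 : F) * hnorm

open Polynomial in
/-- The geometric sum of `traceFun τ` along a torus element is nonzero. -/
theorem exists_geom_sum_ne_zero (hq : (Fintype.card F).Prime) (hodd : Fintype.card F % 2 = 1)
    {τ : F} (hτ : τ ≠ 0) (hns : ¬ IsSquare (τ ^ 2 - 4)) {ε : F} (hε : ε ≠ 0)
    {u : QuadraticAlgebra F ε 0} (hdet : (torusMat ε u).det = 1) :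
    ∃ f : Cusp F, ∑ i ∈ Finset.range (orderOf (π (torSL ε u hdet))),
      π (torSL ε u hdet) ^ i • f ≠ 0 := by
  classical
  have h2 := two_ne_zero_of_odd hodd
  set t : PSL2 F := π (torSL ε u hdet) with ht
  let fτ : Cusp F := (⟨traceFun τ, traceFun_mem hq hodd hτ hns⟩ : cuspFuns F)
  refine ⟨fτ, fun h0 => ?_⟩
  -- a matrix `X` with trace `τ` and `X₀₁ = -ε X₁₀`
  obtain ⟨a, c, hac⟩ : ∃ a c : F, a * (τ - a) + ε * c ^ 2 = 1 := by
    obtain ⟨a, c, h⟩ := FiniteField.exists_root_sum_quadratic
      (f := -(X : F[X]) ^ 2 + C τ * X - 1) (g := C ε * X ^ 2)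
      (by compute_degree!) (by compute_degree!) (FiniteField.odd_card_of_char_ne_two (ringChar_two_ne hodd))
    refine ⟨a, c, ?_⟩
    simp only [eval_sub, eval_add, eval_neg, eval_pow, eval_X, eval_mul, eval_C, eval_one] at h
    linear_combination h
  let M : SL2 F := ⟨!![a, -ε * c; c, τ - a], by rw [Matrix.det_fin_two]; simp; linear_combination hac⟩
  have h1 := congrArg (fun f : Cusp F => f.val (π M)) h0
  simp only [Cusp.val_zero, Pi.zero_apply, Cusp.val_sum, Finset.sum_apply] at h1
  rw [Finset.sum_eq_single 0] at h1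
  · rw [Cusp.smul_val, pow_zero, mul_one] at h1
    change traceFun τ (π M) = 0 at h1
    rw [traceFun_π, if_pos (Or.inl (by simp [M, Matrix.trace_fin_two]))] at h1
    exact one_ne_zero h1
  · intro i hi hi0
    rw [Finset.mem_range] at hi
    rw [Cusp.smul_val]
    show traceFun τ (π M * t ^ i) = 0
    rw [ht, ← map_pow, ← map_mul, traceFun_π, if_neg]
    intro hor
    set v := u ^ i with hv
    have hvd : (torusMat ε v).det = 1 := by rw [hv, map_pow, Matrix.det_pow, hdet, one_pow]
    have htr : (M * (torSL ε u hdet) ^ i).1.trace = τ * v.re := by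
      rw [val_mul, Matrix.SpecialLinearGroup.coe_pow]
      show (!![a, -ε * c; c, τ - a] * torusMat ε u ^ i).trace = τ * v.re
      rw [← map_pow, ← hv]
      simp [torusMat, Matrix.trace_fin_two, Matrix.mul_apply, Fin.sum_univ_two]
      ring
    rw [htr] at hor
    have hre : v.re ^ 2 = 1 := by
      rcases hor with e | e
      · rw [show v.re = 1 from mul_left_cancel₀ hτ (e.trans (mul_one τ).symm), one_pow]
      · rw [show v.re = -1 from mul_left_cancel₀ hτ (e.trans (by ring)), neg_pow_two, one_pow]
    rw [det_torusMat, QuadraticAlgebra.norm_def] at hvd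
    have him : v.im = 0 := by
      have : ε * (v.im * v.im) = 0 := by linear_combination hre - hvd
      exact mul_self_eq_zero.mp ((mul_eq_zero.mp this).resolve_left hε)
    have ht1 : t ^ i = 1 := by
      rw [ht, ← map_pow, π_eq_one_iff, Matrix.SpecialLinearGroup.coe_pow]
      show torusMat ε u ^ i = 1 ∨ torusMat ε u ^ i = -1
      rw [← map_pow, ← hv]
      rcases sq_eq_one_iff.mp hre with e | e
      · exact Or.inl (by ext x y; fin_cases x <;> fin_cases y <;> simp [torusMat, e, him])
      · exact Or.inr (by ext x y; fin_cases x <;> fin_cases y <;> simp [torusMat, e, him])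
    exact pow_ne_one_of_lt_orderOf hi0 hi ht1
  · intro hmem
    exact absurd (Finset.mem_range.mpr (orderOf_pos t)) hmem

end CfsgLib.Char.TwoByTwo
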