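import Cfsg.Agent.Lib.PGroup.RegularCyclicPerm
import Mathlib.GroupTheory.GroupAction.MultipleTransitivity
import Mathlib.GroupTheory.GroupAction.Primitive
import Mathlib.Algebra.CharP.Lemmas
import Mathlib.Tactic.LinearCombination

/-!
# Schur: a regular cyclic subgroup of composite order

The counting argument of Burnside and Schur only needs a prime divisor of the composite order.
-/

set_option autoImplicit false
set_option linter.all false

namespace CfsgLib.Char.CyclicBGroup

open Finset CfsgLib.PGroup.RegularCyclic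

universe u v

variable {H : Type u} [Group H] [Finite H]

open Classical in
/-- Without invariant subgroups no suborbit is small. -/
theorem false_of_small_suborbit {Ω : Type v} [AddCommGroup Ω] [Fintype Ω] [IsAddCyclic Ω] {r : ℕ}
    (hr : r.Prime) (hdvd : r ∣ Nat.card Ω) (hlt : r < Nat.card Ω) (ψ : H →* Equiv.Perm Ω)
    (htr : ∀ a : Ω, ∃ h, ∀ x, ψ h x = x + a)
    (hblock : ∀ B : AddSubgroup Ω, StabInvariant ψ (B : Set Ω) → B ≠ ⊥ → B ≠ ⊤ → False)
    (x₀ : Ω) (hx₀ : x₀ ≠ 0)
    (hsmall : 2 * (univ.filter fun y => ∃ h, ψ h 0 = 0 ∧ ψ h x₀ = y).card ≤ Fintype.card Ω - 1) :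
    False := by
  haveI := Fact.mk hr
  set n := Nat.card Ω with hn
  have hcardF : Fintype.card Ω = n := by rw [hn, Nat.card_eq_fintype_card]
  set Z : Finset Ω := univ.filter fun x => r • x = 0 with hZdef
  have hZcard : Z.card ≤ r := IsAddCyclic.card_nsmul_eq_zero_le hr.pos
  have hZtwo : ∃ z ∈ Z, z ≠ 0 := by
    obtain ⟨z, hz⟩ := exists_prime_addOrderOf_dvd_card' r hdvd
    refine ⟨z, Finset.mem_filter.2 ⟨Finset.mem_univ _, ?_⟩, fun h0 => ?_⟩
    · conv_lhs => rw [← hz]
      exact addOrderOf_nsmul_eq_zero z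
    · rw [h0, addOrderOf_zero] at hz; exact hr.ne_one hz.symm
  have hne : ∃ x : Ω, x ≠ 0 := hZtwo.imp fun z hz => hz.2
  let mul_r : Ω →+ Ω := nsmulAddMonoidHom r
  have hrange : mul_r.range ≠ ⊤ := by
    intro htop
    have hsurj : Function.Surjective mul_r := AddMonoidHom.range_eq_top.1 htop
    obtain ⟨z, hz, hz0⟩ := hZtwo
    exact hz0 ((Finite.injective_iff_surjective.2 hsurj)
      (show r • z = r • (0 : Ω) by rw [(Finset.mem_filter.1 hz).2, smul_zero]))
  -- for each suborbit
  have horb : ∀ X : Finset Ω, X.Nonempty → (0 : Ω) ∉ X → StabInvariant ψ (X : Set Ω) →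
      (∀ g ∈ X, r • g ≠ 0 → ∀ z ∈ Z, g + z ∈ X) ∧ (∃ g ∈ X, r • g ≠ 0) ∧
        ∃ z ∈ X, r • z = 0 := by
    intro X hXne hX0 hXinv
    let P : AddMonoidAlgebra (ZMod r) Ω := ∑ x ∈ X, AddMonoidAlgebra.single x 1
    haveI : CharP (AddMonoidAlgebra (ZMod r) Ω) r :=
      charP_of_injective_algebraMap' (ZMod r) r
    have hPr : P ^ r = ∑ x ∈ X, AddMonoidAlgebra.single (r • x) 1 := by
      rw [sum_pow_char r]
      exact Finset.sum_congr rfl fun x _ => by rw [AddMonoidAlgebra.single_pow, one_pow]
    have hinv : ∀ (n : ℕ) (h : H), ψ h 0 = 0 → ∀ y, (P ^ n).coeff (ψ h y) = (P ^ n).coeff y := by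
      intro n
      induction n with
      | zero =>
        intro h h0 y
        rw [pow_zero, AddMonoidAlgebra.one_def, AddMonoidAlgebra.coeff_single,
          Finsupp.single_apply, Finsupp.single_apply]
        by_cases hy : y = 0
        · subst hy; simp [h0]
        · have : ψ h y ≠ 0 := fun e => hy ((ψ h).injective (e.trans h0.symm))
          simp [Ne.symm hy, Ne.symm this]
      | succ n ihn =>
        intro h h0 y
        have hco : ∀ y, (P ^ (n + 1)).coeff y = ∑ v, if y - v ∈ X then (P ^ n).coeff v else 0 := by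
          intro y
          rw [pow_succ, Finset.mul_sum, AddMonoidAlgebra.coeff_sum, Finset.sum_apply',
            ← Finset.sum_filter]
          refine Finset.sum_bij (fun x _ => y - x) (fun x hx => by
              simp [hx]) (fun a _ b _ hab => sub_right_injective hab)
            (fun v hv => ⟨y - v, (Finset.mem_filter.1 hv).2, sub_sub_cancel y v⟩) fun x _ => ?_
          rw [AddMonoidAlgebra.coeff_mul_single_eq_coeff_mul (y - x)
            (fun v _ => eq_sub_iff_add_eq.symm), mul_one]
        rw [hco, hco]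
        refine (Finset.sum_equiv (ψ h) (fun _ => by simp) fun v _ => ?_).symm
        have hiff := rel_iff_of_invariant ψ htr hXinv h (a := v) (b := y)
        simp only [Finset.mem_coe] at hiff
        by_cases hm : y - v ∈ X
        · rw [if_pos hm, if_pos (hiff.2 hm), ihn h h0 v]
        · rw [if_neg hm, if_neg (mt hiff.1 hm)]
    have hcnt : ∀ y, (P ^ r).coeff y = ((X.filter fun x => r • x = y).card : ZMod r) := by
      intro y
      rw [hPr, AddMonoidAlgebra.coeff_sum, Finset.sum_apply']
      simp only [AddMonoidAlgebra.coeff_single, Finsupp.single_apply, Finset.sum_boole]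
    set Y : Set Ω := {y | y ≠ 0 ∧ (P ^ r).coeff y ≠ 0}
    have hYinv : StabInvariant ψ Y := fun h h0 y hy =>
      ⟨fun e => hy.1 ((ψ h).injective (e.trans h0.symm)), by rw [hinv r h h0 y]; exact hy.2⟩
    have hYsub : Y ⊆ (mul_r.range : Set Ω) := by
      intro y hy
      have hne0 : (X.filter fun x => r • x = y).Nonempty := by
        rw [Finset.nonempty_iff_ne_empty]
        intro h
        exact hy.2 (by rw [hcnt, h, Finset.card_empty, Nat.cast_zero])
      obtain ⟨x, hx⟩ := hne0
      exact ⟨x, (Finset.mem_filter.1 hx).2⟩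
    have hYempty : ∀ y, y ∉ Y := fun y hy =>
      hblock (AddSubgroup.closure Y) (closure_invariant ψ htr hYinv)
        (fun h => hy.1 (AddSubgroup.mem_bot.1 (h ▸ AddSubgroup.subset_closure hy)))
        (fun h => hrange (top_le_iff.1 (h ▸ (AddSubgroup.closure_le _).2 hYsub)))
    have hfull : ∀ g ∈ X, r • g ≠ 0 → ∀ z ∈ Z, g + z ∈ X := by
      intro g hg hg0 z hz
      set F := X.filter fun x => r • x = r • g with hF
      have hgF : g ∈ F := Finset.mem_filter.2 ⟨hg, rfl⟩
      have hsub : F ⊆ Z.image (g + ·) := fun x hx =>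
        Finset.mem_image.2 ⟨x - g, Finset.mem_filter.2 ⟨Finset.mem_univ _,
          by rw [smul_sub, (Finset.mem_filter.1 hx).2, sub_self]⟩, add_sub_cancel g x⟩
      have hdvd : r ∣ F.card := by
        rw [← ZMod.natCast_eq_zero_iff, ← hcnt]
        by_contra h
        exact hYempty _ ⟨hg0, h⟩
      have hle : F.card ≤ (Z.image (g + ·)).card := Finset.card_le_card hsub
      have himg : (Z.image (g + ·)).card ≤ r := Finset.card_image_le.trans hZcard
      have hpos : 0 < F.card := Finset.card_pos.2 ⟨g, hgF⟩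
      have := Nat.le_of_dvd hpos hdvd
      have heq := Finset.eq_of_subset_of_card_le hsub (by omega)
      have hmem : g + z ∈ F := by rw [heq]; exact Finset.mem_image_of_mem _ hz
      exact (Finset.mem_filter.1 hmem).1
    refine ⟨hfull, ?_, ?_⟩
    · by_contra hcon
      push Not at hcon
      obtain ⟨x, hx⟩ := hXne
      refine hblock (AddSubgroup.closure (X : Set Ω)) (closure_invariant ψ htr hXinv)
        (fun h => hX0 (AddSubgroup.mem_bot.1 (h ▸ AddSubgroup.subset_closure hx) ▸ hx)) fun h => ?_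
      have hker : (⊤ : AddSubgroup Ω) ≤ mul_r.ker := h ▸ (AddSubgroup.closure_le _).2 hcon
      -- then every element would be killed by `r`
      have hall : Fintype.card Ω ≤ Z.card := by
        refine le_of_eq_of_le Finset.card_univ.symm (Finset.card_le_card fun y _ => ?_)
        exact Finset.mem_filter.2 ⟨Finset.mem_univ _, hker (AddSubgroup.mem_top y)⟩
      rw [hcardF] at hall
      omega
    · by_contra hcon
      push Not at hcon
      obtain ⟨x, hx⟩ := hXne
      let B : AddSubgroup Ω :=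
        { carrier := {b | ∀ y, y + b ∈ X ↔ y ∈ X}
          zero_mem' := fun y => by rw [add_zero]
          add_mem' := fun {a b} ha hb y => by rw [← add_assoc]; exact (hb _).trans (ha y)
          neg_mem' := fun {a} ha y => by
            have := ha (y + -a)
            rw [neg_add_cancel_right] at this
            exact this.symm }
      have hBinv : StabInvariant ψ (B : Set Ω) := by
        intro h h0 b hb y
        obtain ⟨v, hv⟩ := (ψ h).surjective (y + ψ h b)
        have e1 : y + ψ h b ∈ X ↔ v ∈ X := by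
          rw [← hv]
          have := rel_iff_of_invariant ψ htr hXinv h (a := 0) (b := v)
          simpa [h0] using this
        have e2 : y ∈ X ↔ v - b ∈ X := by
          have := rel_iff_of_invariant ψ htr hXinv h (a := b) (b := v)
          rw [hv, add_sub_cancel_right] at this
          exact this
        rw [e1, e2]
        have := hb (v - b)
        rwa [sub_add_cancel] at this
      obtain ⟨z, hz, hz0⟩ := hZtwo
      refine hblock B hBinv (fun h => hz0 ?_) fun h => ?_
      · have hzB : z ∈ B := fun y => by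
          constructor
          · intro hy
            have hnz : -z ∈ Z := Finset.mem_filter.2
              ⟨Finset.mem_univ _, by rw [smul_neg, (Finset.mem_filter.1 hz).2, neg_zero]⟩
            have := hfull _ hy (hcon _ hy) _ hnz
            rwa [add_neg_cancel_right] at this
          · exact fun hy => hfull y hy (hcon y hy) z hz
        rw [h] at hzB
        exact hzB
      · have h2 := (h ▸ AddSubgroup.mem_top x : x ∈ B) 0
        rw [zero_add] at h2
        exact hX0 (h2.1 hx)
  -- counting differences in a small suborbit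
  rw [hcardF] at hsmall
  have horbX : ∀ x : Ω, x ≠ 0 →
      (∀ g ∈ (univ.filter fun y => ∃ h, ψ h 0 = 0 ∧ ψ h x = y), r • g ≠ 0 →
          ∀ z ∈ Z, g + z ∈ (univ.filter fun y => ∃ h, ψ h 0 = 0 ∧ ψ h x = y)) ∧
        (∃ g ∈ (univ.filter fun y => ∃ h, ψ h 0 = 0 ∧ ψ h x = y), r • g ≠ 0) ∧
        ∃ z ∈ (univ.filter fun y => ∃ h, ψ h 0 = 0 ∧ ψ h x = y), r • z = 0 := by
    intro x hx
    refine horb _ ⟨x, Finset.mem_filter.2 ⟨Finset.mem_univ _, 1, by simp, by simp⟩⟩ ?_ ?_
    · intro h
      obtain ⟨g, g0, hg⟩ := (Finset.mem_filter.1 h).2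
      exact hx ((ψ g).injective (hg.trans g0.symm))
    · simpa using orbit_set_invariant ψ x
  set X := univ.filter fun y => ∃ h, ψ h 0 = 0 ∧ ψ h x₀ = y with hXdef
  obtain ⟨hfull, ⟨g₁, hg₁, hg₁r⟩, -⟩ := horbX x₀ hx₀
  have hXinv : StabInvariant ψ (X : Set Ω) := by simpa [hXdef] using orbit_set_invariant ψ x₀
  set X1 := X.filter fun g => r • g ≠ 0 with hX1
  set D := fun y : Ω => univ.filter fun v : Ω => -v ∈ X ∧ y - v ∈ X with hD
  have hDinv : ∀ h, ψ h 0 = 0 → ∀ y, (D (ψ h y)).card = (D y).card := by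
    intro h h0 y
    refine (Finset.card_equiv (ψ h) fun v => ?_).symm
    simp only [D, Finset.mem_filter, Finset.mem_univ, true_and]
    have e1 := rel_iff_of_invariant ψ htr hXinv h (a := v) (b := 0)
    have e2 := rel_iff_of_invariant ψ htr hXinv h (a := v) (b := y)
    simp only [Finset.mem_coe, h0, zero_sub] at e1 e2
    rw [e1, e2]
  have hDge : ∀ y, y ≠ 0 → X1.card ≤ (D y).card := by
    intro y hy
    obtain ⟨-, -, z, hz, hzr⟩ := horbX y hy
    obtain ⟨h, h0, rfl⟩ := (Finset.mem_filter.1 hz).2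
    rw [← hDinv h h0 y, ← Finset.card_image_of_injective X1 neg_injective]
    refine Finset.card_le_card fun v hv => ?_
    obtain ⟨a, ha, rfl⟩ := Finset.mem_image.1 hv
    obtain ⟨haX, har⟩ := Finset.mem_filter.1 ha
    refine Finset.mem_filter.2 ⟨Finset.mem_univ _, by rwa [neg_neg], ?_⟩
    rw [sub_neg_eq_add, add_comm]
    exact hfull a haX har _ (Finset.mem_filter.2 ⟨Finset.mem_univ _, hzr⟩)
  have htot : ∑ y, (D y).card = X.card * X.card := by
    rw [← Finset.card_sigma, ← Finset.card_product]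
    refine Finset.card_bij (fun p _ => (-p.2, p.1 - p.2)) (fun p hp => ?_) (fun p _ q _ hpq => ?_)
      (fun q hq => ?_)
    · obtain ⟨-, h1, h2⟩ := (by simpa [D] using hp : True ∧ -p.2 ∈ X ∧ p.1 - p.2 ∈ X)
      exact Finset.mem_product.2 ⟨h1, h2⟩
    · obtain ⟨p1, p2⟩ := p
      obtain ⟨q1, q2⟩ := q
      simp only [Prod.mk.injEq, neg_inj] at hpq
      obtain ⟨rfl, h2⟩ := hpq
      obtain rfl : p1 = q1 := sub_left_injective h2
      rfl
    · obtain ⟨h1, h2⟩ := Finset.mem_product.1 hq
      refine ⟨⟨q.2 - q.1, -q.1⟩, ?_, ?_⟩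
      · simp [D, h1, h2]
      · simp
  have hD0 : (D 0).card = X.card := by
    refine Finset.card_equiv (Equiv.neg Ω) fun v => ?_
    simp [D]
  have hsplit : (n - 1) * X1.card + X.card ≤ X.card * X.card := by
    rw [← htot, ← Finset.sum_erase_add _ _ (Finset.mem_univ (0 : Ω)), hD0]
    refine Nat.add_le_add_right ?_ _
    have := Finset.card_nsmul_le_sum (univ.erase (0 : Ω)) (fun y => (D y).card) X1.card
      fun y hy => hDge y (Finset.mem_erase.1 hy).1
    rwa [smul_eq_mul, Finset.card_erase_of_mem (Finset.mem_univ _), Finset.card_univ, hcardF] at this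
  have hX1r : r ≤ X1.card := by
    have hsub : Z.image (g₁ + ·) ⊆ X1 := by
      intro v hv
      obtain ⟨z, hz, rfl⟩ := Finset.mem_image.1 hv
      refine Finset.mem_filter.2 ⟨hfull g₁ hg₁ hg₁r z hz, ?_⟩
      rwa [smul_add, (Finset.mem_filter.1 hz).2, add_zero]
    refine le_trans ?_ (Finset.card_le_card hsub)
    rw [Finset.card_image_of_injective _ (add_right_injective g₁)]
    obtain ⟨z, hz⟩ := exists_prime_addOrderOf_dvd_card' r hdvd
    calc r = Nat.card (AddSubgroup.zmultiples z) := by rw [Nat.card_zmultiples, hz]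
      _ = Fintype.card (AddSubgroup.zmultiples z) := Nat.card_eq_fintype_card
      _ ≤ Z.card := by
        rw [← Finset.card_univ]
        refine Finset.card_le_card_of_injOn Subtype.val (fun a _ => ?_) Subtype.val_injective.injOn
        obtain ⟨i, hi⟩ := a.2
        refine Finset.mem_filter.2 ⟨Finset.mem_univ _, ?_⟩
        rw [← hi, smul_comm, ← hz, addOrderOf_nsmul_eq_zero, smul_zero]
  have hXsplit : X.card + 1 ≤ X1.card + r := by
    have hsub : X.filter (fun g => ¬ r • g ≠ 0) ⊆ Z.erase 0 := fun g hg => by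
      obtain ⟨hgX, hgr⟩ := Finset.mem_filter.1 hg
      refine Finset.mem_erase.2 ⟨fun h => ?_,
        Finset.mem_filter.2 ⟨Finset.mem_univ _, not_not.1 hgr⟩⟩
      obtain ⟨k, k0, hk⟩ := (Finset.mem_filter.1 hgX).2
      exact hx₀ ((ψ k).injective ((hk.trans h).trans k0.symm))
    have h1 := Finset.card_le_card hsub
    have h0Z : (0 : Ω) ∈ Z := Finset.mem_filter.2 ⟨Finset.mem_univ _, smul_zero r⟩
    rw [Finset.card_erase_of_mem h0Z] at h1
    have h2 : X1.card + (X.filter fun g => ¬ r • g ≠ 0).card = X.card :=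
      Finset.card_filter_add_card_filter_not _
    have := Finset.card_pos.2 ⟨0, h0Z⟩
    omega
  have h3 : 2 * X.card * X1.card ≤ (n - 1) * X1.card := Nat.mul_le_mul_right _ hsmall
  have h4 : 2 * X1.card + 1 ≤ X.card := by
    have h5 : (2 * X1.card + 1) * X.card ≤ X.card * X.card := by
      refine le_trans ?_ hsplit
      calc (2 * X1.card + 1) * X.card = 2 * X.card * X1.card + X.card := by ring
        _ ≤ _ := Nat.add_le_add_right h3 _
    exact Nat.le_of_mul_le_mul_right h5 (Finset.card_pos.2 ⟨g₁, hg₁⟩)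
  omega

open Classical in
/-- Without invariant subgroups the point stabilizer is transitive away from `0`. -/
theorem transitive_of_no_invariant {Ω : Type v} [AddCommGroup Ω] [Fintype Ω] [IsAddCyclic Ω] {r : ℕ}
    (hr : r.Prime) (hdvd : r ∣ Nat.card Ω) (hlt : r < Nat.card Ω) (ψ : H →* Equiv.Perm Ω)
    (htr : ∀ a : Ω, ∃ h, ∀ x, ψ h x = x + a)
    (hblock : ∀ B : AddSubgroup Ω, StabInvariant ψ (B : Set Ω) → B ≠ ⊥ → B ≠ ⊤ → False) :
    ∀ x y : Ω, x ≠ 0 → y ≠ 0 → ∃ h, ψ h 0 = 0 ∧ ψ h x = y := by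
  intro x y hx hy
  by_contra hno
  push Not at hno
  set O := fun x : Ω => univ.filter fun y => ∃ h, ψ h 0 = 0 ∧ ψ h x = y with hO
  have hsub : ∀ z, z ≠ 0 → O z ⊆ univ.erase 0 := by
    intro z hz w hw
    obtain ⟨h, h0, rfl⟩ := (Finset.mem_filter.1 hw).2
    exact Finset.mem_erase.2 ⟨fun e => hz ((ψ h).injective (e.trans h0.symm)), Finset.mem_univ _⟩
  have hdisj : Disjoint (O x) (O y) := by
    rw [Finset.disjoint_left]
    intro w hw hw'
    obtain ⟨h, h0, rfl⟩ := (Finset.mem_filter.1 hw).2
    obtain ⟨k, k0, hk⟩ := (Finset.mem_filter.1 hw').2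
    refine hno (k⁻¹ * h) ?_ ?_
    · rw [map_mul, map_inv, Equiv.Perm.mul_apply, h0, Equiv.Perm.inv_eq_iff_eq, k0]
    · rw [map_mul, map_inv, Equiv.Perm.mul_apply, Equiv.Perm.inv_eq_iff_eq, hk]
  have h3 := Finset.card_le_card (Finset.union_subset (hsub x hx) (hsub y hy))
  rw [Finset.card_union_of_disjoint hdisj, Finset.card_erase_of_mem (Finset.mem_univ _),
    Finset.card_univ] at h3
  rcases le_total (O x).card (O y).card with h | h
  · exact false_of_small_suborbit hr hdvd hlt ψ htr hblock x hx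
      (show 2 * (O x).card ≤ Fintype.card (Ω) - 1 by omega)
  · exact false_of_small_suborbit hr hdvd hlt ψ htr hblock y hy
      (show 2 * (O y).card ≤ Fintype.card (Ω) - 1 by omega)

theorem main {G : Type u} {Ω : Type v} [Group G] [Finite G] [MulAction G Ω] [Finite Ω]
    (hn : 2 ≤ Nat.card Ω) (hnp : ¬ (Nat.card Ω).Prime) (C : Subgroup G) (hcyc : IsCyclic C)
    (hC : MulAction.IsPretransitive C Ω ∧ ∀ a : Ω, MulAction.stabilizer C a = ⊥) :
    ¬ MulAction.IsPreprimitive G Ω ∨ MulAction.IsMultiplyPretransitive G Ω 2 := by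
  classical
  haveI := Fintype.ofFinite Ω
  haveI := hC.1
  refine Classical.or_iff_not_imp_left.2 fun hprim => ?_
  rw [not_not] at hprim
  obtain ⟨a₀⟩ : Nonempty Ω := (Nat.card_pos_iff.1 (by omega)).1
  -- coordinates along the regular subgroup
  have hbij : Function.Bijective fun c : C => c • a₀ := by
    refine ⟨fun c d e => ?_, fun b => MulAction.exists_smul_eq C a₀ b⟩
    have h1 : d⁻¹ * c ∈ MulAction.stabilizer C a₀ := by
      rw [MulAction.mem_stabilizer_iff, mul_smul, show c • a₀ = d • a₀ from e, inv_smul_smul]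
    rw [hC.2, Subgroup.mem_bot, inv_mul_eq_one] at h1
    exact h1.symm
  letI : CommGroup C := hcyc.commGroup
  haveI : IsAddCyclic (Additive C) := inferInstance
  let ε : Additive C ≃ Ω := Additive.toMul.trans (Equiv.ofBijective _ hbij)
  have hε : ∀ x, ε x = (Additive.toMul x) • a₀ := fun x => rfl
  obtain ⟨ψ, hψ⟩ : ∃ ψ : G →* Equiv.Perm (Additive C), ∀ (h : G) x, ψ h x = ε.symm (h • ε x) :=
    ⟨ε.symm.permCongrHom.toMonoidHom.comp (MulAction.toPermHom G Ω), fun h x => rfl⟩
  have htr : ∀ b : Additive C, ∃ h, ∀ x, ψ h x = x + b := fun b => ⟨((Additive.toMul b : C) : G), fun x => by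
    rw [hψ, Equiv.symm_apply_eq, hε, hε, toMul_add]
    show (Additive.toMul b : C) • ((Additive.toMul x : C) • a₀) = _
    rw [smul_smul, mul_comm]⟩
  have hcardC : Nat.card (Additive C) = Nat.card Ω := Nat.card_congr ε
  obtain ⟨r, hr, hrd⟩ := Nat.exists_prime_and_dvd (show Nat.card Ω ≠ 1 by omega)
  have hlt : r < Nat.card Ω := lt_of_le_of_ne (Nat.le_of_dvd (by omega) hrd) fun e => hnp (e ▸ hr)
  have hblock : ∀ B : AddSubgroup (Additive C), StabInvariant ψ (B : Set (Additive C)) → B ≠ ⊥ → B ≠ ⊤ → False := by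
    intro B hB hb ht
    set U : Set Ω := {x | ε.symm x ∈ B} with hU
    have hblock : MulAction.IsBlock G U := by
      rw [MulAction.isBlock_iff_smul_eq_of_mem]
      intro h x hx hhx
      simp only [hU, Set.mem_setOf_eq] at hx hhx
      ext z
      rw [Set.mem_smul_set_iff_inv_smul_mem]
      simp only [hU, Set.mem_setOf_eq]
      have := rel_iff_of_invariant ψ htr hB h⁻¹ (a := ε.symm (h • x)) (b := ε.symm z)
      simp only [hψ, Equiv.apply_symm_apply, inv_smul_smul, SetLike.mem_coe] at this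
      refine ⟨fun hz => ?_, fun hz => ?_⟩
      · have h5 := B.add_mem (this.1 (B.sub_mem hz hx)) hhx
        rwa [sub_add_cancel] at h5
      · have h5 := B.add_mem (this.2 (B.sub_mem hz hhx)) hx
        rwa [sub_add_cancel] at h5
    rcases hprim.isTrivialBlock_of_isBlock hblock with h | h
    · refine hb ((AddSubgroup.eq_bot_iff_forall B).2 fun b hbB => ?_)
      exact ε.injective (h (show ε b ∈ U by simp [hU, hbB]) (show ε 0 ∈ U by simp [hU, B.zero_mem]))
    · refine ht (eq_top_iff.2 fun c _ => ?_)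
      have hc : ε c ∈ U := by rw [h]; exact Set.mem_univ _
      simpa [hU] using hc
  haveI := Fintype.ofFinite (Additive C)
  have hone := transitive_of_no_invariant hr (hcardC ▸ hrd) (hcardC ▸ hlt) ψ htr hblock
  haveI : Nontrivial Ω := Finite.one_lt_card_iff_nontrivial.1 (by omega)
  obtain ⟨b₀, hb₀⟩ := exists_ne a₀
  have hz : ε 0 = a₀ := by rw [hε, toMul_zero, one_smul]
  have hne : ε.symm b₀ ≠ 0 := fun e => hb₀ (by rw [← hz, ← e, Equiv.apply_symm_apply])
  have hpair : ∀ b c : Ω, b ≠ c → ∃ h : G, h • a₀ = b ∧ h • b₀ = c := by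
    intro b c hbc
    obtain ⟨s, hs⟩ := htr (ε.symm b)
    have hsb : s • a₀ = b := by
      have := hs 0
      rw [hψ, zero_add, hz] at this
      exact ε.symm.injective this
    have h1 : ψ s⁻¹ (ε.symm c) ≠ 0 := by
      rw [hψ, Equiv.apply_symm_apply]
      intro e
      rw [Equiv.symm_apply_eq, hz, inv_smul_eq_iff, hsb] at e
      exact hbc e.symm
    obtain ⟨k, k0, hk⟩ := hone _ _ hne h1
    rw [hψ, Equiv.symm_apply_eq] at k0
    rw [hψ, hψ, Equiv.apply_symm_apply, Equiv.apply_symm_apply] at hk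
    refine ⟨s * k, ?_, ?_⟩
    · rw [hz] at k0
      rw [mul_smul, k0, hsb]
    · rw [mul_smul, ε.symm.injective hk, smul_inv_smul]
  rw [MulAction.is_two_pretransitive_iff]
  intro a b c d hab hcd
  obtain ⟨k, hk0, hk1⟩ := hpair a b hab
  obtain ⟨k', hk0', hk1'⟩ := hpair c d hcd
  exact ⟨k' * k⁻¹, by rw [← hk0, mul_smul, inv_smul_smul, hk0'],
    by rw [← hk1, mul_smul, inv_smul_smul, hk1']⟩

end CfsgLib.Char.CyclicBGroup
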