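import Mathlib

/-!
# Grids of signed triples

The combinatorial core of the cyclic trivial-intersection theorem: a rectangular grid of triples of
signed atoms in which two triples on a line meet once and other pairs have as many common as opposite
atoms has the shape `{c i, d j, e i j}`.
-/

set_option autoImplicit false

namespace CfsgLib.Char

universe u v w

variable {I : Type u} {ι : Type v} {κ : Type w}

/-- The opposite of a signed atom. -/
def atomNeg (a : I × Bool) : I × Bool := (a.1, !a.2)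

theorem atomNeg_fst (a : I × Bool) : (atomNeg a).1 = a.1 := rfl

theorem atomNeg_ne (a : I × Bool) : atomNeg a ≠ a := by
  obtain ⟨k, b⟩ := a
  cases b <;> simp [atomNeg]

theorem atomNeg_neg (a : I × Bool) : atomNeg (atomNeg a) = a := by simp [atomNeg]

theorem atom_fst_eq {a b : I × Bool} (h : a.1 = b.1) : a = b ∨ b = atomNeg a := by
  obtain ⟨k, x⟩ := a
  obtain ⟨l, y⟩ := b
  subst h
  cases x <;> cases y <;> simp [atomNeg]

/-- The hypotheses on a grid of signed triples. -/
structure IsTripleGrid [DecidableEq I] (A : ι → κ → Finset (I × Bool)) : Prop where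
  card_eq : ∀ i j, (A i j).card = 3
  not_opp : ∀ i j, ∀ a ∈ A i j, atomNeg a ∉ A i j
  row_one : ∀ i j j', j ≠ j' → (A i j ∩ A i j').card = 1
  row_opp : ∀ i j j', ∀ a ∈ A i j, atomNeg a ∉ A i j'
  col_one : ∀ i i' j, i ≠ i' → (A i j ∩ A i' j).card = 1
  col_opp : ∀ i i' j, ∀ a ∈ A i j, atomNeg a ∉ A i' j
  cross : ∀ i i' j j', i ≠ i' → j ≠ j' →
    (A i j ∩ A i' j').card = ((A i j).filter fun a => atomNeg a ∈ A i' j').card

theorem IsTripleGrid.transpose [DecidableEq I] {A : ι → κ → Finset (I × Bool)} (h : IsTripleGrid A) :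
    IsTripleGrid fun j i => A i j where
  card_eq j i := h.card_eq i j
  not_opp j i := h.not_opp i j
  row_one j i i' := h.col_one i i' j
  row_opp j i i' := h.col_opp i i' j
  col_one j j' i := h.row_one i j j'
  col_opp j j' i := h.row_opp i j j'
  cross j j' i i' hj hi := h.cross i i' j j' hi hj

/-! ### The finite search -/

/-- All vectors with entries `-1, 0, 1`. -/
def signVecs : (t : ℕ) → List (Fin t → ℤ)
  | 0 => [Fin.elim0]
  | t + 1 => (signVecs t).flatMap fun x => [Fin.cons (-1) x, Fin.cons 0 x, Fin.cons 1 x]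

theorem mem_signVecs : ∀ {t : ℕ} (x : Fin t → ℤ), (∀ k, x k = -1 ∨ x k = 0 ∨ x k = 1) → x ∈ signVecs t
  | 0, x, _ => by simp [signVecs, Subsingleton.elim x Fin.elim0]
  | t + 1, x, hx => by
    refine List.mem_flatMap.mpr ⟨Fin.tail x, mem_signVecs _ fun k => hx k.succ, ?_⟩
    rcases hx 0 with h | h | h <;> simp only [List.mem_cons] <;>
      simp [← h, Fin.cons_self_tail]

/-- The size of the support of a vector. -/
def suppSize {t : ℕ} (x : Fin t → ℤ) : ℕ := (Finset.univ.filter fun k => x k ≠ 0).card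

/-- The constraints on a single vector of a second row. -/
def rowVecOk {t : ℕ} (P : Fin 4 → Finset (Fin t)) (j : Fin 4) (x : Fin t → ℤ) : Prop :=
  suppSize x ≤ 3 ∧ (∀ k ∈ P j, x k ≠ -1) ∧ ∀ l, ∑ k ∈ P l, x k = if l = j then 1 else 0

instance rowVecOkDecidable {t : ℕ} (P : Fin 4 → Finset (Fin t)) (j : Fin 4) (x : Fin t → ℤ) :
    Decidable (rowVecOk P j x) := by unfold rowVecOk; infer_instance

/-- The constraints on two vectors of a second row. -/
def rowVecCompat {t : ℕ} (x y : Fin t → ℤ) : Prop :=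
  (∀ k, x k * y k ≠ -1) ∧ (Finset.univ.filter fun k => x k * y k = 1).card ≤ 1 ∧
    ((∀ k, x k * y k ≠ 1) → suppSize x < 3 ∧ suppSize y < 3)

instance rowVecCompatDecidable {t : ℕ} (x y : Fin t → ℤ) : Decidable (rowVecCompat x y) := by
  unfold rowVecCompat; infer_instance

/-- The candidates for the vector in column `j`. -/
def rowCands {t : ℕ} (P : Fin 4 → Finset (Fin t)) (j : Fin 4) : List (Fin t → ℤ) :=
  (signVecs t).filter fun x => decide (rowVecOk P j x)

/-- No second row exists. -/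
def noSecondRow {t : ℕ} (P : Fin 4 → Finset (Fin t)) : Bool :=
  (rowCands P 0).all fun a => (rowCands P 1).all fun b =>
    !decide (rowVecCompat a b) || (rowCands P 2).all fun c =>
      !decide (rowVecCompat a c) || !decide (rowVecCompat b c) || (rowCands P 3).all fun d =>
        !decide (rowVecCompat a d) || !decide (rowVecCompat b d) || !decide (rowVecCompat c d)

theorem noSecondRow_spec {t : ℕ} (P : Fin 4 → Finset (Fin t)) (h : noSecondRow P = true)
    (x : Fin 4 → Fin t → ℤ) (hv : ∀ j k, x j k = -1 ∨ x j k = 0 ∨ x j k = 1)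
    (hok : ∀ j, rowVecOk P j (x j)) (hc : ∀ j j', j ≠ j' → rowVecCompat (x j) (x j')) : False := by
  have hmem : ∀ j, x j ∈ rowCands P j := fun j => by
    simp only [rowCands, List.mem_filter, decide_eq_true_eq]
    exact ⟨mem_signVecs _ (hv j), hok j⟩
  simp only [noSecondRow, List.all_eq_true, Bool.or_eq_true, Bool.not_eq_true',
    decide_eq_false_iff_not] at h
  have h1 := h _ (hmem 0) _ (hmem 1)
  have h2 := h1.resolve_left (fun e => e (hc 0 1 (by decide))) _ (hmem 2)
  rcases h2 with (e | e) | h3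
  · exact e (hc 0 2 (by decide))
  · exact e (hc 1 2 (by decide))
  rcases h3 _ (hmem 3) with (e | e) | e
  · exact e (hc 0 3 (by decide))
  · exact e (hc 1 3 (by decide))
  · exact e (hc 2 3 (by decide))

/-- The incidences of the configuration with three lines through a point. -/
def starPattern : Fin 4 → Finset (Fin 7) := ![{0, 1, 4}, {0, 2, 5}, {0, 3, 6}, {1, 2, 3}]

/-- The incidences of the tetrahedral configuration. -/
def tetraPattern : Fin 4 → Finset (Fin 6) := ![{0, 1, 2}, {0, 3, 4}, {1, 3, 5}, {2, 4, 5}]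

theorem noSecondRow_star : noSecondRow starPattern = true := by decide +kernel

theorem noSecondRow_tetra : noSecondRow tetraPattern = true := by decide +kernel

/-! ### Four columns of a row -/

variable [DecidableEq I] {A : ι → κ → Finset (I × Bool)}

theorem common_unique (h : IsTripleGrid A) {i : ι} {j j' : κ} (hj : j ≠ j') {a b : I × Bool}
    (ha : a ∈ A i j) (ha' : a ∈ A i j') (hb : b ∈ A i j) (hb' : b ∈ A i j') : a = b :=
  Finset.card_le_one.mp (h.row_one i j j' hj).le a (Finset.mem_inter.mpr ⟨ha, ha'⟩) b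
    (Finset.mem_inter.mpr ⟨hb, hb'⟩)

theorem eq_of_fst_eq (h : IsTripleGrid A) {i : ι} {j j' : κ} {a b : I × Bool} (ha : a ∈ A i j)
    (hb : b ∈ A i j') (e : a.1 = b.1) : a = b :=
  (atom_fst_eq e).resolve_right fun e' => h.row_opp i j j' a ha (e' ▸ hb)

theorem no_pattern (h : IsTripleGrid A) {t : ℕ} (P : Fin 4 → Finset (Fin t))
    (hP : noSecondRow P = true) (hP3 : ∀ l, (P l).card = 3) (hex : ∀ k, ∃ l, k ∈ P l)
    (hsig : ∀ k k', (∀ l, k ∈ P l ↔ k' ∈ P l) → k = k') {i i' : ι} (hi : i' ≠ i) (g : Fin 4 → κ)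
    (hg : Function.Injective g) (f : Fin t → I × Bool) (hf : ∀ k l, f k ∈ A i (g l) ↔ k ∈ P l) :
    False := by
  classical
  have hinj : ∀ k k', (f k).1 = (f k').1 → k = k' := by
    intro k k' e
    obtain ⟨l, hl⟩ := hex k
    obtain ⟨l', hl'⟩ := hex k'
    have := eq_of_fst_eq h ((hf k l).mpr hl) ((hf k' l').mpr hl') e
    exact hsig k k' fun l'' => by rw [← hf k, ← hf k', this]
  have hinj' : Function.Injective f := fun k k' e => hinj k k' (congrArg Prod.fst e)
  have himg : ∀ l, A i (g l) = (P l).image f := by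
    intro l
    refine (Finset.eq_of_subset_of_card_le (fun a ha => ?_) ?_).symm
    · obtain ⟨k, hk, rfl⟩ := Finset.mem_image.mp ha
      exact (hf k l).mpr hk
    · rw [Finset.card_image_of_injective _ hinj', hP3, h.card_eq]
  let B : Fin 4 → Finset (I × Bool) := fun j => A i' (g j)
  let x : Fin 4 → Fin t → ℤ := fun j k =>
    if f k ∈ B j then 1 else if atomNeg (f k) ∈ B j then -1 else 0
  have hpos : ∀ j k, x j k = 1 ↔ f k ∈ B j := by
    intro j k; simp only [x]; split_ifs <;> simp_all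
  have hneg : ∀ j k, x j k = -1 ↔ atomNeg (f k) ∈ B j := by
    intro j k; simp only [x]
    split_ifs with h1 h2
    · simp only [false_iff]
      exact h.not_opp _ _ _ h1
    · simp [h2]
    · simp [h2]
  have hval : ∀ j k, x j k = -1 ∨ x j k = 0 ∨ x j k = 1 := by
    intro j k; simp only [x]; split_ifs <;> simp
  have hnz : ∀ j k, x j k ≠ 0 → ∃ a ∈ B j, a.1 = (f k).1 ∧ (x j k = 1 → a = f k) ∧
      (x j k = -1 → a = atomNeg (f k)) := by
    intro j k hk
    rcases hval j k with e | e | e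
    · exact ⟨_, (hneg j k).mp e, rfl, fun e' => absurd (e.symm.trans e') (by decide), fun _ => rfl⟩
    · exact absurd e hk
    · exact ⟨_, (hpos j k).mp e, rfl, fun _ => rfl, fun e' => absurd (e.symm.trans e') (by decide)⟩
  have hsupp : ∀ j, (Finset.univ.filter fun k => x j k ≠ 0).image (fun k => (f k).1) ⊆
      (B j).image Prod.fst := by
    intro j a ha
    obtain ⟨k, hk, rfl⟩ := Finset.mem_image.mp ha
    obtain ⟨b, hb, e, -⟩ := hnz j k (Finset.mem_filter.mp hk).2
    exact Finset.mem_image.mpr ⟨b, hb, e⟩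
  have hscard : ∀ j, suppSize (x j) =
      ((Finset.univ.filter fun k => x j k ≠ 0).image (fun k => (f k).1)).card := fun j =>
    (Finset.card_image_of_injective _ hinj).symm
  have hfst : ∀ j, ((B j).image Prod.fst).card ≤ 3 := fun j =>
    Finset.card_image_le.trans (h.card_eq _ _).le
  refine noSecondRow_spec P hP x hval (fun j => ⟨?_, ?_, ?_⟩) fun j j' hjj => ⟨?_, ?_, ?_⟩
  · rw [hscard]; exact (Finset.card_le_card (hsupp j)).trans (hfst j)
  · intro k hk e
    exact h.col_opp i i' (g j) _ ((hf k j).mpr hk) ((hneg j k).mp e)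
  · intro l
    have e1 : ∀ k, x j k = (if f k ∈ B j then 1 else 0) - (if atomNeg (f k) ∈ B j then 1 else 0) := by
      intro k
      simp only [x]
      split_ifs with h1 h2 <;> norm_num
      exact absurd h2 (h.not_opp _ _ _ h1)
    rw [Finset.sum_congr rfl fun k _ => e1 k, Finset.sum_sub_distrib, Finset.sum_boole,
      Finset.sum_boole]
    have e2 : ((P l).filter fun k => f k ∈ B j).card = (A i (g l) ∩ B j).card := by
      rw [himg, ← Finset.filter_mem_eq_inter, Finset.filter_image,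
        Finset.card_image_of_injective _ hinj']
    have e3 : ((P l).filter fun k => atomNeg (f k) ∈ B j).card =
        ((A i (g l)).filter fun a => atomNeg a ∈ B j).card := by
      rw [himg, Finset.filter_image, Finset.card_image_of_injective _ hinj']
    rw [e2, e3]
    rcases eq_or_ne l j with rfl | hlj
    · rw [if_pos rfl, h.col_one i i' (g l) hi.symm, Finset.filter_false_of_mem fun a ha =>
        h.col_opp i i' (g l) a ha]
      simp
    · rw [if_neg hlj, h.cross i i' (g l) (g j) hi.symm (hg.ne hlj), sub_self]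
  · intro k hk
    rcases hval j k with e | e | e <;> rcases hval j' k with e' | e' | e' <;>
      rw [e, e'] at hk <;> try norm_num at hk
    · exact h.row_opp i' (g j') (g j) _ ((hpos j' k).mp e') ((hneg j k).mp e)
    · exact h.row_opp i' (g j) (g j') _ ((hpos j k).mp e) ((hneg j' k).mp e')
  · refine Finset.card_le_one.mpr fun k hk k' hk' => ?_
    simp only [Finset.mem_filter, Finset.mem_univ, true_and] at hk hk'
    have key : ∀ k, x j k * x j' k = 1 → ∃ a, a ∈ B j ∧ a ∈ B j' ∧ a.1 = (f k).1 := by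
      intro k hk
      rcases Int.eq_one_or_neg_one_of_mul_eq_one hk with e | e
      · rw [e, one_mul] at hk
        exact ⟨_, (hpos j k).mp e, (hpos j' k).mp hk, rfl⟩
      · rw [e, neg_one_mul, neg_eq_iff_eq_neg] at hk
        exact ⟨_, (hneg j k).mp e, (hneg j' k).mp hk, rfl⟩
    obtain ⟨a, ha, ha', ea⟩ := key k hk
    obtain ⟨b, hb, hb', eb⟩ := key k' hk'
    exact hinj k k' (ea ▸ eb ▸ congrArg Prod.fst (common_unique h (hg.ne hjj) ha ha' hb hb'))
  · intro hno
    obtain ⟨c, hc⟩ := Finset.card_eq_one.mp (h.row_one i' (g j) (g j') (hg.ne hjj))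
    have hcm : c ∈ B j ∧ c ∈ B j' := Finset.mem_inter.mp (hc.symm ▸ Finset.mem_singleton_self c)
    have hout : ∀ k, (f k).1 ≠ c.1 := by
      intro k e
      rcases atom_fst_eq e with e1 | e1
      · refine hno k ?_
        rw [(hpos j k).mpr (e1 ▸ hcm.1), (hpos j' k).mpr (e1 ▸ hcm.2)]; rfl
      · refine hno k ?_
        rw [(hneg j k).mpr (e1 ▸ hcm.1), (hneg j' k).mpr (e1 ▸ hcm.2)]; rfl
    have small : ∀ j₁, c ∈ B j₁ → suppSize (x j₁) < 3 := by
      intro j₁ hc₁
      rw [hscard]
      refine lt_of_lt_of_le (Finset.card_lt_card ?_) (hfst j₁)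
      refine (Finset.ssubset_iff_of_subset (hsupp j₁)).mpr
        ⟨c.1, Finset.mem_image.mpr ⟨c, hc₁, rfl⟩, fun hm => ?_⟩
      obtain ⟨k, -, e⟩ := Finset.mem_image.mp hm
      exact hout k e
    exact ⟨small j hcm.1, small j' hcm.2⟩

theorem not_star (h : IsTripleGrid A) {i i' : ι} (hi : i' ≠ i) (g : Fin 4 → κ)
    (hg : Function.Injective g) (T : I × Bool) (h0 : T ∈ A i (g 0)) (h1 : T ∈ A i (g 1))
    (h2 : T ∈ A i (g 2)) (h3 : T ∉ A i (g 3)) : False := by
  classical
  have hT : ∀ l : Fin 4, l ≠ 3 → T ∈ A i (g l) := by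
    intro l hl; fin_cases l <;> first | assumption | exact absurd rfl hl
  have hp : ∀ l : Fin 4, l ≠ 3 → ∃ p, p ∈ A i (g l) ∧ p ∈ A i (g 3) ∧
      ∀ l', l' ≠ 3 → l' ≠ l → p ∉ A i (g l') := by
    intro l hl
    obtain ⟨p, hp⟩ := Finset.card_eq_one.mp (h.row_one i (g l) (g 3) (hg.ne hl))
    have hm := Finset.mem_inter.mp (hp.symm ▸ Finset.mem_singleton_self p)
    exact ⟨p, hm.1, hm.2, fun l' hl' hne hp' =>
      h3 (common_unique h (hg.ne hne) hp' hm.1 (hT l' hl') (hT l hl) ▸ hm.2)⟩
  have hs : ∀ l : Fin 4, l ≠ 3 → ∃ s, s ∈ A i (g l) ∧ ∀ l', l' ≠ l → s ∉ A i (g l') := by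
    intro l hl
    obtain ⟨p, hp1, hp2, -⟩ := hp l hl
    have : 0 < (((A i (g l)).erase T).erase p).card := by
      have a := Finset.pred_card_le_card_erase (a := T) (s := A i (g l))
      have b := Finset.pred_card_le_card_erase (a := p) (s := (A i (g l)).erase T)
      have c := h.card_eq i (g l)
      omega
    obtain ⟨s, hs⟩ := Finset.card_pos.mp this
    simp only [Finset.mem_erase] at hs
    refine ⟨s, hs.2.2, fun l' hne hs' => ?_⟩
    rcases eq_or_ne l' 3 with rfl | hl'
    · exact hs.1 (common_unique h (hg.ne hl) hs.2.2 hs' hp1 hp2)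
    · exact hs.2.1 (common_unique h (hg.ne hne.symm) hs.2.2 hs' (hT l hl) (hT l' hl'))
  obtain ⟨p0, a0, b0, c0⟩ := hp 0 (by decide)
  obtain ⟨p1, a1, b1, c1⟩ := hp 1 (by decide)
  obtain ⟨p2, a2, b2, c2⟩ := hp 2 (by decide)
  obtain ⟨s0, d0, e0⟩ := hs 0 (by decide)
  obtain ⟨s1, d1, e1⟩ := hs 1 (by decide)
  obtain ⟨s2, d2, e2⟩ := hs 2 (by decide)
  have := c0 1 (by decide) (by decide)
  have := c0 2 (by decide) (by decide)
  have := c1 0 (by decide) (by decide)
  have := c1 2 (by decide) (by decide)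
  have := c2 0 (by decide) (by decide)
  have := c2 1 (by decide) (by decide)
  have := e0 1 (by decide); have := e0 2 (by decide); have := e0 3 (by decide)
  have := e1 0 (by decide); have := e1 2 (by decide); have := e1 3 (by decide)
  have := e2 0 (by decide); have := e2 1 (by decide); have := e2 3 (by decide)
  refine no_pattern h starPattern noSecondRow_star (by decide) (by decide) (by decide) hi g hg
    ![T, p0, p1, p2, s0, s1, s2] fun k l => ?_
  fin_cases k <;> fin_cases l <;> simp [starPattern, *]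

theorem exists_common_four (h : IsTripleGrid A) {i i' : ι} (hi : i' ≠ i) (g : Fin 4 → κ)
    (hg : Function.Injective g) : ∃ c, ∀ l, c ∈ A i (g l) := by
  classical
  have hp : ∀ l l' : Fin 4, l ≠ l' → ∃ p, p ∈ A i (g l) ∧ p ∈ A i (g l') := by
    intro l l' hne
    obtain ⟨p, hp⟩ := Finset.card_eq_one.mp (h.row_one i (g l) (g l') (hg.ne hne))
    exact ⟨p, Finset.mem_inter.mp (hp.symm ▸ Finset.mem_singleton_self p)⟩
  by_contra hno
  push Not at hno
  have tri : ∀ (σ : Fin 4 → Fin 4), Function.Injective σ → ∀ p,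
      p ∈ A i (g (σ 0)) → p ∈ A i (g (σ 1)) → p ∈ A i (g (σ 2)) → False := by
    intro σ hσ p q0 q1 q2
    refine not_star h hi (g ∘ σ) (hg.comp hσ) p q0 q1 q2 fun q3 => ?_
    obtain ⟨l, hl⟩ := hno p
    obtain ⟨k, rfl⟩ := (Finite.injective_iff_surjective.mp hσ) l
    fin_cases k <;> exact hl ‹_›
  obtain ⟨p01, x0, x1⟩ := hp 0 1 (by decide)
  obtain ⟨p02, y0, y2⟩ := hp 0 2 (by decide)
  obtain ⟨p03, z0, z3⟩ := hp 0 3 (by decide)
  obtain ⟨p12, u1, u2⟩ := hp 1 2 (by decide)
  obtain ⟨p13, v1, v3⟩ := hp 1 3 (by decide)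
  obtain ⟨p23, w2, w3⟩ := hp 2 3 (by decide)
  have t012 := tri ![0, 1, 2, 3] (by decide)
  have t013 := tri ![0, 1, 3, 2] (by decide)
  have t023 := tri ![0, 2, 3, 1] (by decide)
  have t123 := tri ![1, 2, 3, 0] (by decide)
  have : p01 ∉ A i (g 2) := fun q => t012 _ x0 x1 q
  have : p01 ∉ A i (g 3) := fun q => t013 _ x0 x1 q
  have : p02 ∉ A i (g 1) := fun q => t012 _ y0 q y2
  have : p02 ∉ A i (g 3) := fun q => t023 _ y0 y2 q
  have : p03 ∉ A i (g 1) := fun q => t013 _ z0 q z3
  have : p03 ∉ A i (g 2) := fun q => t023 _ z0 q z3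
  have : p12 ∉ A i (g 0) := fun q => t012 _ q u1 u2
  have : p12 ∉ A i (g 3) := fun q => t123 _ u1 u2 q
  have : p13 ∉ A i (g 0) := fun q => t013 _ q v1 v3
  have : p13 ∉ A i (g 2) := fun q => t123 _ v1 q v3
  have : p23 ∉ A i (g 0) := fun q => t023 _ q w2 w3
  have : p23 ∉ A i (g 1) := fun q => t123 _ q w2 w3
  refine no_pattern h tetraPattern noSecondRow_tetra (by decide) (by decide) (by decide) hi g hg
    ![p01, p02, p03, p12, p13, p23] fun k l => ?_
  fin_cases k <;> fin_cases l <;> simp [tetraPattern, *]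

/-! ### Whole rows -/

theorem exists_row_centre [Fintype κ] (h : IsTripleGrid A) (hκ : 4 ≤ Fintype.card κ) {i i' : ι}
    (hi : i' ≠ i) : ∃ c, ∀ j, c ∈ A i j := by
  classical
  obtain ⟨g⟩ := (Function.Embedding.nonempty_of_card_le (α := Fin 4) (β := κ)
    (by simpa using hκ))
  obtain ⟨c, hc⟩ := exists_common_four h hi g g.injective
  refine ⟨c, fun j => ?_⟩
  by_cases hj : ∃ l, g l = j
  · obtain ⟨l, rfl⟩ := hj
    exact hc l
  push Not at hj
  obtain ⟨c', hc'⟩ := exists_common_four h hi ![g 0, g 1, g 2, j] (by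
    intro a b e
    fin_cases a <;> fin_cases b <;> simp_all [g.injective.eq_iff])
  have := common_unique h (g.injective.ne (show (0 : Fin 4) ≠ 1 by decide)) (hc' 0) (hc' 1) (hc 0) (hc 1)
  exact this ▸ hc' 3

theorem row_centre_exclusive [Fintype κ] (h : IsTripleGrid A) (hκ : 4 ≤ Fintype.card κ) {i i' : ι}
    (hi : i' ≠ i) {c : I × Bool} (hc : ∀ j, c ∈ A i j) (j : κ) {a : I × Bool} (ha : a ∈ A i' j) :
    a.1 ≠ c.1 := by
  classical
  intro e
  have hcj : c ∈ A i' j := by
    rcases atom_fst_eq e.symm with e' | e'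
    · exact e' ▸ ha
    · exact absurd (e' ▸ ha) (h.col_opp i i' j c (hc j))
  have hex : ∀ l ∈ Finset.univ.erase j, ∃ b ∈ (A i' j).erase c, atomNeg b ∈ A i l := by
    intro l hl
    have hl' : l ≠ j := (Finset.mem_erase.mp hl).1
    have h1 : 0 < (A i' j ∩ A i l).card :=
      Finset.card_pos.mpr ⟨c, Finset.mem_inter.mpr ⟨hcj, hc l⟩⟩
    rw [h.cross i' i j l hi hl'.symm] at h1
    obtain ⟨b, hb⟩ := Finset.card_pos.mp h1
    rw [Finset.mem_filter] at hb
    refine ⟨b, Finset.mem_erase.mpr ⟨fun e => ?_, hb.1⟩, hb.2⟩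
    exact h.not_opp i l c (hc l) (e ▸ hb.2)
  choose b hb hb' using hex
  have hle : (Finset.univ.erase j).card ≤ ((A i' j).erase c).card := by
    refine Finset.card_le_card_of_injOn (fun l => if hl : l ∈ Finset.univ.erase j then b l hl else c)
      (fun l hl => by simp only [Finset.mem_coe] at hl ⊢; rw [dif_pos hl]; exact hb l hl) ?_
    intro l hl l' hl' e
    simp only [Finset.mem_coe] at hl hl'
    simp only [dif_pos hl, dif_pos hl'] at e
    by_contra hne
    have := common_unique h hne (hb' l hl) (e ▸ hb' l' hl') (hc l) (hc l')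
    exact h.not_opp i' j _ (Finset.mem_of_mem_erase (hb l hl)) (this ▸ hcj)
  rw [Finset.card_erase_of_mem (Finset.mem_univ j), Finset.card_erase_of_mem hcj, h.card_eq,
    Finset.card_univ] at hle
  omega

/-- The shape of a grid with a long side. -/
theorem grid_shape_long [Fintype ι] [Fintype κ] (h : IsTripleGrid A)
    (hι : Fintype.card ι = 2 ∨ 4 ≤ Fintype.card ι) (hκ : 4 ≤ Fintype.card κ) :
    ∃ (c : ι → I × Bool) (d : κ → I × Bool) (e : ι → κ → I × Bool),
      (∀ i j, A i j = {c i, d j, e i j}) ∧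
      Function.Injective (fun z : ι ⊕ κ ⊕ ι × κ =>
        (Sum.elim c (Sum.elim d fun p => e p.1 p.2) z).1) := by
  classical
  have hι2 : 1 < Fintype.card ι := by omega
  have hother : ∀ i : ι, ∃ i', i' ≠ i := fun i => Fintype.exists_ne_of_one_lt_card hι2 i
  choose c hc using fun i => exists_row_centre h hκ (hother i).choose_spec
  have cexcl : ∀ i i', i' ≠ i → ∀ j, ∀ a ∈ A i' j, a.1 ≠ (c i).1 := fun i i' hi j a ha =>
    row_centre_exclusive h hκ hi (hc i) j ha
  have hd : ∀ j, ∃ d, ∀ i, d ∈ A i j := by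
    intro j
    rcases hι with h2 | h4
    · obtain ⟨a, b, hab, hu⟩ := Finset.card_eq_two.mp (Finset.card_univ (α := ι) ▸ h2)
      obtain ⟨d, hd⟩ := Finset.card_eq_one.mp (h.col_one a b j hab)
      have hm := Finset.mem_inter.mp (hd.symm ▸ Finset.mem_singleton_self d)
      refine ⟨d, fun i => ?_⟩
      have := Finset.mem_univ i
      rw [hu, Finset.mem_insert, Finset.mem_singleton] at this
      rcases this with rfl | rfl
      exacts [hm.1, hm.2]
    · obtain ⟨j', hj'⟩ := Fintype.exists_ne_of_one_lt_card (by omega : 1 < Fintype.card κ) j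
      exact exists_row_centre h.transpose h4 hj'
  choose d hd using hd
  have dexcl : ∀ j l, l ≠ j → ∀ i, ∀ a ∈ A i l, a.1 ≠ (d j).1 := by
    intro j l hl i a ha e
    have hdi := eq_of_fst_eq h ha (hd j i) e
    have hdc : d j = c i := common_unique h hl (hdi ▸ ha) (hd j i) (hc i l) (hc i j)
    obtain ⟨i', hi'⟩ := hother i
    exact cexcl i i' hi' j _ (hd j i') (by rw [hdc])
  have hcd : ∀ i j, (c i).1 ≠ (d j).1 := by
    intro i j e
    obtain ⟨i', hi'⟩ := hother i
    exact cexcl i i' hi' j _ (hd j i') e.symm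
  have he : ∀ i j, ∃ e, A i j = {c i, d j, e} ∧ e.1 ≠ (c i).1 ∧ e.1 ≠ (d j).1 := by
    intro i j
    have hne : c i ≠ d j := fun e => hcd i j (by rw [e])
    have h1 : (((A i j).erase (c i)).erase (d j)).card = 1 := by
      rw [Finset.card_erase_of_mem (Finset.mem_erase.mpr ⟨hne.symm, hd j i⟩),
        Finset.card_erase_of_mem (hc i j), h.card_eq]
    obtain ⟨e, he⟩ := Finset.card_eq_one.mp h1
    have hem : e ∈ ((A i j).erase (c i)).erase (d j) := he ▸ Finset.mem_singleton_self e
    simp only [Finset.mem_erase] at hem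
    refine ⟨e, ?_, fun h' => hem.2.1 (eq_of_fst_eq h hem.2.2 (hc i j) h'),
      fun h' => hem.1 (eq_of_fst_eq h hem.2.2 (hd j i) h')⟩
    rw [← he, Finset.insert_erase (Finset.mem_erase.mpr ⟨hne.symm, hd j i⟩),
      Finset.insert_erase (hc i j)]
  choose e hA hec hed using he
  have hem : ∀ i j, e i j ∈ A i j := fun i j => by simp [hA i j]
  have eexcl : ∀ i i' j j', (e i j).1 = (e i' j').1 → i = i' ∧ j = j' := by
    intro i i' j j' he'
    by_cases hi : i = i'
    · subst hi
      refine ⟨rfl, ?_⟩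
      by_contra hj
      have heq := eq_of_fst_eq h (hem i j) (hem i j') he'
      exact hec i j (by rw [common_unique h hj (hem i j) (heq ▸ hem i j') (hc i j) (hc i j')])
    by_cases hj : j = j'
    · subst hj
      exfalso
      have heq : e i j = e i' j := (atom_fst_eq he').resolve_right fun q =>
        h.col_opp i i' j _ (hem i j) (q ▸ hem i' j)
      exact hed i j (by rw [common_unique h.transpose (i := j) hi (hem i j) (heq ▸ hem i' j)
        (hd j i) (hd j i')])
    exfalso
    have hci : ∀ b ∈ A i' j', b.1 ≠ (c i).1 := cexcl i i' (Ne.symm hi) j'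
    have hdj : ∀ b ∈ A i' j', b.1 ≠ (d j).1 := dexcl j j' (Ne.symm hj) i'
    have hcr := h.cross i i' j j' hi hj
    rcases atom_fst_eq he' with q | q
    · have h1 : 0 < (A i j ∩ A i' j').card :=
        Finset.card_pos.mpr ⟨e i j, Finset.mem_inter.mpr ⟨hem i j, q ▸ hem i' j'⟩⟩
      rw [hcr] at h1
      obtain ⟨a, ha⟩ := Finset.card_pos.mp h1
      rw [Finset.mem_filter, hA i j, Finset.mem_insert, Finset.mem_insert, Finset.mem_singleton] at ha
      obtain ⟨rfl | rfl | rfl, ha'⟩ := ha
      · exact hci _ ha' rfl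
      · exact hdj _ ha' rfl
      · exact h.not_opp i' j' _ (q ▸ hem i' j' : e i j ∈ A i' j') ha'
    · have h1 : 0 < ((A i j).filter fun a => atomNeg a ∈ A i' j').card :=
        Finset.card_pos.mpr ⟨e i j, Finset.mem_filter.mpr ⟨hem i j, q ▸ hem i' j'⟩⟩
      rw [← hcr] at h1
      obtain ⟨a, ha⟩ := Finset.card_pos.mp h1
      rw [Finset.mem_inter, hA i j, Finset.mem_insert, Finset.mem_insert, Finset.mem_singleton] at ha
      obtain ⟨rfl | rfl | rfl, ha'⟩ := ha
      · exact hci _ ha' rfl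
      · exact hdj _ ha' rfl
      · exact h.not_opp i' j' _ ha' (q ▸ hem i' j')
  refine ⟨c, d, e, hA, ?_⟩
  have cc : ∀ i i', (c i).1 = (c i').1 → i = i' := fun i i' q => by
    by_contra hne
    obtain ⟨j⟩ : Nonempty κ := Fintype.card_pos_iff.mp (by omega)
    exact cexcl i i' (Ne.symm hne) j _ (hc i' j) q.symm
  have dd : ∀ j j', (d j).1 = (d j').1 → j = j' := fun j j' q => by
    by_contra hne
    obtain ⟨i⟩ : Nonempty ι := Fintype.card_pos_iff.mp (by omega)
    exact dexcl j j' (Ne.symm hne) i _ (hd j' i) q.symm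
  have ce : ∀ i i' j, (c i).1 ≠ (e i' j).1 := fun i i' j q => by
    rcases eq_or_ne i' i with rfl | hne
    · exact hec i' j q.symm
    · exact cexcl i i' hne j _ (hem i' j) q.symm
  have de : ∀ j j' i, (d j).1 ≠ (e i j').1 := fun j j' i q => by
    rcases eq_or_ne j' j with rfl | hne
    · exact hed i j' q.symm
    · exact dexcl j j' hne i _ (hem i j') q.symm
  rintro (i | j | ⟨i, j⟩) (i' | j' | ⟨i', j'⟩) q <;> simp only [Sum.elim_inl, Sum.elim_inr] at q
  · rw [cc i i' q]
  · exact absurd q (hcd i j')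
  · exact absurd q (ce i i' j')
  · exact absurd q.symm (hcd i' j)
  · rw [dd j j' q]
  · exact absurd q (de j j' i')
  · exact absurd q.symm (ce i' i j)
  · exact absurd q.symm (de j' j i)
  · obtain ⟨rfl, rfl⟩ := eexcl i i' j j' q; rfl

/-- The shape of a grid. -/
theorem grid_shape [Fintype ι] [Fintype κ] (h : IsTripleGrid A)
    (hι : Fintype.card ι = 2 ∨ 4 ≤ Fintype.card ι) (hκ : Fintype.card κ = 2 ∨ 4 ≤ Fintype.card κ)
    (hne : Fintype.card ι ≠ Fintype.card κ) :
    ∃ (c : ι → I × Bool) (d : κ → I × Bool) (e : ι → κ → I × Bool),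
      (∀ i j, A i j = {c i, d j, e i j}) ∧
      Function.Injective (fun z : ι ⊕ κ ⊕ ι × κ =>
        (Sum.elim c (Sum.elim d fun p => e p.1 p.2) z).1) := by
  rcases hκ with h2 | h4
  · obtain ⟨d, c, e, hA, hinj⟩ := grid_shape_long h.transpose (Or.inl h2) (hι.resolve_left (by omega))
    refine ⟨c, d, fun i j => e j i, fun i j => by rw [hA j i, Finset.insert_comm], ?_⟩
    let σ : ι ⊕ κ ⊕ ι × κ → κ ⊕ ι ⊕ κ × ι :=
      Sum.elim (fun i => Sum.inr (Sum.inl i))
        (Sum.elim Sum.inl fun p => Sum.inr (Sum.inr (p.2, p.1)))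
    have hσ : Function.Injective σ := by
      rintro (i | j | ⟨i, j⟩) (i' | j' | ⟨i', j'⟩) q <;> simp [σ] at q ⊢ <;> tauto
    intro z z' q
    refine hσ (hinj ?_)
    rcases z with i | j | ⟨i, j⟩ <;> rcases z' with i' | j' | ⟨i', j'⟩ <;> exact q
  · exact grid_shape_long h hι h4

end CfsgLib.Char
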