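import Cfsg.Agent.Lib.Char.CyclicTIBasic
import Cfsg.Agent.Lib.Char.CyclicGrid

/-!
# The cyclic trivial-intersection theorem: existence of the signed characters
-/

set_option autoImplicit false
set_option linter.unusedSectionVars false

namespace CfsgLib.Char

open scoped ComplexConjugate
open Representation Module Cfsg

universe u

variable {G : Type u} [Group G]

/-- The function of a signed irreducible character. -/
def atomFun (a : IrrCharacter G × Bool) : G → ℂ :=
  (if a.2 then (1 : ℂ) else -1) • (a.1 : G → ℂ)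

theorem atomFun_neg (a : IrrCharacter G × Bool) : atomFun (atomNeg a) = -atomFun a := by
  obtain ⟨k, b⟩ := a
  cases b <;> simp [atomFun, atomNeg]

theorem atomFun_irr_or_neg (a : IrrCharacter G × Bool) :
    IsIrrCharacter G (atomFun a) ∨ IsIrrCharacter G (-atomFun a) := by
  obtain ⟨k, b⟩ := a
  cases b
  · exact Or.inr (by simpa [atomFun] using k.2)
  · exact Or.inl (by simpa [atomFun] using k.2)

variable [Fintype G]

theorem classInner_atomFun [DecidableEq (IrrCharacter G)] (a b : IrrCharacter G × Bool) :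
    classInner (atomFun a) (atomFun b) =
      (if a = b then 1 else 0) - (if atomNeg a = b then 1 else 0) := by
  obtain ⟨k, x⟩ := a
  obtain ⟨l, y⟩ := b
  simp only [atomFun, classInner_smul_left, classInner_smul_right, classInner_irr]
  rcases eq_or_ne k l with rfl | h
  · cases x <;> cases y <;> simp [atomNeg]
  · simp [atomNeg, h]

theorem classInner_atom_sum [DecidableEq (IrrCharacter G)] (S T : Finset (IrrCharacter G × Bool)) :
    classInner (∑ a ∈ S, atomFun a) (∑ b ∈ T, atomFun b) =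
      ((S ∩ T).card : ℂ) - ((S.filter fun a => atomNeg a ∈ T).card : ℂ) := by
  rw [classInner_sum_left]
  simp only [classInner_sum_right, classInner_atomFun, Finset.sum_sub_distrib, Finset.sum_ite_eq]
  rw [Finset.sum_boole, Finset.sum_boole, Finset.filter_mem_eq_inter]

theorem exists_atoms_of_norm_three [DecidableEq (IrrCharacter G)] {β : G → ℂ}
    (hβ : IsGeneralizedCharacter G β) (h3 : classInner β β = 3) :
    ∃ S : Finset (IrrCharacter G × Bool), S.card = 3 ∧ (∀ a ∈ S, atomNeg a ∉ S) ∧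
      β = ∑ a ∈ S, atomFun a := by
  have := Fintype.ofFinite (IrrCharacter G)
  obtain ⟨m, hm, hexp, hnorm⟩ := generalized_expand hβ
  rw [h3] at hnorm
  have hsq : ∑ ψ : IrrCharacter G, m ψ ^ 2 = 3 := by exact_mod_cast hnorm.symm
  have hle : ∀ ψ, m ψ = 0 ∨ m ψ = 1 ∨ m ψ = -1 := by
    intro ψ
    have h1 : m ψ ^ 2 ≤ 3 :=
      hsq ▸ Finset.single_le_sum (fun i _ => sq_nonneg (m i)) (Finset.mem_univ ψ)
    have h2 : -1 ≤ m ψ := by nlinarith
    have h4 : m ψ ≤ 1 := by nlinarith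
    omega
  let supp := Finset.univ.filter fun ψ => m ψ ≠ 0
  let mk : IrrCharacter G → IrrCharacter G × Bool := fun ψ => (ψ, decide (m ψ = 1))
  have hmk : Function.Injective mk := fun a b e => congrArg Prod.fst e
  refine ⟨supp.image mk, ?_, ?_, ?_⟩
  · rw [Finset.card_image_of_injective _ hmk]
    have : ∑ ψ : IrrCharacter G, m ψ ^ 2 = (supp.card : ℤ) := by
      rw [Finset.sum_congr rfl (g := fun ψ => if m ψ ≠ 0 then (1 : ℤ) else 0) fun ψ _ => by
        rcases hle ψ with e | e | e <;> simp [e], Finset.sum_boole]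
    exact_mod_cast this.symm.trans hsq
  · intro a ha hna
    obtain ⟨x, -, rfl⟩ := Finset.mem_image.mp ha
    obtain ⟨y, -, e⟩ := Finset.mem_image.mp hna
    have hxy : y = x := congrArg Prod.fst e
    subst hxy
    exact atomNeg_ne _ e.symm
  · rw [Finset.sum_image hmk.injOn, hexp]
    symm
    refine Finset.sum_subset_zero_on_sdiff (Finset.subset_univ _) (fun ψ hψ => ?_) fun ψ hψ => ?_
    · simp only [supp, Finset.mem_sdiff, Finset.mem_univ, Finset.mem_filter, true_and,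
        not_not] at hψ
      simp [hψ]
    · simp only [supp, Finset.mem_filter, Finset.mem_univ, true_and] at hψ
      rcases hle ψ with e | e | e
      · exact absurd e hψ
      · simp [atomFun, mk, e]
      · simp [atomFun, mk, e]

variable {W₁ W₂ : Subgroup G}

theorem snc_grid [DecidableEq (IrrCharacter G)] (hW : IsSelfNormalizingCyclic W₁ W₂) :
    ∃ A : {φ : trivOn (W₁ ⊔ W₂) W₂ // φ ≠ 1} → {ψ : trivOn (W₁ ⊔ W₂) W₁ // ψ ≠ 1} →
        Finset (IrrCharacter G × Bool),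
      IsTripleGrid A ∧
      (∀ i j, indFun (W₁ ⊔ W₂) (alphaFun W₁ W₂ (i.1 : ↥(W₁ ⊔ W₂) →* ℂˣ) j.1) =
        (fun _ => 1) + ∑ a ∈ A i j, atomFun a) ∧
      ∀ i j, ∀ a ∈ A i j, (a.1 : G → ℂ) ≠ fun _ => 1 := by
  classical
  let _ : Fintype ↥(W₁ ⊔ W₂) := Fintype.ofFinite _
  let ι := {φ : trivOn (W₁ ⊔ W₂) W₂ // φ ≠ 1}
  let κ := {ψ : trivOn (W₁ ⊔ W₂) W₁ // ψ ≠ 1}
  let one : G → ℂ := fun _ => 1
  have hone : IsClassFunction G one := fun _ _ => rfl
  have hcoe : ∀ {K : Subgroup (↥(W₁ ⊔ W₂) →* ℂˣ)} (x : {φ : K // φ ≠ 1}),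
      (x.1 : ↥(W₁ ⊔ W₂) →* ℂˣ) ≠ 1 := fun x e => x.2 (Subtype.ext e)
  let al : ι → κ → ↥(W₁ ⊔ W₂) → ℂ := fun i j => alphaFun W₁ W₂ i.1 j.1
  have hout : ∀ (i : ι) (j : κ) (w : ↥(W₁ ⊔ W₂)), (w : G) ∈ W₁ ∨ (w : G) ∈ W₂ → al i j w = 0 :=
    fun i j => alphaFun_outside i.1.2 j.1.2
  have hgram : ∀ i i' j j', classInner (indFun (W₁ ⊔ W₂) (al i j)) one = 1 ∧
      classInner (indFun (W₁ ⊔ W₂) (al i j)) (indFun (W₁ ⊔ W₂) (al i' j')) =
        1 + (if i = i' then 1 else 0) + (if j = j' then 1 else 0) +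
          (if i = i' then 1 else 0) * (if j = j' then 1 else 0) := by
    intro i i' j j'
    obtain ⟨g1, g2⟩ := alpha_gram (snc_disj hW) (snc_comm hW) i.1.2 i'.1.2 j.1.2 j'.1.2
      (hcoe i) (hcoe i') (hcoe j) (hcoe j')
    refine ⟨?_, ?_⟩
    · rw [classInner_indFun _ _ _ hone, ← g1]
      congr 1
    · rw [classInner_ind_ind hW (hout i j) (hout i' j'), g2]
      have hi : (i.1 : ↥(W₁ ⊔ W₂) →* ℂˣ) = i'.1 ↔ i = i' :=
        ⟨fun h => Subtype.ext (Subtype.ext h), fun h => h ▸ rfl⟩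
      have hj : (j.1 : ↥(W₁ ⊔ W₂) →* ℂˣ) = j'.1 ↔ j = j' :=
        ⟨fun h => Subtype.ext (Subtype.ext h), fun h => h ▸ rfl⟩
      simp only [hi, hj]
  let β : ι → κ → G → ℂ := fun i j => indFun (W₁ ⊔ W₂) (al i j) - one
  have hone1 : classInner one one = 1 := classInner_irr_self ⟨one, isIrrCharacter_one⟩
  have hβg : ∀ i j, IsGeneralizedCharacter G (β i j) := by
    intro i j
    have h1 : ∀ ω : ↥(W₁ ⊔ W₂) →* ℂˣ, IsGeneralizedCharacter _ (lc ω) := fun ω =>
      isGeneralizedCharacter_of_isCharacter (isCharacter_of_isIrr (isIrrCharacter_lc ω))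
    refine isGeneralizedCharacter_sub (isGeneralizedCharacter_indFun _ ?_)
      (isGeneralizedCharacter_of_isCharacter (isCharacter_of_isIrr isIrrCharacter_one))
    simp only [al, alphaFun_eq]
    exact isGeneralizedCharacter_add
      (isGeneralizedCharacter_sub (isGeneralizedCharacter_sub (h1 _) (h1 _)) (h1 _)) (h1 _)
  have hβone : ∀ i j, classInner (β i j) one = 0 := fun i j => by
    simp only [β, classInner_sub_left, (hgram i i j j).1, hone1, sub_self]
  have hβ : ∀ i i' j j', classInner (β i j) (β i' j') =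
      (if i = i' then 1 else 0) + (if j = j' then 1 else 0) +
        (if i = i' then 1 else 0) * (if j = j' then 1 else 0) := by
    intro i i' j j'
    have e : classInner one (indFun (W₁ ⊔ W₂) (al i' j')) = 1 := by
      rw [← classInner_conj, (hgram i' i' j' j').1, map_one]
    simp only [β, classInner_sub_left, classInner_sub_right, (hgram i i' j j').1,
      (hgram i i' j j').2, e, hone1]
    ring
  have hβ1 : ∀ i j, β i j 1 = -1 := by
    intro i j
    simp [β, one, indFun_one, hout i j 1 (Or.inl W₁.one_mem)]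
  choose A hA3 hAopp hAsum using fun i j =>
    exists_atoms_of_norm_three (hβg i j) (by rw [hβ i i j j]; simp; norm_num)
  have hineq : ∀ i i' j j', ((A i j ∩ A i' j').card : ℂ) -
      (((A i j).filter fun a => atomNeg a ∈ A i' j').card : ℂ) =
        (if i = i' then 1 else 0) + (if j = j' then 1 else 0) +
          (if i = i' then 1 else 0) * (if j = j' then 1 else 0) := fun i i' j j' => by
    rw [← classInner_atom_sum, ← hAsum, ← hAsum, hβ]
  have hline : ∀ i i' j j', ((i = i' ∧ j ≠ j') ∨ (i ≠ i' ∧ j = j')) →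
      (A i j ∩ A i' j').card = 1 ∧ ∀ a ∈ A i j, atomNeg a ∉ A i' j' := by
    intro i i' j j' hl
    have h1 := hineq i i' j j'
    have hv : (if i = i' then (1 : ℂ) else 0) + (if j = j' then 1 else 0) +
        (if i = i' then 1 else 0) * (if j = j' then 1 else 0) = 1 := by
      rcases hl with ⟨e, e'⟩ | ⟨e, e'⟩ <;> simp [e, e']
    rw [hv, sub_eq_iff_eq_add] at h1
    have h1' : (A i j ∩ A i' j').card =
        1 + ((A i j).filter fun a => atomNeg a ∈ A i' j').card := by exact_mod_cast h1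
    set F := (A i j).filter fun a => atomNeg a ∈ A i' j' with hF
    have hdisj : Disjoint (A i j ∩ A i' j') F := Finset.disjoint_left.mpr fun a ha ha' =>
      hAopp i' j' a (Finset.mem_inter.mp ha).2 (Finset.mem_filter.mp ha').2
    have hsub : (A i j ∩ A i' j') ∪ F ⊆ A i j :=
      Finset.union_subset Finset.inter_subset_left (Finset.filter_subset _ _)
    have h2 := Finset.card_le_card hsub
    rw [Finset.card_union_of_disjoint hdisj, hA3] at h2
    have hF0 : F.card = 0 := by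
      by_contra h0
      have hF1 : F.card = 1 := by omega
      have hI : (A i j ∩ A i' j').card = 2 := by omega
      obtain ⟨c, hc⟩ := Finset.card_eq_one.mp hF1
      have hcm : c ∈ F := hc ▸ Finset.mem_singleton_self c
      obtain ⟨hcA, hcB⟩ := Finset.mem_filter.mp hcm
      have hcI : c ∉ A i j ∩ A i' j' := fun h => Finset.disjoint_left.mp hdisj h hcm
      have hcI' : atomNeg c ∉ A i j ∩ A i' j' := fun h =>
        hAopp i j c hcA (Finset.mem_inter.mp h).1
      have e1 : A i j = insert c (A i j ∩ A i' j') := (Finset.eq_of_subset_of_card_le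
        (Finset.insert_subset hcA Finset.inter_subset_left)
        (by rw [hA3, Finset.card_insert_of_notMem hcI, hI])).symm
      have e2 : A i' j' = insert (atomNeg c) (A i j ∩ A i' j') := (Finset.eq_of_subset_of_card_le
        (Finset.insert_subset hcB Finset.inter_subset_right)
        (by rw [hA3, Finset.card_insert_of_notMem hcI', hI])).symm
      have v1 := hβ1 i j
      have v2 := hβ1 i' j'
      rw [hAsum, e1, Finset.sum_insert hcI, Pi.add_apply] at v1
      rw [hAsum, e2, Finset.sum_insert hcI', Pi.add_apply, atomFun_neg, Pi.neg_apply] at v2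
      have hz : atomFun c 1 = 0 := by linear_combination (v1 - v2) / 2
      refine irr_one_ne_zero c.1 ?_
      revert hz
      cases c.2 <;> simp [atomFun] <;> split_ifs <;> simp
    exact ⟨by omega, fun a ha ha' =>
      (Finset.card_eq_zero.mp hF0 ▸ Finset.notMem_empty a) (Finset.mem_filter.mpr ⟨ha, ha'⟩)⟩
  refine ⟨A, ⟨hA3, hAopp, fun i j j' h => (hline i i j j' (Or.inl ⟨rfl, h⟩)).1, ?_,
    fun i i' j h => (hline i i' j j (Or.inr ⟨h, rfl⟩)).1, ?_, fun i i' j j' hi hj => ?_⟩, ?_, ?_⟩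
  · intro i j j'
    rcases eq_or_ne j j' with rfl | h
    · exact hAopp i j
    · exact (hline i i j j' (Or.inl ⟨rfl, h⟩)).2
  · intro i i' j
    rcases eq_or_ne i i' with rfl | h
    · exact hAopp i j
    · exact (hline i i' j j (Or.inr ⟨h, rfl⟩)).2
  · have h1 := hineq i i' j j'
    rw [if_neg hi, if_neg hj, mul_zero, add_zero, add_zero, sub_eq_zero] at h1
    exact_mod_cast h1
  · intro i j
    rw [← hAsum]
    simp only [β, one, al]
    abel
  · intro i j a ha e
    have hz := hβone i j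
    have e1 : one = atomFun (a.1, true) := by simp [atomFun, e, one]
    rw [hAsum, e1] at hz
    rw [show atomFun (a.1, true) = ∑ b ∈ {(a.1, true)}, atomFun b by simp,
      classInner_atom_sum, sub_eq_zero, Nat.cast_inj] at hz
    rcases atom_fst_eq (a := a) (b := (a.1, true)) rfl with e' | e'
    · have h1 : (A i j ∩ {(a.1, true)}).card ≠ 0 :=
        Finset.card_ne_zero.mpr ⟨a, Finset.mem_inter.mpr ⟨ha, Finset.mem_singleton.mpr e'⟩⟩
      refine h1 (hz.trans (Finset.card_eq_zero.mpr (Finset.filter_eq_empty_iff.mpr fun b hb hb' => ?_)))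
      rw [Finset.mem_singleton, ← e'] at hb'
      exact hAopp i j b hb (hb' ▸ ha)
    · have h1 : ((A i j).filter fun b => atomNeg b ∈ ({(a.1, true)} : Finset _)).card ≠ 0 :=
        Finset.card_ne_zero.mpr ⟨a, Finset.mem_filter.mpr ⟨ha, Finset.mem_singleton.mpr e'.symm⟩⟩
      refine h1 (hz.symm.trans (Finset.card_eq_zero.mpr (Finset.eq_empty_of_forall_notMem fun b hb => ?_)))
      obtain ⟨hb, hb'⟩ := Finset.mem_inter.mp hb
      rw [Finset.mem_singleton, e'] at hb'
      exact hAopp i j a ha (hb' ▸ hb)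

theorem card_nontrivial {K : Type*} [Group K] [Fintype K] [Fintype {x : K // x ≠ 1}] :
    Fintype.card {x : K // x ≠ 1} = Fintype.card K - 1 := by
  classical
  rw [Fintype.card_subtype_compl, Fintype.card_subtype_eq]

theorem exists_cyclic_ti_family (hW : IsSelfNormalizingCyclic W₁ W₂)
    (hodd : Odd (Nat.card ↥(W₁ ⊔ W₂))) :
    ∃ χ : (↥(W₁ ⊔ W₂) →* ℂˣ) → (G → ℂ), IsCyclicTIFamily W₁ W₂ χ := by
  classical
  have := finite_dual (K := ↥(W₁ ⊔ W₂))
  have := Fintype.ofFinite (IrrCharacter G)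
  have hodd1 := hodd
  rw [snc_card hW, Nat.odd_mul] at hodd1
  have hm : 1 < Nat.card W₁ := (Subgroup.one_lt_card_iff_ne_bot W₁).mpr hW.1
  have hn : 1 < Nat.card W₂ := (Subgroup.one_lt_card_iff_ne_bot W₂).mpr hW.2.1
  have hcop := snc_coprime hW
  let Φ := trivOn (W₁ ⊔ W₂) W₂
  let Ψ := trivOn (W₁ ⊔ W₂) W₁
  let _ : Fintype Φ := Fintype.ofFinite _
  let _ : Fintype Ψ := Fintype.ofFinite _
  have cι : Fintype.card {φ : Φ // φ ≠ 1} = Nat.card W₁ - 1 := by
    rw [card_nontrivial, ← Nat.card_eq_fintype_card,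
      card_trivOn_snd (snc_disj hW) (snc_comm hW) (snc_mul_comm_fst hW)]
  have cκ : Fintype.card {ψ : Ψ // ψ ≠ 1} = Nat.card W₂ - 1 := by
    rw [card_nontrivial, ← Nat.card_eq_fintype_card,
      card_trivOn_fst (snc_disj hW) (snc_comm hW) (snc_mul_comm_snd hW)]
  have hne : Nat.card W₁ ≠ Nat.card W₂ := fun e => by
    rw [e, Nat.coprime_self] at hcop; omega
  obtain ⟨A, hgrid, hind, hA1⟩ := snc_grid hW
  obtain ⟨c, d, e, hA, hinj⟩ := grid_shape hgrid
    (by obtain ⟨k, hk⟩ := hodd1.1; rw [cι]; omega) (by obtain ⟨k, hk⟩ := hodd1.2; rw [cκ]; omega)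
    (by rw [cι, cκ]; omega)
  let Z := {φ : Φ // φ ≠ 1} ⊕ {ψ : Ψ // ψ ≠ 1} ⊕ {φ : Φ // φ ≠ 1} × {ψ : Ψ // ψ ≠ 1}
  let S : Option Z → IrrCharacter G × Bool := fun z => z.elim (⟨_, isIrrCharacter_one⟩, true)
    (Sum.elim (fun i => atomNeg (c i))
      (Sum.elim (fun j => atomNeg (d j)) fun p => e p.1 p.2))
  have hfst : ∀ z : Z, (S (some z)).1 = (Sum.elim c (Sum.elim d fun p => e p.1 p.2) z).1 := by
    rintro (i | j | p) <;> rfl
  have hmemz : ∀ z : Z, ∃ i j, (S (some z)).1 ∈ (A i j).image Prod.fst := by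
    have hne1 : Nonempty {φ : Φ // φ ≠ 1} := Fintype.card_pos_iff.mp (by rw [cι]; omega)
    have hne2 : Nonempty {ψ : Ψ // ψ ≠ 1} := Fintype.card_pos_iff.mp (by rw [cκ]; omega)
    rintro (i | j | ⟨i, j⟩)
    · exact ⟨i, Classical.arbitrary _, Finset.mem_image.mpr ⟨c i, by simp [hA], rfl⟩⟩
    · exact ⟨Classical.arbitrary _, j, Finset.mem_image.mpr ⟨d j, by simp [hA], rfl⟩⟩
    · exact ⟨i, j, Finset.mem_image.mpr ⟨e i j, by simp [hA], rfl⟩⟩
  have hnt : ∀ z : Z, ((S (some z)).1 : G → ℂ) ≠ fun _ => 1 := fun z => by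
    obtain ⟨i, j, hm⟩ := hmemz z
    obtain ⟨a, ha, ea⟩ := Finset.mem_image.mp hm
    exact ea ▸ hA1 i j a ha
  have hSinj : Function.Injective fun z => (S z).1 := by
    rintro (_ | z) (_ | z') q
    · rfl
    · exact absurd (congrArg Subtype.val q).symm (hnt z')
    · exact absurd (congrArg Subtype.val q) (hnt z)
    · exact congrArg some (hinj (by simpa [hfst] using q))
  let toZ : Φ × Ψ → Option Z := fun p =>
    if h1 : p.1 = 1 then (if h2 : p.2 = 1 then none else some (Sum.inr (Sum.inl ⟨p.2, h2⟩)))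
    else if h2 : p.2 = 1 then some (Sum.inl ⟨p.1, h1⟩)
    else some (Sum.inr (Sum.inr (⟨p.1, h1⟩, ⟨p.2, h2⟩)))
  have htoZ : Function.Injective toZ := by
    rintro ⟨a, b⟩ ⟨a', b'⟩ q
    simp only [toZ] at q
    split_ifs at q <;>
      simp only [Z, Option.some.injEq, Sum.inl.injEq, Sum.inr.injEq, Prod.mk.injEq, Subtype.mk.injEq,
        reduceCtorEq] at q <;> simp_all only
  have hbij : Function.Bijective
      (fun p : Φ × Ψ => (p.1 : ↥(W₁ ⊔ W₂) →* ℂˣ) * p.2) := by
    refine ⟨fun p q h => ?_, fun ω => ?_⟩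
    · obtain ⟨e1, e2⟩ := trivOn_mul_inj (snc_disj hW) (snc_comm hW) p.1.2 q.1.2 p.2.2 q.2.2 h
      exact Prod.ext (Subtype.ext e1) (Subtype.ext e2)
    · obtain ⟨φ, hφ, ψ, hψ, h⟩ := exists_trivOn_mul (snc_disj hW) (snc_comm hW) ω
      exact ⟨(⟨φ, hφ⟩, ⟨ψ, hψ⟩), h⟩
  let P : Φ × Ψ ≃ (↥(W₁ ⊔ W₂) →* ℂˣ) := Equiv.ofBijective _ hbij
  let χ : (↥(W₁ ⊔ W₂) →* ℂˣ) → (G → ℂ) := fun ω => atomFun (S (toZ (P.symm ω)))
  have horth : ∀ ω ω', classInner (χ ω) (χ ω') = if ω = ω' then 1 else 0 := by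
    intro ω ω'
    simp only [χ, classInner_atomFun]
    rcases eq_or_ne ω ω' with rfl | h
    · simp [atomNeg_ne]
    · have hk : (S (toZ (P.symm ω))).1 ≠ (S (toZ (P.symm ω'))).1 := fun q =>
        h (P.symm.injective (htoZ (hSinj q)))
      rw [if_neg fun q => hk (congrArg Prod.fst q),
        if_neg fun q => hk (by simpa [atomNeg] using congrArg Prod.fst q), if_neg h, sub_zero]
  have hP : ∀ (φ ψ : ↥(W₁ ⊔ W₂) →* ℂˣ) (hφ : φ ∈ Φ) (hψ : ψ ∈ Ψ),
      P.symm (φ * ψ) = (⟨φ, hφ⟩, ⟨ψ, hψ⟩) := fun φ ψ hφ hψ => P.symm_apply_eq.mpr rfl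
  have hone : χ 1 = fun _ => 1 := by
    have h11 : P.symm 1 = (1, 1) := P.symm_apply_eq.mpr (mul_one (1 : ↥(W₁ ⊔ W₂) →* ℂˣ)).symm
    simp [χ, h11, toZ, S, atomFun]
  have hind' : ∀ φ ψ : ↥(W₁ ⊔ W₂) →* ℂˣ, φ ≠ 1 → ψ ≠ 1 → φ ∈ Φ → ψ ∈ Ψ →
      indFun (W₁ ⊔ W₂) (alphaFun W₁ W₂ φ ψ) = fun g => 1 - χ φ g - χ ψ g + χ (φ * ψ) g := by
    intro φ ψ hφ1 hψ1 hφ hψ
    have a1 : (⟨φ, hφ⟩ : Φ) ≠ 1 := fun q => hφ1 (congrArg Subtype.val q)
    have a2 : (⟨ψ, hψ⟩ : Ψ) ≠ 1 := fun q => hψ1 (congrArg Subtype.val q)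
    let i : {φ : Φ // φ ≠ 1} := ⟨_, a1⟩
    let j : {ψ : Ψ // ψ ≠ 1} := ⟨_, a2⟩
    have e1 : χ φ = -atomFun (c i) := by
      have : P.symm φ = (⟨φ, hφ⟩, 1) := P.symm_apply_eq.mpr (mul_one φ).symm
      simp [χ, this, toZ, a1, S, atomFun_neg, i]
    have e2 : χ ψ = -atomFun (d j) := by
      have : P.symm ψ = (1, ⟨ψ, hψ⟩) := P.symm_apply_eq.mpr (one_mul ψ).symm
      simp [χ, this, toZ, a2, S, atomFun_neg, j]
    have e3 : χ (φ * ψ) = atomFun (e i j) := by
      simp [χ, hP φ ψ hφ hψ, toZ, a1, a2, S, i, j]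
    have hd1 : c i ∉ ({d j, e i j} : Finset _) := by
      simp only [Finset.mem_insert, Finset.mem_singleton, not_or]
      exact ⟨fun q => by simpa using @hinj (Sum.inl i) (Sum.inr (Sum.inl j)) (by simp [q]),
        fun q => by simpa using @hinj (Sum.inl i) (Sum.inr (Sum.inr (i, j))) (by simp [q])⟩
    have hd2 : d j ∉ ({e i j} : Finset _) := by
      simp only [Finset.mem_singleton]
      exact fun q => by simpa using @hinj (Sum.inr (Sum.inl j)) (Sum.inr (Sum.inr (i, j))) (by simp [q])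
    rw [show alphaFun W₁ W₂ φ ψ = alphaFun W₁ W₂ (i.1 : ↥(W₁ ⊔ W₂) →* ℂˣ) j.1 from rfl, hind i j,
      hA i j, Finset.sum_insert hd1, Finset.sum_insert hd2, Finset.sum_singleton, e1, e2, e3]
    funext g
    simp only [Pi.add_apply, Pi.neg_apply]
    ring
  refine ⟨χ, fun ω => atomFun_irr_or_neg _, fun ω ω' => by rw [horth]; congr, hone, ?_, ?_⟩
  · intro ω w h1 h2
    refine eq_on_of_induced hW (fun ω' => ?_) hone horth hind' ω w h1 h2
    rcases atomFun_irr_or_neg (S (toZ (P.symm ω'))) with h | h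
    · exact isClassFunction_of_isCharacter (isCharacter_of_isIrr h)
    · intro g x
      exact neg_injective (isClassFunction_of_isCharacter (isCharacter_of_isIrr h) g x)
  · exact fun φ ψ h1 h2 h3 h4 => hind' φ ψ h1 h2 h3 h4

end CfsgLib.Char
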