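import Cfsg.Agent.Lib.Char.Linear
import Cfsg.Agent.Lib.Char.Induction
import Cfsg.Prelude.Def_OddOrderLocal
import Cfsg.Prelude.Def_OddOrderChar

/-!
# Cyclic trivial-intersection subgroups: basic facts

Linear characters of `W = W₁ ⊔ W₂`, the functions `(1 - φ)(1 - ψ)` and their inductions.
-/

set_option autoImplicit false
set_option linter.unusedSectionVars false

namespace CfsgLib.Char

open scoped ComplexConjugate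
open Representation Module Cfsg

universe u

variable {G : Type u} [Group G]

/-- A linear character as a function. -/
def lc {K : Type*} [Group K] (ω : K →* ℂˣ) : K → ℂ := fun w => (ω w : ℂ)

theorem lc_injective {K : Type*} [Group K] : Function.Injective (lc : (K →* ℂˣ) → K → ℂ) :=
  fun _ _ h => MonoidHom.ext fun g => Units.ext (congrFun h g)

theorem lc_apply {K : Type*} [Group K] (ω : K →* ℂˣ) (w : K) : lc ω w = (ω w : ℂ) := rfl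

theorem isIrrCharacter_lc {K : Type*} [Group K] (ω : K →* ℂˣ) : IsIrrCharacter K (lc ω) :=
  isIrrCharacter_lin ω

theorem classInner_lc {K : Type*} [Group K] [Fintype K] (a b : K →* ℂˣ) [Decidable (a = b)] :
    classInner (lc a) (lc b) = if a = b then 1 else 0 := by
  split_ifs with h
  · subst h
    exact classInner_irr_self ⟨_, isIrrCharacter_lc a⟩
  · exact classInner_irr_ne (χ := ⟨_, isIrrCharacter_lc a⟩) (ψ := ⟨_, isIrrCharacter_lc b⟩)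
      fun e => h (lc_injective (congrArg Subtype.val e))

/-- The linear characters of `W` trivial on `K`. -/
def trivOn (W K : Subgroup G) : Subgroup (↥W →* ℂˣ) where
  carrier := {ω | ∀ w : ↥W, (w : G) ∈ K → ω w = 1}
  one_mem' _ _ := rfl
  mul_mem' ha hb w hw := by rw [MonoidHom.mul_apply, ha w hw, hb w hw, one_mul]
  inv_mem' ha w hw := by rw [MonoidHom.inv_apply, ha w hw, inv_one]

theorem mem_trivOn {W K : Subgroup G} {ω : ↥W →* ℂˣ} :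
    ω ∈ trivOn W K ↔ ∀ w : ↥W, (w : G) ∈ K → ω w = 1 := Iff.rfl

variable (W₁ W₂ : Subgroup G)

/-- `(1 - φ)(1 - ψ)`. -/
def alphaFun (φ ψ : ↥(W₁ ⊔ W₂) →* ℂˣ) : ↥(W₁ ⊔ W₂) → ℂ :=
  fun w => 1 - (φ w : ℂ) - (ψ w : ℂ) + (φ w : ℂ) * (ψ w : ℂ)

variable {W₁ W₂}

theorem alphaFun_eq (φ ψ : ↥(W₁ ⊔ W₂) →* ℂˣ) :
    alphaFun W₁ W₂ φ ψ = lc 1 - lc φ - lc ψ + lc (φ * ψ) := by
  funext w
  simp [alphaFun, lc]

theorem alphaFun_outside {φ ψ : ↥(W₁ ⊔ W₂) →* ℂˣ} (hφ : φ ∈ trivOn _ W₂) (hψ : ψ ∈ trivOn _ W₁)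
    (w : ↥(W₁ ⊔ W₂)) (hw : (w : G) ∈ W₁ ∨ (w : G) ∈ W₂) : alphaFun W₁ W₂ φ ψ w = 0 := by
  rcases hw with h | h
  · simp [alphaFun, hψ w h]
  · simp [alphaFun, hφ w h]

theorem classInner_alphaFun [Fintype ↥(W₁ ⊔ W₂)] (f : ↥(W₁ ⊔ W₂) → ℂ)
    (φ ψ : ↥(W₁ ⊔ W₂) →* ℂˣ) :
    classInner f (alphaFun W₁ W₂ φ ψ) =
      classInner f (lc 1) - classInner f (lc φ) - classInner f (lc ψ) + classInner f (lc (φ * ψ)) := by
  rw [alphaFun_eq, classInner_add_right, classInner_sub_right, classInner_sub_right]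

theorem classInner_alphaFun_of_vanish [Fintype ↥(W₁ ⊔ W₂)] {f : ↥(W₁ ⊔ W₂) → ℂ}
    (hf : ∀ w : ↥(W₁ ⊔ W₂), (w : G) ∉ W₁ → (w : G) ∉ W₂ → f w = 0)
    {φ ψ : ↥(W₁ ⊔ W₂) →* ℂˣ} (hφ : φ ∈ trivOn _ W₂) (hψ : ψ ∈ trivOn _ W₁) :
    classInner f (alphaFun W₁ W₂ φ ψ) = 0 := by
  rw [classInner, Finset.sum_eq_zero, mul_zero]
  intro w _
  by_cases h : (w : G) ∈ W₁ ∨ (w : G) ∈ W₂
  · rw [alphaFun_outside hφ hψ w h, map_zero, mul_zero]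
  · push Not at h
    rw [hf w h.1 h.2, zero_mul]

section Decomp

variable (hdisj : W₁ ⊓ W₂ = ⊥) (hcomm : ∀ a ∈ W₁, ∀ b ∈ W₂, a * b = b * a)

/-- Multiplication `W₁ × W₂ → W₁ ⊔ W₂`. -/
def prodHom (hcomm : ∀ a ∈ W₁, ∀ b ∈ W₂, a * b = b * a) : W₁ × W₂ →* ↥(W₁ ⊔ W₂) :=
  MonoidHom.noncommCoprod (Subgroup.inclusion le_sup_left) (Subgroup.inclusion le_sup_right)
    fun a b => Subtype.ext (hcomm a a.2 b b.2)

theorem prodHom_apply (p : W₁ × W₂) : ((prodHom hcomm p : ↥(W₁ ⊔ W₂)) : G) = p.1 * p.2 := rfl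

include hdisj hcomm

theorem prodHom_bijective : Function.Bijective (prodHom hcomm) := by
  constructor
  · intro p q h
    have h' : (p.1 : G) * p.2 = (q.1 : G) * q.2 := congrArg Subtype.val h
    have e : (q.1 : G)⁻¹ * p.1 = (q.2 : G) * (p.2 : G)⁻¹ := by
      rw [eq_mul_inv_iff_mul_eq, mul_assoc, h', inv_mul_cancel_left]
    have hm : (q.1 : G)⁻¹ * p.1 ∈ W₁ ⊓ W₂ :=
      ⟨W₁.mul_mem (W₁.inv_mem q.1.2) p.1.2, e ▸ W₂.mul_mem q.2.2 (W₂.inv_mem p.2.2)⟩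
    rw [hdisj, Subgroup.mem_bot] at hm
    rw [hm] at e
    exact Prod.ext (Subtype.ext (inv_mul_eq_one.mp hm).symm)
      (Subtype.ext (mul_inv_eq_one.mp e.symm).symm)
  · intro w
    have hcm : ∀ (a : W₁) (b : W₂), Commute (W₁.subtype a) (W₂.subtype b) :=
      fun a b => hcomm a a.2 b b.2
    have hw : (w : G) ∈ (MonoidHom.noncommCoprod W₁.subtype W₂.subtype hcm).range := by
      rw [MonoidHom.noncommCoprod_range, Subgroup.range_subtype, Subgroup.range_subtype]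
      exact w.2
    obtain ⟨p, e⟩ := hw
    exact ⟨p, Subtype.ext e⟩

theorem exists_decomp (w : ↥(W₁ ⊔ W₂)) :
    ∃ a b : ↥(W₁ ⊔ W₂), (a : G) ∈ W₁ ∧ (b : G) ∈ W₂ ∧ a * b = w := by
  obtain ⟨p, rfl⟩ := (prodHom_bijective hdisj hcomm).2 w
  exact ⟨Subgroup.inclusion le_sup_left p.1, Subgroup.inclusion le_sup_right p.2, p.1.2, p.2.2, rfl⟩

theorem trivOn_mul_inj {φ φ' ψ ψ' : ↥(W₁ ⊔ W₂) →* ℂˣ} (hφ : φ ∈ trivOn _ W₂)
    (hφ' : φ' ∈ trivOn _ W₂) (hψ : ψ ∈ trivOn _ W₁) (hψ' : ψ' ∈ trivOn _ W₁)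
    (h : φ * ψ = φ' * ψ') : φ = φ' ∧ ψ = ψ' := by
  have hφe : φ = φ' := by
    refine MonoidHom.ext fun w => ?_
    obtain ⟨a, b, ha, hb, rfl⟩ := exists_decomp hdisj hcomm w
    have := DFunLike.congr_fun h a
    rw [MonoidHom.mul_apply, MonoidHom.mul_apply, hψ a ha, hψ' a ha, mul_one, mul_one] at this
    rw [map_mul, map_mul, this, hφ b hb, hφ' b hb]
  subst hφe
  exact ⟨rfl, mul_left_cancel h⟩

theorem alpha_gram [Fintype ↥(W₁ ⊔ W₂)] {φ φ' ψ ψ' : ↥(W₁ ⊔ W₂) →* ℂˣ} (hφ : φ ∈ trivOn _ W₂)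
    (hφ' : φ' ∈ trivOn _ W₂) (hψ : ψ ∈ trivOn _ W₁) (hψ' : ψ' ∈ trivOn _ W₁)
    (h1 : φ ≠ 1) (h1' : φ' ≠ 1) (h2 : ψ ≠ 1) (h2' : ψ' ≠ 1)
    [Decidable (φ = φ')] [Decidable (ψ = ψ')] :
    classInner (alphaFun W₁ W₂ φ ψ) (lc 1) = 1 ∧
      classInner (alphaFun W₁ W₂ φ ψ) (alphaFun W₁ W₂ φ' ψ') =
        1 + (if φ = φ' then 1 else 0) + (if ψ = ψ' then 1 else 0) +
          (if φ = φ' then 1 else 0) * (if ψ = ψ' then 1 else 0) := by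
  classical
  have one₁ := (trivOn (W₁ ⊔ W₂) W₁).one_mem
  have one₂ := (trivOn (W₁ ⊔ W₂) W₂).one_mem
  have hinj := @trivOn_mul_inj G _ W₁ W₂ hdisj hcomm
  have n1 : ∀ {a b}, a ∈ trivOn _ W₂ → b ∈ trivOn _ W₁ → a ≠ 1 → (1 : ↥(W₁ ⊔ W₂) →* ℂˣ) ≠ a * b :=
    fun ha hb hne e => hne (hinj one₂ ha one₁ hb ((one_mul _).trans e)).1.symm
  have n2 : ∀ {a b}, a ∈ trivOn _ W₂ → b ∈ trivOn _ W₁ → a ≠ 1 → (a : ↥(W₁ ⊔ W₂) →* ℂˣ) ≠ b :=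
    fun ha hb hne e => hne (hinj ha one₂ one₁ hb ((mul_one _).trans (e.trans (one_mul _).symm))).1
  have n3 : ∀ {c a b}, c ∈ trivOn _ W₂ → a ∈ trivOn _ W₂ → b ∈ trivOn _ W₁ → b ≠ 1 →
      (c : ↥(W₁ ⊔ W₂) →* ℂˣ) ≠ a * b :=
    fun hc ha hb hne e => hne (hinj hc ha one₁ hb ((mul_one _).trans e)).2.symm
  have n4 : ∀ {c a b}, c ∈ trivOn _ W₁ → a ∈ trivOn _ W₂ → b ∈ trivOn _ W₁ → a ≠ 1 →
      (c : ↥(W₁ ⊔ W₂) →* ℂˣ) ≠ a * b :=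
    fun hc ha hb hne e => hne (hinj one₂ ha hc hb ((one_mul _).trans e)).1.symm
  have e5 : φ * ψ = φ' * ψ' ↔ φ = φ' ∧ ψ = ψ' :=
    ⟨hinj hφ hφ' hψ hψ', fun e => by rw [e.1, e.2]⟩
  constructor
  · rw [alphaFun_eq, classInner_add_left, classInner_sub_left, classInner_sub_left]
    simp only [classInner_lc, if_pos, if_neg h1, if_neg h2, if_neg (n1 hφ hψ h1).symm]
    ring
  · rw [classInner_alphaFun]
    simp only [alphaFun_eq, classInner_add_left, classInner_sub_left, classInner_lc, if_pos,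
      if_neg h1, if_neg h2, if_neg (n1 hφ hψ h1).symm, if_neg h1'.symm, if_neg h2'.symm,
      if_neg (n1 hφ' hψ' h1'), if_neg (n2 hφ hψ' h1), if_neg (n2 hφ' hψ h1').symm,
      if_neg (n3 hφ hφ' hψ' h2'), if_neg (n3 hφ' hφ hψ h2).symm, if_neg (n4 hψ hφ' hψ' h1'),
      if_neg (n4 hψ' hφ hψ h1).symm, e5]
    split_ifs <;> simp_all <;> ring

end Decomp

section Dual

variable [Finite G] (hdisj : W₁ ⊓ W₂ = ⊥) (hcomm : ∀ a ∈ W₁, ∀ b ∈ W₂, a * b = b * a)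

theorem finite_dual {K : Type*} [Group K] [Finite K] : Finite (K →* ℂˣ) :=
  Finite.of_injective _ linearCharEquiv.injective

/-- The projection to the first factor. -/
noncomputable def projFst (hdisj : W₁ ⊓ W₂ = ⊥) (hcomm : ∀ a ∈ W₁, ∀ b ∈ W₂, a * b = b * a) :
    ↥(W₁ ⊔ W₂) →* W₁ :=
  (MonoidHom.fst W₁ W₂).comp
    (MulEquiv.ofBijective (prodHom hcomm) (prodHom_bijective hdisj hcomm)).symm.toMonoidHom

theorem projFst_spec (a : W₁) (b : W₂) :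
    projFst hdisj hcomm (prodHom hcomm (a, b)) = a := by
  simp only [projFst, MonoidHom.comp_apply, MulEquiv.coe_toMonoidHom]
  rw [show prodHom hcomm (a, b) =
    MulEquiv.ofBijective (prodHom hcomm) (prodHom_bijective hdisj hcomm) (a, b) from rfl,
    MulEquiv.symm_apply_apply]
  rfl

theorem projFst_of_mem {w : ↥(W₁ ⊔ W₂)} (hw : (w : G) ∈ W₁) :
    projFst hdisj hcomm w = ⟨w, hw⟩ := by
  conv_lhs => rw [show w = prodHom hcomm (⟨w, hw⟩, 1) from Subtype.ext (by simp [prodHom_apply])]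
  exact projFst_spec hdisj hcomm _ _

theorem projFst_of_mem' {w : ↥(W₁ ⊔ W₂)} (hw : (w : G) ∈ W₂) : projFst hdisj hcomm w = 1 := by
  conv_lhs => rw [show w = prodHom hcomm (1, ⟨w, hw⟩) from Subtype.ext (by simp [prodHom_apply])]
  exact projFst_spec hdisj hcomm _ _

theorem comp_projFst_mem (θ : W₁ →* ℂˣ) :
    θ.comp (projFst hdisj hcomm) ∈ trivOn (W₁ ⊔ W₂) W₂ := fun w hw => by
  rw [MonoidHom.comp_apply, projFst_of_mem' hdisj hcomm hw, map_one]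

include hdisj hcomm

theorem exists_trivOn_mul (ω : ↥(W₁ ⊔ W₂) →* ℂˣ) :
    ∃ φ ∈ trivOn (W₁ ⊔ W₂) W₂, ∃ ψ ∈ trivOn (W₁ ⊔ W₂) W₁, φ * ψ = ω := by
  let φ := (ω.comp (Subgroup.inclusion le_sup_left)).comp (projFst hdisj hcomm)
  refine ⟨φ, comp_projFst_mem hdisj hcomm _, φ⁻¹ * ω, fun w hw => ?_, MonoidHom.ext fun w => by simp⟩
  rw [MonoidHom.mul_apply, MonoidHom.inv_apply, inv_mul_eq_one]
  simp only [φ, MonoidHom.comp_apply, projFst_of_mem hdisj hcomm hw]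
  rfl

theorem card_trivOn_snd (hc : ∀ a b : W₁, a * b = b * a) :
    Nat.card (trivOn (W₁ ⊔ W₂) W₂) = Nat.card W₁ := by
  let _ : CommGroup W₁ := { (inferInstance : Group W₁) with mul_comm := hc }
  rw [← CommGroup.card_monoidHom_of_hasEnoughRootsOfUnity W₁ ℂ]
  refine Nat.card_congr
    { toFun := fun φ => (φ : ↥(W₁ ⊔ W₂) →* ℂˣ).comp (Subgroup.inclusion le_sup_left)
      invFun := fun θ => ⟨θ.comp (projFst hdisj hcomm), comp_projFst_mem hdisj hcomm θ⟩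
      left_inv := fun φ => Subtype.ext (MonoidHom.ext fun w => ?_)
      right_inv := fun θ => MonoidHom.ext fun a => ?_ }
  · obtain ⟨a, b, ha, hb, rfl⟩ := exists_decomp hdisj hcomm w
    simp only [MonoidHom.comp_apply, map_mul, projFst_of_mem hdisj hcomm ha,
      projFst_of_mem' hdisj hcomm hb, map_one, mul_one, φ.2 b hb]
    rfl
  · simp only [MonoidHom.comp_apply]
    exact congrArg θ (projFst_of_mem hdisj hcomm a.2)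

theorem sum_trivOn_snd (hc : ∀ a b : W₁, a * b = b * a) [Fintype (trivOn (W₁ ⊔ W₂) W₂)]
    {v : ↥(W₁ ⊔ W₂)} (hv : (v : G) ∉ W₂) :
    ∑ φ : trivOn (W₁ ⊔ W₂) W₂, ((φ : ↥(W₁ ⊔ W₂) →* ℂˣ) v : ℂ) = 0 := by
  let _ : CommGroup W₁ := { (inferInstance : Group W₁) with mul_comm := hc }
  have hne : projFst hdisj hcomm v ≠ 1 := by
    intro e
    obtain ⟨a, b, ha, hb, rfl⟩ := exists_decomp hdisj hcomm v
    rw [map_mul, projFst_of_mem hdisj hcomm ha, projFst_of_mem' hdisj hcomm hb, mul_one] at e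
    have : (a : G) = 1 := congrArg Subtype.val e
    refine hv ?_
    rw [Subgroup.coe_mul, this, one_mul]
    exact hb
  obtain ⟨θ, hθ⟩ := CommGroup.exists_apply_ne_one_of_hasEnoughRootsOfUnity W₁ ℂ hne
  let φ₀ : trivOn (W₁ ⊔ W₂) W₂ := ⟨_, comp_projFst_mem hdisj hcomm θ⟩
  set S := ∑ φ : trivOn (W₁ ⊔ W₂) W₂, ((φ : ↥(W₁ ⊔ W₂) →* ℂˣ) v : ℂ) with hS
  have h : ((φ₀ : ↥(W₁ ⊔ W₂) →* ℂˣ) v : ℂ) * S = S := by
    rw [hS, Finset.mul_sum]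
    exact Fintype.sum_equiv (Equiv.mulLeft φ₀) _ _ fun φ => by simp
  by_contra h0
  exact hθ (Units.ext (mul_right_cancel₀ h0 (h.trans (one_mul S).symm)))

end Dual

/-- The subgroup `W₁ ⊔ W₂` with the two factors interchanged. -/
theorem trivOn_swap_sum [Finite G] (hdisj : W₁ ⊓ W₂ = ⊥) (hcomm : ∀ a ∈ W₁, ∀ b ∈ W₂, a * b = b * a)
    (hc : ∀ a b : W₂, a * b = b * a) [Fintype (trivOn (W₁ ⊔ W₂) W₁)]
    {v : ↥(W₁ ⊔ W₂)} (hv : (v : G) ∉ W₁) :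
    ∑ ψ : trivOn (W₁ ⊔ W₂) W₁, ((ψ : ↥(W₁ ⊔ W₂) →* ℂˣ) v : ℂ) = 0 := by
  classical
  have hd : W₂ ⊓ W₁ = ⊥ := by rw [inf_comm]; exact hdisj
  have hcm : ∀ a ∈ W₂, ∀ b ∈ W₁, a * b = b * a := fun a ha b hb => (hcomm b hb a ha).symm
  let e : ↥(W₂ ⊔ W₁) ≃* ↥(W₁ ⊔ W₂) := MulEquiv.subgroupCongr (sup_comm W₂ W₁)
  have := finite_dual (K := ↥(W₂ ⊔ W₁))
  have := Fintype.ofFinite (trivOn (W₂ ⊔ W₁) W₁)
  rw [← sum_trivOn_snd hd hcm hc (v := e.symm v) hv]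
  exact Fintype.sum_bijective
    (fun ψ : trivOn (W₁ ⊔ W₂) W₁ => (⟨(ψ : ↥(W₁ ⊔ W₂) →* ℂˣ).comp e.toMonoidHom, fun w hw => ψ.2 (e w) hw⟩ :
      trivOn (W₂ ⊔ W₁) W₁))
    (Function.bijective_iff_has_inverse.mpr
      ⟨fun ψ : trivOn (W₂ ⊔ W₁) W₁ => ⟨(ψ : ↥(W₂ ⊔ W₁) →* ℂˣ).comp e.symm.toMonoidHom, fun w hw => ψ.2 (e.symm w) hw⟩,
        fun ψ => Subtype.ext (MonoidHom.ext fun w => congrArg _ (e.apply_symm_apply w)),
        fun ψ => Subtype.ext (MonoidHom.ext fun w => congrArg _ (e.symm_apply_apply w))⟩)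
    _ _ fun ψ => by simp

theorem card_trivOn_fst [Finite G] (hdisj : W₁ ⊓ W₂ = ⊥)
    (hcomm : ∀ a ∈ W₁, ∀ b ∈ W₂, a * b = b * a) (hc : ∀ a b : W₂, a * b = b * a) :
    Nat.card (trivOn (W₁ ⊔ W₂) W₁) = Nat.card W₂ := by
  let e : ↥(W₂ ⊔ W₁) ≃* ↥(W₁ ⊔ W₂) := MulEquiv.subgroupCongr (sup_comm W₂ W₁)
  rw [← card_trivOn_snd (W₁ := W₂) (W₂ := W₁) (by rw [inf_comm]; exact hdisj)
    (fun a ha b hb => (hcomm b hb a ha).symm) hc]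
  exact Nat.card_congr
    { toFun := fun ψ => ⟨(ψ : ↥(W₁ ⊔ W₂) →* ℂˣ).comp e.toMonoidHom, fun w hw => ψ.2 (e w) hw⟩
      invFun := fun ψ =>
        ⟨(ψ : ↥(W₂ ⊔ W₁) →* ℂˣ).comp e.symm.toMonoidHom, fun w hw => ψ.2 (e.symm w) hw⟩
      left_inv := fun ψ => Subtype.ext (MonoidHom.ext fun w => congrArg _ (e.apply_symm_apply w))
      right_inv := fun ψ => Subtype.ext (MonoidHom.ext fun w => congrArg _ (e.symm_apply_apply w)) }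

/-! ### The self-normalizing cyclic hypothesis -/

section SNC

variable (hW : IsSelfNormalizingCyclic W₁ W₂)
include hW

theorem snc_disj : W₁ ⊓ W₂ = ⊥ := hW.2.2.1

theorem snc_comm : ∀ a ∈ W₁, ∀ b ∈ W₂, a * b = b * a := hW.2.2.2.1

theorem snc_mul_comm (a b : ↥(W₁ ⊔ W₂)) : a * b = b * a := by
  have := hW.2.2.2.2.1
  exact IsMulCommutative.is_comm.comm a b

theorem snc_mul_comm_fst (a b : W₁) : a * b = b * a :=
  Subtype.ext (congrArg Subtype.val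
    (snc_mul_comm hW (Subgroup.inclusion le_sup_left a) (Subgroup.inclusion le_sup_left b)) :)

theorem snc_mul_comm_snd (a b : W₂) : a * b = b * a :=
  Subtype.ext (congrArg Subtype.val
    (snc_mul_comm hW (Subgroup.inclusion le_sup_right a) (Subgroup.inclusion le_sup_right b)) :)

theorem snc_isClassFunction (f : ↥(W₁ ⊔ W₂) → ℂ) : IsClassFunction _ f := by
  intro g h
  rw [snc_mul_comm hW h g, mul_inv_cancel_right]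

theorem snc_mem_singleton_normalizer {v : G} (hv : v ∈ W₁ ⊔ W₂) (h1 : v ∉ W₁) (h2 : v ∉ W₂)
    {x : G} (hx : x * v * x⁻¹ = v) : x ∈ W₁ ⊔ W₂ := by
  have h := hW.2.2.2.2.2 {v} (by
    rintro _ rfl
    exact ⟨hv, by simp [h1, h2]⟩) (Set.singleton_nonempty v)
  rw [← h, Subgroup.mem_set_normalizer_iff]
  intro n
  simp only [Set.mem_singleton_iff]
  refine ⟨fun e => e ▸ hx, fun e => ?_⟩
  have := e.trans hx.symm
  simpa using this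

theorem snc_conj_map {v : G} (hv : v ∈ W₁ ⊔ W₂) (h1 : v ∉ W₁) (h2 : v ∉ W₂) {x : G}
    (hx : x⁻¹ * v * x ∈ W₁ ⊔ W₂) (hx1 : x⁻¹ * v * x ∉ W₁) (hx2 : x⁻¹ * v * x ∉ W₂) :
    ∃ k : ℤ, ∀ w ∈ W₁ ⊔ W₂, x⁻¹ * w * x = w ^ k := by
  have hmem : ∀ w ∈ W₁ ⊔ W₂, x⁻¹ * w * x ∈ W₁ ⊔ W₂ := by
    intro w hw
    refine snc_mem_singleton_normalizer hW hx hx1 hx2 ?_
    have hc : w * v = v * w := congrArg Subtype.val (snc_mul_comm hW ⟨w, hw⟩ ⟨v, hv⟩)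
    calc x⁻¹ * w * x * (x⁻¹ * v * x) * (x⁻¹ * w * x)⁻¹ = x⁻¹ * (w * v) * w⁻¹ * x := by group
      _ = x⁻¹ * v * x := by rw [hc]; group
  let σ : ↥(W₁ ⊔ W₂) →* ↥(W₁ ⊔ W₂) :=
    { toFun := fun w => ⟨x⁻¹ * w * x, hmem w w.2⟩
      map_one' := Subtype.ext (by simp)
      map_mul' := fun a b => Subtype.ext (by simp [mul_assoc]) }
  have := hW.2.2.2.2.1
  obtain ⟨k, hk⟩ := σ.map_cyclic
  exact ⟨k, fun w hw => congrArg Subtype.val (hk ⟨w, hw⟩)⟩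

/-- The elements outside both factors form a trivial intersection set. -/
theorem snc_ti {v : G} (hv : v ∈ W₁ ⊔ W₂) (h1 : v ∉ W₁) (h2 : v ∉ W₂) {x : G}
    (hx : x⁻¹ * v * x ∈ W₁ ⊔ W₂) (hx1 : x⁻¹ * v * x ∉ W₁) (hx2 : x⁻¹ * v * x ∉ W₂) :
    x ∈ W₁ ⊔ W₂ := by
  obtain ⟨k, hk⟩ := snc_conj_map hW hv h1 h2 hx hx1 hx2
  have e : x⁻¹⁻¹ * (x⁻¹ * v * x) * x⁻¹ = v := by group
  obtain ⟨l, hl⟩ := snc_conj_map hW hx hx1 hx2 (x := x⁻¹) (by rwa [e]) (by rwa [e]) (by rwa [e])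
  let V : Set G := {g | g ∈ W₁ ⊔ W₂ ∧ g ∉ W₁ ∧ g ∉ W₂}
  have h := hW.2.2.2.2.2 V (fun g hg => ⟨hg.1, by simp [hg.2.1, hg.2.2]⟩) ⟨v, hv, h1, h2⟩
  have fwd : ∀ K : Subgroup G, K ≤ W₁ ⊔ W₂ → ∀ g, g ∈ K → x⁻¹ * g * x ∈ K := fun K hK g hg => by
    rw [hk g (hK hg)]; exact K.zpow_mem hg k
  have bwd : ∀ K : Subgroup G, K ≤ W₁ ⊔ W₂ → ∀ g, g ∈ K → x * g * x⁻¹ ∈ K := fun K hK g hg => by
    have := hl g (hK hg)
    rw [inv_inv] at this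
    rw [this]; exact K.zpow_mem hg l
  have key : ∀ K : Subgroup G, K ≤ W₁ ⊔ W₂ → ∀ g, g ∈ K ↔ x⁻¹ * g * x ∈ K := fun K hK g =>
    ⟨fwd K hK g, fun hg => by simpa [mul_assoc] using bwd K hK _ hg⟩
  rw [← h, Subgroup.mem_set_normalizer_iff'']
  intro g
  simp only [V, Set.mem_setOf_eq]
  rw [key _ le_rfl g, key _ le_sup_left g, key _ le_sup_right g]

theorem snc_coprime [Finite G] : (Nat.card W₁).Coprime (Nat.card W₂) := by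
  have := hW.2.2.2.2.1
  have : IsCyclic (W₁ × W₂) :=
    (MulEquiv.ofBijective (prodHom (snc_comm hW))
      (prodHom_bijective (snc_disj hW) (snc_comm hW))).isCyclic.mpr inferInstance
  exact coprime_card_of_isCyclic_prod W₁ W₂

theorem snc_card [Finite G] : Nat.card ↥(W₁ ⊔ W₂) = Nat.card W₁ * Nat.card W₂ := by
  rw [← Nat.card_prod]
  exact (Nat.card_eq_of_bijective _ (prodHom_bijective (snc_disj hW) (snc_comm hW))).symm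

theorem indFun_apply_of_mem [Fintype G] {f : ↥(W₁ ⊔ W₂) → ℂ}
    (hf : ∀ w : ↥(W₁ ⊔ W₂), (w : G) ∈ W₁ ∨ (w : G) ∈ W₂ → f w = 0) (v : ↥(W₁ ⊔ W₂))
    (h1 : (v : G) ∉ W₁) (h2 : (v : G) ∉ W₂) : indFun (W₁ ⊔ W₂) f v = f v := by
  classical
  have hin : ∀ x : G, extendByZero (W₁ ⊔ W₂) f (x⁻¹ * v * x) =
      if x ∈ W₁ ⊔ W₂ then f v else 0 := by
    intro x
    split_ifs with hx
    · have hm := (W₁ ⊔ W₂).mul_mem ((W₁ ⊔ W₂).mul_mem ((W₁ ⊔ W₂).inv_mem hx) v.2) hx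
      rw [extendByZero_mem _ f hm,
        show (⟨_, hm⟩ : ↥(W₁ ⊔ W₂)) = (⟨x, hx⟩ : ↥(W₁ ⊔ W₂))⁻¹ * v * ⟨x, hx⟩ from rfl,
        mul_assoc, snc_mul_comm hW v, inv_mul_cancel_left]
    · by_cases hm : x⁻¹ * (v : G) * x ∈ W₁ ⊔ W₂
      · rw [extendByZero_mem _ f hm]
        refine hf _ ?_
        by_contra hc
        push Not at hc
        exact hx (snc_ti hW v.2 h1 h2 hm hc.1 hc.2)
      · exact extendByZero_not_mem _ f hm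
  rw [indFun, Finset.sum_congr rfl fun x _ => hin x, ← Finset.sum_filter, Finset.sum_const,
    nsmul_eq_mul, ← Fintype.card_subtype, ← Nat.card_eq_fintype_card, ← mul_assoc,
    inv_mul_cancel₀ (by exact_mod_cast Nat.card_pos.ne'), one_mul]

theorem classInner_ind_ind [Fintype G] [Fintype ↥(W₁ ⊔ W₂)] {f f' : ↥(W₁ ⊔ W₂) → ℂ}
    (hf : ∀ w : ↥(W₁ ⊔ W₂), (w : G) ∈ W₁ ∨ (w : G) ∈ W₂ → f w = 0)
    (hf' : ∀ w : ↥(W₁ ⊔ W₂), (w : G) ∈ W₁ ∨ (w : G) ∈ W₂ → f' w = 0) :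
    classInner (indFun (W₁ ⊔ W₂) f) (indFun (W₁ ⊔ W₂) f') = classInner f f' := by
  rw [classInner_indFun _ _ _ (isClassFunction_indFun _ _)]
  simp only [classInner]
  congr 1
  refine Finset.sum_congr rfl fun w _ => ?_
  by_cases h : (w : G) ∈ W₁ ∨ (w : G) ∈ W₂
  · rw [hf w h, zero_mul, zero_mul]
  · push Not at h
    rw [indFun_apply_of_mem hW hf' w h.1 h.2]

/-- A function orthogonal to all `(1 - φ)(1 - ψ)` vanishes outside the two factors. -/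
theorem vanish_of_perp_alpha [Finite G] [Fintype ↥(W₁ ⊔ W₂)] (f : ↥(W₁ ⊔ W₂) → ℂ)
    (h : ∀ φ ψ : ↥(W₁ ⊔ W₂) →* ℂˣ, φ ≠ 1 → ψ ≠ 1 → φ ∈ trivOn _ W₂ → ψ ∈ trivOn _ W₁ →
      classInner f (alphaFun W₁ W₂ φ ψ) = 0)
    (v : ↥(W₁ ⊔ W₂)) (h1 : (v : G) ∉ W₁) (h2 : (v : G) ∉ W₂) : f v = 0 := by
  classical
  have := finite_dual (K := ↥(W₁ ⊔ W₂))
  have := Fintype.ofFinite (↥(W₁ ⊔ W₂) →* ℂˣ)
  have := Fintype.ofFinite (IrrCharacter ↥(W₁ ⊔ W₂))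
  let a : (↥(W₁ ⊔ W₂) →* ℂˣ) → ℂ := fun ω => classInner f (lc ω)
  have rule : ∀ φ ∈ trivOn _ W₂, ∀ ψ ∈ trivOn _ W₁, a (φ * ψ) = a φ + a ψ - a 1 := by
    intro φ hφ ψ hψ
    rcases eq_or_ne φ 1 with rfl | hφ1
    · rw [show (1 : ↥(W₁ ⊔ W₂) →* ℂˣ) * ψ = ψ from one_mul ψ]; ring
    rcases eq_or_ne ψ 1 with rfl | hψ1
    · rw [show φ * (1 : ↥(W₁ ⊔ W₂) →* ℂˣ) = φ from mul_one φ]; ring
    have h' := h φ ψ hφ1 hψ1 hφ hψ
    rw [classInner_alphaFun] at h'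
    linear_combination h'
  let e : (↥(W₁ ⊔ W₂) →* ℂˣ) ≃ IrrCharacter ↥(W₁ ⊔ W₂) :=
    linearCharEquiv.trans (Equiv.subtypeUnivEquiv (degree_one_of_comm (snc_mul_comm hW)))
  have hexp : f v = ∑ ω : ↥(W₁ ⊔ W₂) →* ℂˣ, a ω * (ω v : ℂ) := by
    have := congrFun (classFun_expand (snc_isClassFunction hW f)) v
    rw [this, Finset.sum_apply]
    exact (Fintype.sum_equiv e _ _ fun ω => rfl).symm
  have hbij : Function.Bijective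
      (fun p : trivOn (W₁ ⊔ W₂) W₂ × trivOn (W₁ ⊔ W₂) W₁ => (p.1 : ↥(W₁ ⊔ W₂) →* ℂˣ) * p.2) := by
    refine ⟨fun p q e => ?_, fun ω => ?_⟩
    · obtain ⟨e1, e2⟩ := trivOn_mul_inj (snc_disj hW) (snc_comm hW) p.1.2 q.1.2 p.2.2 q.2.2 e
      exact Prod.ext (Subtype.ext e1) (Subtype.ext e2)
    · obtain ⟨φ, hφ, ψ, hψ, e⟩ := exists_trivOn_mul (snc_disj hW) (snc_comm hW) ω
      exact ⟨(⟨φ, hφ⟩, ⟨ψ, hψ⟩), e⟩
  rw [hexp, ← Fintype.sum_bijective _ hbij _ _ fun p => rfl, Fintype.sum_prod_type]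
  have hs1 := sum_trivOn_snd (snc_disj hW) (snc_comm hW) (snc_mul_comm_fst hW) h2
  have hs2 := trivOn_swap_sum (snc_disj hW) (snc_comm hW) (snc_mul_comm_snd hW) h1
  have hterm : ∀ (φ : trivOn (W₁ ⊔ W₂) W₂) (ψ : trivOn (W₁ ⊔ W₂) W₁),
      a (↑φ * ↑ψ) * (((φ : ↥(W₁ ⊔ W₂) →* ℂˣ) * ↑ψ) v : ℂ) =
        (a φ - a 1) * ((φ : ↥(W₁ ⊔ W₂) →* ℂˣ) v : ℂ) * ((ψ : ↥(W₁ ⊔ W₂) →* ℂˣ) v : ℂ) +
          ((φ : ↥(W₁ ⊔ W₂) →* ℂˣ) v : ℂ) * (a ψ * ((ψ : ↥(W₁ ⊔ W₂) →* ℂˣ) v : ℂ)) := by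
    intro φ ψ
    rw [rule _ φ.2 _ ψ.2, MonoidHom.mul_apply, Units.val_mul]
    ring
  simp only [hterm, Finset.sum_add_distrib, ← Finset.mul_sum, ← Finset.sum_mul, hs1, hs2,
    mul_zero, zero_mul, add_zero, Finset.sum_const_zero]

theorem eq_on_of_induced [Fintype G] {χ : (↥(W₁ ⊔ W₂) →* ℂˣ) → (G → ℂ)}
    (hcf : ∀ ω, IsClassFunction G (χ ω)) (hone : χ 1 = fun _ => 1)
    [DecidableEq (↥(W₁ ⊔ W₂) →* ℂˣ)]
    (horth : ∀ ω ω', classInner (χ ω) (χ ω') = if ω = ω' then 1 else 0)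
    (hind : ∀ φ ψ : ↥(W₁ ⊔ W₂) →* ℂˣ, φ ≠ 1 → ψ ≠ 1 → φ ∈ trivOn _ W₂ → ψ ∈ trivOn _ W₁ →
      indFun (W₁ ⊔ W₂) (alphaFun W₁ W₂ φ ψ) = fun g => 1 - χ φ g - χ ψ g + χ (φ * ψ) g)
    (ω : ↥(W₁ ⊔ W₂) →* ℂˣ) (v : ↥(W₁ ⊔ W₂)) (h1 : (v : G) ∉ W₁) (h2 : (v : G) ∉ W₂) :
    χ ω v = (ω v : ℂ) := by
  classical
  let _ : Fintype ↥(W₁ ⊔ W₂) := Fintype.ofFinite _
  refine sub_eq_zero.mp (vanish_of_perp_alpha hW ((fun w : ↥(W₁ ⊔ W₂) => χ ω w) - lc ω) ?_ v h1 h2)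
  intro φ ψ hφ1 hψ1 hφ hψ
  have e : (fun g => 1 - χ φ g - χ ψ g + χ (φ * ψ) g) = χ 1 - χ φ - χ ψ + χ (φ * ψ) := by
    funext g; simp [hone]
  rw [classInner_sub_left, ← classInner_indFun_right (W₁ ⊔ W₂) _ _ (hcf ω), hind φ ψ hφ1 hψ1 hφ hψ,
    e, classInner_alphaFun]
  simp only [classInner_add_right, classInner_sub_right, horth, classInner_lc]
  ring

/-- The rectangle rule for coefficients. -/
theorem coeff_rule [Fintype G] {χ : (↥(W₁ ⊔ W₂) →* ℂˣ) → (G → ℂ)}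
    (hχ : IsCyclicTIFamily W₁ W₂ χ) {θ : G → ℂ} (hθ : IsClassFunction G θ)
    (hθV : ∀ w : ↥(W₁ ⊔ W₂), (w : G) ∉ W₁ → (w : G) ∉ W₂ → θ w = 0)
    {φ ψ : ↥(W₁ ⊔ W₂) →* ℂˣ} (hφ : φ ∈ trivOn _ W₂) (hψ : ψ ∈ trivOn _ W₁) :
    classInner θ (χ (φ * ψ)) =
      classInner θ (χ φ) + classInner θ (χ ψ) - classInner θ (χ 1) := by
  rcases eq_or_ne φ 1 with rfl | hφ1
  · rw [show (1 : ↥(W₁ ⊔ W₂) →* ℂˣ) * ψ = ψ from one_mul ψ]; ring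
  rcases eq_or_ne ψ 1 with rfl | hψ1
  · rw [show φ * (1 : ↥(W₁ ⊔ W₂) →* ℂˣ) = φ from mul_one φ]; ring
  let _ : Fintype ↥(W₁ ⊔ W₂) := Fintype.ofFinite _
  have e : (fun g => 1 - χ φ g - χ ψ g + χ (φ * ψ) g) = χ 1 - χ φ - χ ψ + χ (φ * ψ) := by
    funext g; simp [hχ.map_one]
  have h := classInner_alphaFun_of_vanish (f := fun w : ↥(W₁ ⊔ W₂) => θ w) hθV hφ hψ
  rw [← classInner_indFun_right _ _ _ hθ] at h
  unfold alphaFun at h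
  rw [hχ.induced_eq φ ψ hφ1 hψ1 hφ hψ, e] at h
  simp only [classInner_add_right, classInner_sub_right] at h
  linear_combination h

end SNC

end CfsgLib.Char
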