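import Mathlib

/-!
# Modular dimensions for a cyclic TI Sylow subgroup

The relative trace from the normalizer of an operator `ν ^ (p - 1) * unit` is a scalar intertwiner,
and the difference lies in the image of the trace from the Sylow subgroup, whose range sits inside
the range of `ν ^ (q - d)`.
-/

set_option autoImplicit false
set_option linter.unusedSectionVars false
set_option linter.style.haveILetI false

namespace CfsgLib.Char.CyclicTIModular

universe u v w

section Algebra

variable {F : Type u} [Field F] {p : ℕ} [Fact p.Prime] [CharP F p]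

/-- The telescoped sum is unchanged under the shift by one. -/
theorem sum_shift (n : ℕ) :
    ∑ i ∈ Finset.range (p ^ n), (1 + MvPolynomial.X 0 : MvPolynomial (Fin 2) F) ^ i *
        (1 + MvPolynomial.X 1) ^ (p ^ n - 1 - i) =
      ∑ i ∈ Finset.range (p ^ n), (MvPolynomial.X 0 : MvPolynomial (Fin 2) F) ^ i *
        MvPolynomial.X 1 ^ (p ^ n - 1 - i) := by
  have h0 : (MvPolynomial.X 0 - MvPolynomial.X 1 : MvPolynomial (Fin 2) F) ≠ 0 :=
    sub_ne_zero.mpr fun h => absurd (MvPolynomial.X_injective h) (by decide)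
  refine mul_right_cancel₀ h0 ?_
  have h1 := geom_sum₂_mul (1 + MvPolynomial.X 0 : MvPolynomial (Fin 2) F) (1 + MvPolynomial.X 1) (p ^ n)
  rw [add_sub_add_left_eq_sub, add_pow_char_pow, add_pow_char_pow, one_pow, add_sub_add_left_eq_sub] at h1
  rw [h1, geom_sum₂_mul]

variable {V : Type v} [AddCommGroup V] [Module F V]

/-- Conjugation sums by a unipotent element, through the nilpotent part. -/
theorem sum_conj_shift (n : ℕ) (ν f : Module.End F V) :
    ∑ i ∈ Finset.range (p ^ n), (1 + ν) ^ i * f * (1 + ν) ^ (p ^ n - 1 - i) =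
      ∑ i ∈ Finset.range (p ^ n), ν ^ i * f * ν ^ (p ^ n - 1 - i) := by
  set L : Module.End F (Module.End F V) := LinearMap.mulLeft F ν with hL
  set R : Module.End F (Module.End F V) := LinearMap.mulRight F ν with hR
  have hcomm : L * R = R * L := LinearMap.ext fun g => (mul_assoc ν g ν).symm
  letI : CommRing (Algebra.adjoin F ({L, R} : Set (Module.End F (Module.End F V)))) :=
    Algebra.adjoinCommRingOfComm F (by
      intro a ha b hb
      simp only [Set.mem_insert_iff, Set.mem_singleton_iff] at ha hb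
      rcases ha with rfl | rfl <;> rcases hb with rfl | rfl
      · rfl
      · exact hcomm
      · exact hcomm.symm
      · rfl)
  let g : Fin 2 → Algebra.adjoin F ({L, R} : Set (Module.End F (Module.End F V))) := ![⟨L, Algebra.subset_adjoin (Or.inl rfl)⟩, ⟨R, Algebra.subset_adjoin (Or.inr rfl)⟩]
  have h := congrArg (fun P => (Algebra.adjoin F ({L, R} : Set (Module.End F (Module.End F V)))).val (MvPolynomial.aeval g P)) (sum_shift (F := F) (p := p) n)
  simp only [map_sum, map_mul, map_pow, map_add, map_one, MvPolynomial.aeval_X] at h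
  rw [show (Algebra.adjoin F ({L, R} : Set (Module.End F (Module.End F V)))).val (g 0) = L from rfl,
    show (Algebra.adjoin F ({L, R} : Set (Module.End F (Module.End F V)))).val (g 1) = R from rfl] at h
  have h1L : (1 + L) = LinearMap.mulLeft F (1 + ν) := LinearMap.ext fun x => by
    simp [hL, add_mul]
  have h1R : (1 + R) = LinearMap.mulRight F (1 + ν) := LinearMap.ext fun x => by
    simp [hR, mul_add]
  rw [h1L, h1R] at h
  have h2 := LinearMap.congr_fun h f
  simp only [LinearMap.coe_sum, Finset.sum_apply, Module.End.mul_apply, hL, hR,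
    LinearMap.pow_mulLeft, LinearMap.pow_mulRight, LinearMap.mulLeft_apply, LinearMap.mulRight_apply,
    ← mul_assoc] at h2
  exact h2

/-- The range of a sum through the nilpotent part. -/
theorem range_sum_le (q d : ℕ) (ν f : Module.End F V) (hd : ν ^ d = 0) :
    LinearMap.range (∑ i ∈ Finset.range q, ν ^ i * f * ν ^ (q - 1 - i)) ≤
      LinearMap.range (ν ^ (q - d)) := by
  rintro _ ⟨v, rfl⟩
  rw [LinearMap.sum_apply]
  refine Submodule.sum_mem _ fun i hi => ?_
  rw [Finset.mem_range] at hi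
  rcases Nat.lt_or_ge (q - 1 - i) d with h | h
  · have h1 : q - d + (i - (q - d)) = i := by omega
    exact ⟨(ν ^ (i - (q - d)) * f * ν ^ (q - 1 - i)) v, by
      rw [← Module.End.mul_apply, ← mul_assoc, ← mul_assoc, ← pow_add, h1]⟩
  · obtain ⟨k, hk⟩ := Nat.exists_eq_add_of_le h
    rw [hk, pow_add, hd, zero_mul, mul_zero, LinearMap.zero_apply]
    exact Submodule.zero_mem _

/-- A nilpotent range chain stops only at zero. -/
theorem pow_eq_zero_of_range_le {ν : Module.End F V} {a d : ℕ} (hd : ν ^ d = 0)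
    (h : LinearMap.range (ν ^ a) ≤ LinearMap.range (ν ^ (a + 1))) : ν ^ a = 0 := by
  have key : ∀ k, LinearMap.range (ν ^ a) ≤ LinearMap.range (ν ^ (a + k)) := by
    intro k
    induction k with
    | zero => exact le_rfl
    | succ k ih =>
      refine ih.trans ?_
      rintro _ ⟨w, rfl⟩
      obtain ⟨w', hw'⟩ := h ⟨w, rfl⟩
      refine ⟨w', ?_⟩
      rw [show a + (k + 1) = k + (a + 1) by omega, pow_add, Module.End.mul_apply, hw',
        ← Module.End.mul_apply, ← pow_add, add_comm a k]
  refine LinearMap.range_eq_bot.mp (eq_bot_iff.mpr ((key d).trans ?_))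
  rw [pow_add, hd, mul_zero, LinearMap.range_zero]

end Algebra

variable {p : ℕ} [Fact p.Prime] {G : Type u} [Group G] [Finite G] {F : Type v} [Field F] [CharP F p]
  {V : Type w} [AddCommGroup V] [Module F V] [FiniteDimensional F V]

open Polynomial in
/-- The operator attached to a set of generators stable under the normalizer. -/
theorem exists_operator {n : ℕ} (hn : n ≠ 0) (ρ : Representation F G V) (x : G) (O : Finset G)
    (hO : ∀ y ∈ O, ∃ a : ℕ, ¬ p ∣ a ∧ y = x ^ a) (hcard : ¬ p ∣ O.card) {ν : Module.End F V}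
    (hν : ν = ρ x - 1) (hnil : ν ^ p ^ n = 0) :
    ∃ U : Module.End F V, IsUnit U ∧ Commute ν U ∧
      ∑ y ∈ O, (ρ y - 1) ^ (p - 1) = ν ^ (p - 1) * U := by
  classical
  choose! a ha hxa using hO
  let Q : G → F[X] := fun y => ∑ i ∈ Finset.range (a y), (1 + X) ^ i
  let Pol : F[X] := ∑ y ∈ O, Q y ^ (p - 1)
  refine ⟨aeval ν Pol, ?_, ?_, ?_⟩
  · have h0 : Pol.eval 0 = (O.card : F) := by
      simp only [Pol, Q, eval_finsetSum, eval_pow, eval_add, eval_one, eval_X, add_zero, one_pow,
        Finset.sum_const, Finset.card_range, nsmul_eq_mul, mul_one]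
      rw [Finset.sum_congr rfl (g := fun _ => (1 : F)) fun y hy => ?_, Finset.sum_const, nsmul_eq_mul, mul_one]
      have hz : ((a y : ZMod p)) ^ (p - 1) = 1 :=
        ZMod.pow_card_sub_one_eq_one fun h => ha y hy ((ZMod.natCast_eq_zero_iff _ _).mp h)
      have h1 := congrArg (ZMod.castHom (dvd_refl p) F) hz
      rwa [map_pow, map_one, map_natCast] at h1
    obtain ⟨R, hR⟩ : X ∣ Pol - C (Pol.eval 0) := by
      rw [X_dvd_iff, coeff_sub, coeff_C_zero, coeff_zero_eq_eval_zero, sub_self]
    have hPol : Pol = C (Pol.eval 0) + X * R := by rw [← hR]; ring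
    rw [hPol, map_add, map_mul, aeval_X, aeval_C, h0]
    refine IsNilpotent.isUnit_add_left_of_commute ?_ ((isUnit_iff_ne_zero.mpr fun h =>
      hcard ((CharP.cast_eq_zero_iff F p _).mp h)).map _) (Algebra.commutes _ _).symm
    refine Commute.isNilpotent_mul_right ?_ ⟨_, hnil⟩
    conv_lhs => rw [← aeval_X (R := F) ν]
    exact (Commute.all X R).map (aeval ν)
  · conv_lhs => rw [← aeval_X (R := F) ν]
    exact (Commute.all X Pol).map (aeval ν)
  · have hy : ∀ y ∈ O, (ρ y - 1) ^ (p - 1) = aeval ν (X ^ (p - 1) * Q y ^ (p - 1)) := by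
      intro y hy
      rw [← mul_pow, map_pow]
      congr 1
      have h1 : Q y * ((1 + X) - 1) = (1 + X : F[X]) ^ a y - 1 := geom_sum_mul (1 + X) (a y)
      rw [add_sub_cancel_left] at h1
      rw [mul_comm, h1, map_sub, map_pow, map_add, map_one, aeval_X, hν, add_sub_cancel, ← map_pow,
        ← hxa y hy]
    rw [Finset.sum_congr rfl hy, ← map_sum, ← Finset.mul_sum, map_mul, map_pow, aeval_X]

/-- The dimension bound. -/
theorem dim_bound (P : Sylow p G) (hcyc : IsCyclic P) (n : ℕ) (hn : 2 ≤ n) (hPn : Nat.card P = p ^ n)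
    (hTI : ∀ Q : Sylow p G, Q ≠ P → (P : Subgroup G) ⊓ (Q : Subgroup G) = ⊥)
    (ρ : Representation F G V) (hfaith : Function.Injective ρ) (hirr : ρ.IsIrreducible) :
    p ^ n - (p - 1) ≤ Module.finrank F V := by
  classical
  haveI := Fintype.ofFinite G
  have hp : p.Prime := Fact.out
  by_contra hlt
  push Not at hlt
  set d := Module.finrank F V with hd
  obtain ⟨⟨x, hx⟩, hgen⟩ := hcyc.exists_generator
  have hord : orderOf x = p ^ n := by
    rw [← hPn, ← Subgroup.orderOf_mk x hx]
    exact orderOf_eq_card_of_forall_mem_zpowers hgen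
  have hmem : ∀ y ∈ (P : Subgroup G), ∃ a : ℕ, y = x ^ a := fun y hy => by
    obtain ⟨a, ha⟩ := (mem_powers_iff_mem_zpowers).mpr (hgen ⟨y, hy⟩)
    exact ⟨a, (congrArg Subtype.val ha).symm⟩
  -- the orbit of the generator under the normalizer
  set N : Subgroup G := Subgroup.normalizer ((P : Subgroup G) : Set G) with hN
  letI : MulAction N G := MulAction.compHom G (ConjAct.toConjAct.toMonoidHom.comp N.subtype)
  have hsmul : ∀ (m : N) (y : G), m • y = (m : G) * y * (m : G)⁻¹ := fun m y => by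
    show ConjAct.toConjAct (m : G) • y = _
    rw [ConjAct.toConjAct_smul]
  set O : Finset G := (MulAction.orbit N x).toFinset with hO
  have hOP : ∀ y ∈ O, ∃ a : ℕ, ¬ p ∣ a ∧ y = x ^ a := by
    intro y hy
    rw [hO, Set.mem_toFinset] at hy
    obtain ⟨m, rfl⟩ := hy
    show ∃ a : ℕ, ¬ p ∣ a ∧ m • x = x ^ a
    obtain ⟨a, ha⟩ := hmem (m • x) (by rw [hsmul]; exact (Subgroup.mem_normalizer_iff.mp m.2 x).mp hx)
    refine ⟨a, fun hpa => ?_, ha⟩
    have h1 : orderOf (m • x) = p ^ n := by
      rw [hsmul, ← hord]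
      exact ((SemiconjBy.conj_mk (m : G) x).orderOf_eq _).symm
    have h2 : orderOf (x ^ a) ∣ p ^ (n - 1) := by
      refine orderOf_dvd_of_pow_eq_one ?_
      rw [← pow_mul, ← orderOf_dvd_iff_pow_eq_one, hord]
      obtain ⟨k, rfl⟩ := hpa
      exact ⟨k, by rw [mul_right_comm, ← pow_succ', Nat.sub_add_cancel (by omega : 1 ≤ n)]⟩
    rw [← ha, h1, Nat.pow_dvd_pow_iff_le_right hp.one_lt] at h2
    omega
  have hOcard : ¬ p ∣ O.card := by
    intro hdvd
    have hi := MulAction.index_stabilizer N x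
    rw [Set.ncard_eq_toFinset_card' (MulAction.orbit N x), ← hO] at hi
    set S := MulAction.stabilizer N x
    have hle : (P : Subgroup G).subgroupOf N ≤ S := by
      intro m hm
      rw [MulAction.mem_stabilizer_iff, hsmul]
      obtain ⟨a, ha⟩ := hmem _ (Subgroup.mem_subgroupOf.mp hm)
      rw [ha, (Commute.pow_self x a).eq, mul_inv_cancel_right]
    have h1 : p ^ n ∣ Nat.card S := by
      rw [← hPn, ← Nat.card_congr (Subgroup.subgroupOfEquivOfLe
        (Subgroup.le_normalizer (H := (P : Subgroup G)))).toEquiv]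
      exact Subgroup.card_dvd_of_le hle
    have h2 : p ^ (n + 1) ∣ Nat.card N := by
      rw [← S.card_mul_index, pow_succ, hi]
      exact mul_dvd_mul h1 hdvd
    have h3 := h2.trans (Subgroup.card_subgroup_dvd_card N)
    rw [hp.pow_dvd_iff_le_factorization Nat.card_pos.ne'] at h3
    have h4 : p ^ n = p ^ (Nat.card G).factorization p := hPn.symm.trans P.card_eq_multiplicity
    have := Nat.pow_right_injective hp.two_le h4
    omega
  -- the nilpotent part
  haveI : CharP (Module.End F V) p ∨ Subsingleton V := by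
    rcases subsingleton_or_nontrivial V with h | h
    · exact Or.inr h
    · exact Or.inl (charP_of_injective_algebraMap (FaithfulSMul.algebraMap_injective F (Module.End F V)) p)
  rcases this with hchar | hsub
  swap
  · exact absurd (hfaith (LinearMap.ext fun v => Subsingleton.elim _ _) : x = 1) fun h => by
      rw [h, orderOf_one] at hord
      exact (Nat.one_lt_pow (by omega) hp.one_lt).ne hord
  haveI := hchar
  set ν : Module.End F V := ρ x - 1 with hν
  have hX : ρ x = 1 + ν := by rw [hν, add_sub_cancel]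
  have hXq : ρ x ^ p ^ n = 1 := by rw [← map_pow, ← hord, pow_orderOf_eq_one, map_one]
  have hnq : ν ^ p ^ n = 0 := by
    rw [hν, sub_pow_char_pow_of_commute _ _ (Commute.one_right _), one_pow, hXq, sub_self]
  have hnd : ν ^ d = 0 := by
    have h := IsNilpotent.charpoly_eq_X_pow_finrank (φ := ν) ⟨_, hnq⟩
    have h2 := LinearMap.aeval_self_charpoly ν
    rwa [h, map_pow, Polynomial.aeval_X] at h2
  obtain ⟨U, hU, hνU, hz⟩ := exists_operator (p := p) (n := n) (by omega) ρ x O hOP hOcard hν hnq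
  set z : Module.End F V := ∑ y ∈ O, (ρ y - 1) ^ (p - 1) with hzd
  have hconj : ∀ (g : G) (A : Module.End F V) (k : ℕ), ρ g * A ^ k * ρ g⁻¹ = (ρ g * A * ρ g⁻¹) ^ k := by
    intro g A k
    induction k with
    | zero => simp [← map_mul]
    | succ k ih =>
      rw [pow_succ, pow_succ, ← ih]
      simp only [mul_assoc]
      rw [← mul_assoc (ρ g⁻¹) (ρ g), ← map_mul, inv_mul_cancel, map_one, one_mul]
  have hzN : ∀ g ∈ N, ρ g * z * ρ g⁻¹ = z := by
    intro g hg
    rw [hzd, Finset.mul_sum, Finset.sum_mul]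
    refine Finset.sum_bij' (fun y _ => (⟨g, hg⟩ : N) • y) (fun y _ => (⟨g, hg⟩ : N)⁻¹ • y)
      (fun y hy => ?_) (fun y hy => ?_) (fun y _ => inv_smul_smul _ _) (fun y _ => smul_inv_smul _ _)
      fun y _ => ?_
    · rw [hO, Set.mem_toFinset] at hy ⊢
      exact MulAction.mem_orbit_of_mem_orbit _ hy
    · rw [hO, Set.mem_toFinset] at hy ⊢
      exact MulAction.mem_orbit_of_mem_orbit _ hy
    · rw [hconj, hsmul, map_mul, map_mul, mul_sub, sub_mul, mul_one, ← map_mul ρ g g⁻¹, mul_inv_cancel,
        map_one]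
  -- the trace from the normalizer
  let T : G ⧸ N → Module.End F V := Quotient.lift (fun g => ρ g * z * ρ g⁻¹) fun a b hab => by
    replace hab : a⁻¹ * b ∈ N := QuotientGroup.leftRel_apply.mp hab
    obtain ⟨m, hm, rfl⟩ : ∃ m ∈ N, b = a * m := ⟨_, hab, by group⟩
    rw [map_mul, mul_inv_rev, map_mul]
    rw [show ρ a * ρ m * z * (ρ m⁻¹ * ρ a⁻¹) = ρ a * (ρ m * z * ρ m⁻¹) * ρ a⁻¹ by simp only [mul_assoc],
      hzN _ hm]
  have hT : ∀ (h : G) (ω : G ⧸ N), T (h • ω) = ρ h * T ω * ρ h⁻¹ := by
    intro h ω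
    induction ω using Quotient.inductionOn with
    | h g =>
      show ρ (h * g) * z * ρ (h * g)⁻¹ = ρ h * (ρ g * z * ρ g⁻¹) * ρ h⁻¹
      simp only [mul_inv_rev, map_mul, mul_assoc]
  haveI := Fintype.ofFinite (G ⧸ N)
  set c : Module.End F V := ∑ ω, T ω with hc
  have hcomm : ∀ h : G, ρ h * c = c * ρ h := by
    intro h
    have h1 : ρ h * c * ρ h⁻¹ = c := by
      rw [hc, Finset.mul_sum, Finset.sum_mul]
      exact Fintype.sum_equiv (MulAction.toPerm h) _ _ fun ω => (hT h ω).symm
    conv_rhs => rw [← h1, mul_assoc, ← map_mul, inv_mul_cancel, map_one, mul_one]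
  -- the trace from the Sylow subgroup
  let B : SubMulAction (P : Subgroup G) (G ⧸ N) :=
    { carrier := {ω | ω ≠ ((1 : G) : G ⧸ N)}
      smul_mem' := fun t ω hω h => hω (by
        have h' : (t : G) • ω = ((1 : G) : G ⧸ N) := h
        rw [← inv_smul_smul (t : G) ω, h', MulAction.Quotient.smul_mk, smul_eq_mul, mul_one]
        exact QuotientGroup.eq.mpr (by simpa [hN] using Subgroup.le_normalizer t.2)) }
  set xP : (P : Subgroup G) := ⟨x, hx⟩
  have hfree : ∀ (b : B) (t : (P : Subgroup G)), t • b = b → t = 1 := by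
    rintro ⟨ω, hω⟩ t ht
    obtain ⟨g, rfl⟩ := QuotientGroup.mk_surjective ω
    have hg : g ∉ N := fun hg => hω (QuotientGroup.eq.mpr (by simpa using hg))
    have ht' : (t : G) • ((g : G) : G ⧸ N) = g := congrArg Subtype.val ht
    rw [MulAction.Quotient.smul_mk, smul_eq_mul, QuotientGroup.eq] at ht'
    set y : G := g⁻¹ * ((t : G))⁻¹ * g with hy
    have hyN : y ∈ N := by simpa [hy, mul_assoc] using ht'
    have hyp : IsPGroup p (Subgroup.zpowers y) := by
      obtain ⟨j, hj⟩ := (IsPGroup.iff_orderOf.mp P.isPGroup') t⁻¹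
      refine IsPGroup.of_card (n := j) ?_
      rw [Nat.card_zpowers, ← hj, ← Subgroup.orderOf_coe, Subgroup.coe_inv]
      exact (show SemiconjBy g y ((t : G)⁻¹) from by
        rw [SemiconjBy, hy]; group).orderOf_eq _
    have hyP : y ∈ (P : Subgroup G) := by
      have hs := hyp.to_sup_of_normal_right' P.isPGroup' (Subgroup.zpowers_le.mpr hyN)
      rw [← P.is_maximal' hs le_sup_right]
      exact Subgroup.mem_sup_left (Subgroup.mem_zpowers y)
    have hne : g • P ≠ P := fun h => hg (Sylow.smul_eq_iff_mem_normalizer.mp h)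
    have hm : ((t : G))⁻¹ ∈ ((g • P : Sylow p G) : Subgroup G) := by
      rw [Sylow.coe_subgroup_smul, Subgroup.mem_pointwise_smul_iff_inv_smul_mem]
      simpa [MulAut.smul_def, hy, mul_assoc] using hyP
    have h0 : ((t : G))⁻¹ ∈ (⊥ : Subgroup G) := (hTI _ hne).le ⟨(P : Subgroup G).inv_mem t.2, hm⟩
    exact Subtype.ext (inv_eq_one.mp (Subgroup.mem_bot.mp h0))
  let Ω := MulAction.orbitRel.Quotient (P : Subgroup G) B
  haveI := Fintype.ofFinite Ω
  haveI := Fintype.ofFinite B
  have hxPord : orderOf xP = p ^ n := by rw [← hord, ← Subgroup.orderOf_coe]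
  let e : Ω × Fin (p ^ n) → B := fun w => xP ^ (w.2 : ℕ) • (w.1.out : B)
  have he : Function.Bijective e := by
    constructor
    · rintro ⟨o, i⟩ ⟨o', i'⟩ h
      simp only [e] at h
      have ho : o = o' := by
        rw [← Quotient.out_eq o, ← Quotient.out_eq o']
        refine Quotient.sound ?_
        refine ⟨(xP ^ (i : ℕ))⁻¹ * xP ^ (i' : ℕ), ?_⟩
        show ((xP ^ (i : ℕ))⁻¹ * xP ^ (i' : ℕ)) • o'.out = o.out
        rw [mul_smul, ← h, inv_smul_smul]
      subst ho
      have h1 := hfree o.out ((xP ^ (i : ℕ))⁻¹ * xP ^ (i' : ℕ)) (by rw [mul_smul, ← h, inv_smul_smul])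
      rw [inv_mul_eq_one] at h1
      have h2 : (i : ℕ) ≡ (i' : ℕ) [MOD p ^ n] := by
        have h3 := pow_eq_pow_iff_modEq.mp h1
        rwa [hxPord] at h3
      exact Prod.ext rfl (Fin.ext (Nat.ModEq.eq_of_lt_of_lt h2 i.2 i'.2))
    · intro b
      obtain ⟨t, ht⟩ := Quotient.exact (Quotient.out_eq (⟦b⟧ : Ω)).symm
      obtain ⟨a, ha⟩ := mem_powers_iff_mem_zpowers.mpr (hgen t)
      refine ⟨(⟦b⟧, ⟨a % p ^ n, Nat.mod_lt _ (pow_pos hp.pos n)⟩), ?_⟩
      show xP ^ (a % p ^ n) • (Quotient.out (⟦b⟧ : Ω)) = b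
      rw [← hxPord, pow_mod_orderOf]
      exact (congrArg (· • Quotient.out (⟦b⟧ : Ω)) ha).trans ht
  set f : Module.End F V := ∑ o : Ω, T (o.out : B) with hf
  have hψ : c - z = (∑ i ∈ Finset.range (p ^ n), ρ x ^ i * f * ρ x ^ (p ^ n - 1 - i)) * ρ x := by
    have h1 : c = z + ∑ b : B, T b := by
      rw [hc, ← Finset.add_sum_erase _ _ (Finset.mem_univ ((1 : G) : G ⧸ N))]
      congr 1
      · show ρ 1 * z * ρ 1⁻¹ = z
        simp
      · refine (Finset.sum_subtype (p := fun ω => ω ∈ B) _ (fun ω => ?_) T)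
        simp only [Finset.mem_erase, Finset.mem_univ, and_true]
        rfl
    rw [h1, add_sub_cancel_left, ← Fintype.sum_bijective e he (fun w => T (e w)) (fun b => T b) fun _ => rfl,
      Fintype.sum_prod_type, Finset.sum_comm, Finset.sum_mul, Finset.sum_range]
    refine Fintype.sum_congr _ _ fun i => ?_
    rw [hf, Finset.mul_sum, Finset.sum_mul, Finset.sum_mul]
    refine Fintype.sum_congr _ _ fun o => ?_
    show T ((x ^ (i : ℕ)) • ((o.out : B) : G ⧸ N)) = _
    rw [hT, mul_assoc _ (ρ x ^ (p ^ n - 1 - (i : ℕ))), ← pow_succ, ← map_pow, ← map_pow]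
    congr 2
    refine inv_eq_of_mul_eq_one_right ?_
    rw [← pow_add, show (i : ℕ) + (p ^ n - 1 - i + 1) = p ^ n by omega, ← hord, pow_orderOf_eq_one]
  have hrange : LinearMap.range (c - z) ≤ LinearMap.range (ν ^ p) := by
    rw [hψ, hX, sum_conj_shift n ν f]
    refine (LinearMap.range_comp_le_range _ _).trans ((range_sum_le (p ^ n) d ν f hnd).trans ?_)
    obtain ⟨k, hk⟩ := Nat.exists_eq_add_of_le (show p ≤ p ^ n - d by omega)
    rw [hk, pow_add]
    exact LinearMap.range_comp_le_range _ _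
  have hzr : LinearMap.range z ≤ LinearMap.range (ν ^ (p - 1)) := by
    rw [hz]; exact LinearMap.range_comp_le_range _ _
  have hp1 : p - 1 + 1 = p := Nat.sub_add_cancel hp.one_le
  have hrp : LinearMap.range (ν ^ p) ≤ LinearMap.range (ν ^ (p - 1)) := by
    conv_lhs => rw [← hp1, pow_succ]
    exact LinearMap.range_comp_le_range _ _
  -- the intertwiner vanishes
  have hc0 : c = 0 := by
    by_contra hne
    let K : Subrepresentation ρ := ⟨LinearMap.ker c, fun g v hv => by
      rw [LinearMap.mem_ker] at hv ⊢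
      rw [← Module.End.mul_apply, ← hcomm, Module.End.mul_apply, hv, map_zero]⟩
    haveI := hirr
    rcases IsSimpleOrder.eq_bot_or_eq_top K with h | h
    · have hinj : Function.Injective c := LinearMap.ker_eq_bot.mp (congrArg Subrepresentation.toSubmodule h)
      have hsurj := LinearMap.range_eq_top.mpr (LinearMap.injective_iff_surjective.mp hinj)
      have hle : LinearMap.range c ≤ LinearMap.range (ν ^ (p - 1)) := by
        rintro _ ⟨v, rfl⟩
        have := Submodule.add_mem _ (hrp (hrange ⟨v, rfl⟩)) (hzr ⟨v, rfl⟩)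
        rwa [LinearMap.sub_apply, sub_add_cancel] at this
      rw [hsurj] at hle
      have h0 : ν ^ 0 = 0 := pow_eq_zero_of_range_le hnd (by
        rw [zero_add, pow_one, pow_zero]
        refine le_top.trans (hle.trans ?_)
        obtain ⟨j, hj⟩ := Nat.exists_eq_add_of_le (show 1 ≤ p - 1 by have := hp.two_le; omega)
        rw [hj, pow_add, pow_one]
        exact LinearMap.range_comp_le_range _ _)
      rw [pow_zero] at h0
      exact hne (by rw [← mul_one c, h0, mul_zero])
    · exact hne (LinearMap.ker_eq_top.mp (congrArg Subrepresentation.toSubmodule h))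
  rw [hc0, zero_sub, LinearMap.range_neg, hz] at hrange
  obtain ⟨Ui, hUi⟩ := hU.exists_right_inv
  have h2 : LinearMap.range (ν ^ (p - 1)) ≤ LinearMap.range (ν ^ (p - 1 + 1)) := by
    rw [hp1]
    rintro _ ⟨v, rfl⟩
    exact hrange ⟨Ui v, by rw [← Module.End.mul_apply, mul_assoc, hUi, mul_one]⟩
  have h3 := pow_eq_zero_of_range_le hnd h2
  have h4 : ρ (x ^ p) = ρ 1 := by
    have h5 : ν ^ p = ρ x ^ p - 1 := by
      rw [hν, sub_pow_char_of_commute _ (Commute.one_right _), one_pow]
    rw [← hp1, pow_succ, h3, zero_mul, hp1] at h5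
    rw [map_pow, map_one]
    exact sub_eq_zero.mp h5.symm
  have h6 := orderOf_dvd_of_pow_eq_one (hfaith h4)
  rw [hord] at h6
  have h7 : p ^ n ≤ p ^ 1 := by rw [pow_one]; exact Nat.le_of_dvd hp.pos h6
  have := (Nat.pow_le_pow_iff_right hp.one_lt).mp h7
  omega

end CfsgLib.Char.CyclicTIModular
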