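import Mathlib.NumberTheory.NumberField.Cyclotomic.Basic
import Mathlib.Analysis.Complex.Basic

/-!
# Integral elements and relations among the `p`-th roots of unity
-/

set_option autoImplicit false

namespace CfsgLib.Char.CyclotomicCoeff

open Polynomial

variable {p : ℕ} [hp : Fact p.Prime] {ζ : ℂ}

/-- An algebraic integer in the field of `p`-th roots of unity is an integral combination of
the roots. -/
theorem exists_coeff (hζ : IsPrimitiveRoot ζ p) {z : ℂ} (hmem : z ∈ Algebra.adjoin ℚ ({ζ} : Set ℂ))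
    (hint : IsIntegral ℤ z) : ∃ a : Fin p → ℤ, z = ∑ k, (a k : ℂ) * ζ ^ (k : ℕ) := by
  have : NeZero p := ⟨hp.out.ne_zero⟩
  have : NeZero (p : ℚ) := ⟨Nat.cast_ne_zero.2 hp.out.ne_zero⟩
  have hcyc : IsCyclotomicExtension {p} ℚ (CyclotomicField p ℚ) := by
    convert CyclotomicField.isCyclotomicExtension p ℚ <;> first | rfl | exact Subsingleton.elim _ _
  have hζK := IsCyclotomicExtension.zeta_spec p ℚ (CyclotomicField p ℚ)
  have hirr := cyclotomic.irreducible_rat hp.out.pos
  let e := hζK.embeddingsEquivPrimitiveRoots ℂ hirr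
  let φ : CyclotomicField p ℚ →ₐ[ℚ] ℂ := e.symm ⟨ζ, (mem_primitiveRoots hp.out.pos).2 hζ⟩
  have hφ : φ (IsCyclotomicExtension.zeta p ℚ (CyclotomicField p ℚ)) = ζ := by
    have h := congrArg Subtype.val (e.apply_symm_apply ⟨ζ, (mem_primitiveRoots hp.out.pos).2 hζ⟩)
    exact h
  have hrange : Algebra.adjoin ℚ ({ζ} : Set ℂ) ≤ φ.range :=
    Algebra.adjoin_le (Set.singleton_subset_iff.2 ⟨_, hφ⟩)
  obtain ⟨w, hwz⟩ := hrange hmem
  have hwint : IsIntegral ℤ w := by
    refine (isIntegral_algHom_iff φ.toRingHom.toIntAlgHom φ.toRingHom.injective).1 ?_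
    show IsIntegral ℤ (φ w)
    rw [show φ w = z from hwz]
    exact hint
  have hic := IsCyclotomicExtension.Rat.isIntegralClosure_adjoin_singleton_of_prime (p := p) hζK
  obtain ⟨⟨y, hy⟩, hyw⟩ := hic.isIntegral_iff.1 (by convert hwint <;> first | rfl | exact Subsingleton.elim _ _)
  rw [Algebra.adjoin_singleton_eq_range_aeval] at hy
  obtain ⟨f, hf⟩ := hy
  have hzf : z = aeval ζ f := by
    have h1 : y = w := hyw
    rw [← show φ w = z from hwz, ← h1, ← hf]
    show φ.toRingHom.toIntAlgHom (aeval _ f) = _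
    rw [← aeval_algHom_apply]
    exact congrArg (fun t => aeval t f) hφ
  classical
  refine ⟨fun k => ∑ i ∈ (Finset.range (f.natDegree + 1)).filter (fun i => i % p = k.val), f.coeff i, ?_⟩
  rw [hzf, aeval_eq_sum_range]
  have : ∀ i : ℕ, f.coeff i • ζ ^ i = (f.coeff i : ℂ) * ζ ^ (i % p) := fun i => by
    rw [zsmul_eq_mul, pow_eq_pow_mod i hζ.pow_eq_one]
  simp only [this, Int.cast_sum, Finset.sum_mul]
  rw [← Finset.sum_fiberwise (Finset.range (f.natDegree + 1))
    (fun i => (⟨i % p, Nat.mod_lt _ hp.out.pos⟩ : Fin p))]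
  refine Finset.sum_congr rfl fun k _ => ?_
  refine Finset.sum_congr ?_ fun i hi => ?_
  · ext i
    simp [Fin.ext_iff]
  · rw [(Finset.mem_filter.1 hi).2]

/-- Integral relations among all the `p`-th roots of unity are constant. -/
theorem coeff_const (hζ : IsPrimitiveRoot ζ p) (c : Fin p → ℤ)
    (h : ∑ k, (c k : ℂ) * ζ ^ (k : ℕ) = 0) : ∀ k l, c k = c l := by
  set last : Fin p := ⟨p - 1, Nat.sub_lt hp.out.pos one_pos⟩ with hlast
  have hgeom : ∑ k : Fin p, ζ ^ (k : ℕ) = 0 := by
    rw [Fin.sum_univ_eq_sum_range (fun i => ζ ^ i) p]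
    exact hζ.geom_sum_eq_zero hp.out.one_lt
  have h' : ∑ k : Fin p, ((c k - c last : ℤ) : ℂ) * ζ ^ (k : ℕ) = 0 := by
    simp only [Int.cast_sub, sub_mul, Finset.sum_sub_distrib, h, ← Finset.mul_sum, hgeom,
      mul_zero, sub_zero]
  have hli := linearIndependent_pow (K := ℚ) ζ
  have hdeg : (minpoly ℚ ζ).natDegree = p - 1 := by
    rw [← cyclotomic_eq_minpoly_rat hζ hp.out.pos, natDegree_cyclotomic, Nat.totient_prime hp.out]
  rw [Fintype.linearIndependent_iff] at hli
  have hall : ∀ k, c k = c last := by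
    intro k
    by_cases hk : (k : ℕ) = p - 1
    · exact congrArg c (Fin.ext hk)
    have hlt : (k : ℕ) < (minpoly ℚ ζ).natDegree := by have := k.2; omega
    let emb : Fin (minpoly ℚ ζ).natDegree → Fin p := fun i => ⟨i, by have := i.2; omega⟩
    have hz := hli (fun i => ((c (emb i) - c last : ℤ) : ℚ)) ?_ ⟨k, hlt⟩
    · exact sub_eq_zero.1 (by exact_mod_cast hz)
    rw [← h']
    rw [← Finset.sum_subset (Finset.subset_univ (Finset.univ.image emb)) fun x _ hx => ?_,
      Finset.sum_image fun a _ b _ hab => Fin.ext (by simpa [emb, Fin.ext_iff] using hab)]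
    · exact Finset.sum_congr rfl fun i _ => by rw [Algebra.smul_def, map_intCast]
    have hx' : (x : ℕ) = p - 1 := by
      by_contra hne
      refine hx (Finset.mem_image.2 ⟨⟨x, by have := x.2; omega⟩, Finset.mem_univ _, rfl⟩)
    rw [show x = last from Fin.ext hx', sub_self, Int.cast_zero, zero_mul]
  exact fun k l => (hall k).trans (hall l).symm

end CfsgLib.Char.CyclotomicCoeff
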