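import Cfsg.Prelude.Def_OddOrderChar
import Cfsg.Prelude.Def_OddOrderLocal

/-!
# Elementary consequences of the Dade set-up
-/

set_option autoImplicit false
set_option linter.unusedSectionVars false

namespace CfsgLib.Char

open Cfsg

universe u

variable {G : Type u} [Group G] {A : Set G} {L : Subgroup G} {H : G → Subgroup G}

theorem dade_decomp (hD : DadeHypothesis A L H) {a : G} (ha : a ∈ A) {c : G}
    (hc : c ∈ Subgroup.centralizer ({a} : Set G)) :
    ∃ h ∈ H a, ∃ l ∈ L ⊓ Subgroup.centralizer ({a} : Set G), c = h * l := by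
  have hnorm : L ⊓ Subgroup.centralizer ({a} : Set G) ≤ Subgroup.normalizer (H a : Set G) := by
    intro l hl
    rw [Subgroup.mem_normalizer_iff]
    refine fun u => ⟨fun hu => hD.conj_mem_H a ha l hl.2 u hu, fun hu => ?_⟩
    have h := hD.conj_mem_H a ha l⁻¹ (inv_mem hl.2) _ hu
    group at h
    simpa using h
  rw [← hD.sup_eq a ha, ← SetLike.mem_coe, Subgroup.coe_mul_of_right_le_normalizer_left _ _ hnorm,
    Set.mem_mul] at hc
  obtain ⟨h, hh, l, hl, rfl⟩ := hc
  exact ⟨h, hh, l, hl, rfl⟩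

theorem dade_mem_of_coprime (hD : DadeHypothesis A L H) {a : G} (ha : a ∈ A) {u : G}
    (hu : u ∈ Subgroup.centralizer ({a} : Set G)) {n : ℕ} (hun : u ^ n = 1)
    (hn : Nat.Coprime n (Nat.card ↥(L ⊓ Subgroup.centralizer ({a} : Set G)))) : u ∈ H a := by
  obtain ⟨h, hh, l, hl, rfl⟩ := dade_decomp hD ha hu
  have hpow : ∀ k : ℕ, ∃ h' ∈ H a, (h * l) ^ k = h' * l ^ k := by
    intro k
    induction k with
    | zero => exact ⟨1, (H a).one_mem, by simp⟩
    | succ k ih =>
      obtain ⟨h', hh', he⟩ := ih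
      refine ⟨h * (l * h' * l⁻¹), (H a).mul_mem hh (hD.conj_mem_H a ha l hl.2 h' hh'), ?_⟩
      rw [pow_succ', he, pow_succ' l]
      group
  obtain ⟨h', hh', he⟩ := hpow n
  rw [hun] at he
  have hl1 : l ^ n = 1 := by
    rw [← Subgroup.mem_bot, ← hD.inf_eq_bot a ha]
    exact ⟨by rw [eq_inv_of_mul_eq_one_right he.symm]; exact (H a).inv_mem hh',
      (L ⊓ Subgroup.centralizer ({a} : Set G)).pow_mem hl n⟩
  have hl2 : l ^ Nat.card ↥(L ⊓ Subgroup.centralizer ({a} : Set G)) = 1 := by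
    have := pow_card_eq_one' (x := (⟨l, hl⟩ : ↥(L ⊓ Subgroup.centralizer ({a} : Set G))))
    exact congrArg Subtype.val this
  have h1 := pow_gcd_eq_one.mpr ⟨hl1, hl2⟩
  rw [hn.gcd_eq_one, pow_one] at h1
  rwa [h1, mul_one]

theorem dade_conj_le [Finite G] (hD : DadeHypothesis A L H) {a : G} (ha : a ∈ A) {x : G}
    (hx : x ∈ L) : (H a).map (MulAut.conj x).toMonoidHom ≤ H (x * a * x⁻¹) := by
  rintro _ ⟨u, hu, rfl⟩
  show x * u * x⁻¹ ∈ H (x * a * x⁻¹)
  have hb := hD.conj_mem x hx a ha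
  refine dade_mem_of_coprime hD hb ?_ (n := Nat.card (H a)) ?_ (hD.coprime a ha _ hb)
  · have hc := Subgroup.mem_centralizer_singleton_iff.mp (hD.le_centralizer a ha hu)
    refine Subgroup.mem_centralizer_singleton_iff.mpr ?_
    calc x * u * x⁻¹ * (x * a * x⁻¹) = x * (u * a) * x⁻¹ := by group
      _ = x * (a * u) * x⁻¹ := by rw [hc]
      _ = x * a * x⁻¹ * (x * u * x⁻¹) := by group
  · rw [conj_pow, show u ^ Nat.card (H a) = 1 from
      congrArg Subtype.val (pow_card_eq_one' (x := (⟨u, hu⟩ : H a))), mul_one, mul_inv_cancel]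

theorem dade_conj_eq [Finite G] (hD : DadeHypothesis A L H) {a : G} (ha : a ∈ A) {x : G}
    (hx : x ∈ L) : H (x * a * x⁻¹) = (H a).map (MulAut.conj x).toMonoidHom := by
  refine le_antisymm (fun u hu => ?_) (dade_conj_le hD ha hx)
  have h := dade_conj_le hD (hD.conj_mem x hx a ha) (L.inv_mem hx)
    (Subgroup.mem_map_of_mem _ hu)
  rw [show x⁻¹ * (x * a * x⁻¹) * x⁻¹⁻¹ = a by group] at h
  exact ⟨_, h, by simp [mul_assoc]⟩

theorem dade_orderOf_coprime [Finite G] (hD : DadeHypothesis A L H) {a b : G} (ha : a ∈ A)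
    (hb : b ∈ A) : Nat.Coprime (Nat.card (H a)) (orderOf b) :=
  (hD.coprime a ha b hb).coprime_dvd_right (by
    have hm : b ∈ L ⊓ Subgroup.centralizer ({b} : Set G) :=
      ⟨hD.subset hb, Subgroup.mem_centralizer_singleton_iff.mpr rfl⟩
    rw [← Subgroup.orderOf_mk b hm]
    exact orderOf_dvd_natCard _)

/-- Conjugate elements of the cosets `a * H a` have conjugate heads. -/
theorem dade_conj_heads [Finite G] (hD : DadeHypothesis A L H) {a b : G} (ha : a ∈ A) (hb : b ∈ A)
    {u v g : G} (hu : u ∈ H a) (hv : v ∈ H b) (h : g * (a * u) * g⁻¹ = b * v) :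
    g * a * g⁻¹ = b := by
  set n := Nat.card (H a) * Nat.card (H b) with hn
  have hua : Commute a u := (Subgroup.mem_centralizer_singleton_iff.mp (hD.le_centralizer a ha hu)).symm
  have hvb : Commute b v := (Subgroup.mem_centralizer_singleton_iff.mp (hD.le_centralizer b hb hv)).symm
  have hun : u ^ n = 1 := by
    rw [hn, pow_mul, show u ^ Nat.card (H a) = 1 from
      congrArg Subtype.val (pow_card_eq_one' (x := (⟨u, hu⟩ : H a))), one_pow]
  have hvn : v ^ n = 1 := by
    rw [hn, mul_comm, pow_mul, show v ^ Nat.card (H b) = 1 from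
      congrArg Subtype.val (pow_card_eq_one' (x := (⟨v, hv⟩ : H b))), one_pow]
  have hab : g * a ^ n * g⁻¹ = b ^ n := by
    have h1 := congrArg (fun y : G => y ^ n) h
    simp only [conj_pow] at h1
    rwa [hua.mul_pow, hvb.mul_pow, hun, hvn, mul_one, mul_one] at h1
  have hcop : Nat.Coprime n (orderOf a * orderOf b) :=
    ((dade_orderOf_coprime hD ha ha).mul_left (dade_orderOf_coprime hD hb ha)).mul_right
      ((dade_orderOf_coprime hD ha hb).mul_left (dade_orderOf_coprime hD hb hb))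
  have hk : (1 : ℤ) = (n : ℤ) * n.gcdA (orderOf a * orderOf b) +
      ((orderOf a * orderOf b : ℕ) : ℤ) * n.gcdB (orderOf a * orderOf b) := by
    have := Nat.gcd_eq_gcd_ab n (orderOf a * orderOf b)
    rwa [hcop.gcd_eq_one, Nat.cast_one] at this
  have key : ∀ y : G, y ^ (orderOf a * orderOf b) = 1 →
      (y ^ n) ^ n.gcdA (orderOf a * orderOf b) = y := fun y hy => by
    conv_rhs => rw [← zpow_one y, hk, zpow_add, zpow_mul y ((orderOf a * orderOf b : ℕ) : ℤ),
      zpow_natCast, hy, one_zpow, mul_one, zpow_mul, zpow_natCast]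
  rw [← key a (by rw [pow_mul, pow_orderOf_eq_one, one_pow]), ← conj_zpow, hab,
    key b (by rw [mul_comm, pow_mul, pow_orderOf_eq_one, one_pow])]

end CfsgLib.Char
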