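import Cfsg.Agent.Lib.Char.Brauer
import Cfsg.Agent.Lib.Char.Clifford
import Cfsg.Agent.Lib.Char.Inertia

/-!
# Dade's detection of invariant characters on `p`-elementary supplements
-/

set_option autoImplicit false
set_option linter.unusedSectionVars false

namespace CfsgLib.Char

open scoped ComplexConjugate
open Cfsg

universe u

variable {p : ℕ}

theorem sum_dvd_of_fixed [Fact p.Prime] {P : Type*} [Group P] [Finite P] {α : Type*} [Fintype α]
    [MulAction P α] (hP : IsPGroup p P) (f : α → ℕ) (hf : ∀ (g : P) (a : α), f (g • a) = f a)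
    (hfix : ∀ a : α, (∀ g : P, g • a = a) → p ∣ f a) : p ∣ ∑ a, f a := by
  classical
  rw [← Finset.sum_fiberwise_of_maps_to (g := f) (t := Finset.univ.image f)
    (fun a ha => Finset.mem_image_of_mem f ha)]
  refine Finset.dvd_sum fun k _ => ?_
  rw [Finset.sum_congr rfl (fun a ha => (Finset.mem_filter.1 ha).2), Finset.sum_const, smul_eq_mul,
    ← Fintype.card_subtype, ← Nat.card_eq_fintype_card]
  by_cases hk : p ∣ k
  · exact hk.mul_left _
  refine Dvd.dvd.mul_right ?_ _
  let inst : MulAction P {a : α // f a = k} :=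
    { smul := fun g a => ⟨g • a.1, (hf g a.1).trans a.2⟩
      one_smul := fun a => Subtype.ext (one_smul P a.1)
      mul_smul := fun g h a => Subtype.ext (mul_smul g h a.1) }
  have hemp : IsEmpty (MulAction.fixedPoints P {a : α // f a = k}) := ⟨fun ⟨a, ha⟩ =>
    hk (a.2 ▸ hfix a.1 fun g => congrArg Subtype.val (ha g))⟩
  have h := hP.card_modEq_card_fixedPoints {a : α // f a = k}
  rw [Nat.card_of_isEmpty (α := MulAction.fixedPoints P {a : α // f a = k})] at h
  exact Nat.modEq_zero_iff_dvd.1 h

/-- Inside a group `E` with normal subgroup `D` of `p`-power index. -/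
theorem exists_invariant_irr_not_dvd (hp : p.Prime) {E : Type u} [Group E] [Fintype E]
    (D : Subgroup E) [D.Normal] [Fintype D] (hidx : ∃ k : ℕ, D.index = p ^ k) {φ : E → ℂ}
    (hφ : IsCharacter E φ) {t : D → ℂ} (ht : IsCharacter D t)
    (hinv : ∀ e : E, conjFun D t e = t) :
    (∃ (ξ : D → ℂ) (m : ℕ), IsIrrCharacter D ξ ∧ (∀ e : E, conjFun D ξ e = ξ) ∧ ¬ p ∣ m ∧
      classInner t ξ = m) ∨
    ∃ c : ℕ, p ∣ c ∧ classInner (fun d : D => φ d * t d) t = c := by
  classical
  have : Fact p.Prime := ⟨hp⟩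
  have := Fintype.ofFinite (IrrCharacter D)
  have hu : IsCharacter D (fun d : D => φ d * t d) :=
    isCharacter_mul (isCharacter_comp hφ D.subtype) ht
  set u : D → ℂ := fun d : D => φ d * t d with hudef
  choose a ha using classInner_char_irr_nat hu
  choose b hb using classInner_char_irr_nat ht
  by_cases hgoal : ∃ ξ : IrrCharacter D, (∀ e : E, conjFun D (ξ : D → ℂ) e = ξ) ∧ ¬ p ∣ b ξ
  · obtain ⟨ξ, h1, h2⟩ := hgoal
    exact Or.inl ⟨ξ, b ξ, ξ.2, h1, h2, hb ξ⟩
  right
  push Not at hgoal
  have huinv : ∀ e : E, conjFun D u e = u := fun e => funext fun d => by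
    have h1 := congrFun (conjFun_coe_of_classFun D (isClassFunction_of_isCharacter hφ) e) d
    have h2 := congrFun (hinv e) d
    simp only [conjFun] at h1 h2
    simp only [hudef, conjFun]
    rw [h1, h2]
  let P : Sylow p E := default
  let inst : MulAction (P : Subgroup E) (IrrCharacter D) :=
    { smul := fun g ξ => ⟨conjFun D (ξ : D → ℂ) ((g : E)⁻¹), isIrrCharacter_conjFun D ξ.2 _⟩
      one_smul := fun ξ => Subtype.ext (by
        show conjFun D (ξ : D → ℂ) ((1 : E)⁻¹) = ξ
        rw [inv_one, conjFun_one])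
      mul_smul := fun g h ξ => Subtype.ext (by
        show conjFun D (ξ : D → ℂ) (((g : E) * h)⁻¹) = conjFun D (conjFun D (ξ : D → ℂ) (h : E)⁻¹) (g : E)⁻¹
        rw [mul_inv_rev, conjFun_mul]) }
  have hsm : ∀ (g : (P : Subgroup E)) (ξ : IrrCharacter D),
      ((g • ξ : IrrCharacter D) : D → ℂ) = conjFun D (ξ : D → ℂ) ((g : E)⁻¹) := fun g ξ => rfl
  have hga : ∀ (g : (P : Subgroup E)) (ξ : IrrCharacter D), a (g • ξ) = a ξ := fun g ξ => by
    have h := classInner_conjFun D u (ξ : D → ℂ) ((g : E)⁻¹)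
    rw [huinv, ← hsm, ha, ha] at h
    exact_mod_cast h
  have hgb : ∀ (g : (P : Subgroup E)) (ξ : IrrCharacter D), b (g • ξ) = b ξ := fun g ξ => by
    have h := classInner_conjFun D t (ξ : D → ℂ) ((g : E)⁻¹)
    rw [hinv, ← hsm, hb, hb] at h
    exact_mod_cast h
  refine ⟨∑ ξ, a ξ * b ξ, sum_dvd_of_fixed P.isPGroup' _ (fun g ξ => by rw [hga, hgb])
    fun ξ hξ => ?_, ?_⟩
  · refine (hgoal ξ fun e => ?_).mul_left _
    have hle : D ⊔ (P : Subgroup E) ≤ inertia D (ξ : D → ℂ) := by
      refine sup_le (le_inertia D (isClassFunction_irr ξ)) fun g hg => ?_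
      have h := congrArg Subtype.val (hξ ⟨g⁻¹, inv_mem hg⟩)
      rw [hsm] at h
      rw [mem_inertia]
      simpa using h
    have htop : D ⊔ (P : Subgroup E) = ⊤ := by
      obtain ⟨k, hk⟩ := hidx
      rw [← Subgroup.index_eq_one]
      obtain ⟨j, -, hj⟩ := (Nat.dvd_prime_pow hp).1
        (hk ▸ Subgroup.index_dvd_of_le (le_sup_left : D ≤ D ⊔ (P : Subgroup E)))
      rcases Nat.eq_zero_or_pos j with rfl | hj0
      · simpa using hj
      · exact absurd ((hj ▸ dvd_pow_self p hj0.ne' : p ∣ _).trans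
          (Subgroup.index_dvd_of_le (le_sup_right : (P : Subgroup E) ≤ D ⊔ _))) P.not_dvd_index
    exact (mem_inertia D _ e).1 (hle (htop ▸ Subgroup.mem_top e))
  · rw [classInner_expand (isClassFunction_of_isCharacter ht), Nat.cast_sum]
    exact Finset.sum_congr rfl fun ξ _ => by rw [ha, hb, Complex.conj_natCast, Nat.cast_mul]

variable {G : Type u} [Group G] [Fintype G]

theorem classInner_restrict_support (N E : Subgroup G) [Fintype N] [Fintype E]
    [Fintype (N.subgroupOf E)] (θ : N → ℂ) (φ : E → ℂ) :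
    classInner φ (fun e : E => extendByZero N (fun n => θ n * conj (θ n)) e) *
        ((N.relIndex E : ℕ) : ℂ) =
      classInner (fun d : N.subgroupOf E => φ d * θ ⟨((d : E) : G), d.2⟩)
        (fun d : N.subgroupOf E => θ ⟨((d : E) : G), d.2⟩) := by
  classical
  set h : E → ℂ := fun e : E => φ e * conj (extendByZero N (fun n => θ n * conj (θ n)) (e : G))
    with hh
  have h0 : ∀ e : E, e ∉ N.subgroupOf E → h e = 0 := fun e he => by
    rw [hh]
    simp only
    rw [extendByZero_not_mem N _ (fun he' => he (Subgroup.mem_subgroupOf.2 he')), map_zero, mul_zero]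
  have hs : ∑ e : E, h e = ∑ d : N.subgroupOf E, h d := by
    rw [← Fintype.sum_subtype_add_sum_subtype (fun e : E => e ∈ N.subgroupOf E) h]
    rw [Fintype.sum_eq_zero (fun e : {e : E // e ∉ N.subgroupOf E} => h e) (fun e => h0 _ e.2),
      add_zero]
    exact @Fintype.sum_equiv _ _ _ (Subtype.fintype _) _ _ (Equiv.refl _) _ _ fun _ => rfl
  have hc : (Nat.card (N.subgroupOf E) : ℂ) * ((N.relIndex E : ℕ) : ℂ) = (Nat.card E : ℂ) := by
    rw [← Nat.cast_mul]
    exact congrArg Nat.cast (Subgroup.card_mul_index (N.subgroupOf E))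
  have hE : (Nat.card E : ℂ) ≠ 0 := by exact_mod_cast Nat.card_pos.ne'
  simp only [classInner]
  rw [show ∑ e : E, φ e * conj (extendByZero N (fun n => θ n * conj (θ n)) (e : G)) =
    ∑ e : E, h e from rfl, hs]
  have hterm : ∀ d : N.subgroupOf E,
      h d = φ d * θ ⟨((d : E) : G), d.2⟩ * conj (θ ⟨((d : E) : G), d.2⟩) := fun d => by
    rw [hh]
    simp only
    rw [extendByZero_mem N _ (Subgroup.mem_subgroupOf.1 d.2), map_mul, Complex.conj_conj]
    ring
  rw [Finset.sum_congr rfl fun d _ => hterm d]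
  rw [← hc]
  rw [← hc] at hE
  have hr : ((N.relIndex E : ℕ) : ℂ) ≠ 0 := right_ne_zero_of_mul hE
  field_simp

theorem relIndex_mul_index_sup (N E : Subgroup G) [N.Normal] :
    N.relIndex E * (E ⊔ N).index = N.index := by
  have h := Subgroup.relIndex_mul_index (le_sup_right : N ≤ E ⊔ N)
  rwa [Subgroup.relIndex_sup_right] at h

theorem irr_restrict_isCharacter (N E : Subgroup G) {θ : N → ℂ} (hθ : IsCharacter N θ) :
    IsCharacter (N.subgroupOf E) (fun d : N.subgroupOf E => θ ⟨((d : E) : G), d.2⟩) :=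
  isCharacter_comp hθ ({ toFun := fun d => ⟨((d : E) : G), d.2⟩
                         map_one' := rfl
                         map_mul' := fun _ _ => rfl } : N.subgroupOf E →* N)

/-- Dade: an invariant irreducible character of a normal subgroup of `p`-power index is detected
on a `p`-elementary supplement. -/
theorem exists_elementary_detect (hp : p.Prime) (N : Subgroup G) [N.Normal]
    (hind : ∃ k : ℕ, N.index = p ^ k) {θ : N → ℂ} (hθ : IsIrrCharacter N θ)
    (hinv : ∀ g : G, conjFun N θ g = θ) :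
    ∃ (E : Subgroup G) (ξ : N.subgroupOf E → ℂ) (m : ℕ), IsElementary p E ∧ E ⊔ N = ⊤ ∧
      IsIrrCharacter (N.subgroupOf E) ξ ∧ (∀ e : E, conjFun (N.subgroupOf E) ξ e = ξ) ∧ ¬ p ∣ m ∧
      ∀ [Fintype (N.subgroupOf E)],
        classInner (fun d : N.subgroupOf E => θ ⟨((d : E) : G), d.2⟩) ξ = m := by
  classical
  have := Fintype.ofFinite N
  by_contra hcon
  set f : G → ℂ := extendByZero N (fun n => θ n * conj (θ n)) with hf
  have hfc : IsClassFunction G f := fun g x => by
    by_cases hg : g ∈ N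
    · rw [hf, extendByZero_mem N _ hg,
        extendByZero_mem N _ (Subgroup.Normal.conj_mem inferInstance g hg x)]
      have h := congrFun (hinv x) ⟨g, hg⟩
      simp only [conjFun] at h
      simp only [h]
    · rw [hf, extendByZero_not_mem N _ hg, extendByZero_not_mem N _ fun h' => hg ?_]
      have := Subgroup.Normal.conj_mem (inferInstance : N.Normal) _ h' x⁻¹
      simpa [mul_assoc] using this
  have key : ∀ F ∈ IndSpan (fun E : Subgroup G => IsElementary p E),
      ∃ z : ℤ, classInner F f * (N.index : ℂ) = ((p : ℤ) * z : ℤ) := by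
    intro F hF
    induction hF using AddSubgroup.closure_induction with
    | mem x hx =>
      obtain ⟨E, φ, hE, hφ, rfl⟩ := hx
      have := Fintype.ofFinite E
      have := Fintype.ofFinite (N.subgroupOf E)
      rw [classInner_indFun E φ f hfc]
      have hN : N.relIndex E * (E ⊔ N).index = N.index := by
        exact relIndex_mul_index_sup N E
      have hres := classInner_restrict_support N E θ φ
      have ht : IsCharacter (N.subgroupOf E) (fun d : N.subgroupOf E => θ ⟨((d : E) : G), d.2⟩) :=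
        irr_restrict_isCharacter N E (isCharacter_of_isIrr hθ)
      obtain ⟨c, hc⟩ := classInner_isCharacter
        (isCharacter_mul (isCharacter_comp hφ (N.subgroupOf E).subtype) ht) ht
      have heq : classInner φ (fun e : E => f e) * (N.index : ℂ) = ((c * (E ⊔ N).index : ℕ) : ℂ) := by
        rw [← hN, Nat.cast_mul, ← mul_assoc, hf, hres, Nat.cast_mul]
        exact congrArg (· * _) hc
      suffices hd : p ∣ c * (E ⊔ N).index by
        obtain ⟨z, hz⟩ := hd
        exact ⟨z, by rw [heq, hz]; push_cast; ring⟩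
      by_cases htop : E ⊔ N = ⊤
      · refine Dvd.dvd.mul_right ?_ _
        have hidx : ∃ k : ℕ, (N.subgroupOf E).index = p ^ k := by
          obtain ⟨k, hk⟩ := hind
          obtain ⟨j, -, hj⟩ := (Nat.dvd_prime_pow hp).1
            (hk ▸ (Subgroup.relIndex_dvd_index_of_normal N E))
          exact ⟨j, hj⟩
        rcases exists_invariant_irr_not_dvd hp (N.subgroupOf E) hidx hφ ht
            (fun e => funext fun d => congrFun (hinv (e : G)) ⟨((d : E) : G), d.2⟩) with
          ⟨ξ, m, h1, h2, h3, h4⟩ | ⟨c', hc', hcc⟩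
        · refine absurd ⟨E, ξ, m, hE, htop, h1, h2, h3, fun {inst} => ?_⟩ hcon
          rw [Subsingleton.elim inst this]
          exact h4
        · have : ((c : ℕ) : ℂ) = (c' : ℕ) := hc.symm.trans hcc
          rwa [Nat.cast_inj.1 this]
      · obtain ⟨k, hk⟩ := hind
        obtain ⟨j, -, hj⟩ := (Nat.dvd_prime_pow hp).1
          (hk ▸ Subgroup.index_dvd_of_le (le_sup_right : N ≤ E ⊔ N))
        refine Dvd.dvd.mul_left ?_ _
        rcases Nat.eq_zero_or_pos j with rfl | hj0
        · exact absurd (Subgroup.index_eq_one.1 (by simpa using hj)) htop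
        · rw [hj]; exact dvd_pow_self p hj0.ne'
    | zero => exact ⟨0, by simp [classInner]⟩
    | add x y _ _ hx hy =>
      obtain ⟨a, ha⟩ := hx
      obtain ⟨b, hb⟩ := hy
      exact ⟨a + b, by rw [classInner_add_left, add_mul, ha, hb]; push_cast; ring⟩
    | neg x _ hx =>
      obtain ⟨a, ha⟩ := hx
      exact ⟨-a, by rw [← neg_one_smul ℂ x, classInner_smul_left, mul_assoc, ha]; push_cast; ring⟩
  obtain ⟨m, hm, hmem⟩ := brauer_local (G := G) hp
  obtain ⟨z, hz⟩ := key _ hmem
  have hconst : classInner (fun _ : G => (m : ℂ)) f * (N.index : ℂ) = (m : ℂ) := by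
    have h1 : ∑ g : G, conj (f g) = ∑ n : N, θ n * conj (θ n) := by
      have := sum_extendByZero_mul N (fun n => conj (θ n * conj (θ n))) (fun _ => 1)
      simp only [mul_one] at this
      rw [hf]
      rw [show (∑ n : N, θ n * conj (θ n)) = ∑ n : N, conj (θ n * conj (θ n)) from
        Finset.sum_congr rfl fun n _ => by rw [map_mul, Complex.conj_conj, mul_comm], ← this]
      refine Finset.sum_congr rfl fun g _ => ?_
      by_cases hg : g ∈ N
      · rw [extendByZero_mem N _ hg, extendByZero_mem N _ hg]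
      · rw [extendByZero_not_mem N _ hg, extendByZero_not_mem N _ hg, map_zero]
    have h2 := classInner_irr_self (⟨θ, hθ⟩ : IrrCharacter N)
    simp only [classInner] at h2 ⊢
    rw [← Finset.mul_sum, h1]
    have hN : (Nat.card N : ℂ) ≠ 0 := by exact_mod_cast Nat.card_pos.ne'
    have hG : (Nat.card N : ℂ) * (N.index : ℂ) = (Nat.card G : ℂ) := by
      rw [← Nat.cast_mul, N.card_mul_index]
    have hI : (N.index : ℂ) ≠ 0 := by exact_mod_cast Subgroup.index_ne_zero_of_finite
    have h3 : ∑ n : N, θ n * conj (θ n) = (Nat.card N : ℂ) := by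
      field_simp at h2
      linear_combination h2
    rw [h3, ← hG]
    field_simp
  rw [hconst] at hz
  exact hm ⟨z, by exact_mod_cast hz⟩

end CfsgLib.Char
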