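import Cfsg.Agent.Lib.Char.DadeBasic
import Cfsg.Agent.Lib.Char.Virtual
import Cfsg.Agent.Lib.Char.Induction
import Cfsg.Agent.S1496

/-!
# The Dade map

An averaging formula for the Dade map, the adjunction it gives, and the expression of the map as
an alternating sum of induced generalized characters over `L`-orbits of subsets of `A`.
-/

set_option autoImplicit false
set_option linter.unusedSectionVars false

namespace CfsgLib.Char

open scoped ComplexConjugate
open Cfsg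

universe u

variable {G : Type u} [Group G] {A : Set G} {L : Subgroup G} {H : G → Subgroup G}

open Classical in
/-- A function on a subgroup, extended by zero, as an explicit function of the group. -/
noncomputable def valOn (L : Subgroup G) (α : L → ℂ) (a : G) : ℂ :=
  if h : a ∈ L then α ⟨a, h⟩ else 0

theorem valOn_mem (α : L → ℂ) {a : G} (h : a ∈ L) : valOn L α a = α ⟨a, h⟩ := dif_pos h

theorem dade_value_unique [Finite G] (hD : DadeHypothesis A L H) {α : L → ℂ}
    (hα : IsClassFunction L α) {g x x' a a' u u' : G} (ha : a ∈ A) (ha' : a' ∈ A)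
    (hu : u ∈ H a) (hu' : u' ∈ H a') (h : x * g * x⁻¹ = a * u) (h' : x' * g * x'⁻¹ = a' * u') :
    valOn L α a' = valOn L α a := by
  have hc : x' * x⁻¹ * (a * u) * (x' * x⁻¹)⁻¹ = a' * u' := by rw [← h, ← h']; group
  have hh := dade_conj_heads hD ha ha' hu hu' hc
  obtain ⟨l, hl, hle⟩ := hD.fusion a ha (x' * x⁻¹) (by rw [hh]; exact ha')
  rw [hh] at hle
  rw [valOn_mem α (hD.subset ha'), valOn_mem α (hD.subset ha)]
  rw [show (⟨a', hD.subset ha'⟩ : L) = ⟨l, hl⟩ * ⟨a, hD.subset ha⟩ * ⟨l, hl⟩⁻¹ from Subtype.ext hle.symm]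
  exact hα _ _

theorem dadeIsometry_eq [Finite G] (hD : DadeHypothesis A L H) {α : L → ℂ}
    (hα : IsClassFunction L α) {g x a u : G} (ha : a ∈ A) (hu : u ∈ H a)
    (h : x * g * x⁻¹ = a * u) : dadeIsometry A L H α g = valOn L α a := by
  have hex : ∃ b : L, (b : G) ∈ A ∧ ∃ x : G, ∃ u ∈ H (b : G), x * g * x⁻¹ = (b : G) * u :=
    ⟨⟨a, hD.subset ha⟩, ha, x, u, hu, h⟩
  obtain ⟨hb, x', u', hu', h'⟩ := Classical.choose_spec hex
  rw [dadeIsometry, dif_pos hex, ← valOn_mem α (Classical.choose hex).2]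
  exact dade_value_unique hD hα ha hb hu hu' h h'

theorem dadeIsometry_eq_zero {α : L → ℂ} {g : G}
    (h : ∀ a ∈ A, a ∈ L → ∀ x u : G, u ∈ H a → x * g * x⁻¹ ≠ a * u) :
    dadeIsometry A L H α g = 0 := by
  rw [dadeIsometry, dif_neg]
  rintro ⟨b, hb, x, u, hu, he⟩
  exact h b hb b.2 x u hu he

theorem isClassFunction_dadeIsometry [Finite G] (hD : DadeHypothesis A L H) {α : L → ℂ}
    (hα : IsClassFunction L α) : IsClassFunction G (dadeIsometry A L H α) := by
  intro g k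
  by_cases hex : ∃ a ∈ A, ∃ x u : G, u ∈ H a ∧ x * g * x⁻¹ = a * u
  · obtain ⟨a, ha, x, u, hu, h⟩ := hex
    rw [dadeIsometry_eq hD hα ha hu h, dadeIsometry_eq hD hα ha hu (x := x * k⁻¹)]
    rw [← h]
    group
  · push Not at hex
    rw [dadeIsometry_eq_zero fun a ha _ x u hu => hex a ha x u hu,
      dadeIsometry_eq_zero fun a ha _ x u hu h => hex a ha (x * k) u hu (by rw [← h]; group)]

theorem dade_card_centralizer [Finite G] (hD : DadeHypothesis A L H) {a : G} (ha : a ∈ A) :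
    Nat.card (Subgroup.centralizer ({a} : Set G)) =
      Nat.card (H a) * Nat.card ↥(L ⊓ Subgroup.centralizer ({a} : Set G)) := by
  rw [← Nat.card_prod]
  refine (Nat.card_eq_of_bijective
    (fun p : H a × ↥(L ⊓ Subgroup.centralizer ({a} : Set G)) =>
      (⟨(p.1 : G) * (p.2 : G), mul_mem (hD.le_centralizer a ha p.1.2) p.2.2.2⟩ :
        Subgroup.centralizer ({a} : Set G))) ⟨?_, ?_⟩).symm
  · rintro ⟨h₁, l₁⟩ ⟨h₂, l₂⟩ he
    have he' : (h₁ : G) * l₁ = h₂ * l₂ := congrArg Subtype.val he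
    have h0 : (h₂ : G)⁻¹ * h₁ ∈ H a ⊓ (L ⊓ Subgroup.centralizer ({a} : Set G)) := by
      refine ⟨(H a).mul_mem ((H a).inv_mem h₂.2) h₁.2, ?_⟩
      rw [show (h₂ : G)⁻¹ * h₁ = (l₂ : G) * (l₁ : G)⁻¹ by
        rw [eq_mul_inv_iff_mul_eq, mul_assoc, he', inv_mul_cancel_left]]
      exact Subgroup.mul_mem _ l₂.2 (Subgroup.inv_mem _ l₁.2)
    rw [hD.inf_eq_bot a ha, Subgroup.mem_bot, inv_mul_eq_one] at h0
    obtain rfl : h₁ = h₂ := Subtype.ext h0.symm
    exact Prod.ext rfl (Subtype.ext (mul_left_cancel he'))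
  · rintro ⟨c, hc⟩
    obtain ⟨h, hh, l, hl, rfl⟩ := dade_decomp hD ha hc
    exact ⟨⟨⟨h, hh⟩, ⟨l, hl⟩⟩, rfl⟩

variable [Fintype G]

open Classical in
/-- How many `x` conjugate `g` into the coset of `K` by `l`. -/
noncomputable def cosetHits (g l : G) (K : Subgroup G) : ℂ :=
  ∑ x : G, if x⁻¹ * g * x * l⁻¹ ∈ K then (1 : ℂ) else 0

open Classical in
/-- The averaging expression for the Dade map. -/
noncomputable def dadeAvg (A : Set G) (L : Subgroup G) (H : G → Subgroup G) (α : L → ℂ) (g : G) : ℂ :=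
  (Nat.card L : ℂ)⁻¹ *
    ∑ a ∈ Finset.univ.filter (· ∈ A), valOn L α a * ((Nat.card (H a) : ℂ)⁻¹ * cosetHits g a (H a))

theorem dadeIsometry_eq_avg (hD : DadeHypothesis A L H) {α : L → ℂ} (hα : IsClassFunction L α)
    (g : G) : dadeIsometry A L H α g = dadeAvg A L H α g := by
  classical
  have hcomm : ∀ {a u : G}, a ∈ A → u ∈ H a → a * u * a⁻¹ = u := fun {a u} ha hu => by
    rw [← Subgroup.mem_centralizer_singleton_iff.mp (hD.le_centralizer a ha hu), mul_inv_cancel_right]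
  by_cases hex : ∃ a ∈ A, ∃ x u : G, u ∈ H a ∧ x * g * x⁻¹ = a * u
  swap
  · push Not at hex
    rw [dadeIsometry_eq_zero fun a ha _ x u hu => hex a ha x u hu, dadeAvg]
    refine (mul_eq_zero_of_right _ (Finset.sum_eq_zero fun a ha => ?_)).symm
    rw [cosetHits, Finset.sum_eq_zero fun x _ => ?_, mul_zero, mul_zero]
    rw [if_neg]
    intro hm
    have ha' : a ∈ A := (Finset.mem_filter.mp ha).2
    refine hex a ha' x⁻¹ (a⁻¹ * (x⁻¹ * g * x)) ?_ (by group)
    have h1 := hcomm ha' hm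
    rw [show a⁻¹ * (x⁻¹ * g * x) = a⁻¹ * (x⁻¹ * g * x * a⁻¹) * a by group]
    conv => enter [2]; rw [← h1]
    rw [show a⁻¹ * (a * (x⁻¹ * g * x * a⁻¹) * a⁻¹) * a = x⁻¹ * g * x * a⁻¹ by group]
    exact hm
  obtain ⟨a₀, ha₀, x₀, u₀, hu₀, h₀⟩ := hex
  rw [dadeIsometry_eq hD hα ha₀ hu₀ h₀]
  have hterm : ∀ a ∈ Finset.univ.filter (· ∈ A),
      valOn L α a * ((Nat.card (H a) : ℂ)⁻¹ * cosetHits g a (H a)) = valOn L α a₀ *
        ((Finset.univ.filter fun k : G => k ∈ L ∧ k * a₀ * k⁻¹ = a).card : ℂ) := by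
    intro a ha
    have ha' : a ∈ A := (Finset.mem_filter.mp ha).2
    by_cases hk : ∃ k ∈ L, k * a₀ * k⁻¹ = a
    · obtain ⟨k, hkL, hka⟩ := hk
      have hval : valOn L α a = valOn L α a₀ := by
        rw [valOn_mem α (hD.subset ha'), valOn_mem α (hD.subset ha₀),
          show (⟨a, hD.subset ha'⟩ : L) = ⟨k, hkL⟩ * ⟨a₀, hD.subset ha₀⟩ * ⟨k, hkL⟩⁻¹ from
            Subtype.ext hka.symm]
        exact hα _ _
      have hu₁ : k * u₀ * k⁻¹ ∈ H a := by
        rw [← hka, dade_conj_eq hD ha₀ hkL]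
        exact ⟨u₀, hu₀, rfl⟩
      have hx₁ : (x₀⁻¹ * k⁻¹)⁻¹ * g * (x₀⁻¹ * k⁻¹) = a * (k * u₀ * k⁻¹) := by
        rw [← hka]
        calc (x₀⁻¹ * k⁻¹)⁻¹ * g * (x₀⁻¹ * k⁻¹) = k * (x₀ * g * x₀⁻¹) * k⁻¹ := by group
          _ = _ := by rw [h₀]; group
      set x₁ := x₀⁻¹ * k⁻¹
      set u₁ := k * u₀ * k⁻¹
      have hhits : cosetHits g a (H a) = (Nat.card (Subgroup.centralizer ({a} : Set G)) : ℂ) := by
        rw [cosetHits, Finset.sum_boole, ← Fintype.card_subtype, ← Nat.card_eq_fintype_card]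
        congr 1
        refine Nat.card_congr ((Equiv.mulLeft x₁⁻¹).subtypeEquiv fun x => ?_)
        show x⁻¹ * g * x * a⁻¹ ∈ H a ↔ x₁⁻¹ * x ∈ Subgroup.centralizer ({a} : Set G)
        have e : x⁻¹ * g * x * a⁻¹ = (x₁⁻¹ * x)⁻¹ * (a * u₁) * (x₁⁻¹ * x) * a⁻¹ := by
          rw [← hx₁]; group
        set y := x₁⁻¹ * x
        constructor
        · intro hm
          rw [e] at hm
          have hm' : a⁻¹ * (y⁻¹ * (a * u₁) * y) ∈ H a := by
            have h2 := hD.conj_mem_H a ha' a⁻¹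
              (inv_mem (Subgroup.mem_centralizer_singleton_iff.mpr rfl)) _ hm
            rwa [show a⁻¹ * (y⁻¹ * (a * u₁) * y * a⁻¹) * a⁻¹⁻¹ = a⁻¹ * (y⁻¹ * (a * u₁) * y) by group] at h2
          have h3 := dade_conj_heads hD ha' ha' hu₁ hm' (g := y⁻¹) (by group)
          refine Subgroup.mem_centralizer_singleton_iff.mpr ?_
          calc y * a = y * (y⁻¹ * a * y⁻¹⁻¹) := by rw [h3]
            _ = a * y := by group
        · intro hy
          rw [e]
          have hy' := Subgroup.mem_centralizer_singleton_iff.mp hy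
          have h1 : y⁻¹ * a * y = a := by rw [mul_assoc, ← hy', inv_mul_cancel_left]
          have h2 := hD.conj_mem_H a ha' y⁻¹ (inv_mem hy) u₁ hu₁
          have h3 := hD.conj_mem_H a ha' a (Subgroup.mem_centralizer_singleton_iff.mpr rfl) _ h2
          rw [show y⁻¹ * (a * u₁) * y * a⁻¹ = (y⁻¹ * a * y) * (y⁻¹ * u₁ * y⁻¹⁻¹) * a⁻¹ by group, h1]
          exact h3
      have hfib : (Finset.univ.filter fun l : G => l ∈ L ∧ l * a₀ * l⁻¹ = a).card =
          Nat.card ↥(L ⊓ Subgroup.centralizer ({a} : Set G)) := by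
        rw [← Fintype.card_subtype, ← Nat.card_eq_fintype_card]
        refine Nat.card_congr ((Equiv.mulRight k⁻¹).subtypeEquiv fun l => ?_)
        show l ∈ L ∧ l * a₀ * l⁻¹ = a ↔ l * k⁻¹ ∈ L ⊓ Subgroup.centralizer ({a} : Set G)
        rw [Subgroup.mem_inf, Subgroup.mul_mem_cancel_right _ (L.inv_mem hkL),
          Subgroup.mem_centralizer_singleton_iff]
        refine and_congr_right fun _ => ⟨fun h => ?_, fun h => ?_⟩
        · calc l * k⁻¹ * a = l * a₀ * k⁻¹ := by rw [← hka]; group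
            _ = a * (l * k⁻¹) := by rw [← h]; group
        · calc l * a₀ * l⁻¹ = l * k⁻¹ * a * (k * l⁻¹) := by rw [← hka]; group
            _ = a := by rw [h]; group
      rw [hval, hhits, dade_card_centralizer hD ha', hfib, Nat.cast_mul,
        inv_mul_cancel_left₀ (by exact_mod_cast Nat.card_pos.ne')]
    · have h1 : cosetHits g a (H a) = 0 := by
        rw [cosetHits, Finset.sum_eq_zero fun x _ => ?_]
        rw [if_neg]
        intro hm
        have hm' : a⁻¹ * (x⁻¹ * g * x) ∈ H a := by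
          have h2 := hD.conj_mem_H a ha' a⁻¹
            (inv_mem (Subgroup.mem_centralizer_singleton_iff.mpr rfl)) _ hm
          rwa [show a⁻¹ * (x⁻¹ * g * x * a⁻¹) * a⁻¹⁻¹ = a⁻¹ * (x⁻¹ * g * x) by group] at h2
        have h3 := dade_conj_heads hD ha₀ ha' hu₀ hm' (g := x⁻¹ * x₀⁻¹) (by rw [← h₀]; group)
        obtain ⟨l, hl, hle⟩ := hD.fusion a₀ ha₀ (x⁻¹ * x₀⁻¹) (by rw [h3]; exact ha')
        exact hk ⟨l, hl, hle.trans h3⟩
      have h2 : (Finset.univ.filter fun k : G => k ∈ L ∧ k * a₀ * k⁻¹ = a) = ∅ :=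
        Finset.filter_eq_empty_iff.mpr fun k _ hk' => hk ⟨k, hk'⟩
      rw [h1, h2, Finset.card_empty, Nat.cast_zero, mul_zero, mul_zero, mul_zero]
  rw [dadeAvg, Finset.sum_congr rfl hterm, ← Finset.mul_sum, ← Nat.cast_sum]
  have hsum : ∑ a ∈ Finset.univ.filter (· ∈ A),
      (Finset.univ.filter fun k : G => k ∈ L ∧ k * a₀ * k⁻¹ = a).card = Nat.card L := by
    rw [Nat.card_eq_fintype_card, Fintype.card_subtype,
      Finset.card_eq_sum_card_fiberwise (f := fun k : G => k * a₀ * k⁻¹)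
        (t := Finset.univ.filter (· ∈ A)) fun k hk => ?_]
    · exact Finset.sum_congr rfl fun a _ => by rw [Finset.filter_filter]
    · simp only [Finset.coe_filter, Finset.mem_univ, true_and, Set.mem_setOf_eq] at hk ⊢
      exact hD.conj_mem k hk a₀ ha₀
  rw [hsum, mul_comm (valOn L α a₀), inv_mul_cancel_left₀ (by exact_mod_cast Nat.card_pos.ne')]

theorem sum_cosetHits_mul {χ : G → ℂ} (hχ : IsClassFunction G χ) (a : G) (K : Subgroup G) [Fintype K] :
    ∑ g : G, cosetHits g a K * conj (χ g) = (Nat.card G : ℂ) * ∑ u : K, conj (χ ((u : G) * a)) := by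
  classical
  simp only [cosetHits, Finset.sum_mul]
  rw [Finset.sum_comm, Finset.sum_congr rfl (g := fun _ => ∑ u : K, conj (χ ((u : G) * a))) fun x _ => ?_,
    Finset.sum_const, Finset.card_univ, nsmul_eq_mul, ← Nat.card_eq_fintype_card]
  simp only [ite_mul, one_mul, zero_mul]
  rw [← Finset.sum_filter, Finset.sum_subtype (p := fun g => x⁻¹ * g * x * a⁻¹ ∈ K) _ (fun g => by simp)]
  refine Fintype.sum_equiv
    { toFun := fun g : {g : G // x⁻¹ * g * x * a⁻¹ ∈ K} => (⟨_, g.2⟩ : K)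
      invFun := fun u => ⟨x * ((u : G) * a) * x⁻¹, by simp [mul_assoc]⟩
      left_inv := fun g => Subtype.ext (by group)
      right_inv := fun u => Subtype.ext (by group) } _ _ fun g => ?_
  show conj (χ (g : G)) = conj (χ (x⁻¹ * (g : G) * x * a⁻¹ * a))
  rw [inv_mul_cancel_right, ← hχ (x⁻¹ * (g : G) * x) x]
  group

theorem dade_adjunction (hD : DadeHypothesis A L H) [Fintype L] {α : L → ℂ} (hα : IsClassFunction L α)
    (hαA : ∀ x : L, (x : G) ∉ A → α x = 0) {χ : G → ℂ} (hχ : IsClassFunction G χ) {ψ : L → ℂ}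
    (hψ : ∀ a : L, (a : G) ∈ A → ψ a = (Nat.card (H a) : ℂ)⁻¹ * ∑ᶠ u ∈ (H a : Set G), χ (a * u)) :
    classInner (dadeIsometry A L H α) χ = classInner α ψ := by
  classical
  simp only [classInner, dadeIsometry_eq_avg hD hα, dadeAvg, mul_assoc, ← Finset.mul_sum]
  rw [Finset.sum_congr rfl fun g _ => Finset.sum_mul _ _ _, Finset.sum_comm]
  have key : ∀ a ∈ Finset.univ.filter (· ∈ A),
      ∑ g : G, valOn L α a * ((Nat.card (H a) : ℂ)⁻¹ * cosetHits g a (H a)) * conj (χ g) =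
        (Nat.card G : ℂ) * (valOn L α a * conj (valOn L ψ a)) := by
    intro a ha
    have ha' : a ∈ A := (Finset.mem_filter.mp ha).2
    have := Fintype.ofFinite (H a)
    simp only [mul_assoc, ← Finset.mul_sum]
    rw [sum_cosetHits_mul hχ, valOn_mem ψ (hD.subset ha'), hψ ⟨a, hD.subset ha'⟩ ha']
    rw [map_mul, map_inv₀, map_natCast,
      show ∑ᶠ u ∈ (H a : Set G), χ (a * u) = ∑ u : H a, χ (a * u) from by
        rw [finsum_mem_eq_toFinset_sum, Finset.sum_subtype (p := fun u => u ∈ H a) _ fun u => by simp],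
      map_sum]
    have hsw : ∑ u : H a, conj (χ ((u : G) * a)) = ∑ u : H a, conj (χ (a * (u : G))) :=
      Finset.sum_congr rfl fun u _ => by
        rw [Subgroup.mem_centralizer_singleton_iff.mp (hD.le_centralizer a ha' u.2)]
    rw [hsw]
    ring
  rw [Finset.sum_congr rfl key, ← Finset.mul_sum]
  have hG : (Nat.card G : ℂ) ≠ 0 := by exact_mod_cast Nat.card_pos.ne'
  have hsum : ∑ a ∈ Finset.univ.filter (· ∈ A), valOn L α a * conj (valOn L ψ a) =
      ∑ x : L, α x * conj (ψ x) := by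
    rw [← Finset.sum_filter_of_ne (s := (Finset.univ : Finset L)) (p := fun x : L => (x : G) ∈ A)
      fun x _ hx => by_contra fun h => hx (by rw [hαA x h, zero_mul])]
    refine (Finset.sum_bij (fun (x : L) _ => (x : G)) (fun x hx => ?_) (fun x _ y _ h => Subtype.ext h)
      (fun a ha => ?_) fun x _ => ?_).symm
    · simpa using hx
    · have ha' : a ∈ A := (Finset.mem_filter.mp ha).2
      exact ⟨⟨a, hD.subset ha'⟩, by simpa using ha', rfl⟩
    · rw [valOn_mem α x.2, valOn_mem ψ x.2]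
  rw [hsum, mul_left_comm (Nat.card L : ℂ)⁻¹, inv_mul_cancel_left₀ hG]

theorem dade_isometry (hD : DadeHypothesis A L H) [Fintype L] {α β : L → ℂ} (hα : IsClassFunction L α)
    (hαA : ∀ x : L, (x : G) ∉ A → α x = 0) (hβ : IsClassFunction L β) :
    classInner (dadeIsometry A L H α) (dadeIsometry A L H β) = classInner α β := by
  classical
  refine dade_adjunction hD hα hαA (isClassFunction_dadeIsometry hD hβ) fun a ha => ?_
  have := Fintype.ofFinite (H (a : G))
  rw [show ∑ᶠ u ∈ (H a : Set G), dadeIsometry A L H β (a * u) =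
    ∑ u : H (a : G), dadeIsometry A L H β ((a : G) * u) from by
      rw [finsum_mem_eq_toFinset_sum, Finset.sum_subtype (p := fun u => u ∈ H (a : G)) _ fun u => by simp],
    Finset.sum_congr rfl (g := fun _ => β a) fun u _ => by
      rw [dadeIsometry_eq hD hβ ha u.2 (x := 1) (by group), valOn_mem β a.2],
    Finset.sum_const, Finset.card_univ, nsmul_eq_mul, ← Nat.card_eq_fintype_card,
    inv_mul_cancel_left₀ (by exact_mod_cast Nat.card_pos.ne')]

end CfsgLib.Char
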