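import Cfsg.Agent.Lib.Char.DadeMap

/-!
# The Dade map sends generalized characters to generalized characters
-/

set_option autoImplicit false
set_option linter.unusedSectionVars false

namespace CfsgLib.Char

open scoped ComplexConjugate
open Cfsg

universe u

variable {G : Type u} [Group G] [Fintype G] {A : Set G} {L : Subgroup G} {H : G → Subgroup G}

/-- The stabiliser in `L` of a finite set. -/
def setStab (L : Subgroup G) (B : Finset G) : Subgroup G := L ⊓ Subgroup.normalizer (B : Set G)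

/-- The intersection of the `H a`, `a ∈ B`. -/
def setKer (H : G → Subgroup G) (B : Finset G) : Subgroup G := ⨅ a ∈ B, H a

theorem mem_setStab {B : Finset G} {k : G} :
    k ∈ setStab L B ↔ k ∈ L ∧ ∀ n : G, n ∈ B ↔ k * n * k⁻¹ ∈ B := by
  simp [setStab, Subgroup.mem_inf, Subgroup.mem_set_normalizer_iff]

theorem mem_setKer {B : Finset G} {u : G} : u ∈ setKer H B ↔ ∀ a ∈ B, u ∈ H a := by
  simp [setKer, Subgroup.mem_iInf]

open Classical in
/-- Conjugation of a finite set. -/
noncomputable def conjSet (k : G) (B : Finset G) : Finset G := B.image fun a => k * a * k⁻¹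

theorem mem_conjSet {k : G} {B : Finset G} {b : G} : b ∈ conjSet k B ↔ k⁻¹ * b * k ∈ B := by
  classical
  simp only [conjSet, Finset.mem_image]
  constructor
  · rintro ⟨a, ha, rfl⟩
    rwa [show k⁻¹ * (k * a * k⁻¹) * k = a by group]
  · exact fun h => ⟨_, h, by group⟩

theorem conjSet_conjSet (k j : G) (B : Finset G) : conjSet k (conjSet j B) = conjSet (k * j) B := by
  ext b
  rw [mem_conjSet, mem_conjSet, mem_conjSet]
  rw [show j⁻¹ * (k⁻¹ * b * k) * j = (k * j)⁻¹ * b * (k * j) by group]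

theorem conjSet_one (B : Finset G) : conjSet 1 B = B := by
  ext b
  simp [mem_conjSet]

theorem mem_setStab_iff_conjSet {B : Finset G} {k : G} :
    k ∈ setStab L B ↔ k ∈ L ∧ conjSet k B = B := by
  rw [mem_setStab]
  refine and_congr_right fun _ => ⟨fun h => ?_, fun h n => ?_⟩
  · ext b
    rw [mem_conjSet, h]
    rw [show k * (k⁻¹ * b * k) * k⁻¹ = b by group]
  · conv_rhs => rw [← h, mem_conjSet]
    rw [show k⁻¹ * (k * n * k⁻¹) * k = n by group]

theorem setStab_conj_ker (hD : DadeHypothesis A L H) {B : Finset G} (hB : ∀ a ∈ B, a ∈ A) {k h : G}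
    (hk : k ∈ setStab L B) (hh : h ∈ setKer H B) : k * h * k⁻¹ ∈ setKer H B := by
  rw [mem_setStab] at hk
  rw [mem_setKer] at hh ⊢
  intro a ha
  have hb : k⁻¹ * a * k ∈ B := (hk.2 _).mpr (by rwa [show k * (k⁻¹ * a * k) * k⁻¹ = a by group])
  rw [show a = k * (k⁻¹ * a * k) * k⁻¹ by group, dade_conj_eq hD (hB _ hb) hk.1]
  exact ⟨h, hh _ hb, rfl⟩

theorem setKer_inf_stab (hD : DadeHypothesis A L H) {B : Finset G} (hB : ∀ a ∈ B, a ∈ A)
    (hne : B.Nonempty) {u : G} (hu : u ∈ setKer H B) (huL : u ∈ L) : u = 1 := by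
  obtain ⟨a, ha⟩ := hne
  have h1 : u ∈ H a := mem_setKer.mp hu a ha
  have h2 : u ∈ H a ⊓ (L ⊓ Subgroup.centralizer ({a} : Set G)) :=
    ⟨h1, huL, hD.le_centralizer a (hB a ha) h1⟩
  rwa [hD.inf_eq_bot a (hB a ha), Subgroup.mem_bot] at h2

open Classical in
theorem mul_cosetHits_setKer (hD : DadeHypothesis A L H) {B : Finset G} (hB : ∀ a ∈ B, a ∈ A)
    (hne : B.Nonempty) {l : G} (hlA : l ∈ A) (hl : l ∈ setStab L B) (g : G) :
    (Nat.card (setKer H B) : ℂ)⁻¹ * cosetHits g l (setKer H B) =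
      (Nat.card (setKer H (insert l B)) : ℂ)⁻¹ * cosetHits g l (setKer H (insert l B)) := by
  set K := setKer H B with hK
  set C := setKer H (insert l B) with hC
  obtain ⟨b, hb⟩ := hne
  have hKb : K ≤ H b := fun u hu => mem_setKer.mp hu b hb
  have hCK : C ≤ K := fun u hu => mem_setKer.mpr fun a ha =>
    mem_setKer.mp hu a (Finset.mem_insert_of_mem ha)
  have hnorm : l ∈ Subgroup.normalizer (K : Set G) := by
    rw [Subgroup.mem_set_normalizer_iff]
    refine fun u => ⟨setStab_conj_ker hD hB hl, fun hu => ?_⟩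
    have := setStab_conj_ker hD hB (inv_mem hl) hu
    rwa [show l⁻¹ * (l * u * l⁻¹) * l⁻¹⁻¹ = u by group] at this
  have hcop : Nat.Coprime (orderOf l) (Nat.card K) :=
    ((dade_orderOf_coprime hD (hB b hb) hlA).coprime_dvd_left (Subgroup.card_dvd_of_le hKb)).symm
  have hmemC : ∀ u : G, u ∈ C ↔ u ∈ K ∧ u * l = l * u := by
    intro u
    refine ⟨fun hu => ⟨hCK hu, Subgroup.mem_centralizer_singleton_iff.mp
      (hD.le_centralizer l hlA (mem_setKer.mp hu l (Finset.mem_insert_self l B)))⟩, fun hu => ?_⟩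
    refine mem_setKer.mpr fun a ha => ?_
    rcases Finset.mem_insert.mp ha with rfl | ha
    · refine dade_mem_of_coprime hD hlA (Subgroup.mem_centralizer_singleton_iff.mpr hu.2)
        (n := Nat.card (H b)) ?_ (hD.coprime b (hB b hb) a hlA)
      exact congrArg Subtype.val (pow_card_eq_one' (x := (⟨u, hKb hu.1⟩ : H b)))
    · exact mem_setKer.mp hu.1 a ha
  set e : ℤ := (Nat.card K : ℤ) * (Nat.card K).gcdA (orderOf l) with hed
  have hle : l ^ e = l := by
    have hk : (1 : ℤ) = (Nat.card K : ℤ) * (Nat.card K).gcdA (orderOf l) +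
        (orderOf l : ℤ) * (Nat.card K).gcdB (orderOf l) := by
      have := Nat.gcd_eq_gcd_ab (Nat.card K) (orderOf l)
      rwa [hcop.symm.gcd_eq_one, Nat.cast_one] at this
    conv_rhs => rw [← zpow_one l, hk, zpow_add, zpow_mul l (orderOf l : ℤ), zpow_natCast,
      pow_orderOf_eq_one, one_zpow, mul_one]
  have hcl : ∀ c ∈ C, (c * l) ^ e = l := fun c hc => by
    rw [Commute.mul_zpow ((hmemC c).mp hc).2, hle, hed, zpow_mul c, zpow_natCast,
      show c ^ Nat.card K = 1 from congrArg Subtype.val (pow_card_eq_one' (x := (⟨c, hCK hc⟩ : K))),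
      one_zpow, one_mul]
  -- for each conjugate in the big coset, exactly `|C|` conjugations land in the small one
  have hcount : ∀ y : G, ∑ z : K, (if (z : G)⁻¹ * y * z * l⁻¹ ∈ C then (1 : ℂ) else 0) =
      (Nat.card C : ℂ) * (if y * l⁻¹ ∈ K then (1 : ℂ) else 0) := by
    intro y
    by_cases hy : y * l⁻¹ ∈ K
    · obtain ⟨x, hx, c, hc, hcomm, hxe⟩ := Cfsg.Agent.S1496.result K l hnorm hcop (y * l⁻¹) hy
      rw [inv_mul_cancel_right] at hxe
      have hcC : c ∈ C := (hmemC c).mpr ⟨hc, hcomm⟩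
      rw [if_pos hy, mul_one, Finset.sum_boole, ← Fintype.card_subtype, ← Nat.card_eq_fintype_card]
      congr 1
      refine Nat.card_congr
        { toFun := fun z => ⟨x * (z.1 : G), ?_⟩
          invFun := fun w => ⟨⟨x⁻¹ * (w : G), K.mul_mem (K.inv_mem hx) (hCK w.2)⟩, ?_⟩
          left_inv := fun z => Subtype.ext (Subtype.ext (inv_mul_cancel_left _ _))
          right_inv := fun w => Subtype.ext (mul_inv_cancel_left _ _) }
      · refine (hmemC _).mpr ⟨K.mul_mem hx z.1.2, ?_⟩
        obtain ⟨w, hw⟩ : ∃ w : G, w = x * (z.1 : G) := ⟨_, rfl⟩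
        rw [← hw]
        have h1 : (z.1 : G)⁻¹ * y * (z.1 : G) * l⁻¹ = w⁻¹ * (c * l) * w * l⁻¹ := by
          rw [← hxe, hw]; group
        have h2 : w⁻¹ * (c * l) * w⁻¹⁻¹ = w⁻¹ * (c * l) * w * l⁻¹ * l := by group
        have h3 := congrArg (fun t : G => t ^ e) h2
        simp only [conj_zpow, hcl c hcC, hcl _ (h1 ▸ z.2)] at h3
        calc w * l = w * (w⁻¹ * l * w⁻¹⁻¹) := by rw [h3]
          _ = l * w := by group
      · show (x⁻¹ * (w : G))⁻¹ * y * (x⁻¹ * (w : G)) * l⁻¹ ∈ C
        have hw := ((hmemC _).mp w.2).2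
        rw [show (x⁻¹ * (w : G))⁻¹ * y * (x⁻¹ * (w : G)) * l⁻¹ =
          (w : G)⁻¹ * (x * y * x⁻¹) * (w : G) * l⁻¹ by group, hxe,
          show (w : G)⁻¹ * (c * l) * (w : G) * l⁻¹ = (w : G)⁻¹ * c * (l * (w : G)) * l⁻¹ by group, ← hw,
          show (w : G)⁻¹ * c * ((w : G) * l) * l⁻¹ = (w : G)⁻¹ * c * (w : G) by group]
        exact C.mul_mem (C.mul_mem (C.inv_mem w.2) hcC) w.2
    · rw [if_neg hy, mul_zero]
      refine Finset.sum_eq_zero fun z _ => if_neg fun hz => hy ?_
      have h1 := (Subgroup.mem_set_normalizer_iff.mp hnorm (z : G)⁻¹).mp (K.inv_mem z.2)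
      have h2 := K.mul_mem (K.mul_mem z.2 (hCK hz)) h1
      rwa [show (z : G) * ((z : G)⁻¹ * y * z * l⁻¹) * (l * (z : G)⁻¹ * l⁻¹) = y * l⁻¹ by group] at h2
  have key : (Nat.card K : ℂ) * cosetHits g l C = (Nat.card C : ℂ) * cosetHits g l K := by
    simp only [cosetHits]
    have hz : ∀ z : K,
        ∑ x : G, (if (z : G)⁻¹ * (x⁻¹ * g * x) * z * l⁻¹ ∈ C then (1 : ℂ) else 0) =
          ∑ x : G, if x⁻¹ * g * x * l⁻¹ ∈ C then (1 : ℂ) else 0 := fun z =>
      Fintype.sum_bijective (fun x => x * (z : G)) (Group.mulRight_bijective _) _ _ fun x => by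
        rw [show (x * (z : G))⁻¹ * g * (x * (z : G)) * l⁻¹ = (z : G)⁻¹ * (x⁻¹ * g * x) * z * l⁻¹ by group]
    rw [Finset.mul_sum (Finset.univ) _ (Nat.card C : ℂ),
      ← Finset.sum_congr rfl fun x _ => hcount (x⁻¹ * g * x), Finset.sum_comm,
      Finset.sum_congr rfl fun z _ => hz z,
      Finset.sum_const, Finset.card_univ, nsmul_eq_mul, ← Nat.card_eq_fintype_card]
  have hK0 : (Nat.card K : ℂ) ≠ 0 := by exact_mod_cast Nat.card_pos.ne'
  have hC0 : (Nat.card C : ℂ) ≠ 0 := by exact_mod_cast Nat.card_pos.ne'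
  field_simp
  linear_combination -key

open Classical in
/-- The unnormalised contribution of a subset, at an element. -/
noncomputable def dadePart (A : Set G) (L : Subgroup G) (H : G → Subgroup G) (α : L → ℂ)
    (B : Finset G) (g : G) : ℂ :=
  (-1) ^ (B.card + 1) * ∑ l ∈ Finset.univ.filter (· ∈ A),
    if l ∈ setStab L B then valOn L α l * ((Nat.card (setKer H B) : ℂ)⁻¹ * cosetHits g l (setKer H B))
    else 0

open Classical in
/-- The nonempty subsets of `A`. -/
noncomputable def dadeSubsets (A : Set G) : Finset (Finset G) :=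
  (Finset.univ.filter (· ∈ A)).powerset.erase ∅

theorem mem_dadeSubsets {B : Finset G} : B ∈ dadeSubsets A ↔ B.Nonempty ∧ ∀ a ∈ B, a ∈ A := by
  classical
  rw [dadeSubsets, Finset.mem_erase, Finset.mem_powerset, Finset.nonempty_iff_ne_empty]
  refine and_congr_right fun _ => ⟨fun h a ha => (Finset.mem_filter.mp (h ha)).2,
    fun h a ha => Finset.mem_filter.mpr ⟨Finset.mem_univ a, h a ha⟩⟩

theorem sum_dadePart (hD : DadeHypothesis A L H) (α : L → ℂ) (g : G) :
    ∑ B ∈ dadeSubsets A, dadePart A L H α B g = (Nat.card L : ℂ) * dadeAvg A L H α g := by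
  classical
  rw [dadeAvg, mul_inv_cancel_left₀ (by exact_mod_cast Nat.card_pos.ne')]
  simp only [dadePart, Finset.mul_sum, mul_ite, mul_zero]
  rw [Finset.sum_comm]
  refine Finset.sum_congr rfl fun l hl => ?_
  have hlA : l ∈ A := (Finset.mem_filter.mp hl).2
  let T : Finset G → ℂ := fun B => if l ∈ setStab L B then
    (-1) ^ (B.card + 1) * (valOn L α l * ((Nat.card (setKer H (insert l B)) : ℂ)⁻¹ *
      cosetHits g l (setKer H (insert l B)))) else 0
  rw [Finset.sum_congr rfl (g := T) fun B hB => ?_]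
  swap
  · obtain ⟨hne, hBA⟩ := mem_dadeSubsets.mp hB
    simp only [T]
    split_ifs with h
    · rw [mul_cosetHits_setKer hD hBA hne hlA h]
    · rfl
  have hstab : ∀ B : Finset G, l ∉ B → (l ∈ setStab L (insert l B) ↔ l ∈ setStab L B) := by
    intro B hlB
    rw [mem_setStab, mem_setStab]
    refine and_congr_right fun _ => forall_congr' fun n => ?_
    have e : l * n * l⁻¹ = l ↔ n = l :=
      ⟨fun h => by rw [mul_inv_eq_iff_eq_mul] at h; exact mul_left_cancel h, fun h => by simp [h]⟩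
    simp only [Finset.mem_insert, e]
    constructor
    · intro h
      by_cases hn : n = l
      · subst hn
        simp [hlB]
      · simpa [hn] using h
    · intro h
      rw [h]
  have htotal : ∑ B ∈ (Finset.univ.filter (· ∈ A)).powerset, T B = 0 := by
    rw [← Finset.insert_erase hl, Finset.sum_powerset_insert (Finset.notMem_erase l _),
      ← Finset.sum_add_distrib]
    refine Finset.sum_eq_zero fun B hB => ?_
    have hlB : l ∉ B := fun h => Finset.notMem_erase l _ (Finset.mem_powerset.mp hB h)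
    simp only [T, hstab B hlB, Finset.card_insert_of_notMem hlB, Finset.insert_idem]
    split_ifs
    · rw [pow_succ (-1 : ℂ) (B.card + 1)]
      ring
    · rw [add_zero]
  rw [dadeSubsets, Finset.sum_erase_eq_sub (Finset.empty_mem_powerset _), htotal]
  have hempty : l ∈ setStab L ∅ := mem_setStab.mpr ⟨hD.subset hlA, fun n => by simp⟩
  simp only [T, if_pos hempty, Finset.card_empty, zero_add, pow_one]
  rw [show setKer H (insert l (∅ : Finset G)) = H l by simp [setKer]]
  ring

open Classical in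
theorem dadePart_eq_ind (hD : DadeHypothesis A L H) {α : L → ℂ}
    (hαA : ∀ x : L, (x : G) ∉ A → α x = 0) (hα : IsGeneralizedCharacter L α) {B : Finset G}
    (hB : B ∈ dadeSubsets A) :
    ∃ θ : G → ℂ, IsGeneralizedCharacter G θ ∧
      ∀ g, dadePart A L H α B g = (-1) ^ (B.card + 1) * ((Nat.card (setStab L B) : ℂ) * θ g) := by
  obtain ⟨hne, hBA⟩ := mem_dadeSubsets.mp hB
  set K := setKer H B with hK
  set S := setStab L B with hS
  have hSL : S ≤ L := inf_le_left
  have hSK : S ≤ Subgroup.normalizer (K : Set G) := fun s hs => by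
    rw [Subgroup.mem_set_normalizer_iff]
    refine fun u => ⟨setStab_conj_ker hD hBA hs, fun hu => ?_⟩
    have := setStab_conj_ker hD hBA (inv_mem hs) hu
    rwa [show s⁻¹ * (s * u * s⁻¹) * s⁻¹⁻¹ = u by group] at this
  have huniq : ∀ {s t y : G}, s ∈ S → t ∈ S → y * s⁻¹ ∈ K → y * t⁻¹ ∈ K → s = t := by
    intro s t y hs ht h1 h2
    have h3 : (y * s⁻¹)⁻¹ * (y * t⁻¹) ∈ K := K.mul_mem (K.inv_mem h1) h2
    rw [show (y * s⁻¹)⁻¹ * (y * t⁻¹) = s * t⁻¹ by group] at h3
    exact mul_inv_eq_one.mp (setKer_inf_stab hD hBA hne h3 (hSL (S.mul_mem hs (S.inv_mem ht))))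
  set M := K ⊔ S with hM
  have hdec : ∀ m : M, ∃ s : S, (m : G) * (s : G)⁻¹ ∈ K := by
    rintro ⟨m, hm⟩
    rw [hM, ← SetLike.mem_coe, Subgroup.coe_mul_of_right_le_normalizer_left _ _ hSK, Set.mem_mul] at hm
    obtain ⟨k, hk, s, hs, rfl⟩ := hm
    exact ⟨⟨s, hs⟩, by simpa using hk⟩
  choose sf hsf using hdec
  let π : M →* L :=
    { toFun := fun m => ⟨(sf m : G), hSL (sf m).2⟩
      map_one' := Subtype.ext (huniq (sf 1).2 S.one_mem (hsf 1) (by simp))
      map_mul' := fun a b => Subtype.ext (huniq (sf (a * b)).2 (S.mul_mem (sf a).2 (sf b).2)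
        (hsf (a * b)) (by
          show ((a : G) * b) * ((sf a : G) * sf b)⁻¹ ∈ K
          rw [show ((a : G) * b) * ((sf a : G) * sf b)⁻¹ =
            ((a : G) * (sf a : G)⁻¹) * ((sf a : G) * ((b : G) * (sf b : G)⁻¹) * (sf a : G)⁻¹) by group]
          exact K.mul_mem (hsf a) (setStab_conj_ker hD hBA (sf a).2 (hsf b)))) }
  refine ⟨indFun M (fun m => α (π m)),
    isGeneralizedCharacter_indFun M (isGeneralizedCharacter_comp hα π), fun g => ?_⟩
  have hcardM : (Nat.card M : ℂ) = (Nat.card K : ℂ) * (Nat.card S : ℂ) := by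
    rw [← Nat.cast_mul, ← Nat.card_prod]
    congr 1
    refine Nat.card_congr
      { toFun := fun m => (⟨(m : G) * (sf m : G)⁻¹, hsf m⟩, sf m)
        invFun := fun p => ⟨(p.1 : G) * p.2, Subgroup.mul_mem_sup p.1.2 p.2.2⟩
        left_inv := fun m => Subtype.ext (inv_mul_cancel_right _ _)
        right_inv := fun p => ?_ }
    have hm : sf ⟨(p.1 : G) * p.2, Subgroup.mul_mem_sup p.1.2 p.2.2⟩ = p.2 :=
      Subtype.ext (huniq (sf _).2 p.2.2 (hsf _) (by simp))
    refine Prod.ext (Subtype.ext ?_) hm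
    show (p.1 : G) * p.2 * (sf ⟨(p.1 : G) * p.2, _⟩ : G)⁻¹ = p.1
    rw [hm, mul_inv_cancel_right]
  have hext : ∀ y : G, extendByZero M (fun m => α (π m)) y =
      ∑ l ∈ Finset.univ.filter (· ∈ A), if l ∈ S then valOn L α l * (if y * l⁻¹ ∈ K then (1 : ℂ) else 0)
        else 0 := by
    intro y
    by_cases hy : y ∈ M
    · rw [extendByZero_mem M _ hy]
      set s := sf ⟨y, hy⟩
      show α ⟨(s : G), hSL s.2⟩ = _
      by_cases hsA : (s : G) ∈ A
      · have hsK : y * (s : G)⁻¹ ∈ K := hsf ⟨y, hy⟩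
        rw [Finset.sum_eq_single (s : G) (fun l _ hne' => ?_) (fun h => absurd (by simpa using hsA) h),
          if_pos s.2, if_pos hsK, mul_one, valOn_mem α (hSL s.2)]
        split_ifs with h1 h2
        · exact absurd (huniq h1 s.2 h2 hsK) hne'
        · exact mul_zero _
        · rfl
      · rw [hαA _ hsA]
        refine (Finset.sum_eq_zero fun l hl => ?_).symm
        split_ifs with h1 h2
        · exact absurd (huniq h1 s.2 h2 (hsf ⟨y, hy⟩) ▸ (Finset.mem_filter.mp hl).2) hsA
        · exact mul_zero _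
        · rfl
    · rw [extendByZero_not_mem M _ hy]
      refine (Finset.sum_eq_zero fun l _ => ?_).symm
      split_ifs with h1 h2
      · exact absurd (by
          rw [show y = y * l⁻¹ * l by group]
          exact Subgroup.mul_mem_sup h2 h1) hy
      · exact mul_zero _
      · rfl
  simp only [dadePart, indFun, hext]
  congr 1
  rw [Finset.sum_comm, hcardM, mul_inv, mul_comm (Nat.card K : ℂ)⁻¹, mul_assoc,
    mul_inv_cancel_left₀ (by exact_mod_cast Nat.card_pos.ne'), Finset.mul_sum]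
  refine Finset.sum_congr rfl fun l _ => ?_
  split_ifs
  · simp only [cosetHits, Finset.mul_sum]
    refine Finset.sum_congr rfl fun x _ => ?_
    ring
  · simp

theorem setKer_conjSet (hD : DadeHypothesis A L H) {B : Finset G} (hBA : ∀ a ∈ B, a ∈ A) {k : G}
    (hk : k ∈ L) : setKer H (conjSet k B) = (setKer H B).map (MulAut.conj k).toMonoidHom := by
  ext u
  rw [mem_setKer, Subgroup.mem_map]
  constructor
  · intro h
    refine ⟨k⁻¹ * u * k, mem_setKer.mpr fun a ha => ?_, by simp [mul_assoc]⟩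
    have h1 := h (k * a * k⁻¹) (mem_conjSet.mpr (by rwa [show k⁻¹ * (k * a * k⁻¹) * k = a by group]))
    rw [dade_conj_eq hD (hBA a ha) hk] at h1
    obtain ⟨v, hv, rfl⟩ := h1
    simpa [mul_assoc] using hv
  · rintro ⟨v, hv, rfl⟩ b hb
    rw [mem_conjSet] at hb
    rw [show b = k * (k⁻¹ * b * k) * k⁻¹ by group, dade_conj_eq hD (hBA _ hb) hk]
    exact ⟨v, mem_setKer.mp hv _ hb, rfl⟩

theorem dadePart_conjSet (hD : DadeHypothesis A L H) {α : L → ℂ} (hα : IsClassFunction L α)
    {B : Finset G} (hBA : ∀ a ∈ B, a ∈ A) {k : G} (hk : k ∈ L) (g : G) :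
    dadePart A L H α (conjSet k B) g = dadePart A L H α B g := by
  classical
  simp only [dadePart]
  have hcard : (conjSet k B).card = B.card :=
    Finset.card_image_of_injective _ fun a b h => by simpa using h
  rw [hcard]
  congr 1
  refine Finset.sum_bij' (fun l _ => k⁻¹ * l * k) (fun l _ => k * l * k⁻¹) (fun l hl => ?_)
    (fun l hl => ?_) (fun l _ => by group) (fun l _ => by group) (fun l hl => ?_)
  · have h := hD.conj_mem k⁻¹ (L.inv_mem hk) l (Finset.mem_filter.mp hl).2
    rw [inv_inv] at h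
    exact Finset.mem_filter.mpr ⟨Finset.mem_univ _, h⟩
  · exact Finset.mem_filter.mpr ⟨Finset.mem_univ _, hD.conj_mem k hk l (Finset.mem_filter.mp hl).2⟩
  have hiff : l ∈ setStab L (conjSet k B) ↔ k⁻¹ * l * k ∈ setStab L B := by
    rw [mem_setStab_iff_conjSet, mem_setStab_iff_conjSet, conjSet_conjSet,
      Subgroup.mul_mem_cancel_right _ hk, Subgroup.mul_mem_cancel_left _ (L.inv_mem hk)]
    refine and_congr_right fun _ => ⟨fun h => ?_, fun h => ?_⟩
    · rw [mul_assoc, ← conjSet_conjSet, h, conjSet_conjSet, inv_mul_cancel, conjSet_one]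
    · conv_rhs => rw [← h]
      rw [conjSet_conjSet]
      congr 1
      group
  by_cases hm : l ∈ setStab L (conjSet k B)
  · rw [if_pos hm, if_pos (hiff.mp hm), setKer_conjSet hD hBA hk]
    have hlA := (Finset.mem_filter.mp hl).2
    have hlA' : k⁻¹ * l * k ∈ A := by
      simpa using hD.conj_mem k⁻¹ (L.inv_mem hk) l hlA
    have hv : valOn L α l = valOn L α (k⁻¹ * l * k) := by
      rw [valOn_mem α (hD.subset hlA), valOn_mem α (hD.subset hlA'),
        ← hα ⟨k⁻¹ * l * k, hD.subset hlA'⟩ ⟨k, hk⟩]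
      congr 1
      exact Subtype.ext (by simp [mul_assoc])
    rw [hv, show Nat.card ((setKer H B).map (MulAut.conj k).toMonoidHom) = Nat.card (setKer H B) from
      Nat.card_congr ((setKer H B).equivMapOfInjective _ (MulAut.conj k).injective).toEquiv.symm]
    congr 2
    simp only [cosetHits]
    refine Fintype.sum_bijective (fun x => x * k) (Group.mulRight_bijective k) _ _ fun x => ?_
    refine if_congr ?_ rfl rfl
    rw [show (x * k)⁻¹ * g * (x * k) * (k⁻¹ * l * k)⁻¹ = k⁻¹ * (x⁻¹ * g * x * l⁻¹) * k by group]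
    constructor
    · rintro ⟨v, hv', hve⟩
      have : k * v * k⁻¹ = x⁻¹ * g * x * l⁻¹ := hve
      rwa [← this, show k⁻¹ * (k * v * k⁻¹) * k = v by group]
    · intro h
      exact ⟨_, h, show k * (k⁻¹ * (x⁻¹ * g * x * l⁻¹) * k) * k⁻¹ = _ by group⟩
  · rw [if_neg hm, if_neg (fun h => hm (hiff.mpr h))]

theorem isGeneralizedCharacter_dadeIsometry (hD : DadeHypothesis A L H) [Fintype L] {α : L → ℂ}
    (hα : IsGeneralizedCharacter L α) (hαA : ∀ x : L, (x : G) ∉ A → α x = 0) :
    IsGeneralizedCharacter G (dadeIsometry A L H α) := by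
  classical
  have hcf := isClassFunction_of_isGeneralized hα
  let q : Finset G → Finset (Finset G) := fun B => Finset.univ.image fun k : L => conjSet (k : G) B
  have he : dadeIsometry A L H α = ∑ O ∈ (dadeSubsets A).image q,
      fun g => (Nat.card L : ℂ)⁻¹ * ∑ B ∈ (dadeSubsets A).filter (fun B => q B = O), dadePart A L H α B g := by
    funext g
    rw [dadeIsometry_eq_avg hD hcf, Finset.sum_apply, ← Finset.mul_sum,
      Finset.sum_fiberwise_of_maps_to (fun B hB => Finset.mem_image_of_mem q hB), sum_dadePart hD,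
      inv_mul_cancel_left₀ (by exact_mod_cast Nat.card_pos.ne')]
  rw [he]
  refine isGeneralizedCharacter_sum _ _ fun O hO => ?_
  obtain ⟨B, hB, rfl⟩ := Finset.mem_image.mp hO
  obtain ⟨θ, hθ, hθe⟩ := dadePart_eq_ind hD hαA hα hB
  obtain ⟨hne, hBA⟩ := mem_dadeSubsets.mp hB
  have hqk : ∀ k : L, q (conjSet (k : G) B) = q B := fun k => by
    ext O
    simp only [q, Finset.mem_image, Finset.mem_univ, true_and, conjSet_conjSet]
    exact ⟨fun ⟨j, hj⟩ => ⟨j * k, by rw [← hj]; rfl⟩,
      fun ⟨j, hj⟩ => ⟨j * k⁻¹, by rw [← hj]; simp [mul_assoc]⟩⟩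
  have hfib : (dadeSubsets A).filter (fun B' => q B' = q B) = q B := by
    ext B'
    rw [Finset.mem_filter]
    constructor
    · rintro ⟨-, he'⟩
      rw [← he']
      exact Finset.mem_image.mpr ⟨1, Finset.mem_univ _, by rw [Subgroup.coe_one, conjSet_one]⟩
    · intro h
      obtain ⟨k, -, rfl⟩ := Finset.mem_image.mp h
      refine ⟨mem_dadeSubsets.mpr ⟨hne.image _, fun a ha => ?_⟩, hqk k⟩
      have := hD.conj_mem k k.2 _ (hBA _ (mem_conjSet.mp ha))
      rwa [show (k : G) * ((k : G)⁻¹ * a * k) * (k : G)⁻¹ = a by group] at this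
  have hcard : (q B).card * Nat.card (setStab L B) = Nat.card L := by
    rw [Nat.card_eq_fintype_card (α := L), ← Finset.card_univ,
      Finset.card_eq_sum_card_fiberwise (f := fun k : L => conjSet (k : G) B) (t := q B)
        (fun k _ => Finset.mem_coe.mpr (Finset.mem_image_of_mem _ (Finset.mem_univ k))),
      ← smul_eq_mul, ← Finset.sum_const]
    refine Finset.sum_congr rfl fun B' hB' => ?_
    obtain ⟨k, -, rfl⟩ := Finset.mem_image.mp hB'
    rw [← Fintype.card_subtype, ← Nat.card_eq_fintype_card]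
    refine Nat.card_congr
      { toFun := fun s => ⟨k * ⟨(s : G), inf_le_left (b := Subgroup.normalizer (B : Set G)) s.2⟩, ?_⟩
        invFun := fun j => ⟨((k⁻¹ * j.1 : L) : G), ?_⟩
        left_inv := fun s => Subtype.ext (by simp)
        right_inv := fun j => Subtype.ext (Subtype.ext (by simp)) }
    · show conjSet ((k : G) * (s : G)) B = _
      rw [← conjSet_conjSet, (mem_setStab_iff_conjSet.mp s.2).2]
    · refine mem_setStab_iff_conjSet.mpr ⟨(k⁻¹ * j.1 : L).2, ?_⟩
      rw [Subgroup.coe_mul, Subgroup.coe_inv, ← conjSet_conjSet, j.2, conjSet_conjSet, inv_mul_cancel,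
        conjSet_one]
  have hfun : (fun g => (Nat.card L : ℂ)⁻¹ *
      ∑ B' ∈ (dadeSubsets A).filter (fun B' => q B' = q B), dadePart A L H α B' g) =
      (((-1 : ℤ) ^ (B.card + 1) : ℤ) : ℂ) • θ := by
    funext g
    rw [hfib, Finset.sum_congr rfl (g := fun _ => dadePart A L H α B g) fun B' hB' => ?_,
      Finset.sum_const, hθe, nsmul_eq_mul, Pi.smul_apply, smul_eq_mul]
    · have hc : ((q B).card : ℂ) * Nat.card (setStab L B) = Nat.card L := by exact_mod_cast hcard
      rw [inv_mul_eq_iff_eq_mul₀ (by exact_mod_cast Nat.card_pos.ne')]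
      push_cast
      rw [← hc]
      ring
    · obtain ⟨k, -, rfl⟩ := Finset.mem_image.mp hB'
      exact dadePart_conjSet hD hcf hBA k.2 g
  rw [hfun]
  exact isGeneralizedCharacter_zsmul hθ _

end CfsgLib.Char
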