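import Cfsg.Agent.Lib.Char.FrobeniusSchur

/-!
# The symmetric and alternating squares of a character

For a character `χ`, both `(χ(g)² + χ(g²))/2` and `(χ(g)² - χ(g²))/2` are characters.
-/

set_option autoImplicit false
set_option linter.unusedSectionVars false

namespace CfsgLib.Char

open scoped ComplexConjugate Matrix
open Representation Module Cfsg

universe u

variable {G : Type u} [Group G] [Finite G] {m : ℕ}

/-- The representation on bilinear forms. -/
noncomputable def formRep (ρ : Representation ℂ G (Fin m → ℂ)) :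
    Representation ℂ G (Matrix (Fin m) (Fin m) ℂ) where
  toFun g := formAct (LinearMap.toMatrix' (ρ g⁻¹))
  map_one' := by
    refine LinearMap.ext fun X => ?_
    show (LinearMap.toMatrix' (ρ 1⁻¹))ᵀ * X * LinearMap.toMatrix' (ρ 1⁻¹) = X
    rw [inv_one, map_one, LinearMap.toMatrix'_one]
    simp
  map_mul' g h := by rw [mul_inv_rev, map_mul, LinearMap.toMatrix'_mul, formAct_mul]

theorem formSwap_formRep (ρ : Representation ℂ G (Fin m → ℂ)) (g : G) :
    formSwap * formRep ρ g = formRep ρ g * formSwap := by
  refine LinearMap.ext fun X => ?_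
  show (_ᵀ * X * _)ᵀ = _ᵀ * Xᵀ * _
  rw [Matrix.transpose_mul, Matrix.transpose_mul, Matrix.transpose_transpose, Matrix.mul_assoc]

/-- The forms `B` with `Bᵀ = c B`, as a subrepresentation. -/
noncomputable def formEigen (ρ : Representation ℂ G (Fin m → ℂ)) (c : ℂ) :
    Subrepresentation (formRep ρ) :=
  ⟨LinearMap.ker (formSwap - c • 1), fun g B hB => by
    rw [LinearMap.mem_ker, LinearMap.sub_apply, sub_eq_zero] at hB ⊢
    simp only [LinearMap.smul_apply, Module.End.one_apply] at hB ⊢
    have h := LinearMap.congr_fun (formSwap_formRep ρ g) B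
    rw [Module.End.mul_apply, Module.End.mul_apply, hB, map_smul] at h
    exact h⟩

theorem character_formEigen (ρ : Representation ℂ G (Fin m → ℂ)) {c : ℂ} (hc : c * c = 1) (g : G) :
    (formEigen ρ c).toRepresentation.character g =
      (ρ.character g⁻¹ * ρ.character g⁻¹ + c * ρ.character (g⁻¹ * g⁻¹)) / 2 := by
  classical
  have := Fintype.ofFinite G
  set f : Module.End ℂ (Matrix (Fin m) (Fin m) ℂ) :=
    formRep ρ g * ((2 : ℂ)⁻¹ • (1 + c • formSwap)) with hf
  have hswap2 : ∀ B : Matrix (Fin m) (Fin m) ℂ, formSwap (formSwap B) = B := fun B =>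
    Matrix.transpose_transpose B
  have hmem : ∀ B, f B ∈ (formEigen ρ c).toSubmodule := by
    intro B
    refine (formEigen ρ c).apply_mem_toSubmodule g ?_
    show _ ∈ LinearMap.ker (formSwap - c • 1)
    rw [LinearMap.mem_ker, LinearMap.sub_apply, sub_eq_zero]
    simp only [LinearMap.smul_apply, Module.End.one_apply, LinearMap.add_apply, map_smul, map_add,
      hswap2, smul_add, smul_smul]
    rw [add_comm]
    congr 1 <;> congr 1 <;> linear_combination -(2 : ℂ)⁻¹ * hc
  have htr := LinearMap.trace_restrict_eq_of_forall_mem (formEigen ρ c).toSubmodule f hmem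
  have heq : LinearMap.restrict f (p := (formEigen ρ c).toSubmodule)
      (fun B _ => hmem B) = (formEigen ρ c).toRepresentation g := by
    refine LinearMap.ext fun B => Subtype.ext ?_
    show f B.1 = formRep ρ g B.1
    have hB : formSwap B.1 = c • B.1 := by
      have h := B.2
      have h' : B.1 ∈ LinearMap.ker (formSwap - c • (1 : Module.End ℂ (Matrix (Fin m) (Fin m) ℂ))) := h
      rw [LinearMap.mem_ker, LinearMap.sub_apply, sub_eq_zero] at h'
      exact h'
    rw [hf, Module.End.mul_apply]
    simp only [LinearMap.smul_apply, Module.End.one_apply, LinearMap.add_apply, hB, smul_smul, hc,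
      one_smul, smul_add, ← add_smul]
    rw [show (2 : ℂ)⁻¹ + (2 : ℂ)⁻¹ * c * c = 1 by linear_combination (2 : ℂ)⁻¹ * hc, one_smul]
  rw [Representation.character, ← heq, htr, hf, mul_smul_comm, map_smul, mul_add, mul_one,
    mul_smul_comm, map_add, map_smul, ← formSwap_formRep ρ g]
  show (2 : ℂ)⁻¹ • (LinearMap.trace ℂ _ (formAct (LinearMap.toMatrix' (ρ g⁻¹))) +
    c • LinearMap.trace ℂ _ (formSwap * formAct (LinearMap.toMatrix' (ρ g⁻¹)))) = _
  rw [trace_formAct, trace_formSwap_formAct, ← LinearMap.toMatrix'_mul, ← map_mul,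
    toMatrix'_trace, toMatrix'_trace, smul_eq_mul, smul_eq_mul]
  ring

theorem isCharacter_square {χ : G → ℂ} (hχ : IsCharacter G χ) {c : ℂ} (hc : c * c = 1) :
    IsCharacter G (fun g => (χ g * χ g + c * χ (g * g)) / 2) := by
  classical
  have := Fintype.ofFinite G
  obtain ⟨m, ρ, rfl⟩ := hχ
  have h := isCharacter_conj (isCharacter_character (formEigen ρ c).toRepresentation)
  have he : (fun g => conj ((formEigen ρ c).toRepresentation.character g)) =
      fun g => (ρ.character g * ρ.character g + c * ρ.character (g * g)) / 2 := by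
    funext g
    have hc' : conj c = c := by
      rcases mul_self_eq_one_iff.mp hc with e | e <;> simp [e]
    rw [character_formEigen ρ hc, ← mul_inv_rev, char_inv, char_inv]
    simp [hc', map_ofNat]
  exact he ▸ h

/-- The symmetric square. -/
theorem isCharacter_symSquare {χ : G → ℂ} (hχ : IsCharacter G χ) :
    IsCharacter G (fun g => (χ g * χ g + χ (g * g)) / 2) := by
  simpa using isCharacter_square hχ (c := 1) (one_mul 1)

/-- The alternating square. -/
theorem isCharacter_altSquare {χ : G → ℂ} (hχ : IsCharacter G χ) :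
    IsCharacter G (fun g => (χ g * χ g - χ (g * g)) / 2) := by
  simpa [sub_eq_add_neg] using isCharacter_square hχ (c := -1) (by norm_num)

end CfsgLib.Char
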