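import Mathlib
import Cfsg.Agent.Lib.Char.Degree
import Cfsg.Agent.Lib.Char.Integrality
import Cfsg.Agent.Lib.Char.Inertia
import Cfsg.Agent.Lib.Char.Linear
import Cfsg.Agent.Lib.Char.Determine

/-!
# Groups with all character degrees powers of one prime
-/

set_option autoImplicit false
set_option linter.unusedSectionVars false
set_option linter.style.haveILetI false

namespace CfsgLib.Char

open scoped ComplexConjugate
open Cfsg

universe u

/-- A group whose degrees are powers of `p` has an abelian normal `p`-complement. -/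
theorem exists_abelian_complement_of_degrees {p : ℕ} (hp : p.Prime) {G : Type u} [Group G] [Finite G]
    (hdeg : ∀ χ : IrrCharacter G, ∃ k : ℕ, (χ : G → ℂ) 1 = (p : ℂ) ^ k) :
    ∃ A : Subgroup G, A.Normal ∧ (∀ a ∈ A, ∀ b ∈ A, a * b = b * a) ∧ Nat.Coprime (Nat.card A) p ∧
      ∃ k : ℕ, A.index = p ^ k := by
  classical
  induction hn : Nat.card G using Nat.strong_induction_on generalizing G with
  | _ n ih =>
  subst hn
  haveI := Fact.mk hp
  haveI := Fintype.ofFinite G
  haveI := Fintype.ofFinite (IrrCharacter G)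
  have hdegN : ∀ χ : IrrCharacter G, ∃ k : ℕ, (χ : G → ℂ) 1 = ((p ^ k : ℕ) : ℂ) := fun χ =>
    (hdeg χ).imp fun k h => by rw [h, Nat.cast_pow]
  choose k hk using hdegN
  by_cases hpG : p ∣ Nat.card G
  · have hsum := sum_degree_sq (G := G)
    simp only [hk, ← Nat.cast_pow, ← Nat.cast_sum, Nat.cast_inj] at hsum
    have hlin : (commutator G).index = ∑ χ : IrrCharacter G, if k χ = 0 then 1 else 0 := by
      rw [← card_linear, Nat.card_eq_fintype_card, Fintype.card_subtype, Finset.card_filter]
      refine Finset.sum_congr rfl fun χ _ => if_congr ⟨fun h => ?_, fun h => ?_⟩ rfl rfl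
      · rw [hk, ← Nat.cast_one, Nat.cast_inj] at h
        rcases Nat.pow_eq_one.1 h with h' | h'
        · exact absurd h' hp.ne_one
        · exact h'
      · rw [hk, h, pow_zero, Nat.cast_one]
    have hpd : p ∣ (commutator G).index := by
      have h1 : p ∣ ∑ χ : IrrCharacter G, if k χ = 0 then 0 else (p ^ k χ) ^ 2 := Finset.dvd_sum fun χ _ => by
        split_ifs with h
        · exact dvd_zero p
        · exact (dvd_pow_self p h).trans (dvd_pow_self _ two_ne_zero)
      have h2 : (∑ χ : IrrCharacter G, if k χ = 0 then 1 else 0) +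
          (∑ χ : IrrCharacter G, if k χ = 0 then 0 else (p ^ k χ) ^ 2) = Nat.card G := by
        rw [← hsum, ← Finset.sum_add_distrib]
        exact Finset.sum_congr rfl fun χ _ => by split_ifs with h <;> simp [h]
      rw [hlin]
      exact (Nat.dvd_add_iff_left h1).2 (h2 ▸ hpG)
    -- a normal subgroup of p-power index
    rw [Subgroup.index_eq_card] at hpd
    obtain ⟨j, m, hm, hjm⟩ := Nat.exists_eq_pow_mul_and_not_dvd
      (Nat.card_pos (α := Abelianization G)).ne' p hp.ne_one
    set f : G →* Abelianization G := (powMonoidHom m).comp Abelianization.of with hf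
    set M := f.ker with hM
    have hrange : IsPGroup p f.range := by
      rintro ⟨_, x, rfl⟩
      refine ⟨j, Subtype.ext ?_⟩
      show (Abelianization.of x ^ m) ^ p ^ j = 1
      rw [← pow_mul, mul_comm, ← hjm, pow_card_eq_one']
    obtain ⟨i, hi⟩ := IsPGroup.iff_card.1 hrange
    have hidx : M.index = p ^ i := by rw [hM, Subgroup.index_ker, hi]
    have hMne : M ≠ ⊤ := by
      intro h
      haveI : Fintype (Abelianization G) := Fintype.ofFinite _
      obtain ⟨y, hy⟩ := exists_prime_orderOf_dvd_card' (G := Abelianization G) p hpd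
      obtain ⟨x, rfl⟩ := QuotientGroup.mk_surjective y
      have hx : f x = 1 := MonoidHom.mem_ker.1 (by rw [← hM, h]; exact Subgroup.mem_top x)
      exact hm (hy ▸ orderOf_dvd_of_pow_eq_one (show (Abelianization.of x) ^ m = 1 from hx))
    haveI := Fintype.ofFinite M
    have hMdeg : ∀ θ : IrrCharacter M, ∃ k : ℕ, (θ : M → ℂ) 1 = (p : ℂ) ^ k := by
      intro θ
      obtain ⟨a, ha0, ha⟩ := isIrrCharacter_degree θ.2
      obtain ⟨χ, hχ⟩ := exists_irr_inner_ne_zero (isCharacter_indFun M (isCharacter_of_isIrr θ.2))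
        (fun h => by
          have h1 := congrFun h 1
          rw [indFun_one, Pi.zero_apply, mul_eq_zero, Nat.cast_eq_zero] at h1
          exact h1.elim Subgroup.index_ne_zero_of_finite (irr_one_ne_zero θ))
      rw [classInner_indFun _ _ _ (isClassFunction_irr χ)] at hχ
      have hχ' : classInner (fun n : M => (χ : G → ℂ) n) (θ : M → ℂ) ≠ 0 := fun h => hχ (by
        rw [← classInner_conj, h, map_zero])
      obtain ⟨e, he⟩ := classInner_isCharacter (isCharacter_comp (isCharacter_irr χ) M.subtype)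
        (isCharacter_of_isIrr θ.2)
      have h := clifford_degree M χ.2 θ.2 hχ'
      rw [hk, ha, show classInner (fun n : M => (χ : G → ℂ) n) (θ : M → ℂ) = e from he, ← Nat.cast_mul,
        ← Nat.cast_mul, Nat.cast_inj] at h
      obtain ⟨l, -, hl⟩ := (Nat.dvd_prime_pow hp).1 (Dvd.intro_left _ h.symm)
      exact ⟨l, by rw [ha, hl, Nat.cast_pow]⟩
    have hlt : Nat.card M < Nat.card G := lt_of_le_of_ne
      (Nat.le_of_dvd Nat.card_pos (Subgroup.card_subgroup_dvd_card _))
      fun h => hMne (Subgroup.eq_top_of_card_eq M h)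
    obtain ⟨A, hAn, hAab, hAc, l, hl⟩ := ih _ hlt hMdeg rfl
    haveI := hAn
    have hmem : ∀ x : M, x ∈ A ↔ (orderOf x).Coprime p := by
      refine fun x => ⟨fun hx => hAc.of_dvd_left (Subgroup.orderOf_dvd_natCard A hx), fun hx => ?_⟩
      refine (QuotientGroup.eq_one_iff x).1 (orderOf_eq_one_iff.1
        (Nat.eq_one_of_dvd_coprimes (hx.pow_right l) (orderOf_map_dvd (QuotientGroup.mk' A) x) ?_))
      rw [← hl, Subgroup.index_eq_card]
      exact orderOf_dvd_natCard _
    have hconj : ∀ a ∈ A.map M.subtype, ∀ g : G, g * a * g⁻¹ ∈ A.map M.subtype := by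
      rintro _ ⟨a, ha, rfl⟩ g
      refine ⟨⟨g * a * g⁻¹, Subgroup.Normal.conj_mem inferInstance (a : G) a.2 g⟩, (hmem _).2 ?_, rfl⟩
      rw [Subgroup.orderOf_mk, show orderOf (g * (a : G) * g⁻¹) = orderOf (a : G) from
        (MulAut.conj g).orderOf_eq (a : G), Subgroup.orderOf_coe]
      exact (hmem a).1 ha
    refine ⟨A.map M.subtype, ⟨hconj⟩, ?_, ?_, l + i, ?_⟩
    · rintro _ ⟨a, ha, rfl⟩ _ ⟨b, hb, rfl⟩
      exact congrArg M.subtype (hAab a ha b hb)
    · rwa [Subgroup.card_map_of_injective M.subtype_injective]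
    · rw [Subgroup.index_map_subtype, hl, hidx, pow_add]
  · refine ⟨⊤, inferInstance, fun a _ b _ => comm_of_degree_one (fun χ => ?_) a b, ?_, 0, by simp⟩
    · have hd := degree_dvd_card χ (hk χ)
      rcases Nat.eq_zero_or_pos (k χ) with h | h
      · rw [hk, h, pow_zero, Nat.cast_one]
      · exact absurd ((dvd_pow_self p h.ne').trans hd) hpG
    · rw [Subgroup.card_top]
      exact (hp.coprime_iff_not_dvd.2 hpG).symm

theorem degrees_prime_power_of_abelian {p : ℕ} (hp : p.Prime) {G : Type u} [Group G] [Finite G]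
    (A : Subgroup G) [A.Normal] (hA : ∀ a ∈ A, ∀ b ∈ A, a * b = b * a) {l : ℕ} (hl : A.index = p ^ l)
    (χ : IrrCharacter G) : ∃ k : ℕ, (χ : G → ℂ) 1 = (p : ℂ) ^ k := by
  obtain ⟨d, -, hd⟩ := isIrrCharacter_degree χ.2
  obtain ⟨k, -, hk⟩ := (Nat.dvd_prime_pow hp).1 (hl ▸ degree_dvd_index_abelian G A hA _ χ.2 d hd)
  exact ⟨k, by rw [hd, hk, Nat.cast_pow]⟩

end CfsgLib.Char
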