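import Cfsg.Prelude.Def_DegreeGraph
import Cfsg.Agent.Lib.Char.FewSylow.QPower.Facts
import Cfsg.Agent.Lib.Block.ItoMichler
import Cfsg.Agent.Lib.Block.RegularIndicator
import Cfsg.Agent.Lib.LinDeg.Constituent

/-!
# Degree primes of nonsolvable groups

In a nonabelian simple group no two primes cover all the character degrees: at a central element
of a Sylow `r`-subgroup every character of `r`-power degree other than the trivial one vanishes,
and column orthogonality gives a congruence `1 ≡ 0` modulo the other prime.  Normal subgroups and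
quotients only shrink the set of degree primes.
-/

set_option autoImplicit false

namespace CfsgLib.Char.DegreePrimesTwo

open Cfsg CfsgLib
open scoped commutatorElement

universe u

theorem degreePrimes_normal {G : Type u} [Group G] [Finite G] (N : Subgroup G) [N.Normal] :
    degreePrimes N ⊆ degreePrimes G := by
  classical
  have := Fintype.ofFinite G
  have := Fintype.ofFinite N
  rintro r ⟨hr, d, ⟨θ, hd⟩, hrd⟩
  obtain ⟨χ, hχ⟩ := Block.ItoMichler.exists_irr_over N θ
  exact ⟨hr, _, ⟨χ, rfl⟩, hrd.trans (hd ▸ (Block.ItoMichler.dvd_of_constituent N χ θ hχ).1)⟩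

theorem degreePrimes_quotient {G : Type u} [Group G] [Finite G] (N : Subgroup G) [N.Normal] :
    degreePrimes (G ⧸ N) ⊆ degreePrimes G := by
  rintro r ⟨hr, d, ⟨θ, hd⟩, hrd⟩
  refine ⟨hr, _, ⟨⟨fun x => (θ : G ⧸ N → ℂ) (QuotientGroup.mk' N x),
    Char.isIrrCharacter_comp_surjective θ.2 _ (QuotientGroup.mk'_surjective N)⟩, rfl⟩, ?_⟩
  rw [← hd] at hrd
  simpa [charDegree] using hrd

/-- In a nonabelian simple group two primes do not cover the degrees. -/
theorem not_subset_pair_of_simple {G : Type u} [Group G] [Finite G] [IsSimpleGroup G]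
    (hperf : commutator G = ⊤) (r s : ℕ) (hr : r.Prime) (hrG : r ∣ Nat.card G) :
    ¬ degreePrimes G ⊆ {r, s} := by
  classical
  intro hsub
  have := Fintype.ofFinite G
  have := Fintype.ofFinite (IrrCharacter G)
  have : Fact r.Prime := ⟨hr⟩
  obtain ⟨P⟩ : Nonempty (Sylow r G) := inferInstance
  have hP1 : (P : Subgroup G) ≠ ⊥ := P.ne_bot_of_dvd_card hrG
  have : Nontrivial P := Subgroup.nontrivial_iff_ne_bot _ |>.mpr hP1
  have := P.isPGroup'.center_nontrivial
  obtain ⟨z, hz⟩ := exists_ne (1 : Subgroup.center P)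
  set x : G := ((z : P) : G) with hxdef
  have hx : x ≠ 1 := by
    intro h
    exact hz (Subtype.ext (Subtype.ext h))
  have hle : (P : Subgroup G) ≤ Subgroup.centralizer ({x} : Set G) := by
    intro y hy
    rw [Subgroup.mem_centralizer_singleton_iff]
    exact congrArg Subtype.val (Subgroup.mem_center_iff.mp z.2 ⟨y, hy⟩)
  have hidx : ¬ r ∣ (Subgroup.centralizer ({x} : Set G)).index := fun h =>
    P.not_dvd_index (h.trans (Subgroup.index_dvd_of_le hle))
  have key : ∀ χ : IrrCharacter G, χ ≠ Block.oneChar G →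
      ∃ a : ℂ, IsIntegral ℤ a ∧ (χ : G → ℂ) x * (χ : G → ℂ) 1 = (s : ℂ) * a ∧
        (¬ s.Prime → (χ : G → ℂ) x = 0) := by
    intro χ hne
    by_cases hsd : s.Prime ∧ s ∣ charDegree (χ : G → ℂ)
    · obtain ⟨hs, k, hk⟩ := hsd
      refine ⟨(χ : G → ℂ) x * (k : ℂ), (Block.irr_isIntegral χ x).mul ?_, ?_, fun h => absurd hs h⟩
      · exact isIntegral_algebraMap (R := ℤ) (x := (k : ℤ))
      · rw [Block.ItoMichler.one_eq_cast, hk]; push_cast; ring
    · have h0 : (χ : G → ℂ) x = 0 := by
        refine Char.FewSylow.QPower.value_eq_zero_of_coprime hperf hne hx ?_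
        refine Nat.coprime_of_dvd fun t ht htd hti => hidx ?_
        rcases hsub ⟨ht, _, ⟨χ, rfl⟩, htd⟩ with rfl | h
        · exact hti
        · exact absurd ⟨h ▸ ht, h ▸ htd⟩ hsd
      exact ⟨0, isIntegral_zero, by rw [h0]; ring, fun _ => h0⟩
  choose! a ha heq hzero using key
  have horth := Char.sum_irr_mul_conj x (1 : G)
  rw [if_neg (by rwa [isConj_one_left, eq_comm, ne_comm] at *)] at horth
  simp only [Char.conj_irr_one] at horth
  rw [← Finset.add_sum_erase _ _ (Finset.mem_univ (Block.oneChar G)),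
    Finset.sum_congr rfl fun χ hχ => heq χ (Finset.ne_of_mem_erase hχ), ← Finset.mul_sum] at horth
  have hone : (Block.oneChar G : G → ℂ) x * (Block.oneChar G : G → ℂ) 1 = 1 := by
    simp [Block.oneChar]
  rw [hone] at horth
  set A := ∑ χ ∈ (Finset.univ : Finset (IrrCharacter G)).erase (Block.oneChar G), a χ with hA
  by_cases hs : s.Prime
  · have hs0 : (s : ℂ) ≠ 0 := by exact_mod_cast hs.ne_zero
    have h1 : (((-1 : ℤ) : ℂ)) / (s : ℂ) = A := by
      rw [div_eq_iff hs0]; push_cast; linear_combination -horth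
    have h2 := CfsgLib.LinDeg.dvd_of_isIntegral_div hs.ne_zero (a := -1)
      (h1 ▸ IsIntegral.sum _ fun χ hχ => ha χ (Finset.ne_of_mem_erase hχ))
    rw [Int.natCast_dvd] at h2
    exact hs.ne_one (Nat.dvd_one.mp h2)
  · have : (s : ℂ) * A = 0 := by
      rw [hA, Finset.mul_sum]
      refine Finset.sum_eq_zero fun χ hχ => ?_
      rw [← heq χ (Finset.ne_of_mem_erase hχ), hzero χ (Finset.ne_of_mem_erase hχ) hs, zero_mul]
    rw [this, add_zero] at horth
    exact one_ne_zero horth

theorem isSolvable_of_subset_pair : ∀ (n : ℕ) (G : Type u) [Group G] [Finite G], Nat.card G = n →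
    ∀ p q : ℕ, degreePrimes G ⊆ {p, q} → Group.IsSolvable G := by
  intro n
  induction n using Nat.strong_induction_on with
  | _ n ih =>
    intro G _ _ hn p q hsub
    subst hn
    by_cases hprop : ∃ N : Subgroup G, N.Normal ∧ N ≠ ⊥ ∧ N ≠ ⊤
    · obtain ⟨N, hN, hb, ht⟩ := hprop
      have hnt : 1 < Nat.card N := Subgroup.one_lt_card_iff_ne_bot N |>.mpr hb
      have hidx : 1 < N.index := by
        have := Subgroup.index_ne_zero_of_finite (H := N)
        have : N.index ≠ 1 := fun h => ht (Subgroup.index_eq_one.mp h)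
        omega
      have hc := N.card_mul_index
      have hq : Nat.card (G ⧸ N) = N.index := rfl
      have hNs := ih (Nat.card N) (by nlinarith) N rfl p q ((degreePrimes_normal N).trans hsub)
      have hQs := ih (Nat.card (G ⧸ N)) (by rw [hq]; nlinarith) (G ⧸ N) rfl p q
        ((degreePrimes_quotient N).trans hsub)
      exact Group.isSolvable_of_ker_le_range N.subtype (QuotientGroup.mk' N)
        (by rw [QuotientGroup.ker_mk', Subgroup.range_subtype])
    · push Not at hprop
      rcases subsingleton_or_nontrivial G with h | h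
      · infer_instance
      have : IsSimpleGroup G :=
        ⟨fun H hH => (em (H = ⊥)).imp_right fun h' => hprop H hH h'⟩
      by_contra hns
      have hperf : commutator G = ⊤ := by
        refine ((commutator G).normal_of_characteristic.eq_bot_or_eq_top).resolve_left fun h' => ?_
        exact hns (IsSimpleGroup.comm_iff_isSolvable.mp fun x y => by
          have h1 : ⁅x, y⁆ ∈ commutator G := by
            rw [commutator_def]; exact Subgroup.commutator_mem_commutator (Subgroup.mem_top x) (Subgroup.mem_top y)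
          rw [h', Subgroup.mem_bot] at h1
          exact commutatorElement_eq_one_iff_mul_comm.mp h1)
      have hdp : ∀ r ∈ degreePrimes G, r ∣ Nat.card G := by
        rintro r ⟨hr, d, ⟨χ, hd⟩, hrd⟩
        exact hrd.trans (Char.degree_dvd_card χ (by rw [← hd, Block.ItoMichler.one_eq_cast]))
      have hpair : ∃ r s : ℕ, r.Prime ∧ r ∣ Nat.card G ∧ degreePrimes G ⊆ {r, s} := by
        by_cases hp : p.Prime ∧ p ∣ Nat.card G
        · exact ⟨p, q, hp.1, hp.2, hsub⟩
        by_cases hq : q.Prime ∧ q ∣ Nat.card G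
        · exact ⟨q, p, hq.1, hq.2, fun x hx => (hsub hx).symm⟩
        obtain ⟨r, hr, hrd⟩ := Nat.exists_prime_and_dvd (Finite.one_lt_card (α := G)).ne'
        refine ⟨r, r, hr, hrd, fun x hx => ?_⟩
        rcases hsub hx with rfl | h'
        · exact absurd ⟨hx.1, hdp _ hx⟩ hp
        · exact absurd ⟨h' ▸ hx.1, h' ▸ hdp _ hx⟩ hq
      obtain ⟨r, s, hr, hrG, hrs⟩ := hpair
      exact not_subset_pair_of_simple hperf r s hr hrG hrs

end CfsgLib.Char.DegreePrimesTwo
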