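/-
A group of order sixty with a degree divisible by five is the alternating group of degree five.
-/
import Cfsg.Agent.Lib.Char.Burnside
import Cfsg.Agent.Lib.Char.Linear
import Cfsg.Agent.Lib.Char.Degree
import Cfsg.Agent.Lib.Char.Orthogonality
import Cfsg.Agent.Lib.Coprime.Hall
import Cfsg.Agent.Lib.Invol.SimpleSixty
import Cfsg.Agent.Lib.Block.Cartan
import Cfsg.Prelude.Def_DegreeGraph
import Mathlib.GroupTheory.SpecificGroups.Alternating
import Mathlib.GroupTheory.SpecificGroups.ZGroup
import Mathlib.Data.Nat.Squarefree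

set_option autoImplicit false

namespace CfsgLib.Char.DegreeSixty

open Cfsg

theorem squares_ne : ∀ a ∈ [0, 2, 3, 4, 6], ∀ b ∈ [0, 2, 3, 4, 6], ∀ c ∈ [0, 2, 3, 4, 6],
    ∀ d ∈ [0, 2, 3, 4, 6], (a : ℕ) * a + b * b + c * c + d * d ≠ 59 := by
  decide +kernel

/-- Representatives of the classes of the alternating group of degree five. -/
def repFive : Fin 5 → Equiv.Perm (Fin 5) :=
  ![1, Equiv.swap 0 1 * Equiv.swap 2 3, Equiv.swap 0 1 * Equiv.swap 1 2,
    Equiv.swap 0 1 * Equiv.swap 1 2 * Equiv.swap 2 3 * Equiv.swap 3 4,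
    Equiv.swap 0 2 * Equiv.swap 2 1 * Equiv.swap 1 3 * Equiv.swap 3 4]

theorem rep_check : ∀ g : alternatingGroup (Fin 5), ∃ i : Fin 5, ∃ h : alternatingGroup (Fin 5),
    (h : Equiv.Perm (Fin 5)) * g = repFive i * h := by
  decide +kernel

theorem rep_even : ∀ i, Equiv.Perm.sign (repFive i) = 1 := by decide +kernel

theorem card_classes_le : Nat.card (ConjClasses (alternatingGroup (Fin 5))) ≤ 5 := by
  refine (Nat.card_le_card_of_surjective
    (fun i : Fin 5 => ConjClasses.mk (⟨repFive i, rep_even i⟩ : alternatingGroup (Fin 5))) ?_).trans_eq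
    (Nat.card_fin 5)
  intro c
  obtain ⟨g, rfl⟩ := ConjClasses.exists_rep c
  obtain ⟨i, h, e⟩ := rep_check g
  refine ⟨i, (ConjClasses.mk_eq_mk_iff_isConj.2 (isConj_iff.2 ⟨h, ?_⟩)).symm⟩
  refine mul_inv_eq_iff_eq_mul.2 (Subtype.ext ?_)
  simpa using e

theorem five_mem : 5 ∈ degreePrimes (alternatingGroup (Fin 5)) := by
  classical
  let A := alternatingGroup (Fin 5)
  have hA : Nat.card A = 60 := by
    rw [nat_card_alternatingGroup, Nat.card_fin]; rfl
  haveI := alternatingGroup.isSimpleGroup_five
  have hperf : commutator A = ⊤ := by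
    refine (IsSimpleGroup.eq_bot_or_eq_top_of_normal _ inferInstance).resolve_left fun h => ?_
    exact Invol.not_comm_of_card_sixty hA
      ⟨⟨fun a b => commutatorElement_eq_one_iff_mul_comm.1 ((Subgroup.eq_bot_iff_forall _).1 h _
        (Subgroup.commutator_mem_commutator (Subgroup.mem_top a) (Subgroup.mem_top b)))⟩⟩
  by_contra hc
  haveI : Finite (IrrCharacter A) := Nat.finite_of_card_ne_zero (by
    rw [card_irr_eq_card_conjClasses]; exact Nat.card_pos.ne')
  haveI := Fintype.ofFinite (IrrCharacter A)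
  let d : IrrCharacter A → ℕ := fun χ => charDegree (χ : A → ℂ)
  have hd : ∀ χ : IrrCharacter A, (χ : A → ℂ) 1 = d χ := fun χ => (Block.charDegree_eq χ).1
  have hsum : ∑ χ, d χ * d χ = 60 := by
    have h := sum_degree_sq (G := A)
    simp only [hd, hA, sq] at h
    exact_mod_cast h
  have hlin : Nat.card {χ : IrrCharacter A // d χ = 1} = 1 := by
    refine Eq.trans ?_ (show (commutator A).index = 1 by rw [hperf, Subgroup.index_top])
    rw [← card_linear]
    refine Nat.card_congr (Equiv.subtypeEquivRight fun χ => ?_)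
    rw [hd, Nat.cast_eq_one]
  obtain ⟨⟨χ₀, hχ₀⟩, huniq⟩ := Nat.card_eq_one_iff_exists.1 hlin
  have hval : ∀ χ, χ ≠ χ₀ → d χ ∈ [0, 2, 3, 4, 6] := by
    intro χ hχ
    have h1 : d χ ≠ 1 := fun e => hχ (congrArg Subtype.val (huniq ⟨χ, e⟩))
    have hdvd : d χ ∣ 60 := hA ▸ Block.charDegree_dvd χ
    have hle : d χ * d χ ≤ 60 := hsum ▸ Finset.single_le_sum (f := fun χ => d χ * d χ)
      (fun _ _ => Nat.zero_le _) (Finset.mem_univ χ)
    have h5 : ¬ 5 ∣ d χ := fun h => hc ⟨by norm_num, d χ, ⟨χ, rfl⟩, h⟩
    have h8 : d χ < 8 := by nlinarith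
    interval_cases hv : d χ <;> simp_all
  have hcard : (Finset.univ.erase χ₀).card ≤ 4 := by
    rw [Finset.card_erase_of_mem (Finset.mem_univ _), Finset.card_univ, ← Nat.card_eq_fintype_card,
      card_irr_eq_card_conjClasses]
    exact Nat.sub_le_sub_right card_classes_le 1
  obtain ⟨l, hl, hnd⟩ : ∃ l : List (IrrCharacter A), l.toFinset = Finset.univ.erase χ₀ ∧ l.Nodup :=
    ⟨_, Finset.toList_toFinset _, Finset.nodup_toList _⟩
  have hrest : ((l.map fun χ => d χ * d χ).sum) = 59 := by
    have h := Finset.add_sum_erase Finset.univ (fun χ => d χ * d χ) (Finset.mem_univ χ₀)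
    rw [hsum, ← hl, List.sum_toFinset _ hnd] at h
    rw [hχ₀] at h
    omega
  have hlen : l.length ≤ 4 := by
    rw [← List.toFinset_card_of_nodup hnd, hl]; exact hcard
  have hv : ∀ χ ∈ l, d χ ∈ [0, 2, 3, 4, 6] := fun χ hχ =>
    hval χ (Finset.ne_of_mem_erase (hl ▸ List.mem_toFinset.2 hχ))
  have hz : (0 : ℕ) ∈ [0, 2, 3, 4, 6] := by simp
  match l, hlen, hrest, hv with
  | [], _, h, _ => simp at h
  | [a], _, h, hv =>
    exact squares_ne _ (hv a (by simp)) _ hz _ hz _ hz (by simpa using h)
  | [a, b], _, h, hv =>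
    exact squares_ne _ (hv a (by simp)) _ (hv b (by simp)) _ hz _ hz (by simpa [add_assoc] using h)
  | [a, b, c], _, h, hv =>
    exact squares_ne _ (hv a (by simp)) _ (hv b (by simp)) _ (hv c (by simp)) _ hz (by simpa [add_assoc] using h)
  | [a, b, c, e], _, h, hv =>
    exact squares_ne _ (hv a (by simp)) _ (hv b (by simp)) _ (hv c (by simp)) _ (hv e (by simp))
      (by simpa [add_assoc] using h)
  | _ :: _ :: _ :: _ :: _ :: _, hlen, _, _ => simp only [List.length_cons] at hlen; omega

/-- A solvable group of order sixty has no degree divisible by five. -/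
theorem not_five_dvd {G : Type*} [Group G] [Finite G] [Group.IsSolvable G] (h : Nat.card G = 60)
    (χ : IrrCharacter G) : ¬ 5 ∣ charDegree (χ : G → ℂ) := by
  intro h5
  haveI : Fact (Nat.Prime 5) := ⟨by norm_num⟩
  obtain ⟨H, hH⟩ := Coprime.exists_hall (G := G) (m := 15) (n := 4) h (by norm_num)
  haveI : IsZGroup H := IsZGroup.of_squarefree (by
    rw [hH]; decide +kernel)
  obtain ⟨x, hx⟩ := exists_prime_orderOf_dvd_card' (G := H) 5 (by rw [hH]; norm_num)
  have hxn : (Subgroup.zpowers x).Normal := by
    obtain ⟨Q⟩ : Nonempty (Sylow 5 H) := inferInstance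
    have hQ : Nat.card (Q : Subgroup H) = 5 := by
      rw [Q.card_eq_multiplicity, hH]
      rw [show (15 : ℕ) = 5 * 3 from rfl, Nat.factorization_mul (by norm_num) (by norm_num), Finsupp.add_apply,
        Nat.Prime.factorization_self (by norm_num), Nat.factorization_eq_zero_of_not_dvd (by norm_num)]
      rfl
    have hmod := card_sylow_modEq_one 5 H
    have hdvd := Q.card_dvd_index
    have hidx : (Q : Subgroup H).index = 3 := by
      have := (Q : Subgroup H).index_mul_card
      rw [hQ, hH] at this; omega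
    rw [hidx] at hdvd
    have h1 : Nat.card (Sylow 5 H) = 1 := by
      rcases (Nat.dvd_prime Nat.prime_three).1 hdvd with e | e
      · exact e
      · rw [e] at hmod; exact absurd hmod (by decide)
    haveI : Subsingleton (Sylow 5 H) := (Nat.card_eq_one_iff_unique.1 h1).1
    haveI := Q.normal_of_subsingleton
    obtain ⟨R, hR⟩ := (IsPGroup.of_card (p := 5) (n := 1) (by rw [Nat.card_zpowers, hx, pow_one]) :
      IsPGroup 5 (Subgroup.zpowers x)).exists_le_sylow
    rw [Subsingleton.elim R Q] at hR
    rw [Subgroup.eq_of_le_of_card_ge hR (by rw [hQ, Nat.card_zpowers, hx])]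
    infer_instance
  let P : Subgroup G := (Subgroup.zpowers x).map H.subtype
  have hPc : Nat.card P = 5 := by
    rw [← Nat.card_congr ((Subgroup.zpowers x).equivMapOfInjective _ H.subtype_injective).toEquiv,
      Nat.card_zpowers, hx]
  have hHN : H ≤ Subgroup.normalizer (P : Set G) := by
    have e : H = (Subgroup.normalizer ((Subgroup.zpowers x : Subgroup H) : Set H)).map H.subtype := by
      rw [Subgroup.normalizer_eq_top, ← MonoidHom.range_eq_map, Subgroup.range_subtype]
    conv_lhs => rw [e]
    exact Subgroup.le_normalizer_map _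
  obtain ⟨S, hS⟩ := (IsPGroup.of_card (p := 5) (n := 1) (by rw [hPc, pow_one]) : IsPGroup 5 P).exists_le_sylow
  have hSc : Nat.card (S : Subgroup G) = 5 := by
    rw [S.card_eq_multiplicity, h]
    rw [show (60 : ℕ) = 5 * 12 from rfl, Nat.factorization_mul (by norm_num) (by norm_num), Finsupp.add_apply,
      Nat.Prime.factorization_self (by norm_num), Nat.factorization_eq_zero_of_not_dvd (by norm_num)]
    rfl
  have hPS : P = S := Subgroup.eq_of_le_of_card_ge hS (by rw [hPc, hSc])
  have hdvd : Nat.card (Sylow 5 G) ∣ 4 := by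
    rw [Sylow.card_eq_index_normalizer S]
    show (Subgroup.normalizer ((S : Subgroup G) : Set G)).index ∣ 4
    rw [← hPS]
    have h1 : H.index = 4 := by
      have := H.index_mul_card; rw [hH, h] at this; omega
    rw [← h1]
    exact Subgroup.index_dvd_of_le hHN
  have hmod := card_sylow_modEq_one 5 G
  have h1 : Nat.card (Sylow 5 G) = 1 := by
    have := Nat.le_of_dvd (by norm_num) hdvd
    interval_cases hn : Nat.card (Sylow 5 G)
    · omega
    · rfl
    all_goals exact absurd hmod (by decide)
  haveI : Subsingleton (Sylow 5 G) := (Nat.card_eq_one_iff_unique.1 h1).1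
  haveI := S.normal_of_subsingleton
  haveI : IsCyclic (S : Subgroup G) := isCyclic_of_prime_card hSc
  have hd := Char.degree_dvd_index_abelian G (S : Subgroup G) (fun a ha b hb => by
      letI := IsCyclic.commGroup (α := (S : Subgroup G))
      exact congrArg Subtype.val (mul_comm (⟨a, ha⟩ : (S : Subgroup G)) ⟨b, hb⟩))
    χ χ.2 _ (Block.charDegree_eq χ).1
  have hidx : (S : Subgroup G).index = 12 := by
    have := (S : Subgroup G).index_mul_card; rw [hSc, h] at this; omega
  rw [hidx] at hd
  exact absurd (h5.trans hd) (by norm_num)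

/-- The statement on the degree graph. -/
theorem main {G : Type*} [Group G] [Finite G] (h : Nat.card G = 60)
    (hΓ : degreePrimes G = degreePrimes (alternatingGroup (Fin 5))) :
    Nonempty (G ≃* alternatingGroup (Fin 5)) := by
  classical
  obtain ⟨-, d, ⟨χ, rfl⟩, h5⟩ : (5 : ℕ) ∈ degreePrimes G := hΓ ▸ five_mem
  have hns : ¬ Group.IsSolvable G := fun hs => by
    haveI := hs
    exact not_five_dvd h χ h5
  haveI : Nontrivial G := Finite.one_lt_card_iff_nontrivial.1 (by omega)
  have hsmall : ∀ {K : Type _} [Group K] [Finite K], Nat.card K ∣ 60 → Nat.card K < 60 → Group.IsSolvable K := by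
    intro K _ _ hd hlt
    have : Nat.card K ∈ [4, 12, 20] ∨ Squarefree (Nat.card K) := by
      have hmem : Nat.card K ∈ Nat.divisors 60 := Nat.mem_divisors.2 ⟨hd, by norm_num⟩
      rw [show Nat.divisors 60 = {1, 2, 3, 4, 5, 6, 10, 12, 15, 20, 30, 60} by decide +kernel] at hmem
      simp only [Finset.mem_insert, Finset.mem_singleton] at hmem
      rcases hmem with e | e | e | e | e | e | e | e | e | e | e | e <;> rw [e] at hlt ⊢ <;>
        first
        | omega
        | (left; simp; done)
        | (right; decide +kernel)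
    rcases this with e | e
    · simp only [List.mem_cons, List.not_mem_nil, or_false] at e
      rcases e with e | e | e
      · exact isSolvable_of_card_two_primes Nat.prime_two Nat.prime_three K 2 0 (by rw [e]; rfl)
      · exact isSolvable_of_card_two_primes Nat.prime_two Nat.prime_three K 2 1 (by rw [e]; rfl)
      · exact isSolvable_of_card_two_primes Nat.prime_two Nat.prime_five K 2 1 (by rw [e]; rfl)
    · haveI := IsZGroup.of_squarefree e
      infer_instance
  haveI : IsSimpleGroup G := ⟨fun N hN => by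
    by_contra hc
    push Not at hc
    haveI := hN
    haveI : Group.IsSolvable N := hsmall (h ▸ Subgroup.card_subgroup_dvd_card N) (by
      rw [← h]
      exact lt_of_le_of_ne (Subgroup.card_le_card_group N) fun e => hc.2 (Subgroup.eq_top_of_card_eq N e))
    haveI : Group.IsSolvable (G ⧸ N) := hsmall (h ▸ Subgroup.card_quotient_dvd_card N)
      (h ▸ Coprime.card_quotient_lt hc.1)
    exact hns (Group.isSolvable_of_ker_le_range N.subtype (QuotientGroup.mk' N)
      (by rw [QuotientGroup.ker_mk', Subgroup.range_subtype]))⟩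
  exact Invol.mulEquiv_alternating_five h

end CfsgLib.Char.DegreeSixty
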