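import Cfsg.Agent.Lib.Char.ExtremelyType
import Cfsg.Agent.Lib.PGroup.ClassSize

/-!
# Primitive groups with one class of derangements
-/

set_option autoImplicit false
set_option linter.unusedSectionVars false
set_option linter.style.haveILetI false

namespace CfsgLib.Char.DerangementClass

open MulAction Subgroup CfsgLib.Char.ExtremelyType

universe u v

variable {G : Type u} [Group G] [Finite G] {Ω : Type v} [MulAction G Ω]

/-- Fixed-point-free. -/
def Der (Ω : Type v) [MulAction G Ω] (g : G) : Prop := ∀ ω : Ω, g • ω ≠ ω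

theorem Der.conj {g : G} (h : Der Ω g) (x : G) : Der Ω (x * g * x⁻¹) := fun ω e => h (x⁻¹ • ω) (by
  rw [mul_smul, mul_smul] at e
  exact (inv_smul_eq_iff.2 e.symm).symm)

theorem der_of_isConj {a b : G} (h : IsConj a b) (hd : Der Ω a) : Der Ω b := by
  obtain ⟨x, rfl⟩ := isConj_iff.1 h
  exact hd.conj x

theorem exists_der [Finite Ω] [IsPretransitive G Ω] [Nontrivial Ω] : ∃ g : G, Der Ω g := by
  classical
  haveI := Fintype.ofFinite G
  haveI := Fintype.ofFinite Ω
  by_contra hall
  simp only [Der, ne_eq] at hall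
  push Not at hall
  haveI : Fintype (orbitRel.Quotient G Ω) := Fintype.ofFinite _
  have h := sum_card_fixedBy_eq_card_orbits_mul_card_group G Ω
  have hsub : Subsingleton (orbitRel.Quotient G Ω) := (pretransitive_iff_subsingleton_quotient G Ω).1 ‹_›
  have h1 : Fintype.card (orbitRel.Quotient G Ω) ≤ 1 := Fintype.card_le_one_iff_subsingleton.2 hsub
  have h2 : Fintype.card G < ∑ g : G, Fintype.card (fixedBy Ω g) := by
    rw [Fintype.card, Finset.card_eq_sum_ones]
    refine Finset.sum_lt_sum (fun g _ => ?_) ⟨1, Finset.mem_univ _, ?_⟩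
    · obtain ⟨ω, hω⟩ := hall g
      exact Fintype.card_pos_iff.2 ⟨⟨ω, hω⟩⟩
    · rw [Fintype.one_lt_card_iff_nontrivial]
      obtain ⟨a, b, hab⟩ := exists_pair_ne Ω
      exact ⟨⟨a, one_smul G a⟩, ⟨b, one_smul G b⟩, fun e => hab (congrArg Subtype.val e)⟩
  nlinarith

/-- All conjugates of a proper subgroup miss some element. -/
theorem exists_notMem_conj (P : Subgroup G) (hP : P ≠ ⊤) :
    ∃ t : G, ∀ x : G, x⁻¹ * t * x ∉ P := by
  haveI : Nontrivial (G ⧸ P) := QuotientGroup.nontrivial_iff.2 hP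
  obtain ⟨t, ht⟩ := exists_der (G := G) (Ω := G ⧸ P)
  refine ⟨t, fun x hx => ht (QuotientGroup.mk x) ?_⟩
  rw [Quotient.smul_mk, smul_eq_mul]
  refine QuotientGroup.eq.2 ?_
  have := inv_mem hx
  simpa [mul_inv_rev, mul_assoc] using this

variable [Fintype Ω] [FaithfulSMul G Ω]

theorem abelian_of_not_almost_simple (hprim : IsPreprimitive G Ω) [Nontrivial Ω]
    (hone : ∀ a b : G, Der Ω a → Der Ω b → IsConj a b)
    (hnas : ¬ ∃ T : Subgroup G, T.Normal ∧ IsSimpleGroup T ∧ ¬ IsMulCommutative T ∧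
      Subgroup.centralizer (T : Set G) = ⊥) :
    ∃ N : Subgroup G, N.Normal ∧ N ≠ ⊥ ∧ (∀ x ∈ N, ∀ y ∈ N, x * y = y * x) ∧
      IsPretransitive N Ω := by
  classical
  obtain ⟨α, ω, hαω⟩ := exists_pair_ne Ω
  haveI := hprim
  have htop : (⊤ : Subgroup G) ≠ ⊥ := by
    intro e
    obtain ⟨g, hg⟩ := exists_smul_eq G α ω
    have h1 : g = 1 := by rw [← mem_bot, ← e]; exact mem_top g
    rw [h1, one_smul] at hg
    exact hαω hg
  obtain ⟨N, hNn, hNb, -, hNmin⟩ :=
    CfsgLib.Coprime.exists_minimal_normal_le (N := (⊤ : Subgroup G)) htop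
  have htr : ∀ {M : Subgroup G}, M.Normal → M ≠ ⊥ → IsPretransitive M Ω := by
    intro M hMn hM
    haveI := hMn
    refine IsQuasiPreprimitive.isPretransitive_of_normal fun e => hM ?_
    rw [eq_bot_iff_forall]
    intro n hn
    refine eq_of_smul_eq_smul fun x : Ω => ?_
    rw [one_smul]
    exact Set.eq_univ_iff_forall.1 e x ⟨n, hn⟩
  haveI := htr hNn hNb
  haveI := hNn
  by_cases hab : ∀ x ∈ N, ∀ y ∈ N, x * y = y * x
  · exact ⟨N, hNn, hNb, hab, htr hNn hNb⟩
  exfalso
  have hNder : ∀ {M : Subgroup G}, M.Normal → M ≠ ⊥ → ∃ g ∈ M, Der Ω g := by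
    intro M hMn hM
    haveI := htr hMn hM
    obtain ⟨g, hg⟩ := exists_der (G := M) (Ω := Ω)
    exact ⟨g, g.2, hg⟩
  have hcent : centralizer (N : Set G) = ⊥ := by
    by_contra hC
    haveI : (centralizer (N : Set G)).Normal := Subgroup.normal_centralizer
    obtain ⟨g, hg, hgd⟩ := hNder hNn hNb
    obtain ⟨k, hk, hkd⟩ := hNder (M := centralizer (N : Set G)) inferInstance hC
    obtain ⟨x, hx⟩ := isConj_iff.1 (hone g k hgd hkd)
    have hkN : k ∈ N := hx ▸ hNn.conj_mem g hg x
    have hk1 : k ≠ 1 := fun e => hkd α (by rw [e, one_smul])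
    rcases hNmin (centralizer (N : Set G) ⊓ N) inferInstance inf_le_right with e | e
    · exact hk1 (by rw [← mem_bot, ← e]; exact Subgroup.mem_inf.2 ⟨hk, hkN⟩)
    · exact hab fun a ha b hb => mem_centralizer_iff.1 ((inf_eq_right.1 e) hb) a ha
  have hns : ¬ IsSimpleGroup N := fun hs => hnas ⟨N, hNn, hs, fun hc =>
    hab fun x hx y hy => congrArg Subtype.val (hc.is_comm.comm ⟨x, hx⟩ ⟨y, hy⟩), hcent⟩
  obtain ⟨T, hT⟩ := exists_minIn hNb
  have hc : Conf G N T := ⟨⟨hNn, hNb, hNmin⟩, hcent, hT, hns⟩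
  -- a second component
  obtain ⟨k, hk⟩ : ∃ k : G, cj k T ≠ T := by
    by_contra hall
    push Not at hall
    have hTN : T = N := by rw [← hc.sup_eq]; simp only [hall, ciSup_const]
    apply hns
    haveI : Nontrivial N := (nontrivial_iff_ne_bot N).2 hNb
    refine ⟨fun U hU => ?_⟩
    rcases hc.simple 1 (U := U.map N.subtype) (by rw [cj_one, hTN]; exact map_subtype_le U)
      (le_normalizer_of_conj fun x hx y hy => by
        obtain ⟨u, hu, rfl⟩ := hy
        rw [cj_one, hTN] at hx
        exact ⟨⟨x, hx⟩ * u * ⟨x, hx⟩⁻¹, hU.conj_mem u hu _, rfl⟩) with e | e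
    · left; exact (map_eq_bot_iff_of_injective _ N.subtype_injective).1 e
    · right
      rw [cj_one, hTN] at e
      exact map_injective N.subtype_injective (by rw [e, ← MonoidHom.range_eq_map, range_subtype])
  set B := N ⊓ stabilizer G α with hBdef
  have hfixN : ∀ g ∈ N, ¬ Der Ω g → ∃ m ∈ N, m⁻¹ * g * m ∈ B := by
    intro g hg hd
    simp only [Der, ne_eq] at hd
    push Not at hd
    obtain ⟨z, hz⟩ := hd
    obtain ⟨m, hm⟩ := exists_smul_eq N α z
    refine ⟨m, m.2, Subgroup.mem_inf.2 ⟨mul_mem (mul_mem (inv_mem m.2) hg) m.2, ?_⟩⟩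
    rw [mem_stabilizer_iff, mul_smul, mul_smul, show (m : G) • α = z from hm, hz,
      inv_smul_eq_iff]
    exact hm.symm
  have hab' : ¬ ∀ a ∈ T, ∀ b ∈ T, Commute a b := fun h =>
    hT.ne (le_bot_iff.1 fun t ht => mem_bot.2 (hc.center_eq 1 (by rwa [cj_one]) fun y hy =>
      h y (by rwa [cj_one] at hy) t ht))
  by_cases hBT : B ⊓ T = ⊥
  · -- all non-trivial elements of `T` are conjugate derangements
    have hder : ∀ t ∈ T, t ≠ 1 → Der Ω t := by
      intro t ht ht1
      by_contra hd
      obtain ⟨m, hm, hmB⟩ := hfixN t (hT.le ht) hd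
      have hmT : m⁻¹ * t * m ∈ T := by
        have := conj_mem_of_le_normalizer hT.norm (inv_mem hm) ht
        rwa [inv_inv] at this
      have h1 : m⁻¹ * t * m = 1 := by rw [← mem_bot, ← hBT]; exact Subgroup.mem_inf.2 ⟨hmB, hmT⟩
      refine ht1 ?_
      calc t = m * (m⁻¹ * t * m) * m⁻¹ := by group
        _ = 1 := by rw [h1]; group
    haveI : Nontrivial T := (nontrivial_iff_ne_bot T).2 hT.ne
    obtain ⟨p, hp, hpT⟩ := Nat.exists_prime_and_dvd (n := Nat.card T)
      fun h => hT.ne (card_eq_one.1 h)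
    haveI := Fact.mk hp
    obtain ⟨a, ha⟩ := exists_prime_orderOf_dvd_card' p hpT
    have ha1 : a ≠ 1 := fun e => hp.ne_one (by rw [← ha, e, orderOf_one])
    have hpg : IsPGroup p T := by
      intro t
      by_cases ht1 : t = 1
      · exact ⟨0, by rw [ht1, one_pow]⟩
      refine ⟨1, ?_⟩
      obtain ⟨x, hx⟩ := isConj_iff.1 (hone (a : G) t (hder a a.2 fun e => ha1 (Subtype.ext e))
        (hder t t.2 fun e => ht1 (Subtype.ext e)))
      refine Subtype.ext ?_
      rw [pow_one, SubgroupClass.coe_pow, ← hx, conj_pow, ← SubgroupClass.coe_pow, ← ha,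
        pow_orderOf_eq_one, OneMemClass.coe_one, mul_one, mul_inv_cancel]
    have hz := hpg.center_nontrivial
    obtain ⟨z, hz1⟩ := exists_ne (1 : center T)
    refine hz1 (Subtype.ext (Subtype.ext ?_))
    refine hc.center_eq 1 (by rw [cj_one]; exact z.1.2) fun y hy => ?_
    rw [cj_one] at hy
    exact congrArg Subtype.val (mem_center_iff.1 z.2 ⟨y, hy⟩)
  · -- a derangement in two components
    let P : Subgroup T :=
      { carrier := {x | ∃ b ∈ B, ∀ y ∈ T, Commute (b⁻¹ * (x : G)) y}
        one_mem' := ⟨1, one_mem _, fun y _ => by simp⟩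
        mul_mem' := fun {x x'} ⟨b, hb, hbx⟩ ⟨b', hb', hbx'⟩ => by
          refine ⟨b * b', mul_mem hb hb', fun y hy => ?_⟩
          have hy' : (x' : G)⁻¹ * (x' : G) = 1 := inv_mul_cancel _
          have hxT : b' * y * b'⁻¹ ∈ T := conj_mem_of_le_normalizer hT.norm (Subgroup.mem_inf.1 hb').1 hy
          rw [Subgroup.coe_mul, show (b * b')⁻¹ * ((x : G) * x') =
            b'⁻¹ * (b⁻¹ * x) * b' * (b'⁻¹ * x') by group]
          refine Commute.mul_left ?_ (hbx' y hy)
          show _ = _
          have h1 := congrArg (fun z => b'⁻¹ * z * b') (hbx _ hxT).eq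
          calc b'⁻¹ * (b⁻¹ * x) * b' * y = b'⁻¹ * ((b⁻¹ * x) * (b' * y * b'⁻¹)) * b' := by group
            _ = b'⁻¹ * ((b' * y * b'⁻¹) * (b⁻¹ * x)) * b' := h1
            _ = _ := by group
        inv_mem' := fun {x} ⟨b, hb, hbx⟩ => by
          refine ⟨b⁻¹, inv_mem hb, fun y hy => ?_⟩
          rw [inv_inv, Subgroup.coe_inv]
          have hxT : b⁻¹ * y * b ∈ T := by
            have := conj_mem_of_le_normalizer hT.norm (inv_mem (Subgroup.mem_inf.1 hb).1) hy
            rwa [inv_inv] at this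
          have h1 := congrArg (fun z => b * z * b⁻¹) (hbx _ hxT).inv_left.eq
          show _ = _
          calc b * (x : G)⁻¹ * y = b * ((b⁻¹ * (x : G))⁻¹ * (b⁻¹ * y * b)) * b⁻¹ := by group
            _ = b * ((b⁻¹ * y * b) * (b⁻¹ * (x : G))⁻¹) * b⁻¹ := h1
            _ = _ := by group }
    have hP : P ≠ ⊤ := by
      intro e
      rcases hc.simple 1 (U := B ⊓ T) (by rw [cj_one]; exact inf_le_right)
        (le_normalizer_of_conj fun x hx y hy => by
          rw [cj_one] at hx
          obtain ⟨b, hb, hbx⟩ := (e ▸ mem_top (⟨x, hx⟩ : T) : (⟨x, hx⟩ : T) ∈ P)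
          obtain ⟨hyB, hyT⟩ := Subgroup.mem_inf.1 hy
          have h1 : x * y * x⁻¹ = b * y * b⁻¹ := by
            have := (hbx y hyT).eq
            calc x * y * x⁻¹ = b * ((b⁻¹ * x) * y) * x⁻¹ := by group
              _ = b * (y * (b⁻¹ * x)) * x⁻¹ := by rw [this]
              _ = _ := by group
          rw [h1]
          exact Subgroup.mem_inf.2 ⟨mul_mem (mul_mem hb hyB) (inv_mem hb),
            conj_mem_of_le_normalizer hT.norm (Subgroup.mem_inf.1 hb).1 hyT⟩) with h | h
      · exact hBT h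
      · rw [cj_one] at h
        have hTB : T ≤ B := inf_eq_right.1 h
        have hTα : ∀ z : Ω, ∀ t ∈ T, t • z = z := by
          intro z t ht
          obtain ⟨m, hm⟩ := exists_smul_eq N α z
          have hm' : (m : G) • α = z := hm
          have hmT : (m : G)⁻¹ * t * m ∈ T := by
            have := conj_mem_of_le_normalizer hT.norm (inv_mem m.2) ht
            rwa [inv_inv] at this
          have h2 := mem_stabilizer_iff.1 (Subgroup.mem_inf.1 (hTB hmT)).2
          rw [mul_smul, mul_smul, hm', inv_smul_eq_iff, hm'] at h2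
          exact h2
        exact hT.ne ((eq_bot_iff_forall _).2 fun t ht => eq_of_smul_eq_smul fun z : Ω => by
          rw [one_smul]; exact hTα z t ht)
    obtain ⟨t, ht⟩ := exists_notMem_conj P hP
    have ht1 : (t : G) ≠ 1 := fun e => ht 1 (by
      have : t = 1 := Subtype.ext e
      simp [this])
    have key : ∀ s : G, (∀ y ∈ T, Commute s y) → s ∈ N → Der Ω ((t : G) * s) := by
      intro s hs hsN
      by_contra hd
      obtain ⟨m, hm, hmB⟩ := hfixN _ (mul_mem (hT.le t.2) hsN) hd
      obtain ⟨x, hx, hxm⟩ := hc.inner 1 hm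
      rw [cj_one] at hx
      simp only [cj_one] at hxm
      refine ht ⟨x, hx⟩ ⟨_, hmB, fun y hy => ?_⟩
      set c := x⁻¹ * m with hcdef
      have hmx : m = x * c := by rw [hcdef, mul_inv_cancel_left]
      set t' := x⁻¹ * (t : G) * x with ht'
      have ht'T : t' ∈ T := mul_mem (mul_mem (inv_mem hx) t.2) hx
      have e1 : m⁻¹ * ((t : G) * s) * m = t' * (c⁻¹ * s * c) := by
        have h1 := (hxm _ ht'T).inv_left.eq
        have h2 := (hs x hx).eq
        calc m⁻¹ * ((t : G) * s) * m = c⁻¹ * (x⁻¹ * (t : G) * (s * x)) * c := by rw [hmx]; group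
          _ = c⁻¹ * t' * s * c := by rw [h2, ht']; group
          _ = t' * c⁻¹ * s * c := by rw [h1]
          _ = _ := by group
      have e2 : (m⁻¹ * ((t : G) * s) * m)⁻¹ * t' = (c⁻¹ * s * c)⁻¹ := by
        rw [e1, mul_inv_rev, mul_assoc, inv_mul_cancel, mul_one]
      show Commute ((m⁻¹ * ((t : G) * s) * m)⁻¹ * t') y
      rw [e2]
      exact (((hxm y hy).inv_left.mul_left (hs y hy)).mul_left (hxm y hy)).inv_left
    obtain ⟨s, hs, hs1⟩ := ExtremelyType.exists_ne_of_ne_bot (hT.conj k).ne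
    have hd1 : Der Ω (t : G) := by simpa using key 1 (fun y _ => Commute.one_left y) (one_mem N)
    have hd2 := key s (fun y hy => (hT.conj k).commute hT hk hs hy) ((hT.conj k).le hs)
    obtain ⟨g, hg⟩ := isConj_iff.1 (hone _ _ hd1 hd2)
    have hmem : (t : G) * s ∈ cj g T := hg ▸ conj_mem_cj t.2
    by_cases e : cj g T = T
    · rw [e] at hmem
      have hsT : s ∈ T := by simpa using mul_mem (inv_mem t.2) hmem
      exact hk ((hT.conj k).eq_of_mem hT hs hsT hs1)
    · -- `t s` centralises `T`, so `t` is central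
      refine ht1 (hc.center_eq 1 (by rw [cj_one]; exact t.2) fun y hy => ?_)
      rw [cj_one] at hy
      have c1 : Commute ((t : G) * s) y := (hT.conj g).commute hT e hmem hy
      have c2 : Commute s y := (hT.conj k).commute hT hk hs hy
      have := c1.mul_left c2.inv_left
      rw [mul_inv_cancel_right] at this
      exact this.symm

omit [FaithfulSMul G Ω] in
theorem card_class_mul (g : G) [Fintype G] [DecidablePred (IsConj g)] :
    (Finset.univ.filter (IsConj g)).card * Nat.card (centralizer ({g} : Set G)) = Nat.card G := by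
  have h : (ConjClasses.mk g).carrier.ncard = (Finset.univ.filter (IsConj g)).card := by
    rw [← Set.ncard_coe_finset]
    congr 1
    ext x
    rw [ConjClasses.mem_carrier_iff_mk_eq, ConjClasses.mk_eq_mk_iff_isConj, Finset.mem_coe, Finset.mem_filter]
    exact ⟨fun h => ⟨Finset.mem_univ x, h.symm⟩, fun h => h.2.symm⟩
  rw [← h, CfsgLib.PGroup.ncard_carrier_eq_index, mul_comm, Subgroup.card_mul_index]

/-- The counting identity. -/
theorem count_identity [Fintype G] [DecidableEq Ω] [IsPretransitive G Ω] [Nonempty Ω]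
    [Fintype (orbitRel.Quotient G (Ω × Ω))] :
    ∑ g : G, ((Fintype.card (fixedBy Ω g) : ℤ) - 1) *
      ((Fintype.card (fixedBy Ω g) : ℤ) - (Fintype.card Ω : ℤ)) =
      ((Fintype.card (orbitRel.Quotient G (Ω × Ω)) : ℤ) - 1) * (Fintype.card G : ℤ) := by
  classical
  haveI : Fintype (orbitRel.Quotient G Ω) := Fintype.ofFinite _
  have hsq : ∀ g : G, Fintype.card (fixedBy (Ω × Ω) g) =
      Fintype.card (fixedBy Ω g) * Fintype.card (fixedBy Ω g) := by
    intro g
    rw [← Fintype.card_prod]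
    exact Fintype.card_congr
      { toFun := fun p => (⟨p.1.1, congrArg Prod.fst p.2⟩, ⟨p.1.2, congrArg Prod.snd p.2⟩)
        invFun := fun q => ⟨(q.1.1, q.2.1), Prod.ext q.1.2 q.2.2⟩
        left_inv := fun p => rfl
        right_inv := fun q => rfl }
  have hb := sum_card_fixedBy_eq_card_orbits_mul_card_group G (Ω × Ω)
  simp only [hsq] at hb
  have hb' : (∑ g : G, (Fintype.card (fixedBy Ω g) : ℤ) * (Fintype.card (fixedBy Ω g) : ℤ)) =
      (Fintype.card (orbitRel.Quotient G (Ω × Ω)) : ℤ) * (Fintype.card G : ℤ) := by exact_mod_cast hb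
  have ha := sum_card_fixedBy_eq_card_orbits_mul_card_group G Ω
  have h1 : Fintype.card (orbitRel.Quotient G Ω) = 1 := by
    refine le_antisymm (Fintype.card_le_one_iff_subsingleton.2
      ((pretransitive_iff_subsingleton_quotient G Ω).1 ‹_›)) (Fintype.card_pos_iff.2 ?_)
    exact ⟨Quotient.mk (orbitRel G Ω) (Classical.arbitrary Ω)⟩
  rw [h1, one_mul] at ha
  have ha' : (∑ g : G, (Fintype.card (fixedBy Ω g) : ℤ)) = (Fintype.card G : ℤ) := by exact_mod_cast ha
  rw [Finset.sum_congr rfl fun g _ => show ((Fintype.card (fixedBy Ω g) : ℤ) - 1) *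
      ((Fintype.card (fixedBy Ω g) : ℤ) - (Fintype.card Ω : ℤ)) =
      (Fintype.card (fixedBy Ω g) : ℤ) * (Fintype.card (fixedBy Ω g) : ℤ) -
      ((Fintype.card Ω : ℤ) + 1) * (Fintype.card (fixedBy Ω g) : ℤ) + (Fintype.card Ω : ℤ) by ring,
    Finset.sum_add_distrib, Finset.sum_sub_distrib, ← Finset.mul_sum, hb', ha', Finset.sum_const,
    Finset.card_univ, nsmul_eq_mul]
  ring

/-- A non-identity element does not fix every point. -/
theorem card_fixedBy_lt [DecidableEq Ω] {g : G} (hg : g ≠ 1) :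
    Fintype.card (fixedBy Ω g) < Fintype.card Ω := by
  refine lt_of_le_of_ne (Fintype.card_le_of_injective _ Subtype.val_injective) fun e => hg ?_
  refine eq_of_smul_eq_smul fun x : Ω => ?_
  obtain ⟨y, hy⟩ := ((Fintype.bijective_iff_injective_and_card _).2
    ⟨Subtype.val_injective (p := fun z => z ∈ fixedBy Ω g), e⟩).2 x
  rw [one_smul, ← hy]
  exact y.2

theorem card_orbits_prod_ge [Nontrivial Ω] [Fintype (orbitRel.Quotient G (Ω × Ω))] :
    2 ≤ Fintype.card (orbitRel.Quotient G (Ω × Ω)) := by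
  obtain ⟨a, b, hab⟩ := exists_pair_ne Ω
  refine Fintype.one_lt_card_iff.2 ⟨Quotient.mk _ (a, a), Quotient.mk _ (a, b), fun e => ?_⟩
  obtain ⟨g, hg⟩ := Quotient.exact e
  simp only [Prod.smul_mk, Prod.mk.injEq] at hg
  exact hab (MulAction.injective g (hg.1.trans hg.2.symm))

theorem two_pretransitive_of_card [Nontrivial Ω] [IsPretransitive G Ω]
    [Fintype (orbitRel.Quotient G (Ω × Ω))]
    (h : Fintype.card (orbitRel.Quotient G (Ω × Ω)) ≤ 2) : IsMultiplyPretransitive G Ω 2 := by
  rw [is_two_pretransitive_iff]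
  intro a b c d hab hcd
  have h3 : (Quotient.mk (orbitRel G (Ω × Ω)) (a, b)) = Quotient.mk _ (c, d) := by
    by_contra hne
    have : 2 < Fintype.card (orbitRel.Quotient G (Ω × Ω)) := by
      refine Fintype.two_lt_card_iff.2 ⟨Quotient.mk _ (a, a), Quotient.mk _ (a, b),
        Quotient.mk _ (c, d), fun e => ?_, fun e => ?_, hne⟩
      · obtain ⟨g, hg⟩ := Quotient.exact e
        simp only [Prod.smul_mk, Prod.mk.injEq] at hg
        exact hab (MulAction.injective g (hg.1.trans hg.2.symm))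
      · obtain ⟨g, hg⟩ := Quotient.exact e
        simp only [Prod.smul_mk, Prod.mk.injEq] at hg
        exact hcd (MulAction.injective g (hg.1.trans hg.2.symm))
    omega
  obtain ⟨g, hg⟩ := Quotient.exact h3.symm
  simp only [Prod.smul_mk, Prod.mk.injEq] at hg
  exact ⟨g, hg.1, hg.2⟩

theorem orbits_prod_le [IsPretransitive G Ω] [Nontrivial Ω] [Fintype (orbitRel.Quotient G (Ω × Ω))]
    (h : IsMultiplyPretransitive G Ω 2) : Fintype.card (orbitRel.Quotient G (Ω × Ω)) ≤ 2 := by
  classical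
  obtain ⟨a, b, hab⟩ := exists_pair_ne Ω
  have : (Finset.univ : Finset (orbitRel.Quotient G (Ω × Ω))) ⊆
      {Quotient.mk _ (a, a), Quotient.mk _ (a, b)} := by
    intro q _
    obtain ⟨⟨x, y⟩, rfl⟩ := Quotient.exists_rep q
    rw [Finset.mem_insert, Finset.mem_singleton]
    by_cases e : x = y
    · left
      obtain ⟨g, hg⟩ := exists_smul_eq G a x
      subst e
      exact Quotient.sound ⟨g, by simp [hg]⟩
    · right
      obtain ⟨g, hg1, hg2⟩ := (is_two_pretransitive_iff.1 h) hab e
      exact Quotient.sound ⟨g, by simp [hg1, hg2]⟩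
  exact (Finset.card_le_card this).trans Finset.card_le_two

/-- **One class of derangements in a primitive group that is not almost simple.** -/
theorem card_classes_eq_one_iff (hprim : IsPreprimitive G Ω) [Nontrivial Ω]
    (hnas : ¬ ∃ T : Subgroup G, T.Normal ∧ IsSimpleGroup T ∧ ¬ IsMulCommutative T ∧
      Subgroup.centralizer (T : Set G) = ⊥) :
    Nat.card {c : ConjClasses G // ∃ g : G, ConjClasses.mk g = c ∧ ∀ ω : Ω, g • ω ≠ ω} = 1 ↔
      (IsMultiplyPretransitive G Ω 2 ∧
        ∀ g : G, g ≠ 1 → ∀ a b : Ω, a ≠ b → g • a = a → g • b ≠ b) := by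
  classical
  haveI := Fintype.ofFinite G
  haveI := hprim
  haveI : Fintype (orbitRel.Quotient G (Ω × Ω)) := Fintype.ofFinite _
  haveI : Nonempty Ω := inferInstance
  obtain ⟨g₀, hg₀⟩ := exists_der (G := G) (Ω := Ω)
  have hiff : Nat.card {c : ConjClasses G // ∃ g : G, ConjClasses.mk g = c ∧ ∀ ω : Ω, g • ω ≠ ω} = 1 ↔
      ∀ a b : G, Der Ω a → Der Ω b → IsConj a b := by
    rw [Nat.card_eq_one_iff_unique]
    constructor
    · rintro ⟨hs, -⟩ a b ha hb
      exact ConjClasses.mk_eq_mk_iff_isConj.1 (congrArg Subtype.val (@Subsingleton.elim _ hs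
        ⟨ConjClasses.mk a, a, rfl, ha⟩ ⟨ConjClasses.mk b, b, rfl, hb⟩))
    · intro h
      refine ⟨⟨fun x y => Subtype.ext ?_⟩, ⟨⟨ConjClasses.mk g₀, g₀, rfl, hg₀⟩⟩⟩
      obtain ⟨a, ha, ha'⟩ := x.2
      obtain ⟨b, hb, hb'⟩ := y.2
      rw [← ha, ← hb]
      exact ConjClasses.mk_eq_mk_iff_isConj.2 (h a b ha' hb')
  rw [hiff]
  set n := Fintype.card Ω with hn
  set r := Fintype.card (orbitRel.Quotient G (Ω × Ω)) with hr
  let f : G → ℕ := fun g => Fintype.card (fixedBy Ω g)
  have hid : ∑ g : G, ((f g : ℤ) - 1) * ((f g : ℤ) - (n : ℤ)) = ((r : ℤ) - 1) * (Fintype.card G : ℤ) :=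
    count_identity
  have hf0 : ∀ g : G, f g = 0 ↔ Der Ω g := fun g => by
    show Fintype.card (fixedBy Ω g) = 0 ↔ _
    rw [Fintype.card_eq_zero_iff, isEmpty_subtype]
    rfl
  have hf1 : f 1 = n := by
    show Fintype.card (fixedBy Ω (1 : G)) = n
    exact Fintype.card_congr ⟨Subtype.val, fun x => ⟨x, one_smul G x⟩, fun _ => rfl, fun _ => rfl⟩
  set D := (Finset.univ.filter fun g : G => Der Ω g).card with hD
  have hsum : ∑ g : G, (if Der Ω g then (n : ℤ) else 0) = (D : ℤ) * n := by
    rw [← Finset.sum_filter, Finset.sum_const, nsmul_eq_mul]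
  have hterm : ∀ g : G, ((f g : ℤ) - 1) * ((f g : ℤ) - (n : ℤ)) ≤ if Der Ω g then (n : ℤ) else 0 := by
    intro g
    split_ifs with h
    · rw [(hf0 g).2 h]; push_cast; nlinarith
    · have h1 : 1 ≤ f g := Nat.one_le_iff_ne_zero.2 fun e => h ((hf0 g).1 e)
      have h2 : f g ≤ n := Fintype.card_le_of_injective _ Subtype.val_injective
      have : ((f g : ℤ) - 1) ≥ 0 := by omega
      have : ((f g : ℤ) - (n : ℤ)) ≤ 0 := by omega
      nlinarith
  have hr2 : 2 ≤ r := card_orbits_prod_ge
  have hG : (0 : ℤ) < (Fintype.card G : ℤ) := by exact_mod_cast Fintype.card_pos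
  constructor
  · intro hone
    obtain ⟨N, hNn, hNb, hNc, hNt⟩ := abelian_of_not_almost_simple hprim hone hnas
    haveI := hNn
    haveI := hNt
    obtain ⟨m, hm, hm1⟩ := ExtremelyType.exists_ne_of_ne_bot hNb
    have hsr : ∀ z : Ω, ∀ x ∈ N, x • z = z → x = 1 := by
      intro z x hx hxz
      refine eq_of_smul_eq_smul fun w : Ω => ?_
      obtain ⟨y, rfl⟩ := exists_smul_eq N z w
      show x • (y : G) • z = (1 : G) • (y : G) • z
      rw [one_smul, ← mul_smul, hNc x hx y y.2, mul_smul, hxz]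
    have hmd : Der Ω m := fun z e => hm1 (hsr z m hm e)
    have hclass : D ≤ (Finset.univ.filter (IsConj m)).card := Finset.card_le_card fun g hg => by
      rw [Finset.mem_filter] at hg ⊢
      exact ⟨hg.1, hone m g hmd hg.2⟩
    have hcent : n ≤ Nat.card (centralizer ({m} : Set G)) := by
      rw [hn, ← Nat.card_eq_fintype_card]
      obtain ⟨z⟩ := ‹Nonempty Ω›
      refine Nat.card_le_card_of_surjective (fun c : centralizer ({m} : Set G) => (c : G) • z) fun w => ?_
      obtain ⟨y, hy⟩ := exists_smul_eq N z w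
      exact ⟨⟨y, mem_centralizer_singleton_iff.2 (hNc y y.2 m hm)⟩, hy⟩
    have hle : D * n ≤ Fintype.card G := by
      rw [← Nat.card_eq_fintype_card (α := G), ← card_class_mul m]
      exact Nat.mul_le_mul hclass hcent
    have hle' : (D : ℤ) * n ≤ (Fintype.card G : ℤ) := by exact_mod_cast hle
    have hge := Finset.sum_le_sum (s := Finset.univ) fun g _ => hterm g
    rw [hid, hsum] at hge
    have hr' : r = 2 := by
      by_contra hne
      have : (r : ℤ) ≥ 3 := by omega
      nlinarith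
    have heq : ∑ g : G, ((f g : ℤ) - 1) * ((f g : ℤ) - (n : ℤ)) =
        ∑ g : G, (if Der Ω g then (n : ℤ) else 0) := by
      rw [hid, hsum, hr']
      rw [hr'] at hge
      push_cast at hge ⊢
      linarith
    refine ⟨two_pretransitive_of_card hr'.le, fun g hg a b hab ha hb => ?_⟩
    have hg0 := (Finset.sum_eq_sum_iff_of_le fun g _ => hterm g).1 heq g (Finset.mem_univ g)
    rw [if_neg (fun h : Der Ω g => h a ha)] at hg0
    have h2 : 2 ≤ f g := by
      rw [← Fintype.card_fin 2]
      refine Fintype.card_le_of_injective (fun i : Fin 2 => if i = 0 then (⟨a, ha⟩ : fixedBy Ω g) else ⟨b, hb⟩) ?_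
      intro i j e
      fin_cases i <;> fin_cases j
      · rfl
      · exact absurd (congrArg Subtype.val e) hab
      · exact absurd (congrArg Subtype.val e).symm hab
      · rfl
    have h3 : f g < n := card_fixedBy_lt hg
    rcases mul_eq_zero.1 hg0 with e | e <;> omega
  · rintro ⟨h2, hfp⟩ a b ha hb
    have hr' : r = 2 := le_antisymm (orbits_prod_le h2) hr2
    have heq : ∀ g : G, ((f g : ℤ) - 1) * ((f g : ℤ) - (n : ℤ)) =
        if Der Ω g then (n : ℤ) else 0 := by
      intro g
      split_ifs with h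
      · rw [(hf0 g).2 h]; push_cast; ring
      · by_cases hg : g = 1
        · rw [hg, hf1, sub_self, mul_zero]
        · have h1 : f g = 1 := by
            refine le_antisymm (Fintype.card_le_one_iff.2 fun x y => ?_)
              (Nat.one_le_iff_ne_zero.2 fun e => h ((hf0 g).1 e))
            by_contra hxy
            exact hfp g hg x.1 y.1 (fun e => hxy (Subtype.ext e)) x.2 y.2
          rw [h1]; simp
    rw [Finset.sum_congr rfl fun g _ => heq g, hsum, hr'] at hid
    have hDn : D * n = Fintype.card G := by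
      have : (D : ℤ) * n = (Fintype.card G : ℤ) := by rw [hid]; ring
      exact_mod_cast this
    have hcent : Nat.card (centralizer ({a} : Set G)) ≤ n := by
      rw [hn, ← Nat.card_eq_fintype_card]
      obtain ⟨z⟩ := ‹Nonempty Ω›
      refine Nat.card_le_card_of_injective (fun c : centralizer ({a} : Set G) => (c : G) • z)
        fun c d e => ?_
      have e' : ((d : G)⁻¹ * c) • z = z := by rw [mul_smul, show (c : G) • z = (d : G) • z from e, inv_smul_smul]
      have hca : ((d : G)⁻¹ * c) * a = a * ((d : G)⁻¹ * c) :=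
        mem_centralizer_singleton_iff.1 (mul_mem (inv_mem d.2) c.2)
      have e2 : ((d : G)⁻¹ * c) • (a • z) = a • z := by rw [← mul_smul, hca, mul_smul, e']
      by_contra hne
      exact hfp _ (fun h1 => hne (Subtype.ext (inv_mul_eq_one.1 h1).symm)) z (a • z) (ha z).symm e' e2
    have hsub : (Finset.univ.filter (IsConj a)) ⊆ Finset.univ.filter fun g : G => Der Ω g :=
      fun g hg => Finset.mem_filter.2 ⟨Finset.mem_univ g, der_of_isConj (Finset.mem_filter.1 hg).2 ha⟩
    have hge : D * n ≤ (Finset.univ.filter (IsConj a)).card * n := by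
      rw [hDn, ← Nat.card_eq_fintype_card, ← card_class_mul a]
      exact Nat.mul_le_mul_left _ hcent
    have hcard : D ≤ (Finset.univ.filter (IsConj a)).card :=
      Nat.le_of_mul_le_mul_right hge (hn ▸ Fintype.card_pos)
    have := Finset.eq_of_subset_of_card_le hsub hcard
    exact (Finset.mem_filter.1 (this.symm ▸ Finset.mem_filter.2 ⟨Finset.mem_univ b, hb⟩ :
      b ∈ Finset.univ.filter (IsConj a))).2

end CfsgLib.Char.DerangementClass
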