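import Cfsg.Agent.Lib.Char.DerangementClass
import Cfsg.Agent.Lib.Char.Burnside

/-!
# Derangements in primitive groups that are neither affine nor almost simple

Such a group has either a non-solvable subgroup all of whose non-trivial elements are derangements,
or two commuting components `T ≠ X` and a derangement `t ∈ T` such that `t s` is a derangement
for every `s ∈ X`.
-/

set_option autoImplicit false
set_option linter.unusedSectionVars false
set_option linter.style.haveILetI false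

namespace CfsgLib.Char.DerangementComponents

open MulAction Subgroup CfsgLib.Char.ExtremelyType CfsgLib.Char.DerangementClass

universe u v

variable {G : Type u} [Group G] [Finite G] {Ω : Type v} [MulAction G Ω] [FaithfulSMul G Ω]
  [Fintype Ω]

/-- An abelian regular normal subgroup that is a minimal normal subgroup. -/
structure Affine (N : Subgroup G) (Ω : Type v) [MulAction G Ω] : Prop where
  minimal : MinNormal N
  comm : ∀ x ∈ N, ∀ y ∈ N, x * y = y * x
  trans : IsPretransitive N Ω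
  free : ∀ z : Ω, ∀ x ∈ N, x • z = z → x = 1

theorem Affine.elementary {N : Subgroup G} (h : Affine N Ω) :
    ∃ r : ℕ, r.Prime ∧ ∀ x ∈ N, x ^ r = 1 := by
  haveI := h.minimal.normal
  haveI : Group.IsSolvable N :=
    Group.isSolvable_of_comm fun a b => Subtype.ext (h.comm a a.2 b b.2)
  exact (CfsgLib.Coprime.minimal_normal_solvable h.minimal.ne h.minimal.minimal).2

/-- Almost simple. -/
def AlmostSimple (G : Type u) [Group G] : Prop :=
  ∃ T : Subgroup G, T.Normal ∧ IsSimpleGroup T ∧ ¬ IsMulCommutative T ∧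
    Subgroup.centralizer (T : Set G) = ⊥

theorem Conf.not_isSolvable {N T : Subgroup G} [N.Normal] (hc : Conf G N T) (g : G) :
    ¬ Group.IsSolvable (cj g T) := by
  intro hs
  haveI := hs
  haveI : Nontrivial (cj g T) := (nontrivial_iff_ne_bot _).2 (hc.comp.conj g).ne
  have hlt := Group.IsSolvable.commutator_lt_top_of_nontrivial (cj g T)
  rcases hc.simple g (U := ⁅cj g T, cj g T⁆) (commutator_le_self _)
    (le_normalizer_of_conj fun x hx y hy => by
      have h1 : (⁅cj g T, cj g T⁆).map (MulAut.conj x).toMonoidHom ≤ ⁅cj g T, cj g T⁆ := by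
        rw [map_commutator]
        refine commutator_mono ?_ ?_ <;>
          exact fun z hz => by
            obtain ⟨w, hw, rfl⟩ := hz
            exact mul_mem (mul_mem hx hw) (inv_mem hx)
      exact h1 (mem_map_of_mem _ hy)) with h | h
  · refine (hc.comp.conj g).ne (le_bot_iff.1 fun t ht => mem_bot.2 (hc.center_eq g ht fun y hy => ?_))
    have := commutator_mem_commutator hy ht
    rw [h, mem_bot, commutatorElement_def, mul_inv_eq_one, mul_inv_eq_iff_eq_mul] at this
    exact this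
  · refine hlt.ne (map_injective (cj g T).subtype_injective ?_)
    rw [_root_.commutator_def, map_commutator, ← MonoidHom.range_eq_map, range_subtype, h]

/-- The two kinds of derangement configurations. -/
structure Pairing (G : Type u) [Group G] [Finite G] (Ω : Type v) [MulAction G Ω]
    (N T : Subgroup G) (k : G) (t : G) : Prop where
  conf : Conf G N T
  other : cj k T ≠ T
  mem : t ∈ T
  der : Der Ω t
  der_mul : ∀ s ∈ cj k T, Der Ω (t * s)

theorem trichotomy (hprim : IsPreprimitive G Ω) [Nontrivial Ω] :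
    (∃ N : Subgroup G, Affine N Ω) ∨ AlmostSimple G ∨
    (∃ X : Subgroup G, ¬ Group.IsSolvable X ∧ ∀ x ∈ X, x ≠ 1 → Der Ω x) ∨
    ∃ (N : Subgroup G) (_ : N.Normal) (T : Subgroup G) (k t : G), Pairing G Ω N T k t := by
  classical
  obtain ⟨α, ω, hαω⟩ := exists_pair_ne Ω
  haveI := hprim
  have htop : (⊤ : Subgroup G) ≠ ⊥ := by
    intro e
    obtain ⟨g, hg⟩ := exists_smul_eq G α ω
    have h1 : g = 1 := by rw [← mem_bot, ← e]; exact mem_top g
    rw [h1, one_smul] at hg
    exact hαω hg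
  obtain ⟨N, hNn, hNb, -, hNmin⟩ :=
    CfsgLib.Coprime.exists_minimal_normal_le (N := (⊤ : Subgroup G)) htop
  haveI := hNn
  have htr : ∀ {M : Subgroup G}, M.Normal → M ≠ ⊥ → IsPretransitive M Ω := by
    intro M hMn hM
    haveI := hMn
    refine IsQuasiPreprimitive.isPretransitive_of_normal fun e => hM ?_
    rw [eq_bot_iff_forall]
    intro n hn
    refine eq_of_smul_eq_smul fun x : Ω => ?_
    rw [one_smul]
    exact Set.eq_univ_iff_forall.1 e x ⟨n, hn⟩
  haveI := htr hNn hNb
  have hfree : ∀ {M : Subgroup G}, IsPretransitive M Ω → ∀ x : G,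
      (∀ y ∈ M, y * x = x * y) → ∀ z : Ω, x • z = z → x = 1 := by
    intro M hM x hx z hxz
    refine eq_of_smul_eq_smul fun w : Ω => ?_
    obtain ⟨y, rfl⟩ := exists_smul_eq M z w
    show x • (y : G) • z = (1 : G) • (y : G) • z
    rw [one_smul, ← mul_smul, ← hx y y.2, mul_smul, hxz]
  by_cases hab : ∀ x ∈ N, ∀ y ∈ N, x * y = y * x
  · exact Or.inl ⟨N, ⟨hNn, hNb, hNmin⟩, hab, htr hNn hNb,
      fun z x hx => hfree (htr hNn hNb) x (fun y hy => hab y hy x hx) z⟩
  refine Or.inr ?_
  have hN : MinNormal N := ⟨hNn, hNb, hNmin⟩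
  by_cases hcent : centralizer (N : Set G) = ⊥
  swap
  · -- two minimal normal subgroups
    refine Or.inr (Or.inl ⟨N, hN.not_isSolvable hab, fun x hx hx1 z hxz => hx1 ?_⟩)
    haveI : (centralizer (N : Set G)).Normal := Subgroup.normal_centralizer
    exact hfree (htr (M := centralizer (N : Set G)) inferInstance hcent) x
      (fun y hy => (mem_centralizer_iff.1 hy x hx).symm) z hxz
  by_cases hs : IsSimpleGroup N
  · exact Or.inl ⟨N, hNn, hs, fun hc => hab fun x hx y hy =>
      congrArg Subtype.val (hc.is_comm.comm ⟨x, hx⟩ ⟨y, hy⟩), hcent⟩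
  refine Or.inr ?_
  obtain ⟨T, hT⟩ := exists_minIn hNb
  have hc : Conf G N T := ⟨hN, hcent, hT, hs⟩
  obtain ⟨k, hk⟩ : ∃ k : G, cj k T ≠ T := by
    by_contra hall
    push Not at hall
    have hTN : T = N := by rw [← hc.sup_eq]; simp only [hall, ciSup_const]
    apply hs
    haveI : Nontrivial N := (nontrivial_iff_ne_bot N).2 hNb
    refine ⟨fun U hU => ?_⟩
    rcases hc.simple 1 (U := U.map N.subtype) (by rw [cj_one, hTN]; exact map_subtype_le U)
      (le_normalizer_of_conj fun x hx y hy => by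
        obtain ⟨u, hu, rfl⟩ := hy
        rw [cj_one, hTN] at hx
        exact ⟨⟨x, hx⟩ * u * ⟨x, hx⟩⁻¹, hU.conj_mem u hu _, rfl⟩) with e | e
    · left; exact (map_eq_bot_iff_of_injective _ N.subtype_injective).1 e
    · right
      rw [cj_one, hTN] at e
      exact map_injective N.subtype_injective (by rw [e, ← MonoidHom.range_eq_map, range_subtype])
  set B := N ⊓ stabilizer G α with hBdef
  have hfixN : ∀ g ∈ N, ¬ Der Ω g → ∃ m ∈ N, m⁻¹ * g * m ∈ B := by
    intro g hg hd
    simp only [Der, ne_eq] at hd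
    push Not at hd
    obtain ⟨z, hz⟩ := hd
    obtain ⟨m, hm⟩ := exists_smul_eq N α z
    refine ⟨m, m.2, Subgroup.mem_inf.2 ⟨mul_mem (mul_mem (inv_mem m.2) hg) m.2, ?_⟩⟩
    rw [mem_stabilizer_iff, mul_smul, mul_smul, show (m : G) • α = z from hm, hz, inv_smul_eq_iff]
    exact hm.symm
  by_cases hBT : B ⊓ T = ⊥
  · refine Or.inl ⟨T, fun hs => Conf.not_isSolvable hc 1 ((cj_one T).symm ▸ hs), fun t ht ht1 => ?_⟩
    by_contra hd
    obtain ⟨m, hm, hmB⟩ := hfixN t (hT.le ht) hd
    have hmT : m⁻¹ * t * m ∈ T := by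
      have := conj_mem_of_le_normalizer hT.norm (inv_mem hm) ht
      rwa [inv_inv] at this
    have h1 : m⁻¹ * t * m = 1 := by rw [← mem_bot, ← hBT]; exact Subgroup.mem_inf.2 ⟨hmB, hmT⟩
    refine ht1 ?_
    calc t = m * (m⁻¹ * t * m) * m⁻¹ := by group
      _ = 1 := by rw [h1]; group
  refine Or.inr ?_
  let P : Subgroup T :=
    { carrier := {x | ∃ b ∈ B, ∀ y ∈ T, Commute (b⁻¹ * (x : G)) y}
      one_mem' := ⟨1, one_mem _, fun y _ => by simp⟩
      mul_mem' := fun {x x'} ⟨b, hb, hbx⟩ ⟨b', hb', hbx'⟩ => by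
        refine ⟨b * b', mul_mem hb hb', fun y hy => ?_⟩
        have hxT : b' * y * b'⁻¹ ∈ T :=
          conj_mem_of_le_normalizer hT.norm (Subgroup.mem_inf.1 hb').1 hy
        rw [Subgroup.coe_mul, show (b * b')⁻¹ * ((x : G) * x') =
          b'⁻¹ * (b⁻¹ * x) * b' * (b'⁻¹ * x') by group]
        refine Commute.mul_left ?_ (hbx' y hy)
        show _ = _
        have h1 := congrArg (fun z => b'⁻¹ * z * b') (hbx _ hxT).eq
        calc b'⁻¹ * (b⁻¹ * x) * b' * y = b'⁻¹ * ((b⁻¹ * x) * (b' * y * b'⁻¹)) * b' := by group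
          _ = b'⁻¹ * ((b' * y * b'⁻¹) * (b⁻¹ * x)) * b' := h1
          _ = _ := by group
      inv_mem' := fun {x} ⟨b, hb, hbx⟩ => by
        refine ⟨b⁻¹, inv_mem hb, fun y hy => ?_⟩
        rw [inv_inv, Subgroup.coe_inv]
        have hxT : b⁻¹ * y * b ∈ T := by
          have := conj_mem_of_le_normalizer hT.norm (inv_mem (Subgroup.mem_inf.1 hb).1) hy
          rwa [inv_inv] at this
        have h1 := congrArg (fun z => b * z * b⁻¹) (hbx _ hxT).inv_left.eq
        show _ = _
        calc b * (x : G)⁻¹ * y = b * ((b⁻¹ * (x : G))⁻¹ * (b⁻¹ * y * b)) * b⁻¹ := by group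
          _ = b * ((b⁻¹ * y * b) * (b⁻¹ * (x : G))⁻¹) * b⁻¹ := h1
          _ = _ := by group }
  have hP : P ≠ ⊤ := by
    intro e
    rcases hc.simple 1 (U := B ⊓ T) (by rw [cj_one]; exact inf_le_right)
      (le_normalizer_of_conj fun x hx y hy => by
        rw [cj_one] at hx
        obtain ⟨b, hb, hbx⟩ := (e ▸ mem_top (⟨x, hx⟩ : T) : (⟨x, hx⟩ : T) ∈ P)
        obtain ⟨hyB, hyT⟩ := Subgroup.mem_inf.1 hy
        have h1 : x * y * x⁻¹ = b * y * b⁻¹ := by
          have := (hbx y hyT).eq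
          calc x * y * x⁻¹ = b * ((b⁻¹ * x) * y) * x⁻¹ := by group
            _ = b * (y * (b⁻¹ * x)) * x⁻¹ := by rw [this]
            _ = _ := by group
        rw [h1]
        exact Subgroup.mem_inf.2 ⟨mul_mem (mul_mem hb hyB) (inv_mem hb),
          conj_mem_of_le_normalizer hT.norm (Subgroup.mem_inf.1 hb).1 hyT⟩) with h | h
    · exact hBT h
    · rw [cj_one] at h
      have hTB : T ≤ B := inf_eq_right.1 h
      refine hT.ne ((eq_bot_iff_forall _).2 fun t ht => eq_of_smul_eq_smul fun z : Ω => ?_)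
      obtain ⟨m, hm⟩ := exists_smul_eq N α z
      have hm' : (m : G) • α = z := hm
      have hmT : (m : G)⁻¹ * t * m ∈ T := by
        have := conj_mem_of_le_normalizer hT.norm (inv_mem m.2) ht
        rwa [inv_inv] at this
      have h2 := mem_stabilizer_iff.1 (Subgroup.mem_inf.1 (hTB hmT)).2
      rw [mul_smul, mul_smul, hm', inv_smul_eq_iff, hm'] at h2
      rw [h2, one_smul]
  obtain ⟨t, ht⟩ := exists_notMem_conj P hP
  have key : ∀ s : G, (∀ y ∈ T, Commute s y) → s ∈ N → Der Ω ((t : G) * s) := by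
    intro s hs' hsN
    by_contra hd
    obtain ⟨m, hm, hmB⟩ := hfixN _ (mul_mem (hT.le t.2) hsN) hd
    obtain ⟨x, hx, hxm⟩ := hc.inner 1 hm
    rw [cj_one] at hx
    simp only [cj_one] at hxm
    refine ht ⟨x, hx⟩ ⟨_, hmB, fun y hy => ?_⟩
    set c := x⁻¹ * m with hcdef
    have hmx : m = x * c := by rw [hcdef, mul_inv_cancel_left]
    set t' := x⁻¹ * (t : G) * x with ht'
    have ht'T : t' ∈ T := mul_mem (mul_mem (inv_mem hx) t.2) hx
    have e1 : m⁻¹ * ((t : G) * s) * m = t' * (c⁻¹ * s * c) := by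
      have h1 := (hxm _ ht'T).inv_left.eq
      have h2 := (hs' x hx).eq
      calc m⁻¹ * ((t : G) * s) * m = c⁻¹ * (x⁻¹ * (t : G) * (s * x)) * c := by rw [hmx]; group
        _ = c⁻¹ * t' * s * c := by rw [h2, ht']; group
        _ = t' * c⁻¹ * s * c := by rw [h1]
        _ = _ := by group
    have e2 : (m⁻¹ * ((t : G) * s) * m)⁻¹ * t' = (c⁻¹ * s * c)⁻¹ := by
      rw [e1, mul_inv_rev, mul_assoc, inv_mul_cancel, mul_one]
    show Commute ((m⁻¹ * ((t : G) * s) * m)⁻¹ * t') y
    rw [e2]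
    exact (((hxm y hy).inv_left.mul_left (hs' y hy)).mul_left (hxm y hy)).inv_left
  exact ⟨N, hNn, T, k, t, hc, hk, t.2, by simpa using key 1 (fun y _ => Commute.one_left y) (one_mem N),
    fun s hs' => key s (fun y hy => (hT.conj k).commute hT hk hs' hy) ((hT.conj k).le hs')⟩

/-- All derangements are `p`-elements: affine or almost simple. -/
theorem affine_or_almost_simple_of_pElements (hprim : IsPreprimitive G Ω) [Nontrivial Ω] {p : ℕ}
    (hp : p.Prime) (hder : ∀ g : G, Der Ω g → ∃ k : ℕ, orderOf g = p ^ k) :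
    (∃ N : Subgroup G, Affine N Ω) ∨ AlmostSimple G := by
  haveI := Fact.mk hp
  have hsolv : ∀ X : Subgroup G, (∀ x ∈ X, x ≠ 1 → ∃ k : ℕ, orderOf x = p ^ k) → Group.IsSolvable X := by
    intro X hX
    have hpg : IsPGroup p X := fun x => by
      by_cases hx : x = 1
      · exact ⟨0, by rw [hx, one_pow]⟩
      obtain ⟨k, hk⟩ := hX x x.2 fun e => hx (Subtype.ext e)
      exact ⟨k, Subtype.ext (by rw [SubgroupClass.coe_pow, ← hk, pow_orderOf_eq_one]; rfl)⟩
    haveI := hpg.isNilpotent
    infer_instance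
  rcases trichotomy (G := G) hprim with h | h | ⟨X, hX, hXd⟩ | ⟨N, hN, T, k, t, hP⟩
  · exact Or.inl h
  · exact Or.inr h
  · exact absurd (hsolv X fun x hx hx1 => hder x (hXd x hx hx1)) hX
  · exfalso
    haveI := hN
    refine Conf.not_isSolvable hP.conf k (hsolv _ fun s hs hs1 => ?_)
    obtain ⟨a, ha⟩ := hder t hP.der
    obtain ⟨b, hb⟩ := hder (t * s) (hP.der_mul s hs)
    have hcm : Commute t s :=
      hP.conf.comp.commute (hP.conf.comp.conj k) (Ne.symm hP.other) hP.mem hs
    have hd : orderOf s ∣ p ^ max a b := by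
      refine orderOf_dvd_of_pow_eq_one ?_
      have h1 : t ^ p ^ max a b = 1 :=
        orderOf_dvd_iff_pow_eq_one.1 (ha ▸ pow_dvd_pow p (le_max_left a b))
      have h2 : (t * s) ^ p ^ max a b = 1 :=
        orderOf_dvd_iff_pow_eq_one.1 (hb ▸ pow_dvd_pow p (le_max_right a b))
      rwa [hcm.mul_pow, h1, one_mul] at h2
    obtain ⟨c, -, hc⟩ := (Nat.dvd_prime_pow hp).1 hd
    exact ⟨c, hc⟩

/-! ### At most two classes of derangements -/

theorem solvable_of_two_orders (X : Subgroup G) (m₁ m₂ : ℕ)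
    (h : ∀ x ∈ X, x ≠ 1 → orderOf x = m₁ ∨ orderOf x = m₂) : Group.IsSolvable X := by
  classical
  by_cases h0 : Nat.card X = 1
  · haveI : Subsingleton X := (Nat.card_eq_one_iff_unique.1 h0).1
    exact Group.isSolvable_of_comm fun a b => Subsingleton.elim _ _
  have hprime : ∀ r : ℕ, r.Prime → r ∣ Nat.card X → r = m₁ ∨ r = m₂ := by
    intro r hr hd
    haveI := Fact.mk hr
    obtain ⟨x, hx⟩ := exists_prime_orderOf_dvd_card' r hd
    rw [← Subgroup.orderOf_coe] at hx
    rcases h x x.2 (fun e => hr.ne_one (by rw [← hx, e, orderOf_one])) with e | e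
    · exact Or.inl (hx.symm.trans e)
    · exact Or.inr (hx.symm.trans e)
  obtain ⟨p, hp, hpd⟩ := Nat.exists_prime_and_dvd h0
  obtain ⟨q, hq, hall⟩ : ∃ q : ℕ, q.Prime ∧ ∀ r : ℕ, r.Prime → r ∣ Nat.card X → r = p ∨ r = q := by
    by_cases hall : ∀ r : ℕ, r.Prime → r ∣ Nat.card X → r = p
    · exact ⟨p, hp, fun r hr hd => Or.inl (hall r hr hd)⟩
    push Not at hall
    obtain ⟨q, hq, hqd, hne⟩ := hall
    refine ⟨q, hq, fun r hr hd => ?_⟩
    rcases hprime r hr hd with e | e <;> rcases hprime p hp hpd with e' | e' <;>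
      rcases hprime q hq hqd with e'' | e'' <;> omega
  refine isSolvable_of_card_two_primes hp hq X ((Nat.card X).factorization p)
    (if q = p then 0 else (Nat.card X).factorization q) ?_
  refine Nat.eq_of_factorization_eq Nat.card_pos.ne'
    (mul_ne_zero (pow_ne_zero _ hp.ne_zero) (pow_ne_zero _ hq.ne_zero)) fun r => ?_
  rw [Nat.factorization_mul (pow_ne_zero _ hp.ne_zero) (pow_ne_zero _ hq.ne_zero),
    hp.factorization_pow, hq.factorization_pow, Finsupp.add_apply, Finsupp.single_apply,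
    Finsupp.single_apply]
  by_cases hr : r.Prime ∧ r ∣ Nat.card X
  · rcases hall r hr.1 hr.2 with e | e
    · subst e
      by_cases hqp : q = r
      · simp [hqp]
      · simp [hqp]
    · subst e
      by_cases hqp : r = p
      · simp [hqp]
      · simp [hqp, Ne.symm hqp]
  · have h1 : (Nat.card X).factorization r = 0 := by
      rw [Nat.factorization_eq_zero_iff]
      tauto
    rw [h1]
    split_ifs with a b <;> first | rfl | (subst_vars; simp_all)

/-- A product of two commuting components determines the factors. -/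
theorem Conf.factor_eq {N T : Subgroup G} [N.Normal] (hc : Conf G N T) {g₁ g₂ g₃ g₄ : G}
    {a b c d : G} (ha : a ∈ cj g₁ T) (hb : b ∈ cj g₂ T) (hcm : c ∈ cj g₃ T) (hd : d ∈ cj g₄ T)
    (h12 : cj g₁ T ≠ cj g₂ T) (h34 : cj g₃ T ≠ cj g₄ T) (hc1 : c ≠ 1) (hd1 : d ≠ 1)
    (he : a * b = c * d) : (c = a ∧ d = b) ∨ (c = b ∧ d = a) := by
  have hin : ∀ {x y : G} {g g' : G}, x ∈ cj g T → y ∈ cj g' T → cj g T ≠ cj g' T → x ≠ 1 →
      x * y = a * b → cj g T = cj g₁ T ∨ cj g T = cj g₂ T := by
    intro x y g g' hx hy hne hx1 hxy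
    by_contra hno
    push Not at hno
    refine hx1 (hc.center_eq g hx fun z hz => ?_)
    have c1 : Commute z (x * y) := by
      rw [hxy]
      exact ((hc.comp.conj g).commute (hc.comp.conj g₁) hno.1 hz ha).mul_right
        ((hc.comp.conj g).commute (hc.comp.conj g₂) hno.2 hz hb)
    have c2 : Commute z y := (hc.comp.conj g).commute (hc.comp.conj g') hne hz hy
    have := c1.mul_right c2.inv_right
    rwa [mul_inv_cancel_right] at this
  have hdc : Commute c d := (hc.comp.conj g₃).commute (hc.comp.conj g₄) h34 hcm hd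
  rcases hin hcm hd h34 hc1 he.symm with e3 | e3
  · rcases hin hd hcm (Ne.symm h34) hd1 (hdc.eq.symm.trans he.symm) with e4 | e4
    · exact absurd (e3.trans e4.symm) h34
    · left
      have h1 : a⁻¹ * c = b * d⁻¹ := by
        rw [eq_mul_inv_iff_mul_eq, mul_assoc, ← he, inv_mul_cancel_left]
      have h2 : a⁻¹ * c = 1 := by
        rw [← mem_bot, ← (hc.comp.conj g₁).inf_eq_bot (hc.comp.conj g₂) h12]
        refine Subgroup.mem_inf.2 ⟨mul_mem (inv_mem ha) (e3 ▸ hcm), ?_⟩
        rw [h1]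
        exact mul_mem hb (inv_mem (e4 ▸ hd))
      rw [h2] at h1
      exact ⟨(inv_mul_eq_one.1 h2).symm, (mul_inv_eq_one.1 h1.symm).symm⟩
  · rcases hin hd hcm (Ne.symm h34) hd1 (hdc.eq.symm.trans he.symm) with e4 | e4
    · right
      rw [hdc.eq] at he
      have h1 : a⁻¹ * d = b * c⁻¹ := by
        rw [eq_mul_inv_iff_mul_eq, mul_assoc, ← he, inv_mul_cancel_left]
      have h2 : a⁻¹ * d = 1 := by
        rw [← mem_bot, ← (hc.comp.conj g₁).inf_eq_bot (hc.comp.conj g₂) h12]
        refine Subgroup.mem_inf.2 ⟨mul_mem (inv_mem ha) (e4 ▸ hd), ?_⟩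
        rw [h1]
        exact mul_mem hb (inv_mem (e3 ▸ hcm))
      rw [h2] at h1
      exact ⟨(mul_inv_eq_one.1 h1.symm).symm, (inv_mul_eq_one.1 h2).symm⟩
    · exact absurd (e3.trans e4.symm) h34

theorem affine_or_almost_simple_of_two_classes (hprim : IsPreprimitive G Ω) [Nontrivial Ω]
    (htwo : ∀ a b c : G, Der Ω a → Der Ω b → Der Ω c → IsConj a b ∨ IsConj a c ∨ IsConj b c) :
    (∃ N : Subgroup G, Affine N Ω) ∨ AlmostSimple G := by
  classical
  have hord : ∀ a b : G, IsConj a b → orderOf a = orderOf b := by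
    intro a b h
    obtain ⟨x, rfl⟩ := isConj_iff.1 h
    exact (MulEquiv.orderOf_eq (MulAut.conj x) a).symm
  rcases trichotomy (G := G) hprim with h | h | ⟨X, hX, hXd⟩ | ⟨N, hN, T, k, t, hP⟩
  · exact Or.inl h
  · exact Or.inr h
  · exfalso
    have hXb : X ≠ ⊥ := fun e => hX (e ▸ solvable_of_two_orders (⊥ : Subgroup G) 0 0
      fun x hx hx1 => absurd (mem_bot.1 hx) hx1)
    obtain ⟨a, ha, ha1⟩ := ExtremelyType.exists_ne_of_ne_bot hXb
    refine hX ?_
    by_cases hb : ∀ x ∈ X, x ≠ 1 → IsConj a x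
    · exact solvable_of_two_orders X (orderOf a) (orderOf a) fun x hx hx1 =>
        Or.inl (hord a x (hb x hx hx1)).symm
    push Not at hb
    obtain ⟨b, hbX, hb1, hab⟩ := hb
    refine solvable_of_two_orders X (orderOf a) (orderOf b) fun x hx hx1 => ?_
    rcases htwo a b x (hXd a ha ha1) (hXd b hbX hb1) (hXd x hx hx1) with e | e | e
    · exact absurd e hab
    · exact Or.inl (hord a x e).symm
    · exact Or.inr (hord b x e).symm
  · exfalso
    haveI := hN
    obtain ⟨hc, hk, htT, htd, htm⟩ := hP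
    obtain ⟨s₀, hs₀, hs₀1⟩ := ExtremelyType.exists_ne_of_ne_bot (hc.comp.conj k).ne
    have ht1 : t ≠ 1 := fun e => htd (Classical.arbitrary Ω) (by rw [e, one_smul])
    have hne : cj (1 : G) T ≠ cj k T := by rw [cj_one]; exact Ne.symm hk
    have hnot : ∀ s ∈ cj k T, s ≠ 1 → ¬ IsConj t (t * s) := by
      intro s hs hs1 h
      obtain ⟨g, hg⟩ := isConj_iff.1 h
      have hmem : t * s ∈ cj g T := hg ▸ conj_mem_cj htT
      by_cases e : cj g T = T
      · rw [e] at hmem
        have hsT : s ∈ T := by simpa using mul_mem (inv_mem htT) hmem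
        exact hk ((hc.comp.conj k).eq_of_mem hc.comp hs hsT hs1)
      · refine ht1 (hc.center_eq 1 (by rwa [cj_one]) fun y hy => ?_)
        rw [cj_one] at hy
        have c1 : Commute (t * s) y := (hc.comp.conj g).commute hc.comp e hmem hy
        have c2 : Commute s y := (hc.comp.conj k).commute hc.comp hk hs hy
        have := c1.mul_left c2.inv_left
        rw [mul_inv_cancel_right] at this
        exact this.symm
    refine Conf.not_isSolvable hc k (solvable_of_two_orders _ (orderOf s₀) (orderOf t)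
      fun s hs hs1 => ?_)
    rcases htwo t (t * s₀) (t * s) htd (htm s₀ hs₀) (htm s hs) with e | e | e
    · exact absurd e (hnot s₀ hs₀ hs₀1)
    · exact absurd e (hnot s hs hs1)
    · obtain ⟨g, hg⟩ := isConj_iff.1 e
      have hg' : t * s = (g * t * g⁻¹) * (g * s₀ * g⁻¹) := by rw [← hg]; group
      have hne' : cj g T ≠ cj (g * k) T := fun e' => hk (by
        have := congrArg (cj g⁻¹) e'
        rw [← cj_mul, ← cj_mul, inv_mul_cancel, cj_one, inv_mul_cancel_left] at this
        exact this.symm)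
      have hm2 : g * s₀ * g⁻¹ ∈ cj (g * k) T := by rw [cj_mul]; exact conj_mem_cj hs₀
      rcases Conf.factor_eq hc (g₁ := 1) (g₂ := k) (g₃ := g) (g₄ := g * k) (by rwa [cj_one]) hs
        (conj_mem_cj htT) hm2 hne hne' (fun h1 => ht1 (conj_eq_one_iff.1 h1))
        (fun h1 => hs₀1 (conj_eq_one_iff.1 h1)) hg' with ⟨-, h2⟩ | ⟨h2, -⟩
      · exact Or.inl ((hord s₀ s (isConj_iff.2 ⟨g, h2⟩)).symm)
      · exact Or.inr ((hord t s (isConj_iff.2 ⟨g, h2⟩)).symm)

end CfsgLib.Char.DerangementComponents
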