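/-
The index of the subgroup generated by derangements.
-/
import Cfsg.Agent.Lib.Char.Recog.Derangement

set_option autoImplicit false

open MulAction

namespace CfsgLib.Char.DerangementIndex

variable {G Ω : Type*} [Group G] [Finite G] [MulAction G Ω] [Finite Ω]

theorem mem_of_fix_two (htr : IsPretransitive G Ω) {g : G} {a b : Ω} (hab : a ≠ b) (ha : g • a = a)
    (hb : g • b = b) : g ∈ derangementSubgroup G Ω := by
  haveI : Nonempty Ω := ⟨a⟩
  by_contra h
  obtain ⟨hs, -⟩ := Nat.card_eq_one_iff_unique.1 ((derangementSubgroup_transitive htr).2 g h)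
  exact hab (congrArg Subtype.val (hs.elim ⟨a, ha⟩ ⟨b, hb⟩))

theorem derangementSubgroup_normal : (derangementSubgroup G Ω).Normal := by
  refine ⟨fun x hx g => ?_⟩
  induction hx using Subgroup.closure_induction with
  | mem y hy =>
    refine Subgroup.subset_closure fun ω h => hy (g⁻¹ • ω) ?_
    rw [mul_smul, mul_smul] at h
    exact eq_inv_smul_iff.2 h
  | one => simp
  | mul y z _ _ h1 h2 => rw [show g * (y * z) * g⁻¹ = (g * y * g⁻¹) * (g * z * g⁻¹) by group]; exact mul_mem h1 h2
  | inv y _ h => rw [show g * y⁻¹ * g⁻¹ = (g * y * g⁻¹)⁻¹ by group]; exact inv_mem h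

theorem sup_stabilizer_eq_top (htr : IsPretransitive G Ω) (a : Ω) :
    stabilizer G a ⊔ derangementSubgroup G Ω = ⊤ := by
  haveI : Nonempty Ω := ⟨a⟩
  refine eq_top_iff.2 fun g _ => ?_
  obtain ⟨⟨d, hd⟩, he⟩ := (derangementSubgroup_transitive htr).1.exists_smul_eq a (g • a)
  have h : d⁻¹ * g ∈ stabilizer G a := by
    rw [mem_stabilizer_iff, mul_smul, ← show d • a = g • a from he, inv_smul_smul]
  rw [show g = d * (d⁻¹ * g) by group]
  exact mul_mem (Subgroup.mem_sup_right hd) (Subgroup.mem_sup_left h)

theorem index_eq_relIndex (htr : IsPretransitive G Ω) (a : Ω) :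
    (derangementSubgroup G Ω).index = (derangementSubgroup G Ω).relIndex (stabilizer G a) := by
  haveI := derangementSubgroup_normal (G := G) (Ω := Ω)
  rw [← Subgroup.relIndex_top_right, ← sup_stabilizer_eq_top htr a, Subgroup.relIndex_sup_right]

/-- A finite set with an action of a point stabilizer, all of whose stabilizers lie in the derangement
subgroup, has cardinality divisible by the index. -/
theorem index_dvd_card (htr : IsPretransitive G Ω) (a : Ω) (S : SubMulAction (stabilizer G a) Ω)
    (hS : a ∉ S) : (derangementSubgroup G Ω).index ∣ Nat.card S := by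
  classical
  haveI : Finite S := Subtype.finite
  haveI := Fintype.ofFinite (orbitRel.Quotient (stabilizer G a) S)
  rw [Nat.card_congr (selfEquivSigmaOrbitsQuotientStabilizer (stabilizer G a) S), Nat.card_sigma]
  refine Finset.dvd_sum fun ω _ => ?_
  rw [index_eq_relIndex htr a, Subgroup.relIndex, ← Subgroup.index_eq_card]
  refine Subgroup.index_dvd_of_le fun h hh => ?_
  rw [Subgroup.mem_subgroupOf]
  exact mem_of_fix_two htr (a := a) (b := ((ω.out : S) : Ω)) (ne_of_mem_of_not_mem (ω.out : S).2 hS).symm h.2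
    (congrArg Subtype.val hh)

/-- All points but one, as an invariant set of the stabilizer. -/
def others (a : Ω) : SubMulAction (stabilizer G a) Ω where
  carrier := {a}ᶜ
  smul_mem' h x hx := by
    intro e
    apply hx
    rw [Set.mem_singleton_iff] at e ⊢
    have h2 : (h : G) • a = a := h.2
    exact MulAction.injective (h : G) (e.trans h2.symm)

theorem card_others (a : Ω) : Nat.card (others (G := G) a) = Nat.card Ω - 1 := by
  have h := Set.ncard_compl ({a} : Set Ω)
  rw [Set.ncard_singleton] at h
  rw [← h, ← Nat.card_coe_set_eq]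
  rfl

theorem index_dvd (htr : IsPretransitive G Ω) (a : Ω) :
    (derangementSubgroup G Ω).index ∣ Nat.card Ω - 1 := by
  rw [← card_others (G := G) a]
  exact index_dvd_card htr a _ fun h => h rfl

theorem isPrimePow_of_index_eq [FaithfulSMul G Ω] (htr : IsPretransitive G Ω) (hΩ : 2 ≤ Nat.card Ω)
    (heq : (derangementSubgroup G Ω).index = Nat.card Ω - 1) : IsPrimePow (Nat.card Ω) := by
  haveI : Nonempty Ω := (Nat.card_pos_iff.1 (by omega)).1
  set D := derangementSubgroup G Ω with hD
  obtain ⟨a⟩ := ‹Nonempty Ω›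
  have horb : ∀ b, b ≠ a → orbit (stabilizer G a) b = {a}ᶜ := by
    intro b hb
    refine Set.eq_of_subset_of_ncard_le ?_ ?_ (Set.toFinite _)
    · rintro _ ⟨h, rfl⟩
      exact (others (G := G) a).smul_mem h hb
    · rw [Set.ncard_compl, Set.ncard_singleton, ← heq, index_eq_relIndex htr a, ← index_stabilizer]
      refine Nat.le_of_dvd (Nat.pos_of_ne_zero Subgroup.index_ne_zero_of_finite) ?_
      refine Subgroup.index_dvd_of_le fun h hh => ?_
      exact mem_of_fix_two htr hb.symm h.2 hh
  have hfix : ∀ d ∈ D, d • a = a → d = 1 := by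
    intro d hd hda
    refine FaithfulSMul.eq_of_smul_eq_smul (α := Ω) fun b => ?_
    rw [one_smul]
    by_cases hb : b = a
    · rw [hb, hda]
    have hle : (stabilizer (stabilizer G a) b) ≤ D.subgroupOf (stabilizer G a) := fun h hh =>
      mem_of_fix_two htr (Ne.symm hb) h.2 hh
    have he : stabilizer (stabilizer G a) b = D.subgroupOf (stabilizer G a) := by
      refine le_antisymm hle (Subgroup.relIndex_eq_one.1 ?_)
      have h1 := Subgroup.relIndex_mul_index hle
      rw [index_stabilizer, horb b hb, Set.ncard_compl, Set.ncard_singleton, ← heq,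
        index_eq_relIndex htr a] at h1
      have hpos : D.relIndex (stabilizer G a) ≠ 0 := Subgroup.index_ne_zero_of_finite
      exact (Nat.mul_eq_right hpos).1 h1
    have : (⟨d, hda⟩ : stabilizer G a) ∈ stabilizer (stabilizer G a) b := by rw [he]; exact hd
    exact this
  have huniq : ∀ d ∈ D, ∀ d' ∈ D, d • a = d' • a → d = d' := by
    intro d hd d' hd' e
    exact (inv_mul_eq_one.1 (hfix _ (mul_mem (inv_mem hd') hd) (by rw [mul_smul, e, inv_smul_smul]))).symm
  have hconj : ∀ d ∈ D, d ≠ 1 → ∀ d' ∈ D, d' ≠ 1 → orderOf d = orderOf d' := by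
    intro d hd hd1 d' hd' hd1'
    have h1 : d • a ≠ a := fun e => hd1 (hfix d hd e)
    have h2 : d' • a ∈ orbit (stabilizer G a) (d • a) := by
      rw [horb _ h1]; exact fun e => hd1' (hfix d' hd' e)
    obtain ⟨⟨g, hg⟩, he⟩ := h2
    have hga : g⁻¹ • a = a := inv_smul_eq_iff.2 (show g • a = a from hg).symm
    have : g * d * g⁻¹ = d' := huniq _ ((derangementSubgroup_normal (G := G) (Ω := Ω)).conj_mem d hd g) _ hd'
      (by rw [mul_smul, mul_smul, hga]; exact he)
    rw [← this]
    exact (MulEquiv.orderOf_eq (MulAut.conj g) d).symm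
  haveI := (derangementSubgroup_transitive htr).1
  have hcard : Nat.card D = Nat.card Ω := by
    refine Nat.card_eq_of_bijective (fun d : D => (d : G) • a) ⟨fun d d' e => Subtype.ext (huniq _ d.2 _ d'.2 e),
      fun b => ?_⟩
    obtain ⟨d, hd⟩ := exists_smul_eq (M := D) a b
    exact ⟨d, hd⟩
  set p := (Nat.card D).minFac with hpdef
  have hp : p.Prime := Nat.minFac_prime (by omega)
  haveI := Fact.mk hp
  obtain ⟨x, hx⟩ := exists_prime_orderOf_dvd_card' p (Nat.minFac_dvd (Nat.card D))
  have hG : IsPGroup p D := by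
    intro y
    refine ⟨1, ?_⟩
    by_cases hy : y = 1
    · simp [hy]
    have hx1 : (x : G) ≠ 1 := fun e => hp.ne_one (by rw [← hx, show x = 1 from Subtype.ext e, orderOf_one])
    have h := hconj _ x.2 hx1 _ y.2 (fun e => hy (Subtype.ext e))
    rw [Subgroup.orderOf_coe, Subgroup.orderOf_coe, hx] at h
    rw [pow_one, h]
    exact pow_orderOf_eq_one y
  obtain ⟨k, hk⟩ := IsPGroup.iff_card.1 hG
  rw [hcard] at hk
  exact isPrimePow_nat_iff _ |>.2 ⟨p, k, hp, Nat.pos_of_ne_zero fun e => by rw [e, pow_zero] at hk; omega, hk.symm⟩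

theorem index_le_sqrt (htr : IsPretransitive G Ω) (himp : ¬ IsPreprimitive G Ω) :
    ((derangementSubgroup G Ω).index : ℝ) ≤ Real.sqrt (Nat.card Ω) - 1 := by
  haveI := htr
  haveI : Nontrivial Ω := by
    by_contra h
    haveI := not_nontrivial_iff_subsingleton.1 h
    exact himp { toIsPretransitive := htr, isTrivialBlock_of_isBlock := fun {B} _ => Or.inl (Set.subsingleton_of_subsingleton) }
  obtain ⟨a⟩ : Nonempty Ω := inferInstance
  have hnc : ¬ IsCoatom (stabilizer G a) := fun h => himp ((isCoatom_stabilizer_iff_preprimitive (G := G) a).1 h)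
  have hne : stabilizer G a ≠ ⊤ := fun e => by
    have h1 := index_stabilizer_of_transitive G a
    rw [e, Subgroup.index_top] at h1
    exact absurd h1.symm (Finite.one_lt_card).ne'
  obtain ⟨H, hlt, hHtop⟩ : ∃ H, stabilizer G a < H ∧ H ≠ ⊤ := by
    by_contra h
    push Not at h
    exact hnc ⟨hne, h⟩
  set m := (derangementSubgroup G Ω).index with hm
  -- number of blocks
  have hk : m ∣ H.index - 1 := by
    have hle : derangementSubgroup G (G ⧸ H) ≤ derangementSubgroup G Ω := by
      refine Subgroup.closure_le _ |>.2 fun g hg => Subgroup.subset_closure fun ω hω => ?_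
      obtain ⟨c, rfl⟩ := exists_smul_eq G a ω
      refine hg (c : G ⧸ H) ?_
      rw [MulAction.Quotient.smul_mk, QuotientGroup.eq]
      refine hlt.le ?_
      rw [mem_stabilizer_iff, mul_smul, inv_smul_eq_iff, smul_eq_mul, mul_smul, hω]
    refine (Subgroup.index_dvd_of_le hle).trans ?_
    rw [Subgroup.index_eq_card H]
    exact index_dvd inferInstance ((1 : G) : G ⧸ H)
  -- block size
  have hb : m ∣ (stabilizer G a).relIndex H - 1 := by
    let S : SubMulAction (stabilizer G a) Ω :=
      { carrier := orbit H a \ {a}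
        smul_mem' := by
          rintro h x ⟨⟨k, rfl⟩, hx⟩
          refine ⟨⟨⟨(h : G) * k, mul_mem (hlt.le h.2) k.2⟩, mul_smul _ _ _⟩, fun e => hx ?_⟩
          rw [Set.mem_singleton_iff] at e ⊢
          exact MulAction.injective (h : G) (e.trans (show (h : G) • a = a from h.2).symm) }
    have hS := index_dvd_card htr a S fun h => h.2 rfl
    have hc : Nat.card S = (stabilizer G a).relIndex H - 1 := by
      show Nat.card ↥(orbit H a \ {a}) = _
      rw [Nat.card_coe_set_eq, Set.ncard_sdiff_singleton_of_mem (mem_orbit_self a), ← index_stabilizer]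
      rfl
    rwa [hc] at hS
  have hn : (stabilizer G a).relIndex H * H.index = Nat.card Ω := by
    rw [Subgroup.relIndex_mul_index hlt.le, index_stabilizer_of_transitive]
  have hk2 : 2 ≤ H.index := by
    have h0 := H.index_ne_zero_of_finite
    have h1 : H.index ≠ 1 := mt Subgroup.index_eq_one.1 hHtop
    omega
  have hb2 : 2 ≤ (stabilizer G a).relIndex H := by
    have h0 : (stabilizer G a).relIndex H ≠ 0 := Subgroup.index_ne_zero_of_finite
    have h1 : (stabilizer G a).relIndex H ≠ 1 := fun e => hlt.not_ge (Subgroup.relIndex_eq_one.1 e)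
    omega
  have h1 := Nat.le_of_dvd (by omega) hk
  have h2 := Nat.le_of_dvd (by omega) hb
  have h3 : (m + 1) ^ 2 ≤ Nat.card Ω := by
    rw [← hn, pow_two]
    exact Nat.mul_le_mul (by omega) (by omega)
  rw [le_sub_iff_add_le]
  apply Real.le_sqrt_of_sq_le
  exact_mod_cast h3

end CfsgLib.Char.DerangementIndex
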