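import Cfsg.Agent.Lib.Char.DerangementComponents

/-!
# Primitive affine groups with two classes of derangements
-/

set_option autoImplicit false
set_option linter.unusedSectionVars false
set_option linter.style.haveILetI false

namespace CfsgLib.Char.DerangementTwo

open MulAction Subgroup CfsgLib.Char.ExtremelyType CfsgLib.Char.DerangementClass
  CfsgLib.Char.DerangementComponents

universe u v

variable {G : Type u} [Group G] [Finite G] {Ω : Type v} [MulAction G Ω] [FaithfulSMul G Ω]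
  [Fintype Ω]

theorem three_classes
    (h : Nat.card {c : ConjClasses G // ∃ g : G, ConjClasses.mk g = c ∧ ∀ ω : Ω, g • ω ≠ ω} = 2)
    (a b c : G) (ha : Der Ω a) (hb : Der Ω b) (hc : Der Ω c) :
    IsConj a b ∨ IsConj a c ∨ IsConj b c := by
  by_contra hno
  push Not at hno
  obtain ⟨h1, h2, h3⟩ := hno
  let f : Fin 3 → {c : ConjClasses G // ∃ g : G, ConjClasses.mk g = c ∧ ∀ ω : Ω, g • ω ≠ ω} :=
    ![⟨ConjClasses.mk a, a, rfl, ha⟩, ⟨ConjClasses.mk b, b, rfl, hb⟩, ⟨ConjClasses.mk c, c, rfl, hc⟩]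
  have hf : Function.Injective f := by
    intro i j e
    have e' := congrArg Subtype.val e
    fin_cases i <;> fin_cases j
    · rfl
    · exact absurd (ConjClasses.mk_eq_mk_iff_isConj.1 e') h1
    · exact absurd (ConjClasses.mk_eq_mk_iff_isConj.1 e') h2
    · exact absurd (ConjClasses.mk_eq_mk_iff_isConj.1 e').symm h1
    · rfl
    · exact absurd (ConjClasses.mk_eq_mk_iff_isConj.1 e') h3
    · exact absurd (ConjClasses.mk_eq_mk_iff_isConj.1 e').symm h2
    · exact absurd (ConjClasses.mk_eq_mk_iff_isConj.1 e').symm h3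
    · rfl
  have := Nat.card_le_card_of_injective f hf
  rw [h, Nat.card_fin] at this
  omega

theorem affine_two (hprim : IsPreprimitive G Ω) [Nontrivial Ω]
    (hnas : ¬ AlmostSimple G) (α : Ω)
    (hκ : Nat.card {c : ConjClasses G // ∃ g : G, ConjClasses.mk g = c ∧ ∀ ω : Ω, g • ω ≠ ω} = 2) :
    (∃ N : Subgroup G, Affine N Ω) ∧
    (((∀ g : G, g ≠ 1 → Nat.card (MulAction.fixedBy Ω g) ≤ 1) ∧ ¬ 2 ∣ Fintype.card Ω ∧
        2 * Nat.card (MulAction.stabilizer G α) = Fintype.card Ω - 1) ∨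
      (IsMultiplyPretransitive G Ω 2 ∧ ∃ g : G, g ≠ 1 ∧ 2 ≤ Nat.card (MulAction.fixedBy Ω g))) := by
  classical
  haveI := Fintype.ofFinite G
  haveI := hprim
  have htwo := three_classes (Ω := Ω) hκ
  obtain ⟨N, hA⟩ := (affine_or_almost_simple_of_two_classes hprim htwo).resolve_right hnas
  refine ⟨⟨N, hA⟩, ?_⟩
  haveI := hA.minimal.normal
  haveI := hA.trans
  haveI : Fintype (orbitRel.Quotient G (Ω × Ω)) := Fintype.ofFinite _
  set r := Fintype.card (orbitRel.Quotient G (Ω × Ω)) with hr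
  by_cases hr2 : r ≤ 2
  · have h2 := two_pretransitive_of_card hr2
    refine Or.inr ⟨h2, ?_⟩
    by_contra hno
    push Not at hno
    have h1 := (card_classes_eq_one_iff hprim hnas).2 ⟨h2, fun g hg a b hab ha hb => by
      have h3 := hno g hg
      rw [Nat.lt_succ_iff, Finite.card_le_one_iff_subsingleton] at h3
      exact hab (congrArg Subtype.val (@Subsingleton.elim _ h3 ⟨a, ha⟩ ⟨b, hb⟩))⟩
    omega
  refine Or.inl ?_
  set n := Fintype.card Ω with hn
  let e : N ≃ Ω := Equiv.ofBijective (fun x : N => (x : G) • α) ⟨fun x y hxy => Subtype.ext (by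
      have h1 : ((y : G)⁻¹ * x) = 1 := hA.free α _ (mul_mem (inv_mem y.2) x.2)
        (by rw [mul_smul, show (x : G) • α = (y : G) • α from hxy, inv_smul_smul])
      exact (inv_mul_eq_one.1 h1).symm), fun z => exists_smul_eq N α z⟩
  have hder : ∀ x ∈ N, x ≠ 1 → Der Ω x := fun x hx hx1 z hz => hx1 (hA.free z x hx hz)
  have hconjN : ∀ x y : N, IsConj (x : G) y → ∃ h : stabilizer G α, (h : G) • e x = e y := by
    intro x y hxy
    obtain ⟨g, hg⟩ := isConj_iff.1 hxy
    obtain ⟨m, hm⟩ := exists_smul_eq N α (g • α)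
    have hm' : (m : G) • α = g • α := hm
    refine ⟨⟨(m : G)⁻¹ * g, by rw [mem_stabilizer_iff, mul_smul, ← hm', inv_smul_smul]⟩, ?_⟩
    show ((m : G)⁻¹ * g) • (x : G) • α = (y : G) • α
    rw [← mul_smul, show (m : G)⁻¹ * g * x = (m : G)⁻¹ * y * g by rw [← hg]; group,
      hA.comm _ (inv_mem m.2) y y.2, mul_smul, mul_smul, ← hm', inv_smul_smul]
  -- two classes inside `N`
  obtain ⟨x₁, x₂, hx₁, hx₂, hx12⟩ : ∃ x₁ x₂ : N, x₁ ≠ 1 ∧ x₂ ≠ 1 ∧ ¬ IsConj (x₁ : G) x₂ := by
    by_contra hall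
    push Not at hall
    refine hr2 (orbits_prod_le (G := G) ?_)
    have hstab : ∀ z w : Ω, z ≠ α → w ≠ α → ∃ h : stabilizer G α, (h : G) • z = w := by
      intro z w hz hw
      have hne : ∀ {v : Ω}, v ≠ α → e.symm v ≠ 1 := fun {v} hv h1 => hv (by
        rw [← e.apply_symm_apply v, h1]
        exact one_smul G α)
      obtain ⟨h, hh⟩ := hconjN _ _ (hall (e.symm z) (e.symm w) (hne hz) (hne hw))
      rw [e.apply_symm_apply, e.apply_symm_apply] at hh
      exact ⟨h, hh⟩
    rw [is_two_pretransitive_iff]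
    intro a b c d hab hcd
    obtain ⟨g, hg⟩ := exists_smul_eq G a α
    obtain ⟨g', hg'⟩ := exists_smul_eq G c α
    obtain ⟨h, hh⟩ := hstab (g • b) (g' • d)
      (fun e' => hab (MulAction.injective g (hg.trans e'.symm)))
      (fun e' => hcd (MulAction.injective g' (hg'.trans e'.symm)))
    refine ⟨g'⁻¹ * h * g, ?_, ?_⟩
    · rw [mul_smul, mul_smul, hg, mem_stabilizer_iff.1 h.2, inv_smul_eq_iff, hg']
    · rw [mul_smul, mul_smul, hh, inv_smul_smul]
  have hd₁ := hder x₁ x₁.2 fun h1 => hx₁ (Subtype.ext h1)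
  have hd₂ := hder x₂ x₂.2 fun h1 => hx₂ (Subtype.ext h1)
  have hcases : ∀ g : G, Der Ω g → IsConj (x₁ : G) g ∨ IsConj (x₂ : G) g := fun g hg =>
    (htwo _ _ g hd₁ hd₂ hg).resolve_left hx12
  have hinN : ∀ g : G, Der Ω g → g ∈ N := by
    intro g hg
    rcases hcases g hg with h | h <;> obtain ⟨c, rfl⟩ := isConj_iff.1 h
    · exact hA.minimal.normal.conj_mem _ x₁.2 c
    · exact hA.minimal.normal.conj_mem _ x₂.2 c
  have hNcard : Nat.card N = n := by rw [Nat.card_congr e, Nat.card_eq_fintype_card]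
  set D := (Finset.univ.filter fun g : G => Der Ω g).card with hD
  have hDn : D + 1 ≤ n := by
    rw [← hNcard, Nat.card_eq_fintype_card, hD, ← Fintype.card_coe, ← Fintype.card_option]
    refine Fintype.card_le_of_injective (fun o => match o with
      | none => (1 : N)
      | some g => ⟨g.1, hinN g.1 (Finset.mem_filter.1 g.2).2⟩) ?_
    have hno : ∀ g : {g // g ∈ Finset.univ.filter fun g : G => Der Ω g}, g.1 ≠ 1 := fun g h1 =>
      (Finset.mem_filter.1 g.2).2 α (by rw [h1, one_smul])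
    rintro (_ | a) (_ | b) he
    · rfl
    · exact absurd (congrArg Subtype.val he).symm (hno b)
    · exact absurd (congrArg Subtype.val he) (hno a)
    · exact congrArg some (Subtype.ext (congrArg (fun z : N => (z : G)) he))
  -- the point stabilizer has at most two orbits off `α`
  set H := stabilizer G α with hH
  have hn1 : n ≤ 1 + 2 * Nat.card H := by
    have hcov : (Finset.univ : Finset Ω) ⊆
        insert α ((Finset.univ.image fun h : H => (h : G) • e x₁) ∪
          (Finset.univ.image fun h : H => (h : G) • e x₂)) := by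
      intro z _
      by_cases hz : z = α
      · exact Finset.mem_insert.2 (Or.inl hz)
      refine Finset.mem_insert.2 (Or.inr (Finset.mem_union.2 ?_))
      have hne : e.symm z ≠ 1 := fun h1 => hz (by
        rw [← e.apply_symm_apply z, h1]
        exact one_smul G α)
      have hd := hder _ (e.symm z).2 fun h1 => hne (Subtype.ext h1)
      rcases hcases _ hd with h | h <;> obtain ⟨k, hk⟩ := hconjN _ _ h
      · exact Or.inl (Finset.mem_image.2 ⟨k, Finset.mem_univ _, by rw [hk, e.apply_symm_apply]⟩)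
      · exact Or.inr (Finset.mem_image.2 ⟨k, Finset.mem_univ _, by rw [hk, e.apply_symm_apply]⟩)
    have h1 := (Finset.card_le_card hcov).trans
      ((Finset.card_insert_le _ _).trans (Nat.add_le_add_right (Finset.card_union_le _ _) 1))
    have h2 : ∀ x : Ω, (Finset.univ.image fun h : H => (h : G) • x).card ≤ Nat.card H := fun x =>
      Finset.card_image_le.trans (by rw [Finset.card_univ, Nat.card_eq_fintype_card])
    have h3 := h2 (e x₁)
    have h4 := h2 (e x₂)
    rw [Finset.card_univ] at h1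
    omega
  have hGn : Fintype.card G = n * Nat.card H := by
    rw [← Nat.card_eq_fintype_card (α := G), ← Subgroup.card_mul_index H, index_stabilizer_of_transitive,
      Nat.card_eq_fintype_card (α := Ω), mul_comm]
  let f : G → ℕ := fun g => Fintype.card (fixedBy Ω g)
  haveI : Nonempty Ω := ⟨α⟩
  have hid : ∑ g : G, ((f g : ℤ) - 1) * ((f g : ℤ) - (n : ℤ)) = ((r : ℤ) - 1) * (Fintype.card G : ℤ) :=
    count_identity
  have hf0 : ∀ g : G, f g = 0 ↔ Der Ω g := fun g => by
    show Fintype.card (fixedBy Ω g) = 0 ↔ _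
    rw [Fintype.card_eq_zero_iff, isEmpty_subtype]
    rfl
  have hterm : ∀ g : G, ((f g : ℤ) - 1) * ((f g : ℤ) - (n : ℤ)) ≤ if Der Ω g then (n : ℤ) else 0 := by
    intro g
    split_ifs with h
    · rw [(hf0 g).2 h]; push_cast; nlinarith
    · have h1 : 1 ≤ f g := Nat.one_le_iff_ne_zero.2 fun e => h ((hf0 g).1 e)
      have h2 : f g ≤ n := Fintype.card_le_of_injective _ Subtype.val_injective
      nlinarith
  have hsum : ∑ g : G, (if Der Ω g then (n : ℤ) else 0) = (D : ℤ) * n := by
    rw [← Finset.sum_filter, Finset.sum_const, nsmul_eq_mul]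
  have hge := Finset.sum_le_sum (s := Finset.univ) fun g _ => hterm g
  rw [hid, hsum] at hge
  have hn0 : 1 ≤ n := Fintype.card_pos
  have hkey : 2 * Nat.card H ≤ n - 1 := by
    have h1 : ((r : ℤ) - 1) * (Fintype.card G : ℤ) ≤ ((n : ℤ) - 1) * n := by
      refine hge.trans ?_
      have : (D : ℤ) ≤ (n : ℤ) - 1 := by omega
      nlinarith
    rw [hGn] at h1
    push_cast at h1
    have h2 : (2 : ℤ) ≤ (r : ℤ) - 1 := by omega
    have h3 : (2 : ℤ) * ((n : ℤ) * Nat.card H) ≤ ((n : ℤ) - 1) * n := by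
      refine le_trans ?_ h1
      nlinarith
    have h4 : (2 : ℤ) * Nat.card H ≤ (n : ℤ) - 1 := by
      nlinarith
    omega
  have hH2 : 2 * Nat.card H = n - 1 := by omega
  refine ⟨fun g hg => ?_, by omega, hH2⟩
  have hHz : (2 : ℤ) * Nat.card H = (n : ℤ) - 1 := by omega
  have heq : ∑ g : G, ((f g : ℤ) - 1) * ((f g : ℤ) - (n : ℤ)) =
      ∑ g : G, (if Der Ω g then (n : ℤ) else 0) := by
    rw [hid, hsum]
    refine le_antisymm hge ?_
    rw [hGn]
    push_cast
    have h2 : (2 : ℤ) ≤ (r : ℤ) - 1 := by omega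
    have h3 : (D : ℤ) ≤ (n : ℤ) - 1 := by omega
    nlinarith
  have hg0 := (Finset.sum_eq_sum_iff_of_le fun g _ => hterm g).1 heq g (Finset.mem_univ g)
  rw [Nat.card_eq_fintype_card]
  show f g ≤ 1
  by_cases hdg : Der Ω g
  · rw [(hf0 g).2 hdg]; omega
  · rw [if_neg hdg] at hg0
    have h3 : f g < n := card_fixedBy_lt hg
    rcases mul_eq_zero.1 hg0 with e' | e' <;> omega

end CfsgLib.Char.DerangementTwo
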