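import Cfsg.Agent.Lib.Char.CNOdd
import Mathlib.GroupTheory.Nilpotent

/-!
# Groups with maximal stabilizers of all elements

If a group `H` acts on a group `T` respecting powers, contains all inner automorphisms, and the
stabilizer of every non-trivial element is maximal, then `T` is solvable or has an invariant
normal subgroup.
-/

set_option autoImplicit false
set_option linter.style.haveILetI false

namespace CfsgLib.Char.DiagonalAction

open MulAction Subgroup

universe u v

variable {T : Type u} [Group T] [Finite T] {H : Type v} [Group H] [MulAction H T]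

variable (hpow : ∀ (h : H) (x : T) (n : ℕ), h • x ^ n = (h • x) ^ n)
  (hinn : ∀ t : T, ∃ h : H, ∀ x : T, h • x = t * x * t⁻¹)
  (hmax : ∀ x : T, x ≠ 1 → IsCoatom (stabilizer H x))

include hpow hmax in
/-- A power has the same stabilizer. -/
theorem stab_pow {x : T} {n : ℕ} (h1 : x ^ n ≠ 1) : stabilizer H x = stabilizer H (x ^ n) := by
  have hx : x ≠ 1 := fun e => h1 (by rw [e, one_pow])
  have hle : stabilizer H x ≤ stabilizer H (x ^ n) := fun h hh =>
    mem_stabilizer_iff.2 (by rw [hpow, mem_stabilizer_iff.1 hh])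
  exact (((hmax x hx).le_iff.1 hle).resolve_left (hmax _ h1).1).symm

include hinn in
theorem commute_of_stab_eq {x z w : T} (e : stabilizer H x = stabilizer H z) (hw : Commute w x) :
    Commute w z := by
  obtain ⟨h, hh⟩ := hinn w
  have h1 : h ∈ stabilizer H x := mem_stabilizer_iff.2 (by rw [hh, hw.eq, mul_inv_cancel_right])
  rw [e, mem_stabilizer_iff, hh, mul_inv_eq_iff_eq_mul] at h1
  exact h1

include hpow hinn hmax in
theorem commute_of_coprime {x z w : T} (hx : x ≠ 1) (hz : z ≠ 1) (hc : Commute x z)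
    (hcop : (orderOf x).Coprime (orderOf z)) (hw : Commute w x) : Commute w z := by
  refine commute_of_stab_eq hinn ?_ hw
  obtain ⟨n, hn1, hn2⟩ := Nat.chineseRemainder hcop 1 0
  obtain ⟨m, hm1, hm2⟩ := Nat.chineseRemainder hcop 0 1
  have e1 : (x * z) ^ n = x := by
    rw [hc.mul_pow, pow_eq_pow_iff_modEq.2 hn1, pow_eq_pow_iff_modEq.2 hn2, pow_one, pow_zero,
      mul_one]
  have e2 : (x * z) ^ m = z := by
    rw [hc.mul_pow, pow_eq_pow_iff_modEq.2 hm1, pow_eq_pow_iff_modEq.2 hm2, pow_one, pow_zero,
      one_mul]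
  have a := stab_pow hpow hmax (x := x * z) (n := n) (by rwa [e1])
  have b := stab_pow hpow hmax (x := x * z) (n := m) (by rwa [e2])
  rw [e1] at a
  rw [e2] at b
  exact a.symm.trans b

include hpow hinn hmax in
theorem isCNGroup : Cfsg.IsCNGroup T := by
  intro y hy
  obtain ⟨p, hp, hpy⟩ := Nat.exists_prime_and_dvd (n := orderOf y) fun h => hy (orderOf_eq_one_iff.1 h)
  haveI := Fact.mk hp
  obtain ⟨m, hm⟩ := hpy
  have hox : orderOf (y ^ m) = p := by
    have h0 : m ≠ 0 := by
      rintro rfl
      rw [mul_zero] at hm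
      exact (orderOf_pos y).ne' hm
    rw [orderOf_pow' y h0, hm, Nat.gcd_eq_right (Dvd.intro_left _ rfl),
      Nat.mul_div_cancel _ (Nat.pos_of_ne_zero h0)]
  set x := y ^ m with hxdef
  have hx : x ≠ 1 := fun e => hp.ne_one (by rw [← hox, e, orderOf_one])
  have hle : centralizer ({y} : Set T) ≤ centralizer ({x} : Set T) := by
    intro w hw
    rw [mem_centralizer_singleton_iff] at hw ⊢
    exact (Commute.pow_right hw m)
  suffices hC : Group.IsNilpotent (centralizer ({x} : Set T)) by
    haveI := hC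
    exact Group.nilpotent_of_mulEquiv (subgroupOfEquivOfLe hle)
  refine Group.of_quotient_center_nilpotent (IsPGroup.isNilpotent (p := p) ?_)
  intro q
  obtain ⟨⟨g, hg⟩, rfl⟩ := QuotientGroup.mk'_surjective (center (centralizer ({x} : Set T))) q
  refine ⟨(orderOf g).factorization p, ?_⟩
  rw [← map_pow, ← MonoidHom.mem_ker, QuotientGroup.ker_mk', mem_center_iff]
  rintro ⟨w, hw⟩
  refine Subtype.ext ?_
  rw [mem_centralizer_singleton_iff] at hg hw
  show w * g ^ p ^ (orderOf g).factorization p = g ^ p ^ (orderOf g).factorization p * w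
  set z := g ^ p ^ (orderOf g).factorization p with hzdef
  by_cases hz : z = 1
  · rw [hz, mul_one, one_mul]
  refine commute_of_coprime hpow hinn hmax hx hz (Commute.pow_right (Commute.symm hg) _) ?_ hw
  rw [hox, hp.coprime_iff_not_dvd]
  intro hd
  have h0 : p ^ (orderOf g).factorization p ≠ 0 := pow_ne_zero _ hp.ne_zero
  rw [hzdef, orderOf_pow' g h0, Nat.gcd_eq_right (Nat.ordProj_dvd _ _)] at hd
  exact Nat.not_dvd_ordCompl hp (orderOf_pos g).ne' hd

include hpow hinn hmax in
theorem false_of_hyp (hns : ¬ Group.IsSolvable T)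
    (hinv : ∀ U : Subgroup T, U.Normal → (∀ h : H, ∀ x ∈ U, h • x ∈ U) → U = ⊥ ∨ U = ⊤) :
    False := by
  classical
  by_cases hodd : Odd (Nat.card T)
  · exact hns (CfsgLib.Char.isSolvable_of_cn_odd hodd (isCNGroup hpow hinn hmax))
  have habel : ∀ U : Subgroup T, U = ⊤ → (∀ a ∈ U, ∀ b ∈ U, a * b = b * a) → False :=
    fun U e h => hns (Group.isSolvable_of_comm fun a b => h a (e ▸ mem_top a) b (e ▸ mem_top b))
  -- two involutions commute
  have hcomm : ∀ a b : T, a * a = 1 → b * b = 1 → a * b = b * a := by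
    intro a b ha hb
    set w := a * b with hw
    by_contra hne
    have hw1 : w ≠ 1 := fun e => hne (e.trans (mul_eq_one_comm.1 (hw.symm.trans e)).symm)
    have hwinv : w⁻¹ = b * a := by
      rw [hw, mul_inv_rev, inv_eq_of_mul_eq_one_right ha, inv_eq_of_mul_eq_one_right hb]
    have hflip : a * w * a⁻¹ = w⁻¹ := by
      rw [hwinv, hw, inv_eq_of_mul_eq_one_right ha, ← mul_assoc a a b, ha, one_mul]
    obtain ⟨h₀, hh₀⟩ := hinn a
    let S : Subgroup H :=
      { carrier := {h | ∀ y ∈ zpowers w, h • y ∈ zpowers w}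
        one_mem' := fun y hy => by rwa [one_smul]
        mul_mem' := fun {h k} hh hk y hy => by rw [mul_smul]; exact hh _ (hk y hy)
        inv_mem' := fun {h} hh y hy => by
          obtain ⟨z, hz⟩ := (Finite.surjective_of_injective
            (f := fun z : zpowers w => (⟨h • z.1, hh z.1 z.2⟩ : zpowers w))
            fun z z' e => Subtype.ext (MulAction.injective h (congrArg Subtype.val e))) ⟨y, hy⟩
          rw [← show h • (z : T) = y from congrArg Subtype.val hz, inv_smul_smul]
          exact z.2 }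
    have hkey : ∀ h : H, h • w ∈ zpowers w → h ∈ S := fun h hh y hy => by
      obtain ⟨n, rfl⟩ := mem_powers_iff_mem_zpowers.2 hy
      simp only [hpow]
      exact pow_mem hh n
    have hle : stabilizer H w ≤ S := fun h hh =>
      hkey h (by rw [mem_stabilizer_iff.1 hh]; exact mem_zpowers w)
    have h₀S : h₀ ∈ S := hkey h₀ (by rw [hh₀, hflip]; exact inv_mem (mem_zpowers w))
    rcases (hmax w hw1).le_iff.1 hle with hS | hS
    · have hn : (zpowers w).Normal := ⟨fun y hy t => by
        obtain ⟨h, hh⟩ := hinn t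
        rw [← hh]
        exact (hS ▸ mem_top h : h ∈ S) y hy⟩
      rcases hinv _ hn fun h => (hS ▸ mem_top h : h ∈ S) with e | e
      · exact hw1 (zpowers_eq_bot.1 e)
      · exact habel _ e fun x hx y hy => congrArg Subtype.val
          (IsCyclic.commGroup.mul_comm (⟨x, hx⟩ : zpowers w) ⟨y, hy⟩)
    · rw [hS, mem_stabilizer_iff, hh₀, hflip, hwinv, hw] at h₀S
      exact hne h₀S.symm
  -- the involutions form an invariant normal subgroup
  let U : Subgroup T :=
    { carrier := {x | x * x = 1}
      one_mem' := one_mul 1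
      mul_mem' := fun {a b} (ha : a * a = 1) (hb : b * b = 1) => by
        show a * b * (a * b) = 1
        rw [← mul_assoc, mul_assoc a b a, ← hcomm a b ha hb, ← mul_assoc, ha, one_mul, hb]
      inv_mem' := fun {a} (ha : a * a = 1) => by
        show a⁻¹ * a⁻¹ = 1
        rw [← mul_inv_rev, ha, inv_one] }
  have hUn : U.Normal := ⟨fun x (hx : x * x = 1) t => by
    show t * x * t⁻¹ * (t * x * t⁻¹) = 1
    rw [show t * x * t⁻¹ * (t * x * t⁻¹) = t * (x * x) * t⁻¹ by group, hx]
    group⟩
  have hone : ∀ h : H, h • (1 : T) = 1 := fun h => by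
    conv_lhs => rw [← pow_zero (1 : T), hpow, pow_zero]
  have hUi : ∀ h : H, ∀ x ∈ U, h • x ∈ U := fun h x (hx : x * x = 1) => by
    show h • x * h • x = 1
    rw [← sq, ← hpow, sq, hx, hone]
  rcases hinv U hUn hUi with e | e
  · rw [Nat.not_odd_iff_even, even_iff_two_dvd] at hodd
    haveI := Fact.mk Nat.prime_two
    obtain ⟨x, hx⟩ := exists_prime_orderOf_dvd_card' 2 hodd
    have hxU : x ∈ U := by
      show x * x = 1
      rw [← sq, ← hx, pow_orderOf_eq_one]
    rw [e, mem_bot] at hxU
    rw [hxU, orderOf_one] at hx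
    omega
  · exact habel U e fun a ha b hb => hcomm a b ha hb

end CfsgLib.Char.DiagonalAction
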