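import Cfsg.Agent.Lib.Char.QuaternionExceptional
import Cfsg.Agent.Lib.Char.ClassMul
import Cfsg.Agent.Lib.Char.Linear
import Cfsg.Agent.Lib.Fusion.Tate
import Cfsg.Agent.Lib.Invol.Basic
import Mathlib.GroupTheory.SpecificGroups.Dihedral

/-!
# Perfect groups with an involution centralizer dihedral of order eight
-/

open Subgroup

set_option autoImplicit false
set_option linter.unusedSectionVars false

namespace CfsgLib.Char

open scoped ComplexConjugate
open Cfsg

universe u

/-! ## The dihedral group of order eight -/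

/-- The two-dimensional integral representation. -/
def d8Mat : DihedralGroup 4 → Matrix (Fin 2) (Fin 2) ℤ
  | .r i => !![0, -1; 1, 0] ^ i.val
  | .sr i => !![1, 0; 0, -1] * !![0, -1; 1, 0] ^ i.val

/-- The sign trivial on rotations. -/
def d8Sign : DihedralGroup 4 → ℤ
  | .r _ => 1
  | .sr _ => -1

/-- The sign `(-1)^i` on both cosets. -/
def d8Alt : DihedralGroup 4 → ℤ
  | .r i => (-1) ^ i.val
  | .sr i => (-1) ^ i.val

/-- The function `1 + sign - χ₂`. -/
def d8Val (q : DihedralGroup 4) : ℤ := 1 + d8Sign q - (d8Mat q).trace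

theorem d8_sum {M : Type*} [AddCommMonoid M] (F : DihedralGroup 4 → M) :
    ∑ q, F q = F (.r 0) + F (.r 1) + F (.r 2) + F (.r 3) +
      (F (.sr 0) + F (.sr 1) + F (.sr 2) + F (.sr 3)) := by
  have h : (Finset.univ : Finset (DihedralGroup 4)) =
      {.r 0, .r 1, .r 2, .r 3, .sr 0, .sr 1, .sr 2, .sr 3} := by decide
  rw [h, Finset.sum_insert (by decide), Finset.sum_insert (by decide), Finset.sum_insert (by decide),
    Finset.sum_insert (by decide), Finset.sum_insert (by decide), Finset.sum_insert (by decide),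
    Finset.sum_insert (by decide), Finset.sum_singleton]
  simp only [add_assoc]

theorem isCharacter_d8Hom (f : DihedralGroup 4 → ℤ) (h1 : f 1 = 1)
    (hm : ∀ x y, f (x * y) = f x * f y) : IsCharacter (DihedralGroup 4) (fun q => (f q : ℂ)) := by
  let g : DihedralGroup 4 →* ℂ :=
    { toFun := fun q => (f q : ℂ)
      map_one' := by rw [h1, Int.cast_one]
      map_mul' := fun x y => by rw [hm, Int.cast_mul] }
  exact isCharacter_of_isIrr (isIrrCharacter_lin g.toHomUnits)

theorem isGeneralized_d8Val :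
    IsGeneralizedCharacter (DihedralGroup 4) (fun q => (d8Val q : ℂ)) := by
  let g : DihedralGroup 4 →* Matrix (Fin 2) (Fin 2) ℂ :=
    { toFun := fun q => (d8Mat q).map (Int.castRingHom ℂ)
      map_one' := by rw [show d8Mat 1 = 1 by decide]; simp
      map_mul' := fun x y => by
        rw [(by decide : ∀ x y, d8Mat (x * y) = d8Mat x * d8Mat y) x y, Matrix.map_mul] }
  let ρ : Representation ℂ (DihedralGroup 4) (Fin 2 → ℂ) :=
    (Matrix.toLinAlgEquiv' (R := ℂ) (n := Fin 2)).toMonoidHom.comp g
  have hρ : IsCharacter (DihedralGroup 4) (fun q => ((d8Mat q).trace : ℂ)) := by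
    refine ⟨2, ρ, funext fun q => ?_⟩
    show LinearMap.trace ℂ _ (Matrix.toLin' ((d8Mat q).map (Int.castRingHom ℂ))) = _
    rw [Matrix.trace_toLin'_eq]
    simp [Matrix.trace, Matrix.diag]
  have h : (fun q => (d8Val q : ℂ)) =
      ((fun _ => (1 : ℂ)) + fun q => (d8Sign q : ℂ)) - fun q => ((d8Mat q).trace : ℂ) := by
    funext q
    simp [d8Val]
  rw [h]
  exact isGeneralizedCharacter_sub (isGeneralizedCharacter_of_isCharacter
    (isCharacter_add (isCharacter_of_isIrr isIrrCharacter_one)
      (isCharacter_d8Hom d8Sign rfl (by decide))))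
    (isGeneralizedCharacter_of_isCharacter hρ)

/-! ## The order -/

theorem d8_arith {g d : ℕ} (h8 : 8 ∣ g) {a b : ℤ} (hab : a = 2 ∧ b = -1 ∨ a = 1 ∧ b = -2)
    (hcong : a = 2 → d % 8 = 6) (hcong' : a = 1 → d % 8 = 1)
    (heq : (g : ℤ) * ((d : ℤ) * (d + 1) + a ^ 2 * (d + 1) - b ^ 2 * d) = 256 * ((d : ℤ) * (d + 1))) :
    g = 168 ∨ g = 360 := by
  obtain ⟨u, rfl⟩ := h8
  rcases hab with ⟨rfl, rfl⟩ | ⟨rfl, rfl⟩
  · obtain ⟨m, hm⟩ : ∃ m, d + 2 = 8 * m := ⟨(d + 2) / 8, by have := hcong rfl; omega⟩
    have hd : (d : ℤ) = 8 * m - 2 := by omega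
    rw [hd] at heq
    push_cast at heq
    have h1 : (u : ℤ) * m * m = (4 * m - 1) * (8 * m - 1) := by linarith
    have h2 : (m : ℤ) ∣ 1 := ⟨u * m - 32 * m + 12, by linarith⟩
    have h3 : m = 1 := Nat.dvd_one.1 (by exact_mod_cast h2)
    subst h3
    left
    push_cast at h1
    omega
  · obtain ⟨m, hm⟩ : ∃ m, d = 8 * m + 1 := ⟨d / 8, by have := hcong' rfl; omega⟩
    subst hm
    push_cast at heq
    have h1 : (u : ℤ) * m * m = (8 * m + 1) * (4 * m + 1) := by linarith
    have h2 : (m : ℤ) ∣ 1 := ⟨u * m - 32 * m - 12, by linarith⟩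
    have h3 : m = 1 := Nat.dvd_one.1 (by exact_mod_cast h2)
    subst h3
    right
    push_cast at h1
    omega

variable {G : Type u} [Group G] [Fintype G]

theorem sum_mul_eq_nat {H : Type u} [Group H] [Fintype H] {χ w : H → ℂ} (hχ : IsCharacter H χ)
    (hw : IsCharacter H w) : ∃ m : ℕ, ∑ h : H, χ h * conj (w h) = (Nat.card H : ℂ) * m := by
  obtain ⟨m, hm⟩ := classInner_isCharacter hχ hw
  refine ⟨m, ?_⟩
  rw [← hm, classInner, mul_inv_cancel_left₀ (by exact_mod_cast Nat.card_pos.ne')]

/-- Without subgroups of index two, the involutions form one class. -/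
theorem isConj_of_centralizer_dihedral_eight (hno2 : ∀ H : Subgroup G, H.index ≠ 2) (t : G) (ht : orderOf t = 2)
    (e : Subgroup.centralizer ({t} : Set G) ≃* DihedralGroup 4) :
    ∀ x : G, x * x = 1 → x ≠ 1 → IsConj t x := by
  classical
  haveI : Fact (Nat.Prime 2) := ⟨Nat.prime_two⟩
  have htC : t ∈ Subgroup.centralizer ({t} : Set G) := mem_centralizer_singleton_iff.2 rfl
  set el : DihedralGroup 4 →* G := (Subgroup.centralizer ({t} : Set G)).subtype.comp e.symm.toMonoidHom
    with hel
  have helinj : Function.Injective el := (Subgroup.subtype_injective _).comp e.symm.injective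
  have helC : ∀ q, el q ∈ Subgroup.centralizer ({t} : Set G) := fun q => (e.symm q).2
  have helof : ∀ x (hx : x ∈ Subgroup.centralizer ({t} : Set G)), el (e ⟨x, hx⟩) = x := fun x hx => by
    simp [hel]
  have het : e ⟨t, htC⟩ = .r 2 := by
    refine (by decide : ∀ q : DihedralGroup 4, (∀ x, q * x = x * q) → q * q = 1 → q ≠ 1 → q = .r 2) _
      (fun x => ?_) ?_ ?_
    · rw [← e.apply_symm_apply x, ← map_mul, ← map_mul]
      exact congrArg e (Subtype.ext (mem_centralizer_singleton_iff.1 (e.symm x).2).symm)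
    · rw [← map_mul, ← map_one e]
      exact congrArg e (Subtype.ext (by
        show t * t = 1
        rw [← pow_two, ← ht, pow_orderOf_eq_one]))
    · rw [← map_one e]
      exact fun h => (Invol.invol_ne_one ht) (congrArg Subtype.val (e.injective h))
  have helt : el (.r 2) = t := by rw [← het, helof]
  have hcardC : Nat.card (Subgroup.centralizer ({t} : Set G)) = 8 := by
    rw [Nat.card_congr e.toEquiv, Nat.card_eq_fintype_card]; rfl
  -- the centralizer is a Sylow subgroup
  have hC2 : IsPGroup 2 (Subgroup.centralizer ({t} : Set G)) := IsPGroup.of_card (n := 3) (by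
    rw [hcardC]; norm_num)
  obtain ⟨S, hCS⟩ := hC2.exists_le_sylow
  have hSC : (S : Subgroup G) = Subgroup.centralizer ({t} : Set G) := by
    refine le_antisymm (fun x hx => ?_) hCS
    haveI : Nontrivial (S : Subgroup G) := ⟨⟨⟨t, hCS htC⟩, 1, fun h =>
      Invol.invol_ne_one ht (congrArg Subtype.val h)⟩⟩
    haveI := S.2.center_nontrivial
    obtain ⟨k, hk⟩ := IsPGroup.iff_card.1 (S.2.to_subgroup (Subgroup.center (S : Subgroup G)))
    have hk0 : k ≠ 0 := fun e' => absurd (Finite.one_lt_card (α := Subgroup.center (S : Subgroup G)))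
      (by rw [hk, e', pow_zero]; exact lt_irrefl 1)
    obtain ⟨⟨⟨z, hzS⟩, hzc⟩, hz⟩ := exists_prime_orderOf_dvd_card'
      (G := Subgroup.center (S : Subgroup G)) 2 (hk ▸ dvd_pow_self 2 hk0)
    have hzo : orderOf z = 2 := by
      rwa [← Subgroup.orderOf_coe, ← Subgroup.orderOf_coe] at hz
    have hzcomm : ∀ y ∈ (S : Subgroup G), y * z = z * y := fun y hy =>
      congrArg Subtype.val (Subgroup.mem_center_iff.1 hzc ⟨y, hy⟩)
    have hzC : z ∈ Subgroup.centralizer ({t} : Set G) :=
      mem_centralizer_singleton_iff.2 (hzcomm t (hCS htC)).symm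
    have hez : e ⟨z, hzC⟩ = .r 2 := by
      refine (by decide : ∀ q : DihedralGroup 4, (∀ x, q * x = x * q) → q * q = 1 → q ≠ 1 → q = .r 2) _
        (fun y => ?_) ?_ ?_
      · rw [← e.apply_symm_apply y, ← map_mul, ← map_mul]
        exact congrArg e (Subtype.ext (hzcomm _ (hCS (e.symm y).2)).symm)
      · rw [← map_mul, ← map_one e]
        exact congrArg e (Subtype.ext (by
          show z * z = 1
          rw [← pow_two, ← hzo, pow_orderOf_eq_one]))
      · rw [← map_one e]
        exact fun h => (Invol.invol_ne_one hzo) (congrArg Subtype.val (e.injective h))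
    have hzt : z = t := by
      have := helof z hzC
      rw [hez, helt] at this
      exact this.symm
    subst hzt
    exact mem_centralizer_singleton_iff.2 (hzcomm x hx)
  -- one class of involutions
  have hconj : ∀ x : G, x * x = 1 → x ≠ 1 → IsConj t x := by
    intro x hxx hx1
    obtain ⟨g, hg⟩ := Invol.exists_conj_le_sylow (Q := Subgroup.zpowers x) (IsPGroup.of_card (n := 1)
      (by rw [Nat.card_zpowers, pow_one]; exact orderOf_eq_prime (by rw [pow_two]; exact hxx) hx1)) S
    have hy : g * x * g⁻¹ ∈ Subgroup.centralizer ({t} : Set G) := hSC ▸ hg x (mem_zpowers x)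
    refine IsConj.trans ?_ (isConj_iff.2 ⟨g, rfl⟩).symm
    set q := e ⟨g * x * g⁻¹, hy⟩ with hq
    have hqq : q * q = 1 := by
      rw [hq, ← map_mul, ← map_one e]
      exact congrArg e (Subtype.ext (by
        show g * x * g⁻¹ * (g * x * g⁻¹) = 1
        rw [show g * x * g⁻¹ * (g * x * g⁻¹) = g * (x * x) * g⁻¹ by group, hxx]; group))
    have hq1 : q ≠ 1 := by
      rw [hq, ← map_one e]
      exact fun h => hx1 (conj_eq_one_iff.1 (congrArg Subtype.val (e.injective h)))
    rw [← helof _ hy, ← hq, ← helt]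
    rcases (by decide : ∀ q : DihedralGroup 4, q * q = 1 → q ≠ 1 → q = .r 2 ∨ ∃ i, q = .sr i) q hqq hq1
      with h | ⟨i, h⟩ <;> rw [h]
    -- Thompson transfer
    by_contra hno
    have hQle : Subgroup.zpowers (el (.r 1)) ≤ (S : Subgroup G) := zpowers_le.2 (hSC ▸ helC _)
    have ho1 : orderOf (el (.r 1)) = 4 := by
      rw [orderOf_injective el helinj, DihedralGroup.orderOf_r_one]
    have hQi : (Subgroup.zpowers (el (.r 1))).relIndex (S : Subgroup G) = 2 := by
      have h1 := ((Subgroup.zpowers (el (.r 1))).subgroupOf (S : Subgroup G)).card_mul_index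
      rw [Nat.card_congr (subgroupOfEquivOfLe hQle).toEquiv, Nat.card_zpowers, ho1, hSC,
        hcardC] at h1
      rw [hSC]
      show (Subgroup.zpowers (el (.r 1))).relIndex _ = 2
      unfold Subgroup.relIndex
      omega
    obtain ⟨M, -, hMi, -⟩ := Fusion.thompson_transfer S hQle hQi
      (u := el (.sr i)) (by rw [← map_pow, pow_two, DihedralGroup.sr_mul_self, map_one]) (fun k hk => by
        obtain ⟨j, hj⟩ := hk
        change el (.r 1) ^ j = _ at hj
        rw [← map_zpow, DihedralGroup.r_one_zpow] at hj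
        refine hno ((isConj_iff.2 ⟨k, rfl⟩ : IsConj (el (.sr i)) (k * el (.sr i) * k⁻¹)).trans ?_).symm
        rw [← hj]
        have hsq : (DihedralGroup.r ((j : ℤ) : ZMod 4) : DihedralGroup 4) * .r (j : ZMod 4) = 1 :=
          helinj (by
            rw [map_mul, map_one, hj, show k * el (.sr i) * k⁻¹ * (k * el (.sr i) * k⁻¹) =
              k * (el (.sr i) * el (.sr i)) * k⁻¹ by group, ← map_mul, DihedralGroup.sr_mul_self,
              map_one]
            group)
        have hne : (DihedralGroup.r ((j : ℤ) : ZMod 4) : DihedralGroup 4) ≠ 1 := fun h1 => by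
          rw [h1, map_one] at hj
          have := helinj ((conj_eq_one_iff.1 hj.symm).trans (map_one el).symm)
          exact (by decide : ∀ i : ZMod 4, (DihedralGroup.sr i : DihedralGroup 4) ≠ 1) _ this
        rw [(by decide : ∀ j : ZMod 4, (DihedralGroup.r j : DihedralGroup 4) * .r j = 1 →
          (DihedralGroup.r j : DihedralGroup 4) ≠ 1 → j = 2) _ hsq hne])
    exact hno2 M hMi
  exact hconj

/-- The order, from the absence of subgroups of index two. -/
theorem card_of_centralizer_dihedral_eight' (hno2 : ∀ H : Subgroup G, H.index ≠ 2) (t : G) (ht : orderOf t = 2)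
    (e : Subgroup.centralizer ({t} : Set G) ≃* DihedralGroup 4) :
    Nat.card G = 168 ∨ Nat.card G = 360 := by
  classical
  haveI : Fact (Nat.Prime 2) := ⟨Nat.prime_two⟩
  have htC : t ∈ Subgroup.centralizer ({t} : Set G) := mem_centralizer_singleton_iff.2 rfl
  set el : DihedralGroup 4 →* G := (Subgroup.centralizer ({t} : Set G)).subtype.comp e.symm.toMonoidHom
    with hel
  have helinj : Function.Injective el := (Subgroup.subtype_injective _).comp e.symm.injective
  have helC : ∀ q, el q ∈ Subgroup.centralizer ({t} : Set G) := fun q => (e.symm q).2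
  have helof : ∀ x (hx : x ∈ Subgroup.centralizer ({t} : Set G)), el (e ⟨x, hx⟩) = x := fun x hx => by
    simp [hel]
  have het : e ⟨t, htC⟩ = .r 2 := by
    refine (by decide : ∀ q : DihedralGroup 4, (∀ x, q * x = x * q) → q * q = 1 → q ≠ 1 → q = .r 2) _
      (fun x => ?_) ?_ ?_
    · rw [← e.apply_symm_apply x, ← map_mul, ← map_mul]
      exact congrArg e (Subtype.ext (mem_centralizer_singleton_iff.1 (e.symm x).2).symm)
    · rw [← map_mul, ← map_one e]
      exact congrArg e (Subtype.ext (by
        show t * t = 1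
        rw [← pow_two, ← ht, pow_orderOf_eq_one]))
    · rw [← map_one e]
      exact fun h => (Invol.invol_ne_one ht) (congrArg Subtype.val (e.injective h))
  have helt : el (.r 2) = t := by rw [← het, helof]
  have hcardC : Nat.card (Subgroup.centralizer ({t} : Set G)) = 8 := by
    rw [Nat.card_congr e.toEquiv, Nat.card_eq_fintype_card]; rfl
  have hconj := isConj_of_centralizer_dihedral_eight hno2 t ht e
  -- the TI set
  let T : Set G := {x | ∃ k : ZMod 4, k ≠ 0 ∧ el (.r k) = x}
  have hTI0 : ∀ g : G, ∀ x ∈ T, g * x * g⁻¹ ∈ T → g ∈ Subgroup.centralizer ({t} : Set G) := by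
    rintro g _ ⟨k, hk, rfl⟩ ⟨l, hl, he⟩
    rw [mem_centralizer_singleton_iff]
    suffices g * t * g⁻¹ = t by
      rw [mul_inv_eq_iff_eq_mul] at this
      exact this
    rcases (by decide : ∀ k : ZMod 4, k ≠ 0 →
      (k = 2 ∨ (DihedralGroup.r k : DihedralGroup 4) * .r k = .r 2)) k hk with hk2 | hk2
    · rw [← helt, ← hk2, ← he]
      have hsq : (DihedralGroup.r l : DihedralGroup 4) * .r l = 1 := helinj (by
        rw [map_mul, map_one, he, hk2, helt, show g * t * g⁻¹ * (g * t * g⁻¹) = g * (t * t) * g⁻¹ by group,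
          ← pow_two, ← ht, pow_orderOf_eq_one]
        group)
      rw [(by decide : ∀ l : ZMod 4, l ≠ 0 → (DihedralGroup.r l : DihedralGroup 4) * .r l = 1 → l = 2)
        l hl hsq, hk2]
    · have h2 : el (.r l * .r l) = g * t * g⁻¹ := by
        rw [map_mul, he, ← helt, ← hk2, map_mul]; group
      rcases (by decide : ∀ l : ZMod 4, l ≠ 0 →
        ((DihedralGroup.r l : DihedralGroup 4) * .r l = 1 ∨
          (DihedralGroup.r l : DihedralGroup 4) * .r l = .r 2)) l hl with h | h
      · rw [h, map_one] at h2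
        exact absurd (conj_eq_one_iff.1 h2.symm) (Invol.invol_ne_one ht)
      · rw [← h2, h, helt]
  have hMmem : ∀ g : G, g ∈ normalizer T ↔ g ∈ Subgroup.centralizer ({t} : Set G) := by
    intro g
    constructor
    · intro hg
      exact hTI0 g t ⟨2, by decide, helt⟩ ((Subgroup.mem_set_normalizer_iff.1 hg t).1 ⟨2, by decide, helt⟩)
    · intro hg
      have hmap : ∀ q : DihedralGroup 4, ∀ x ∈ T, el q * x * (el q)⁻¹ ∈ T := by
        rintro q _ ⟨k, hk, rfl⟩
        obtain ⟨l, hl, he⟩ := (by decide : ∀ (q : DihedralGroup 4) (k : ZMod 4), k ≠ 0 →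
          ∃ l : ZMod 4, l ≠ 0 ∧ DihedralGroup.r l = q * .r k * q⁻¹) q k hk
        exact ⟨l, hl, by rw [he, map_mul, map_mul, map_inv]⟩
      refine Subgroup.mem_set_normalizer_iff.2 fun x => ⟨fun hx => ?_, fun hx => ?_⟩
      · rw [← helof g hg]; exact hmap _ x hx
      · have h := hmap (e ⟨g, hg⟩)⁻¹ _ hx
        rw [map_inv, helof g hg] at h
        simpa [mul_assoc] using h
  have hMeq : normalizer T = Subgroup.centralizer ({t} : Set G) := Subgroup.ext hMmem
  let eM : normalizer T ≃* DihedralGroup 4 := (MulEquiv.subgroupCongr hMeq).trans e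
  have helM : ∀ m : normalizer T, el (eM m) = (m : G) := fun m => helof _ _
  let ψ : normalizer T → ℂ := fun m => (d8Val (eM m) : ℂ)
  have hψgen : IsGeneralizedCharacter (normalizer T) ψ :=
    isGeneralizedCharacter_comp isGeneralized_d8Val eM.toMonoidHom
  have hcardM : (Nat.card (normalizer T) : ℂ) = 8 := by
    rw [Nat.card_congr eM.toEquiv, Nat.card_eq_fintype_card]; rfl
  have hsum : ∀ F : normalizer T → ℂ, ∑ m, F m = ∑ q, F (eM.symm q) := fun F =>
    (Equiv.sum_comp eM.symm.toEquiv F).symm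
  have hψ1 : ψ 1 = 0 := by
    show (d8Val (eM 1) : ℂ) = 0
    rw [map_one, show d8Val 1 = 0 by decide, Int.cast_zero]
  have hψT : ∀ m : normalizer T, (m : G) ∉ T → ψ m = 0 := by
    intro m hm
    show (d8Val (eM m) : ℂ) = 0
    rcases hq : eM m with k | i
    · by_cases hk : k = 0
      · rw [hk, show d8Val (.r 0) = 0 by decide, Int.cast_zero]
      · exact absurd ⟨k, hk, by rw [← hq, helM]⟩ hm
    · rw [(by decide : ∀ i, d8Val (.sr i) = 0) i, Int.cast_zero]
  have hψnorm : classInner ψ ψ = 3 := by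
    rw [classInner, hcardM, hsum, d8_sum]
    simp only [ψ, MulEquiv.apply_symm_apply, map_intCast]
    rw [show d8Val (.r 0) = 0 by decide, show d8Val (.r 1) = 2 by decide,
      show d8Val (.r 2) = 4 by decide, show d8Val (.r 3) = 2 by decide]
    simp only [(by decide : ∀ i, d8Val (.sr i) = 0)]
    norm_num
  have hψone : classInner ψ (fun _ => 1) = 1 := by
    rw [classInner, hcardM, hsum, d8_sum]
    simp only [ψ, MulEquiv.apply_symm_apply, map_one, mul_one]
    rw [show d8Val (.r 0) = 0 by decide, show d8Val (.r 1) = 2 by decide,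
      show d8Val (.r 2) = 4 by decide, show d8Val (.r 3) = 2 by decide]
    simp only [(by decide : ∀ i, d8Val (.sr i) = 0)]
    norm_num
  have hTI : ∀ g : G, g ∉ normalizer T → ∀ x ∈ T, g * x * g⁻¹ ∈ T → x = 1 := fun g hg x hx hgx =>
    absurd ((hMmem g).2 (hTI0 g x hx hgx)) hg
  have hψcf := isClassFunction_of_isGeneralized hψgen
  set f : G → ℂ := indFun (normalizer T) ψ with hf
  obtain ⟨A, B, hA1, hB1, hfeq, hdeg⟩ := exists_pair_of_norm_three
    (isGeneralizedCharacter_indFun (normalizer T) hψgen)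
    (by rw [classInner_indFun_TI T hTI ψ ψ hψcf hψT hψT hψ1, hψnorm])
    (by rw [classInner_indFun (normalizer T) ψ _ (fun _ _ => rfl)]; exact hψone)
    (by rw [indFun_one, hψ1, mul_zero])
  rw [← hf] at hfeq
  have hfval : ∀ k : ZMod 4, k ≠ 0 → f (el (.r k)) = (d8Val (.r k) : ℂ) := by
    intro k hk
    have hm : el (.r k) ∈ normalizer T := (hMmem _).2 (helC _)
    have h := indFun_TI_apply T hTI ψ hψcf hψT ⟨el (.r k), hm⟩ ⟨k, hk, rfl⟩ (fun h1 => hk (by
      have := helinj ((congrArg Subtype.val h1).trans (map_one el).symm)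
      rw [DihedralGroup.one_def] at this
      injection this))
    rw [hf, h]
    show (d8Val (eM _) : ℂ) = _
    congr 2
    apply helinj
    rw [helM]
  -- values at `t` and at an element of order four
  set a : G := el (.r 1) with ha
  have hsr : ∀ i, IsConj t (el (.sr i)) := fun i => hconj _
    (by rw [← map_mul, DihedralGroup.sr_mul_self, map_one])
    (fun h => by
      have := helinj (h.trans (map_one el).symm)
      exact (by decide : ∀ i : ZMod 4, (DihedralGroup.sr i : DihedralGroup 4) ≠ 1) _ this)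
  have hr3 : IsConj a (el (.r 3)) := isConj_iff.2 ⟨el (.sr 0), by
    rw [ha, ← map_inv, ← map_mul, ← map_mul]; congr 1⟩
  have key : ∀ χ : IrrCharacter G, ∀ d : ℕ, (χ : G → ℂ) 1 = d → ∃ X Y : ℤ,
      (χ : G → ℂ) t = X ∧ (χ : G → ℂ) a = Y ∧
        (8 : ℤ) ∣ d + 5 * X + 2 * Y ∧ (8 : ℤ) ∣ d + X - 2 * Y := by
    intro χ d hd
    have hcf := isClassFunction_irr χ
    have hval : ∀ {x y : G}, IsConj x y → (χ : G → ℂ) y = (χ : G → ℂ) x := fun h => by
      obtain ⟨k, rfl⟩ := isConj_iff.1 h; exact hcf _ _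
    have hres : IsCharacter (DihedralGroup 4) (fun q => (χ : G → ℂ) (el q)) :=
      isCharacter_comp (isCharacter_irr χ) el
    -- the three sums
    obtain ⟨m1, h1⟩ : ∃ m : ℕ, ∑ q : DihedralGroup 4, (χ : G → ℂ) (el q) * conj ((1 : ℤ) : ℂ) = 8 * m := by
      obtain ⟨m, hm⟩ := classInner_isCharacter hres (isCharacter_d8Hom (fun _ => 1) rfl (fun _ _ => rfl))
      refine ⟨m, ?_⟩
      rw [← hm, classInner, show (Nat.card (DihedralGroup 4) : ℂ) = 8 by
        rw [Nat.card_eq_fintype_card]; rfl, mul_inv_cancel_left₀ (by norm_num : (8 : ℂ) ≠ 0)]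
    obtain ⟨m2, h2⟩ : ∃ m : ℕ, ∑ q : DihedralGroup 4, (χ : G → ℂ) (el q) * conj (d8Alt q : ℂ) = 8 * m := by
      obtain ⟨m, hm⟩ := classInner_isCharacter hres (isCharacter_d8Hom d8Alt rfl (by decide))
      refine ⟨m, ?_⟩
      rw [← hm, classInner, show (Nat.card (DihedralGroup 4) : ℂ) = 8 by
        rw [Nat.card_eq_fintype_card]; rfl, mul_inv_cancel_left₀ (by norm_num : (8 : ℂ) ≠ 0)]
    obtain ⟨m3, h3⟩ : ∃ m : ℕ, ∑ q : DihedralGroup 4, (χ : G → ℂ) (el q) * conj (d8Sign q : ℂ) = 8 * m := by
      obtain ⟨m, hm⟩ := classInner_isCharacter hres (isCharacter_d8Hom d8Sign rfl (by decide))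
      refine ⟨m, ?_⟩
      rw [← hm, classInner, show (Nat.card (DihedralGroup 4) : ℂ) = 8 by
        rw [Nat.card_eq_fintype_card]; rfl, mul_inv_cancel_left₀ (by norm_num : (8 : ℂ) ≠ 0)]
    rw [d8_sum] at h1 h2 h3
    simp only [map_intCast, ← DihedralGroup.one_def, map_one, hd, helt, ← ha, hval hr3,
      hval (hsr _), Int.cast_one, mul_one] at h1
    simp only [map_intCast, show d8Alt (.r 0) = 1 by decide, show d8Alt (.r 1) = -1 by decide,
      show d8Alt (.r 2) = 1 by decide, show d8Alt (.r 3) = -1 by decide,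
      show d8Alt (.sr 0) = 1 by decide, show d8Alt (.sr 1) = -1 by decide,
      show d8Alt (.sr 2) = 1 by decide, show d8Alt (.sr 3) = -1 by decide,
      show d8Alt 1 = 1 by decide, ← DihedralGroup.one_def,
      map_one, hd, helt, ← ha, hval hr3, hval (hsr _)] at h2
    simp only [map_intCast, show ∀ i, d8Sign (.r i) = 1 from fun _ => rfl,
      show ∀ i, d8Sign (.sr i) = -1 from fun _ => rfl, show d8Sign 1 = 1 from rfl,
      ← DihedralGroup.one_def,
      map_one, hd, helt, ← ha, hval hr3, hval (hsr _)] at h3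
    push_cast at h1 h2 h3
    have h4 : (χ : G → ℂ) t = ((m1 : ℤ) - (m3 : ℤ) : ℤ) := by push_cast; linear_combination (h1 - h3) / 8
    obtain ⟨Y, hY⟩ : ∃ Y : ℤ, (χ : G → ℂ) a = Y := by
      have h5 : (χ : G → ℂ) a =
          algebraMap ℚ ℂ ((8 * (m1 : ℚ) - (d : ℚ) - 5 * (((m1 : ℤ) - (m3 : ℤ) : ℤ) : ℚ)) / 2) := by
        rw [eq_ratCast]
        push_cast at h4 ⊢
        linear_combination h1 / 2 - 5 / 2 * h4
      have hint := isCharacter_isIntegral (isCharacter_irr χ) a
      rw [h5, isIntegral_algebraMap_iff (algebraMap ℚ ℂ).injective] at hint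
      obtain ⟨z, hz⟩ := IsIntegrallyClosed.isIntegral_iff.1 hint
      exact ⟨z, by rw [h5, ← hz]; simp⟩
    refine ⟨(m1 : ℤ) - (m3 : ℤ), Y, h4, hY, ⟨m1, ?_⟩, ⟨m2, ?_⟩⟩
    · apply Int.cast_injective (α := ℂ)
      push_cast
      push_cast at h4
      linear_combination h1 - 5 * h4 - 2 * hY
    · apply Int.cast_injective (α := ℂ)
      push_cast
      push_cast at h4
      linear_combination h2 - h4 + 2 * hY
  obtain ⟨d, hd0, hdA⟩ := isIrrCharacter_degree A.2
  have hdB : (B : G → ℂ) 1 = ((d + 1 : ℕ) : ℂ) := by rw [hdeg, hdA]; push_cast; rfl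
  obtain ⟨α, α', hαt, hαa, hα1, hα2⟩ := key A d hdA
  obtain ⟨β, β', hβt, hβa, hβ1, hβ2⟩ := key B (d + 1) hdB
  have hft : α - β = 3 := by
    have h := hfval 2 (by decide)
    rw [helt, show d8Val (.r 2) = 4 by decide, congrFun hfeq t] at h
    simp only [Pi.sub_apply, Pi.add_apply, hαt, hβt] at h
    apply Int.cast_injective (α := ℂ)
    push_cast at h ⊢
    linear_combination h
  have hfa : α' - β' = 1 := by
    have h := hfval 1 (by decide)
    rw [← ha, show d8Val (.r 1) = 2 by decide, congrFun hfeq a] at h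
    simp only [Pi.sub_apply, Pi.add_apply, hαa, hβa] at h
    apply Int.cast_injective (α := ℂ)
    push_cast at h ⊢
    linear_combination h
  haveI := Fintype.ofFinite (IrrCharacter G)
  let one : IrrCharacter G := ⟨fun _ => 1, isIrrCharacter_one⟩
  have hAB : A ≠ B := fun h => by
    rw [h, hdB] at hdA
    exact absurd (Nat.cast_injective hdA) (by omega)
  have hA0 : one ≠ A := fun h => hA1 (congrArg Subtype.val h).symm
  have hB0 : one ≠ B := fun h => hB1 (congrArg Subtype.val h).symm
  have horth : ∀ (x : G) (X Y : ℤ), (A : G → ℂ) x = X → (B : G → ℂ) x = Y →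
      1 + X ^ 2 + Y ^ 2 ≤ (Nat.card (Subgroup.centralizer ({x} : Set G)) : ℤ) := by
    intro x X Y hX hY
    have h := congrArg Complex.re (sum_irr_mul_conj x x)
    rw [if_pos (IsConj.refl x), Complex.re_sum, Complex.natCast_re] at h
    have h3 : ∑ χ ∈ ({one, A, B} : Finset (IrrCharacter G)),
        ((χ : G → ℂ) x * conj ((χ : G → ℂ) x)).re ≤
        (Nat.card (Subgroup.centralizer ({x} : Set G)) : ℝ) := by
      rw [← h]
      refine Finset.sum_le_sum_of_subset_of_nonneg (Finset.subset_univ _) fun χ _ _ => ?_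
      rw [Complex.mul_conj, Complex.ofReal_re]
      exact Complex.normSq_nonneg _
    rw [Finset.sum_insert (by simp [hA0, hB0]), Finset.sum_insert (by simp [hAB]), Finset.sum_singleton,
      hX, hY, show (one : G → ℂ) x = 1 from rfl] at h3
    simp only [map_one, mul_one, Complex.one_re, map_intCast, ← Int.cast_mul,
      Complex.intCast_re] at h3
    have h4 : ((1 + X ^ 2 + Y ^ 2 : ℤ) : ℝ) ≤
        ((Nat.card (Subgroup.centralizer ({x} : Set G)) : ℤ) : ℝ) := by
      push_cast at h3 ⊢
      linarith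
    exact_mod_cast h4
  have ht7 := horth t α β hαt hβt
  rw [hcardC] at ht7
  have hab : α = 2 ∧ β = -1 ∨ α = 1 ∧ β = -2 := by
    have hβ : β = α - 3 := by omega
    subst hβ
    push_cast at ht7
    have h1 : α ≤ 2 := by nlinarith
    have h2 : 1 ≤ α := by nlinarith
    omega
  have hCa : Nat.card (Subgroup.centralizer ({a} : Set G)) ≤ 4 := by
    have h1 : Nat.card (Subgroup.centralizer ({a} : Set G)) ≤
        Nat.card {q : DihedralGroup 4 // q * .r 1 = .r 1 * q} := by
      have hsub : ∀ x : Subgroup.centralizer ({a} : Set G),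
          x.1 ∈ Subgroup.centralizer ({t} : Set G) := fun x => by
        rw [mem_centralizer_singleton_iff, ← helt,
          show (DihedralGroup.r 2 : DihedralGroup 4) = .r 1 * .r 1 from rfl, map_mul, ← ha]
        have hx := mem_centralizer_singleton_iff.1 x.2
        rw [← mul_assoc, hx, mul_assoc, hx, mul_assoc]
      refine Nat.card_le_card_of_injective (fun x => ⟨e ⟨x.1, hsub x⟩, helinj (by
        rw [map_mul, map_mul, helof, ← ha]; exact mem_centralizer_singleton_iff.1 x.2)⟩) fun x y h => ?_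
      exact Subtype.ext (Subtype.mk.inj (e.injective (congrArg Subtype.val h)))
    refine h1.trans (le_of_eq ?_)
    rw [Nat.card_eq_fintype_card]
    rfl
  have ha3 := horth a α' β' hαa hβa
  have hab' : α' = 1 ∨ α' = 0 := by
    have hβ : β' = α' - 1 := by omega
    subst hβ
    have h4 : (Nat.card (Subgroup.centralizer ({a} : Set G)) : ℤ) ≤ 4 := by exact_mod_cast hCa
    have h1 : α' ≤ 1 := by nlinarith
    have h2 : 0 ≤ α' := by nlinarith
    omega
  -- class multiplication
  have hcount : ∀ k : ZMod 4, k ≠ 0 → classConst t t (el (.r k)) = 4 := by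
    intro k hk
    have hinvol : ∀ x : G, IsConj t x → x * x = 1 ∧ x ≠ 1 := by
      intro x hx
      obtain ⟨g, rfl⟩ := isConj_iff.1 hx
      refine ⟨?_, fun h => Invol.invol_ne_one ht (conj_eq_one_iff.1 h)⟩
      rw [show g * t * g⁻¹ * (g * t * g⁻¹) = g * (t * t) * g⁻¹ by group, ← pow_two, ← ht,
        pow_orderOf_eq_one]
      group
    have hfin : Nat.card {q : DihedralGroup 4 // (q * q = 1 ∧ q ≠ 1) ∧
        (q * .r k * (q * .r k) = 1 ∧ q * .r k ≠ 1)} = 4 := by
      rw [Nat.card_eq_fintype_card]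
      revert k
      decide
    refine Eq.trans ?_ hfin
    refine (Nat.card_congr (Equiv.ofBijective (fun q => (⟨(el q.1, el (q.1 * .r k)), ?_, ?_, ?_⟩ :
      {p : G × G // IsConj t p.1 ∧ IsConj t p.2 ∧ p.1 * p.2 = el (.r k)})) ⟨fun p q h => ?_, ?_⟩)).symm
    · exact hconj _ (by rw [← map_mul, q.2.1.1, map_one])
        (fun h => q.2.1.2 (helinj (h.trans (map_one el).symm)))
    · exact hconj _ (by rw [← map_mul, q.2.2.1, map_one])
        (fun h => q.2.2.2 (helinj (h.trans (map_one el).symm)))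
    · rw [← map_mul, ← mul_assoc, q.2.1.1, one_mul]
    · exact Subtype.ext (helinj (congrArg (fun z : {p : G × G // IsConj t p.1 ∧ IsConj t p.2 ∧
        p.1 * p.2 = el (.r k)} => z.1.1) h))
    · rintro ⟨⟨x, y⟩, hx, hy, hxy⟩
      dsimp only at hx hy hxy
      obtain ⟨hxx, hx1⟩ := hinvol x hx
      obtain ⟨hyy, hy1⟩ := hinvol y hy
      have hxz : x * el (.r k) * x⁻¹ = (el (.r k))⁻¹ := by
        rw [← hxy, mul_inv_rev, inv_eq_of_mul_eq_one_right hxx, inv_eq_of_mul_eq_one_right hyy,
          ← mul_assoc, hxx, one_mul]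
      have hxC : x ∈ Subgroup.centralizer ({t} : Set G) := hTI0 x (el (.r k)) ⟨k, hk, rfl⟩ ⟨-k, by
        simpa using hk, by rw [hxz, ← map_inv]; congr 1⟩
      have hy' : y = x * el (.r k) := by rw [← hxy, ← mul_assoc, hxx, one_mul]
      have hex : el (e ⟨x, hxC⟩) = x := helof x hxC
      refine ⟨⟨e ⟨x, hxC⟩, ⟨helinj (by rw [map_mul, hex, map_one, hxx]),
        fun h => hx1 (by rw [← hex, h, map_one])⟩,
        helinj (by rw [map_mul, map_mul, hex, ← hy', map_one, hyy]),
        fun h => hy1 (by rw [hy', ← hex, ← map_mul, h, map_one])⟩, Subtype.ext (Prod.ext hex ?_)⟩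
      show el (_ * _) = y
      rw [map_mul, hex, hy']
  set c : ℕ := Nat.card {x : G // IsConj t x} with hc
  set W : G → ℂ := fun z => (classConst t t z : ℂ) with hW
  have hWcf : IsClassFunction G W := fun z h => by simp only [hW, classConst_conj]
  have hlhs : classInner f W = 4 := by
    rw [hf, classInner_indFun _ _ _ hWcf, classInner, hcardM, hsum, d8_sum]
    simp only [ψ, MulEquiv.apply_symm_apply, (by decide : ∀ i, d8Val (.sr i) = 0),
      show d8Val (.r 0) = 0 by decide, show d8Val (.r 1) = 2 by decide,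
      show d8Val (.r 2) = 4 by decide, show d8Val (.r 3) = 2 by decide]
    have hev : ∀ q, ((eM.symm q : normalizer T) : G) = el q := fun q => by
      rw [← helM, MulEquiv.apply_symm_apply]
    simp only [hW, hev, hcount 1 (by decide), hcount 2 (by decide), hcount 3 (by decide),
      Complex.conj_natCast]
    norm_num
  have hrhs : classInner f W = ((c : ℂ) * c / Nat.card G) *
      (1 + (α : ℂ) ^ 2 / d - (β : ℂ) ^ 2 / (d + 1)) := by
    set w : IrrCharacter G → ℂ := fun χ =>
      (c : ℂ) * c / Nat.card G * ((χ : G → ℂ) t * (χ : G → ℂ) t / (χ : G → ℂ) 1) with hw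
    have hWexp : W = fun z => ∑ χ : IrrCharacter G, w χ * conj ((χ : G → ℂ) z) := by
      funext z
      show (classConst t t z : ℂ) = _
      rw [classConst_formula, finsum_eq_sum_of_fintype, Finset.mul_sum]
      refine Finset.sum_congr rfl fun χ _ => ?_
      rw [hw, ← hc]; ring
    have hstep : classInner f W = ∑ χ : IrrCharacter G, w χ * classInner f (χ : G → ℂ) := by
      have hr : ∀ z, conj (W z) = W z := fun z => Complex.conj_natCast _
      simp only [classInner, hr]
      rw [hWexp]
      simp only [Finset.mul_sum]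
      rw [Finset.sum_comm]
      exact Finset.sum_congr rfl fun χ _ => Finset.sum_congr rfl fun z _ => by ring
    rw [hstep, hfeq]
    simp only [classInner_sub_left, classInner_add_left, mul_sub, mul_add,
      Finset.sum_sub_distrib, Finset.sum_add_distrib]
    have hpick : ∀ μ : IrrCharacter G,
        ∑ χ : IrrCharacter G, w χ * classInner (μ : G → ℂ) χ = w μ := by
      intro μ
      rw [Finset.sum_eq_single μ (fun χ _ hne => by rw [classInner_irr_ne hne.symm, mul_zero])
        (fun h => absurd (Finset.mem_univ μ) h), classInner_irr_self, mul_one]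
    rw [show (fun _ : G => (1 : ℂ)) = (one : G → ℂ) from rfl, hpick, hpick, hpick]
    simp only [hw, hαt, hβt, hdA, hdB, show ∀ z, (one : G → ℂ) z = 1 from fun _ => rfl]
    push_cast
    ring
  have hgc : Nat.card G = 8 * c := by
    rw [hc, card_isConj, ← Subgroup.card_mul_index (Subgroup.centralizer ({t} : Set G)), hcardC]
  have heq : (Nat.card G : ℤ) * ((d : ℤ) * (d + 1) + α ^ 2 * (d + 1) - β ^ 2 * d) =
      256 * ((d : ℤ) * (d + 1)) := by
    apply Int.cast_injective (α := ℂ)
    push_cast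
    have h := hlhs.symm.trans hrhs
    have hc0 : (c : ℂ) ≠ 0 := by
      have : c ≠ 0 := fun h0 => by rw [h0, mul_zero] at hgc; exact Nat.card_pos.ne' hgc
      exact_mod_cast this
    have hd0' : (d : ℂ) ≠ 0 := by exact_mod_cast hd0.ne'
    have hd1' : (d : ℂ) + 1 ≠ 0 := by exact_mod_cast Nat.succ_ne_zero d
    rw [show (Nat.card G : ℂ) = 8 * c by exact_mod_cast hgc] at h ⊢
    field_simp at h
    linear_combination -8 * h
  refine d8_arith ⟨c, hgc⟩ hab (fun h => ?_) (fun h => ?_) heq <;> omega

theorem card_of_centralizer_dihedral_eight (hperf : commutator G = ⊤) (t : G) (ht : orderOf t = 2)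
    (e : Subgroup.centralizer ({t} : Set G) ≃* DihedralGroup 4) :
    Nat.card G = 168 ∨ Nat.card G = 360 := by
  refine card_of_centralizer_dihedral_eight' (fun H hH => ?_) t ht e
  haveI := Subgroup.normal_of_index_eq_two hH
  haveI : IsCyclic (G ⧸ H) := isCyclic_of_prime_card (p := 2) (by rw [← Subgroup.index_eq_card, hH])
  have hle : commutator G ≤ H := by
    rw [_root_.commutator_def, commutator_le]
    intro p _ q _
    rw [← QuotientGroup.eq_one_iff, ← QuotientGroup.mk'_apply, map_commutatorElement,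
      commutatorElement_eq_one_iff_mul_comm]
    letI := IsCyclic.commGroup (α := G ⧸ H)
    exact mul_comm _ _
  rw [hperf, top_le_iff] at hle
  rw [hle, Subgroup.index_top] at hH
  omega

end CfsgLib.Char
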