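import Cfsg.Agent.Lib.Char.TwoBorel
import Cfsg.Agent.Lib.Char.Orthogonality
import Cfsg.Agent.Lib.Char.Integrality
import Cfsg.Prelude.Def_DegreeGraph

/-!
# Divisors of character degrees from eigenfunctions of class sums

An integer-valued class function which is an eigenfunction of the class sums of some elements `a i`
certifies an irreducible character `χ` with prescribed ratios `χ (a i) / χ 1`, hence prescribed divisors
of its degree.
-/

set_option autoImplicit false
set_option linter.unusedSectionVars false

namespace CfsgLib.Char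

open scoped ComplexConjugate
open Representation Module Cfsg

universe u

variable {G : Type u} [Group G]

/-- A class sum acts on an irreducible character by its central value. -/
theorem sum_class_translate [Fintype G] (χ : IrrCharacter G) (a h : G) [DecidablePred (IsConj a)] :
    ∑ x : G, (if IsConj a x then (χ : G → ℂ) (x * h) else 0) = omega (χ : G → ℂ) a * (χ : G → ℂ) h := by
  obtain ⟨χ, n, ρ, hρ, rfl⟩ := χ
  have h1 := congrArg (fun T => LinearMap.trace ℂ _ (T * ρ h)) (classOp_eq ρ a)
  simp only [classOp, Finset.sum_mul, map_sum, ite_mul, zero_mul, ← map_mul, smul_mul_assoc, map_smul,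
    smul_eq_mul] at h1
  refine Eq.trans (Finset.sum_congr rfl fun x _ => ?_) h1
  by_cases hx : IsConj a x
  · rw [if_pos hx, if_pos hx]; rfl
  · rw [if_neg hx, if_neg hx, map_zero]

/-- The value at one of an irreducible character is its degree. -/
theorem irr_one_eq_charDegree (χ : IrrCharacter G) : (χ : G → ℂ) 1 = (charDegree (χ : G → ℂ) : ℂ) := by
  obtain ⟨χ, n, ρ, hρ, rfl⟩ := χ
  show ρ.character 1 = (charDegree ρ.character : ℂ)
  rw [charDegree, Representation.char_one, Complex.natCast_re, Nat.floor_natCast]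

/-- An integral eigen class function of class sums gives an irreducible character with degree divisible by
the denominators of the eigenvalue ratios. -/
theorem exists_degree_dvd_of_eigen [Finite G] {ι : Type*} (f : G → ℤ)
    (hf : ∀ g h : G, f (g * h * g⁻¹) = f h) (hne : f ≠ 0) (a : ι → G) (C : ι → Finset G)
    (hC : ∀ i x, x ∈ C i ↔ IsConj (a i) x) (ev : ι → ℤ)
    (hev : ∀ i g, ∑ x ∈ C i, f (x⁻¹ * g) = ev i * f g) (r : ι → ℤ) (s : ι → ℕ)
    (hrs : ∀ i, (s i : ℤ) * ev i = r i * (C i).card) (hcop : ∀ i, IsCoprime (r i) (s i : ℤ)) :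
    ∃ χ : IrrCharacter G, ∀ i, s i ∣ charDegree (χ : G → ℂ) := by
  classical
  have := Fintype.ofFinite G
  have := Fintype.ofFinite (IrrCharacter G)
  set F : G → ℂ := fun g => (f g : ℂ) with hF
  have hFc : IsClassFunction G F := fun g h => by simp only [hF, hf]
  obtain ⟨χ, hχ⟩ : ∃ χ : IrrCharacter G, classInner F χ ≠ 0 := by
    by_contra hcon
    push Not at hcon
    refine hne (funext fun g => ?_)
    have := congrFun (classFun_expand hFc) g
    simp only [hcon, zero_smul, Finset.sum_const_zero, Pi.zero_apply] at this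
    simpa [hF] using this
  refine ⟨χ, fun i => ?_⟩
  set d : ℕ := charDegree (χ : G → ℂ)
  have hd : (χ : G → ℂ) 1 = d := irr_one_eq_charDegree χ
  have hS : ∀ ψ : G → ℂ, classInner F ψ = (Nat.card G : ℂ)⁻¹ * ∑ g, F g * conj (ψ g) := fun ψ => by
    simp [classInner, finsum_eq_sum_of_fintype, Nat.card_eq_fintype_card]
  have e1 : (ev i : ℂ) * ∑ g, F g * conj ((χ : G → ℂ) g) =
      conj (omega (χ : G → ℂ) (a i)) * ∑ g, F g * conj ((χ : G → ℂ) g) := by
    calc (ev i : ℂ) * ∑ g, F g * conj ((χ : G → ℂ) g)
        = ∑ g, ∑ x ∈ C i, F (x⁻¹ * g) * conj ((χ : G → ℂ) g) := by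
          rw [Finset.mul_sum]
          refine Finset.sum_congr rfl fun g _ => ?_
          rw [← Finset.sum_mul, ← mul_assoc]
          congr 1
          simp only [hF]
          rw [← Int.cast_mul, ← hev i g, Int.cast_sum]
      _ = ∑ x ∈ C i, ∑ h, F h * conj ((χ : G → ℂ) (x * h)) := by
          rw [Finset.sum_comm]
          refine Finset.sum_congr rfl fun x _ => ?_
          rw [← Equiv.sum_comp (Equiv.mulLeft x)]
          exact Finset.sum_congr rfl fun h _ => by simp
      _ = _ := by
          rw [Finset.sum_comm, Finset.mul_sum]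
          refine Finset.sum_congr rfl fun h _ => ?_
          rw [← Finset.mul_sum, ← map_sum, mul_left_comm, ← map_mul, ← sum_class_translate χ (a i) h,
            ← Finset.sum_filter]
          congr 2
          exact Finset.sum_congr (Finset.ext fun x => by simp [hC i x]) fun _ _ => rfl
  have hne' : ∑ g, F g * conj ((χ : G → ℂ) g) ≠ 0 := fun h => hχ (by rw [hS, h, mul_zero])
  have e2 : omega (χ : G → ℂ) (a i) = (ev i : ℂ) := by
    have := congrArg conj (mul_right_cancel₀ hne' e1)
    rw [Complex.conj_conj, map_intCast] at this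
    exact this.symm
  have hcard : Nat.card {x : G // IsConj (a i) x} = (C i).card := by
    rw [Nat.card_eq_fintype_card, Fintype.card_subtype]
    exact congrArg _ (Finset.ext fun x => by simp [hC i x])
  have hc0 : ((C i).card : ℂ) ≠ 0 := by
    exact_mod_cast (Finset.card_pos.2 ⟨a i, (hC i _).2 (IsConj.refl _)⟩).ne'
  rw [omega, hcard, div_eq_iff (irr_one_ne_zero χ), hd] at e2
  have hrs' : (s i : ℂ) * (ev i : ℂ) = (r i : ℂ) * ((C i).card : ℂ) := by exact_mod_cast hrs i
  have e3 : (s i : ℂ) * (χ : G → ℂ) (a i) = ((r i * d : ℤ) : ℂ) := by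
    refine mul_left_cancel₀ hc0 ?_
    push_cast
    linear_combination (s i : ℂ) * e2 + (d : ℂ) * hrs'
  rcases Nat.eq_zero_or_pos (s i) with h0 | h0
  · have hr : IsUnit (r i) := isCoprime_zero_right.1 (by simpa [h0] using hcop i)
    rw [h0, Nat.cast_zero, zero_mul, eq_comm, Int.cast_eq_zero, mul_eq_zero] at e3
    rcases e3 with e | e
    · exact absurd e hr.ne_zero
    · rw [h0]; simp only [Int.natCast_eq_zero] at e; rw [e]
  · obtain ⟨m, hm⟩ := TwoChars.exists_int_of_rat (isCharacter_isIntegral (isCharacter_irr χ) (a i)) h0.ne' e3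
    rw [hm] at e3
    have e4 : (s i : ℤ) * m = r i * d := by exact_mod_cast e3
    exact Int.natCast_dvd_natCast.1 ((hcop i).symm.dvd_of_dvd_mul_left ⟨m, e4.symm⟩)

end CfsgLib.Char
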