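import Cfsg.Agent.Lib.Char.SemiSpectrum
import Cfsg.Agent.Lib.Char.Burnside

/-!
# Solvable groups built on a plane over a quadratic extension

Two by two matrices over `(ZMod p)[√d]` are coded by eight natural numbers; a list of codes that is closed under
multiplication and without fixed vectors gives a Frobenius group with kernel `(ZMod p)^4`.
-/

set_option autoImplicit false
set_option synthInstance.maxSize 1000

namespace CfsgLib.Char.ExtPlane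

open Matrix

/-- Eight coordinates: two for each entry. -/
abbrev Code := ℕ × ℕ × ℕ × ℕ × ℕ × ℕ × ℕ × ℕ

/-- Multiplication of codes. -/
def mulC (p d : ℕ) : Code → Code → Code
  | (a, a', b, b', c, c', e, e'), (x, x', y, y', z, z', w, w') =>
    ((a * x + d * a' * x' + b * z + d * b' * z') % p, (a * x' + a' * x + b * z' + b' * z) % p,
     (a * y + d * a' * y' + b * w + d * b' * w') % p, (a * y' + a' * y + b * w' + b' * w) % p,
     (c * x + d * c' * x' + e * z + d * e' * z') % p, (c * x' + c' * x + e * z' + e' * z) % p,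
     (c * y + d * c' * y' + e * w + d * e' * w') % p, (c * y' + c' * y + e * w' + e' * w) % p)

/-- The identity code. -/
def oneC : Code := (1, 0, 0, 0, 0, 0, 1, 0)

/-- Subtraction of the identity. -/
def subC (p : ℕ) : Code → Code
  | (a, a', b, b', c, c', e, e') => ((a + (p - 1)) % p, a', b, b', c, c', (e + (p - 1)) % p, e')

/-- Powers of codes. -/
def powC (p d : ℕ) (M : Code) : ℕ → Code
  | 0 => oneC
  | n + 1 => mulC p d (powC p d M n) M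

/-- The four by four matrix of a code. -/
def emb (p d : ℕ) : Code → Matrix (Fin 4) (Fin 4) (ZMod p)
  | (a, a', b, b', c, c', e, e') =>
    !![(a : ZMod p), (d : ZMod p) * a', (b : ZMod p), (d : ZMod p) * b';
       (a' : ZMod p), (a : ZMod p), (b' : ZMod p), (b : ZMod p);
       (c : ZMod p), (d : ZMod p) * c', (e : ZMod p), (d : ZMod p) * e';
       (c' : ZMod p), (c : ZMod p), (e' : ZMod p), (e : ZMod p)]

theorem emb_mul (p d : ℕ) (M N : Code) : emb p d (mulC p d M N) = emb p d M * emb p d N := by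
  obtain ⟨a, a', b, b', c, c', e, e'⟩ := M
  obtain ⟨x, x', y, y', z, z', w, w'⟩ := N
  ext i j
  fin_cases i <;> fin_cases j <;>
    simp [emb, mulC, Matrix.mul_apply, Fin.sum_univ_four] <;> ring

theorem emb_one (p d : ℕ) : emb p d oneC = 1 := by
  ext i j
  fin_cases i <;> fin_cases j <;> simp [emb, oneC]

theorem emb_sub (p d : ℕ) [NeZero p] (M : Code) : emb p d (subC p M) = emb p d M - 1 := by
  obtain ⟨a, a', b, b', c, c', e, e'⟩ := M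
  have h1 : ((p - 1 : ℕ) : ZMod p) = -1 := by
    rw [Nat.cast_sub (NeZero.pos p), ZMod.natCast_self, zero_sub, Nat.cast_one]
  ext i j
  fin_cases i <;> fin_cases j <;> simp [emb, subC, h1, sub_eq_add_neg]

theorem emb_pow (p d : ℕ) (M : Code) (n : ℕ) : emb p d (powC p d M n) = emb p d M ^ n := by
  induction n with
  | zero => rw [powC, emb_one, pow_zero]
  | succ n ih => rw [powC, emb_mul, ih, pow_succ]

/-- The coordinates are reduced. -/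
def redC (p : ℕ) : Code → Bool
  | (a, a', b, b', c, c', e, e') => decide (a < p ∧ a' < p ∧ b < p ∧ b' < p ∧ c < p ∧ c' < p ∧ e < p ∧ e' < p)

theorem emb_inj {p d : ℕ} {M N : Code} (hM : redC p M = true) (hN : redC p N = true)
    (h : emb p d M = emb p d N) : M = N := by
  obtain ⟨a, a', b, b', c, c', e, e'⟩ := M
  obtain ⟨x, x', y, y', z, z', w, w'⟩ := N
  simp only [redC, decide_eq_true_eq] at hM hN
  have k : ∀ {u v : ℕ}, u < p → v < p → (u : ZMod p) = v → u = v := fun {u v} hu hv he => by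
    have := congrArg ZMod.val he
    rwa [ZMod.val_cast_of_lt hu, ZMod.val_cast_of_lt hv] at this
  have e0 := k hM.1 hN.1 (congrFun (congrFun h 0) 0)
  have e1 := k hM.2.1 hN.2.1 (congrFun (congrFun h 1) 0)
  have e2 := k hM.2.2.1 hN.2.2.1 (congrFun (congrFun h 0) 2)
  have e3 := k hM.2.2.2.1 hN.2.2.2.1 (congrFun (congrFun h 1) 2)
  have e4 := k hM.2.2.2.2.1 hN.2.2.2.2.1 (congrFun (congrFun h 2) 0)
  have e5 := k hM.2.2.2.2.2.1 hN.2.2.2.2.2.1 (congrFun (congrFun h 3) 0)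
  have e6 := k hM.2.2.2.2.2.2.1 hN.2.2.2.2.2.2.1 (congrFun (congrFun h 2) 2)
  have e7 := k hM.2.2.2.2.2.2.2 hN.2.2.2.2.2.2.2 (congrFun (congrFun h 3) 2)
  subst_vars
  rfl

/-- The check of a list of codes with certificates. -/
def checkList (p d : ℕ) (L W : List Code) (O : List ℕ) : Bool :=
  (L.getD 0 oneC == oneC) && L.all (redC p) && decide L.Nodup &&
  (L.all fun M => L.all fun N => L.contains (mulC p d M N)) &&
  (List.range L.length).all (fun i => (i == 0) || (mulC p d (subC p (L.getD i oneC)) (W.getD i oneC) == oneC)) &&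
  (List.range L.length).all (fun i => decide (0 < O.getD i 0) && (powC p d (L.getD i oneC) (O.getD i 0) == oneC) &&
    (List.range (O.getD i 0)).all fun k => (k == 0) || !(powC p d (L.getD i oneC) k == oneC))

/-- A solvable group with element orders `p` and those of the listed matrices. -/
theorem exists_solvable_of_check (p d : ℕ) [Fact p.Prime] (L W : List Code) (O : List ℕ)
    (hc : checkList p d L W O = true) {q r a b : ℕ} (hq : q.Prime) (hr : r.Prime)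
    (hlen : L.length = q ^ a * r ^ b) :
    ∃ (H : Type) (_ : Group H) (_ : Fintype H), Group.IsSolvable H ∧
      ∀ n, n ∈ Set.range (orderOf : H → ℕ) ↔ (n = p ∨ ∃ i < L.length, O.getD i 0 = n) := by
  classical
  have hL : 0 < L.length := hlen ▸ Nat.mul_pos (pow_pos hq.pos a) (pow_pos hr.pos b)
  simp only [checkList, Bool.and_eq_true, beq_iff_eq, List.all_eq_true, List.mem_range, Bool.or_eq_true,
    decide_eq_true_eq, List.contains_iff_mem, Bool.not_eq_true', beq_eq_false_iff_ne] at hc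
  obtain ⟨⟨⟨⟨⟨h0, hred⟩, hnd⟩, hmul⟩, hinv⟩, hord⟩ := hc
  have hget : ∀ i (hi : i < L.length), L.getD i oneC = L[i] := fun i hi => List.getD_eq_getElem L oneC hi
  have h0' : L[0] = oneC := by rw [← hget 0 hL]; exact h0
  let U := (Matrix (Fin 4) (Fin 4) (ZMod p))ˣ
  haveI : Finite U := Finite.of_injective (fun u : U => (u : Matrix (Fin 4) (Fin 4) (ZMod p))) Units.val_injective
  have hpow : ∀ i (hi : i < L.length), emb p d L[i] ^ O.getD i 0 = 1 := fun i hi => by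
    rw [← emb_pow, ← hget i hi, (hord i hi).1.2, emb_one]
  let f : Fin L.length → U := fun i =>
    Units.ofPowEqOne _ _ (hpow i.1 i.2) (hord i.1 i.2).1.1.ne'
  have hf : ∀ i, (f i : Matrix (Fin 4) (Fin 4) (ZMod p)) = emb p d L[i.1] := fun i => rfl
  have hfinj : Function.Injective f := fun i j e => by
    have := emb_inj (hred _ (List.getElem_mem i.2)) (hred _ (List.getElem_mem j.2))
      ((hf i).symm.trans ((congrArg Units.val e).trans (hf j)))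
    exact Fin.ext ((hnd.getElem_inj_iff).1 this)
  have hone : f ⟨0, hL⟩ = 1 := Units.ext (by rw [hf, h0', emb_one]; rfl)
  have hfmul : ∀ i j, ∃ k, f k = f i * f j := fun i j => by
    obtain ⟨k, hk, e⟩ := List.getElem_of_mem (hmul _ (List.getElem_mem i.2) _ (List.getElem_mem j.2))
    exact ⟨⟨k, hk⟩, Units.ext (by rw [hf, Units.val_mul, hf, hf, e, emb_mul])⟩
  have hfpow : ∀ i (m : ℕ), ∃ k, f k = f i ^ m := fun i m => by
    induction m with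
    | zero => exact ⟨_, hone.trans (pow_zero _).symm⟩
    | succ m ih => obtain ⟨k, hk⟩ := ih; rw [pow_succ, ← hk]; exact hfmul k i
  let K : Subgroup U :=
    { carrier := Set.range f
      one_mem' := ⟨_, hone⟩
      mul_mem' := by rintro _ _ ⟨i, rfl⟩ ⟨j, rfl⟩; exact hfmul i j
      inv_mem' := by
        rintro _ ⟨i, rfl⟩
        obtain ⟨k, hk⟩ := hfpow i (orderOf (f i) - 1)
        refine ⟨k, hk.trans (eq_inv_of_mul_eq_one_left ?_)⟩
        rw [← pow_succ, Nat.sub_add_cancel (orderOf_pos _), pow_orderOf_eq_one] }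
  let e : Fin L.length ≃ K := Equiv.ofBijective (fun i => ⟨f i, i, rfl⟩)
    ⟨fun i j h => hfinj (congrArg Subtype.val h), fun x => by obtain ⟨i, hi⟩ := x.2; exact ⟨i, Subtype.ext hi⟩⟩
  have hKcard : Nat.card K = q ^ a * r ^ b := by rw [← Nat.card_congr e, Nat.card_fin, hlen]
  haveI hKsol : Group.IsSolvable K := CfsgLib.Char.isSolvable_of_card_two_primes hq hr K a b hKcard
  let V := Fin 4 → ZMod p
  letI : DistribMulAction K V :=
    { smul := fun u v => (u.1 : Matrix (Fin 4) (Fin 4) (ZMod p)) *ᵥ v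
      one_smul := fun v => by
        show ((1 : U) : Matrix (Fin 4) (Fin 4) (ZMod p)) *ᵥ v = v
        rw [Units.val_one, Matrix.one_mulVec]
      mul_smul := fun x y v => by
        show ((x.1 * y.1 : U) : Matrix (Fin 4) (Fin 4) (ZMod p)) *ᵥ v = _
        rw [Units.val_mul, ← Matrix.mulVec_mulVec]
        rfl
      smul_zero := fun x => Matrix.mulVec_zero _
      smul_add := fun x v w => Matrix.mulVec_add _ _ _ }
  have hordK : ∀ i : Fin L.length, orderOf (e i) = O.getD i 0 := by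
    intro i
    rw [← Subgroup.orderOf_coe, show ((e i : K) : U) = f i from rfl, ← orderOf_units, hf]
    refine (orderOf_eq_iff (hord i.1 i.2).1.1).2 ⟨hpow _ i.2, fun k hk hk0 h => ?_⟩
    rcases (hord i.1 i.2).2 k hk with h' | h'
    · exact hk0.ne' h'
    · rw [hget _ i.2] at h'
      obtain ⟨n, rfl⟩ : ∃ n, k = n + 1 := ⟨k - 1, by omega⟩
      have hmem : ∀ n, powC p d L[i.1] (n + 1) ∈ L := by
        intro n
        induction n with
        | zero =>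
          have h2 := hmul _ (List.getElem_mem hL) _ (List.getElem_mem i.2)
          rwa [h0'] at h2
        | succ n ih => exact hmul _ ih _ (List.getElem_mem i.2)
      refine h' (emb_inj (d := d) (hred _ (hmem n)) (h0' ▸ hred _ (List.getElem_mem hL)) ?_)
      rw [emb_pow, h, emb_one]
  have hfpf : ∀ (u : K) (v : V), u ≠ 1 → u • v = v → v = 0 := by
    intro u v hu hv
    obtain ⟨i, rfl⟩ := e.surjective u
    have hi0 : i.1 ≠ 0 := fun h => hu (Subtype.ext (by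
      show f i = 1
      rw [← hone]; exact congrArg f (Fin.ext h)))
    have h := (hinv i.1 i.2).resolve_left hi0
    rw [hget _ i.2] at h
    have h2 := congrArg (emb p d) h
    rw [emb_mul, emb_sub, emb_one] at h2
    have h3 := mul_eq_one_comm.1 h2
    have h4 : (emb p d L[i.1] - 1) *ᵥ v = 0 := by
      rw [Matrix.sub_mulVec, Matrix.one_mulVec, sub_eq_zero]
      exact hv
    rw [← Matrix.one_mulVec v, ← h3, ← Matrix.mulVec_mulVec, h4, Matrix.mulVec_zero]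
  haveI : Finite (Semi K V) :=
    Finite.of_injective (fun x : Semi K V => (x.left.toAdd, x.right)) fun x y h => by
      rw [semiPair_eta x, semiPair_eta y, (Prod.mk.inj h).1, (Prod.mk.inj h).2]
  refine ⟨Semi K V, inferInstance, Fintype.ofFinite _, ?_, fun n => ⟨?_, ?_⟩⟩
  · refine Group.isSolvable_of_ker_le_range (SemidirectProduct.inl : Multiplicative V →* Semi K V)
      SemidirectProduct.rightHom ?_
    rw [SemidirectProduct.range_inl_eq_ker_rightHom]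
  · rintro ⟨x, rfl⟩
    rw [semiPair_eta x]
    rcases eq_or_ne x.right 1 with h | h
    · rw [h, orderOf_semiPair_one]
      rcases eq_or_ne x.left.toAdd 0 with h' | h'
      · refine Or.inr ⟨0, hL, ?_⟩
        have h1 := hordK ⟨0, hL⟩
        rw [show e ⟨0, hL⟩ = 1 from Subtype.ext hone, orderOf_one] at h1
        rw [h', addOrderOf_zero]; exact h1.symm
      · refine Or.inl ((Fact.out : p.Prime).eq_one_or_self_of_dvd _ ?_ |>.resolve_left fun h1 =>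
          h' (AddMonoid.addOrderOf_eq_one_iff.1 h1))
        exact addOrderOf_dvd_of_nsmul_eq_zero (funext fun j => by simp)
    · rw [orderOf_semiPair, hfpf _ _ h (smul_geom_sum_smul _ _), addOrderOf_zero, mul_one]
      obtain ⟨i, hi⟩ := e.surjective x.right
      exact Or.inr ⟨i.1, i.2, by rw [← hi, hordK]⟩
  · rintro (rfl | ⟨i, hi, rfl⟩)
    · refine ⟨semiPair (Pi.single 0 1 : V) 1, ?_⟩
      rw [orderOf_semiPair_one]
      exact addOrderOf_eq_prime (funext fun j => by simp) (fun h => one_ne_zero ((Pi.single_eq_same (0 : Fin 4) _).symm.trans (congrFun h 0)))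
    · refine ⟨semiPair 0 (e ⟨i, hi⟩), ?_⟩
      rw [orderOf_semiPair]
      simp [hordK]

/-- The binary octahedral group. -/
def octList : List Code := [
  (1, 0, 0, 0, 0, 0, 1, 0),
  (0, 3, 0, 0, 0, 0, 0, 11),
  (2, 0, 3, 0, 2, 0, 10, 0),
  (5, 0, 0, 0, 0, 0, 8, 0),
  (0, 6, 0, 9, 0, 9, 0, 6),
  (0, 6, 0, 7, 0, 6, 0, 6),
  (10, 0, 10, 0, 11, 0, 2, 0),
  (0, 2, 0, 0, 0, 0, 0, 10),
  (10, 0, 2, 0, 3, 0, 2, 0),
  (10, 0, 3, 0, 2, 0, 2, 0),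
  (0, 4, 0, 4, 0, 4, 0, 9),
  (10, 0, 11, 0, 10, 0, 2, 0),
  (0, 0, 0, 10, 0, 11, 0, 0),
  (0, 4, 0, 6, 0, 7, 0, 9),
  (12, 0, 0, 0, 0, 0, 12, 0),
  (0, 4, 0, 9, 0, 9, 0, 9),
  (11, 0, 11, 0, 10, 0, 3, 0),
  (0, 4, 0, 7, 0, 6, 0, 9),
  (0, 0, 8, 0, 8, 0, 0, 0),
  (11, 0, 10, 0, 11, 0, 3, 0),
  (3, 0, 10, 0, 11, 0, 11, 0),
  (0, 0, 12, 0, 1, 0, 0, 0),
  (0, 7, 0, 9, 0, 9, 0, 7),
  (11, 0, 2, 0, 3, 0, 3, 0),
  (0, 7, 0, 7, 0, 6, 0, 7),
  (0, 10, 0, 0, 0, 0, 0, 2),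
  (11, 0, 3, 0, 2, 0, 3, 0),
  (0, 0, 0, 11, 0, 10, 0, 0),
  (0, 7, 0, 4, 0, 4, 0, 7),
  (0, 9, 0, 4, 0, 4, 0, 4),
  (3, 0, 2, 0, 3, 0, 11, 0),
  (0, 7, 0, 6, 0, 7, 0, 7),
  (3, 0, 3, 0, 2, 0, 11, 0),
  (0, 9, 0, 6, 0, 7, 0, 4),
  (0, 0, 5, 0, 5, 0, 0, 0),
  (0, 0, 0, 2, 0, 3, 0, 0),
  (0, 0, 1, 0, 12, 0, 0, 0),
  (3, 0, 11, 0, 10, 0, 11, 0),
  (8, 0, 0, 0, 0, 0, 5, 0),
  (2, 0, 11, 0, 10, 0, 10, 0),
  (0, 9, 0, 9, 0, 9, 0, 4),
  (2, 0, 10, 0, 11, 0, 10, 0),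
  (0, 0, 0, 3, 0, 2, 0, 0),
  (0, 9, 0, 7, 0, 6, 0, 4),
  (2, 0, 2, 0, 3, 0, 10, 0),
  (0, 11, 0, 0, 0, 0, 0, 3),
  (0, 6, 0, 4, 0, 4, 0, 6),
  (0, 6, 0, 6, 0, 7, 0, 6)]

/-- Inverse certificates. -/
def octListInv : List Code := [
  (1, 0, 0, 0, 0, 0, 1, 0),
  (10, 4, 0, 0, 0, 0, 2, 9),
  (3, 0, 12, 0, 8, 0, 9, 0),
  (10, 0, 0, 0, 0, 0, 2, 0),
  (6, 0, 9, 4, 9, 4, 6, 0),
  (6, 0, 7, 6, 6, 7, 6, 0),
  (9, 0, 1, 0, 5, 0, 3, 0),
  (2, 4, 0, 0, 0, 0, 10, 9),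
  (9, 0, 8, 0, 12, 0, 3, 0),
  (9, 0, 12, 0, 8, 0, 3, 0),
  (6, 11, 0, 11, 0, 11, 6, 2),
  (9, 0, 5, 0, 1, 0, 3, 0),
  (6, 0, 0, 8, 0, 1, 6, 0),
  (6, 11, 0, 10, 0, 3, 6, 2),
  (6, 0, 0, 0, 0, 0, 6, 0),
  (6, 11, 0, 2, 0, 2, 6, 2),
  (2, 0, 2, 0, 3, 0, 10, 0),
  (6, 11, 0, 3, 0, 10, 6, 2),
  (6, 0, 9, 0, 9, 0, 6, 0),
  (2, 0, 3, 0, 2, 0, 10, 0),
  (10, 0, 3, 0, 2, 0, 2, 0),
  (6, 0, 7, 0, 6, 0, 6, 0),
  (6, 0, 4, 4, 4, 4, 6, 0),
  (2, 0, 11, 0, 10, 0, 10, 0),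
  (6, 0, 6, 6, 7, 7, 6, 0),
  (10, 9, 0, 0, 0, 0, 2, 4),
  (2, 0, 10, 0, 11, 0, 10, 0),
  (6, 0, 0, 1, 0, 8, 6, 0),
  (6, 0, 9, 9, 9, 9, 6, 0),
  (6, 2, 0, 11, 0, 11, 6, 11),
  (10, 0, 11, 0, 10, 0, 2, 0),
  (6, 0, 7, 7, 6, 6, 6, 0),
  (10, 0, 10, 0, 11, 0, 2, 0),
  (6, 2, 0, 10, 0, 3, 6, 11),
  (6, 0, 4, 0, 4, 0, 6, 0),
  (6, 0, 0, 12, 0, 5, 6, 0),
  (6, 0, 6, 0, 7, 0, 6, 0),
  (10, 0, 2, 0, 3, 0, 2, 0),
  (2, 0, 0, 0, 0, 0, 10, 0),
  (3, 0, 5, 0, 1, 0, 9, 0),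
  (6, 2, 0, 2, 0, 2, 6, 11),
  (3, 0, 1, 0, 5, 0, 9, 0),
  (6, 0, 0, 5, 0, 12, 6, 0),
  (6, 2, 0, 3, 0, 10, 6, 11),
  (3, 0, 8, 0, 12, 0, 9, 0),
  (2, 9, 0, 0, 0, 0, 10, 4),
  (6, 0, 4, 9, 4, 9, 6, 0),
  (6, 0, 6, 7, 7, 6, 6, 0)]

/-- Orders. -/
def octListOrd : List ℕ := [1, 8, 3, 4, 8, 8, 3, 8, 3, 3, 4, 3, 4, 4, 2, 4, 6, 4, 4, 6, 6, 4, 8, 6, 8, 8, 6, 4, 8, 4, 6, 8, 6, 4, 4, 4, 4, 6, 4, 3, 4, 3, 4, 4, 3, 8, 8, 8]

theorem octList_check : checkList 13 2 octList octListInv octListOrd = true := by decide +kernel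

/-- The group of order 24 with cyclic Sylow subgroups. -/
def triList : List Code := [
  (1, 0, 0, 0, 0, 0, 1, 0),
  (2, 0, 0, 0, 0, 0, 4, 0),
  (0, 0, 1, 0, 0, 1, 0, 0),
  (4, 0, 0, 0, 0, 0, 2, 0),
  (0, 0, 2, 0, 0, 4, 0, 0),
  (0, 0, 4, 0, 0, 2, 0, 0),
  (0, 1, 0, 0, 0, 0, 0, 1),
  (0, 2, 0, 0, 0, 0, 0, 4),
  (0, 4, 0, 0, 0, 0, 0, 2),
  (0, 0, 0, 1, 6, 0, 0, 0),
  (0, 0, 0, 2, 3, 0, 0, 0),
  (0, 0, 0, 4, 5, 0, 0, 0),
  (6, 0, 0, 0, 0, 0, 6, 0),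
  (5, 0, 0, 0, 0, 0, 3, 0),
  (3, 0, 0, 0, 0, 0, 5, 0),
  (0, 0, 6, 0, 0, 6, 0, 0),
  (0, 0, 5, 0, 0, 3, 0, 0),
  (0, 0, 3, 0, 0, 5, 0, 0),
  (0, 6, 0, 0, 0, 0, 0, 6),
  (0, 5, 0, 0, 0, 0, 0, 3),
  (0, 3, 0, 0, 0, 0, 0, 5),
  (0, 0, 0, 6, 1, 0, 0, 0),
  (0, 0, 0, 5, 4, 0, 0, 0),
  (0, 0, 0, 3, 2, 0, 0, 0)]

/-- Inverse certificates. -/
def triListInv : List Code := [
  (1, 0, 0, 0, 0, 0, 1, 0),
  (1, 0, 0, 0, 0, 0, 5, 0),
  (3, 3, 3, 3, 4, 3, 3, 3),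
  (5, 0, 0, 0, 0, 0, 1, 0),
  (3, 3, 6, 6, 2, 5, 3, 3),
  (3, 3, 5, 5, 1, 6, 3, 3),
  (3, 3, 0, 0, 0, 0, 3, 3),
  (4, 1, 0, 0, 0, 0, 2, 1),
  (2, 1, 0, 0, 0, 0, 4, 1),
  (3, 4, 3, 3, 4, 3, 3, 4),
  (3, 4, 6, 6, 2, 5, 3, 4),
  (3, 4, 5, 5, 1, 6, 3, 4),
  (3, 0, 0, 0, 0, 0, 3, 0),
  (2, 0, 0, 0, 0, 0, 4, 0),
  (4, 0, 0, 0, 0, 0, 2, 0),
  (3, 3, 4, 4, 3, 4, 3, 3),
  (3, 3, 1, 1, 5, 2, 3, 3),
  (3, 3, 2, 2, 6, 1, 3, 3),
  (3, 4, 0, 0, 0, 0, 3, 4),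
  (4, 6, 0, 0, 0, 0, 2, 6),
  (2, 6, 0, 0, 0, 0, 4, 6),
  (3, 4, 4, 4, 3, 4, 3, 4),
  (3, 4, 1, 1, 5, 2, 3, 4),
  (3, 4, 2, 2, 6, 1, 3, 4)]

/-- Orders. -/
def triListOrd : List ℕ := [1, 3, 8, 3, 8, 8, 4, 12, 12, 8, 8, 8, 2, 6, 6, 8, 8, 8, 4, 12, 12, 8, 8, 8]

theorem triList_check : checkList 7 6 triList triListInv triListOrd = true := by decide +kernel

end CfsgLib.Char.ExtPlane
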