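import Mathlib
import Cfsg.Agent.Lib.Char.Clifford
import Cfsg.Agent.Lib.Char.IndMap
import Cfsg.Agent.Lib.Char.Virtual
import Cfsg.Agent.Lib.Char.Determine

/-!
# Multiplication by an extendible character
-/

set_option autoImplicit false
set_option linter.unusedSectionVars false
set_option linter.style.haveILetI false

namespace CfsgLib.Char

open scoped ComplexConjugate
open Cfsg

universe u

variable {G : Type u} [Group G] [Fintype G]

/-- The constituents above a product of invariant characters, one of which extends. -/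
theorem bijOn_mul_extension (N : Subgroup G) [hN : N.Normal] {φ ϑ : N → ℂ} (hφ : IsIrrCharacter N φ)
    (hφinv : ∀ g : G, conjFun N φ g = φ) (hϑinv : ∀ g : G, conjFun N ϑ g = ϑ)
    (hprod : IsIrrCharacter N (φ * ϑ)) {χ : G → ℂ} (hχ : IsIrrCharacter G χ) (hext : ∀ n : N, χ n = ϑ n) :
    Set.BijOn (fun β : G → ℂ => β * χ)
      {β | IsIrrCharacter G β ∧ classInner (indFun N φ) β ≠ 0}
      {ψ | IsIrrCharacter G ψ ∧ classInner (indFun N (φ * ϑ)) ψ ≠ 0} := by
  classical
  haveI := Fintype.ofFinite N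
  haveI := Fintype.ofFinite (IrrCharacter G)
  have hχc := isCharacter_of_isIrr hχ
  have hmul : indFun N (φ * ϑ) = indFun N φ * χ := by
    rw [indFun_mul N φ (isClassFunction_of_isCharacter hχc)]
    exact congrArg _ (funext fun h => by rw [Pi.mul_apply, hext])
  have hindc := isCharacter_indFun N (isCharacter_of_isIrr hφ)
  have hnorm : classInner (indFun N φ) (indFun N φ) =
      classInner (indFun N φ * χ) (indFun N φ * χ) := by
    have h1 := card_smul_classInner_indFun_self N hφ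
    have h2 := card_smul_classInner_indFun_self N hprod
    have hi : ∀ θ : N → ℂ, (∀ g, conjFun N θ g = θ) → Nat.card (inertia N θ) = Nat.card G := fun θ h => by
      rw [show inertia N θ = ⊤ from eq_top_iff.2 fun g _ => h g, Subgroup.card_top]
    rw [hi φ hφinv] at h1
    rw [hi (φ * ϑ) fun g => by
      funext n
      exact congrArg₂ (· * ·) (congrFun (hφinv g) n) (congrFun (hϑinv g) n)] at h2
    rw [← hmul]
    exact mul_left_cancel₀ (by exact_mod_cast Nat.card_pos.ne') (h1.trans h2.symm)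
  have hbc : ∀ β : IrrCharacter G, IsCharacter G ((β : G → ℂ) * χ) := fun β =>
    isCharacter_mul (isCharacter_irr β) hχc
  have hcoef : ∀ β : IrrCharacter G, ∃ a : ℕ, classInner (indFun N φ) (β : G → ℂ) = a := fun β =>
    classInner_isCharacter hindc (isCharacter_irr β)
  choose a ha using hcoef
  have hgram : ∀ β γ : IrrCharacter G, ∃ b : ℕ, classInner ((β : G → ℂ) * χ) ((γ : G → ℂ) * χ) = b :=
    fun β γ => classInner_isCharacter (hbc β) (hbc γ)
  choose b hb using hgram
  have hexp : indFun N φ = ∑ β : IrrCharacter G, (a β : ℂ) • (β : G → ℂ) := by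
    conv_lhs => rw [classFun_expand (isClassFunction_indFun N φ)]
    simp only [ha]
  have hexp2 : indFun N φ * χ = ∑ β : IrrCharacter G, (a β : ℂ) • ((β : G → ℂ) * χ) := by
    rw [hexp, Finset.sum_mul]
    simp only [smul_mul_assoc]
  have hb1 : ∀ β : IrrCharacter G, 1 ≤ b β β := by
    intro β
    refine Nat.one_le_iff_ne_zero.2 fun h => ?_
    have h' := hb β β
    rw [h, Nat.cast_zero] at h'
    have h1 := congrFun (classInner_self_eq_zero h') 1
    rw [Pi.mul_apply, Pi.zero_apply, mul_eq_zero] at h1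
    exact h1.elim (irr_one_ne_zero β) (irr_one_ne_zero ⟨χ, hχ⟩)
  have heq : ∑ β : IrrCharacter G, ∑ γ : IrrCharacter G, a β * (a γ * b β γ) =
      ∑ β : IrrCharacter G, ∑ γ : IrrCharacter G, a β * (a γ * if β = γ then 1 else 0) := by
    have h := hnorm.symm
    rw [hexp2] at h
    rw [hexp] at h
    simp only [classInner_sum_left, classInner_smul_left] at h
    simp only [classInner_sum_right, classInner_smul_right, Complex.conj_natCast, hb, classInner_irr,
      Finset.mul_sum] at h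
    have h' : ((∑ β : IrrCharacter G, ∑ γ : IrrCharacter G, a β * (a γ * b β γ) : ℕ) : ℂ) =
        ((∑ β : IrrCharacter G, ∑ γ : IrrCharacter G, a β * (a γ * if β = γ then 1 else 0) : ℕ) : ℂ) := by
      push_cast
      exact h
    exact_mod_cast h'
  have hle : ∀ β γ : IrrCharacter G, a β * (a γ * (if β = γ then 1 else 0)) ≤ a β * (a γ * b β γ) := by
    intro β γ
    refine Nat.mul_le_mul_left _ (Nat.mul_le_mul_left _ ?_)
    split_ifs with h
    · exact h ▸ hb1 β
    · exact Nat.zero_le _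
  have hterm : ∀ β γ : IrrCharacter G, a β ≠ 0 → a γ ≠ 0 → b β γ = if β = γ then 1 else 0 := by
    intro β γ h1 h2
    have hrow := (Finset.sum_eq_sum_iff_of_le fun β _ => Finset.sum_le_sum fun γ _ => hle β γ).1 heq.symm β
      (Finset.mem_univ β)
    have hc := (Finset.sum_eq_sum_iff_of_le fun γ _ => hle β γ).1 hrow γ (Finset.mem_univ γ)
    exact (Nat.eq_of_mul_eq_mul_left (Nat.pos_of_ne_zero h2)
      (Nat.eq_of_mul_eq_mul_left (Nat.pos_of_ne_zero h1) hc)).symm
  have hirr : ∀ β : IrrCharacter G, a β ≠ 0 → IsIrrCharacter G ((β : G → ℂ) * χ) := fun β h =>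
    isIrr_of_isCharacter_norm_one (hbc β) (by rw [hb, hterm β β h h, if_pos rfl, Nat.cast_one])
  refine ⟨?_, ?_, ?_⟩
  · rintro β ⟨hβ, hne⟩
    have h0 : a ⟨β, hβ⟩ ≠ 0 := fun h => hne (by rw [show classInner (indFun N φ) β = (a ⟨β, hβ⟩ : ℂ) from ha ⟨β, hβ⟩, h, Nat.cast_zero])
    refine ⟨hirr ⟨β, hβ⟩ h0, ?_⟩
    rw [hmul, hexp2, classInner_sum_left, Finset.sum_eq_single (⟨β, hβ⟩ : IrrCharacter G)]
    · rw [classInner_smul_left, show classInner (β * χ) (β * χ) = 1 from
        classInner_irr_self ⟨_, hirr ⟨β, hβ⟩ h0⟩, mul_one]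
      exact Nat.cast_ne_zero.2 h0
    · intro γ _ hγ
      rcases eq_or_ne (a γ) 0 with h | h
      · rw [h, Nat.cast_zero, zero_smul, classInner_zero_left]
      · rw [classInner_smul_left, show classInner ((γ : G → ℂ) * χ) (β * χ) = (b γ ⟨β, hβ⟩ : ℂ) from hb γ ⟨β, hβ⟩,
          hterm γ ⟨β, hβ⟩ h h0, if_neg hγ, Nat.cast_zero, mul_zero]
    · exact fun h => absurd (Finset.mem_univ _) h
  · rintro β ⟨hβ, hne⟩ γ ⟨hγ, hne'⟩ he
    by_contra hβγ
    have h0 : a ⟨β, hβ⟩ ≠ 0 := fun h => hne (by rw [show classInner (indFun N φ) β = (a ⟨β, hβ⟩ : ℂ) from ha ⟨β, hβ⟩, h, Nat.cast_zero])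
    have h0' : a ⟨γ, hγ⟩ ≠ 0 := fun h => hne' (by rw [show classInner (indFun N φ) γ = (a ⟨γ, hγ⟩ : ℂ) from ha ⟨γ, hγ⟩, h, Nat.cast_zero])
    have h1 : classInner (β * χ) (γ * χ) = (b ⟨β, hβ⟩ ⟨γ, hγ⟩ : ℂ) := hb ⟨β, hβ⟩ ⟨γ, hγ⟩
    rw [show β * χ = γ * χ from he, hterm _ _ h0 h0', if_neg (fun e => hβγ (congrArg Subtype.val e)),
      show classInner (γ * χ) (γ * χ) = 1 from classInner_irr_self ⟨_, hirr ⟨γ, hγ⟩ h0'⟩, Nat.cast_zero] at h1
    exact one_ne_zero h1
  · rintro ψ ⟨hψ, hne⟩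
    rw [hmul, hexp2, classInner_sum_left] at hne
    obtain ⟨β, -, hβ⟩ := Finset.exists_ne_zero_of_sum_ne_zero hne
    rw [classInner_smul_left] at hβ
    have h0 : a β ≠ 0 := fun h => hβ (by rw [h, Nat.cast_zero, zero_mul])
    refine ⟨β, ⟨β.2, by rw [ha]; exact Nat.cast_ne_zero.2 h0⟩, ?_⟩
    exact congrArg Subtype.val (irr_eq_of_inner_ne_zero (χ := ⟨_, hirr β h0⟩) (ψ := ⟨ψ, hψ⟩)
      (right_ne_zero_of_mul hβ))

end CfsgLib.Char
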