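import Cfsg.Agent.Lib.Coprime.Primitive
import Cfsg.Agent.Lib.Coprime.Fitting

/-!
# Abelian normal subgroups of point stabilizers of extremely primitive groups

They act semiregularly away from the fixed point.
-/

set_option autoImplicit false
set_option linter.unusedSectionVars false
set_option linter.style.haveILetI false

namespace CfsgLib.Char.ExtremelyPrimitive

open MulAction

universe u v

variable {G : Type u} [Group G] [Finite G] {Ω : Type v} [Fintype Ω] [MulAction G Ω] [FaithfulSMul G Ω]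
  (hprim : IsPreprimitive G Ω)
  (hep : ∀ (α : Ω) (ω : Ω), IsPreprimitive (stabilizer G α) (orbit (stabilizer G α) ω))
  (α : Ω) (hH : stabilizer G α ≠ ⊥)

include hprim hH in
theorem nontrivial_points : Nontrivial Ω := by
  rcases subsingleton_or_nontrivial Ω with h | h
  · exact absurd ((Subgroup.eq_bot_iff_forall _).2 fun g _ =>
      FaithfulSMul.eq_of_smul_eq_smul (α := Ω) fun x => Subsingleton.elim _ _) hH
  · exact h

include hprim hH in
theorem stabilizer_coatom : IsCoatom (stabilizer G α) := by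
  haveI := hprim
  haveI := nontrivial_points hprim α hH
  exact IsPreprimitive.isCoatom_stabilizer_of_isPreprimitive G α

include hprim hH in
theorem not_normal : ¬ (stabilizer G α).Normal := by
  intro hn
  haveI := hprim
  refine hH ((Subgroup.eq_bot_iff_forall _).2 fun h hh => FaithfulSMul.eq_of_smul_eq_smul (α := Ω) fun x => ?_)
  obtain ⟨g, rfl⟩ := exists_smul_eq G α x
  rw [one_smul]
  have h1 := hn.conj_mem h hh g⁻¹
  rw [inv_inv, mem_stabilizer_iff, mul_smul, mul_smul] at h1
  exact inv_smul_eq_iff.1 h1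

local notation "Hs" => stabilizer G α

include hprim hH in
/-- The semiregularity of an abelian minimal normal subgroup of a point stabilizer. -/
theorem semiregular (hep : ∀ (α : Ω) (ω : Ω), IsPreprimitive (stabilizer G α) (orbit (stabilizer G α) ω))
    (A : Subgroup (stabilizer G α)) [A.Normal] (hAne : A ≠ ⊥)
    (hAmin : ∀ K : Subgroup (stabilizer G α), K.Normal → K ≤ A → K = ⊥ ∨ K = A)
    (hAc : ∀ a ∈ A, ∀ b ∈ A, a * b = b * a) :
    ∀ ω : Ω, ω ≠ α → (∀ a ∈ A, a • ω = ω → a = 1) ∧
      ∀ y ∈ orbit (stabilizer G α) ω, ∃ a ∈ A, a • ω = y := by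
  classical
  haveI := hprim
  haveI := nontrivial_points hprim α hH
  have hcoat : IsCoatom Hs := stabilizer_coatom hprim α hH
  set T : Subgroup G := A.map (Hs).subtype with hTdef
  have hTH : T ≤ Hs := Subgroup.map_subtype_le A
  have hTne : T ≠ ⊥ := fun h => hAne ((Subgroup.map_eq_bot_iff_of_injective _ (Hs).subtype_injective).1 h)
  have hTconj : ∀ h ∈ Hs, ∀ t ∈ T, h * t * h⁻¹ ∈ T := fun h hh t ht => by
    obtain ⟨a, ha, rfl⟩ := ht
    exact ⟨⟨h, hh⟩ * a * ⟨h, hh⟩⁻¹, ‹A.Normal›.conj_mem a ha _, rfl⟩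
  let Φ : Ω → Prop := fun z => ∀ t ∈ T, t • z = z
  have hΦα : Φ α := fun t ht => mem_stabilizer_iff.1 (hTH ht)
  have hΦH : ∀ h ∈ Hs, ∀ z, Φ z → Φ (h • z) := fun h hh z hz t ht => by
    have h1 := hz _ (hTconj h⁻¹ (inv_mem hh) t ht)
    rw [inv_inv, mul_smul, mul_smul, inv_smul_eq_iff] at h1
    exact h1
  have htrans : ∀ ω, ¬ Φ ω → ∀ y ∈ orbit Hs ω, ∃ a ∈ A, a • ω = y := by
    intro ω hω y hy
    haveI := hep α ω
    haveI : IsPretransitive A (orbit Hs ω) := IsQuasiPreprimitive.isPretransitive_of_normal (G := Hs) fun e => by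
      refine hω fun t ht => ?_
      obtain ⟨a, ha, rfl⟩ := ht
      exact congrArg Subtype.val ((Set.eq_univ_iff_forall.1 e ⟨ω, mem_orbit_self ω⟩) ⟨a, ha⟩)
    obtain ⟨a, ha⟩ := exists_smul_eq A (⟨ω, mem_orbit_self ω⟩ : orbit Hs ω) ⟨y, hy⟩
    exact ⟨a.1, a.2, congrArg Subtype.val ha⟩
  have hfix : ∀ a ∈ A, a ≠ 1 → ∀ y, a • y = y → Φ y := by
    intro a ha ha1 y hy
    by_contra hy'
    let K : Subgroup Hs := A ⊓ (MulAction.toPermHom Hs (orbit Hs y)).ker
    have haK : a ∈ K := ⟨ha, MonoidHom.mem_ker.2 (Equiv.ext fun z => Subtype.ext (by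
      obtain ⟨b, hb, hbz⟩ := htrans y hy' z.1 z.2
      show a • (z : Ω) = z
      rw [← hbz, ← mul_smul, hAc a ha b hb, mul_smul, hy]))⟩
    rcases hAmin K inferInstance inf_le_left with hK | hK
    · exact ha1 (Subgroup.mem_bot.1 (hK ▸ haK))
    · refine hy' fun t ht => ?_
      obtain ⟨b, hb, rfl⟩ := ht
      exact congrArg (fun e : Equiv.Perm (orbit Hs y) => ((e ⟨y, mem_orbit_self y⟩ : orbit Hs y) : Ω))
        (MonoidHom.mem_ker.1 ((show b ∈ K from hK.symm ▸ hb).2))
  have hNT : Subgroup.normalizer (T : Set G) = Hs := by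
    have hle : Hs ≤ Subgroup.normalizer (T : Set G) := fun h hh => by
      rw [Subgroup.mem_normalizer_iff]
      refine fun x => ⟨hTconj h hh x, fun hx => ?_⟩
      have := hTconj h⁻¹ (inv_mem hh) _ hx
      rwa [show h⁻¹ * (h * x * h⁻¹) * h⁻¹⁻¹ = x by group] at this
    refine le_antisymm ?_ hle
    by_contra hnot
    have htop := hcoat.2 _ (lt_of_le_of_ne hle fun e => hnot e.ge)
    refine hTne ((Subgroup.eq_bot_iff_forall _).2 fun t ht => FaithfulSMul.eq_of_smul_eq_smul (α := Ω) fun x => ?_)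
    obtain ⟨g, rfl⟩ := exists_smul_eq G α x
    rw [one_smul]
    have h1 := (Subgroup.mem_normalizer_iff.1 (htop ▸ Subgroup.mem_top g⁻¹) t).1 ht
    have h2 := mem_stabilizer_iff.1 (hTH h1)
    rw [inv_inv, mul_smul, mul_smul] at h2
    exact inv_smul_eq_iff.1 h2
  let R : Ω → Ω → Prop := fun x z => ∀ g : G, g • α = x → Φ (g⁻¹ • z)
  have hR : ∀ (g : G) z, R (g • α) z ↔ Φ (g⁻¹ • z) := fun g z => ⟨fun h => h g rfl, fun h g' hg' => by
    have hh : g'⁻¹ * g ∈ Hs := by rw [mem_stabilizer_iff, mul_smul, ← hg', inv_smul_smul]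
    have := hΦH _ hh _ h
    rwa [mul_smul, smul_inv_smul] at this⟩
  have hinv : ∀ (k : G) x z, R x z → R (k • x) (k • z) := fun k x z h => by
    obtain ⟨g, rfl⟩ := exists_smul_eq G α x
    rw [← mul_smul, hR, mul_inv_rev, mul_smul, inv_smul_smul]
    exact (hR g z).1 h
  have hRα : ∀ z, R α z ↔ Φ z := fun z => by
    have := hR 1 z
    rwa [one_smul, inv_one, one_smul] at this
  -- symmetry
  obtain ⟨a₁, ha₁, ha₁ne⟩ : ∃ a ∈ A, a ≠ (1 : Hs) := by
    by_contra! hall
    exact hAne ((Subgroup.eq_bot_iff_forall _).2 hall)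
  obtain ⟨p, hp, hpA⟩ := Nat.exists_prime_and_dvd (n := Nat.card A) fun h => hAne (Subgroup.card_eq_one.1 h)
  haveI := Fact.mk hp
  have hexp : ∀ a ∈ A, a ^ p = 1 := by
    let B : Subgroup Hs :=
      { carrier := {a | a ∈ A ∧ a ^ p = 1}
        one_mem' := ⟨one_mem A, one_pow p⟩
        mul_mem' := fun {a b} ha hb => ⟨mul_mem ha.1 hb.1, by
          rw [(show Commute a b from hAc a ha.1 b hb.1).mul_pow, ha.2, hb.2, one_mul]⟩
        inv_mem' := fun {a} ha => ⟨inv_mem ha.1, by rw [inv_pow, ha.2, inv_one]⟩ }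
    have hB : B.Normal :=
      ⟨fun a ha g => ⟨‹A.Normal›.conj_mem a ha.1 g, by rw [conj_pow, ha.2, mul_one, mul_inv_cancel]⟩⟩
    obtain ⟨x, hx⟩ := exists_prime_orderOf_dvd_card' (G := A) p hpA
    rcases hAmin B hB (fun a ha => ha.1) with h | h
    · exfalso
      have hx1 : (x : Hs) = 1 := Subgroup.mem_bot.1 (h ▸ (show (x : Hs) ∈ B from ⟨x.2, by
        rw [← hx, ← Subgroup.orderOf_coe, pow_orderOf_eq_one]⟩))
      rw [← Subgroup.orderOf_coe, hx1, orderOf_one] at hx
      exact hp.ne_one hx.symm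
    · exact fun a ha => (show a ∈ B from h.symm ▸ ha).2
  have hTp : IsPGroup p T := fun t => ⟨1, by
    obtain ⟨a, ha, e⟩ := t.2
    exact Subtype.ext (by rw [SubgroupClass.coe_pow, pow_one, ← e]; exact congrArg Subtype.val (hexp a ha))⟩
  have hsym : ∀ x z, R x z → R z x := by
    have base : ∀ g : G, Φ (g • α) → Φ (g⁻¹ • α) := by
      intro g hg
      set T' : Subgroup G := T.map (MulAut.conj g).toMonoidHom with hT'
      have hTn : T ≤ Subgroup.normalizer (T' : Set G) := fun t ht => by
        have h1 : g⁻¹ * t * g ∈ Hs := by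
          rw [mem_stabilizer_iff, mul_smul, mul_smul, hg t ht, inv_smul_smul]
        rw [Subgroup.mem_normalizer_iff]
        intro x
        constructor
        · rintro ⟨s, hs, rfl⟩
          exact ⟨g⁻¹ * t * g * s * (g⁻¹ * t * g)⁻¹, hTconj _ h1 s hs, by
            simp only [MulEquiv.coe_toMonoidHom, MulAut.conj_apply]; group⟩
        · rintro ⟨s, hs, e⟩
          simp only [MulEquiv.coe_toMonoidHom, MulAut.conj_apply] at e
          refine ⟨(g⁻¹ * t * g)⁻¹ * s * (g⁻¹ * t * g)⁻¹⁻¹, hTconj _ (inv_mem h1) s hs, ?_⟩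
          simp only [MulEquiv.coe_toMonoidHom, MulAut.conj_apply]
          calc _ = t⁻¹ * (g * s * g⁻¹) * t := by group
            _ = x := by rw [e]; group
      let f : T →* MulAut T' := (Subgroup.normalizerMonoidHom T').comp (Subgroup.inclusion hTn)
      letI : MulAction T T' := MulAction.compHom T' f
      have hdvd : p ∣ Nat.card T' := by
        rw [Subgroup.card_map_of_injective (MulAut.conj g).injective, Subgroup.card_map_of_injective (Hs).subtype_injective]
        exact hpA
      have h1f : (1 : T') ∈ MulAction.fixedPoints T T' := fun t => map_one (f t)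
      obtain ⟨b, hb, hb1⟩ := hTp.exists_fixed_point_of_prime_dvd_card_of_fixed_point T' hdvd h1f
      obtain ⟨s, hs, hsb⟩ := b.2
      simp only [MulEquiv.coe_toMonoidHom, MulAut.conj_apply] at hsb
      have hbH : (b : G) ∈ Hs := by
        rw [← hNT, Subgroup.mem_normalizer_iff]
        have hcom : ∀ t ∈ T, t * (b : G) = (b : G) * t := fun t ht => mul_inv_eq_iff_eq_mul.1
          (congrArg Subtype.val (hb ⟨t, ht⟩) : t * (b : G) * t⁻¹ = (b : G))
        intro t
        constructor
        · intro ht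
          rwa [← hcom t ht, mul_inv_cancel_right]
        · intro ht
          have h := hcom _ ht
          rw [show (b : G) * t * (b : G)⁻¹ * (b : G) = (b : G) * t by group] at h
          rwa [← mul_left_cancel h] at ht
      obtain ⟨a, ha, rfl⟩ := hs
      refine hfix a ha (fun h => hb1 (Subtype.ext ?_)) _ ?_
      · show (1 : G) = (b : G)
        rw [← hsb, h]; simp
      · have h2 := mem_stabilizer_iff.1 hbH
        rw [← hsb, mul_smul, mul_smul] at h2
        exact eq_inv_smul_iff.2 h2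
    intro x z h
    obtain ⟨g, rfl⟩ := exists_smul_eq G α x
    obtain ⟨k, rfl⟩ := exists_smul_eq G α z
    rw [hR] at h ⊢
    rw [← mul_smul] at h ⊢
    have := base _ h
    rwa [mul_inv_rev, inv_inv] at this
  -- two related points have no common unrelated point
  have hno : ∀ x z w, x ≠ z → R x z → R x w ∨ R z w := by
    have base : ∀ g : G, g • α ≠ α → Φ (g • α) → ∀ y, Φ y ∨ Φ (g⁻¹ • y) := by
      intro g hgne hg y
      by_contra hy
      push Not at hy
      obtain ⟨hy1, hy2⟩ := hy
      have hback : Φ (g⁻¹ • α) := (hR g α).1 (hsym α (g • α) ((hRα _).2 hg))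
      have hconj : ∀ t ∈ T, g * t * g⁻¹ ∈ Hs := fun t ht => by
        rw [mem_stabilizer_iff, mul_smul, mul_smul, hback t ht, smul_inv_smul]
      let Y : Set Ω := orbit Hs y
      let ι : A → Y := fun a => ⟨(a : Hs) • y, mem_orbit y (a : Hs)⟩
      have hι : Function.Bijective ι := by
        refine ⟨fun a b e => ?_, fun z => ?_⟩
        · by_contra hab
          have e' : (a : Hs) • y = (b : Hs) • y := congrArg Subtype.val e
          exact hy1 (hfix ((b : Hs)⁻¹ * a) (mul_mem (inv_mem b.2) a.2)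
            (fun h => hab (Subtype.ext (inv_mul_eq_one.1 h).symm)) y (by rw [mul_smul, e', inv_smul_smul]))
        · obtain ⟨a, ha, e⟩ := htrans y hy1 z.1 z.2
          exact ⟨⟨a, ha⟩, Subtype.ext e⟩
      let ι' : A → Y := fun a => ⟨(g * ((a : Hs) : G) * g⁻¹) • y,
        mem_orbit y (⟨_, hconj _ (Subgroup.mem_map_of_mem (Hs).subtype a.2)⟩ : Hs)⟩
      have hι' : Function.Bijective ι' := by
        rw [Nat.bijective_iff_injective_and_card]
        refine ⟨fun a b e => ?_, Nat.card_eq_of_bijective ι hι⟩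
        by_contra hab
        have e' : (g * ((a : Hs) : G) * g⁻¹) • y = (g * ((b : Hs) : G) * g⁻¹) • y := congrArg Subtype.val e
        simp only [mul_smul, smul_left_cancel_iff] at e'
        exact hy2 (hfix ((b : Hs)⁻¹ * a) (mul_mem (inv_mem b.2) a.2)
          (fun h => hab (Subtype.ext (inv_mul_eq_one.1 h).symm)) _ (by
            show ((b : Hs)⁻¹ * (a : Hs)) • g⁻¹ • y = g⁻¹ • y
            rw [mul_smul]
            exact inv_smul_eq_iff.2 e'))
      let S : Subgroup G :=
        { carrier := {k | ∀ z, k • z ∈ Y ↔ z ∈ Y}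
          one_mem' := fun z => by rw [one_smul]
          mul_mem' := fun {k l} hk hl z => by rw [mul_smul, hk, hl]
          inv_mem' := fun {k} hk z => by rw [← hk (k⁻¹ • z), smul_inv_smul] }
      have hHS : Hs ≤ S := fun h hh z => ⟨fun hz => by
          have := mem_orbit_of_mem_orbit (⟨h, hh⟩⁻¹ : Hs) hz
          rwa [show ((⟨h, hh⟩⁻¹ : Hs)) • (h • z) = z from inv_smul_smul h z] at this,
        fun hz => mem_orbit_of_mem_orbit (⟨h, hh⟩ : Hs) hz⟩
      have hgS : ∀ k ∈ stabilizer G (g • α), k ∈ S := by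
        have key : ∀ k ∈ stabilizer G (g • α), ∀ z ∈ Y, k • z ∈ Y := by
          intro k hk z hz
          obtain ⟨a, ha⟩ := hι'.2 ⟨z, hz⟩
          have hz' : (g * ((a : Hs) : G) * g⁻¹) • y = z := congrArg Subtype.val ha
          have hkH : g⁻¹ * k * g ∈ Hs := by
            rw [mem_stabilizer_iff, mul_smul, mul_smul, mem_stabilizer_iff.1 hk, inv_smul_smul]
          obtain ⟨b, hb, hbe⟩ := htrans _ hy2 ((g⁻¹ * k * g) • ((a : Hs) : G) • g⁻¹ • y)
            ⟨(⟨_, hkH⟩ * (a : Hs) : Hs), mul_smul (g⁻¹ * k * g) ((a : Hs) : G) (g⁻¹ • y)⟩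
          have e1 : k • z = (g * (b : G) * g⁻¹) • y := by
            rw [mul_smul, mul_smul, show (b : G) • g⁻¹ • y = (g⁻¹ * k * g) • ((a : Hs) : G) • g⁻¹ • y from hbe,
              ← hz']
            simp only [mul_smul, smul_inv_smul]
          rw [e1]
          exact (ι' ⟨b, hb⟩).2
        exact fun k hk z => ⟨fun h => by
          have := key k⁻¹ (inv_mem hk) _ h
          rwa [inv_smul_smul] at this, key k hk z⟩
      by_cases hle : stabilizer G (g • α) ≤ Hs
      · -- then the two stabilizers coincide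
        have hgN : g ∈ Subgroup.normalizer (Hs : Set G) := by
          have hcard : Nat.card (stabilizer G (g • α)) = Nat.card Hs := by
            rw [stabilizer_smul_eq_stabilizer_map_conj, Subgroup.card_map_of_injective (MulAut.conj g).injective]
          have heq := Subgroup.eq_of_le_of_card_ge hle hcard.ge
          rw [Subgroup.mem_normalizer_iff]
          intro h
          constructor
          · intro hh
            rw [← heq, mem_stabilizer_iff, mul_smul, mul_smul, inv_smul_smul, mem_stabilizer_iff.1 hh]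
          · intro hh
            rw [← heq, mem_stabilizer_iff, mul_smul, mul_smul, inv_smul_smul, smul_left_cancel_iff] at hh
            exact hh
        have hHN : Subgroup.normalizer (Hs : Set G) = Hs := by
          refine le_antisymm ?_ Subgroup.le_normalizer
          by_contra hnot
          exact not_normal hprim α hH (Subgroup.normalizer_eq_top_iff.1
            (hcoat.2 _ (lt_of_le_of_ne Subgroup.le_normalizer fun e => hnot e.ge)))
        exact hgne (mem_stabilizer_iff.1 (hHN.le hgN))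
      · obtain ⟨k, hk, hkn⟩ := SetLike.not_le_iff_exists.1 hle
        have htop := hcoat.2 S (lt_of_le_of_ne hHS fun e => hkn (e ▸ hgS k hk))
        obtain ⟨l, hl⟩ := exists_smul_eq G y α
        obtain ⟨h, hh⟩ := (((htop ▸ Subgroup.mem_top l : l ∈ S) y).2 (mem_orbit_self y))
        rw [hl] at hh
        refine hy1 ?_
        rw [show y = α by
          rw [← inv_smul_smul (h : G) y, show (h : G) • y = α from hh]
          exact mem_stabilizer_iff.1 (inv_mem h.2)]
        exact hΦα
    intro x z w hxz h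
    obtain ⟨g, rfl⟩ := exists_smul_eq G α x
    obtain ⟨k, rfl⟩ := exists_smul_eq G α z
    rw [hR, ← mul_smul] at h
    rw [hR, hR]
    have := base (g⁻¹ * k) (fun e => hxz (by rw [mul_smul, inv_smul_eq_iff] at e; exact e.symm)) h (g⁻¹ • w)
    rwa [mul_inv_rev, inv_inv, mul_smul, smul_inv_smul] at this
  -- hence the points unrelated to the base point form a block
  let E : Ω → Ω → Prop := fun x z => x = z ∨ ¬ R x z
  have hEsymm : ∀ x z, E x z → E z x := fun x z h => h.imp Eq.symm fun h h' => h (hsym z x h')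
  have hEtrans : ∀ a b c, E a b → E b c → E a c := by
    rintro a b c (rfl | h1) (rfl | h2)
    · exact Or.inl rfl
    · exact Or.inr h2
    · exact Or.inr h1
    · by_cases hac : a = c
      · exact Or.inl hac
      · exact Or.inr fun h => (hno a c b hac h).elim h1 fun h' => h2 (hsym c b h')
  have hEinv : ∀ (k : G) x z, E (k • x) (k • z) ↔ E x z := fun k x z =>
    or_congr (smul_left_cancel_iff k) (not_congr ⟨fun h => by
      have := hinv k⁻¹ _ _ h
      rwa [inv_smul_smul, inv_smul_smul] at this, hinv k x z⟩)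
  let S : Subgroup G :=
    { carrier := {k | E α (k • α)}
      one_mem' := Or.inl (one_smul G α).symm
      mul_mem' := fun {k l} hk hl => hEtrans _ _ _ hk (by rw [mul_smul]; exact (hEinv k α (l • α)).2 hl)
      inv_mem' := fun {k} hk => hEsymm _ _ ((hEinv k _ α).1 (by rw [smul_inv_smul]; exact hk)) }
  obtain ⟨y₀, hy₀⟩ : ∃ y, ¬ Φ y := by
    by_contra! hall
    exact hTne ((Subgroup.eq_bot_iff_forall _).2 fun t ht => FaithfulSMul.eq_of_smul_eq_smul (α := Ω) fun x => by
      rw [one_smul]; exact hall x t ht)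
  obtain ⟨k₀, hk₀⟩ := exists_smul_eq G α y₀
  have hk₀S : k₀ ∈ S := by
    show E α (k₀ • α)
    rw [hk₀]
    exact Or.inr fun h => hy₀ ((hRα _).1 h)
  have hStop : S = ⊤ := hcoat.2 S (lt_of_le_of_ne (fun h hh => Or.inl (mem_stabilizer_iff.1 hh).symm) fun e =>
    hy₀ (by
      have h1 : k₀ ∈ Hs := e ▸ hk₀S
      rw [← hk₀, mem_stabilizer_iff.1 h1]
      exact hΦα))
  intro ω hω
  have hnΦ : ¬ Φ ω := fun h => by
    obtain ⟨k, rfl⟩ := exists_smul_eq G α ω
    rcases (hStop ▸ Subgroup.mem_top k : k ∈ S) with h' | h'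
    · exact hω h'.symm
    · exact h' ((hRα _).2 h)
  exact ⟨fun a ha hfixa => by_contra fun ha1 => hnΦ (hfix a ha ha1 ω hfixa), htrans ω hnΦ⟩

include hprim hH in
theorem main (hep : ∀ (α : Ω) (ω : Ω), IsPreprimitive (stabilizer G α) (orbit (stabilizer G α) ω))
    (hHp : ¬ (Nat.card (stabilizer G α)).Prime) :
    Subgroup.center (stabilizer G α) = ⊥ ∧
    IsMulCommutative (Cfsg.fittingSubgroup (stabilizer G α)) ∧
    ∃ p e : ℕ, p.Prime ∧ Nat.card (Cfsg.fittingSubgroup (stabilizer G α)) = p ^ e ∧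
      (∀ x ∈ Cfsg.fittingSubgroup (stabilizer G α), x ^ p = 1) ∧
      (Cfsg.fittingSubgroup (stabilizer G α) ≠ ⊥ →
        p ^ e ∣ Fintype.card Ω - 1 ∧
        ∃ φ : stabilizer G α →* GL (Fin e) (ZMod p), φ.ker = Cfsg.fittingSubgroup (stabilizer G α)) := by
  classical
  haveI := hprim
  set F := Cfsg.fittingSubgroup Hs with hF
  haveI hFn : F.Normal := CfsgLib.Coprime.fitting_normal
  have hZF : Subgroup.center Hs ≤ F := by
    letI : CommGroup (Subgroup.center Hs) :=
      { (inferInstance : Group (Subgroup.center Hs)) with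
        mul_comm := fun a b => Subtype.ext ((Subgroup.mem_center_iff.1 b.2 a)) }
    haveI : Group.IsNilpotent (Subgroup.center Hs) := inferInstance
    exact CfsgLib.Coprime.le_fitting (N := Subgroup.center Hs) inferInstance
  by_cases hF0 : F = ⊥
  · refine ⟨le_bot_iff.1 (hF0 ▸ hZF), ⟨⟨fun x y => Subtype.ext ?_⟩⟩, 2, 0, Nat.prime_two, ?_, fun x hx => ?_,
      fun h => absurd hF0 h⟩
    · have hx := Subgroup.mem_bot.1 (hF0.le x.2)
      have hy := Subgroup.mem_bot.1 (hF0.le y.2)
      show (x : Hs) * y = y * x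
      rw [hx, hy]
    · rw [hF0, Subgroup.card_bot, pow_zero]
    · rw [hF0, Subgroup.mem_bot] at hx
      rw [hx, one_pow]
  obtain ⟨A, hAle, hAn, hAne, hAmin⟩ : ∃ A : Subgroup Hs, A ≤ F ∧ A.Normal ∧ A ≠ ⊥ ∧
      ∀ K : Subgroup Hs, K.Normal → K ≤ A → K = ⊥ ∨ K = A := by
    obtain ⟨A, ⟨h1, h2, h3⟩, hmin⟩ := (Set.toFinite {A : Subgroup Hs | A ≤ F ∧ A.Normal ∧ A ≠ ⊥}).exists_minimal
      ⟨F, le_rfl, hFn, hF0⟩
    refine ⟨A, h1, h2, h3, fun K hK hle => ?_⟩
    by_cases h : K = ⊥
    · exact Or.inl h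
    · exact Or.inr (le_antisymm hle (hmin ⟨hle.trans h1, hK, h⟩ hle))
  haveI := hAn
  haveI : Group.IsNilpotent F := CfsgLib.Coprime.fitting_isNilpotent
  have hAcen : A ≤ Subgroup.centralizer (F : Set Hs) := by
    haveI : (Subgroup.centralizer (F : Set Hs)).Normal := Subgroup.normal_centralizer
    rcases hAmin (A ⊓ Subgroup.centralizer (F : Set Hs)) inferInstance inf_le_left with h | h
    · exact absurd h (CfsgLib.Coprime.nilpotent_inf_center_ne_bot' hAle hAne)
    · exact h.ge.trans inf_le_right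
  have hAc : ∀ a ∈ A, ∀ b ∈ A, a * b = b * a := fun a ha b hb =>
    Subgroup.mem_centralizer_iff.1 (hAcen hb) a (hAle ha)
  have hsr := semiregular hprim α hH hep A hAne hAmin hAc
  let C : Subgroup Hs := Subgroup.centralizer (A : Set Hs)
  haveI hCn : C.Normal := Subgroup.normal_centralizer
  have htransl : ∀ c ∈ C, ∀ ω, ω ≠ α → ∃ a ∈ A, ∀ z ∈ orbit Hs ω, c • z = a • z := by
    intro c hc ω hω
    obtain ⟨a, ha, hae⟩ := (hsr ω hω).2 (c • ω) (mem_orbit ω c)
    refine ⟨a, ha, fun z hz => ?_⟩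
    obtain ⟨b, hb, rfl⟩ := (hsr ω hω).2 z hz
    rw [← mul_smul, ← mul_smul, hAc a ha b hb, ← Subgroup.mem_centralizer_iff.1 hc b hb, mul_smul, mul_smul,
      hae]
  have hCc : ∀ c ∈ C, ∀ d ∈ C, c * d = d * c := by
    intro c hc d hd
    refine Subtype.ext (FaithfulSMul.eq_of_smul_eq_smul (α := Ω) fun z => ?_)
    show (c * d) • z = (d * c) • z
    by_cases hz : z = α
    · subst hz
      rw [show (c * d) • z = z from mem_stabilizer_iff.1 (c * d).2,
        show (d * c) • z = z from mem_stabilizer_iff.1 (d * c).2]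
    · obtain ⟨a, ha, hae⟩ := htransl c hc z hz
      obtain ⟨b, hb, hbe⟩ := htransl d hd z hz
      rw [mul_smul, mul_smul, hbe z (mem_orbit_self z), hae _ (mem_orbit z b), hae z (mem_orbit_self z),
        hbe _ (mem_orbit z a), ← mul_smul, ← mul_smul, hAc a ha b hb]
  haveI : Nontrivial Ω := nontrivial_points hprim α hH
  obtain ⟨ω₀, hω₀⟩ := exists_ne α
  have hCA : C = A := by
    refine le_antisymm (fun c hc => ?_) (fun a ha => Subgroup.mem_centralizer_iff.2 fun b hb => hAc b hb a ha)
    obtain ⟨a, ha, hae⟩ := htransl c hc ω₀ hω₀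
    let K : Subgroup Hs := C ⊓ (MulAction.toPermHom Hs (orbit Hs ω₀)).ker
    have hK : a⁻¹ * c ∈ K := ⟨show a⁻¹ * c ∈ C from mul_mem (inv_mem (show a ∈ C from Subgroup.mem_centralizer_iff.2 fun b hb => hAc b hb a ha)) hc,
      MonoidHom.mem_ker.2 (Equiv.ext fun z => Subtype.ext (by
        show (a⁻¹ * c) • (z : Ω) = z
        rw [mul_smul, hae z.1 z.2, inv_smul_smul]))⟩
    by_cases hKb : K = ⊥
    · rw [hKb, Subgroup.mem_bot, inv_mul_eq_one] at hK
      exact hK ▸ ha
    · exfalso
      obtain ⟨B, ⟨hBn, hBne, hBK⟩, hBmin⟩ :=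
        (Set.toFinite {B : Subgroup Hs | B.Normal ∧ B ≠ ⊥ ∧ B ≤ K}).exists_minimal ⟨K, inferInstance, hKb, le_rfl⟩
      haveI := hBn
      have hB' := semiregular hprim α hH hep B hBne (fun L hL hle => by
        by_cases h : L = ⊥
        · exact Or.inl h
        · exact Or.inr (le_antisymm hle (hBmin ⟨hL, h, hle.trans hBK⟩ hle)))
        (fun a ha b hb => hCc a (hBK ha).1 b (hBK hb).1)
      refine hBne ((Subgroup.eq_bot_iff_forall _).2 fun b hb => (hB' ω₀ hω₀).1 b hb ?_)
      exact congrArg (fun e : Equiv.Perm (orbit Hs ω₀) => ((e ⟨ω₀, mem_orbit_self ω₀⟩ : orbit Hs ω₀) : Ω))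
        (MonoidHom.mem_ker.1 (hBK hb).2)
  have hFA : F = A := le_antisymm (fun x hx => hCA ▸ (Subgroup.mem_centralizer_iff.2 fun a ha =>
    (Subgroup.mem_centralizer_iff.1 (hAcen ha) x hx).symm)) hAle
  have hFcomm : IsMulCommutative F := by
    rw [hFA]
    exact ⟨⟨fun x y => Subtype.ext (hAc x x.2 y y.2)⟩⟩
  obtain ⟨p, hp, hpA⟩ := Nat.exists_prime_and_dvd (n := Nat.card A) fun h => hAne (Subgroup.card_eq_one.1 h)
  haveI := Fact.mk hp
  have hexp : ∀ a ∈ A, a ^ p = 1 := by
    let B : Subgroup Hs :=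
      { carrier := {a | a ∈ A ∧ a ^ p = 1}
        one_mem' := ⟨one_mem A, one_pow p⟩
        mul_mem' := fun {a b} ha hb => ⟨mul_mem ha.1 hb.1, by
          rw [(show Commute a b from hAc a ha.1 b hb.1).mul_pow, ha.2, hb.2, one_mul]⟩
        inv_mem' := fun {a} ha => ⟨inv_mem ha.1, by rw [inv_pow, ha.2, inv_one]⟩ }
    have hB : B.Normal := ⟨fun a ha g => ⟨hAn.conj_mem a ha.1 g, by rw [conj_pow, ha.2, mul_one, mul_inv_cancel]⟩⟩
    obtain ⟨x, hx⟩ := exists_prime_orderOf_dvd_card' (G := A) p hpA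
    rcases hAmin B hB (fun a ha => ha.1) with h | h
    · exfalso
      have hx1 : (x : Hs) = 1 := Subgroup.mem_bot.1 (h ▸ (show (x : Hs) ∈ B from ⟨x.2, by
        rw [← hx, ← Subgroup.orderOf_coe, pow_orderOf_eq_one]⟩))
      rw [← Subgroup.orderOf_coe, hx1, orderOf_one] at hx
      exact hp.ne_one hx.symm
    · exact fun a ha => (show a ∈ B from h.symm ▸ ha).2
  obtain ⟨e, he⟩ := IsPGroup.iff_card.1 (show IsPGroup p A from fun a => ⟨1, Subtype.ext (by
    rw [SubgroupClass.coe_pow, pow_one]; exact hexp _ a.2)⟩)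
  refine ⟨?_, hFcomm, p, e, hp, by rw [hFA, he], fun x hx => hexp x (hFA ▸ hx), fun _ => ⟨?_, ?_⟩⟩
  · by_contra hZ
    have hZA : Subgroup.center Hs = A :=
      (hAmin _ inferInstance (hFA ▸ hZF)).resolve_left hZ
    have htop : A = ⊤ := by
      rw [← hCA, eq_top_iff]
      intro x _
      exact Subgroup.mem_centralizer_iff.2 fun a ha =>
        ((Subgroup.mem_center_iff.1 (hZA.symm ▸ ha : a ∈ Subgroup.center Hs)) x).symm
    refine hHp ?_
    obtain ⟨x, hx⟩ := exists_prime_orderOf_dvd_card' (G := A) p hpA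
    have hxn : (Subgroup.zpowers (x : Hs)).Normal := by
      refine ⟨fun y hy g => ?_⟩
      have hc : y * g = g * y := hAc y (htop ▸ Subgroup.mem_top y) g (htop ▸ Subgroup.mem_top g)
      rwa [← hc, mul_inv_cancel_right]
    rcases hAmin _ hxn (Subgroup.zpowers_le.2 x.2) with h | h
    · rw [Subgroup.zpowers_eq_bot] at h
      rw [← Subgroup.orderOf_coe, h, orderOf_one] at hx
      exact absurd hx.symm hp.ne_one
    · have hc := Nat.card_zpowers (x : Hs)
      rw [h, Subgroup.orderOf_coe, hx, htop, Subgroup.card_top] at hc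
      rw [hc]; exact hp
  · -- the orbits outside the fixed point have the same length
    rw [← he]
    letI : MulAction A {z : Ω // z ≠ α} :=
      { smul := fun a z => ⟨(a : Hs) • z.1, fun h => z.2 (by
          have h1 := mem_stabilizer_iff.1 (inv_mem ((a : Hs) : stabilizer G α).2)
          calc z.1 = ((a : Hs) : G)⁻¹ • ((a : Hs) : G) • z.1 := (inv_smul_smul _ _).symm
            _ = α := by rw [show ((a : Hs) : G) • z.1 = α from h]; exact h1)⟩
        one_smul := fun z => Subtype.ext (one_smul Hs z.1)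
        mul_smul := fun a b z => Subtype.ext (mul_smul (a : Hs) b z.1) }
    have hfree : ∀ z : {z : Ω // z ≠ α}, stabilizer A z = ⊥ := fun z => (Subgroup.eq_bot_iff_forall _).2 fun a ha =>
      Subtype.ext ((hsr z.1 z.2).1 a a.2 (congrArg Subtype.val (mem_stabilizer_iff.1 ha)))
    have h := Nat.card_congr (selfEquivOrbitsQuotientProd hfree)
    rw [Nat.card_prod, Nat.card_eq_fintype_card (α := {z : Ω // z ≠ α}), Fintype.card_subtype_compl,
      Fintype.card_subtype_eq] at h
    exact ⟨_, h.trans (mul_comm _ _)⟩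
  · have hadd : ∀ x y : Additive A, x + y = y + x := fun x y =>
      congrArg Additive.ofMul (Subtype.ext (hAc _ x.toMul.2 _ y.toMul.2))
    letI : AddCommGroup (Additive A) := { (inferInstance : AddGroup (Additive A)) with add_comm := hadd }
    obtain ⟨hmod⟩ : Nonempty (Module (ZMod p) (Additive A)) := ⟨AddCommGroup.zmodModule fun x =>
      congrArg Additive.ofMul (Subtype.ext (hexp _ x.toMul.2))⟩
    have hfin : Module.finrank (ZMod p) (Additive A) = e := by
      haveI : Module.Finite (ZMod p) (Additive A) := Module.Finite.of_finite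
      have h := Module.natCard_eq_pow_finrank (K := ZMod p) (V := Additive A)
      rw [Nat.card_zmod, show Nat.card (Additive A) = Nat.card A from rfl, he] at h
      exact (Nat.pow_right_injective hp.two_le h).symm
    haveI : Module.Finite (ZMod p) (Additive A) := Module.Finite.of_finite
    let b := Module.finBasisOfFinrankEq (ZMod p) (Additive A) hfin
    let ψ : Hs →* Module.End (ZMod p) (Additive A) :=
      { toFun := fun h => (MonoidHom.toAdditive (MulAut.conjNormal h : MulAut A).toMonoidHom).toZModLinearMap p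
        map_one' := LinearMap.ext fun x => by
          show Additive.ofMul ((MulAut.conjNormal (1 : Hs) : MulAut A) x.toMul) = x
          rw [map_one]; rfl
        map_mul' := fun g h => LinearMap.ext fun x => by
          show Additive.ofMul ((MulAut.conjNormal (g * h) : MulAut A) x.toMul) = _
          rw [map_mul]; rfl }
    refine ⟨(Units.map ((LinearMap.toMatrixAlgEquiv b).toMulEquiv.toMonoidHom)).comp ψ.toHomUnits, ?_⟩
    refine (?_ : _ = C).trans (hCA.trans hFA.symm)
    ext h
    rw [MonoidHom.mem_ker]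
    constructor
    · intro hh
      have h1 : ψ h = 1 := (LinearMap.toMatrixAlgEquiv b).injective (by
        rw [map_one]; exact congrArg Units.val hh)
      refine Subgroup.mem_centralizer_iff.2 fun a ha => ?_
      have h2 : h * a * h⁻¹ = a := congrArg (fun z : Additive A => (z.toMul : Hs))
        (LinearMap.congr_fun h1 (Additive.ofMul ⟨a, ha⟩))
      exact (mul_inv_eq_iff_eq_mul.1 h2).symm
    · intro hh
      refine Units.ext ?_
      show LinearMap.toMatrixAlgEquiv b (ψ h) = 1
      rw [show ψ h = 1 from LinearMap.ext fun x => congrArg Additive.ofMul (Subtype.ext (by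
        show h * (x.toMul : Hs) * h⁻¹ = (x.toMul : Hs)
        rw [← Subgroup.mem_centralizer_iff.1 hh _ x.toMul.2, mul_inv_cancel_right])), map_one]

end CfsgLib.Char.ExtremelyPrimitive
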