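import Cfsg.Agent.Lib.Coprime.Primitive
import Cfsg.Agent.Lib.Coprime.FpfAction
import Cfsg.Agent.Lib.PGroup.FpfModule

/-!
# Solvable extremely primitive groups
-/

set_option autoImplicit false
set_option linter.unusedSectionVars false
set_option linter.style.haveILetI false

namespace CfsgLib.Char.ExtremelySolvable

open Polynomial

universe u v

/-- An irreducible fixed point free operator of prime order has a module of order `p` to the order of `p`
modulo `q`, and the exponents of its twists are powers of `p`. -/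
theorem irreducible_operator {p q : ℕ} [hp : Fact p.Prime] [hq : Fact q.Prime] {V : Type u} [AddCommGroup V]
    [Module (ZMod p) V] [Finite V] [Nontrivial V] (T : Module.End (ZMod p) V) (hpq : p ≠ q) (hT : T ^ q = 1)
    (hfix : ∀ v, T v = v → v = 0)
    (hirr : ∀ W : Submodule (ZMod p) V, (∀ w ∈ W, T w ∈ W) → W = ⊥ ∨ W = ⊤) :
    Nat.card V = p ^ orderOf (p : ZMod q) ∧
      ∀ (a : V →+ V) (i : ℕ), Function.Surjective a → (∀ v, a (T v) = (T ^ i) (a v)) →
        ∃ j : ℕ, (i : ZMod q) = (p : ZMod q) ^ j := by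
  classical
  have hnd : ¬ p ∣ q := fun h => hpq ((Nat.prime_dvd_prime_iff_eq hp.1 hq.1).1 h)
  have hn : p.Coprime q := hp.1.coprime_iff_not_dvd.2 hnd
  obtain ⟨v0, hv0⟩ := exists_ne (0 : V)
  have hΦ := CfsgLib.PGroup.aeval_cyclotomic_eq_zero T hT hfix
  obtain ⟨f, hf, hfd, v, hv, hfv⟩ := CfsgLib.PGroup.exists_irreducible_factor_not_injective T
    (cyclotomic q (ZMod p)) (cyclotomic_ne_zero q _) ⟨v0, hv0, by rw [hΦ]; rfl⟩
  have hfT : aeval T f = 0 := by
    have hker := (hirr (LinearMap.ker (aeval T f)) fun w hw => by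
      rw [LinearMap.mem_ker] at hw ⊢
      rw [← Module.End.mul_apply,
        show aeval T f * T = T * aeval T f by simpa using congrArg (aeval T) (mul_comm f X),
        Module.End.mul_apply, hw, map_zero]).resolve_left
      fun h => hv (by rw [← Submodule.mem_bot (ZMod p), ← h]; exact hfv)
    exact LinearMap.ker_eq_top.1 hker
  haveI : Fact (Irreducible f) := ⟨hf⟩
  let φ : AdjoinRoot f →+* Module.End (ZMod p) V :=
    Ideal.Quotient.lift (Ideal.span {f}) (aeval T).toRingHom fun g hg => by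
      obtain ⟨c, rfl⟩ := Ideal.mem_span_singleton'.1 hg
      show aeval T (c * f) = 0
      rw [map_mul, hfT, mul_zero]
  have hφmk : ∀ g : (ZMod p)[X], φ (AdjoinRoot.mk f g) = aeval T g := fun g => rfl
  have hφroot : φ (AdjoinRoot.root f) = T := (hφmk X).trans (aeval_X T)
  haveI : Nontrivial (Module.End (ZMod p) V) := ⟨⟨1, 0, fun h => hv0 (LinearMap.congr_fun h v0)⟩⟩
  have hφinj : Function.Injective φ := RingHom.injective φ
  have hdeg : f.natDegree = orderOf (p : ZMod q) := by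
    have h3 := natDegree_of_dvd_cyclotomic_of_irreducible (K := ZMod p) (f := 1) (by simp) hn hfd hf
    simp only [pow_one] at h3
    rw [h3, ← CfsgLib.PGroup.orderOf_unit_cast hnd]
  let pb := AdjoinRoot.powerBasis hf.ne_zero
  haveI := Module.Finite.of_basis pb.basis
  haveI : Finite (AdjoinRoot f) := Module.finite_of_finite (ZMod p)
  have hcardK : Nat.card (AdjoinRoot f) = p ^ f.natDegree := by
    haveI := Module.Finite.of_basis pb.basis
    rw [Module.natCard_eq_pow_finrank (K := ZMod p), Nat.card_zmod, pb.finrank, AdjoinRoot.powerBasis_dim]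
  constructor
  · rw [← hdeg, ← hcardK]
    let ev : AdjoinRoot f →+ V :=
      { toFun := fun k => φ k v0
        map_zero' := by simp
        map_add' := fun k l => by simp }
    refine (Nat.card_eq_of_bijective ev ⟨?_, ?_⟩).symm
    · refine (injective_iff_map_eq_zero ev).2 fun k hk => ?_
      by_contra hk0
      refine hv0 ?_
      have h1 : φ (k⁻¹ * k) v0 = 0 := by
        rw [map_mul, Module.End.mul_apply, show φ k v0 = 0 from hk, map_zero]
      rwa [inv_mul_cancel₀ hk0, map_one] at h1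
    · have hrange := hirr (CfsgLib.PGroup.cyclicSub T v0) fun w hw => by
        obtain ⟨g, rfl⟩ := CfsgLib.PGroup.mem_cyclicSub.1 hw
        exact CfsgLib.PGroup.mem_cyclicSub.2 ⟨X * g, by rw [map_mul, aeval_X]; rfl⟩
      intro w
      obtain ⟨g, hg⟩ := CfsgLib.PGroup.mem_cyclicSub.1
        (show w ∈ CfsgLib.PGroup.cyclicSub T v0 by
          rw [hrange.resolve_left fun h => hv0 (by
            rw [← Submodule.mem_bot (ZMod p), ← h]; exact CfsgLib.PGroup.self_mem_cyclicSub T v0)]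
          trivial)
      exact ⟨AdjoinRoot.mk f g, hg⟩
  · intro a i ha hai
    have hsemi : ∀ (g : (ZMod p)[X]) (w : V), a (aeval T g w) = aeval (T ^ i) g (a w) := by
      intro g
      induction g using Polynomial.induction_on with
      | C c =>
        intro w
        simp only [aeval_C, Module.algebraMap_end_apply]
        exact ZMod.map_smul a c w
      | add g k hg hk => intro w; simp only [map_add, LinearMap.add_apply, hg, hk]
      | monomial n c ih =>
        intro w
        have e : (C c * X ^ (n + 1) : (ZMod p)[X]) = C c * X ^ n * X := by rw [pow_succ, mul_assoc]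
        rw [e, map_mul, map_mul (aeval (T ^ i)), Module.End.mul_apply, Module.End.mul_apply, aeval_X,
          aeval_X, ih, hai]
    set r := AdjoinRoot.root f with hr
    have hroot : aeval (r ^ i) f = 0 := by
      apply hφinj
      rw [map_zero]
      have e2 : ∀ g : (ZMod p)[X], φ (aeval (r ^ i) g) = aeval (T ^ i) g := by
        intro g
        rw [show r ^ i = AdjoinRoot.mk f (X ^ i) by rw [map_pow, AdjoinRoot.mk_X],
          show AdjoinRoot.mk f (X ^ i) = AdjoinRoot.mkₐ f (X ^ i) from rfl, aeval_algHom_apply,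
          show AdjoinRoot.mkₐ f (aeval (X ^ i) g) = AdjoinRoot.mk f (g.comp (X ^ i)) from rfl, hφmk,
          aeval_comp, map_pow, aeval_X]
      rw [e2]
      refine LinearMap.ext fun w => ?_
      obtain ⟨w', rfl⟩ := ha w
      rw [← hsemi, hfT]
      simp
    have hord : orderOf r = q := by
      refine orderOf_eq_prime (hφinj ?_) fun h1 => ?_
      · rw [map_pow, hφroot, hT, map_one]
      · have hT1 : T = 1 := by rw [← hφroot, h1, map_one]
        exact hv0 (hfix v0 (by rw [hT1]; rfl))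
    have hcast : ∀ a b : ℕ, r ^ a = r ^ b → a % q = b % q := fun a b h => by
      rw [← pow_mod_orderOf r a, ← pow_mod_orderOf r b, hord] at h
      exact pow_injOn_Iio_orderOf (by rw [hord]; exact Nat.mod_lt _ hq.1.pos)
        (by rw [hord]; exact Nat.mod_lt _ hq.1.pos) h
    haveI : CharP (AdjoinRoot f) p := charP_of_injective_algebraMap (algebraMap (ZMod p) (AdjoinRoot f)).injective p
    have hfrob : ∀ j, aeval (r ^ p ^ j) f = 0 := by
      intro j
      induction j with
      | zero => rw [pow_zero, pow_one, AdjoinRoot.aeval_eq, AdjoinRoot.mk_self]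
      | succ j ih =>
        rw [pow_succ p j, pow_mul]
        have h := ZMod.expand_card f
        have h2 := congrArg (aeval (r ^ p ^ j)) h
        rw [expand_aeval, map_pow, ih, zero_pow hp.1.ne_zero] at h2
        exact h2
    set e := orderOf (p : ZMod q) with he
    have hinj : Set.InjOn (fun j => r ^ p ^ j) (Finset.range e : Set ℕ) := by
      intro j hj k hk hjk
      simp only [Finset.coe_range, Set.mem_Iio] at hj hk
      have h1 : ((p ^ j : ℕ) : ZMod q) = ((p ^ k : ℕ) : ZMod q) := by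
        rw [ZMod.natCast_eq_natCast_iff']
        exact hcast _ _ hjk
      push_cast at h1
      exact pow_injOn_Iio_orderOf hj hk h1
    have hroots : (Finset.range e).image (fun j => r ^ p ^ j) =
        ((f.map (algebraMap (ZMod p) (AdjoinRoot f))).roots).toFinset := by
      refine Finset.eq_of_subset_of_card_le (fun z hz => ?_) ?_
      · obtain ⟨j, -, rfl⟩ := Finset.mem_image.1 hz
        rw [Multiset.mem_toFinset, mem_roots (Polynomial.map_ne_zero hf.ne_zero), IsRoot.def, eval_map]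
        exact hfrob j
      · rw [Finset.card_image_of_injOn hinj, Finset.card_range, ← hdeg]
        exact (Multiset.toFinset_card_le _).trans ((card_roots' _).trans natDegree_map_le)
    have hmem : r ^ i ∈ (Finset.range e).image (fun j => r ^ p ^ j) := by
      rw [hroots, Multiset.mem_toFinset, mem_roots (Polynomial.map_ne_zero hf.ne_zero), IsRoot.def, eval_map]
      exact hroot
    obtain ⟨j, -, hj⟩ := Finset.mem_image.1 hmem
    refine ⟨j, ?_⟩
    rw [show (p : ZMod q) ^ j = ((p ^ j : ℕ) : ZMod q) by push_cast; rfl, ZMod.natCast_eq_natCast_iff']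
    exact (hcast _ _ hj).symm

theorem frobenius_count {p d f q : ℕ} (hp : p.Prime) (hfd : f ≤ d) (hq : q.Prime)
    (h : q * (p ^ f - 1) = p ^ d - 1) (hd : 0 < d) {i : ℕ} (hi : 0 < i) (hid : i < d) :
    ¬ q ∣ p ^ i - 1 := by
  intro hqi
  have hpd : p ^ f - 1 ∣ p ^ d - 1 := ⟨q, by rw [← h, mul_comm]⟩
  have h0 : 0 < p ^ d - 1 := by
    have := Nat.one_lt_pow hd.ne' hp.one_lt
    omega
  have hf0 : 0 < f := Nat.pos_of_ne_zero fun h' => by
    rw [h'] at h; simp at h; omega
  have hne : f < d := lt_of_le_of_ne hfd fun h' => by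
    rw [h'] at h
    exact hq.ne_one (Nat.eq_of_mul_eq_mul_right h0 (h.trans (one_mul _).symm))
  have hfdvd : f ∣ d := by
    have h1 := Nat.pow_sub_one_gcd_pow_sub_one p f d
    rw [Nat.gcd_eq_left hpd] at h1
    have h2 : p ^ f = p ^ Nat.gcd f d := by
      have := Nat.one_le_pow f p hp.pos
      have := Nat.one_le_pow (Nat.gcd f d) p hp.pos
      omega
    exact Nat.gcd_eq_left_iff_dvd.1 (Nat.pow_right_injective hp.two_le h2).symm
  have hg : q ∣ p ^ Nat.gcd i d - 1 := by
    rw [← Nat.pow_sub_one_gcd_pow_sub_one]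
    exact Nat.dvd_gcd hqi ⟨p ^ f - 1, h.symm⟩
  have hgd : Nat.gcd i d ∣ d := Nat.gcd_dvd_right i d
  have hgi : Nat.gcd i d ≤ i := Nat.le_of_dvd hi (Nat.gcd_dvd_left i d)
  have hghalf : 2 * Nat.gcd i d ≤ d := by
    obtain ⟨c, hc⟩ := hgd
    rcases (show c = 0 ∨ c = 1 ∨ 2 ≤ c by omega) with rfl | rfl | hc2
    · omega
    · omega
    · have := Nat.mul_le_mul_left (Nat.gcd i d) hc2
      omega
  have hfhalf : 2 * f ≤ d := by
    obtain ⟨c, hc⟩ := hfdvd
    rcases (show c = 0 ∨ c = 1 ∨ 2 ≤ c by omega) with rfl | rfl | hc2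
    · omega
    · omega
    · have := Nat.mul_le_mul_left f hc2
      omega
  have hgpos : 0 < Nat.gcd i d := Nat.gcd_pos_of_pos_left _ hi
  have hqle : q ≤ p ^ Nat.gcd i d - 1 :=
    Nat.le_of_dvd (by have := Nat.one_lt_pow hgpos.ne' hp.one_lt; omega) hg
  have h2 : q * (p ^ f - 1) ≤ (p ^ Nat.gcd i d - 1) * (p ^ f - 1) := Nat.mul_le_mul_right _ hqle
  have h3 : p ^ (Nat.gcd i d + f) ≤ p ^ d := Nat.pow_le_pow_right hp.pos (by omega)
  rw [pow_add] at h3
  obtain ⟨A, hA⟩ : ∃ A, p ^ Nat.gcd i d = A + 2 :=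
    ⟨p ^ Nat.gcd i d - 2, by have := Nat.one_lt_pow hgpos.ne' hp.one_lt; omega⟩
  obtain ⟨B, hB⟩ : ∃ B, p ^ f = B + 2 := ⟨p ^ f - 2, by have := Nat.one_lt_pow hf0.ne' hp.one_lt; omega⟩
  rw [hA, hB, show A + 2 - 1 = A + 1 from rfl, show B + 2 - 1 = B + 1 from rfl] at h2
  rw [hA, hB] at h3
  rw [hB, show B + 2 - 1 = B + 1 from rfl] at h
  have e : (A + 2) * (B + 2) = (A + 1) * (B + 1) + A + B + 3 := by ring
  omega

variable {G : Type u} [Group G] [Finite G] {Ω : Type v} [Fintype Ω] [MulAction G Ω] [FaithfulSMul G Ω]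
  [Group.IsSolvable G]

open MulAction

theorem main (p d : ℕ) (hp : p.Prime) (hcard : Fintype.card Ω = p ^ d) (hprim : IsPreprimitive G Ω)
    (hH : ∀ α : Ω, stabilizer G α ≠ ⊥)
    (hep : ∀ (α : Ω) (ω : Ω), IsPreprimitive (stabilizer G α) (orbit (stabilizer G α) ω)) (α : Ω) :
    ∃ q : ℕ, q.Prime ∧ (∀ ω : Ω, ω ≠ α → Nat.card (orbit (stabilizer G α) ω) = q) ∧
      q ∣ p ^ d - 1 ∧ (∀ i : ℕ, 0 < i → i < d → ¬ q ∣ p ^ i - 1) ∧
      ∃ T : Subgroup G, T ≤ stabilizer G α ∧ stabilizer G α ≤ Subgroup.normalizer (T : Set G) ∧ Nat.card T = q ∧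
        (∃ h : G, stabilizer G α = T ⊔ Subgroup.zpowers h) ∧ Nat.card (stabilizer G α) ∣ q * d := by
  classical
  haveI : Nonempty Ω := ⟨α⟩
  set H := stabilizer G α with hHdef
  haveI : Nontrivial G := by
    haveI := (Subgroup.nontrivial_iff_ne_bot H).2 (hH α)
    exact H.subtype_injective.nontrivial
  obtain ⟨N, ⟨hN, hNne⟩, hNmin'⟩ := (Set.toFinite {N : Subgroup G | N.Normal ∧ N ≠ ⊥}).exists_minimal
    ⟨⊤, inferInstance, top_ne_bot⟩
  haveI := hN
  have hNmin : ∀ K : Subgroup G, K.Normal → K ≤ N → K = ⊥ ∨ K = N := fun K hK hle => by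
    by_cases h : K = ⊥
    · exact Or.inl h
    · exact Or.inr (le_antisymm hle (hNmin' ⟨hK, h⟩ hle))
  obtain ⟨hNt, hNst, p', d', hp', hd', hΩ, hNcard⟩ :=
    CfsgLib.Coprime.primitive_minimal_normal_regular hprim N hNne hNmin
  obtain ⟨p'', -, hp'', -, -, hNp, hNc⟩ := CfsgLib.Coprime.exists_minimal_abelian N hNne hNmin
  rw [Nat.card_eq_fintype_card, hcard] at hΩ
  have hpp : p = p' := ((Nat.prime_dvd_prime_iff_eq hp' hp).1 (hp'.dvd_of_dvd_pow
    (hΩ ▸ dvd_pow_self p' hd'.ne'))).symm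
  subst hpp
  have hdd : d = d' := Nat.pow_right_injective hp.two_le hΩ
  subst hdd
  obtain ⟨-, hHC, hKinv⟩ := CfsgLib.Coprime.primitive_stabilizer_complement hprim N hNne hNmin α
  have hreg : ∀ n ∈ N, ∀ n' ∈ N, n • α = n' • α → n = n' := fun n hn n' hn' e => by
    have h : (⟨n'⁻¹ * n, mul_mem (inv_mem hn') hn⟩ : N) ∈ stabilizer N α := by
      rw [mem_stabilizer_iff]
      show (n'⁻¹ * n) • α = α
      rw [mul_smul, e, inv_smul_smul]
    rw [hNst α, Subgroup.mem_bot] at h
    exact (inv_mul_eq_one.1 (congrArg Subtype.val h)).symm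
  have hfixiff : ∀ h ∈ H, ∀ n ∈ N, (h • n • α = n • α ↔ h * n * h⁻¹ = n) := fun h hh n hn => by
    have e : h • n • α = (h * n * h⁻¹) • α := by
      rw [mul_smul, mul_smul, show h⁻¹ • α = α from mem_stabilizer_iff.1 (inv_mem hh)]
    rw [e]
    exact ⟨hreg _ (hN.conj_mem n hn h) n hn, fun e' => by rw [e']⟩
  -- nontrivial normal subgroups of the stabilizer fix one point
  have hnofix : ∀ A : Subgroup H, A.Normal → A ≠ ⊥ → ∀ ω : Ω, ω ≠ α → ∃ a ∈ A, a • ω ≠ ω := by
    intro A hA hAne ω hω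
    by_contra! hall
    obtain ⟨⟨n, hn⟩, rfl⟩ := hNt.exists_smul_eq α ω
    have hn1 : n ≠ 1 := fun e => hω (show n • α = α by rw [e, one_smul])
    let C : Subgroup G := N ⊓ Subgroup.centralizer ((A.map H.subtype : Subgroup G) : Set G)
    have hnC : n ∈ C := ⟨hn, Subgroup.mem_centralizer_iff.2 fun a ha => by
      obtain ⟨a', ha', rfl⟩ := ha
      exact mul_inv_eq_iff_eq_mul.1 ((hfixiff _ a'.2 n hn).1 (hall a' ha'))⟩
    have hC := hKinv C inf_le_left fun h hh => by
      rw [Subgroup.mem_normalizer_iff]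
      have key : ∀ x : G, ∀ g ∈ H, x ∈ C → g * x * g⁻¹ ∈ C := fun x g hg hx =>
        ⟨hN.conj_mem x hx.1 g, Subgroup.mem_centralizer_iff.2 fun a ha => by
          obtain ⟨a', ha', rfl⟩ := ha
          have h1 := Subgroup.mem_centralizer_iff.1 hx.2 _
            (Subgroup.mem_map_of_mem H.subtype (hA.conj_mem a' ha' (⟨g, hg⟩⁻¹ : H)))
          simp only [Subgroup.subtype_apply, Subgroup.coe_mul, Subgroup.coe_inv, inv_inv] at h1 ⊢
          calc (a' : G) * (g * x * g⁻¹) = g * (g⁻¹ * a' * g * x) * g⁻¹ := by group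
            _ = g * (x * (g⁻¹ * a' * g)) * g⁻¹ := by rw [h1]
            _ = g * x * g⁻¹ * a' := by group⟩
      refine fun x => ⟨key x h hh, fun hx => ?_⟩
      have := key _ h⁻¹ (inv_mem hh) hx
      rwa [show h⁻¹ * (h * x * h⁻¹) * h⁻¹⁻¹ = x by group] at this
    rcases hC with hC | hC
    · exact hn1 (Subgroup.mem_bot.1 (hC ▸ hnC))
    · refine hAne ((Subgroup.eq_bot_iff_forall _).2 fun a ha => Subtype.ext (Subgroup.mem_bot.1 ?_))
      rw [← hHC]
      refine ⟨a.2, Subgroup.mem_centralizer_iff.2 fun m hm => ?_⟩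
      have hm' : m ∈ C := hC.symm ▸ hm
      exact (Subgroup.mem_centralizer_iff.1 hm'.2 _ (Subgroup.mem_map_of_mem H.subtype ha)).symm
  have htrans : ∀ A : Subgroup H, A.Normal → A ≠ ⊥ → ∀ ω : Ω, ω ≠ α → ∀ y ∈ orbit H ω, ∃ a ∈ A, a • ω = y := by
    intro A hA hAne ω hω y hy
    haveI := hep α ω
    haveI : IsPretransitive A (orbit H ω) := IsQuasiPreprimitive.isPretransitive_of_normal (G := H) fun e => by
      obtain ⟨a, ha, hne⟩ := hnofix A hA hAne ω hω
      exact hne (congrArg Subtype.val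
        ((Set.eq_univ_iff_forall.1 e ⟨ω, mem_orbit_self ω⟩) ⟨a, ha⟩))
    obtain ⟨a, ha⟩ := exists_smul_eq A (⟨ω, mem_orbit_self ω⟩ : orbit H ω) ⟨y, hy⟩
    exact ⟨a.1, a.2, congrArg Subtype.val ha⟩
  -- a minimal normal subgroup of the stabilizer
  haveI : Nontrivial H := (Subgroup.nontrivial_iff_ne_bot H).2 (hH α)
  obtain ⟨A, ⟨hA, hAne⟩, hAmin'⟩ := (Set.toFinite {A : Subgroup H | A.Normal ∧ A ≠ ⊥}).exists_minimal
    ⟨⊤, inferInstance, top_ne_bot⟩
  haveI := hA
  obtain ⟨r, k, hr, hk, hAcard, hAr, hAc⟩ := CfsgLib.Coprime.exists_minimal_abelian A hAne fun K hK hle => by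
    by_cases h : K = ⊥
    · exact Or.inl h
    · exact Or.inr (le_antisymm hle (hAmin' ⟨hK, h⟩ hle))
  have hsemi : ∀ ω : Ω, ω ≠ α → ∀ a ∈ A, a • ω = ω → a = 1 := by
    intro ω hω a ha hfix
    by_contra ha1
    -- the kernel on the orbit
    let K : Subgroup H := A ⊓ (MulAction.toPermHom H (orbit H ω)).ker
    have haK : a ∈ K := ⟨ha, MonoidHom.mem_ker.2 (Equiv.ext fun y => Subtype.ext (by
      obtain ⟨b, hb, hby⟩ := htrans A hA hAne ω hω y.1 y.2
      show a • (y : Ω) = y
      rw [← hby, ← mul_smul, (Subgroup.mem_centralizer_iff.1 (hAc hb) a ha), mul_smul, hfix]))⟩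
    obtain ⟨c, hc, hne⟩ := hnofix K inferInstance (fun e => ha1 (Subgroup.mem_bot.1 (e ▸ haK))) ω hω
    exact hne (congrArg (fun e : Equiv.Perm (orbit H ω) => ((e ⟨ω, mem_orbit_self ω⟩ : orbit H ω) : Ω))
      (MonoidHom.mem_ker.1 hc.2))
  have horb : ∀ ω : Ω, ω ≠ α → Nat.card (orbit H ω) = r ^ k := by
    intro ω hω
    rw [← hAcard]
    refine (Nat.card_eq_of_bijective (fun a : A => (⟨(a : H) • ω, mem_orbit ω (a : H)⟩ : orbit H ω))
      ⟨fun a b e => ?_, fun y => ?_⟩).symm
    · have e' : (a : H) • ω = (b : H) • ω := congrArg Subtype.val e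
      have := hsemi ω hω ((b : H)⁻¹ * a) (mul_mem (inv_mem b.2) a.2) (by rw [mul_smul, e', inv_smul_smul])
      exact Subtype.ext (inv_mul_eq_one.1 this).symm
    · obtain ⟨a, ha, e⟩ := htrans A hA hAne ω hω y.1 y.2
      exact ⟨⟨a, ha⟩, Subtype.ext e⟩
  set T : Subgroup G := A.map H.subtype with hTdef
  have hTH : T ≤ H := Subgroup.map_subtype_le A
  have hTcard : Nat.card T = r ^ k := by rw [Subgroup.card_map_of_injective H.subtype_injective, hAcard]
  have hTn : H ≤ Subgroup.normalizer (T : Set G) := by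
    intro h hh
    rw [Subgroup.mem_normalizer_iff]
    refine fun x => ⟨?_, fun hx => ?_⟩
    · rintro ⟨a, ha, rfl⟩
      exact ⟨⟨h, hh⟩ * a * ⟨h, hh⟩⁻¹, hA.conj_mem a ha _, rfl⟩
    · obtain ⟨a, ha, e⟩ := hx
      exact ⟨⟨h, hh⟩⁻¹ * a * (⟨h, hh⟩ : H)⁻¹⁻¹, hA.conj_mem a ha _, by
        show h⁻¹ * (a : G) * h⁻¹⁻¹ = x
        rw [show (a : G) = h * x * h⁻¹ from e]; group⟩
  have hTN : T ≤ Subgroup.normalizer (N : Set G) := by rw [Subgroup.normalizer_eq_top]; exact le_top
  have hfpf : CfsgLib.Coprime.IsFpfOn T N := fun t ht ht1 => (Subgroup.eq_bot_iff_forall _).2 fun n hn => by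
    obtain ⟨a, ha, rfl⟩ := ht
    by_contra hn1
    refine ht1 (congrArg Subtype.val (hsemi (n • α) (fun e => hn1 (hreg n hn.1 1 N.one_mem (by rw [one_smul]; exact e)))
      a ha ?_))
    exact (hfixiff _ a.2 n hn.1).2 (mul_inv_eq_iff_eq_mul.2 (Subgroup.mem_centralizer_singleton_iff.1 hn.2).symm)
  haveI : IsMulCommutative T := ⟨⟨by
    rintro ⟨_, a, ha, rfl⟩ ⟨_, b, hb, rfl⟩
    exact Subtype.ext (show (a : G) * (b : G) = (b : G) * (a : G) from
      congrArg Subtype.val (Subgroup.mem_centralizer_iff.1 (hAc hb) a ha))⟩⟩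
  haveI hTcyc : IsCyclic T := hfpf.isCyclic hTN hNne
  have hk1 : k = 1 := by
    obtain ⟨g, hg⟩ := IsCyclic.exists_generator (α := T)
    have ho := orderOf_eq_card_of_forall_mem_zpowers hg
    haveI := Fact.mk hr
    obtain ⟨m, hm⟩ := hAr ⟨⟨g.1, hTH g.2⟩, by
      obtain ⟨a, ha, e⟩ := g.2
      exact (show (⟨g.1, hTH g.2⟩ : H) = a from Subtype.ext e.symm) ▸ ha⟩
    obtain ⟨x, hxA, hxo⟩ : ∃ x ∈ A, orderOf x = r := by
      obtain ⟨x, hx⟩ := exists_prime_orderOf_dvd_card' (G := A) r (hAcard ▸ dvd_pow_self r hk.ne')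
      exact ⟨x.1, x.2, by rw [Subgroup.orderOf_coe]; exact hx⟩
    -- the elements of order dividing `r` form a normal subgroup
    let B : Subgroup H :=
      { carrier := {a | a ∈ A ∧ a ^ r = 1}
        one_mem' := ⟨one_mem A, one_pow r⟩
        mul_mem' := fun {a b} ha hb => ⟨mul_mem ha.1 hb.1, by
          rw [(show Commute a b from Subgroup.mem_centralizer_iff.1 (hAc hb.1) a ha.1).mul_pow, ha.2, hb.2, one_mul]⟩
        inv_mem' := fun {a} ha => ⟨inv_mem ha.1, by rw [inv_pow, ha.2, inv_one]⟩ }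
    have hB : B.Normal := ⟨fun a ha g => ⟨hA.conj_mem a ha.1 g, by rw [conj_pow, ha.2, mul_one, mul_inv_cancel]⟩⟩
    have hBne : B ≠ ⊥ := fun e => by
      have hx1 : x = 1 := Subgroup.mem_bot.1 (e ▸ (show x ∈ B from ⟨hxA, hxo ▸ pow_orderOf_eq_one x⟩))
      rw [hx1, orderOf_one] at hxo
      exact hr.ne_one hxo.symm
    have hAB : A ≤ B := hAmin' ⟨hB, hBne⟩ (fun a ha => ha.1)
    have hgr : g ^ r = 1 := by
      obtain ⟨a, ha, e⟩ := g.2
      exact Subtype.ext (by rw [SubgroupClass.coe_pow, ← e]; exact congrArg Subtype.val (hAB ha).2)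
    have hle := orderOf_dvd_of_pow_eq_one hgr
    rw [ho, hTcard] at hle
    have := (Nat.pow_dvd_pow_iff_le_right hr.one_lt).1 (hle.trans (dvd_of_eq (pow_one r).symm))
    omega
  subst hk1
  rw [pow_one] at hTcard
  simp only [pow_one] at horb
  haveI := Fact.mk hr
  haveI := Fact.mk hp
  have hmod := hfpf.card_mod hTN
  have hqd : r ∣ p ^ d - 1 := by
    rw [hTcard, hNcard] at hmod
    exact (Nat.modEq_iff_dvd' (Nat.one_le_pow _ _ hp.pos)).1 hmod.symm
  have hpr : p ≠ r := fun e => by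
    subst e
    have h1 := Nat.dvd_sub (dvd_pow_self p hd'.ne') hqd
    rw [show p ^ d - (p ^ d - 1) = 1 by have := Nat.one_le_pow d p hp.pos; omega] at h1
    exact hp.ne_one (Nat.dvd_one.1 h1)
  -- the centralizer of the normal subgroup of order `r`
  have hCT : ∀ c ∈ H, (∀ t ∈ T, c * t = t * c) → c ∈ T := by
    intro c hc hcT
    by_contra hcnot
    obtain ⟨⟨n, hn⟩, hn1⟩ := (Subgroup.ne_bot_iff_exists_ne_one (H := N)).1 hNne
    have hω : n • α ≠ α := fun e => hn1 (Subtype.ext (hreg n hn 1 N.one_mem (by rw [one_smul]; exact e)))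
    obtain ⟨a, ha, hae⟩ := htrans A hA hAne _ hω ((⟨c, hc⟩ : H) • n • α) (mem_orbit _ _)
    let C : Subgroup H := Subgroup.centralizer (A : Set H)
    haveI : C.Normal := Subgroup.normal_centralizer
    let K : Subgroup H := C ⊓ (MulAction.toPermHom H (orbit H (n • α))).ker
    have hzK : a⁻¹ * ⟨c, hc⟩ ∈ K := by
      have hzC : a⁻¹ * (⟨c, hc⟩ : H) ∈ C := mul_mem (inv_mem (hAc ha)) (Subgroup.mem_centralizer_iff.2 fun b hb =>
        Subtype.ext (hcT _ (Subgroup.mem_map_of_mem H.subtype hb)).symm)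
      refine ⟨hzC, MonoidHom.mem_ker.2 (Equiv.ext fun y => Subtype.ext ?_)⟩
      obtain ⟨b, hb, hby⟩ := htrans A hA hAne _ hω y.1 y.2
      show (a⁻¹ * ⟨c, hc⟩ : H) • (y : Ω) = y
      rw [← hby, ← mul_smul, ← Subgroup.mem_centralizer_iff.1 hzC b hb, mul_smul, mul_smul, ← hae,
        inv_smul_smul]
    refine hcnot ?_
    by_cases hK : K = ⊥
    · rw [hK, Subgroup.mem_bot, inv_mul_eq_one] at hzK
      exact ⟨a, ha, congrArg Subtype.val hzK⟩
    · obtain ⟨z, hz, hne⟩ := hnofix K inferInstance hK _ hω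
      exact absurd (congrArg (fun e : Equiv.Perm (orbit H (n • α)) =>
        ((e ⟨n • α, mem_orbit_self _⟩ : orbit H (n • α)) : Ω)) (MonoidHom.mem_ker.1 hz.2)) hne
  have hTcomm : ∀ t ∈ T, ∀ t' ∈ T, t * t' = t' * t := fun t ht t' ht' =>
    congrArg Subtype.val (mul_comm' (⟨t, ht⟩ : T) ⟨t', ht'⟩)
  -- the operator
  obtain ⟨t₀, ht₀⟩ := exists_prime_orderOf_dvd_card' (G := T) r (dvd_of_eq hTcard.symm)
  have ht₀o : orderOf (t₀ : G) = r := by rw [Subgroup.orderOf_coe]; exact ht₀
  have hgen : ∀ t ∈ T, ∃ i : ℕ, t = (t₀ : G) ^ i := fun t ht => by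
    have htop : Subgroup.zpowers t₀ = ⊤ := Subgroup.eq_top_of_card_eq _ (by
      rw [Nat.card_zpowers, ht₀, hTcard])
    have hmem : (⟨t, ht⟩ : T) ∈ Subgroup.zpowers t₀ := htop ▸ Subgroup.mem_top _
    rw [← mem_powers_iff_mem_zpowers] at hmem
    obtain ⟨i, hi⟩ := hmem
    exact ⟨i, (congrArg Subtype.val hi).symm⟩
  have hadd : ∀ x y : Additive N, x + y = y + x := fun x y =>
    congrArg Additive.ofMul (Subtype.ext (Subgroup.mem_centralizer_iff.1 (hNc y.toMul.2) _ x.toMul.2))
  letI : AddCommGroup (Additive N) := { (inferInstance : AddGroup (Additive N)) with add_comm := hadd }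
  have hexp : ∀ n ∈ N, n ^ p = 1 := by
    let B : Subgroup G :=
      { carrier := {a | a ∈ N ∧ a ^ p = 1}
        one_mem' := ⟨one_mem N, one_pow p⟩
        mul_mem' := fun {a b} ha hb => ⟨mul_mem ha.1 hb.1, by
          rw [(show Commute a b from Subgroup.mem_centralizer_iff.1 (hNc hb.1) a ha.1).mul_pow, ha.2, hb.2, one_mul]⟩
        inv_mem' := fun {a} ha => ⟨inv_mem ha.1, by rw [inv_pow, ha.2, inv_one]⟩ }
    have hB : B.Normal := ⟨fun a ha g => ⟨hN.conj_mem a ha.1 g, by rw [conj_pow, ha.2, mul_one, mul_inv_cancel]⟩⟩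
    obtain ⟨x, hx⟩ := exists_prime_orderOf_dvd_card' (G := N) p (hNcard ▸ dvd_pow_self p hd'.ne')
    rcases hNmin B hB (fun a ha => ha.1) with h | h
    · exfalso
      have hx1 : (x : G) = 1 := Subgroup.mem_bot.1 (h ▸ (show (x : G) ∈ B from ⟨x.2, by
        rw [← hx, ← Subgroup.orderOf_coe, pow_orderOf_eq_one]⟩))
      rw [← Subgroup.orderOf_coe, hx1, orderOf_one] at hx
      exact hp.ne_one hx.symm
    · exact fun n hn => (show n ∈ B from h.symm ▸ hn).2
  obtain ⟨hmod'⟩ : Nonempty (Module (ZMod p) (Additive N)) := ⟨AddCommGroup.zmodModule fun x =>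
    congrArg Additive.ofMul (Subtype.ext (hexp _ x.toMul.2))⟩
  haveI : Nontrivial (Additive N) := by
    haveI := (Subgroup.nontrivial_iff_ne_bot N).2 hNne
    exact inferInstanceAs (Nontrivial (Additive N))
  let cj : G → (Additive N →+ Additive N) := fun g =>
    { toFun := fun x => Additive.ofMul ⟨g * (x.toMul : G) * g⁻¹, hN.conj_mem _ x.toMul.2 g⟩
      map_zero' := congrArg Additive.ofMul (Subtype.ext (by simp))
      map_add' := fun x y => congrArg Additive.ofMul (Subtype.ext (by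
        show g * ((x.toMul : G) * (y.toMul : G)) * g⁻¹ = g * (x.toMul : G) * g⁻¹ * (g * (y.toMul : G) * g⁻¹)
        group)) }
  have hcj : ∀ g g' x, cj (g * g') x = cj g (cj g' x) := fun g g' x => congrArg Additive.ofMul (Subtype.ext (by
    show g * g' * (x.toMul : G) * (g * g')⁻¹ = g * (g' * (x.toMul : G) * g'⁻¹) * g⁻¹
    group))
  have hcj1 : ∀ x, cj 1 x = x := fun x => congrArg Additive.ofMul (Subtype.ext (by
    show 1 * (x.toMul : G) * 1⁻¹ = (x.toMul : G)
    group))
  let Tl : Module.End (ZMod p) (Additive N) := (cj t₀).toZModLinearMap p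
  have hTlpow : ∀ (i : ℕ) (x : Additive N), (Tl ^ i) x = cj ((t₀ : G) ^ i) x := fun i => by
    induction i with
    | zero => intro x; rw [pow_zero, pow_zero, hcj1]; rfl
    | succ i ih => intro x; rw [pow_succ, Module.End.mul_apply, ih, pow_succ, hcj]; rfl
  have hTq : Tl ^ r = 1 := LinearMap.ext fun x => by
    rw [hTlpow, ← ht₀o, pow_orderOf_eq_one, hcj1]; rfl
  have ht₀1 : (t₀ : G) ≠ 1 := fun e => by rw [e, orderOf_one] at ht₀o; exact hr.ne_one ht₀o.symm
  have hTfix : ∀ x, Tl x = x → x = 0 := fun x hx => by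
    have e : (t₀ : G) * (x.toMul : G) * (t₀ : G)⁻¹ = (x.toMul : G) := congrArg (fun z : Additive N => (z.toMul : G)) hx
    exact congrArg Additive.ofMul (Subtype.ext (hfpf.eq_one t₀.2 ht₀1 x.toMul.2 e))
  -- the fixed points of a two-point stabilizer
  obtain ⟨⟨n₀, hn₀⟩, hn₀1⟩ := (Subgroup.ne_bot_iff_exists_ne_one (H := N)).1 hNne
  have hω₀ : n₀ • α ≠ α := fun e => hn₀1 (Subtype.ext (hreg n₀ hn₀ 1 N.one_mem (by rw [one_smul]; exact e)))
  set S : Subgroup H := stabilizer H (n₀ • α) with hSdef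
  have hScard : ∀ ω : Ω, ω ≠ α → Nat.card H = r * Nat.card (stabilizer H ω) := fun ω hω => by
    rw [← horb ω hω, Nat.card_congr (orbitEquivQuotientStabilizer H ω),
      ← Subgroup.card_eq_card_quotient_mul_card_subgroup]
  have hTA : Nat.card A = r := by rw [hAcard, pow_one]
  have hdis : ∀ a ∈ A, a ∈ S → a = 1 := fun a ha haS => hsemi _ hω₀ a ha haS
  -- conjugation on the normal subgroup
  let ψ : H →* MulAut A := MulAut.conjNormal
  have hψker : ∀ h : H, ψ h = 1 → h ∈ A := fun h hh => by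
    obtain ⟨a, ha, e⟩ := hCT h.1 h.2 (fun t ht => by
      obtain ⟨b, hb, rfl⟩ := ht
      have := congrArg (fun φ : MulAut A => ((φ ⟨b, hb⟩ : A) : H)) hh
      exact mul_inv_eq_iff_eq_mul.1 (congrArg Subtype.val this))
    exact (Subtype.ext e : a = h) ▸ ha
  have hψS : Function.Injective (ψ.comp S.subtype) := (injective_iff_map_eq_one _).2 fun s hs =>
    Subtype.ext (hdis _ (hψker _ hs) s.2)
  haveI : IsCyclic A := isCyclic_of_prime_card hTA
  haveI : Finite (MulAut A) := Finite.of_injective (fun φ : MulAut A => (φ : A → A)) DFunLike.coe_injective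
  haveI : IsCyclic (MulAut A) := (IsCyclic.mulAutMulEquiv A).isCyclic.2 (by rw [hTA]; infer_instance)
  haveI hScyc : IsCyclic S := isCyclic_of_injective (f := ψ.comp S.subtype) hψS
  have hScop : Nat.Coprime r (Nat.card S) := by
    refine hr.coprime_iff_not_dvd.2 fun h => ?_
    have h1 : Nat.card S ∣ r - 1 := by
      rw [Nat.card_congr (MonoidHom.ofInjective hψS).toEquiv]
      refine (Subgroup.card_subgroup_dvd_card _).trans ?_
      rw [IsCyclic.card_mulAut, hTA, Nat.totient_prime hr]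
    have := Nat.le_of_dvd (by have := hr.two_le; omega) (h.trans h1)
    have := hr.two_le
    omega
  have hprimitive : ∀ i : ℕ, 0 < i → i < d → ¬ r ∣ p ^ i - 1 := by
    by_cases hS1 : S = ⊥
    · -- no twists: the module is irreducible for the operator itself
      have hHT : H ≤ T := fun h hh => by
        obtain ⟨a, ha, e⟩ := htrans A hA hAne _ hω₀ ((⟨h, hh⟩ : H) • n₀ • α) (mem_orbit _ _)
        have : (⟨h, hh⟩ : H)⁻¹ * a ∈ S := by rw [hSdef, mem_stabilizer_iff, mul_smul, e, inv_smul_smul]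
        rw [hS1, Subgroup.mem_bot, inv_mul_eq_one] at this
        exact ⟨a, ha, congrArg Subtype.val this.symm⟩
      have hirr : ∀ W : Submodule (ZMod p) (Additive N), (∀ w ∈ W, Tl w ∈ W) → W = ⊥ ∨ W = ⊤ := by
        intro W hW
        let K : Subgroup G :=
          { carrier := {g | ∃ hg : g ∈ N, Additive.ofMul (⟨g, hg⟩ : N) ∈ W}
            one_mem' := ⟨one_mem N, W.zero_mem⟩
            mul_mem' := fun {a b} ⟨ha, ha'⟩ ⟨hb, hb'⟩ => ⟨mul_mem ha hb, W.add_mem ha' hb'⟩
            inv_mem' := fun {a} ⟨ha, ha'⟩ => ⟨inv_mem ha, W.neg_mem ha'⟩ }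
        have hWi : ∀ (i : ℕ) w, w ∈ W → (Tl ^ i) w ∈ W := fun i => by
          induction i with
          | zero => exact fun w hw => hw
          | succ i ih => intro w hw; rw [pow_succ', Module.End.mul_apply]; exact hW _ (ih w hw)
        have hK := hKinv K (fun g hg => hg.1) fun h hh => by
          have key : ∀ g ∈ H, ∀ x ∈ K, g * x * g⁻¹ ∈ K := fun g hg x ⟨hx, hx'⟩ => by
            obtain ⟨i, rfl⟩ := hgen g (hHT hg)
            exact ⟨hN.conj_mem x hx _, by have := hWi i _ hx'; rw [hTlpow] at this; exact this⟩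
          rw [Subgroup.mem_normalizer_iff]
          refine fun x => ⟨key h hh x, fun hx => ?_⟩
          have := key _ (inv_mem hh) _ hx
          rwa [show h⁻¹ * (h * x * h⁻¹) * h⁻¹⁻¹ = x by group] at this
        rcases hK with hK | hK
        · left
          rw [Submodule.eq_bot_iff]
          intro w hw
          have : (w.toMul : G) ∈ K := ⟨w.toMul.2, hw⟩
          rw [hK, Subgroup.mem_bot] at this
          exact congrArg Additive.ofMul (Subtype.ext this : w.toMul = 1)
        · right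
          rw [Submodule.eq_top_iff']
          intro w
          obtain ⟨_, hw⟩ : (w.toMul : G) ∈ K := hK.symm ▸ w.toMul.2
          exact hw
      obtain ⟨hV, -⟩ := irreducible_operator Tl hpr hTq hTfix hirr
      rw [show Nat.card (Additive N) = Nat.card N from rfl, hNcard] at hV
      intro i hi hid hdvd
      have he := Nat.pow_right_injective hp.two_le hV
      have h1 : (p : ZMod r) ^ i = 1 := by
        have := (ZMod.natCast_eq_zero_iff _ _).2 hdvd
        rwa [Nat.cast_sub (Nat.one_le_pow _ _ hp.pos), Nat.cast_pow, Nat.cast_one, sub_eq_zero] at this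
      have := Nat.le_of_dvd hi (orderOf_dvd_of_pow_eq_one h1)
      omega
    · -- count through the fixed points
      let F : Subgroup G := N ⊓ Subgroup.centralizer ((S.map H.subtype : Subgroup G) : Set G)
      have hFfix : ∀ n ∈ N, n ∈ F ↔ S ≤ stabilizer H (n • α) := fun n hn =>
        ⟨fun hF s hs => (hfixiff _ s.2 n hn).2 (mul_inv_eq_iff_eq_mul.2
          (Subgroup.mem_centralizer_iff.1 hF.2 _ (Subgroup.mem_map_of_mem H.subtype hs))),
         fun hle => ⟨hn, Subgroup.mem_centralizer_iff.2 fun a ha => by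
          obtain ⟨s, hs, rfl⟩ := ha
          exact mul_inv_eq_iff_eq_mul.1 ((hfixiff _ s.2 n hn).1 (hle hs))⟩⟩
      have hne : ∀ n ∈ N, n ≠ 1 → n • α ≠ α := fun n hn h1 e =>
        h1 (hreg n hn 1 N.one_mem (by rw [one_smul]; exact e))
      have hsame : ∀ n ∈ F, n ≠ 1 → stabilizer H (n • α) = S := fun n hn h1 =>
        (Subgroup.eq_of_le_of_card_ge ((hFfix n hn.1).1 hn) (Nat.le_of_eq (Nat.eq_of_mul_eq_mul_left hr.pos
          ((hScard _ (hne n hn.1 h1)).symm.trans (hScard _ hω₀))))).symm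
      let Φ : A × {n : F // n ≠ 1} → {n : N // n ≠ 1} := fun x =>
        ⟨⟨((x.1 : H) : G) * ((x.2.1 : F) : G) * ((x.1 : H) : G)⁻¹, hN.conj_mem _ x.2.1.2.1 _⟩,
          fun e => x.2.2 (Subtype.ext (conj_eq_one_iff.1 (congrArg Subtype.val e)))⟩
      have hΦ : Function.Bijective Φ := by
        constructor
        · rintro ⟨a, n, hn⟩ ⟨b, m, hm⟩ e
          have e' : ((a : H) : G) * (n : G) * ((a : H) : G)⁻¹ = ((b : H) : G) * (m : G) * ((b : H) : G)⁻¹ :=
            congrArg (fun z : {n : N // n ≠ 1} => ((z.1 : N) : G)) e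
          set c : H := (b : H)⁻¹ * (a : H) with hc
          have hcA : c ∈ A := mul_mem (inv_mem b.2) a.2
          have hcn : (c : G) * (n : G) * (c : G)⁻¹ = (m : G) := by
            show ((b : H) : G)⁻¹ * ((a : H) : G) * (n : G) * (((b : H) : G)⁻¹ * ((a : H) : G))⁻¹ = (m : G)
            calc _ = ((b : H) : G)⁻¹ * (((a : H) : G) * (n : G) * ((a : H) : G)⁻¹) * ((b : H) : G) := by group
              _ = _ := by rw [e']; group
          have hn1 : (n : G) ≠ 1 := fun h => hn (Subtype.ext h)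
          have hm1 : (m : G) ≠ 1 := fun h => hm (Subtype.ext h)
          have hmα : (c : H) • ((n : G) • α) = (m : G) • α := by
            show (c : G) • (n : G) • α = (m : G) • α
            rw [← hcn, mul_smul, mul_smul, show ((c : G)⁻¹) • α = α from mem_stabilizer_iff.1 (inv_mem c.2)]
          have hnorm : ∀ s ∈ S, c * s * c⁻¹ ∈ S := fun s hs => by
            rw [← hsame _ m.2 hm1, mem_stabilizer_iff, ← hmα, mul_smul, mul_smul, inv_smul_smul,
              show s • ((n : G) • α) = (n : G) • α from mem_stabilizer_iff.1 ((hsame _ n.2 hn1).symm ▸ hs)]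
          have hc1 : c = 1 := by
            by_contra hc1
            refine hS1 ((Subgroup.eq_bot_iff_forall _).2 fun s hs => ?_)
            have h1 : c * s * c⁻¹ * s⁻¹ ∈ A := by
              rw [show c * s * c⁻¹ * s⁻¹ = c * (s * c⁻¹ * s⁻¹) by group]
              exact mul_mem hcA (hA.conj_mem _ (inv_mem hcA) s)
            have h2 := hdis _ h1 (mul_mem (hnorm s hs) (inv_mem hs))
            have hcs : c * s = s * c := by
              calc c * s = (c * s * c⁻¹ * s⁻¹) * (s * c) := by group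
                _ = s * c := by rw [h2, one_mul]
            haveI : Fact (Nat.card A).Prime := ⟨hTA ▸ hr⟩
            refine hdis s (hψker s ?_) hs
            refine MulEquiv.ext fun a => ?_
            have hmem : a ∈ Subgroup.zpowers (⟨c, hcA⟩ : A) := by
              rw [(Subgroup.zpowers (⟨c, hcA⟩ : A)).eq_bot_or_eq_top_of_prime_card.resolve_left fun h => hc1
                (congrArg Subtype.val (Subgroup.zpowers_eq_bot.1 h))]
              trivial
            obtain ⟨i, rfl⟩ := hmem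
            refine Subtype.ext ?_
            show s * ((⟨c, hcA⟩ : A) ^ i : A).1 * s⁻¹ = ((⟨c, hcA⟩ : A) ^ i : A).1
            rw [SubgroupClass.coe_zpow, mul_inv_eq_iff_eq_mul]
            exact ((show Commute c s from hcs).zpow_left i).eq.symm
          have hab : a = b := Subtype.ext (inv_mul_eq_one.1 hc1).symm
          subst hab
          simp only [mul_left_inj, mul_right_inj] at e'
          exact Prod.ext rfl (Subtype.ext (Subtype.ext e'))
        · rintro ⟨⟨m, hm⟩, hm1⟩
          have hm1' : m ≠ 1 := fun h => hm1 (Subtype.ext h)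
          have hωm := hne m hm hm1'
          obtain ⟨g, hg⟩ := CfsgLib.Coprime.hall_conj (G := H) (m := Nat.card S) (n := r)
            (by rw [hScard _ hω₀, mul_comm]) hScop.symm rfl
            (Nat.eq_of_mul_eq_mul_left hr.pos ((hScard _ hωm).symm.trans (hScard _ hω₀)))
          -- the conjugating element can be taken in the normal subgroup
          obtain ⟨a, ha, hag⟩ := htrans A hA hAne _ hω₀ (g • n₀ • α) (mem_orbit _ _)
          have hfix : ∀ s ∈ S, (a * s * a⁻¹) • (m • α) = m • α := by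
            intro s hs
            have hga : g⁻¹ * a ∈ S := by rw [hSdef, mem_stabilizer_iff, mul_smul, hag, inv_smul_smul]
            have hmem : g * ((g⁻¹ * a) * s * (g⁻¹ * a)⁻¹) * g⁻¹ ∈ stabilizer H (m • α) := by
              rw [← hg]
              exact Subgroup.mem_map_of_mem _ (mul_mem (mul_mem hga hs) (inv_mem hga))
            rw [show g * ((g⁻¹ * a) * s * (g⁻¹ * a)⁻¹) * g⁻¹ = a * s * a⁻¹ by group] at hmem
            exact hmem
          set n' : G := (a : G)⁻¹ * m * (a : G) with hn'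
          have hn'N : n' ∈ N := by
            have := hN.conj_mem m hm (a : G)⁻¹
            rwa [inv_inv] at this
          have hn'F : n' ∈ F := (hFfix n' hn'N).2 fun s hs => by
            rw [mem_stabilizer_iff]
            show (s : G) • n' • α = n' • α
            have h := hfix s hs
            change ((a : G) * (s : G) * (a : G)⁻¹) • m • α = m • α at h
            rw [hn', mul_smul, mul_smul, show (a : G) • α = α from mem_stabilizer_iff.1 a.2]
            calc (s : G) • (a : G)⁻¹ • m • α = (a : G)⁻¹ • ((a : G) * (s : G) * (a : G)⁻¹) • m • α := by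
                  rw [mul_smul, mul_smul, inv_smul_smul]
              _ = _ := by rw [h]
          refine ⟨(⟨a, ha⟩, ⟨⟨n', hn'F⟩, fun h => hm1' ?_⟩), Subtype.ext (Subtype.ext ?_)⟩
          · have h' : (a : G)⁻¹ * m * (a : G) = 1 := congrArg Subtype.val h
            calc m = (a : G) * ((a : G)⁻¹ * m * (a : G)) * (a : G)⁻¹ := by group
              _ = 1 := by rw [h']; group
          · show (a : G) * ((a : G)⁻¹ * m * (a : G)) * (a : G)⁻¹ = m
            group
      have hsub : ∀ (K : Subgroup G), Nat.card {n : K // n ≠ 1} = Nat.card K - 1 := fun K => by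
        haveI := Fintype.ofFinite K
        simp [Nat.card_eq_fintype_card, Fintype.card_subtype_compl]
      have hcount := Nat.card_eq_of_bijective Φ hΦ
      rw [Nat.card_prod, hTA, hsub, hsub, hNcard] at hcount
      obtain ⟨f, hf, hFf⟩ := (Nat.dvd_prime_pow hp).1 (hNcard ▸ Subgroup.card_dvd_of_le (inf_le_left : F ≤ N))
      rw [hFf] at hcount
      exact fun i hi hid => frobenius_count hp hf hr hcount hd' hi hid
  -- hence the operator acts irreducibly
  have hirr : ∀ W : Submodule (ZMod p) (Additive N), (∀ w ∈ W, Tl w ∈ W) → W = ⊥ ∨ W = ⊤ := by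
    intro W hW
    let K : Subgroup G :=
      { carrier := {g | ∃ hg : g ∈ N, Additive.ofMul (⟨g, hg⟩ : N) ∈ W}
        one_mem' := ⟨one_mem N, W.zero_mem⟩
        mul_mem' := fun {a b} ⟨ha, ha'⟩ ⟨hb, hb'⟩ => ⟨mul_mem ha hb, W.add_mem ha' hb'⟩
        inv_mem' := fun {a} ⟨ha, ha'⟩ => ⟨inv_mem ha, W.neg_mem ha'⟩ }
    have hKN : K ≤ N := fun g hg => hg.1
    have hTK : T ≤ Subgroup.normalizer (K : Set G) := by
      have key : ∀ g ∈ T, ∀ x ∈ K, g * x * g⁻¹ ∈ K := fun g hg x ⟨hx, hx'⟩ => by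
        obtain ⟨i, rfl⟩ := hgen g hg
        refine ⟨hN.conj_mem x hx _, ?_⟩
        have hWi : (Tl ^ i) (Additive.ofMul ⟨x, hx⟩) ∈ W := by
          clear hg
          induction i with
          | zero => exact hx'
          | succ i ih => rw [pow_succ', Module.End.mul_apply]; exact hW _ ih
        rw [hTlpow] at hWi
        exact hWi
      intro h hh
      rw [Subgroup.mem_normalizer_iff]
      refine fun x => ⟨key h hh x, fun hx => ?_⟩
      have := key _ (inv_mem hh) _ hx
      rwa [show h⁻¹ * (h * x * h⁻¹) * h⁻¹⁻¹ = x by group] at this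
    obtain ⟨m, hm, hKm⟩ := (Nat.dvd_prime_pow hp).1 (hNcard ▸ Subgroup.card_dvd_of_le hKN)
    have h1 := (hfpf.mono le_rfl hKN).card_mod hTK
    rw [hTcard, hKm] at h1
    have h2 : r ∣ p ^ m - 1 := (Nat.modEq_iff_dvd' (Nat.one_le_pow _ _ hp.pos)).1 h1.symm
    rcases Nat.eq_zero_or_pos m with rfl | hmpos
    · left
      rw [Submodule.eq_bot_iff]
      intro w hw
      have : (w.toMul : G) ∈ K := ⟨w.toMul.2, hw⟩
      rw [Subgroup.card_eq_one.1 (show Nat.card K = 1 by rw [hKm, pow_zero]), Subgroup.mem_bot] at this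
      exact congrArg Additive.ofMul (Subtype.ext this : w.toMul = 1)
    · right
      have hmd : m = d := hm.antisymm (le_of_not_gt fun hlt => hprimitive m hmpos hlt h2)
      rw [Submodule.eq_top_iff']
      intro w
      obtain ⟨_, hw⟩ : (w.toMul : G) ∈ K := by
        rw [Subgroup.eq_of_le_of_card_ge hKN (by rw [hKm, hNcard, hmd])]
        exact w.toMul.2
      exact hw
  obtain ⟨hV, htw⟩ := irreducible_operator Tl hpr hTq hTfix hirr
  rw [show Nat.card (Additive N) = Nat.card N from rfl, hNcard] at hV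
  have hpd : (p : ZMod r) ^ d = 1 := by
    rw [Nat.pow_right_injective hp.two_le hV]; exact pow_orderOf_eq_one _
  -- the order of the two-point stabilizer divides `d`
  obtain ⟨⟨h₀, hh₀⟩, hgenS⟩ := IsCyclic.exists_generator (α := S)
  have hsd : Nat.card S ∣ d := by
    rw [← orderOf_eq_card_of_forall_mem_zpowers hgenS]
    refine orderOf_dvd_of_pow_eq_one (hψS ?_)
    rw [map_one, map_pow]
    show ψ h₀ ^ d = 1
    obtain ⟨i, hi⟩ := hgen _ (show (h₀ : G) * (t₀ : G) * (h₀ : G)⁻¹ ∈ T from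
      (Subgroup.mem_normalizer_iff.1 (hTn h₀.2) _).1 t₀.2)
    obtain ⟨j, hj⟩ := htw (cj h₀) i
      (fun x => ⟨cj (h₀ : G)⁻¹ x, by rw [← hcj, mul_inv_cancel, hcj1]⟩) (fun x => by
        show cj h₀ (cj t₀ x) = (Tl ^ i) (cj h₀ x)
        rw [hTlpow, ← hcj, ← hcj, ← hi, show (h₀ : G) * (t₀ : G) * (h₀ : G)⁻¹ * (h₀ : G) = (h₀ : G) * (t₀ : G) by group])
    have hm : ∀ m : ℕ, ((h₀ : G) ^ m) * (t₀ : G) * ((h₀ : G) ^ m)⁻¹ = (t₀ : G) ^ (i ^ m) := fun m => by
      induction m with
      | zero => simp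
      | succ m ih =>
        rw [pow_succ' (h₀ : G) m, mul_inv_rev, show (h₀ : G) * (h₀ : G) ^ m * (t₀ : G) * (((h₀ : G) ^ m)⁻¹ * (h₀ : G)⁻¹) =
          (h₀ : G) * ((h₀ : G) ^ m * (t₀ : G) * ((h₀ : G) ^ m)⁻¹) * (h₀ : G)⁻¹ by group, ih, ← conj_pow, hi,
          ← pow_mul, pow_succ' i m]
    have hid : (t₀ : G) ^ (i ^ d) = t₀ := by
      have h1 : ((i ^ d : ℕ) : ZMod r) = ((1 : ℕ) : ZMod r) := by
        push_cast
        rw [hj, ← pow_mul, mul_comm, pow_mul, hpd, one_pow]
      rw [ZMod.natCast_eq_natCast_iff', ← ht₀o] at h1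
      calc (t₀ : G) ^ (i ^ d) = (t₀ : G) ^ 1 := pow_eq_pow_iff_modEq.2 h1
        _ = t₀ := pow_one _
    rw [← map_pow]
    refine MulEquiv.ext fun a => Subtype.ext (Subtype.ext ?_)
    show ((h₀ ^ d : H) : G) * ((a : H) : G) * ((h₀ ^ d : H) : G)⁻¹ = ((a : H) : G)
    obtain ⟨m, hme⟩ := hgen _ (Subgroup.mem_map_of_mem H.subtype a.2)
    rw [SubgroupClass.coe_pow, show ((a : H) : G) = (t₀ : G) ^ m from hme, ← conj_pow, hm, hid]
  refine ⟨r, hr, horb, hqd, hprimitive, T, hTH, hTn, hTcard, ⟨(h₀ : G), ?_⟩, ?_⟩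
  · refine le_antisymm (fun h hh => ?_) (sup_le hTH (Subgroup.zpowers_le.2 h₀.2))
    obtain ⟨a, ha, e⟩ := htrans A hA hAne _ hω₀ ((⟨h, hh⟩ : H) • n₀ • α) (mem_orbit _ _)
    have hs : a⁻¹ * ⟨h, hh⟩ ∈ S := by rw [hSdef, mem_stabilizer_iff, mul_smul, ← e, inv_smul_smul]
    obtain ⟨z, hz⟩ := hgenS ⟨_, hs⟩
    have hz' : (h₀ : G) ^ z = (a : G)⁻¹ * h := by
      have := congrArg (fun x : S => ((x : H) : G)) hz
      simpa using this
    rw [show h = (a : G) * (h₀ : G) ^ z by rw [hz']; group]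
    exact Subgroup.mul_mem_sup ⟨a, ha, rfl⟩ ⟨z, rfl⟩
  · rw [hScard _ hω₀]
    exact mul_dvd_mul_left r hsd

end CfsgLib.Char.ExtremelySolvable
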