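import Cfsg.Agent.Lib.Char.ExtremelyKernel
import Cfsg.Agent.Lib.Char.DiagonalAction
import Cfsg.Agent.Lib.Coprime.Fitting

/-!
# Extremely primitive groups are affine or almost simple

A direct proof following Mann, Praeger and Seress: the point stabilizer is faithful on each
non-trivial suborbit, so its normal subgroups are transitive on them, which excludes product
action and diagonal action.
-/

set_option autoImplicit false
set_option linter.unusedSectionVars false
set_option linter.style.haveILetI false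

namespace CfsgLib.Char.ExtremelyType

open MulAction Subgroup
open scoped commutatorElement

universe u v

variable {G : Type u} [Group G] [Finite G]

theorem exists_ne_of_ne_bot {X : Subgroup G} (h : X ≠ ⊥) : ∃ x ∈ X, x ≠ 1 := by
  simpa [eq_bot_iff_forall] using h

/-- Conjugate subgroup. -/
def cj (g : G) (X : Subgroup G) : Subgroup G := X.map (MulAut.conj g).toMonoidHom

theorem mem_cj {g : G} {X : Subgroup G} {y : G} : y ∈ cj g X ↔ g⁻¹ * y * g ∈ X := by
  rw [cj, mem_map_equiv]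
  simp [MulAut.conj_symm_apply]

theorem conj_mem_cj {g : G} {X : Subgroup G} {x : G} (hx : x ∈ X) : g * x * g⁻¹ ∈ cj g X := by
  rw [mem_cj]
  simpa [mul_assoc] using hx

theorem cj_mul (g k : G) (X : Subgroup G) : cj (g * k) X = cj g (cj k X) := by
  ext y
  simp [mem_cj, mul_assoc]

theorem cj_one (X : Subgroup G) : cj 1 X = X := by
  ext y
  simp [mem_cj]

theorem cj_mono (g : G) {X Y : Subgroup G} (h : X ≤ Y) : cj g X ≤ cj g Y := Subgroup.map_mono h

theorem cj_le_normal {N : Subgroup G} [hN : N.Normal] (g : G) {X : Subgroup G} (h : X ≤ N) :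
    cj g X ≤ N := fun y hy => by
  have := hN.conj_mem _ (h (mem_cj.1 hy)) g
  simpa [mul_assoc] using this

theorem cj_eq_of_mem_normalizer {g : G} {X : Subgroup G} (h : g ∈ normalizer (X : Set G)) :
    cj g X = X := by
  ext y
  rw [mem_cj, mem_normalizer_iff.1 h (g⁻¹ * y * g)]
  simp [mul_assoc]

theorem cj_ne_bot {g : G} {X : Subgroup G} (h : X ≠ ⊥) : cj g X ≠ ⊥ := fun e =>
  h ((map_eq_bot_iff_of_injective _ (MulAut.conj g).injective).1 e)

theorem le_normalizer_of_conj {X U : Subgroup G} (h : ∀ x ∈ X, ∀ y ∈ U, x * y * x⁻¹ ∈ U) :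
    X ≤ normalizer (U : Set G) := fun x hx => by
  rw [mem_normalizer_iff]
  refine fun y => ⟨h x hx y, fun hy => ?_⟩
  have := h x⁻¹ (inv_mem hx) _ hy
  simpa [mul_assoc] using this

theorem conj_mem_of_le_normalizer {X U : Subgroup G} (h : X ≤ normalizer (U : Set G)) {x y : G}
    (hx : x ∈ X) (hy : y ∈ U) : x * y * x⁻¹ ∈ U :=
  (mem_normalizer_iff.1 (h hx) y).1 hy

theorem commutator_le_inf {X Y : Subgroup G} (hXY : X ≤ normalizer (Y : Set G))
    (hYX : Y ≤ normalizer (X : Set G)) {x y : G} (hx : x ∈ X) (hy : y ∈ Y) :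
    x * y * x⁻¹ * y⁻¹ ∈ X ⊓ Y := by
  refine Subgroup.mem_inf.2 ⟨?_, mul_mem (conj_mem_of_le_normalizer hXY hx hy) (inv_mem hy)⟩
  have := X.mul_mem hx (conj_mem_of_le_normalizer hYX hy (inv_mem hx))
  simpa [mul_assoc] using this

/-- A minimal normal subgroup of the normal subgroup `N`. -/
structure MinIn (N X : Subgroup G) : Prop where
  le : X ≤ N
  ne : X ≠ ⊥
  norm : N ≤ normalizer (X : Set G)
  minimal : ∀ U : Subgroup G, U ≤ X → N ≤ normalizer (U : Set G) → U = ⊥ ∨ U = X

theorem exists_minIn {N : Subgroup G} (hN : N ≠ ⊥) : ∃ X, MinIn N X := by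
  haveI : Nontrivial N := (nontrivial_iff_ne_bot N).2 hN
  obtain ⟨M, hMn, hMb, -, hMmin⟩ := CfsgLib.Coprime.exists_minimal_normal_le (G := N)
    (N := ⊤) (by simp)
  refine ⟨M.map N.subtype, map_subtype_le M,
    fun e => hMb ((map_eq_bot_iff_of_injective _ N.subtype_injective).1 e), ?_, fun U hU hn => ?_⟩
  · refine le_normalizer_of_conj ?_
    rintro n hn _ ⟨m, hm, rfl⟩
    exact ⟨⟨n, hn⟩ * m * ⟨n, hn⟩⁻¹, hMn.conj_mem m hm _, rfl⟩
  · have hUN : U ≤ N := hU.trans (map_subtype_le M)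
    haveI : (U.subgroupOf N).Normal := ⟨fun a ha b =>
      mem_subgroupOf.2 (conj_mem_of_le_normalizer hn b.2 (mem_subgroupOf.1 ha))⟩
    rcases hMmin (U.subgroupOf N) inferInstance (fun a ha => by
        obtain ⟨m, hm, e⟩ := hU (mem_subgroupOf.1 ha)
        rwa [← Subtype.ext (show (m : G) = a from e)]) with e | e
    · left
      rw [← map_subgroupOf_eq_of_le hUN, e, Subgroup.map_bot]
    · right
      rw [← map_subgroupOf_eq_of_le hUN, e]

theorem MinIn.conj {N X : Subgroup G} [hN : N.Normal] (h : MinIn N X) (g : G) :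
    MinIn N (cj g X) where
  le := cj_le_normal g h.le
  ne := cj_ne_bot h.ne
  norm := le_normalizer_of_conj fun n hn y hy => by
    rw [mem_cj] at hy ⊢
    have := conj_mem_of_le_normalizer h.norm (hN.conj_mem n hn g⁻¹) hy
    simpa [mul_assoc] using this
  minimal := fun U hU hn => by
    have e : cj g (cj g⁻¹ U) = U := by rw [← cj_mul, mul_inv_cancel, cj_one]
    rcases h.minimal (cj g⁻¹ U)
      (by
        have := cj_mono g⁻¹ hU
        rwa [← cj_mul, inv_mul_cancel, cj_one] at this)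
      (le_normalizer_of_conj fun n hn' y hy => by
        rw [mem_cj] at hy ⊢
        have := conj_mem_of_le_normalizer hn (hN.conj_mem n hn' g) hy
        simpa [mul_assoc] using this) with e' | e'
    · left; rw [← e, e']; exact Subgroup.map_bot _
    · right; rw [← e, e']

theorem MinIn.inf_eq_bot {N X Y : Subgroup G} (hX : MinIn N X) (hY : MinIn N Y) (hne : X ≠ Y) :
    X ⊓ Y = ⊥ := by
  have hn : N ≤ normalizer ((X ⊓ Y : Subgroup G) : Set G) := le_normalizer_of_conj fun n hn y hy =>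
    ⟨conj_mem_of_le_normalizer hX.norm hn hy.1, conj_mem_of_le_normalizer hY.norm hn hy.2⟩
  rcases hX.minimal _ inf_le_left hn with e | e
  · exact e
  · rcases hY.minimal _ inf_le_right hn with e' | e'
    · exact e'
    · exact absurd (e.symm.trans e') hne

theorem MinIn.commute {N X Y : Subgroup G} (hX : MinIn N X) (hY : MinIn N Y) (hne : X ≠ Y)
    {x y : G} (hx : x ∈ X) (hy : y ∈ Y) : Commute x y := by
  have := commutator_le_inf (hX.le.trans hY.norm) (hY.le.trans hX.norm) hx hy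
  rw [hX.inf_eq_bot hY hne, mem_bot, mul_inv_eq_one, mul_inv_eq_iff_eq_mul] at this
  exact this

theorem MinIn.eq_of_mem {N X Y : Subgroup G} (hX : MinIn N X) (hY : MinIn N Y) {x : G}
    (hx : x ∈ X) (hy : x ∈ Y) (hx1 : x ≠ 1) : X = Y := by
  by_contra hne
  exact hx1 (mem_bot.1 (hX.inf_eq_bot hY hne ▸ (show x ∈ X ⊓ Y from ⟨hx, hy⟩)))

variable {Ω : Type v} [Fintype Ω] [MulAction G Ω] [FaithfulSMul G Ω]

/-- An extremely primitive action. -/
structure EP (G : Type u) [Group G] (Ω : Type v) [MulAction G Ω] : Prop where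
  prim : IsPreprimitive G Ω
  ext : ∀ α ω : Ω, IsPreprimitive (stabilizer G α) (orbit (stabilizer G α) ω)

theorem EP.transitive (hE : EP G Ω) {N : Subgroup G} [N.Normal] (hN : N ≠ ⊥) :
    IsPretransitive N Ω := by
  haveI := hE.prim
  refine IsQuasiPreprimitive.isPretransitive_of_normal fun e => hN ?_
  rw [eq_bot_iff_forall]
  intro n hn
  refine eq_of_smul_eq_smul fun x : Ω => ?_
  rw [one_smul]
  exact Set.eq_univ_iff_forall.1 e x ⟨n, hn⟩

theorem EP.normal_le_stab (hE : EP G Ω) {N : Subgroup G} [N.Normal] {α : Ω} (hle : N ≤ stabilizer G α) :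
    N = ⊥ := by
  by_contra hN
  haveI := hE.transitive hN
  refine hN ((eq_bot_iff_forall _).2 fun n hn => ?_)
  refine eq_of_smul_eq_smul fun x : Ω => ?_
  obtain ⟨m, hm⟩ := exists_smul_eq N α x
  have : ((m : G)⁻¹ * n * m) • α = α := by
    refine mem_stabilizer_iff.1 (hle ?_)
    have := (inferInstance : N.Normal).conj_mem n hn (m : G)⁻¹
    rwa [inv_inv] at this
  have hm' : (m : G) • α = x := hm
  rw [mul_smul, mul_smul, hm', inv_smul_eq_iff, hm'] at this
  rw [this, one_smul]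

theorem EP.factor (hE : EP G Ω) {N : Subgroup G} [N.Normal] (hN : N ≠ ⊥) (α : Ω) (g : G) :
    ∃ n ∈ N, ∃ h ∈ stabilizer G α, g = n * h := by
  haveI := hE.transitive hN
  obtain ⟨n, hn⟩ := exists_smul_eq N α (g • α)
  refine ⟨n, n.2, (n : G)⁻¹ * g, ?_, by rw [mul_inv_cancel_left]⟩
  rw [mem_stabilizer_iff, mul_smul, ← show (n : G) • α = g • α from hn, inv_smul_smul]

theorem EP.coatom (hE : EP G Ω) {α ω : Ω} (hω : ω ≠ α) : IsCoatom (stabilizer G α) := by
  haveI := hE.prim
  haveI : Nontrivial Ω := ⟨⟨ω, α, hω⟩⟩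
  exact IsPreprimitive.isCoatom_stabilizer_of_isPreprimitive G α

theorem EP.fix_only (hE : EP G Ω) {α : Ω} (hH : stabilizer G α ≠ ⊥) {ω : Ω}
    (hfix : ∀ h ∈ stabilizer G α, h • ω = ω) : ω = α := by
  by_contra hne
  haveI := hE.prim
  obtain ⟨g, hg⟩ := exists_smul_eq G α ω
  have hle : stabilizer G α ≤ normalizer (stabilizer G α : Set G) := Subgroup.le_normalizer
  have heq : stabilizer G α = stabilizer G ω :=
    (((hE.coatom hne).le_iff.1 fun h hh => mem_stabilizer_iff.2 (hfix h hh)).resolve_left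
      (hE.coatom (Ne.symm hne)).1).symm
  have hgN : g ∈ normalizer (stabilizer G α : Set G) := by
    rw [mem_normalizer_iff]
    intro h
    conv_rhs => rw [heq]
    simp only [mem_stabilizer_iff, ← hg, mul_smul, inv_smul_smul, smul_left_cancel_iff]
  rcases (hE.coatom hne).le_iff.1 hle with e | e
  · haveI : (stabilizer G α).Normal := normalizer_eq_top_iff.1 e
    exact hH (hE.normal_le_stab le_rfl)
  · rw [e, mem_stabilizer_iff, hg] at hgN
    exact hne hgN

theorem EP.coatom_orbit (hE : EP G Ω) {α : Ω} (hH : stabilizer G α ≠ ⊥) {ω : Ω} (hω : ω ≠ α) :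
    IsCoatom (stabilizer (stabilizer G α) ω) := by
  haveI := hE.ext α ω
  haveI : Nontrivial (orbit (stabilizer G α) ω) := by
    by_contra h
    rw [not_nontrivial_iff_subsingleton] at h
    exact hω (hE.fix_only hH fun g hg => congrArg Subtype.val
      (@Subsingleton.elim _ h ⟨(⟨g, hg⟩ : stabilizer G α) • ω, mem_orbit _ _⟩
        ⟨ω, mem_orbit_self ω⟩))
  have e : stabilizer (stabilizer G α) (⟨ω, mem_orbit_self ω⟩ : orbit (stabilizer G α) ω) =
      stabilizer (stabilizer G α) ω := by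
    ext h
    simp only [mem_stabilizer_iff, Subtype.ext_iff, orbit.coe_smul]
  rw [← e]
  exact IsPreprimitive.isCoatom_stabilizer_of_isPreprimitive _ _

theorem EP.normal_orbit (hE : EP G Ω) {α : Ω} {B : Subgroup G} (hBH : B ≤ stabilizer G α)
    (hBn : stabilizer G α ≤ normalizer (B : Set G)) (hB : B ≠ ⊥) {ω : Ω} (hω : ω ≠ α)
    (h : stabilizer G α) : ∃ b ∈ B, b • ω = (h : G) • ω := by
  haveI := hE.ext α ω
  haveI : (B.subgroupOf (stabilizer G α)).Normal := ⟨fun a ha b =>
    mem_subgroupOf.2 (conj_mem_of_le_normalizer hBn b.2 (mem_subgroupOf.1 ha))⟩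
  haveI : IsPretransitive (B.subgroupOf (stabilizer G α)) (orbit (stabilizer G α) ω) := by
    refine IsQuasiPreprimitive.isPretransitive_of_normal fun e => hB ?_
    rw [eq_bot_iff_forall]
    intro b hb
    refine ExtremelyKernel.eq_one_of_fix_orbit hE.prim hE.ext α ω hω b (hBH hb) fun x hx => ?_
    exact congrArg Subtype.val
      (Set.eq_univ_iff_forall.1 e ⟨x, hx⟩ ⟨⟨b, hBH hb⟩, mem_subgroupOf.2 hb⟩)
  obtain ⟨b, hb⟩ := exists_smul_eq (B.subgroupOf (stabilizer G α))
    (⟨ω, mem_orbit_self ω⟩ : orbit (stabilizer G α) ω) ⟨h • ω, mem_orbit ω h⟩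
  exact ⟨(b.1 : G), mem_subgroupOf.1 b.2, congrArg Subtype.val hb⟩

/-- A minimal normal subgroup. -/
structure MinNormal (N : Subgroup G) : Prop where
  normal : N.Normal
  ne : N ≠ ⊥
  minimal : ∀ K : Subgroup G, K.Normal → K ≤ N → K = ⊥ ∨ K = N

theorem MinNormal.not_isSolvable {N : Subgroup G} (hN : MinNormal N)
    (hna : ¬ ∀ x ∈ N, ∀ y ∈ N, x * y = y * x) : ¬ Group.IsSolvable N := fun hs => by
  haveI := hN.normal
  haveI := hs
  exact hna (CfsgLib.Coprime.minimal_normal_solvable hN.ne hN.minimal).1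

theorem EP.not_two (hE : EP G Ω) (α : Ω) {M N : Subgroup G} (hM : MinNormal M) (hN : MinNormal N)
    (hne : M ≠ N) (hna : ¬ ∀ x ∈ N, ∀ y ∈ N, x * y = y * x) : False := by
  haveI := hN.normal
  haveI := hM.normal
  have hdisj : M ⊓ N = ⊥ := by
    rcases hM.minimal (M ⊓ N) inferInstance inf_le_left with e | e
    · exact e
    · rcases hN.minimal (M ⊓ N) inferInstance inf_le_right with e' | e'
      · exact e'
      · exact absurd (e.symm.trans e') hne
  have hcomm : ∀ m ∈ M, ∀ n ∈ N, m * n = n * m := by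
    intro m hm n hn
    have := commutator_le_inf (X := M) (Y := N)
      (le_normalizer_of_conj fun x _ y hy => hN.normal.conj_mem y hy x)
      (le_normalizer_of_conj fun x _ y hy => hM.normal.conj_mem y hy x) hm hn
    rw [hdisj, mem_bot, mul_inv_eq_one, mul_inv_eq_iff_eq_mul] at this
    exact this
  haveI := hE.transitive hM.ne
  have hreg : ∀ n ∈ N, n • α = α → n = 1 := by
    intro n hn e
    refine eq_of_smul_eq_smul fun x : Ω => ?_
    obtain ⟨m, rfl⟩ := exists_smul_eq M α x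
    show n • (m : G) • α = (1 : G) • (m : G) • α
    rw [one_smul, ← mul_smul, ← hcomm m m.2 n hn, mul_smul, e]
  have hreg' : ∀ a ∈ N, ∀ b ∈ N, a • α = b • α → a = b := fun a ha b hb e =>
    (inv_mul_eq_one.1 (hreg _ (mul_mem (inv_mem hb) ha)
      (by rw [mul_smul, e, inv_smul_smul]))).symm
  let H := stabilizer G α
  letI : MulAction H N := MulAction.compHom N ((MulAut.conjNormal : G →* MulAut N).comp H.subtype)
  have hact : ∀ (h : H) (n : N), ((h • n : N) : G) = (h : G) * n * (h : G)⁻¹ := fun h n => rfl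
  have hinner : ∀ n : N, ∃ h : H, (n ≠ 1 → (h : G) ≠ 1) ∧
      ∀ x : N, ((h • x : N) : G) = n * x * (n : G)⁻¹ := by
    intro n
    obtain ⟨m, hm⟩ := exists_smul_eq M ((n : G) • α) α
    refine ⟨⟨(m : G) * n, by rw [mem_stabilizer_iff, mul_smul]; exact hm⟩, fun h1 e => h1 ?_,
      fun x => ?_⟩
    · have hnM : (n : G) ∈ M ⊓ N :=
        Subgroup.mem_inf.2 ⟨(inv_eq_of_mul_eq_one_right (show (m : G) * n = 1 from e)) ▸ inv_mem m.2, n.2⟩
      rw [hdisj, mem_bot] at hnM
      exact Subtype.ext hnM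
    · rw [hact]
      show (m : G) * n * x * ((m : G) * n)⁻¹ = _
      have h2 := hcomm m m.2 ((n : G) * x * (n : G)⁻¹) (hN.normal.conj_mem _ x.2 _)
      calc (m : G) * n * x * ((m : G) * n)⁻¹ = (m : G) * ((n : G) * x * (n : G)⁻¹) * (m : G)⁻¹ := by
            group
        _ = _ := by rw [h2, mul_inv_cancel_right]
  obtain ⟨n₀, hn₀, hn₀1⟩ := exists_ne_of_ne_bot hN.ne
  have hH : H ≠ ⊥ := by
    intro e
    obtain ⟨h, hh, -⟩ := hinner ⟨n₀, hn₀⟩
    exact hh (fun e' => hn₀1 (congrArg Subtype.val e')) (mem_bot.1 (e ▸ h.2))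
  have hstab : ∀ x : N, stabilizer H x = stabilizer H ((x : G) • α) := by
    intro x
    ext h
    simp only [mem_stabilizer_iff, Subtype.ext_iff, hact]
    show _ ↔ (h : G) • (x : G) • α = (x : G) • α
    have e : (h : G) • (x : G) • α = ((h : G) * x * (h : G)⁻¹) • α := by
      rw [mul_smul, mul_smul, inv_smul_eq_iff.2 (mem_stabilizer_iff.1 h.2).symm]
    rw [e]
    exact ⟨fun h1 => by rw [h1], fun h1 => hreg' _ (hN.normal.conj_mem _ x.2 _) _ x.2 h1⟩
  refine DiagonalAction.false_of_hyp (T := N) (H := H) ?_ ?_ ?_ (hN.not_isSolvable hna) ?_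
  · intro h x n
    exact map_pow (MulAut.conjNormal (h : G) : MulAut N).toMonoidHom x n
  · intro t
    obtain ⟨h, -, hh⟩ := hinner t
    exact ⟨h, fun x => Subtype.ext (hh x)⟩
  · intro x hx
    rw [hstab]
    exact hE.coatom_orbit hH fun e => hx (Subtype.ext (hreg x x.2 e))
  · intro U hU hUi
    have : (U.map N.subtype).Normal := ⟨by
      rintro _ ⟨u, hu, rfl⟩ g
      obtain ⟨n, hn, h, hh, rfl⟩ := hE.factor hN.ne α g
      refine ⟨⟨n, hn⟩ * ((⟨h, hh⟩ : H) • u) * ⟨n, hn⟩⁻¹, hU.conj_mem _ (hUi _ u hu) _, ?_⟩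
      show n * (h * (u : G) * h⁻¹) * n⁻¹ = _
      simp [mul_assoc]⟩
    rcases hN.minimal _ this (map_subtype_le U) with e | e
    · left; exact (map_eq_bot_iff_of_injective _ N.subtype_injective).1 e
    · right; exact map_injective N.subtype_injective (by rw [e, ← MonoidHom.range_eq_map, range_subtype])

section Unique

variable {N : Subgroup G} [N.Normal]

/-- Standing hypotheses for a unique non-simple minimal normal subgroup. -/
structure Conf (G : Type u) [Group G] [Finite G] (N T : Subgroup G) : Prop where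
  min : MinNormal N
  cent : centralizer (N : Set G) = ⊥
  comp : MinIn N T
  notsimple : ¬ IsSimpleGroup N

variable {T : Subgroup G}

theorem Conf.sup_eq (hc : Conf G N T) : ⨆ g : G, cj g T = N := by
  have hn : (⨆ g : G, cj g T).Normal := ⟨fun y hy k => by
    have h1 : cj k (⨆ g : G, cj g T) ≤ ⨆ g : G, cj g T := by
      rw [cj, Subgroup.map_iSup]
      refine iSup_le fun g => ?_
      rw [← cj, ← cj_mul]
      exact le_iSup (fun g => cj g T) (k * g)
    exact h1 (conj_mem_cj hy)⟩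
  rcases hc.min.minimal _ hn (iSup_le fun g => cj_le_normal g hc.comp.le) with e | e
  · exact absurd (le_bot_iff.1 ((cj_one T).symm.trans_le (le_iSup (fun g => cj g T) 1) |>.trans e.le))
      hc.comp.ne
  · exact e

theorem Conf.eq_one_of_commute (hc : Conf G N T) {z : G}
    (h : ∀ g : G, ∀ y ∈ cj g T, Commute y z) : z = 1 := by
  rw [← mem_bot, ← hc.cent, mem_centralizer_iff]
  intro n hn
  rw [SetLike.mem_coe, ← hc.sup_eq] at hn
  refine Subgroup.iSup_induction (fun g => cj g T) (C := fun n => n * z = z * n) hn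
    (fun g y hy => h g y hy) (by rw [one_mul, mul_one]) fun a b ha hb => ?_
  exact (Commute.mul_left ha hb)

theorem Conf.center_eq (hc : Conf G N T) (g : G) {x : G} (hx : x ∈ cj g T)
    (h : ∀ y ∈ cj g T, Commute y x) : x = 1 := by
  refine hc.eq_one_of_commute fun k y hy => ?_
  by_cases e : cj k T = cj g T
  · exact h y (e ▸ hy)
  · exact (hc.comp.conj k).commute (hc.comp.conj g) e hy hx

theorem Conf.inner (hc : Conf G N T) (g : G) {n : G} (hn : n ∈ N) :
    ∃ x ∈ cj g T, ∀ y ∈ cj g T, Commute (x⁻¹ * n) y := by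
  rw [← hc.sup_eq] at hn
  refine Subgroup.iSup_induction (fun k => cj k T)
    (C := fun n => ∃ x ∈ cj g T, ∀ y ∈ cj g T, Commute (x⁻¹ * n) y) hn (fun k z hz => ?_) ?_ ?_
  · by_cases e : cj k T = cj g T
    · exact ⟨z, e ▸ hz, fun y _ => by rw [inv_mul_cancel]; exact Commute.one_left y⟩
    · refine ⟨1, one_mem _, fun y hy => ?_⟩
      rw [inv_one, one_mul]
      exact (hc.comp.conj k).commute (hc.comp.conj g) e hz hy
  · exact ⟨1, one_mem _, fun y _ => by rw [inv_one, one_mul]; exact Commute.one_left y⟩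
  · rintro a b ⟨x, hx, hxa⟩ ⟨x', hx', hxb⟩
    refine ⟨x * x', mul_mem hx hx', fun y hy => ?_⟩
    have e : (x * x')⁻¹ * (a * b) = (x⁻¹ * a) * (x'⁻¹ * b) := by
      have := (hxa x'⁻¹ (inv_mem hx')).eq
      calc (x * x')⁻¹ * (a * b) = x'⁻¹ * (x⁻¹ * a) * b := by group
        _ = (x⁻¹ * a) * x'⁻¹ * b := by rw [this]
        _ = _ := by group
    rw [e]
    exact (hxa y hy).mul_left (hxb y hy)

theorem Conf.simple (hc : Conf G N T) (g : G) {U : Subgroup G} (hU : U ≤ cj g T)
    (hn : cj g T ≤ normalizer (U : Set G)) : U = ⊥ ∨ U = cj g T := by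
  refine (hc.comp.conj g).minimal U hU (le_normalizer_of_conj fun n hn' y hy => ?_)
  obtain ⟨x, hx, hxn⟩ := hc.inner g hn'
  have e : n * y * n⁻¹ = x * y * x⁻¹ := by
    have := (hxn y (hU hy)).eq
    calc n * y * n⁻¹ = x * ((x⁻¹ * n) * y) * n⁻¹ := by group
      _ = x * (y * (x⁻¹ * n)) * n⁻¹ := by rw [this]
      _ = _ := by group
  rw [e]
  exact conj_mem_of_le_normalizer hn hx hy

theorem Conf.exists_other (hc : Conf G N T) (hE : EP G Ω) (α : Ω) :
    ∃ h ∈ stabilizer G α, cj h T ≠ T := by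
  by_contra hall
  push Not at hall
  have hcj : ∀ g : G, cj g T = T := fun g => by
    obtain ⟨n, hn, h, hh, rfl⟩ := hE.factor hc.min.ne α g
    rw [cj_mul, hall h hh]
    exact cj_eq_of_mem_normalizer (hc.comp.norm hn)
  have hTN : T = N := by rw [← hc.sup_eq]; simp only [hcj, ciSup_const]
  apply hc.notsimple
  haveI : Nontrivial N := (nontrivial_iff_ne_bot N).2 hc.min.ne
  refine ⟨fun U hU => ?_⟩
  have hle : U.map N.subtype ≤ cj 1 T := by rw [cj_one, hTN]; exact map_subtype_le U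
  rcases hc.simple 1 hle (le_normalizer_of_conj fun x hx y hy => by
      obtain ⟨u, hu, rfl⟩ := hy
      rw [cj_one, hTN] at hx
      exact ⟨⟨x, hx⟩ * u * ⟨x, hx⟩⁻¹, hU.conj_mem u hu _, rfl⟩) with e | e
  · left; exact (map_eq_bot_iff_of_injective _ N.subtype_injective).1 e
  · right
    rw [cj_one, hTN] at e
    exact map_injective N.subtype_injective (by rw [e, ← MonoidHom.range_eq_map, range_subtype])

/-- The stabilizer in `H` of a component. -/
def compStab (H : Subgroup G) (T : Subgroup G) : Subgroup H :=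
  (normalizer (T : Set G)).comap H.subtype

theorem mem_compStab {H T : Subgroup G} {h : H} : h ∈ compStab H T ↔ cj (h : G) T = T := by
  refine ⟨fun hh => cj_eq_of_mem_normalizer hh, fun e => ?_⟩
  show (h : G) ∈ normalizer (T : Set G)
  rw [mem_normalizer_iff]
  intro x
  conv_rhs => rw [← e, mem_cj]
  simp [mul_assoc]

theorem Conf.regular_false (hc : Conf G N T) (hE : EP G Ω) (α : Ω)
    (hreg : N ⊓ stabilizer G α = ⊥) : False := by
  classical
  have hreg' : ∀ a ∈ N, ∀ b ∈ N, a • α = b • α → a = b := fun a ha b hb e => by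
    have : b⁻¹ * a ∈ N ⊓ stabilizer G α :=
      Subgroup.mem_inf.2 ⟨mul_mem (inv_mem hb) ha, by rw [mem_stabilizer_iff, mul_smul, e, inv_smul_smul]⟩
    rw [hreg, mem_bot, inv_mul_eq_one] at this
    exact this.symm
  obtain ⟨h₀, hh₀, hne₀⟩ := hc.exists_other hE α
  have hH : stabilizer G α ≠ ⊥ := fun e => hne₀ (by
    have h1 : h₀ = 1 := by rw [← mem_bot, ← e]; exact hh₀
    rw [h1, cj_one])
  have hcs : ∀ t ∈ T, ∀ h : stabilizer G α, cj (h : G) T = T → (h : G) * t * (h : G)⁻¹ = t := by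
    intro t ht
    by_cases ht1 : t = 1
    · intro h _; rw [ht1, mul_one, mul_inv_cancel]
    have htα : t • α ≠ α := fun e => ht1 (hreg' t (hc.comp.le ht) 1 (one_mem _) (by rw [e, one_smul]))
    have hval : ∀ h : stabilizer G α, h • (t • α) = ((h : G) * t * (h : G)⁻¹) • α := fun h => by
      show (h : G) • t • α = _
      rw [mul_smul, mul_smul, inv_smul_eq_iff.2 (mem_stabilizer_iff.1 h.2).symm]
    have hstab : ∀ h, h ∈ stabilizer (stabilizer G α) (t • α) →
        (h : G) * t * (h : G)⁻¹ = t := fun h hh =>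
      hreg' _ (hc.min.normal.conj_mem t (hc.comp.le ht) _) _ (hc.comp.le ht)
        ((hval h).symm.trans hh)
    have hle : stabilizer (stabilizer G α) (t • α) ≤ compStab (stabilizer G α) T := fun h hh => by
      rw [mem_compStab]
      exact (hc.comp.conj (h : G)).eq_of_mem hc.comp (hstab h hh ▸ conj_mem_cj ht) ht ht1
    rcases (hE.coatom_orbit hH htα).le_iff.1 hle with e | e
    · exact absurd (mem_compStab.1 (e ▸ mem_top (⟨h₀, hh₀⟩ : stabilizer G α))) hne₀
    · intro h hh
      exact hstab h (e ▸ mem_compStab.2 hh)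
  obtain ⟨a, ha, ha1⟩ := exists_ne_of_ne_bot hc.comp.ne
  let A : Set G := Set.range fun h : stabilizer G α => (h : G) * a * (h : G)⁻¹
  have hsame : ∀ h k : stabilizer G α, cj (h : G) T = cj (k : G) T →
      (h : G) * a * (h : G)⁻¹ = (k : G) * a * (k : G)⁻¹ := by
    intro h k e
    have h1 := hcs a ha (k⁻¹ * h) (by
      rw [Subgroup.coe_mul, cj_mul, e, ← cj_mul, Subgroup.coe_inv, inv_mul_cancel, cj_one])
    simp only [Subgroup.coe_mul, Subgroup.coe_inv] at h1
    calc (h : G) * a * (h : G)⁻¹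
        = (k : G) * ((k : G)⁻¹ * h * a * ((k : G)⁻¹ * h)⁻¹) * (k : G)⁻¹ := by group
      _ = _ := by rw [h1]
  have hAcomm : ∀ x ∈ A, ∀ y ∈ A, x * y = y * x := by
    rintro _ ⟨h, rfl⟩ _ ⟨k, rfl⟩
    by_cases e : cj (h : G) T = cj (k : G) T
    · simp only [hsame h k e]
    · exact (hc.comp.conj _).commute (hc.comp.conj _) e (conj_mem_cj ha) (conj_mem_cj ha)
  letI : CommGroup (Subgroup.closure A) :=
    { (inferInstance : Group (Subgroup.closure A)) with
      mul_comm := fun x y => by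
        have hle : Subgroup.closure A ≤ centralizer (Subgroup.closure A : Set G) := by
          rw [Subgroup.closure_le]
          intro z hz
          rw [SetLike.mem_coe, centralizer_closure, mem_centralizer_iff]
          exact fun w hw => hAcomm w hw z hz
        exact Subtype.ext ((mem_centralizer_iff.1 (hle y.2) x x.2)) }
  haveI : Fintype A := Fintype.ofFinite A
  let d : Subgroup.closure A := ∏ x : A, ⟨x.1, subset_closure x.2⟩
  have hdN : (d : G) ∈ N := by
    refine (Subgroup.closure_le N).2 ?_ d.2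
    rintro _ ⟨h, rfl⟩
    exact cj_le_normal _ hc.comp.le (conj_mem_cj ha)
  have hdfix : ∀ h : stabilizer G α, (h : G) * d * (h : G)⁻¹ = d := by
    intro h
    have hA : ∀ x ∈ A, (h : G) * x * (h : G)⁻¹ ∈ A := by
      rintro _ ⟨k, rfl⟩
      exact ⟨h * k, by simp [mul_assoc]⟩
    let e : A → A := fun x => ⟨_, hA x.1 x.2⟩
    have he : Function.Bijective e := Finite.injective_iff_bijective.1 fun x y e' =>
      Subtype.ext ((MulAut.conj (h : G)).injective (congrArg Subtype.val e'))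
    have hcl : ∀ x ∈ Subgroup.closure A, (h : G) * x * (h : G)⁻¹ ∈ Subgroup.closure A := by
      intro x hx
      have h1 : (Subgroup.closure A).map (MulAut.conj (h : G)).toMonoidHom ≤ Subgroup.closure A := by
        rw [MonoidHom.map_closure, Subgroup.closure_le]
        rintro _ ⟨z, hz, rfl⟩
        exact subset_closure (hA z hz)
      exact h1 (mem_map_of_mem _ hx)
    let c : Subgroup.closure A →* Subgroup.closure A :=
      { toFun := fun x => ⟨_, hcl x.1 x.2⟩
        map_one' := Subtype.ext (by simp)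
        map_mul' := fun x y => Subtype.ext (by simp [mul_assoc]) }
    have h1 : c d = d := by
      rw [map_prod]
      exact Fintype.prod_bijective e he _ _ fun x => rfl
    exact congrArg Subtype.val h1
  have hd1 : (d : G) = 1 := by
    have hfix : ((d : G) • α) = α := hE.fix_only hH fun g hg => by
      have := hdfix ⟨g, hg⟩
      rw [← mul_smul, show g * (d : G) = (d : G) * g from mul_inv_eq_iff_eq_mul.1 this, mul_smul,
        mem_stabilizer_iff.1 hg]
    exact hreg' _ hdN 1 (one_mem _) (by rw [hfix, one_smul])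
  refine ha1 (hc.center_eq 1 (by rwa [cj_one]) fun y hy => ?_)
  rw [cj_one] at hy
  have haA : a ∈ A := ⟨1, by simp⟩
  have hsplit : d = (⟨a, subset_closure haA⟩ : Subgroup.closure A) *
      ∏ x ∈ Finset.univ.erase (⟨a, haA⟩ : A), ⟨x.1, subset_closure x.2⟩ :=
    (Finset.mul_prod_erase _ (fun x : A => (⟨x.1, subset_closure x.2⟩ : Subgroup.closure A))
      (Finset.mem_univ (⟨a, haA⟩ : A))).symm
  have hrest : (∏ x ∈ Finset.univ.erase (⟨a, haA⟩ : A),
      (⟨x.1, subset_closure x.2⟩ : Subgroup.closure A)) ∈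
        (centralizer ({y} : Set G)).comap (Subgroup.closure A).subtype := by
    refine Subgroup.prod_mem _ fun x hx => ?_
    obtain ⟨h, hxh⟩ := x.2
    show x.1 ∈ centralizer ({y} : Set G)
    rw [mem_centralizer_singleton_iff, ← hxh]
    refine ((hc.comp.conj (h : G)).commute hc.comp (fun e => ?_) (conj_mem_cj ha) hy).eq
    refine (Finset.mem_erase.1 hx).1 (Subtype.ext ?_)
    rw [← hxh]
    have := hsame h 1 (by rw [e, OneMemClass.coe_one, cj_one])
    simpa using this
  rw [Subgroup.mem_comap, coe_subtype, mem_centralizer_singleton_iff] at hrest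
  have hae : a = (((∏ x ∈ Finset.univ.erase (⟨a, haA⟩ : A),
      (⟨x.1, subset_closure x.2⟩ : Subgroup.closure A)) : Subgroup.closure A) : G)⁻¹ := by
    refine eq_inv_of_mul_eq_one_left ?_
    have := congrArg Subtype.val hsplit
    rw [Subgroup.coe_mul, hd1] at this
    exact this.symm
  rw [hae]
  exact (Commute.inv_left hrest).symm

/-- The projection of `N ⊓ stabilizer` onto a component is onto. -/
def Full (N T : Subgroup G) (α : Ω) : Prop :=
  ∀ n ∈ N, ∃ b ∈ N ⊓ stabilizer G α, ∀ y ∈ T, Commute (b⁻¹ * n) y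

theorem inf_normalized (α : Ω) :
    stabilizer G α ≤ normalizer ((N ⊓ stabilizer G α : Subgroup G) : Set G) :=
  le_normalizer_of_conj fun h hh _ hy =>
    Subgroup.mem_inf.2 ⟨(inferInstance : N.Normal).conj_mem _ hy.1 h,
      mul_mem (mul_mem hh (Subgroup.mem_inf.1 hy).2) (inv_mem hh)⟩

theorem Conf.full (hc : Conf G N T) (hE : EP G Ω) (α : Ω) (hB : N ⊓ stabilizer G α ≠ ⊥) :
    Full N T α := by
  intro n hn
  obtain ⟨t, ht, htn⟩ := hc.inner 1 hn
  rw [cj_one] at ht
  simp only [cj_one] at htn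
  suffices h : ∃ b ∈ N ⊓ stabilizer G α, ∀ y ∈ T, Commute (b⁻¹ * t) y by
    obtain ⟨b, hb, hbt⟩ := h
    refine ⟨b, hb, fun y hy => ?_⟩
    rw [show b⁻¹ * n = (b⁻¹ * t) * (t⁻¹ * n) by group]
    exact (hbt y hy).mul_left (htn y hy)
  by_contra hno
  have htα : t • α ≠ α := fun e => hno ⟨t, ⟨hc.comp.le ht, e⟩,
    fun y _ => by rw [inv_mul_cancel]; exact Commute.one_left y⟩
  obtain ⟨h, hh, hne⟩ := hc.exists_other hE α
  obtain ⟨b, hb, hbt⟩ := hE.normal_orbit (B := N ⊓ stabilizer G α) inf_le_right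
    (inf_normalized α) hB htα ⟨h, hh⟩
  set t' := h * t * h⁻¹ with ht'def
  have ht' : t' ∈ cj h T := conj_mem_cj ht
  have ht'α : t' • α = b • t • α := by
    rw [hbt, ht'def, mul_smul, mul_smul, inv_smul_eq_iff.2 (mem_stabilizer_iff.1 hh).symm]
  set u := t⁻¹ * b⁻¹ * t' with hudef
  have hu : u ∈ N ⊓ stabilizer G α :=
    Subgroup.mem_inf.2 ⟨mul_mem (mul_mem (inv_mem (hc.comp.le ht)) (inv_mem (Subgroup.mem_inf.1 hb).1)) ((hc.comp.conj h).le ht'), by
      rw [mem_stabilizer_iff, hudef, mul_smul, mul_smul, ht'α, inv_smul_smul,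
        inv_smul_smul]⟩
  refine hno ⟨h⁻¹ * (b * u) * h, ?_, fun y hy => ?_⟩
  · have := conj_mem_of_le_normalizer (inf_normalized α) (inv_mem hh)
      (mul_mem hb hu)
    rwa [inv_inv] at this
  · have hz : (b⁻¹ * t')⁻¹ * t * (b⁻¹ * t') ∈ T := by
      have := conj_mem_of_le_normalizer hc.comp.norm
        (inv_mem (mul_mem (inv_mem hb.1) ((hc.comp.conj h).le ht'))) ht
      rwa [inv_inv] at this
    have h1 : Commute ((b⁻¹ * t')⁻¹ * t * (b⁻¹ * t')) (h * y * h⁻¹) :=
      hc.comp.commute (hc.comp.conj h) (Ne.symm hne) hz (conj_mem_cj hy)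
    have e : (h⁻¹ * (b * u) * h)⁻¹ * t = h⁻¹ * ((b⁻¹ * t')⁻¹ * t * (b⁻¹ * t')) * h := by
      rw [hudef, ht'def]
      group
    rw [e]
    have h2 := congrArg (fun z => h⁻¹ * z * h) h1.eq
    show _ = _
    calc h⁻¹ * ((b⁻¹ * t')⁻¹ * t * (b⁻¹ * t')) * h * y
        = h⁻¹ * ((b⁻¹ * t')⁻¹ * t * (b⁻¹ * t') * (h * y * h⁻¹)) * h := by group
      _ = h⁻¹ * (h * y * h⁻¹ * ((b⁻¹ * t')⁻¹ * t * (b⁻¹ * t'))) * h := h2
      _ = _ := by group

theorem Conf.diag_false (hc : Conf G N T) (hE : EP G Ω) (α : Ω)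
    (hB : N ⊓ stabilizer G α ≠ ⊥) : False := by
  classical
  set B := N ⊓ stabilizer G α with hBdef
  have hH : stabilizer G α ≠ ⊥ := fun e => hB (le_bot_iff.1 (e ▸ inf_le_right))
  have hBn : ∀ h ∈ stabilizer G α, ∀ b ∈ B, h * b * h⁻¹ ∈ B := fun h hh b hb =>
    conj_mem_of_le_normalizer (inf_normalized α) hh hb
  -- fullness for every component
  have hfull : ∀ g : G, ∀ n ∈ N, ∃ b ∈ B, ∀ y ∈ cj g T, Commute (b⁻¹ * n) y := by
    intro g
    obtain ⟨m, hm, h, hh, rfl⟩ := hE.factor hc.min.ne α g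
    rw [cj_mul, cj_eq_of_mem_normalizer ((hc.comp.conj h).norm hm)]
    intro n hn
    obtain ⟨b, hb, hbn⟩ := hc.full hE α hB (h⁻¹ * n * h) (by
      simpa using hc.min.normal.conj_mem n hn h⁻¹)
    refine ⟨h * b * h⁻¹, hBn h hh b hb, fun y hy => ?_⟩
    have h2 := congrArg (fun z => h * z * h⁻¹) (hbn _ (mem_cj.1 hy)).eq
    show _ = _
    calc (h * b * h⁻¹)⁻¹ * n * y = h * ((b⁻¹ * (h⁻¹ * n * h)) * (h⁻¹ * y * h)) * h⁻¹ := by group
      _ = h * ((h⁻¹ * y * h) * (b⁻¹ * (h⁻¹ * n * h))) * h⁻¹ := h2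
      _ = _ := by group
  -- conjugation inside a component is induced by `B`
  have hconj : ∀ g : G, ∀ x ∈ cj g T, ∃ b ∈ B, ∀ y ∈ cj g T, b * y * b⁻¹ = x * y * x⁻¹ := by
    intro g x hx
    obtain ⟨b, hb, hbx⟩ := hfull g x ((hc.comp.conj g).le hx)
    refine ⟨b, hb, fun y hy => ?_⟩
    have := (hbx y hy).eq
    calc b * y * b⁻¹ = b * (y * (b⁻¹ * x)) * x⁻¹ := by group
      _ = b * ((b⁻¹ * x) * y) * x⁻¹ := by rw [this]
      _ = _ := by group
  have hBX : ∀ g : G, B ⊓ cj g T = ⊥ := by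
    intro g
    rcases hc.simple g (U := B ⊓ cj g T) inf_le_right (le_normalizer_of_conj fun x hx y hy => by
        obtain ⟨b, hb, hbx⟩ := hconj g x hx
        rw [← hbx y hy.2]
        exact Subgroup.mem_inf.2 ⟨mul_mem (mul_mem hb (Subgroup.mem_inf.1 hy).1) (inv_mem hb), conj_mem_of_le_normalizer
          (hc.comp.conj g).norm hb.1 hy.2⟩) with e | e
    · exact e
    · exfalso
      have hle : cj g T ≤ B := inf_eq_right.1 e
      have hNB : N ≤ B := by
        rw [← hc.sup_eq]
        refine iSup_le fun k => ?_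
        obtain ⟨n, hn, h, hh, hk⟩ := hE.factor hc.min.ne α (k * g⁻¹)
        have e' : cj k T = cj n (cj h (cj g T)) := by
          rw [← cj_mul, ← cj_mul, ← hk, inv_mul_cancel_right]
        rw [e', ← cj_mul h, cj_eq_of_mem_normalizer ((hc.comp.conj (h * g)).norm hn), cj_mul]
        intro y hy
        have := hBn h hh _ (hle (mem_cj.1 hy))
        simpa [mul_assoc] using this
      exact hc.min.ne (hE.normal_le_stab (hNB.trans inf_le_right))
  -- pairs
  let Pair : Subgroup G → Subgroup G → Prop := fun X Y => X ≠ Y ∧ ∃ x ∈ X, ∃ y ∈ Y, x ≠ 1 ∧ x * y ∈ B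
  let IsC : Subgroup G → Prop := fun X => ∃ g : G, X = cj g T
  have hpsymm : ∀ X Y, IsC X → IsC Y → Pair X Y → Pair Y X := by
    rintro _ _ ⟨g, rfl⟩ ⟨k, rfl⟩ ⟨hne, x, hx, y, hy, hx1, hxy⟩
    refine ⟨Ne.symm hne, y, hy, x, hx, fun e => hx1 ?_, ?_⟩
    · rw [e, mul_one] at hxy
      exact mem_bot.1 (hBX g ▸ (show x ∈ B ⊓ cj g T from ⟨hxy, hx⟩))
    · rwa [← ((hc.comp.conj g).commute (hc.comp.conj k) hne hx hy).eq]
  have hpfull : ∀ X Y, IsC X → IsC Y → Pair X Y → ∀ x ∈ X, ∃ y ∈ Y, x * y ∈ B := by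
    rintro _ _ ⟨g, rfl⟩ ⟨k, rfl⟩ ⟨hne, x₀, hx₀, y₀, hy₀, hx₀1, hxy₀⟩
    have hcm : ∀ x ∈ cj g T, ∀ y ∈ cj k T, Commute x y := fun x hx y hy =>
      (hc.comp.conj g).commute (hc.comp.conj k) hne hx hy
    let P : Subgroup G :=
      { carrier := {x | x ∈ cj g T ∧ ∃ y ∈ cj k T, x * y ∈ B}
        one_mem' := ⟨one_mem _, 1, one_mem _, by rw [mul_one]; exact one_mem _⟩
        mul_mem' := fun {a b} ha hb => by
          obtain ⟨ha, y, hy, hay⟩ := ha
          obtain ⟨hb, z, hz, hbz⟩ := hb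
          refine ⟨mul_mem ha hb, y * z, mul_mem hy hz, ?_⟩
          rw [show a * b * (y * z) = a * (b * y) * z by group, (hcm b hb y hy).eq,
            show a * (y * b) * z = (a * y) * (b * z) by group]
          exact mul_mem hay hbz
        inv_mem' := fun {a} ha => by
          obtain ⟨ha, y, hy, hay⟩ := ha
          refine ⟨inv_mem ha, y⁻¹, inv_mem hy, ?_⟩
          rw [← mul_inv_rev, ← (hcm a ha y hy).eq]
          exact inv_mem hay }
    rcases hc.simple g (U := P) (fun x hx => hx.1) (le_normalizer_of_conj fun x hx a ha => by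
        obtain ⟨ha, y, hy, hay⟩ := ha
        obtain ⟨b, hb, hbx⟩ := hconj g x hx
        refine ⟨mul_mem (mul_mem hx ha) (inv_mem hx), b * y * b⁻¹,
          conj_mem_of_le_normalizer (hc.comp.conj k).norm hb.1 hy, ?_⟩
        rw [← hbx a ha, show b * a * b⁻¹ * (b * y * b⁻¹) = b * (a * y) * b⁻¹ by group]
        exact mul_mem (mul_mem hb hay) (inv_mem hb)) with e | e
    · exact absurd (mem_bot.1 (e ▸ (show x₀ ∈ P from ⟨hx₀, y₀, hy₀, hxy₀⟩))) hx₀1
    · intro x hx
      obtain ⟨-, h⟩ := (e.symm ▸ hx : x ∈ P)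
      exact h
  have huniq : ∀ X Y Z, IsC X → IsC Y → IsC Z → Pair X Y → Pair X Z → Y = Z := by
    rintro X Y Z hX hY hZ hXY hXZ
    by_contra hne
    obtain ⟨g, rfl⟩ := hX
    obtain ⟨k, rfl⟩ := hY
    obtain ⟨l, rfl⟩ := hZ
    refine hc.comp.ne (le_bot_iff.1 fun t ht => ?_)
    have : g * t * g⁻¹ = 1 := by
      refine hc.center_eq g (conj_mem_cj ht) fun x hx => ?_
      obtain ⟨y, hy, hxy⟩ := hpfull _ _ ⟨g, rfl⟩ ⟨k, rfl⟩ hXY x hx
      obtain ⟨z, hz, hxz⟩ := hpfull _ _ ⟨g, rfl⟩ ⟨l, rfl⟩ hXZ _ (conj_mem_cj ht)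
      set w := g * t * g⁻¹
      have c1 := ((hc.comp.conj g).commute (hc.comp.conj k) hXY.1 (conj_mem_cj ht : w ∈ cj g T) hy).eq
      have c2 := ((hc.comp.conj g).commute (hc.comp.conj l) hXZ.1 hx hz).eq
      have c3 := ((hc.comp.conj k).commute (hc.comp.conj l) hne hy hz).eq
      have hmem : x * y * (w * z) * (x * y)⁻¹ * (w * z)⁻¹ ∈ B :=
        mul_mem (mul_mem (mul_mem hxy hxz) (inv_mem hxy)) (inv_mem hxz)
      have e : x * y * (w * z) * (x * y)⁻¹ * (w * z)⁻¹ = x * w * x⁻¹ * w⁻¹ := by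
        have d1 : y * (w * z) * y⁻¹ = w * z := by
          rw [← mul_assoc y w z, ← c1, mul_assoc w y z, c3, ← mul_assoc, mul_inv_cancel_right]
        have d2 : x * z * x⁻¹ = z := by rw [c2, mul_inv_cancel_right]
        calc x * y * (w * z) * (x * y)⁻¹ * (w * z)⁻¹
            = x * (y * (w * z) * y⁻¹) * x⁻¹ * (w * z)⁻¹ := by group
          _ = (x * w * x⁻¹) * (x * z * x⁻¹) * z⁻¹ * w⁻¹ := by rw [d1]; group
          _ = _ := by rw [d2]; group
      rw [e] at hmem
      have hin : x * w * x⁻¹ * w⁻¹ ∈ cj g T :=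
        mul_mem (mul_mem (mul_mem hx (conj_mem_cj ht)) (inv_mem hx)) (inv_mem (conj_mem_cj ht))
      have h0 : x * w * x⁻¹ * w⁻¹ = 1 := by
        rw [← mem_bot, ← hBX g]
        exact Subgroup.mem_inf.2 ⟨hmem, hin⟩
      rw [mul_inv_eq_one, mul_inv_eq_iff_eq_mul] at h0
      exact h0
    rw [mem_bot]
    exact conj_eq_one_iff.1 this
  have hpconj : ∀ h ∈ stabilizer G α, ∀ X Y, Pair X Y → Pair (cj h X) (cj h Y) := by
    rintro h hh X Y ⟨hne, x, hx, y, hy, hx1, hxy⟩
    refine ⟨fun e => hne ?_, _, conj_mem_cj hx, _, conj_mem_cj hy, fun e => hx1 (conj_eq_one_iff.1 e), ?_⟩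
    · have := congrArg (cj h⁻¹) e
      rwa [← cj_mul, ← cj_mul, inv_mul_cancel, cj_one, cj_one] at this
    · rw [show h * x * h⁻¹ * (h * y * h⁻¹) = h * (x * y) * h⁻¹ by group]
      exact hBn h hh _ hxy
  have hT1 : IsC T := ⟨1, (cj_one T).symm⟩
  have hinj : ∀ a ∈ T, ∀ b ∈ T, a • α = b • α → a = b := fun a ha b hb e => by
    have hmem : b⁻¹ * a ∈ B ⊓ cj 1 T := Subgroup.mem_inf.2 ⟨Subgroup.mem_inf.2 ⟨hc.comp.le (mul_mem (inv_mem hb) ha), by
      rw [mem_stabilizer_iff, mul_smul, e, inv_smul_smul]⟩,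
      by rw [cj_one]; exact mul_mem (inv_mem hb) ha⟩
    rw [hBX, mem_bot, inv_mul_eq_one] at hmem
    exact hmem.symm
  -- from a stabilizer to pairs
  have hmove : ∀ t ∈ T, t ≠ 1 → ∀ h : stabilizer G α, h • (t • α) = t • α →
      cj (h : G) T = T ∨ Pair T (cj (h : G) T) := by
    intro t ht ht1 h hfix
    by_cases e : cj (h : G) T = T
    · exact Or.inl e
    refine Or.inr ⟨Ne.symm e, t⁻¹, inv_mem ht, _, conj_mem_cj ht, inv_ne_one.2 ht1,
      Subgroup.mem_inf.2 ⟨mul_mem (inv_mem (hc.comp.le ht)) ((hc.comp.conj _).le (conj_mem_cj ht)), ?_⟩⟩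
    rw [mem_stabilizer_iff, mul_smul, mul_smul, mul_smul,
      inv_smul_eq_iff.2 (mem_stabilizer_iff.1 h.2).symm,
      show (h : G) • t • α = t • α from hfix, inv_smul_smul]
  -- the elements of `B` do not fix all of `T • α`
  have hnotB : ∀ S : Subgroup (stabilizer G α), S ≠ ⊤ →
      (∀ b : stabilizer G α, (b : G) ∈ B → b ∈ S) →
      (∀ t ∈ T, t ≠ 1 → stabilizer (stabilizer G α) (t • α) ≤ S) → False := by
    intro S hS hBS hle
    refine hc.comp.ne (le_bot_iff.1 fun t ht => ?_)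
    rw [mem_bot]
    by_contra ht1
    refine ht1 (hc.center_eq 1 (by rwa [cj_one]) fun x hx => ?_)
    obtain ⟨b, hb, hbx⟩ := hconj 1 x hx
    have hbx' := hbx t (by rwa [cj_one])
    have hstab : (⟨b, hb.2⟩ : stabilizer G α) ∈ stabilizer (stabilizer G α) (t • α) := by
      rw [((hE.coatom_orbit hH fun e => ht1 (hinj t ht 1 (one_mem _) (by rw [e, one_smul]))).le_iff.1
        (hle t ht ht1)).resolve_left hS |>.symm]
      exact hBS _ hb
    have hb1 : (b * t * b⁻¹) • α = t • α := by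
      rw [mul_smul, mul_smul, inv_smul_eq_iff.2 (mem_stabilizer_iff.1 hb.2).symm]
      exact hstab
    have hbt : b * t * b⁻¹ = t :=
      hinj _ (conj_mem_of_le_normalizer hc.comp.norm hb.1 ht) _ ht hb1
    rw [hbx', mul_inv_eq_iff_eq_mul] at hbt
    exact hbt
  have hBcomp : ∀ b : stabilizer G α, (b : G) ∈ B → cj (b : G) T = T := fun b hb =>
    cj_eq_of_mem_normalizer (hc.comp.norm hb.1)
  obtain ⟨h₀, hh₀, hne₀⟩ := hc.exists_other hE α
  -- the partner
  obtain ⟨P, hP, hTP⟩ : ∃ P, IsC P ∧ Pair T P := by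
    by_contra hno
    refine hnotB (compStab _ T) (fun e => hne₀ (mem_compStab.1
      (e ▸ mem_top (⟨h₀, hh₀⟩ : stabilizer G α)))) (fun b hb => mem_compStab.2 (hBcomp b hb))
      fun t ht ht1 h hh => mem_compStab.2 ?_
    exact (hmove t ht ht1 h hh).resolve_right fun hp => hno ⟨_, ⟨_, rfl⟩, hp⟩
  have hPC : ∀ h : stabilizer G α, IsC (cj (h : G) P) := fun h => by
    obtain ⟨g, rfl⟩ := hP
    exact ⟨(h : G) * g, (cj_mul _ _ _).symm⟩
  have hflip : ∀ h : stabilizer G α, cj (h : G) T = T ∨ cj (h : G) T = P →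
      cj (h : G) P = T ∨ cj (h : G) P = P := by
    rintro h (e | e)
    · have := hpconj h h.2 _ _ hTP
      rw [e] at this
      exact Or.inr (huniq _ _ _ hT1 (hPC h) hP this hTP)
    · have := hpconj h h.2 _ _ hTP
      rw [e] at this
      exact Or.inl (huniq _ _ _ hP (hPC h) hT1 this (hpsymm _ _ hT1 hP hTP))
  have hall : ∀ h : stabilizer G α, cj (h : G) T = T ∨ cj (h : G) T = P := by
    let M : Subgroup (stabilizer G α) :=
      { carrier := {h | cj (h : G) T = T ∨ cj (h : G) T = P}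
        one_mem' := Or.inl (by rw [OneMemClass.coe_one, cj_one])
        mul_mem' := fun {a b} ha hb => by
          show cj ((a : G) * b) T = T ∨ cj ((a : G) * b) T = P
          rw [cj_mul]
          rcases hb with e | e <;> rw [e]
          · exact ha
          · exact hflip a ha
        inv_mem' := fun {a} ha => by
          show cj ((a : G))⁻¹ T = T ∨ cj ((a : G))⁻¹ T = P
          rcases ha with e | e
          · left
            conv_lhs => rw [← e, ← cj_mul, inv_mul_cancel, cj_one]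
          · have hPT : cj (a : G) P = T := by
              have := hpconj a a.2 _ _ hTP
              rw [e] at this
              exact huniq _ _ _ hP (hPC a) hT1 this (hpsymm _ _ hT1 hP hTP)
            right
            conv_lhs => rw [← hPT, ← cj_mul, inv_mul_cancel, cj_one] }
    by_contra hno
    refine hnotB M (fun e => hno fun h => (e ▸ mem_top h : h ∈ M))
      (fun b hb => Or.inl (hBcomp b hb)) fun t ht ht1 h hh => ?_
    rcases hmove t ht ht1 h hh with e | e
    · exact Or.inl e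
    · exact Or.inr (huniq _ _ _ hT1 ⟨_, rfl⟩ hP e hTP)
  have hcomps : ∀ g : G, cj g T = T ∨ cj g T = P := by
    intro g
    obtain ⟨n, hn, h, hh, rfl⟩ := hE.factor hc.min.ne α g
    rw [cj_mul, cj_eq_of_mem_normalizer ((hc.comp.conj h).norm hn)]
    exact hall ⟨h, hh⟩
  -- the points are the elements of `T`
  have hdecomp : ∀ n ∈ N, ∃ t ∈ T, t • α = n • α := by
    intro n hn
    obtain ⟨x, hx, hxc⟩ := hc.inner 1 hn
    rw [cj_one] at hx
    simp only [cj_one] at hxc
    obtain ⟨k, rfl⟩ := hP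
    obtain ⟨y, hy, hyc⟩ := hc.inner k (mul_mem (inv_mem (hc.comp.le hx)) hn)
    have hcTP : ∀ a ∈ T, ∀ b ∈ cj k T, Commute a b := fun a ha b hb =>
      hc.comp.commute (hc.comp.conj k) hTP.1 ha hb
    have hz : y⁻¹ * (x⁻¹ * n) = 1 := hc.eq_one_of_commute fun g z hz => by
      rcases hcomps g with e | e
      · rw [e] at hz
        exact ((hcTP z hz y hy).inv_right).mul_right (hxc z hz).symm
      · rw [e] at hz
        exact (hyc z hz).symm
    obtain ⟨x', hx', hyx⟩ := hpfull _ _ ⟨k, rfl⟩ hT1 (hpsymm _ _ hT1 ⟨k, rfl⟩ hTP) y hy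
    refine ⟨x * x'⁻¹, mul_mem hx (inv_mem hx'), ?_⟩
    have e2 : x'⁻¹ • α = y • α := by
      have := (Subgroup.mem_inf.1 hyx).2
      rw [mem_stabilizer_iff, (hcTP x' hx' y hy).eq.symm, mul_smul] at this
      rw [inv_smul_eq_iff, this]
    rw [inv_mul_eq_one] at hz
    rw [show n = x * y by rw [hz, mul_inv_cancel_left], mul_smul, mul_smul, e2]
  haveI := hE.transitive hc.min.ne
  let e : T ≃ Ω := Equiv.ofBijective (fun t : T => (t : G) • α) ⟨fun a b h =>
    Subtype.ext (hinj a a.2 b b.2 h), fun ω => by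
      obtain ⟨n, hn⟩ := exists_smul_eq N α ω
      obtain ⟨t, ht, hte⟩ := hdecomp n n.2
      exact ⟨⟨t, ht⟩, hte.trans hn⟩⟩
  letI : MulAction (stabilizer G α) T := e.mulAction (stabilizer G α)
  have hact : ∀ (h : stabilizer G α) (t : T), ((h • t : T) : G) • α = (h : G) • (t : G) • α :=
    fun h t => e.apply_symm_apply _
  have hval : ∀ (h : stabilizer G α) (t : T) (s : G) (hs : s ∈ T),
      s • α = (h : G) • (t : G) • α → h • t = ⟨s, hs⟩ := fun h t s hs hse =>
    e.injective ((hact h t).trans hse.symm)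
  have hfix : ∀ h : stabilizer G α, (h : G)⁻¹ • α = α := fun h =>
    inv_smul_eq_iff.2 (mem_stabilizer_iff.1 h.2).symm
  have hconjT : ∀ (h : stabilizer G α) (t : T), cj (h : G) T = T →
      ((h • t : T) : G) = (h : G) * t * (h : G)⁻¹ := by
    intro h t hT
    have hmem : (h : G) * t * (h : G)⁻¹ ∈ T := by
      have := conj_mem_cj (g := (h : G)) t.2
      rwa [hT] at this
    refine congrArg Subtype.val (hval h t _ hmem ?_)
    rw [mul_smul, mul_smul, hfix]
  have hnab : ¬ ∀ a ∈ T, ∀ b ∈ T, Commute a b := fun h =>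
    hc.comp.ne (le_bot_iff.1 fun t ht => mem_bot.2 (hc.center_eq 1 (by rwa [cj_one]) fun y hy =>
      h y (by rwa [cj_one] at hy) t ht))
  refine DiagonalAction.false_of_hyp (T := T) (H := stabilizer G α) ?_ ?_ ?_ ?_ ?_
  · intro h t n
    rcases hall h with hT | hT
    · refine Subtype.ext ?_
      rw [hconjT h _ hT, SubgroupClass.coe_pow, SubgroupClass.coe_pow, hconjT h _ hT, conj_pow]
    · have hy : (h : G) * t * (h : G)⁻¹ ∈ P := hT ▸ conj_mem_cj t.2
      obtain ⟨x, hx, hyx⟩ := hpfull _ _ hP hT1 (hpsymm _ _ hT1 hP hTP) _ hy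
      have hcm : Commute ((h : G) * t * (h : G)⁻¹) x := by
        obtain ⟨k, rfl⟩ := hP
        exact (hc.comp.commute (hc.comp.conj k) hTP.1 hx hy).symm
      have key : ∀ m : ℕ, h • t ^ m = ⟨(x ^ m)⁻¹, inv_mem (pow_mem hx m)⟩ := by
        intro m
        refine hval h (t ^ m) _ _ ?_
        have h1 := (Subgroup.mem_inf.1 (pow_mem hyx m : _ ∈ B)).2
        rw [hcm.eq, hcm.symm.mul_pow, conj_pow, mem_stabilizer_iff, mul_smul,
          mul_smul, mul_smul, hfix] at h1
        rw [inv_smul_eq_iff, SubgroupClass.coe_pow]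
        exact h1.symm
      have k1 := key 1
      rw [pow_one] at k1
      refine Subtype.ext ?_
      rw [key n, k1, SubgroupClass.coe_pow]
      simp
  · intro t
    obtain ⟨b, hb, hbt⟩ := hconj 1 (t : G) (by rw [cj_one]; exact t.2)
    refine ⟨⟨b, hb.2⟩, fun x => Subtype.ext ?_⟩
    rw [hconjT _ x (hBcomp ⟨b, hb.2⟩ hb)]
    exact hbt x (by rw [cj_one]; exact x.2)
  · intro t ht
    have hs : stabilizer (stabilizer G α) t = stabilizer (stabilizer G α) ((t : G) • α) := by
      ext h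
      simp only [mem_stabilizer_iff]
      constructor
      · intro h1
        show (h : G) • (t : G) • α = _
        rw [← hact, h1]
      · intro h1
        exact hval h t (t : G) t.2 h1.symm
    rw [hs]
    exact hE.coatom_orbit hH fun e' => ht (Subtype.ext (hinj t t.2 1 (one_mem _) (by rw [e', one_smul])))
  · intro hsol
    haveI : Nontrivial T := (nontrivial_iff_ne_bot T).2 hc.comp.ne
    haveI := hsol
    have hlt := Group.IsSolvable.commutator_lt_top_of_nontrivial T
    have hle : ⁅T, T⁆ ≤ T := commutator_le_self T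
    rcases hc.simple 1 (U := ⁅T, T⁆) (by rwa [cj_one]) (by
        rw [cj_one]
        refine le_normalizer_of_conj fun x hx y hy => ?_
        have h1 : (⁅T, T⁆).map (MulAut.conj x).toMonoidHom ≤ ⁅T, T⁆ := by
          rw [map_commutator]
          refine commutator_mono ?_ ?_ <;>
            exact fun z hz => by
              obtain ⟨w, hw, rfl⟩ := hz
              exact mul_mem (mul_mem hx hw) (inv_mem hx)
        exact h1 (mem_map_of_mem _ hy)) with h | h
    · refine hnab fun a ha b hb => ?_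
      have := commutator_mem_commutator ha hb
      rw [h, mem_bot, commutatorElement_def, mul_inv_eq_one, mul_inv_eq_iff_eq_mul] at this
      exact this
    · rw [cj_one] at h
      refine hlt.ne (map_injective T.subtype_injective ?_)
      rw [_root_.commutator_def, map_commutator, ← MonoidHom.range_eq_map, range_subtype, h]
  · intro U hU _
    rcases hc.simple 1 (U := U.map T.subtype) (by rw [cj_one]; exact map_subtype_le U) (by
        rw [cj_one]
        refine le_normalizer_of_conj fun x hx y hy => ?_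
        obtain ⟨u, hu, rfl⟩ := hy
        exact ⟨⟨x, hx⟩ * u * ⟨x, hx⟩⁻¹, hU.conj_mem u hu _, rfl⟩) with h | h
    · left; exact (map_eq_bot_iff_of_injective _ T.subtype_injective).1 h
    · right
      rw [cj_one] at h
      exact map_injective T.subtype_injective (by rw [h, ← MonoidHom.range_eq_map, range_subtype])

end Unique

/-- **Extremely primitive groups are affine or almost simple.** -/
theorem affine_or_almost_simple (hE : EP G Ω) (hΩ : 2 ≤ Fintype.card Ω) :
    (∃ N : Subgroup G, N.Normal ∧ N ≠ ⊥ ∧ IsMulCommutative N ∧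
      ∀ ω : Ω, MulAction.stabilizer N ω = ⊥) ∨
    ∃ T : Subgroup G, T.Normal ∧ IsSimpleGroup T ∧ ¬ IsMulCommutative T ∧
      Subgroup.centralizer (T : Set G) = ⊥ := by
  classical
  haveI : Nontrivial Ω := Fintype.one_lt_card_iff_nontrivial.1 hΩ
  obtain ⟨α, ω, hαω⟩ := exists_pair_ne Ω
  haveI := hE.prim
  have htop : (⊤ : Subgroup G) ≠ ⊥ := by
    intro e
    obtain ⟨g, hg⟩ := exists_smul_eq G α ω
    have h1 : g = 1 := by rw [← mem_bot, ← e]; exact mem_top g
    rw [h1, one_smul] at hg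
    exact hαω hg
  obtain ⟨N, hNn, hNb, -, hNmin⟩ :=
    CfsgLib.Coprime.exists_minimal_normal_le (N := (⊤ : Subgroup G)) htop
  have hN : MinNormal N := ⟨hNn, hNb, hNmin⟩
  haveI := hNn
  by_cases hab : ∀ x ∈ N, ∀ y ∈ N, x * y = y * x
  · refine Or.inl ⟨N, hNn, hNb, ⟨⟨fun a b => Subtype.ext (hab a a.2 b b.2)⟩⟩, fun z => ?_⟩
    haveI := hE.transitive hNb
    rw [eq_bot_iff_forall]
    intro n hn
    refine Subtype.ext (eq_of_smul_eq_smul fun x : Ω => ?_)
    obtain ⟨m, rfl⟩ := exists_smul_eq N z x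
    show (n : G) • (m : G) • z = (1 : G) • (m : G) • z
    rw [one_smul, ← mul_smul, hab n n.2 m m.2, mul_smul]
    exact congrArg ((m : G) • ·) hn
  right
  have hcent : centralizer (N : Set G) = ⊥ := by
    by_contra hC
    haveI : (centralizer (N : Set G)).Normal := Subgroup.normal_centralizer
    obtain ⟨M, hMn, hMb, hMC, hMmin⟩ :=
      CfsgLib.Coprime.exists_minimal_normal_le (N := centralizer (N : Set G)) hC
    refine hE.not_two α ⟨hMn, hMb, hMmin⟩ hN (fun e => hab fun x hx y hy => ?_) hab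
    exact mem_centralizer_iff.1 (hMC (e ▸ hy)) x hx
  by_cases hs : IsSimpleGroup N
  · exact ⟨N, hNn, hs, fun hc => hab fun x hx y hy =>
      congrArg Subtype.val (hc.is_comm.comm ⟨x, hx⟩ ⟨y, hy⟩), hcent⟩
  exfalso
  obtain ⟨T, hT⟩ := exists_minIn hNb
  have hc : Conf G N T := ⟨hN, hcent, hT, hs⟩
  by_cases hB : N ⊓ stabilizer G α = ⊥
  · exact hc.regular_false hE α hB
  · exact hc.diag_false hE α hB

end CfsgLib.Char.ExtremelyType
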