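import Mathlib
import Cfsg.Agent.Lib.Char.Exceptional
import Cfsg.Agent.Lib.Char.CoherenceExtend
import Cfsg.Agent.Lib.Char.CoherenceCentral
import Cfsg.Agent.Lib.Char.CoherenceKernel
import Cfsg.Agent.Lib.Char.FrobeniusKernelSet
import Cfsg.Agent.Lib.Coprime.Solvable
import Cfsg.Agent.Lib.Coprime.FrattiniExtra
import Cfsg.Agent.Lib.Fusion.PComplement
import Cfsg.Agent.Lib.PGroup.FixedPointFree

/-!
# Feit's coherence theorem for a Frobenius kernel and an arbitrary isometry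
-/

set_option autoImplicit false
set_option linter.unusedSectionVars false
set_option linter.style.haveILetI false

namespace CfsgLib.Char

open scoped ComplexConjugate commutatorElement
open Cfsg

universe u v

variable {L : Type u} [Group L] [Fintype L] {G : Type v} [Group G] [Fintype G]

section Kernel

variable (K : Subgroup L) [K.Normal]
  (hC : ∀ k ∈ K, k ≠ 1 → Subgroup.centralizer ({k} : Set L) ≤ K)

include hC

/-- A proper Frobenius kernel is nilpotent. -/
theorem frobenius_kernel_nilpotent (hK : K ≠ ⊤) : Group.IsNilpotent K := by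
  obtain ⟨W, hW, hfpf⟩ := exists_fpf_complement K hC
  have hWne : W ≠ ⊥ := by
    intro h
    rw [h, Subgroup.isComplement'_bot_right] at hW
    exact hK hW
  obtain ⟨r, hr, hrW⟩ := Nat.exists_prime_and_dvd (fun h => hWne (Subgroup.card_eq_one.1 h) : Nat.card W ≠ 1)
  haveI := Fact.mk hr
  obtain ⟨a, ha⟩ := exists_prime_orderOf_dvd_card' r hrW
  have ha' : (a : L) ≠ 1 := fun h => hr.ne_one (by
    rw [← ha, ← Subgroup.orderOf_coe, h, orderOf_one])
  let φ : K ≃* K := MulAut.conjNormal (a : L)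
  have hcoe : ∀ (n : ℕ) (k : K), ((φ^[n] k : K) : L) = (a : L) ^ n * k * ((a : L) ^ n)⁻¹ := by
    intro n k
    induction n with
    | zero => simp
    | succ n ih =>
      rw [Function.iterate_succ_apply', show (φ (φ^[n] k) : K) = MulAut.conjNormal (a : L) (φ^[n] k) from rfl,
        MulAut.conjNormal_apply, ih, pow_succ']
      group
  exact CfsgLib.PGroup.isNilpotent_of_fixedPointFree hr K φ (fun k hk => by
    refine Subtype.ext (hfpf a a.2 ha' k k.2 ?_)
    have h1 := hcoe 1 k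
    rw [Function.iterate_one, hk, pow_one] at h1
    exact (eq_mul_inv_iff_mul_eq.1 h1).symm) fun k => by
    refine Subtype.ext ((hcoe r k).trans ?_)
    rw [← SubgroupClass.coe_pow, ← ha, pow_orderOf_eq_one]
    simp

theorem inducedIrrAbove_self_eq : inducedIrrAbove K K = ∅ := by
  refine Set.eq_empty_iff_forall_notMem.2 ?_
  rintro _ ⟨θ, h1, h2, h3, rfl⟩
  haveI := Fintype.ofFinite K
  obtain ⟨b, hb0, hb⟩ := isIrrCharacter_degree h1
  have h := degree_sq_le_of_central_section (B := K) ⟨θ, h1⟩ h3 (D := K) (C := K) le_rfl le_rfl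
    (fun x hx y hy => K.mul_mem (K.mul_mem (K.mul_mem hx hy) (K.inv_mem hx)) (K.inv_mem hy)) hb
  rw [Subgroup.relIndex_self, one_pow, one_mul] at h
  refine h2 (funext fun a => ?_)
  rw [h3 a a.2, hb, show b = 1 by nlinarith, Nat.cast_one]

theorem inducedIrrAbove_bot_eq :
    inducedIrrAbove K ⊥ = {χ | IsIrrCharacter L χ ∧ ∃ k ∈ K, χ k ≠ χ 1} := by
  have h := diff_inducedIrrAbove_eq K (le_refl K) fun χ hχ => isIrr_inducedIrrAbove K hC hχ.1
  rwa [inducedIrrAbove_self_eq K hC, Set.sdiff_empty] at h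

/-- With an even index the kernel is abelian. -/
theorem frobenius_kernel_comm_of_even (he : Even K.index) : ∀ a ∈ K, ∀ b ∈ K, a * b = b * a := by
  obtain ⟨W, hW, hfpf⟩ := exists_fpf_complement K hC
  haveI := Fact.mk Nat.prime_two
  obtain ⟨s, hs⟩ := exists_prime_orderOf_dvd_card' (G := W) 2
    (by rw [← hW.symm.index_eq_card]; exact even_iff_two_dvd.1 he)
  have hfp : CfsgLib.Coprime.IsFpfOn W K := fun w hw hw1 => (Subgroup.eq_bot_iff_forall _).2 fun v hv =>
    hfpf w hw hw1 v hv.1 (Subgroup.mem_centralizer_singleton_iff.1 hv.2).symm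
  have hinv := hfp.involution_inverts (by rw [Subgroup.normalizer_eq_top]; exact le_top) s.2
    ((Subgroup.orderOf_coe s).trans hs)
  intro a ha b hb
  have h := hinv _ (K.mul_mem ha hb)
  have h' : (s : L) * (a * b) * (s : L)⁻¹ = (s : L) * a * (s : L)⁻¹ * ((s : L) * b * (s : L)⁻¹) := by group
  rw [h', hinv a ha, hinv b hb, ← mul_inv_rev, inv_inj] at h
  exact h.symm

variable (τ : (L → ℂ) → (G → ℂ))
  (hτ : IsLinearIsometryOn (zspanOn (inducedIrrAbove K ⊥) {1}ᶜ) τ)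
  (hτ1 : ∀ α ∈ zspanOn (inducedIrrAbove K ⊥) {1}ᶜ, τ α 1 = 0)

include hτ hτ1

/-- The characters of least degree form a coherent set. -/
theorem feit_base {A : Subgroup L} [A.Normal]
    (hab : ∀ x ∈ K, ∀ y ∈ K, x * y * x⁻¹ * y⁻¹ ∈ A) (hbig : 2 * K.index + 1 ≤ A.relIndex K) :
    IsCoherent (inducedIrrAbove K A) {1}ᶜ τ := by
  classical
  haveI := Fintype.ofFinite K
  have hirr : ∀ φ ∈ inducedIrrAbove K A, IsIrrCharacter L φ := fun φ hφ =>
    isIrr_inducedIrrAbove K hC (inducedIrrAbove_mono K bot_le hφ)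
  have horth : ∀ φ ∈ inducedIrrAbove K A, ∀ ψ ∈ inducedIrrAbove K A,
      classInner φ ψ = if φ = ψ then 1 else 0 := fun φ hφ ψ hψ => by
    rw [classInner_irr ⟨φ, hirr φ hφ⟩ ⟨ψ, hirr ψ hψ⟩]
    exact if_congr ⟨fun h => congrArg Subtype.val h, fun h => Subtype.ext h⟩ rfl rfl
  have hfin : (inducedIrrAbove K A).Finite := finite_of_orthogonal _
    (fun φ hφ ψ hψ hne => by rw [horth φ hφ ψ hψ, if_neg hne])
    fun φ hφ => by rw [horth φ hφ φ hφ, if_pos rfl]; exact one_ne_zero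
  set s := hfin.toFinset with hs
  have hms : ∀ φ, φ ∈ s ↔ φ ∈ inducedIrrAbove K A := fun φ => hfin.mem_toFinset
  have hdeg : ∀ φ ∈ s, φ 1 = (K.index : ℂ) := by
    intro φ hφ
    obtain ⟨θ, h1, -, h3, rfl⟩ := (hms φ).1 hφ
    obtain ⟨b, hb0, hb⟩ := isIrrCharacter_degree h1
    have h := degree_sq_le_of_central_section ⟨θ, h1⟩ h3 (D := K) (C := K) le_rfl le_rfl hab hb
    rw [Subgroup.relIndex_self, one_pow, one_mul] at h
    rw [indFun_one, hb, show b = 1 by nlinarith, Nat.cast_one, mul_one]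
  have he0 : 0 < K.index := Nat.pos_of_ne_zero Subgroup.index_ne_zero_of_finite
  have hcard : s.card * K.index = A.relIndex K - 1 := by
    have h := sum_sq_inducedIrrAbove K A s hfin.coe_toFinset
    rw [Finset.sum_congr rfl (g := fun _ => (K.index : ℂ) ^ 2) fun φ hφ => by
      rw [horth φ ((hms φ).1 hφ) φ ((hms φ).1 hφ), if_pos rfl, div_one, hdeg φ hφ], Finset.sum_const,
      nsmul_eq_mul] at h
    have h1 : ((s.card * K.index : ℕ) : ℂ) = ((A.relIndex K - 1 : ℕ) : ℂ) := by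
      rw [Nat.cast_mul, Nat.cast_sub (by omega), Nat.cast_one]
      exact mul_right_cancel₀ (Nat.cast_ne_zero.2 he0.ne') (by linear_combination h)
    exact_mod_cast h1
  have hs2 : 2 ≤ s.card := by
    by_contra h
    have : s.card * K.index ≤ 1 * K.index := Nat.mul_le_mul_right _ (by omega)
    omega
  let f : Fin s.card → L → ℂ := fun i => ((s.equivFin.symm i : s) : L → ℂ)
  have hf : ∀ i, f i ∈ s := fun i => (s.equivFin.symm i).2
  have hfinj : Function.Injective f := fun i j h => s.equivFin.symm.injective (Subtype.ext h)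
  set i₀ : Fin s.card := ⟨0, by omega⟩
  set φ₀ := f i₀ with hφ₀
  have hmem : ∀ φ ∈ s, φ - φ₀ ∈ zspanOn (inducedIrrAbove K ⊥) {1}ᶜ := fun φ hφ =>
    mem_zspanOn_one_iff.2 ⟨zspan_sub (zspan_subset_mem (inducedIrrAbove_mono K bot_le ((hms φ).1 hφ)))
      (zspan_subset_mem (inducedIrrAbove_mono K bot_le ((hms _).1 (hf i₀)))), by
      rw [Pi.sub_apply, hdeg φ hφ, hdeg φ₀ (hf i₀), sub_self]⟩
  obtain ⟨ε, hε, μ, hμ, hμinj, hμτ⟩ := exceptional_of_isometry i₀ (fun i => τ (f i - φ₀))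
    (by
      show τ (φ₀ - φ₀) = 0
      rw [sub_self]
      exact iso_zero hτ zspanOn_zero)
    (fun i => hτ.2.2.2 _ (hmem _ (hf i))) (fun i => hτ1 _ (hmem _ (hf i)))
    (fun i j hi hj => by
      have h1 := (hms _).1 (hf i)
      have h2 := (hms _).1 (hf j)
      have h0 := (hms _).1 (hf i₀)
      show classInner (τ (f i - φ₀)) (τ (f j - φ₀)) = _
      rw [hτ.2.2.1 _ (hmem _ (hf i)) _ (hmem _ (hf j))]
      simp only [hφ₀, classInner_sub_left, classInner_sub_right, horth _ h1 _ h2, horth _ h1 _ h0,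
        horth _ h0 _ h2, horth _ h0 _ h0, hfinj.eq_iff, if_neg hi, if_neg (Ne.symm hj), if_true]
      split_ifs <;> norm_num)
  let z : (L → ℂ) → (G → ℂ) := fun φ => if h : φ ∈ s then ε • μ (s.equivFin ⟨φ, h⟩) else 0
  have hz : ∀ i, z (f i) = ε • μ i := fun i => by
    have h : s.equivFin ⟨f i, hf i⟩ = i := by
      conv_rhs => rw [← s.equivFin.apply_symm_apply i]
    simp only [z, dif_pos (hf i), h]
  have hsurj : ∀ φ ∈ s, ∃ i, f i = φ := fun φ hφ => ⟨s.equivFin ⟨φ, hφ⟩, by simp [f]⟩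
  have hεε : ε * conj ε = 1 := by rcases hε with rfl | rfl <;> simp
  rw [← hfin.coe_toFinset]
  refine isCoherent_of_images s {1}ᶜ τ ?_ (fun φ hφ ψ hψ hne => by
      rw [horth φ ((hms φ).1 hφ) ψ ((hms ψ).1 hψ), if_neg hne])
    (fun φ hφ => by rw [horth φ ((hms φ).1 hφ) φ ((hms φ).1 hφ), if_pos rfl]; exact one_ne_zero) z
    (fun φ hφ => by
      obtain ⟨i, rfl⟩ := hsurj φ hφ
      rw [hz]
      have hg := isGeneralizedCharacter_of_isCharacter (isCharacter_of_isIrr (hμ i))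
      rcases hε with rfl | rfl
      · rwa [one_smul]
      · simpa using isGeneralizedCharacter_zsmul hg (-1))
    (fun φ hφ ψ hψ => by
      obtain ⟨i, rfl⟩ := hsurj φ hφ
      obtain ⟨j, rfl⟩ := hsurj ψ hψ
      rw [hz, hz, classInner_smul_left, classInner_smul_right, horth _ ((hms _).1 hφ) _ ((hms _).1 hψ),
        classInner_irr ⟨μ i, hμ i⟩ ⟨μ j, hμ j⟩, ← mul_assoc, hεε, one_mul]
      exact if_congr ⟨fun h => congrArg f (hμinj (congrArg Subtype.val h)),
        fun h => Subtype.ext (congrArg μ (hfinj h))⟩ rfl rfl)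
    fun c hc => ?_
  · obtain ⟨i, hi⟩ : ∃ i, i ≠ i₀ := ⟨⟨1, by omega⟩, fun h => by
      have := congrArg Fin.val h
      simp [i₀] at this⟩
    exact ⟨f i - φ₀, mem_zspanOn_one_iff.2 ⟨zspan_sub (zspan_subset_mem (Finset.mem_coe.2 (hf i)))
      (zspan_subset_mem (Finset.mem_coe.2 (hf i₀))), (mem_zspanOn_one_iff.1 (hmem _ (hf i))).2⟩,
      fun h => hi (hfinj (sub_eq_zero.1 h))⟩
  · have hc0 : ∑ φ ∈ s, (c φ : ℂ) = 0 := by
      have h1 := (mem_zspanOn_one_iff.1 hc).2
      rw [Finset.sum_apply, Finset.sum_congr rfl (g := fun φ => (c φ : ℂ) * (K.index : ℂ))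
        fun φ hφ => by rw [Pi.smul_apply, smul_eq_mul, hdeg φ hφ], ← Finset.sum_mul] at h1
      exact (mul_eq_zero.1 h1).resolve_right (Nat.cast_ne_zero.2 he0.ne')
    have hrw : ∀ g : (L → ℂ) → (G → ℂ), ∀ w : G → ℂ,
        ∑ φ ∈ s, (c φ : ℂ) • (g φ - w) = ∑ φ ∈ s, (c φ : ℂ) • g φ := fun g w => by
      simp only [smul_sub, Finset.sum_sub_distrib, ← Finset.sum_smul, hc0, zero_smul, sub_zero]
    have hrw' : ∑ φ ∈ s, (c φ : ℂ) • (φ - φ₀) = ∑ φ ∈ s, (c φ : ℂ) • φ := by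
      simp only [smul_sub, Finset.sum_sub_distrib, ← Finset.sum_smul, hc0, zero_smul, sub_zero]
    rw [← hrw', iso_sum_zspanOn hτ s c (fun φ => φ - φ₀) hmem,
      Finset.sum_congr rfl (g := fun φ => (c φ : ℂ) • (z φ - ε • μ i₀)) fun φ hφ => by
        obtain ⟨i, rfl⟩ := hsurj φ hφ
        rw [hμτ i, hz, smul_sub]]
    exact hrw z (ε • μ i₀)

/-- Passing down one step. -/
theorem feit_step {A B : Subgroup L} [A.Normal] [B.Normal] (hBA : B ≤ A) (hsolv : Group.IsSolvable K)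
    (hA1 : A.relIndex K ≠ 1) (hcoh : IsCoherent (inducedIrrAbove K A) {1}ᶜ τ)
    (hbd : ∀ (θ : IrrCharacter K) (b : ℕ), (∀ a : K, (a : L) ∈ B → (θ : K → ℂ) a = (θ : K → ℂ) 1) →
      (θ : K → ℂ) 1 = b → 2 * K.index * b + 1 < A.relIndex K) :
    IsCoherent (inducedIrrAbove K B) {1}ᶜ τ := by
  classical
  haveI := Fintype.ofFinite K
  have hirr : ∀ φ ∈ inducedIrrAbove K B, IsIrrCharacter L φ := fun φ hφ =>
    isIrr_inducedIrrAbove K hC (inducedIrrAbove_mono K bot_le hφ)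
  have hdex : ∀ φ, ∃ b : ℕ, φ ∈ inducedIrrAbove K B → φ 1 = ((K.index * b : ℕ) : ℂ) ∧
      2 * K.index * b + 1 < A.relIndex K := by
    intro φ
    by_cases h : φ ∈ inducedIrrAbove K B
    · obtain ⟨θ, h1, -, h3, rfl⟩ := h
      obtain ⟨b, hb0, hb⟩ := isIrrCharacter_degree h1
      exact ⟨b, fun _ => ⟨by rw [indFun_one, hb, Nat.cast_mul], hbd ⟨θ, h1⟩ b h3 hb⟩⟩
    · exact ⟨0, fun h' => absurd h' h⟩
  choose b hb using hdex
  have horth : ∀ φ ∈ inducedIrrAbove K B, classInner φ φ = 1 := fun φ hφ =>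
    classInner_irr_self ⟨φ, hirr φ hφ⟩
  have hfin : (inducedIrrAbove K B).Finite := finite_of_orthogonal _
    (fun φ hφ ψ hψ hne => classInner_irr_ne (χ := ⟨φ, hirr φ hφ⟩) (ψ := ⟨ψ, hirr ψ hψ⟩)
      fun e => hne (congrArg Subtype.val e))
    fun φ hφ => by rw [horth φ hφ]; exact one_ne_zero
  have hsub := inducedIrrAbove_mono K hBA
  obtain ⟨ψ, hψA, hψd⟩ := exists_inducedIrrAbove_degree K hsolv A hA1
  have he0 : 0 < K.index := Nat.pos_of_ne_zero Subgroup.index_ne_zero_of_finite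
  set d : (L → ℂ) → ℕ := fun φ => K.index * b φ with hd
  have hdψ : b ψ = 1 := by
    have h := (hb ψ (hsub hψA)).1
    rw [hψd, Nat.cast_inj] at h
    exact (Nat.mul_eq_left he0.ne').1 h.symm
  set sA := (hfin.subset hsub).toFinset with hsA
  have hsum : ∑ φ ∈ sA, d φ ^ 2 = K.index * (A.relIndex K - 1) := by
    have h := sum_sq_inducedIrrAbove K A sA (Set.Finite.coe_toFinset _)
    rw [Finset.sum_congr rfl (g := fun φ => ((d φ ^ 2 : ℕ) : ℂ)) fun φ hφ => by
      have hφB := hsub ((hfin.subset hsub).mem_toFinset.1 hφ)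
      rw [horth φ hφB, div_one, (hb φ hφB).1, Nat.cast_pow], ← Nat.cast_sum] at h
    have h0 : A.relIndex K ≠ 0 := Subgroup.index_ne_zero_of_finite
    have h1 : ((∑ φ ∈ sA, d φ ^ 2 : ℕ) : ℂ) = ((K.index * (A.relIndex K - 1) : ℕ) : ℂ) := by
      rw [h, Nat.cast_mul, Nat.cast_sub (by omega), Nat.cast_one]
    exact_mod_cast h1
  suffices key : ∀ T : Finset (L → ℂ), ↑T ⊆ inducedIrrAbove K B \ inducedIrrAbove K A →
      IsCoherent (↑(sA ∪ T) : Set (L → ℂ)) {1}ᶜ τ by
    have h := key (hfin.toFinset \ sA) (by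
      rw [Finset.coe_sdiff, hfin.coe_toFinset, hsA, Set.Finite.coe_toFinset])
    rwa [Finset.union_sdiff_of_subset (Set.Finite.toFinset_subset_toFinset.2 hsub), hfin.coe_toFinset] at h
  intro T hT
  induction T using Finset.induction with
  | empty => rwa [Finset.union_empty, hsA, Set.Finite.coe_toFinset]
  | @insert χ T hχT ih =>
    rw [Finset.coe_insert, Set.insert_subset_iff] at hT
    obtain ⟨⟨hχB, hχA⟩, hT⟩ := hT
    have hsubS : insert χ (↑(sA ∪ T) : Set (L → ℂ)) ⊆ inducedIrrAbove K B := by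
      refine Set.insert_subset hχB ?_
      rw [Finset.coe_union, hsA, Set.Finite.coe_toFinset]
      exact Set.union_subset hsub fun x hx => (hT hx).1
    have hsubS' : insert χ (↑(sA ∪ T) : Set (L → ℂ)) ⊆ inducedIrrAbove K ⊥ :=
      hsubS.trans (inducedIrrAbove_mono K bot_le)
    rw [Finset.union_insert, Finset.coe_insert]
    refine coherent_insert (sA ∪ T) χ (fun ξ hξ => hirr ξ (hsubS (Set.mem_insert_of_mem _ hξ))) (hirr χ hχB)
      (fun h => ?_) d (fun ξ hξ => (hb ξ (hsubS hξ)).1) τ (iso_mono (fun α hα => zspanOn_mono hsubS' hα) hτ)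
      (fun α hα => hτ1 α (zspanOn_mono hsubS' hα)) (ih hT) (ψ := ψ)
      (Finset.mem_union_left _ ((hfin.subset hsub).mem_toFinset.2 hψA)) ?_ ?_
    · rcases Finset.mem_union.1 h with h | h
      · exact hχA ((hfin.subset hsub).mem_toFinset.1 h)
      · exact hχT h
    · simp only [hd, hdψ, mul_one]
      exact dvd_mul_right _ _
    · refine lt_of_lt_of_le ?_ (Finset.sum_le_sum_of_subset Finset.subset_union_left)
      rw [hsum]
      simp only [hd, hdψ, mul_one]
      have h1 : 2 * K.index * b χ < A.relIndex K - 1 := by have := (hb χ hχB).2; omega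
      calc 2 * K.index * (K.index * b χ) = K.index * (2 * K.index * b χ) := by ring
        _ < _ := Nat.mul_lt_mul_of_pos_left h1 he0

/-- From a large abelian-by-central section down to the bottom. -/
theorem feit_large (hnil : Group.IsNilpotent K) {A : Subgroup L} [A.Normal] (hAK : A ≤ K)
    (hbig : 4 * K.index ^ 2 + 1 < A.relIndex K) (hcoh : IsCoherent (inducedIrrAbove K A) {1}ᶜ τ) :
    IsCoherent (inducedIrrAbove K ⊥) {1}ᶜ τ := by
  haveI := hnil
  haveI := Fintype.ofFinite K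
  induction hn : Nat.card A using Nat.strong_induction_on generalizing A with
  | _ n ih =>
  subst hn
  by_cases hA : A = ⊥
  · subst hA; exact hcoh
  have hle : ⁅A, K⁆ ≤ A := Subgroup.commutator_le_left A K
  have hlt : ⁅A, K⁆ < A := lt_of_le_of_ne hle fun h => hA (CfsgLib.Fusion.eq_bot_of_le_commutator hAK h.ge)
  have hcard : Nat.card (⁅A, K⁆ : Subgroup L) < Nat.card A :=
    Set.Finite.card_lt_card (Set.toFinite _) hlt
  have hrel : A.relIndex K ≤ (⁅A, K⁆ : Subgroup L).relIndex K :=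
    Subgroup.relIndex_le_of_le_left hle Subgroup.index_ne_zero_of_finite
  refine ih _ hcard (hle.trans hAK) (lt_of_lt_of_le hbig hrel) ?_ rfl
  refine feit_step K hC τ hτ hτ1 hle inferInstance (by omega) hcoh fun θ b hθ hb => ?_
  have h := degree_sq_le_of_central_section θ hθ (D := A) (C := K) hAK le_rfl
    (fun x hx y hy => Subgroup.commutator_mem_commutator hx hy) hb
  rw [Subgroup.relIndex_self, one_pow, one_mul] at h
  set X := A.relIndex K
  by_contra hcon
  have h1 : X - 1 ≤ 2 * K.index * b := by omega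
  have h2 : (X - 1) ^ 2 ≤ (2 * K.index * b) ^ 2 := Nat.pow_le_pow_left h1 2
  have h3 : (2 * K.index * b) ^ 2 ≤ 4 * K.index ^ 2 * X := by
    rw [mul_pow, mul_pow]
    exact Nat.mul_le_mul_left _ h
  obtain ⟨Y, hY⟩ : ∃ Y, X = Y + 1 := ⟨X - 1, by omega⟩
  rw [hY, Nat.add_sub_cancel] at h2
  rw [hY] at h3 hbig
  nlinarith

/-- Down to the derived group of a factor. -/
theorem feit_factor (hnil : Group.IsNilpotent K) (he : 3 ≤ K.index) {P Q : Subgroup L} [P.Normal] [Q.Normal]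
    (hsup : P ⊔ Q = K) (hcomm : ∀ a ∈ P, ∀ b ∈ Q, a * b = b * a)
    (hx : K.index + 1 ≤ (⁅K, K⁆ ⊔ Q).relIndex K) (hq : K.index + 1 ≤ (⁅K, K⁆ : Subgroup L).relIndex Q)
    {A : Subgroup L} [A.Normal] (hAd : A ≤ ⁅K, K⁆) (hQA : ⁅Q, Q⁆ ≤ A)
    (hcoh : IsCoherent (inducedIrrAbove K A) {1}ᶜ τ) :
    IsCoherent (inducedIrrAbove K (⁅Q, Q⁆ : Subgroup L)) {1}ᶜ τ := by
  haveI := hnil
  haveI := Fintype.ofFinite K
  induction hn : Nat.card A using Nat.strong_induction_on generalizing A with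
  | _ n ih =>
  subst hn
  have hdK : (⁅K, K⁆ : Subgroup L) ≤ K := Subgroup.commutator_le_self K
  have hQK : Q ≤ K := hsup ▸ le_sup_right
  have hAK : A ≤ K := hAd.trans hdK
  set B := ⁅A, K⁆ ⊔ ⁅Q, Q⁆ with hB
  have hle : B ≤ A := sup_le (Subgroup.commutator_le_left A K) hQA
  by_cases hBA : B = A
  · -- the chain has stopped
    suffices h : A ≤ ⁅Q, Q⁆ by rwa [le_antisymm h hQA] at hcoh
    set π := QuotientGroup.mk' (⁅Q, Q⁆ : Subgroup L) with hπ
    haveI : Group.IsNilpotent (K.map π) :=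
      Group.nilpotent_of_surjective (π.subgroupMap K) (π.subgroupMap_surjective K)
    have hmap : A.map π = ⊥ := by
      refine CfsgLib.Fusion.eq_bot_of_le_commutator (P := K.map π) (Subgroup.map_mono hAK) ?_
      rw [← Subgroup.map_commutator]
      have h1 : A.map π = (B.map π : Subgroup (L ⧸ ⁅Q, Q⁆)) := by rw [hBA]
      rw [h1, hB, Subgroup.map_sup, show (⁅Q, Q⁆ : Subgroup L).map π = ⊥ from
        (Subgroup.map_eq_bot_iff _).2 (by rw [hπ, QuotientGroup.ker_mk']), sup_bot_eq]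
    rw [Subgroup.map_eq_bot_iff, hπ, QuotientGroup.ker_mk'] at hmap
    exact hmap
  have hlt : B < A := lt_of_le_of_ne hle hBA
  refine ih _ (Set.Finite.card_lt_card (Set.toFinite _) hlt) (hle.trans hAd) le_sup_right ?_ rfl
  set C := A ⊔ Q with hC'
  have hCK : C ≤ K := sup_le hAK hQK
  have hxC : (⁅K, K⁆ ⊔ Q).relIndex K ≤ C.relIndex K :=
    Subgroup.relIndex_le_of_le_left (sup_le_sup_right hAd Q) Subgroup.index_ne_zero_of_finite
  have hqA : (⁅K, K⁆ : Subgroup L).relIndex Q ≤ A.relIndex C := by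
    rw [hC', sup_comm, Subgroup.relIndex_sup_right]
    exact Subgroup.relIndex_le_of_le_left hAd Subgroup.index_ne_zero_of_finite
  have hX : C.relIndex K * A.relIndex C = A.relIndex K := by
    rw [mul_comm]; exact Subgroup.relIndex_mul_relIndex A C K le_sup_left hCK
  refine feit_step K hC τ hτ hτ1 hle inferInstance (by nlinarith) hcoh fun θ b hθ hb => ?_
  have hcent : ∀ x ∈ C, ∀ y ∈ K, x * y * x⁻¹ * y⁻¹ ∈ B := by
    intro x hx y hy
    obtain ⟨a, ha, q, hq', rfl⟩ := Subgroup.mem_sup_of_normal_right.1 hx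
    have h1 : a * y * a⁻¹ * y⁻¹ ∈ B := le_sup_left (α := Subgroup L) (Subgroup.commutator_mem_commutator ha hy)
    have h2 : q * y * q⁻¹ * y⁻¹ ∈ B := by
      obtain ⟨u, hu, v, hv, rfl⟩ := Subgroup.mem_sup_of_normal_right.1 (hsup.ge hy)
      have h3 : q * v * q⁻¹ * v⁻¹ ∈ B := le_sup_right (α := Subgroup L) (Subgroup.commutator_mem_commutator hq' hv)
      have e : q * (u * v) * q⁻¹ * (u * v)⁻¹ = q * u * q⁻¹ * (q * v * q⁻¹ * v⁻¹) * u⁻¹ := by group
      rw [e, ← hcomm u hu q hq', mul_inv_cancel_right]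
      exact Subgroup.Normal.conj_mem inferInstance _ h3 u
    have e : a * q * y * (a * q)⁻¹ * y⁻¹ = a * (q * y * q⁻¹ * y⁻¹) * a⁻¹ * (a * y * a⁻¹ * y⁻¹) := by group
    rw [e]
    exact B.mul_mem (Subgroup.Normal.conj_mem inferInstance _ h2 a) h1
  have h := degree_sq_le_of_central_section θ hθ (D := C) (C := K) hCK le_rfl hcent hb
  rw [Subgroup.relIndex_self, one_pow, one_mul] at h
  set x := C.relIndex K
  set e := K.index
  have h1 : x * (e + 1) ≤ A.relIndex K := hX ▸ Nat.mul_le_mul_left x (hq.trans hqA)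
  by_contra hcon
  have h2 : x * e + 3 ≤ 2 * e * b := by nlinarith
  have h3 : (x * e + 3) ^ 2 ≤ (2 * e * b) ^ 2 := Nat.pow_le_pow_left h2 2
  have h4 : (2 * e * b) ^ 2 ≤ 4 * e ^ 2 * x := by
    rw [mul_pow, mul_pow]
    exact Nat.mul_le_mul_left _ h
  have h5 : 4 * (e ^ 2 * x) ≤ x * (e ^ 2 * x) := Nat.mul_le_mul_right _ (by omega)
  nlinarith

/-- Feit's coherence theorem. -/
theorem feit_coherence (hK1 : K ≠ ⊥) (hK2 : K ≠ ⊤) (he : Nat.card K ≠ K.index + 1) :
    IsCoherent (inducedIrrAbove K ⊥) {1}ᶜ τ ∨ ∃ p : ℕ, p.Prime ∧ (∃ m : ℕ, Nat.card K = p ^ m) ∧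
      ¬ IsMulCommutative K ∧ (⁅K, K⁆.subgroupOf K).index ≤ 4 * K.index ^ 2 + 1 := by
  classical
  have hnil := frobenius_kernel_nilpotent K hC hK2
  haveI := hnil
  haveI := Fintype.ofFinite K
  have he2 : 2 ≤ K.index := by
    have h0 : K.index ≠ 0 := Subgroup.index_ne_zero_of_finite
    have h1 : K.index ≠ 1 := fun h => hK2 (Subgroup.index_eq_one.1 h)
    omega
  have hab : ∀ x ∈ K, ∀ y ∈ K, x * y * x⁻¹ * y⁻¹ ∈ ⁅K, K⁆ := fun x hx y hy =>
    Subgroup.commutator_mem_commutator hx hy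
  by_cases hc : ⁅K, K⁆ = ⊥
  · left
    refine feit_base K hC τ hτ hτ1 (A := ⊥) (fun x hx y hy => hc ▸ hab x hx y hy) ?_
    rw [Subgroup.relIndex_bot_left]
    obtain ⟨s, hs⟩ := index_dvd_card_sub_one K hC (le_refl K)
    have h1 : 1 < Nat.card K := (Subgroup.one_lt_card_iff_ne_bot K).2 hK1
    rcases (show s = 0 ∨ s = 1 ∨ 2 ≤ s by omega) with rfl | rfl | hs2
    · omega
    · omega
    · have : K.index * 2 ≤ K.index * s := Nat.mul_le_mul_left _ hs2
      omega
  have hnab : ¬ IsMulCommutative K := fun h => hc (Subgroup.commutator_eq_bot_iff_le_centralizer.2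
    fun x hx => Subgroup.mem_centralizer_iff.2 fun y hy => congrArg Subtype.val (h.is_comm.comm ⟨y, hy⟩ ⟨x, hx⟩))
  have he3 : 3 ≤ K.index := by
    rcases (show K.index = 2 ∨ 3 ≤ K.index by omega) with h | h
    · refine absurd ⟨⟨fun a b => Subtype.ext ?_⟩⟩ hnab
      exact frobenius_kernel_comm_of_even K hC (h ▸ even_two) a a.2 b b.2
    · exact h
  haveI hsolv : Group.IsSolvable K := inferInstance
  have hdK : (⁅K, K⁆ : Subgroup L) ≤ K := Subgroup.commutator_le_self K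
  -- a nilpotent group is not the join of a proper subgroup and its derived group
  have htop : ∀ R : Subgroup L, R ≤ K → R ⊔ ⁅K, K⁆ = K → R = K := by
    intro R hR h
    have h1 : R.subgroupOf K ⊔ commutator K = ⊤ := by
      apply Subgroup.map_injective K.subtype_injective
      rw [Subgroup.map_sup, Subgroup.map_subgroupOf_eq_of_le hR, commutator_def, Subgroup.map_commutator,
        ← MonoidHom.range_eq_map, K.range_subtype, h]
    have h2 : R.subgroupOf K = ⊤ := frattini_nongenerating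
      (eq_top_iff.2 (h1 ▸ sup_le_sup_left CfsgLib.Coprime.commutator_le_frattini_of_isNilpotent _))
    exact le_antisymm hR (Subgroup.subgroupOf_eq_top.1 h2)
  have hfrob : ∀ (H₁ : Subgroup L) [H₁.Normal], ⁅K, K⁆ ≤ H₁ → H₁ ≤ K → ∀ k ∈ K, k ∉ H₁ →
      ∀ x, x * k * x⁻¹ * k⁻¹ ∈ H₁ → x ∈ K := fun H₁ _ h1 h2 k hk hk' x hx =>
    mem_of_commutator_mem K hC h2 (fun a ha b hb => h1 (hab a ha b hb)) hk hk' hx
  have hcong : ∀ (H₁ N : Subgroup L) [H₁.Normal] [N.Normal], ⁅K, K⁆ ≤ H₁ → H₁ ≤ K → N ≤ K →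
      ¬ N ≤ H₁ → K.index + 1 ≤ H₁.relIndex N := by
    intro H₁ N _ _ h1 h2 h3 h4
    obtain ⟨t, ht⟩ := index_dvd_relIndex_sub_one K H₁ N h3 (fun a ha b hb => h1 (hab a ha b hb))
      (hfrob H₁ h1 h2) h2
    have hne : H₁.relIndex N ≠ 1 := fun h => h4 (Subgroup.relIndex_eq_one.1 h)
    have h0 : H₁.relIndex N ≠ 0 := Subgroup.index_ne_zero_of_finite
    have ht0 : t ≠ 0 := fun h => by rw [h, mul_zero] at ht; omega
    have : K.index * 1 ≤ K.index * t := Nat.mul_le_mul_left _ (by omega)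
    omega
  by_cases hbig : 4 * K.index ^ 2 + 1 < (⁅K, K⁆ : Subgroup L).relIndex K
  · left
    refine feit_large K hC τ hτ hτ1 hnil hdK hbig (feit_base K hC τ hτ hτ1 hab ?_)
    nlinarith
  by_cases hpg : ∃ p : ℕ, p.Prime ∧ ∃ m : ℕ, Nat.card K = p ^ m
  · obtain ⟨p, hp, hm⟩ := hpg
    exact Or.inr ⟨p, hp, hm, hnab, not_lt.1 hbig⟩
  left
  have hd1 : Nat.card (⁅K, K⁆ : Subgroup L) ≠ 1 := fun h => hc (Subgroup.card_eq_one.1 h)
  obtain ⟨p, hp, hpd⟩ := Nat.exists_prime_and_dvd hd1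
  haveI := Fact.mk hp
  haveI := CfsgLib.Coprime.pCore_normal' (G := K) p
  haveI : (Cfsg.pPrimeCore p K).Characteristic := CfsgLib.Coprime.pPrimeCore_characteristic p
  haveI : (Cfsg.pCore p K).Characteristic := CfsgLib.Coprime.pCore_characteristic p
  set P := (Cfsg.pCore p K).map K.subtype with hP
  set Q := (Cfsg.pPrimeCore p K).map K.subtype with hQ
  haveI : P.Normal := CfsgLib.Coprime.map_subtype_normal_of_characteristic K _
  haveI : Q.Normal := CfsgLib.Coprime.map_subtype_normal_of_characteristic K _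
  have hPK : P ≤ K := Subgroup.map_subtype_le _
  have hQK : Q ≤ K := Subgroup.map_subtype_le _
  have hsup : P ⊔ Q = K := by
    rw [hP, hQ, ← Subgroup.map_sup]
    suffices h : Cfsg.pCore p K ⊔ Cfsg.pPrimeCore p K = ⊤ by
      rw [h, ← MonoidHom.range_eq_map, K.range_subtype]
    have h := CfsgLib.Coprime.le_fitting (N := (⊤ : Subgroup K)) (Group.isNilpotent_top.2 hnil)
    rw [CfsgLib.Coprime.fitting_eq_iSup_pCore] at h
    refine top_le_iff.1 (h.trans (iSup_le fun q => ?_))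
    by_cases hq : (q : ℕ) = p
    · rw [hq]; exact le_sup_left
    · haveI := Fact.mk q.2
      exact (CfsgLib.Coprime.pCore_le_pPrimeCore_of_ne hq).trans le_sup_right
  obtain ⟨n, hn⟩ := IsPGroup.iff_card.1 ((CfsgLib.Coprime.pCore_isPGroup (G := K) p).map K.subtype)
  rw [← hP] at hn
  have hQc : (Nat.card Q).Coprime p := by
    rw [hQ, Subgroup.card_map_of_injective K.subtype_injective]
    exact CfsgLib.Coprime.pPrimeCore_coprime hp
  have hdis : P ⊓ Q = ⊥ := Subgroup.inf_eq_bot_of_coprime (by rw [hn]; exact (hQc.pow_right n).symm)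
  have hcomm : ∀ a ∈ P, ∀ b ∈ Q, a * b = b * a := fun a ha b hb =>
    (Subgroup.commute_of_normal_of_disjoint P Q inferInstance inferInstance (disjoint_iff.2 hdis) a b ha hb).eq
  have hQne : Q ≠ ⊥ := fun h => hpg ⟨p, hp, n, by rw [← hn]; rw [h, sup_bot_eq] at hsup; rw [hsup]⟩
  have hPne : P ≠ K := fun h => hQne (le_bot_iff.1 (hdis ▸ le_inf (h ▸ hQK) le_rfl))
  have hPd : ⁅P, P⁆ ≠ ⊥ := by
    intro h
    have hle : (⁅K, K⁆ : Subgroup L) ≤ Q := by
      conv_lhs => rw [← hsup]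
      rw [Subgroup.commutator_le]
      intro x hx y hy
      obtain ⟨u, hu, v, hv, rfl⟩ := Subgroup.mem_sup_of_normal_right.1 hx
      obtain ⟨u', hu', v', hv', rfl⟩ := Subgroup.mem_sup_of_normal_right.1 hy
      have huu : u * u' = u' * u :=
        commutatorElement_eq_one_iff_mul_comm.1 (Subgroup.mem_bot.1 (h ▸ Subgroup.commutator_mem_commutator hu hu'))
      rw [← QuotientGroup.ker_mk' Q, MonoidHom.mem_ker, map_commutatorElement, map_mul, map_mul,
        show QuotientGroup.mk' Q v = 1 from (QuotientGroup.eq_one_iff v).2 hv,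
        show QuotientGroup.mk' Q v' = 1 from (QuotientGroup.eq_one_iff v').2 hv', mul_one, mul_one,
        commutatorElement_eq_one_iff_mul_comm, ← map_mul, ← map_mul, huu]
    exact hp.ne_one (Nat.eq_one_of_dvd_coprimes hQc (hpd.trans (Subgroup.card_dvd_of_le hle)) dvd_rfl)
  have hQlt : ¬ K ≤ ⁅K, K⁆ ⊔ Q := by
    intro h
    refine hPd ?_
    have hQ' : Q = K := htop Q hQK (by rw [sup_comm]; exact le_antisymm (sup_le hdK hQK) h)
    rw [le_bot_iff.1 (hdis ▸ le_inf le_rfl (hQ'.symm ▸ hPK) : P ≤ ⊥)]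
    exact Subgroup.commutator_bot_left ⊥
  have hQd : ¬ Q ≤ ⁅K, K⁆ := fun h => hPne (htop P hPK (le_antisymm (sup_le hPK hdK)
    (hsup ▸ sup_le_sup_left h P)))
  have hx := hcong (⁅K, K⁆ ⊔ Q) K le_sup_left (sup_le hdK hQK) le_rfl hQlt
  have hq := hcong ⁅K, K⁆ Q le_rfl hdK hQK hQd
  have hbase : IsCoherent (inducedIrrAbove K (⁅K, K⁆ : Subgroup L)) {1}ᶜ τ := by
    refine feit_base K hC τ hτ hτ1 hab ?_
    rw [← Subgroup.relIndex_mul_relIndex _ (⁅K, K⁆ ⊔ Q) K le_sup_left (sup_le hdK hQK), sup_comm ⁅K, K⁆ Q,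
      Subgroup.relIndex_sup_right]
    rw [sup_comm] at hx
    nlinarith
  have hmid := feit_factor K hC τ hτ hτ1 hnil he3 hsup hcomm hx hq le_rfl (Subgroup.commutator_mono hQK hQK) hbase
  refine feit_large K hC τ hτ hτ1 hnil ((Subgroup.commutator_le_self Q).trans hQK) ?_ hmid
  rw [← Subgroup.relIndex_mul_relIndex _ Q K (Subgroup.commutator_le_self Q) hQK,
    ← Subgroup.relIndex_mul_relIndex Q (⁅K, K⁆ ⊔ Q) K le_sup_right (sup_le hdK hQK),
    Subgroup.relIndex_sup_right]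
  have h1 : K.index + 1 ≤ Q.relIndex (⁅K, K⁆ : Subgroup L) := by
    have hPP : (⁅P, P⁆ : Subgroup L) ≤ P := Subgroup.commutator_le_self P
    have hc1 : Q.relIndex (⁅P, P⁆ : Subgroup L) = Nat.card (⁅P, P⁆ : Subgroup L) := by
      rw [← Subgroup.inf_relIndex_right, le_bot_iff.1 (show Q ⊓ ⁅P, P⁆ ≤ ⊥ from
        hdis ▸ le_inf (inf_le_right.trans hPP) inf_le_left), Subgroup.relIndex_bot_left]
    refine le_trans ?_ (hc1 ▸ Subgroup.relIndex_le_of_le_right (H := Q) (Subgroup.commutator_mono hPK hPK)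
      Subgroup.index_ne_zero_of_finite)
    obtain ⟨t, ht⟩ := index_dvd_card_sub_one K hC (hPP.trans hPK)
    have h2 : 1 < Nat.card (⁅P, P⁆ : Subgroup L) := (Subgroup.one_lt_card_iff_ne_bot _).2 hPd
    have ht0 : t ≠ 0 := fun h => by rw [h, mul_zero] at ht; omega
    have : K.index * 1 ≤ K.index * t := Nat.mul_le_mul_left _ (by omega)
    omega
  have h2 : K.index + 1 ≤ (⁅Q, Q⁆ : Subgroup L).relIndex Q :=
    hq.trans (Subgroup.relIndex_le_of_le_left (Subgroup.commutator_mono hQK hQK) Subgroup.index_ne_zero_of_finite)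
  have h3 := Nat.mul_le_mul h2 (Nat.mul_le_mul h1 hx)
  nlinarith

end Kernel

end CfsgLib.Char
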