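import Mathlib
import Cfsg.Agent.Lib.Char.FeitCoherence
import Cfsg.Agent.Lib.Char.SibleyMain

/-!
# Coherence for a TI Frobenius kernel without parity assumptions
-/

set_option autoImplicit false
set_option linter.unusedSectionVars false
set_option linter.style.haveILetI false

namespace CfsgLib.Char

open scoped ComplexConjugate commutatorElement
open Cfsg

universe u

variable {G : Type u} [Group G] [Fintype G] (H : Subgroup G) [Fintype ↥(Subgroup.normalizer (H : Set G))]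

/-- The exceptional case: the kernel is elementary abelian and there is one exceptional character. -/
theorem feit_exception {L : Type u} [Group L] [Fintype L] (K : Subgroup L) [K.Normal]
    (hC : ∀ k ∈ K, k ≠ 1 → Subgroup.centralizer ({k} : Set L) ≤ K) (hK2 : K ≠ ⊤)
    (he : Nat.card K = K.index + 1) :
    Nat.card {χ : L → ℂ // χ ∈ inducedIrrAbove K ⊥} = 1 ∧ (∀ a ∈ K, ∀ b ∈ K, a * b = b * a) ∧
      ∃ p : ℕ, p.Prime ∧ ∀ a ∈ K, a ^ p = 1 := by
  classical
  haveI := Fintype.ofFinite K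
  haveI := frobenius_kernel_nilpotent K hC hK2
  have he0 : 0 < K.index := Nat.pos_of_ne_zero Subgroup.index_ne_zero_of_finite
  have hmin : ∀ Z : Subgroup L, Z.Normal → Z ≤ K → Z ≠ ⊥ → Z = K := by
    intro Z hZn hZK hZ
    haveI := hZn
    obtain ⟨t, ht⟩ := index_dvd_card_sub_one K hC hZK
    have h1 : 1 < Nat.card Z := (Subgroup.one_lt_card_iff_ne_bot Z).2 hZ
    have ht0 : t ≠ 0 := fun h => by rw [h, mul_zero] at ht; omega
    have : K.index * 1 ≤ K.index * t := Nat.mul_le_mul_left _ (by omega)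
    exact Subgroup.eq_of_le_of_card_ge hZK (by omega)
  have hK1 : K ≠ ⊥ := fun h => by rw [h, Subgroup.card_bot, Subgroup.index_bot] at he; have := Nat.card_pos (α := L); omega
  haveI : Nontrivial K := (Subgroup.nontrivial_iff_ne_bot K).2 hK1
  have hcen : (Subgroup.center K).map K.subtype = K := by
    refine hmin _ (CfsgLib.Coprime.map_subtype_normal_of_characteristic K _) (Subgroup.map_subtype_le _) fun h => ?_
    rw [Subgroup.map_eq_bot_iff_of_injective _ K.subtype_injective] at h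
    exact CfsgLib.Coprime.nilpotent_inf_center_ne_bot (⊤ : Subgroup K) top_ne_bot (by rw [h, inf_bot_eq])
  have hab : ∀ a ∈ K, ∀ b ∈ K, a * b = b * a := by
    intro a ha b hb
    rw [← hcen] at ha
    obtain ⟨a', ha', rfl⟩ := ha
    exact (congrArg Subtype.val (Subgroup.mem_center_iff.1 ha' ⟨b, hb⟩)).symm
  refine ⟨?_, hab, ?_⟩
  · have hirr : ∀ φ ∈ inducedIrrAbove K ⊥, IsIrrCharacter L φ := fun φ hφ => isIrr_inducedIrrAbove K hC hφ
    have hfin : (inducedIrrAbove K ⊥).Finite := finite_of_orthogonal _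
      (fun φ hφ ψ hψ hne => classInner_irr_ne (χ := ⟨φ, hirr φ hφ⟩) (ψ := ⟨ψ, hirr ψ hψ⟩)
        fun e => hne (congrArg Subtype.val e))
      fun φ hφ => by rw [show classInner φ φ = 1 from classInner_irr_self ⟨φ, hirr φ hφ⟩]; exact one_ne_zero
    have h := sum_sq_inducedIrrAbove K ⊥ hfin.toFinset hfin.coe_toFinset
    rw [Finset.sum_congr rfl (g := fun _ => (K.index : ℂ) ^ 2) fun φ hφ => by
      have hφ' := hfin.mem_toFinset.1 hφ
      rw [show classInner φ φ = 1 from classInner_irr_self ⟨φ, hirr φ hφ'⟩, div_one]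
      obtain ⟨θ, h1, -, h3, rfl⟩ := hφ'
      obtain ⟨b, hb0, hb⟩ := isIrrCharacter_degree h1
      have h' := degree_sq_le_of_central_section ⟨θ, h1⟩ h3 (D := K) (C := K) le_rfl le_rfl
        (fun x hx y hy => Subgroup.mem_bot.2 (by rw [hab x hx y hy]; group)) hb
      rw [Subgroup.relIndex_self, one_pow, one_mul] at h'
      rw [indFun_one, hb, show b = 1 by nlinarith, Nat.cast_one, mul_one],
      Finset.sum_const, nsmul_eq_mul, Subgroup.relIndex_bot_left, he] at h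
    push_cast at h
    have hc : (hfin.toFinset.card : ℂ) = 1 := mul_right_cancel₀ (pow_ne_zero 2 (Nat.cast_ne_zero.2 he0.ne'))
      (by linear_combination h)
    haveI := hfin.fintype
    rw [show Nat.card {χ : L → ℂ // χ ∈ inducedIrrAbove K ⊥} = hfin.toFinset.card from
      (Nat.card_coe_set_eq (inducedIrrAbove K ⊥)).trans (Set.ncard_eq_toFinset_card _ hfin)]
    exact_mod_cast hc
  · obtain ⟨p, hp, hpK⟩ := Nat.exists_prime_and_dvd (fun h => hK1 (Subgroup.card_eq_one.1 h) : Nat.card K ≠ 1)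
    haveI := Fact.mk hp
    refine ⟨p, hp, fun a ha => ?_⟩
    let W : Subgroup L :=
      { carrier := {x | x ∈ K ∧ x ^ p = 1}
        one_mem' := ⟨K.one_mem, one_pow p⟩
        mul_mem' := fun {x y} hx hy => ⟨K.mul_mem hx.1 hy.1, by
          rw [(show Commute x y from hab x hx.1 y hy.1).mul_pow, hx.2, hy.2, one_mul]⟩
        inv_mem' := fun {x} hx => ⟨K.inv_mem hx.1, by rw [inv_pow, hx.2, inv_one]⟩ }
    have hWn : W.Normal := ⟨fun x hx g => ⟨Subgroup.Normal.conj_mem inferInstance x hx.1 g, by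
      rw [conj_pow, hx.2, mul_one, mul_inv_cancel]⟩⟩
    obtain ⟨z, hz⟩ := exists_prime_orderOf_dvd_card' (G := K) p hpK
    have hzW : (z : L) ∈ W := ⟨z.2, by rw [← hz, ← Subgroup.orderOf_coe, pow_orderOf_eq_one]⟩
    have hWne : W ≠ ⊥ := fun h => hp.ne_one (by
      rw [← hz, ← Subgroup.orderOf_coe, Subgroup.mem_bot.1 (h.le hzW), orderOf_one])
    have haW : a ∈ W := by
      rw [hmin W hWn (fun x hx => hx.1) hWne]
      exact ha
    exact haW.2

/-- Coherence of a TI kernel, with the two exceptions. -/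
theorem feit_sibley (hH1 : H ≠ ⊥) (hnil : Group.IsNilpotent H) (hTI : IsTISubset (H : Set G))
    (hlt : H < Subgroup.normalizer (H : Set G))
    (hC : ∀ k ∈ H, k ≠ 1 → Subgroup.centralizer ({k} : Set G) ≤ H) :
    (Nat.card {χ : ↥(Subgroup.normalizer (H : Set G)) → ℂ // IsIrrCharacter ↥(Subgroup.normalizer (H : Set G)) χ ∧
        ∃ k : ↥(Subgroup.normalizer (H : Set G)), (k : G) ∈ H ∧ χ k ≠ χ 1} = 1 ∧
      Nat.card H = (H.subgroupOf (Subgroup.normalizer (H : Set G))).index + 1 ∧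
      IsMulCommutative H ∧ ∃ p : ℕ, p.Prime ∧ ∀ a ∈ H, a ^ p = 1) ∨
    (¬ IsMulCommutative H ∧ IsPGroup 2 H ∧ Nat.card H = 2 ^ (Nat.card G).factorization 2 ∧
      (⁅H, H⁆.subgroupOf H).index < 4 * (H.subgroupOf (Subgroup.normalizer (H : Set G))).index ^ 2) ∨
    IsCoherent {χ : ↥(Subgroup.normalizer (H : Set G)) → ℂ | IsIrrCharacter ↥(Subgroup.normalizer (H : Set G)) χ ∧
        ∃ k : ↥(Subgroup.normalizer (H : Set G)), (k : G) ∈ H ∧ χ k ≠ χ 1} {1}ᶜ
      (fun α => indFun (Subgroup.normalizer (H : Set G)) α) := by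
  classical
  haveI := Subgroup.normal_in_normalizer (H := H)
  set K := H.subgroupOf (Subgroup.normalizer (H : Set G)) with hKdef
  have hC' : ∀ k ∈ K, k ≠ 1 → Subgroup.centralizer ({k} : Set (Subgroup.normalizer (H : Set G))) ≤ K := fun k hk hk1 x hx =>
    hC (k : G) hk (fun h => hk1 (Subtype.ext h)) (Subgroup.mem_centralizer_singleton_iff.2
      (congrArg Subtype.val (Subgroup.mem_centralizer_singleton_iff.1 hx)))
  have eKH := Subgroup.subgroupOfEquivOfLe (Subgroup.le_normalizer : H ≤ (Subgroup.normalizer (H : Set G)))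
  have hcard : Nat.card K = Nat.card H := Nat.card_congr eKH.toEquiv
  have htop : K ≠ ⊤ := fun h => hlt.not_ge (Subgroup.subgroupOf_eq_top.1 h)
  have hbot : K ≠ ⊥ := fun h => hH1 (Subgroup.card_eq_one.1 (by rw [← hcard, h, Subgroup.card_bot]))
  have hset : inducedIrrAbove K ⊥ = {χ : (Subgroup.normalizer (H : Set G)) → ℂ | IsIrrCharacter (Subgroup.normalizer (H : Set G)) χ ∧ ∃ k : (Subgroup.normalizer (H : Set G)), (k : G) ∈ H ∧ χ k ≠ χ 1} :=
    inducedIrrAbove_bot_eq K hC'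
  by_cases he : Nat.card K = K.index + 1
  · left
    obtain ⟨h1, h2, p, hp, h3⟩ := feit_exception K hC' htop he
    refine ⟨?_, hcard ▸ he, ⟨⟨fun a b => Subtype.ext (congrArg (fun t : (Subgroup.normalizer (H : Set G)) => (t : G))
      (h2 ⟨a, Subgroup.le_normalizer a.2⟩ a.2 ⟨b, Subgroup.le_normalizer b.2⟩ b.2))⟩⟩, p, hp, fun a ha => ?_⟩
    · rw [hset] at h1
      exact h1
    · exact congrArg (fun t : (Subgroup.normalizer (H : Set G)) => (t : G)) (h3 ⟨a, Subgroup.le_normalizer ha⟩ ha)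
  obtain ⟨hiso, hiso1⟩ := indFun_isometry_TI H hTI
    (fun φ hφ => isCharacter_of_isIrr (isIrr_inducedIrrAbove K hC' hφ))
    (fun φ hφ x hx => by
      obtain ⟨θ, -, -, -, rfl⟩ := hφ
      exact indFun_normal_not_mem _ θ hx)
  rcases feit_coherence K hC' (fun α => indFun (Subgroup.normalizer (H : Set G)) α) hiso hiso1 hbot htop he with h | ⟨p, hp, ⟨m, hm⟩, hnab, hbd⟩
  · exact Or.inr (Or.inr (hset ▸ h))
  by_cases hodd : Odd (Nat.card (Subgroup.normalizer (H : Set G)))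
  · exact Or.inr (Or.inr (hset ▸ sibley_coherence H hTI hodd hnil hH1
      (fun k hk hk1 => inf_le_right.trans (hC k hk hk1)) hlt))
  have hHnab : ¬ IsMulCommutative H := fun h => hnab ⟨⟨fun a b => eKH.injective (by
    rw [map_mul, map_mul]; exact h.is_comm.comm _ _)⟩⟩
  have heodd : ¬ Even K.index := fun h => hnab ⟨⟨fun a b =>
    Subtype.ext (frobenius_kernel_comm_of_even K hC' h a a.2 b b.2)⟩⟩
  have hp2 : p = 2 := by
    by_contra h
    refine hodd ?_
    rw [← K.card_mul_index, hm]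
    exact (Odd.pow ((Nat.Prime.odd_of_ne_two hp h))).mul (Nat.not_even_iff_odd.1 heodd)
  subst hp2
  haveI := Fact.mk Nat.prime_two
  have hpg : IsPGroup 2 H := IsPGroup.of_card (n := m) (hcard ▸ hm)
  obtain ⟨P, hP⟩ := exists_sylow_eq H hpg (Nat.coprime_comm.1 (Nat.prime_two.coprime_iff_not_dvd.2
    (fun h => heodd (even_iff_two_dvd.2 h))))
  refine Or.inr (Or.inl ⟨hHnab, hpg, ?_, ?_⟩)
  · have h := P.card_eq_multiplicity
    rwa [hP] at h
  have hidx : (⁅H, H⁆.subgroupOf H).index = (⁅K, K⁆.subgroupOf K).index := by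
    have h1 := (⁅H, H⁆.subgroupOf H).card_mul_index
    have h2 := (⁅K, K⁆.subgroupOf K).card_mul_index
    rw [Nat.card_congr (Subgroup.subgroupOfEquivOfLe (Subgroup.commutator_le_self H)).toEquiv] at h1
    rw [Nat.card_congr (Subgroup.subgroupOfEquivOfLe (Subgroup.commutator_le_self K)).toEquiv, hcard] at h2
    have h3 : (⁅K, K⁆ : Subgroup (Subgroup.normalizer (H : Set G))).map (Subgroup.normalizer (H : Set G)).subtype = ⁅H, H⁆ := by
      rw [Subgroup.map_commutator, hKdef, Subgroup.map_subgroupOf_eq_of_le Subgroup.le_normalizer]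
    rw [← h3, Subgroup.card_map_of_injective (Subgroup.normalizer (H : Set G)).subtype_injective, h3] at h1
    exact mul_left_cancel₀ Nat.card_pos.ne' (h1.trans h2.symm)
  rw [hidx]
  have hne1 : (⁅K, K⁆.subgroupOf K).index ≠ 1 := by
    intro h
    haveI := hnil
    haveI : Group.IsNilpotent K := Group.nilpotent_of_mulEquiv eKH.symm
    exact hbot (CfsgLib.Fusion.eq_bot_of_le_commutator le_rfl
      (Subgroup.subgroupOf_eq_top.1 (Subgroup.index_eq_one.1 h)))
  obtain ⟨k, -, hk⟩ := (Nat.dvd_prime_pow Nat.prime_two).1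
    (hm ▸ Subgroup.index_dvd_card (⁅K, K⁆.subgroupOf K))
  obtain ⟨o, ho⟩ := Nat.not_even_iff_odd.1 heodd
  have hk0 : k ≠ 0 := fun h => hne1 (by rw [hk, h, pow_zero])
  obtain ⟨j, rfl⟩ : ∃ j, k = j + 1 := ⟨k - 1, by omega⟩
  rw [hk] at hbd ⊢
  refine lt_of_le_of_ne (Nat.lt_succ_iff.1 (lt_of_le_of_ne hbd fun h => ?_)) fun h => ?_
  · rw [pow_succ] at h; omega
  · have he1 : K.index ≠ 1 := fun h' => htop (Subgroup.index_eq_one.1 h')
    have hd : K.index ∣ 2 ^ (j + 1) := h ▸ Dvd.dvd.mul_left (dvd_pow_self _ two_ne_zero) 4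
    obtain ⟨i, -, hi⟩ := (Nat.dvd_prime_pow Nat.prime_two).1 hd
    rcases Nat.eq_zero_or_pos i with rfl | hi0
    · exact he1 (by rw [hi, pow_zero])
    · exact heodd (hi ▸ (Nat.even_pow.2 ⟨even_two, hi0.ne'⟩))

/-- The Sylow subgroup case for an odd prime. -/
theorem sylow_tifn_coherent {p : ℕ} [Fact p.Prime] (hp : p ≠ 2) (P : Sylow p G)
    [Fintype ↥(Subgroup.normalizer ((P : Subgroup G) : Set G))]
    (hP1 : (P : Subgroup G) ≠ ⊥) (hTI : IsTISubset ((P : Subgroup G) : Set G))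
    (hlt : (P : Subgroup G) < Subgroup.normalizer ((P : Subgroup G) : Set G))
    (hC : ∀ k ∈ (P : Subgroup G), k ≠ 1 → Subgroup.centralizer ({k} : Set G) ≤ (P : Subgroup G)) :
    (Nat.card {χ : ↥(Subgroup.normalizer ((P : Subgroup G) : Set G)) → ℂ //
        IsIrrCharacter ↥(Subgroup.normalizer ((P : Subgroup G) : Set G)) χ ∧
        ∃ x : ↥(Subgroup.normalizer ((P : Subgroup G) : Set G)), (x : G) ∈ (P : Subgroup G) ∧ χ x ≠ χ 1} = 1 ∧
      IsElementaryAbelian p (P : Subgroup G) ∧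
      Nat.card (P : Subgroup G) =
        ((P : Subgroup G).subgroupOf (Subgroup.normalizer ((P : Subgroup G) : Set G))).index + 1) ∨
    IsCoherent {χ : ↥(Subgroup.normalizer ((P : Subgroup G) : Set G)) → ℂ |
        IsIrrCharacter ↥(Subgroup.normalizer ((P : Subgroup G) : Set G)) χ ∧
        ∃ x : ↥(Subgroup.normalizer ((P : Subgroup G) : Set G)), (x : G) ∈ (P : Subgroup G) ∧ χ x ≠ χ 1} {1}ᶜ
      (fun α => indFun (Subgroup.normalizer ((P : Subgroup G) : Set G)) α) := by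
  rcases feit_sibley (P : Subgroup G) hP1 P.2.isNilpotent hTI hlt hC with ⟨h1, h2, hc, q, hq, h3⟩ | ⟨-, h2, -⟩ | h
  · refine Or.inl ⟨h1, ⟨hc, ?_⟩, h2⟩
    obtain ⟨⟨a, ha⟩, ha1⟩ := Subgroup.ne_bot_iff_exists_ne_one.1 hP1
    haveI := Fact.mk hq
    have hqp : q = p := by
      obtain ⟨n, hn⟩ := IsPGroup.iff_card.1 P.2
      have ho := orderOf_eq_prime (h3 a ha) (fun e => ha1 (Subtype.ext e))
      exact (Nat.prime_dvd_prime_iff_eq hq Fact.out).1
        (hq.dvd_of_dvd_pow (ho ▸ hn ▸ Subgroup.orderOf_dvd_natCard (P : Subgroup G) ha))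
    exact fun b hb => hqp ▸ h3 b hb
  · exfalso
    obtain ⟨⟨a, ha⟩, ha1⟩ := Subgroup.ne_bot_iff_exists_ne_one.1 hP1
    haveI := Fact.mk Nat.prime_two
    obtain ⟨n, hn⟩ := IsPGroup.iff_card.1 P.2
    obtain ⟨k, hk⟩ := IsPGroup.iff_card.1 h2
    have hpd : p ∣ Nat.card (P : Subgroup G) := by
      rcases Nat.eq_zero_or_pos n with rfl | hn0
      · exact absurd (Subgroup.card_eq_one.1 (by rw [hn, pow_zero])) hP1
      · exact hn ▸ dvd_pow_self p hn0.ne'
    exact hp ((Nat.prime_dvd_prime_iff_eq Fact.out Nat.prime_two).1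
      ((Fact.out : p.Prime).dvd_of_dvd_pow (hk ▸ hpd)))
  · exact Or.inr h

/-- A non-empty part of the coherent set of a non-abelian Sylow kernel. -/
theorem sylow_tifn_coherent_sub {p : ℕ} [Fact p.Prime] (hp : p ≠ 2) (P : Sylow p G)
    [Fintype ↥(Subgroup.normalizer ((P : Subgroup G) : Set G))]
    (hna : ¬ IsMulCommutative (P : Subgroup G)) (hP1 : (P : Subgroup G) ≠ ⊥)
    (hTI : IsTISubset ((P : Subgroup G) : Set G))
    (hlt : (P : Subgroup G) < Subgroup.normalizer ((P : Subgroup G) : Set G))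
    (hC : ∀ k ∈ (P : Subgroup G), k ≠ 1 → Subgroup.centralizer ({k} : Set G) ≤ (P : Subgroup G))
    (Z : Subgroup G) (hZ1 : Z ≠ ⊥) (hZP : ∀ z ∈ Z, z ∈ (P : Subgroup G)) :
    IsCoherent {χ : ↥(Subgroup.normalizer ((P : Subgroup G) : Set G)) → ℂ |
        IsIrrCharacter ↥(Subgroup.normalizer ((P : Subgroup G) : Set G)) χ ∧
        ∃ z : ↥(Subgroup.normalizer ((P : Subgroup G) : Set G)), (z : G) ∈ Z ∧ χ z ≠ χ 1} {1}ᶜ
      (fun α => indFun (Subgroup.normalizer ((P : Subgroup G) : Set G)) α) := by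
  classical
  haveI := Subgroup.normal_in_normalizer (H := (P : Subgroup G))
  rcases sylow_tifn_coherent hp P hP1 hTI hlt hC with ⟨-, hel, -⟩ | h
  · exact absurd hel.1 hna
  have hC' : ∀ k ∈ (P : Subgroup G).subgroupOf (Subgroup.normalizer ((P : Subgroup G) : Set G)), k ≠ 1 →
      Subgroup.centralizer ({k} : Set ↥(Subgroup.normalizer ((P : Subgroup G) : Set G))) ≤
        (P : Subgroup G).subgroupOf (Subgroup.normalizer ((P : Subgroup G) : Set G)) := fun k hk hk1 x hx =>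
    hC (k : G) hk (fun h => hk1 (Subtype.ext h)) (Subgroup.mem_centralizer_singleton_iff.2
      (congrArg Subtype.val (Subgroup.mem_centralizer_singleton_iff.1 hx)))
  have hodd : Odd (Nat.card (Subgroup.normalizer ((P : Subgroup G) : Set G))) := by
    rw [← ((P : Subgroup G).subgroupOf (Subgroup.normalizer ((P : Subgroup G) : Set G))).card_mul_index,
      Nat.card_congr (Subgroup.subgroupOfEquivOfLe Subgroup.le_normalizer).toEquiv, P.card_eq_multiplicity]
    refine Odd.mul (Odd.pow ((Fact.out : p.Prime).odd_of_ne_two hp)) (Nat.not_even_iff_odd.1 fun he => hna ?_)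
    exact ⟨⟨fun a b => Subtype.ext (congrArg
      (fun t : ↥(Subgroup.normalizer ((P : Subgroup G) : Set G)) => (t : G)) (frobenius_kernel_comm_of_even _ hC' he
      ⟨a, Subgroup.le_normalizer a.2⟩ a.2 ⟨b, Subgroup.le_normalizer b.2⟩ b.2))⟩⟩
  obtain ⟨-, -, -, -, -, R, hS⟩ := exists_coherenceSystem_TI (P : Subgroup G) hTI hodd P.2.isNilpotent hP1
    (fun k hk hk1 => inf_le_right.trans (hC k hk hk1)) hlt
  have hset := inducedIrrAbove_bot_eq _ hC'
  rw [hset] at hS
  have hsub : ∀ χ : ↥(Subgroup.normalizer ((P : Subgroup G) : Set G)) → ℂ,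
      (∃ z : ↥(Subgroup.normalizer ((P : Subgroup G) : Set G)), (z : G) ∈ Z ∧ χ z ≠ χ 1) →
      ∃ x : ↥(Subgroup.normalizer ((P : Subgroup G) : Set G)), (x : G) ∈ (P : Subgroup G) ∧ χ x ≠ χ 1 :=
    fun χ ⟨z, hz, h'⟩ => ⟨z, hZP _ hz, h'⟩
  refine coherent_mono hS h (fun χ hχ => ⟨hχ.1, hsub χ hχ.2⟩) (fun χ hχ => ⟨hχ.1, hsub χ hχ.2⟩) ?_ ?_
  · obtain ⟨⟨z, hz⟩, hz1⟩ := Subgroup.ne_bot_iff_exists_ne_one.1 hZ1
    obtain ⟨χ, hχ⟩ : ∃ χ : IrrCharacter ↥(Subgroup.normalizer ((P : Subgroup G) : Set G)),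
        (χ : ↥(Subgroup.normalizer ((P : Subgroup G) : Set G)) → ℂ) ⟨z, Subgroup.le_normalizer (hZP z hz)⟩ ≠
          (χ : ↥(Subgroup.normalizer ((P : Subgroup G) : Set G)) → ℂ) 1 := by
      by_contra! hall
      exact hz1 (Subtype.ext (congrArg
        (fun t : ↥(Subgroup.normalizer ((P : Subgroup G) : Set G)) => (t : G)) (isConj_one_left.1 (isConj_of_irr_agree hall))))
    exact ⟨χ, χ.2, _, hz, hχ⟩
  · rintro χ ⟨hχ, z, hz, hne⟩
    refine ⟨isIrrCharacter_starFun ⟨χ, hχ⟩, z, hz, fun h' => hne ?_⟩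
    simpa [Cfsg.conjFun] using congrArg conj h'

end CfsgLib.Char
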