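import Cfsg.Agent.Lib.Char.ZassenhausOdd
import Cfsg.Agent.Lib.Char.Linear
import Cfsg.Agent.Lib.Char.Virtual
import Cfsg.Agent.Lib.Char.Induction

/-!
# Linear characters of a point stabilizer induced to a simple Zassenhaus group
-/

set_option autoImplicit false
set_option linter.unusedSectionVars false

namespace CfsgLib.Char.ZassenhausOdd

open scoped ComplexConjugate
open Cfsg MulAction Subgroup CfsgLib.Char

universe u v

variable {G : Type u} {Ω : Type v} [Group G] [Fintype G] [MulAction G Ω] [Fintype Ω]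
variable {a b : Ω} {H : Subgroup G}

theorem hom_pairStab_ne_one (hZ : IsZassenhausGroup G Ω) {c : Ω} (hac : a ≠ c)
    (hHa : H ≤ stabilizer G a) (hHcard : Nat.card H + 1 = Fintype.card Ω)
    (hHfix : ∀ u ∈ H, u ≠ 1 → ∀ c : Ω, u • c = c → c = a) {lam : stabilizer G a →* ℂˣ}
    (hH : ∀ u : stabilizer G a, (u : G) ∈ H → lam u = 1) (hne : lam ≠ 1)
    (hodd : Odd (Nat.card (pairStab G a c))) :
    ∃ d, ∃ hd : d ∈ pairStab G a c, lam ⟨d, hd.1⟩ * lam ⟨d, hd.1⟩ ≠ 1 := by
  by_contra! hall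
  apply hne
  have hc := (isComplement_kernel hZ hac hHa hHcard hHfix).sup_eq_top
  have hle : (pairStab G a c).subgroupOf (stabilizer G a) ⊔ H.subgroupOf (stabilizer G a) ≤ lam.ker := by
    refine sup_le (fun u hu => ?_) (fun u hu => MonoidHom.mem_ker.2 (hH u hu))
    have h2 : lam u * lam u = 1 := hall u.1 hu
    rw [MonoidHom.mem_ker, ← orderOf_eq_one_iff]
    have h1 : orderOf (lam u) ∣ Nat.card (pairStab G a c) := by
      refine (orderOf_map_dvd lam u).trans ?_
      rw [← Subgroup.orderOf_coe]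
      exact Subgroup.orderOf_dvd_natCard _ hu
    have h3 : orderOf (lam u) ∣ 2 := orderOf_dvd_of_pow_eq_one (by rw [pow_two]; exact h2)
    rcases (Nat.dvd_prime Nat.prime_two).1 h3 with h | h
    · exact h
    · rw [h] at h1
      exact absurd (even_iff_two_dvd.2 h1) (Nat.not_even_iff_odd.2 hodd)
  rw [hc] at hle
  exact MonoidHom.ext fun u => MonoidHom.mem_ker.1 (hle (Subgroup.mem_top u))

theorem induced_linear_irr [IsSimpleGroup G] (hZ : IsZassenhausGroup G Ω) (hab : a ≠ b)
    (hodd : Odd (Nat.card (pairStab G a b))) (hHa : H ≤ stabilizer G a)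
    (hHcard : Nat.card H + 1 = Fintype.card Ω)
    (hHfix : ∀ u ∈ H, u ≠ 1 → ∀ c : Ω, u • c = c → c = a)
    {μ : stabilizer G a → ℂ} (hμ : IsCharacter (stabilizer G a) μ) (hμ1 : μ 1 = 1)
    (hμH : ∀ u : stabilizer G a, (u : G) ∈ H → μ u = 1) (hμne : μ ≠ fun _ => 1) :
    IsIrrCharacter G (indFun (stabilizer G a) μ) ∧
      ∀ u ∈ H, u ≠ 1 → indFun (stabilizer G a) μ u = 1 := by
  classical
  have hirr : IsIrrCharacter (stabilizer G a) μ := by
    obtain ⟨n, ρ, rfl⟩ := hμ
    have hd : Module.finrank ℂ (Fin n → ℂ) = 1 := by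
      have := (Representation.char_one ρ).symm.trans hμ1
      exact_mod_cast this
    exact ⟨n, ρ, isIrreducible_of_finrank_eq_one ρ hd, rfl⟩
  obtain ⟨lam, hlam⟩ := linearCharEquiv.surjective
    (⟨⟨μ, hirr⟩, hμ1⟩ : {χ : IrrCharacter (stabilizer G a) // (χ : (stabilizer G a) → ℂ) 1 = 1})
  have hμlam : ∀ x : (stabilizer G a), μ x = (lam x : ℂ) := fun x =>
    (congrFun (congrArg (fun z : {χ : IrrCharacter (stabilizer G a) // (χ : (stabilizer G a) → ℂ) 1 = 1} =>
      ((z.1 : IrrCharacter (stabilizer G a)) : (stabilizer G a) → ℂ)) hlam) x).symm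
  have hlamH : ∀ u : (stabilizer G a), (u : G) ∈ H → lam u = 1 := fun u hu => Units.ext (by
    rw [← hμlam, hμH u hu, Units.val_one])
  have hlamne : lam ≠ 1 := fun e => hμne (funext fun x => by rw [hμlam, e]; rfl)
  have hconjclass : ∀ (x v : G) (hx : x ∈ (stabilizer G a)) (hv : v ∈ (stabilizer G a)),
      extendByZero (stabilizer G a) μ (x⁻¹ * v * x) = μ ⟨v, hv⟩ := by
    intro x v hx hv
    rw [extendByZero_mem (stabilizer G a) μ ((stabilizer G a).mul_mem ((stabilizer G a).mul_mem ((stabilizer G a).inv_mem hx) hv) hx), hμlam, hμlam]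
    congr 1
    rw [show (⟨x⁻¹ * v * x, (stabilizer G a).mul_mem ((stabilizer G a).mul_mem ((stabilizer G a).inv_mem hx) hv) hx⟩ : (stabilizer G a)) =
      ⟨x, hx⟩⁻¹ * ⟨v, hv⟩ * ⟨x, hx⟩ from Subtype.ext rfl, map_mul, map_mul, map_inv,
      mul_right_comm, inv_mul_cancel, one_mul]
  have hunit : ∀ x : (stabilizer G a), μ x * conj (μ x) = 1 := by
    intro x
    rw [hμlam, Complex.mul_conj']
    have : ‖(lam x : ℂ)‖ = 1 := by
      refine Complex.norm_eq_one_of_pow_eq_one (n := orderOf x) ?_ (orderOf_pos x).ne'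
      rw [← Units.val_pow_eq_pow_val, ← map_pow, pow_orderOf_eq_one, map_one, Units.val_one]
    rw [this]
    simp
  have hKcard : (Nat.card (stabilizer G a) : ℂ) ≠ 0 := by exact_mod_cast Nat.card_pos.ne'
  have hin : ∀ x : G, x ∈ (stabilizer G a) →
      ∑ v : (stabilizer G a), μ v * conj (extendByZero (stabilizer G a) μ (x⁻¹ * v * x)) = (Nat.card (stabilizer G a) : ℂ) := by
    intro x hx
    rw [Finset.sum_congr rfl (fun (v : stabilizer G a) _ => show _ = (1 : ℂ) by rw [hconjclass x v hx v.2]; exact hunit v),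
      Finset.sum_const, Finset.card_univ, nsmul_eq_mul, mul_one, Nat.card_eq_fintype_card]
  have hout : ∀ x : G, x ∉ (stabilizer G a) → ∑ v : (stabilizer G a), μ v * conj (extendByZero (stabilizer G a) μ (x⁻¹ * v * x)) = 0 := by
    intro x hx
    have hac : a ≠ x • a := fun e => hx (mem_stabilizer_iff.2 e.symm)
    have hodd' : Odd (Nat.card (pairStab G a (x • a))) := by rwa [card_pairStab_eq hZ hab hac]
    obtain ⟨d, hd, hd2⟩ := hom_pairStab_ne_one hZ hac hHa hHcard hHfix hlamH hlamne hodd'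
    obtain ⟨w, hwa, hwc⟩ := exists_map_pair hZ hac hac.symm
    obtain ⟨hinv, -⟩ := swap_inverts hZ hac hodd' hwa hwc
    have hk : w⁻¹ * x ∈ (stabilizer G a) := by
      rw [mem_stabilizer_iff, mul_smul, inv_smul_eq_iff, hwa]
    set d' : (stabilizer G a) := ⟨d, hd.1⟩ with hd'
    have hconj : ∀ v : G, x⁻¹ * v * x = (w⁻¹ * x)⁻¹ * (w⁻¹ * v * w) * (w⁻¹ * x) := fun v => by group
    have hdx : x⁻¹ * d * x ∈ (stabilizer G a) := by
      rw [hconj, hinv d hd]
      exact (stabilizer G a).mul_mem ((stabilizer G a).mul_mem ((stabilizer G a).inv_mem hk) ((stabilizer G a).inv_mem hd.1)) hk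
    have hμdx : lam ⟨x⁻¹ * d * x, hdx⟩ = (lam d')⁻¹ := by
      have e : (⟨x⁻¹ * d * x, hdx⟩ : (stabilizer G a)) = ⟨w⁻¹ * x, hk⟩⁻¹ * d'⁻¹ * ⟨w⁻¹ * x, hk⟩ := Subtype.ext (by
        show x⁻¹ * d * x = (w⁻¹ * x)⁻¹ * d⁻¹ * (w⁻¹ * x)
        rw [hconj, hinv d hd])
      rw [e, map_mul, map_mul, map_inv, mul_right_comm, inv_mul_cancel, one_mul, map_inv]
    set f : (stabilizer G a) → ℂ := fun v => μ v * conj (extendByZero (stabilizer G a) μ (x⁻¹ * v * x)) with hf
    have hshift : ∀ v : (stabilizer G a), f (v * d') = f v * ((lam d' : ℂ) * (lam d' : ℂ)) := by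
      intro v
      simp only [hf]
      have e : x⁻¹ * ((v * d' : (stabilizer G a)) : G) * x = (x⁻¹ * v * x) * (x⁻¹ * d * x) := by
        show x⁻¹ * (v.1 * d) * x = _
        group
      by_cases hv : x⁻¹ * v * x ∈ (stabilizer G a)
      · rw [e, extendByZero_mem (stabilizer G a) μ ((stabilizer G a).mul_mem hv hdx), extendByZero_mem (stabilizer G a) μ hv, hμlam, hμlam, hμlam,
          hμlam, show (⟨x⁻¹ * v * x * (x⁻¹ * d * x), (stabilizer G a).mul_mem hv hdx⟩ : (stabilizer G a)) =
            ⟨x⁻¹ * v * x, hv⟩ * ⟨x⁻¹ * d * x, hdx⟩ from rfl, map_mul, map_mul, hμdx]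
        have h1 := hunit d'
        rw [hμlam] at h1
        have h2 : ((lam d')⁻¹ : ℂˣ) = (conj ((lam d' : ℂ)) : ℂ) := by
          rw [Units.val_inv_eq_inv_val]
          exact inv_eq_of_mul_eq_one_right h1
        simp only [Units.val_mul, map_mul, h2, Complex.conj_conj]
        ring
      · rw [e, extendByZero_not_mem (stabilizer G a) μ hv, extendByZero_not_mem (stabilizer G a) μ
          (fun h => hv (by
            have := (stabilizer G a).mul_mem h ((stabilizer G a).inv_mem hdx)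
            rwa [mul_inv_cancel_right] at this))]
        simp
    have hs : ∑ v : (stabilizer G a), f v = (∑ v : (stabilizer G a), f v) * ((lam d' : ℂ) * (lam d' : ℂ)) := by
      conv_lhs => rw [← Equiv.sum_comp (Equiv.mulRight d') f]
      rw [Finset.sum_mul]
      exact Finset.sum_congr rfl fun v _ => hshift v
    by_contra hne0
    refine hd2 (Units.ext ?_)
    rw [Units.val_one, Units.val_mul]
    exact (mul_eq_left₀ hne0).1 hs.symm
  have hnorm : classInner (indFun (stabilizer G a) μ) (indFun (stabilizer G a) μ) = 1 := by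
    rw [classInner_indFun (stabilizer G a) μ (indFun (stabilizer G a) μ) (isClassFunction_indFun (stabilizer G a) μ)]
    simp only [classInner, indFun, map_mul, map_inv₀, Complex.conj_natCast, map_sum]
    have hsw : ∑ v : (stabilizer G a), μ v * ((Nat.card (stabilizer G a) : ℂ)⁻¹ * ∑ x : G, conj (extendByZero (stabilizer G a) μ (x⁻¹ * v * x))) =
        (Nat.card (stabilizer G a) : ℂ)⁻¹ * ∑ x : G, ∑ v : (stabilizer G a), μ v * conj (extendByZero (stabilizer G a) μ (x⁻¹ * v * x)) := by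
      rw [Finset.sum_comm, Finset.mul_sum]
      refine Finset.sum_congr rfl fun v _ => ?_
      rw [← Finset.mul_sum]
      ring
    rw [hsw, Finset.sum_congr rfl (fun x _ => show _ = if x ∈ (stabilizer G a) then (Nat.card (stabilizer G a) : ℂ) else 0 by
      split_ifs with h
      · exact hin x h
      · exact hout x h), ← Finset.sum_filter, Finset.sum_const, nsmul_eq_mul,
      ← Fintype.card_subtype, ← Nat.card_eq_fintype_card]
    field_simp
  refine ⟨isIrr_of_isCharacter_norm_one (isCharacter_indFun (stabilizer G a) hμ) hnorm, fun u hu hu1 => ?_⟩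
  have hval : ∀ x : G, extendByZero (stabilizer G a) μ (x⁻¹ * u * x) = if x ∈ (stabilizer G a) then 1 else 0 := by
    intro x
    split_ifs with h
    · rw [hconjclass x u h (hHa hu)]
      exact hμH ⟨u, hHa hu⟩ hu
    · refine extendByZero_not_mem (stabilizer G a) μ fun hm => h ?_
      rw [mem_stabilizer_iff, mul_smul, mul_smul, inv_smul_eq_iff] at hm
      exact hHfix u hu hu1 _ hm
  rw [indFun, Finset.sum_congr rfl (fun x _ => hval x), Finset.sum_boole, ← Fintype.card_subtype,
    ← Nat.card_eq_fintype_card, inv_mul_cancel₀ hKcard]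

end CfsgLib.Char.ZassenhausOdd
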