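import Cfsg.Agent.Lib.Char.FullyRamifiedBasic
import Cfsg.Agent.Lib.Char.Inertia
import Cfsg.Agent.Lib.Block.Covering

/-!
# Fully ramified sections under a cyclic fixed point free action
-/

set_option autoImplicit false
set_option linter.unusedSectionVars false
set_option linter.style.haveILetI false

namespace CfsgLib.Char.RamifiedFrobenius

open Cfsg CfsgLib CfsgLib.Char
open scoped ComplexConjugate

universe u

theorem near_square {ι : Type*} [Fintype ι] (a : ι → ℕ) (hs : 1 < Fintype.card ι)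
    (h : (Fintype.card ι : ℤ) * ∑ i, (a i : ℤ) ^ 2 = ((∑ i, a i : ℕ) : ℤ) ^ 2 + Fintype.card ι - 1) :
    (Fintype.card ι : ℤ) ∣ ((∑ i, a i : ℕ) : ℤ) - 1 ∨ (Fintype.card ι : ℤ) ∣ ((∑ i, a i : ℕ) : ℤ) + 1 := by
  set s : ℤ := (Fintype.card ι : ℤ)
  set e : ℤ := ((∑ i, a i : ℕ) : ℤ) with he
  have hs' : (1 : ℤ) < s := Int.ofNat_lt.2 hs
  set m := e / s
  set r := e % s
  have hr0 : 0 ≤ r := Int.emod_nonneg _ (by omega)
  have hrs : r < s := Int.emod_lt_of_pos _ (by omega)
  have her : e = r + s * m := (Int.emod_add_mul_ediv e s).symm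
  set D := ∑ i, ((a i : ℤ) - m) ^ 2 with hD
  have hsum : ∑ i, ((a i : ℤ) - m) = r := by
    rw [Finset.sum_sub_distrib, Finset.sum_const, nsmul_eq_mul, Finset.card_univ, ← Nat.cast_sum, ← he, her]
    ring
  have hsq : ∀ d : ℤ, d ≤ d ^ 2 := fun d => by
    rcases le_or_gt d 0 with hd | hd
    · exact hd.trans (sq_nonneg d)
    · nlinarith
  have hDr : r ≤ D := hsum ▸ Finset.sum_le_sum fun i _ => hsq _
  have hA : ∑ i, (a i : ℤ) ^ 2 = D + 2 * m * e - s * m ^ 2 := by
    rw [hD, he, Nat.cast_sum, Finset.mul_sum, ← Finset.sum_add_distrib]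
    rw [show s * m ^ 2 = ∑ _i : ι, m ^ 2 by rw [Finset.sum_const, nsmul_eq_mul, Finset.card_univ],
      ← Finset.sum_sub_distrib]
    exact Finset.sum_congr rfl fun i _ => by ring
  have hkey : s * D = r ^ 2 + s - 1 := by
    rw [hA, her] at h
    linear_combination h
  have h1 : s * r ≤ r ^ 2 + s - 1 := hkey ▸ (mul_le_mul_of_nonneg_left hDr (by omega))
  have h2 : r = 1 ∨ r = s - 1 ∨ r = 0 := by
    by_contra hne
    push Not at hne
    nlinarith [mul_pos (show 0 < r - 1 by omega) (show 0 < s - 1 - r by omega)]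
  rcases h2 with h2 | h2 | h2
  · exact Or.inl ⟨m, by rw [her, h2]; ring⟩
  · exact Or.inr ⟨m + 1, by rw [her, h2]; ring⟩
  · exfalso
    rw [h2] at hkey
    have h4 : s ∣ 1 := ⟨1 - D, by linear_combination hkey⟩
    have := Int.le_of_dvd one_pos h4
    omega

variable {L : Type u} [Group L] [Fintype L] (N : Subgroup L) [hN : N.Normal] [Fintype N]

/-- An irreducible character constant on the cosets of `N` with commutative quotient is linear. -/
theorem degree_one_of_const (hab : ∀ a b : L, a * b * a⁻¹ * b⁻¹ ∈ N) (β : IrrCharacter L)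
    (hconst : ∀ (n : N) (g : L), (β : L → ℂ) ((n : L) * g) = (β : L → ℂ) g) : (β : L → ℂ) 1 = 1 := by
  obtain ⟨d, hd0, hd⟩ := isIrrCharacter_degree β.2
  obtain ⟨β, n, ρ, hρ, rfl⟩ := β
  replace hd : ρ.character 1 = (d : ℂ) := hd
  replace hconst : ∀ (n : N) (g : L), ρ.character ((n : L) * g) = ρ.character g := hconst
  show ρ.character 1 = 1
  have hval : ∀ a : L, ρ.character a * ρ.character a⁻¹ = (d : ℂ) ^ 2 := by
    intro a
    obtain ⟨c, hc⟩ := schur_scalar ρ (∑ b : L, ρ (b * a * b⁻¹)) fun x => by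
      rw [Finset.sum_mul, Finset.mul_sum]
      refine Fintype.sum_bijective (fun b => x⁻¹ * b) (Group.mulLeft_bijective _) _ _ fun b => ?_
      rw [← map_mul, ← map_mul]
      congr 1
      group
    have h1 := congrArg (LinearMap.trace ℂ _) hc
    rw [map_sum, trace_smul_id] at h1
    have h2 := congrArg (fun T => LinearMap.trace ℂ (Fin n → ℂ) (T * ρ a⁻¹)) hc
    simp only [Finset.sum_mul, map_sum, smul_mul_assoc, map_smul, smul_eq_mul] at h2
    have e1 : ∀ b : L, LinearMap.trace ℂ (Fin n → ℂ) (ρ (b * a * b⁻¹) * ρ a⁻¹) = (d : ℂ) := fun b => by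
      rw [← map_mul, ← hd]
      show ρ.character _ = _
      have := hconst ⟨_, hab b a⟩ 1
      rwa [mul_one] at this
    have e2 : ∀ b : L, LinearMap.trace ℂ (Fin n → ℂ) (ρ (b * a * b⁻¹)) = ρ.character a := fun b =>
      ρ.char_conj a b
    have hfin : (Module.finrank ℂ (Fin n → ℂ) : ℂ) = (d : ℂ) := by rw [← Representation.char_one ρ, hd]
    rw [Finset.sum_congr rfl fun b _ => e1 b, Finset.sum_const, Finset.card_univ, nsmul_eq_mul,
      show LinearMap.trace ℂ (Fin n → ℂ) (LinearMap.id * ρ a⁻¹) = ρ.character a⁻¹ from rfl] at h2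
    rw [Finset.sum_congr rfl fun b _ => e2 b, Finset.sum_const, Finset.card_univ, nsmul_eq_mul, hfin] at h1
    have hL : (Fintype.card L : ℂ) ≠ 0 := by exact_mod_cast Fintype.card_ne_zero
    refine mul_left_cancel₀ hL ?_
    linear_combination ρ.character a⁻¹ * h1 - (d : ℂ) * h2
  have h1 := classInner_irr_self (⟨ρ.character, n, ρ, hρ, rfl⟩ : IrrCharacter L)
  rw [classInner, Finset.sum_congr rfl (g := fun _ => (d : ℂ) ^ 2) fun a _ => by rw [← char_inv ρ, hval],
    Finset.sum_const, Finset.card_univ, nsmul_eq_mul, ← Nat.card_eq_fintype_card,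
    inv_mul_cancel_left₀ (by exact_mod_cast Nat.card_pos.ne')] at h1
  rw [hd]
  have : d ^ 2 = 1 := by exact_mod_cast h1
  rw [(Nat.pow_eq_one.1 this).resolve_right two_ne_zero, Nat.cast_one]

/-- The multiplicities over an invariant character with cyclic quotient. -/
theorem exists_multiplicities (hcyc : IsCyclic (L ⧸ N)) (θ : IrrCharacter N)
    (hinv : ∀ g : L, conjFun N (θ : N → ℂ) g = (θ : N → ℂ)) {f : L → ℂ} (hf : IsCharacter L f) {e : ℕ}
    (hres : ∀ n : N, f n = (e : ℂ) * (θ : N → ℂ) n) :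
    ∃ (ι : Type u) (_ : Fintype ι) (a : ι → ℕ), Fintype.card ι = N.index ∧ ∑ i, a i = e ∧
      classInner f f = ((∑ i, (a i) ^ 2 : ℕ) : ℂ) := by
  classical
  have := Fintype.ofFinite (IrrCharacter L)
  -- an extension
  obtain ⟨θ, d, ρ, hρ, rfl⟩ := θ
  haveI := hρ
  haveI := hcyc
  obtain ⟨σ, hσ⟩ := extends_of_cyclic N ρ (fun g n => congrFun (hinv g) n) hcyc
  haveI := isIrreducible_of_restrict σ ρ hσ
  let θ : IrrCharacter N := ⟨ρ.character, d, ρ, hρ, rfl⟩
  let χ : IrrCharacter L := ⟨σ.character, isIrrCharacter_character σ⟩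
  have hχN : (fun n : N => (χ : L → ℂ) n) = (θ : N → ℂ) := funext fun n =>
    congrArg (LinearMap.trace ℂ (Fin d → ℂ)) (hσ n)
  have hab : ∀ a b : L, a * b * a⁻¹ * b⁻¹ ∈ N := fun a b => by
    rw [← QuotientGroup.eq_one_iff, QuotientGroup.mk_mul, QuotientGroup.mk_mul, QuotientGroup.mk_mul]
    obtain ⟨g, hg⟩ := hcyc.exists_generator
    obtain ⟨i, hi⟩ := hg (a : L ⧸ N)
    obtain ⟨j, hj⟩ := hg (b : L ⧸ N)
    rw [QuotientGroup.mk_inv, QuotientGroup.mk_inv, ← hi, ← hj]
    group
  -- every character over `θ` extends it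
  have hover : ∀ β : IrrCharacter L, classInner (fun n : N => (β : L → ℂ) n) (θ : N → ℂ) ≠ 0 →
      classInner (fun n : N => (β : L → ℂ) n) (θ : N → ℂ) = 1 ∧ (β : L → ℂ) 1 = (θ : N → ℂ) 1 := by
    intro β hβ
    obtain ⟨hηi, hprod⟩ := gallagher N χ (hχN ▸ θ.2) β (by rw [hχN]; exact hβ)
    have h1 := degree_one_of_const N hab ⟨_, hηi⟩ fun n g =>
      cosetAvg_mul_left N (fun x => (β : L → ℂ) x * conj ((χ : L → ℂ) x)) n g
    have h2 : (β : L → ℂ) 1 = (θ : N → ℂ) 1 := by
      rw [hprod, Pi.mul_apply, show cosetAvg N _ 1 = 1 from h1, mul_one, ← hχN]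
      rfl
    obtain ⟨m, -, hm1, hm2⟩ := restrict_eq_smul_of_invariant N β.2 θ.2 hβ hinv
    refine ⟨?_, h2⟩
    have h3 := congrFun hm2 1
    rw [OneMemClass.coe_one, h2, Pi.smul_apply, smul_eq_mul] at h3
    rw [hm1, (mul_eq_right₀ (irr_one_ne_zero θ)).1 h3.symm]
  let ι := {β : IrrCharacter L // classInner (fun n : N => (β : L → ℂ) n) (θ : N → ℂ) ≠ 0}
  choose a ha using fun i : ι => classInner_char_irr_nat hf i.1
  -- the number of extensions
  have hcount : Fintype.card ι = N.index := by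
    have hexp := congrFun (classFun_expand (isClassFunction_indFun N (θ : N → ℂ))) 1
    rw [indFun_one, Finset.sum_apply, ← Finset.sum_filter_of_ne
      (p := fun β : IrrCharacter L => classInner (fun n : N => (β : L → ℂ) n) (θ : N → ℂ) ≠ 0) fun β _ hne h0 =>
        hne (by rw [Pi.smul_apply, classInner_indFun _ _ _ (isClassFunction_irr β),
          ← classInner_conj (fun n : N => (β : L → ℂ) n), h0, map_zero, zero_smul]),
      Finset.sum_congr rfl (g := fun _ => (θ : N → ℂ) 1) fun β hβ => by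
        obtain ⟨e1, e2⟩ := hover β (Finset.mem_filter.1 hβ).2
        rw [Pi.smul_apply, classInner_indFun _ _ _ (isClassFunction_irr β),
          ← classInner_conj (fun n : N => (β : L → ℂ) n), e1, map_one, one_smul, e2],
      Finset.sum_const, nsmul_eq_mul] at hexp
    have h4 := mul_right_cancel₀ (irr_one_ne_zero θ) hexp
    rw [Fintype.card_subtype]
    exact_mod_cast h4.symm
  -- only they occur
  have hzero : ∀ β : IrrCharacter L, classInner (fun n : N => (β : L → ℂ) n) (θ : N → ℂ) = 0 →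
      classInner f (β : L → ℂ) = 0 := by
    intro β hβ
    by_contra hfβ
    obtain ⟨θ', hθ'⟩ := Block.exists_constituent (N := N) β
    have hne : θ' ≠ θ := fun h => hθ' (h ▸ hβ)
    have hrest := isCharacter_sub_constituent hf β hfβ
    obtain ⟨m, hm⟩ := classInner_char_irr_nat (isCharacter_comp (isCharacter_irr β) N.subtype) θ'
    obtain ⟨m', hm'⟩ := classInner_char_irr_nat (isCharacter_comp hrest N.subtype) θ'
    have hsum : classInner (fun n : N => f n) (θ' : N → ℂ) = (m : ℂ) + m' := by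
      rw [← hm, ← hm', ← classInner_add_left]
      congr 1
      funext z
      simp
    rw [show (fun n : N => f n) = (e : ℂ) • (θ : N → ℂ) from funext hres, classInner_smul_left, classInner_irr,
      if_neg (Ne.symm hne), mul_zero, ← Nat.cast_add, eq_comm, Nat.cast_eq_zero] at hsum
    refine hθ' ?_
    have hm0 : m = 0 := by omega
    rw [hm0, Nat.cast_zero] at hm
    exact hm
  have hexp := classFun_expand (isClassFunction_of_isCharacter hf)
  have hsum : f = ∑ i : ι, (a i : ℂ) • (i.1 : L → ℂ) := by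
    conv_lhs => rw [hexp, ← Finset.sum_filter_of_ne
      (p := fun β : IrrCharacter L => classInner (fun n : N => (β : L → ℂ) n) (θ : N → ℂ) ≠ 0)
      fun β _ hne h0 => hne (by rw [hzero β h0, zero_smul]),
      Finset.sum_subtype (p := fun β : IrrCharacter L => classInner (fun n : N => (β : L → ℂ) n) (θ : N → ℂ) ≠ 0) _
        (fun x => by simp)]
    exact Finset.sum_congr rfl fun i _ => by rw [ha]
  refine ⟨ι, inferInstance, a, hcount, ?_, ?_⟩
  · have h1 := congrFun hsum 1
    rw [Finset.sum_apply, Finset.sum_congr rfl (g := fun i => (a i : ℂ) * (θ : N → ℂ) 1) fun i _ => by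
      rw [Pi.smul_apply, smul_eq_mul, (hover i.1 i.2).2], ← Finset.sum_mul] at h1
    have h2 := hres 1
    rw [OneMemClass.coe_one, h1] at h2
    exact_mod_cast mul_right_cancel₀ (irr_one_ne_zero θ) h2
  · nth_rw 2 [hsum]
    rw [classInner_sum_right]
    push_cast
    refine Finset.sum_congr rfl fun i _ => ?_
    rw [classInner_smul_right, ha, Complex.conj_natCast]
    ring

end CfsgLib.Char.RamifiedFrobenius
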