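import Cfsg.Agent.Lib.Char.SLTwoChars

/-!
# Cuspidal and half-degree characters of `SL(2, q)`
-/

set_option autoImplicit false
set_option linter.unusedSectionVars false
set_option linter.style.haveILetI false

namespace CfsgLib.Char.TwoChars

open Matrix Cfsg CfsgLib.Char
open scoped ComplexConjugate

variable {F : Type*} [Field F] [Fintype F] [DecidableEq F]

local notation "M2" => Matrix (Fin 2) (Fin 2) F
local notation "G2" => Matrix.GeneralLinearGroup (Fin 2) F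
local notation "S2" => Matrix.SpecialLinearGroup (Fin 2) F
local notation "qF" => Fintype.card F
local notation "ι₂" => (Matrix.SpecialLinearGroup.toGL : S2 →* G2)

theorem card_sl_two : Nat.card S2 = (qF + 1) * ((qF - 1) * qF) := by
  rw [← Nat.card_eq_of_bijective _ (lineRepS_bijective (F := F)), Nat.card_prod, card_borelSL,
    Nat.card_eq_fintype_card, Fintype.card_option]

theorem elS_one_zero : elS (1 : Fˣ) (0 : F) = 1 := Subtype.ext (by
  rw [elS_val]; ext i j; fin_cases i <;> fin_cases j <;> simp)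

/-- Conjugation by `diag(ν, 1)`. -/
def sigS (ν : Fˣ) : S2 ≃* S2 where
  toFun g := ⟨!![g.1 0 0, (ν : F) * g.1 0 1; ((ν⁻¹ : Fˣ) : F) * g.1 1 0, g.1 1 1], by
    have := g.det_coe
    rw [Matrix.det_fin_two] at this
    rw [Matrix.det_fin_two_of, mul_mul_mul_comm, Units.mul_inv, one_mul]
    exact this⟩
  invFun g := ⟨!![g.1 0 0, ((ν⁻¹ : Fˣ) : F) * g.1 0 1; (ν : F) * g.1 1 0, g.1 1 1], by
    have := g.det_coe
    rw [Matrix.det_fin_two] at this
    rw [Matrix.det_fin_two_of, mul_mul_mul_comm, Units.inv_mul, one_mul]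
    exact this⟩
  left_inv g := Subtype.ext (by ext i j; fin_cases i <;> fin_cases j <;> simp)
  right_inv g := Subtype.ext (by ext i j; fin_cases i <;> fin_cases j <;> simp)
  map_mul' g h := Subtype.ext (by
    have hν : (ν : F) * ((ν⁻¹ : Fˣ) : F) = 1 := Units.mul_inv ν
    show !![(g.1 * h.1) 0 0, (ν : F) * (g.1 * h.1) 0 1; ((ν⁻¹ : Fˣ) : F) * (g.1 * h.1) 1 0, (g.1 * h.1) 1 1] =
      !![g.1 0 0, (ν : F) * g.1 0 1; ((ν⁻¹ : Fˣ) : F) * g.1 1 0, g.1 1 1] *
        !![h.1 0 0, (ν : F) * h.1 0 1; ((ν⁻¹ : Fˣ) : F) * h.1 1 0, h.1 1 1]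
    ext i j
    fin_cases i <;> fin_cases j <;> simp [Matrix.mul_apply, Fin.sum_univ_two] <;>
      field_simp <;> ring)

theorem sigS_val (ν : Fˣ) (g : S2) :
    (sigS ν g).1 = !![g.1 0 0, (ν : F) * g.1 0 1; ((ν⁻¹ : Fˣ) : F) * g.1 1 0, g.1 1 1] := rfl

theorem sigS_toGL (ν : Fˣ) (g : S2) : ι₂ (sigS ν g) = (mkB ν 1 0).1 * ι₂ g * (mkB ν 1 0).1⁻¹ := by
  rw [eq_mul_inv_iff_mul_eq]
  apply Units.ext
  rw [Units.val_mul, Units.val_mul, toGL_val, toGL_val, mkB_val]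
  ext i j
  fin_cases i <;> fin_cases j <;> simp [sigS_val, Matrix.mul_apply, Fin.sum_univ_two] <;> field_simp

theorem sigS_elS (ν a : Fˣ) (x : F) : sigS ν (elS a x) = elS a ((ν : F) * x) := Subtype.ext (by
  rw [elS_val]
  ext i j
  fin_cases i <;> fin_cases j <;> simp [sigS_val, elS_val])

theorem psSL_sigS (α : MulChar F ℂ) (ν : Fˣ) (g : S2) : psSL α (sigS ν g) = psSL α g :=
  psSL_conj α (sigS_toGL ν g)

theorem classInner_comp_sigS (ν : Fˣ) (φ ψ : S2 → ℂ) :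
    classInner (fun g => φ (sigS ν g)) (fun g => ψ (sigS ν g)) = classInner φ ψ := by
  rw [classInner, classInner]
  congr 1
  exact (sigS ν).toEquiv.sum_comp (fun g => φ g * conj (ψ g))

/-- `1` and `ν` represent the classes of transvections, and `ν` interchanges them. -/
def RepUnip (ν : Fˣ) : Prop :=
  ∀ x : F, x ≠ 0 →
    (IsConj (elS 1 x) (elS (1 : Fˣ) (1 : F)) ∧ IsConj (elS 1 ((ν : F) * x)) (elS (1 : Fˣ) (ν : F))) ∨
    (IsConj (elS 1 x) (elS (1 : Fˣ) (ν : F)) ∧ IsConj (elS 1 ((ν : F) * x)) (elS (1 : Fˣ) (1 : F)))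

theorem elS_one_eq_jor (x : F) : elS (1 : Fˣ) x = TwoClasses.jor ⟨1, one_pow 2⟩ x := Subtype.ext (by
  rw [elS_val]; ext i j; fin_cases i <;> fin_cases j <;> simp [TwoClasses.jor])

theorem elS_one_isConj_iff (hodd : Odd qF) {x y : F} (hx : x ≠ 0) (hy : y ≠ 0) :
    IsConj (elS (1 : Fˣ) x) (elS 1 y) ↔ IsSquare (x * y) := by
  rw [elS_one_eq_jor, elS_one_eq_jor]
  exact TwoClasses.jor_isConj_iff hodd _ hx hy

theorem repUnip_odd (hodd : Odd qF) {ν : Fˣ} (hν : ¬ IsSquare (ν : F)) : RepUnip ν := by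
  intro x hx
  have hνx : (ν : F) * x ≠ 0 := mul_ne_zero ν.ne_zero hx
  rw [elS_one_isConj_iff hodd hx one_ne_zero, elS_one_isConj_iff hodd hνx ν.ne_zero,
    elS_one_isConj_iff hodd hx ν.ne_zero, elS_one_isConj_iff hodd hνx one_ne_zero, mul_one, mul_one,
    mul_comm x (ν : F)]
  rcases TwoClasses.isSquare_mul_cases hν x hx with ⟨s, hs⟩ | h
  · exact Or.inl ⟨⟨s, hs⟩, ⟨(ν : F) * s, by rw [hs]; ring⟩⟩
  · exact Or.inr ⟨h, h⟩

theorem repUnip_even (h2 : ringChar F = 2) : RepUnip (1 : Fˣ) := by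
  intro x hx
  have : ∀ y : F, y ≠ 0 → IsConj (elS (1 : Fˣ) y) (elS (1 : Fˣ) (1 : F)) := fun y hy =>
    TwoClasses.sl_isConj_of_trace (fun h => hy (by simpa [elS_val] using h.1))
      (fun h => one_ne_zero (α := F) (by simpa [elS_val] using h.1))
      (by simp [elS_val, Matrix.trace_fin_two]) (Or.inr h2)
  left
  simp only [Units.val_one, one_mul]
  exact ⟨this x hx, this x hx⟩

theorem exists_repUnip : ∃ ν : Fˣ, RepUnip ν := by
  by_cases h2 : ringChar F = 2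
  · exact ⟨1, repUnip_even h2⟩
  · obtain ⟨ν, hν⟩ := FiniteField.exists_nonsquare h2
    have hν0 : ν ≠ 0 := fun h => hν (h ▸ IsSquare.zero)
    refine ⟨Units.mk0 ν hν0, repUnip_odd ?_ hν⟩
    have := FiniteField.odd_card_of_char_ne_two h2
    exact Nat.odd_iff.2 this

theorem unip_sum {h : S2 → ℂ} (hh : IsClassFunction S2 h) {ν : Fˣ} (hν : RepUnip ν) :
    2 * ∑ x : F, h (elS 1 x) =
      2 * h 1 + ((qF - 1 : ℕ) : ℂ) * (h (elS (1 : Fˣ) (1 : F)) + h (elS (1 : Fˣ) (ν : F))) := by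
  classical
  have hperm : ∑ x : F, h (elS 1 ((ν : F) * x)) = ∑ x : F, h (elS 1 x) :=
    Fintype.sum_bijective _ (mulLeft_bijective₀ (ν : F) ν.ne_zero) _ _ fun x => rfl
  rw [two_mul]
  nth_rewrite 2 [← hperm]
  rw [← Finset.sum_add_distrib, ← Finset.add_sum_erase _ _ (Finset.mem_univ (0 : F)), mul_zero, elS_one_zero]
  have : ∀ x ∈ Finset.univ.erase (0 : F), h (elS 1 x) + h (elS 1 ((ν : F) * x)) =
      h (elS (1 : Fˣ) (1 : F)) + h (elS (1 : Fˣ) (ν : F)) := by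
    intro x hx
    rcases hν x (Finset.mem_erase.1 hx).1 with ⟨a, b⟩ | ⟨a, b⟩
    · rw [classFun_isConj hh a, classFun_isConj hh b]
    · rw [classFun_isConj hh a, classFun_isConj hh b, add_comm]
  rw [Finset.sum_congr rfl this, Finset.sum_const, Finset.card_erase_of_mem (Finset.mem_univ _),
    Finset.card_univ, nsmul_eq_mul]
  ring

theorem cuspSL_sum {χ : S2 → ℂ} (hχ : IsClassFunction S2 χ) (hc : IsCuspSL χ) (a : Fˣ) :
    ∑ x : F, χ (elS a x) = 0 := by
  have h1 : ∀ α : MulChar F ℂ, ∑ a : Fˣ, α a * ∑ x : F, conj (χ (elS a x)) = 0 := fun α => by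
    have := hc α
    rw [classInner_psSL α hχ] at this
    exact (mul_eq_zero.1 this).resolve_left (inv_ne_zero borelSL_card_ne)
  have h3 := fourier_zero (fun a => ∑ x : F, conj (χ (elS a x))) h1 a
  rw [← map_sum] at h3
  exact (map_eq_zero (starRingEnd ℂ)).1 h3

theorem elS_split_isConj {a : Fˣ} (h : (a : F) ≠ ((a⁻¹ : Fˣ) : F)) (x : F) : IsConj (elS a x) (elS a 0) := by
  refine TwoClasses.sl_isConj_of_trace (fun hs => h (by simpa [elS_val] using hs.2.2))
    (fun hs => h (by simpa [elS_val] using hs.2.2)) (by simp [elS_val, Matrix.trace_fin_two]) (Or.inl ?_)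
  have e : (a : F) * ((a⁻¹ : Fˣ) : F) = 1 := Units.mul_inv a
  simp only [elS_val, Matrix.trace_fin_two, TwoClasses.dsc]
  intro h0
  refine h (sub_eq_zero.1 ((pow_eq_zero_iff two_ne_zero).1 ?_))
  simp only [Matrix.of_apply, Matrix.cons_val', Matrix.cons_val_zero, Matrix.cons_val_one,
    Matrix.empty_val', Matrix.cons_val_fin_one] at h0
  linear_combination h0 - 4 * e

theorem cuspSL_split {χ : S2 → ℂ} (hχ : IsClassFunction S2 χ) (hc : IsCuspSL χ) {a : Fˣ}
    (h : (a : F) ≠ ((a⁻¹ : Fˣ) : F)) : χ (elS a 0) = 0 := by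
  have h1 := cuspSL_sum hχ hc a
  rw [Finset.sum_congr rfl fun x _ => classFun_isConj hχ (elS_split_isConj h x), Finset.sum_const,
    Finset.card_univ, nsmul_eq_mul] at h1
  exact (mul_eq_zero.1 h1).resolve_left (by exact_mod_cast Fintype.card_ne_zero)

theorem exists_gl_constituent (χ : IrrCharacter S2) :
    ∃ θ : IrrCharacter G2, classInner (fun g : S2 => (θ : G2 → ℂ) (ι₂ g)) (χ : S2 → ℂ) ≠ 0 := by
  classical
  haveI := Fintype.ofFinite (IrrCharacter G2)
  by_contra hc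
  push Not at hc
  have h0 : classInner (fun g : S2 => (Representation.leftRegular ℂ G2).character (ι₂ g)) (χ : S2 → ℂ) = 0 := by
    rw [regular_char_expand]
    simp only [Finset.sum_apply, Pi.smul_apply]
    rw [show (fun g : S2 => ∑ θ : IrrCharacter G2, (θ : G2 → ℂ) 1 • (θ : G2 → ℂ) (ι₂ g)) =
        ∑ θ : IrrCharacter G2, (θ : G2 → ℂ) 1 • fun g : S2 => (θ : G2 → ℂ) (ι₂ g) from by
      funext g; simp [Finset.sum_apply], classInner_sum_left]
    refine Finset.sum_eq_zero fun θ _ => ?_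
    rw [classInner_smul_left, hc θ, mul_zero]
  have hinj : ∀ g : S2, ι₂ g = 1 ↔ g = 1 := fun g =>
    ⟨fun h => Subtype.ext (congrArg Units.val h), fun h => h ▸ map_one _⟩
  simp only [regular_char, classInner, hinj, ite_mul, zero_mul, Finset.sum_ite_eq', Finset.mem_univ, if_true,
    conj_irr_one, mul_eq_zero, inv_eq_zero] at h0
  have hG : (Nat.card G2 : ℂ) ≠ 0 := by exact_mod_cast Nat.card_pos.ne'
  have hS : (Nat.card S2 : ℂ) ≠ 0 := by exact_mod_cast Nat.card_pos.ne'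
  rcases h0 with h | h | h
  · exact hS h
  · exact hG h
  · exact irr_one_ne_zero χ h

theorem cusp_gl_constituent (χ : IrrCharacter S2) (hc : IsCuspSL (χ : S2 → ℂ)) :
    ∃ θ : IrrCharacter G2, IsCuspGL (θ : G2 → ℂ) ∧
      IsCharacter S2 ((fun g : S2 => (θ : G2 → ℂ) (ι₂ g)) - (χ : S2 → ℂ)) := by
  obtain ⟨θ, hθ⟩ := exists_gl_constituent χ
  refine ⟨θ, ?_, isCharacter_sub_constituent (isCharacter_comp (isCharacter_irr θ) ι₂) χ hθ⟩
  by_contra hg
  simp only [IsCuspGL, not_forall] at hg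
  obtain ⟨α, β, hab⟩ := hg
  have hr := isCharacter_sub_constituent (isCharacter_psGL α β) θ hab
  obtain ⟨k, hk⟩ := classInner_char_irr_nat (isCharacter_comp (isCharacter_irr θ) ι₂) χ
  obtain ⟨l, hl⟩ := classInner_char_irr_nat (isCharacter_comp hr ι₂) χ
  have e : (psSL (α * β⁻¹) : S2 → ℂ) =
      (fun g : S2 => (θ : G2 → ℂ) (ι₂ g)) + fun g : S2 => (psGL α β - (θ : G2 → ℂ)) (ι₂ g) := by
    funext g
    simp [psGL_restrict]
  have h := hc (α * β⁻¹)
  rw [e, classInner_add_left, hk, hl] at h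
  have : k + l = 0 := by exact_mod_cast h
  exact hθ (by rw [hk, show k = 0 by omega, Nat.cast_zero])

theorem cuspGL_unip_val (θ : IrrCharacter G2) (hg : IsCuspGL (θ : G2 → ℂ)) {x : F} (hx : x ≠ 0) :
    (θ : G2 → ℂ) (ι₂ (elS 1 x)) = -1 := by
  rw [← ((gl_table (F := F)).1 θ hg).2, elS_toGL]
  simp only [inv_one]
  exact classFun_isConj (isClassFunction_irr θ) (mkB_isConj_one hx)

/-- The two kinds of cuspidal characters. -/
theorem cusp_dichotomy (χ : IrrCharacter S2) (hc : IsCuspSL (χ : S2 → ℂ)) {ν : Fˣ} (hν : RepUnip ν) :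
    ((χ : S2 → ℂ) 1 = (qF : ℂ) - 1 ∧ ∀ x : F, x ≠ 0 → (χ : S2 → ℂ) (elS 1 x) = -1) ∨
    (2 * (χ : S2 → ℂ) 1 = (qF : ℂ) - 1 ∧
      (χ : S2 → ℂ) (elS (1 : Fˣ) (1 : F)) + (χ : S2 → ℂ) (elS (1 : Fˣ) (ν : F)) = -1 ∧
      (χ : S2 → ℂ) (elS (1 : Fˣ) (1 : F)) ≠ (χ : S2 → ℂ) (elS (1 : Fˣ) (ν : F))) := by
  have hcf := isClassFunction_irr χ
  have h := unip_sum hcf hν
  rw [cuspSL_sum hcf hc 1, mul_zero] at h
  obtain ⟨D, hD⟩ := isCharacter_degree (isCharacter_irr χ)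
  set s := (χ : S2 → ℂ) (elS (1 : Fˣ) (1 : F)) + (χ : S2 → ℂ) (elS (1 : Fˣ) (ν : F)) with hs
  have hq : 0 < qF - 1 := Nat.sub_pos_of_lt Fintype.one_lt_card
  have hint : IsIntegral ℤ s :=
    (isCharacter_isIntegral (isCharacter_irr χ) _).add (isCharacter_isIntegral (isCharacter_irr χ) _)
  obtain ⟨m, hm⟩ := exists_int_of_rat hint (a := -2 * (D : ℤ)) hq.ne' (by
    push_cast; rw [hD] at h; linear_combination -h)
  obtain ⟨θ, hg, hr⟩ := cusp_gl_constituent χ hc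
  have hθ1 : (θ : G2 → ℂ) (ι₂ 1) = (qF : ℂ) - 1 := by rw [map_one]; exact ((gl_table (F := F)).1 θ hg).1
  obtain ⟨E, hE⟩ := isCharacter_degree hr
  have hDE : D + E = qF - 1 := by
    have h' : ((D + E : ℕ) : ℂ) = ((qF - 1 : ℕ) : ℂ) := by
      rw [Nat.cast_add, ← hD, ← hE, cast_qF, ← hθ1, Pi.sub_apply]
      ring
    exact_mod_cast h'
  have hD0 : D ≠ 0 := fun e => irr_one_ne_zero χ (by rw [hD, e, Nat.cast_zero])
  rw [hm, hD] at h
  have hz : ((0 : ℤ) : ℂ) = ((2 * (D : ℤ) + ((qF - 1 : ℕ) : ℤ) * m : ℤ) : ℂ) := by push_cast; linear_combination h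
  have hz' : 2 * (D : ℤ) + ((qF - 1 : ℕ) : ℤ) * m = 0 := by exact_mod_cast hz.symm
  have hlt : m < 0 := by
    by_contra hcon
    have : 0 ≤ ((qF - 1 : ℕ) : ℤ) * m := mul_nonneg (by positivity) (not_lt.1 hcon)
    omega
  have hge : -2 ≤ m := by
    by_contra hcon
    have : ((qF - 1 : ℕ) : ℤ) * m ≤ ((qF - 1 : ℕ) : ℤ) * (-3) :=
      mul_le_mul_of_nonneg_left (by omega) (by positivity)
    omega
  rcases (show m = -2 ∨ m = -1 by omega) with rfl | rfl
  · left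
    have hDq : D = qF - 1 := by omega
    have hE0 : E = 0 := by omega
    have heq := sub_eq_zero.1 (isCharacter_eq_zero_of_degree hr (by rw [hE, hE0, Nat.cast_zero]))
    refine ⟨by rw [hD, hDq, cast_qF], fun x hx => ?_⟩
    rw [← congrFun heq (elS 1 x)]
    exact cuspGL_unip_val θ hg hx
  · right
    refine ⟨?_, by rw [hm]; norm_num, fun he => ?_⟩
    · rw [hD, ← cast_qF]
      push_cast at h ⊢
      linear_combination -h
    · have h2 : (2 : ℂ) * (χ : S2 → ℂ) (elS (1 : Fˣ) (1 : F)) = ((-1 : ℤ) : ℂ) := by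
        rw [← hm, hs, ← he]; ring
      obtain ⟨k, hk⟩ := exists_int_of_rat (isCharacter_isIntegral (isCharacter_irr χ) _) (b := 2) two_ne_zero h2
      rw [hk] at h2
      have : (2 : ℤ) * k = -1 := by exact_mod_cast h2
      omega

/-! ### quadratic characters -/

theorem quad_apply_sq {α : MulChar F ℂ} (h2 : α ^ 2 = 1) {a : F} (ha : a ≠ 0) (hs : IsSquare a) : α a = 1 := by
  obtain ⟨s, rfl⟩ := hs
  have hs0 : s ≠ 0 := fun h => ha (by rw [h, mul_zero])
  have := congrArg (fun β : MulChar F ℂ => β s) h2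
  simp only [pow_two, MulChar.mul_apply, MulChar.one_apply hs0.isUnit] at this
  rw [map_mul]; exact this

theorem quad_apply_nonsq {α : MulChar F ℂ} (h2 : α ^ 2 = 1) (h1 : α ≠ 1) {a : F} (hs : ¬ IsSquare a) :
    α a = -1 := by
  have ha : a ≠ 0 := fun h => hs (h ▸ IsSquare.zero)
  have := congrArg (fun β : MulChar F ℂ => β a) h2
  simp only [pow_two, MulChar.mul_apply, MulChar.one_apply ha.isUnit] at this
  refine (mul_self_eq_one_iff.1 this).resolve_left fun hh => h1 (MulChar.ext fun u => ?_)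
  rw [MulChar.one_apply_coe]
  rcases TwoClasses.isSquare_mul_cases hs (u : F) u.ne_zero with h | h
  · exact quad_apply_sq h2 u.ne_zero h
  · have h' := quad_apply_sq h2 (mul_ne_zero ha u.ne_zero) h
    rw [map_mul, hh, one_mul] at h'
    exact h'

theorem quad_unique {α β : MulChar F ℂ} (ha2 : α ^ 2 = 1) (ha1 : α ≠ 1) (hb2 : β ^ 2 = 1) (hb1 : β ≠ 1) :
    α = β := MulChar.ext fun u => by
  by_cases h : IsSquare (u : F)
  · rw [quad_apply_sq ha2 u.ne_zero h, quad_apply_sq hb2 u.ne_zero h]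
  · rw [quad_apply_nonsq ha2 ha1 h, quad_apply_nonsq hb2 hb1 h]

theorem exists_quad (hodd : Odd qF) : ∃ α : MulChar F ℂ, α ^ 2 = 1 ∧ α ≠ 1 := by
  refine ⟨(quadraticChar F).ringHomComp (Int.castRingHom ℂ), ?_, ?_⟩
  · exact ((quadraticChar_isQuadratic F).comp (Int.castRingHom ℂ)).sq_eq_one
  · exact (MulChar.ringHomComp_ne_one_iff Int.cast_injective).2
      (quadraticChar_ne_one (TwoClasses.ringChar_ne_two_of_odd hodd))

theorem quad_odd {α : MulChar F ℂ} (h2 : α ^ 2 = 1) (h1 : α ≠ 1) : Odd qF := by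
  by_contra he
  refine h1 (MulChar.ext fun u => ?_)
  rw [MulChar.one_apply_coe]
  refine quad_apply_sq h2 u.ne_zero (FiniteField.isSquare_of_char_two ?_ _)
  by_contra hne
  exact he (Nat.odd_iff.2 (FiniteField.odd_card_of_char_ne_two hne))

end CfsgLib.Char.TwoChars
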