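import Mathlib

/-!
# Fibre powers over a quotient by a subgroup of prime exponent have the same element orders
-/

set_option autoImplicit false
set_option linter.style.haveILetI false

open scoped commutatorElement

namespace CfsgLib.Char

universe u

variable {G : Type u} [Group G]

/-- Tuples whose components agree modulo `V`. -/
def fibrePow (V : Subgroup G) [V.Normal] (ι : Type) : Subgroup (ι → G) :=
  Subgroup.comap (Pi.monoidHom fun i => (QuotientGroup.mk' V).comp (Pi.evalMonoidHom (fun _ : ι => G) i))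
    (Pi.monoidHom fun _ : ι => MonoidHom.id (G ⧸ V)).range

theorem mem_fibrePow {V : Subgroup G} [V.Normal] {ι : Type} {f : ι → G} :
    f ∈ fibrePow V ι ↔ ∃ c : G ⧸ V, ∀ i, QuotientGroup.mk (f i) = c := by
  rw [fibrePow, Subgroup.mem_comap, MonoidHom.mem_range]
  exact exists_congr fun c => ⟨fun h i => (congrFun h i).symm, fun h => funext fun i => (h i).symm⟩

theorem exists_component_orderOf [Finite G] {V : Subgroup G} [V.Normal] {p : ℕ} (hp : p.Prime)
    (hV : ∀ v ∈ V, v ^ p = 1) {ι : Type} [Nonempty ι] {f : ι → G} {c : G ⧸ V}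
    (h : ∀ i, QuotientGroup.mk (f i) = c) : ∃ i, orderOf f = orderOf (f i) := by
  have hdvd : ∀ i, orderOf c ∣ orderOf (f i) := fun i => by
    rw [← h i]; exact orderOf_map_dvd (QuotientGroup.mk' V) (f i)
  have hmem : ∀ i, f i ^ orderOf c ∈ V := fun i => by
    rw [← QuotientGroup.eq_one_iff, QuotientGroup.mk_pow, h i, pow_orderOf_eq_one]
  by_cases h1 : ∀ i, f i ^ orderOf c = 1
  · obtain ⟨i⟩ := ‹Nonempty ι›
    refine ⟨i, Nat.dvd_antisymm ?_ (orderOf_map_dvd (Pi.evalMonoidHom (fun _ : ι => G) i) f)⟩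
    exact (orderOf_dvd_of_pow_eq_one (funext h1)).trans (hdvd i)
  · push Not at h1
    obtain ⟨i, hi⟩ := h1
    refine ⟨i, Nat.dvd_antisymm ?_ (orderOf_map_dvd (Pi.evalMonoidHom (fun _ : ι => G) i) f)⟩
    haveI : Fact p.Prime := ⟨hp⟩
    have e := orderOf_eq_prime (hV _ (hmem i)) hi
    rw [orderOf_pow_of_dvd (fun h0 => hi (by rw [h0, pow_zero])) (hdvd i)] at e
    have e2 : orderOf (f i) = orderOf c * p := by rw [← e, Nat.mul_div_cancel' (hdvd i)]
    rw [e2]
    refine orderOf_dvd_of_pow_eq_one (funext fun j => ?_)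
    rw [Pi.pow_apply, pow_mul, hV _ (hmem j), Pi.one_apply]

theorem range_orderOf_fibrePow [Finite G] {V : Subgroup G} [V.Normal] {p : ℕ} (hp : p.Prime)
    (hV : ∀ v ∈ V, v ^ p = 1) (ι : Type) [Nonempty ι] :
    Set.range (orderOf : fibrePow V ι → ℕ) = Set.range (orderOf : G → ℕ) := by
  ext n
  constructor
  · rintro ⟨⟨f, hf⟩, rfl⟩
    obtain ⟨c, hc⟩ := mem_fibrePow.1 hf
    obtain ⟨i, hi⟩ := exists_component_orderOf hp hV hc
    exact ⟨f i, by rw [Subgroup.orderOf_mk, hi]⟩
  · rintro ⟨g, rfl⟩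
    refine ⟨⟨fun _ => g, mem_fibrePow.2 ⟨_, fun _ => rfl⟩⟩, ?_⟩
    rw [Subgroup.orderOf_mk]
    exact orderOf_injective (Pi.monoidHom fun _ : ι => MonoidHom.id G)
      (fun a b h => congrFun h (Classical.arbitrary ι)) g

theorem card_le_card_fibrePow [Finite G] (V : Subgroup G) [V.Normal] (ι : Type) [Finite ι] :
    Nat.card V ^ Nat.card ι ≤ Nat.card (fibrePow V ι) := by
  rw [← Nat.card_fun]
  refine Nat.card_le_card_of_injective
    (fun x : ι → V => (⟨fun i => (x i : G), mem_fibrePow.2 ⟨1, fun i => (QuotientGroup.eq_one_iff _).2 (x i).2⟩⟩ :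
      fibrePow V ι)) fun a b h => ?_
  exact funext fun i => Subtype.ext (congrFun (congrArg Subtype.val h) i)

/-- A finite group is isomorphic to a group on a type in the lowest universe. -/
theorem exists_type_zero (G : Type u) [Group G] [Finite G] :
    ∃ (H : Type) (_ : Group H) (_ : Fintype H), Nonempty (H ≃* G) := by
  let e := (Finite.equivFin G).symm
  letI : Group (Fin (Nat.card G)) := e.group
  exact ⟨Fin (Nat.card G), inferInstance, inferInstance, ⟨e.mulEquiv⟩⟩

theorem range_orderOf_congr {G : Type*} [Group G] {H : Type*} [Group H] (e : H ≃* G) :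
    Set.range (orderOf : H → ℕ) = Set.range (orderOf : G → ℕ) := by
  rw [← e.toEquiv.surjective.range_comp (orderOf : G → ℕ)]
  congr 1
  funext x
  exact (MulEquiv.orderOf_eq e x).symm

theorem exists_normal_exponent_prime [Finite G] (K : Subgroup G) [K.Normal] (hK : K ≠ ⊥) (hs : Group.IsSolvable K) :
    ∃ (V : Subgroup G) (_ : V.Normal) (p : ℕ), p.Prime ∧ V ≠ ⊥ ∧ ∀ v ∈ V, v ^ p = 1 := by
  haveI := hs
  haveI : Nontrivial K := (Subgroup.nontrivial_iff_ne_bot K).2 hK
  classical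
  obtain ⟨n, hn⟩ := (Group.isSolvable_def K).1 hs
  have hex : ∃ n, derivedSeries K n = ⊥ := ⟨n, hn⟩
  have hm0 : Nat.find hex ≠ 0 := fun h => by
    have := Nat.find_spec hex
    rw [h, derivedSeries_zero] at this
    exact top_ne_bot this
  obtain ⟨m, hm⟩ := Nat.exists_eq_succ_of_ne_zero hm0
  set D := derivedSeries K m with hD
  have hD1 : D ≠ ⊥ := fun h => Nat.find_min hex (by omega : m < Nat.find hex) h
  have hcomm : ∀ a ∈ D, ∀ b ∈ D, a * b = b * a := fun a ha b hb => by
    have h : ⁅a, b⁆ ∈ derivedSeries K (m + 1) := Subgroup.commutator_mem_commutator ha hb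
    rw [← Nat.succ_eq_add_one, ← hm, Nat.find_spec hex, Subgroup.mem_bot, commutatorElement_eq_one_iff_mul_comm] at h
    exact h
  let A : Subgroup G := D.map K.subtype
  haveI : D.Characteristic := derivedSeries_characteristic K m
  haveI : A.Normal := ConjAct.normal_of_characteristic_of_normal
  haveI : Nontrivial A := (Subgroup.nontrivial_iff_ne_bot A).2 (fun h => hD1
    ((Subgroup.map_eq_bot_iff_of_injective _ K.subtype_injective).1 h))
  obtain ⟨p, hp, hpd⟩ := Nat.exists_prime_and_dvd (Finite.one_lt_card (α := A)).ne'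
  haveI : Fact p.Prime := ⟨hp⟩
  let V : Subgroup G :=
    { carrier := {a | a ∈ A ∧ a ^ p = 1}
      one_mem' := ⟨one_mem A, one_pow p⟩
      mul_mem' := fun {a b} ha hb => ⟨mul_mem ha.1 hb.1, by
        obtain ⟨x, hx, rfl⟩ := ha.1
        obtain ⟨y, hy, rfl⟩ := hb.1
        rw [Commute.mul_pow (show Commute (K.subtype x) (K.subtype y) from congrArg K.subtype (hcomm x hx y hy)),
          ha.2, hb.2, one_mul]⟩
      inv_mem' := fun {a} ha => ⟨inv_mem ha.1, by rw [inv_pow, ha.2, inv_one]⟩ }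
  refine ⟨V, ⟨fun a ha g => ⟨Subgroup.Normal.conj_mem ‹A.Normal› a ha.1 g, by rw [conj_pow, ha.2]; simp⟩⟩, p, hp, ?_,
    fun v hv => hv.2⟩
  obtain ⟨x, hx⟩ := exists_prime_orderOf_dvd_card' (G := A) p hpd
  intro h
  have hxV : (x : G) ∈ V := ⟨x.2, congrArg Subtype.val (hx ▸ pow_orderOf_eq_one x)⟩
  rw [h, Subgroup.mem_bot] at hxV
  have : x = 1 := Subtype.ext hxV
  rw [this, orderOf_one] at hx
  exact hp.one_lt.ne hx

/-- Unboundedly many groups with the same element orders. -/
theorem exists_large_isospectral [Finite G] {V : Subgroup G} [V.Normal] {p : ℕ} (hp : p.Prime)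
    (hV : ∀ v ∈ V, v ^ p = 1) (hne : V ≠ ⊥) (N : ℕ) :
    ∃ (H : Type) (_ : Group H) (_ : Fintype H), N < Fintype.card H ∧
      Set.range (orderOf : H → ℕ) = Set.range (orderOf : G → ℕ) := by
  haveI : Nontrivial V := (Subgroup.nontrivial_iff_ne_bot V).2 hne
  have h2 : 2 ≤ Nat.card V := Finite.one_lt_card
  obtain ⟨H, i, j, ⟨e⟩⟩ := exists_type_zero (fibrePow V (Fin (N + 1)))
  refine ⟨H, i, j, ?_, (range_orderOf_congr e).trans (range_orderOf_fibrePow hp hV _)⟩
  rw [← Nat.card_eq_fintype_card, Nat.card_congr e.toEquiv]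
  refine lt_of_lt_of_le ?_ (card_le_card_fibrePow V (Fin (N + 1)))
  rw [Nat.card_fin]
  exact lt_of_lt_of_le (Nat.lt_trans (Nat.lt_succ_self N) Nat.lt_two_pow_self) (Nat.pow_le_pow_left h2 _)

end CfsgLib.Char
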