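import Cfsg.Agent.Lib.Char.JacobiTrudi
import Cfsg.Agent.Lib.Char.Perm
import Cfsg.Prelude.Def_LinearParabolics

/-!
# Double cosets of standard parabolic subgroups of `GL_n` and of Young subgroups of `S_n`
-/

set_option autoImplicit false
set_option linter.unusedSectionVars false
set_option linter.style.haveILetI false

namespace CfsgLib.Char.FlagCosets

open Cfsg JacobiTrudi Finset Matrix
open scoped ComplexConjugate

variable {n : ℕ}

/-! ### block labels -/

/-- Partial sums. -/
def start (μ : Fin n → ℕ) (c : ℕ) : ℕ := ∑ k ∈ univ.filter (fun k : Fin n => k.val < c), μ k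

theorem start_mono (μ : Fin n → ℕ) {c d : ℕ} (h : c ≤ d) : start μ c ≤ start μ d :=
  Finset.sum_le_sum_of_subset (Finset.monotone_filter_right _ fun _ _ hk => lt_of_lt_of_le hk h)

theorem start_succ (μ : Fin n → ℕ) (a : Fin n) : start μ (a.val + 1) = start μ a.val + μ a := by
  rw [start, start, add_comm _ (μ a), ← Finset.sum_insert (s := univ.filter (fun k : Fin n => k.val < a.val)) (by simp)]
  congr 1
  ext k
  simp [Fin.ext_iff]
  omega

theorem start_all (μ : Fin n → ℕ) : start μ n = ∑ i, μ i := by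
  rw [start, Finset.filter_true_of_mem fun k _ => k.isLt]

theorem sum_le_eq_start (μ : Fin n → ℕ) (j : Fin n) :
    (∑ k ∈ univ.filter (fun k : Fin n => k ≤ j), μ k) = start μ (j.val + 1) := by
  rw [start]
  refine Finset.sum_congr (Finset.ext fun k => ?_) fun _ _ => rfl
  simp only [Finset.mem_filter, Finset.mem_univ, true_and, Fin.le_def]
  omega

theorem compLabel_lt_iff (μ : Fin n → ℕ) (i : Fin n) {c : ℕ} (hc : c ≤ n) :
    compLabel μ i < c ↔ i.val < start μ c := by
  rw [compLabel]
  simp only [sum_le_eq_start]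
  constructor
  · intro h
    by_contra hh
    push Not at hh
    have hsub : (univ.filter fun j : Fin n => j.val < c) ⊆ univ.filter fun j : Fin n => start μ (j.val + 1) ≤ i.val := by
      intro j hj
      simp only [mem_filter, mem_univ, true_and] at hj ⊢
      exact (start_mono μ hj).trans hh
    have := Finset.card_le_card hsub
    rw [Fin.card_filter_val_lt, Nat.min_eq_right hc] at this
    omega
  · intro h
    rcases Nat.eq_zero_or_pos c with rfl | hpos
    · simp [start] at h
    have hsub : (univ.filter fun j : Fin n => start μ (j.val + 1) ≤ i.val) ⊆ univ.filter fun j : Fin n => j.val < c - 1 := by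
      intro j hj
      simp only [mem_filter, mem_univ, true_and] at hj ⊢
      by_contra hh
      push Not at hh
      exact absurd (lt_of_lt_of_le h ((start_mono μ (show c ≤ j.val + 1 by omega)).trans hj)) (lt_irrefl _)
    have := Finset.card_le_card hsub
    rw [Fin.card_filter_val_lt] at this
    omega

theorem compLabel_mono (μ : Fin n → ℕ) {i j : Fin n} (h : i ≤ j) : compLabel μ i ≤ compLabel μ j :=
  Finset.card_le_card (Finset.monotone_filter_right _ fun _ _ hk => hk.trans h)

variable {μ ν : Fin n → ℕ}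

theorem compLabel_lt (hμ : ∑ i, μ i = n) (i : Fin n) : compLabel μ i < n := by
  rw [compLabel_lt_iff μ i le_rfl, start_all, hμ]
  exact i.isLt

theorem start_le_n (hμ : ∑ i, μ i = n) {c : ℕ} (hc : c ≤ n) : start μ c ≤ n :=
  (start_mono μ hc).trans (le_of_eq ((start_all μ).trans hμ))

/-- The label as an index. -/
def lab (hμ : ∑ i, μ i = n) (i : Fin n) : Fin n := ⟨compLabel μ i, compLabel_lt hμ i⟩

theorem lab_eq_iff (hμ : ∑ i, μ i = n) (i a : Fin n) :
    lab hμ i = a ↔ start μ a.val ≤ i.val ∧ i.val < start μ a.val + μ a := by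
  rw [← start_succ, ← compLabel_lt_iff μ i a.isLt, ← not_lt, ← compLabel_lt_iff μ i a.isLt.le, lab, Fin.ext_iff]
  simp only
  omega

theorem card_lab_eq (hμ : ∑ i, μ i = n) (a : Fin n) :
    (univ.filter fun i => lab hμ i = a).card = μ a := by
  have h1 : start μ a.val + μ a ≤ n := (start_succ μ a) ▸ start_le_n hμ a.isLt
  rw [show (univ.filter fun i => lab hμ i = a) =
      (univ.filter fun i : Fin n => i.val < start μ a.val + μ a) \ (univ.filter fun i : Fin n => i.val < start μ a.val) from
    Finset.ext fun i => by simp [lab_eq_iff]; omega]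
  rw [Finset.card_sdiff_of_subset (Finset.monotone_filter_right _ fun k _ hk => by omega),
    Fin.card_filter_val_lt, Fin.card_filter_val_lt]
  omega

/-! ### Young double cosets -/

/-- The intersection matrix of a permutation. -/
def mat (hν : ∑ i, ν i = n) (hμ : ∑ i, μ i = n) (σ : Equiv.Perm (Fin n)) : Fin n → Fin n → ℕ :=
  fun a b => (univ.filter fun j => lab hν (σ j) = a ∧ lab hμ j = b).card

theorem mat_margins (hν : ∑ i, ν i = n) (hμ : ∑ i, μ i = n) (σ : Equiv.Perm (Fin n)) :
    (∀ b, ∑ a, mat hν hμ σ a b = μ b) ∧ ∀ a, ∑ b, mat hν hμ σ a b = ν a := by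
  refine ⟨fun b => ?_, fun a => ?_⟩
  · rw [← card_lab_eq hμ b, Finset.card_eq_sum_card_fiberwise (f := fun j => lab hν (σ j)) (t := univ)
      fun _ _ => mem_univ _]
    refine Finset.sum_congr rfl fun a _ => ?_
    rw [mat, Finset.filter_filter]
    simp only [and_comm]
  · rw [← card_lab_eq hν a, ← Finset.card_map σ.symm.toEmbedding,
      Finset.card_eq_sum_card_fiberwise (f := fun j => lab hμ j) (t := univ) fun _ _ => mem_univ _]
    refine Finset.sum_congr rfl fun b _ => ?_
    rw [mat]
    congr 1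
    ext j
    simp [Finset.mem_map_equiv]

theorem exists_equiv_of_fibers {α β γ : Type*} [Fintype α] [Fintype β] [DecidableEq γ] {f : α → γ} {g : β → γ}
    (h : ∀ c, (univ.filter fun a => f a = c).card = (univ.filter fun b => g b = c).card) :
    ∃ e : α ≃ β, ∀ a, g (e a) = f a := by
  let e : ∀ c, {a // f a = c} ≃ {b // g b = c} := fun c =>
    Fintype.equivOfCardEq (by rw [Fintype.card_subtype, Fintype.card_subtype, h c])
  exact ⟨Equiv.ofFiberEquiv e, Equiv.ofFiberEquiv_map e⟩

theorem mat_eq_iff (hν : ∑ i, ν i = n) (hμ : ∑ i, μ i = n) (σ τ : Equiv.Perm (Fin n)) :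
    mat hν hμ σ = mat hν hμ τ ↔ ∃ x ∈ youngSubgroup ν, ∃ y ∈ youngSubgroup μ, τ = x * σ * y := by
  constructor
  · intro h
    obtain ⟨e, he⟩ := exists_equiv_of_fibers (f := fun j => (lab hν (τ j), lab hμ j))
      (g := fun j => (lab hν (σ j), lab hμ j)) fun c => by
        simp only [Prod.ext_iff]
        exact (congrFun (congrFun h c.1) c.2).symm
    refine ⟨τ * (σ * e)⁻¹, fun i => ?_, e, fun i => ?_, by group⟩
    · have h1 := congrArg Prod.fst (he ((σ * e)⁻¹ i))
      have e1 : σ (e ((σ * e)⁻¹ i)) = i := by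
        show (σ * e) ((σ * e)⁻¹ i) = i
        exact (σ * e).apply_symm_apply i
      simp only [e1] at h1
      exact (congrArg Fin.val h1).symm
    · exact congrArg Fin.val (congrArg Prod.snd (he i))
  · rintro ⟨x, hx, y, hy, rfl⟩
    funext a b
    refine (Finset.card_equiv y fun j => ?_).symm
    have hx' : ∀ i, compLabel ν (x i) = compLabel ν i := hx
    have hy' : ∀ i, compLabel μ (y i) = compLabel μ i := hy
    rw [Finset.mem_filter, Finset.mem_filter]
    simp [lab, hx', hy']

theorem mat_surjective (hν : ∑ i, ν i = n) (hμ : ∑ i, μ i = n) (M : Fin n → Fin n → ℕ)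
    (hM : (∀ b, ∑ a, M a b = μ b) ∧ ∀ a, ∑ b, M a b = ν a) : ∃ σ, mat hν hμ σ = M := by
  obtain ⟨e, he⟩ := exists_equiv_of_fibers (f := fun x : Σ b : Fin n, Σ a : Fin n, Fin (M a b) => x.1)
    (g := lab hμ) fun c => by
      rw [card_lab_eq, ← hM.1, ← Fintype.card_subtype,
        Fintype.card_congr (Equiv.sigmaSubtype (β := fun b => Σ a : Fin n, Fin (M a b)) c), Fintype.card_sigma]
      simp
  let t : Fin n → Fin n := fun j => (e.symm j).2.1
  have ht : ∀ a b, (univ.filter fun j => t j = a ∧ lab hμ j = b).card = M a b := by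
    intro a b
    rw [← Fintype.card_subtype, Fintype.card_congr (Equiv.subtypeEquiv e.symm (q := fun x => x.2.1 = a ∧ x.1 = b)
      fun j => ?_)]
    · rw [← Fintype.card_fin (M a b)]
      exact Fintype.card_congr
        { toFun := fun x => Fin.cast (by rw [x.2.1, x.2.2]) x.1.2.2
          invFun := fun i => ⟨⟨b, a, i⟩, rfl, rfl⟩
          left_inv := by rintro ⟨⟨b', a', i⟩, rfl, rfl⟩; rfl
          right_inv := fun i => rfl }
    · have := he (e.symm j)
      rw [Equiv.apply_symm_apply] at this
      simp [t, this]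
  obtain ⟨σ, hσ⟩ := exists_equiv_of_fibers (f := t) (g := lab hν) fun a => by
    rw [card_lab_eq, ← hM.2, Finset.card_eq_sum_card_fiberwise (f := fun j => lab hμ j) (t := univ)
      fun _ _ => mem_univ _]
    refine Finset.sum_congr rfl fun b _ => ?_
    rw [Finset.filter_filter, ht]
  exact ⟨σ, funext fun a => funext fun b => by rw [← ht a b]; simp [mat, hσ]⟩

/-! ### inner products of permutation characters -/

theorem classInner_fixedPoint {G : Type*} [Group G] [Fintype G] (H K : Subgroup G) {T : Type*} (f : G → T)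
    (hf : Function.Surjective f) (hiff : ∀ x y, f x = f y ↔ ∃ h ∈ H, ∃ k ∈ K, y = h * x * k) :
    classInner (fixedPointCharacter H) (fixedPointCharacter K) = (Nat.card T : ℂ) := by
  have hc : classInner (fixedPointCharacter H) (fixedPointCharacter K) =
      classInner (permChar G ((G ⧸ H) × (G ⧸ K))) (fun _ => 1) := by
    rw [classInner, classInner]
    congr 1
    refine Finset.sum_congr rfl fun g _ => ?_
    rw [fixedPointCharacter, fixedPointCharacter, map_natCast, map_one, mul_one, permChar, ← Nat.cast_mul,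
      ← Nat.card_prod]
    congr 1
    exact Nat.card_congr
      { toFun := fun p => ⟨(p.1.1, p.2.1), Prod.ext p.1.2 p.2.2⟩
        invFun := fun p => (⟨p.1.1, congrArg Prod.fst p.2⟩, ⟨p.1.2, congrArg Prod.snd p.2⟩)
        left_inv := fun p => rfl
        right_inv := fun p => rfl }
  rw [hc, classInner_permChar_one]
  congr 1
  refine Nat.card_congr (Equiv.ofBijective ?_ ?_)
  · refine Quotient.lift (fun p : (G ⧸ H) × (G ⧸ K) => Quotient.liftOn₂' p.1 p.2 (fun a b => f (a⁻¹ * b)) ?_) ?_
    · intro a b a' b' ha hb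
      rw [QuotientGroup.leftRel_apply] at ha hb
      exact (hiff _ _).2 ⟨_, H.inv_mem ha, _, hb, by group⟩
    · rintro p ⟨a', b'⟩ ⟨g, rfl⟩
      refine Quotient.inductionOn₂' a' b' fun a b => ?_
      show f ((g * a)⁻¹ * (g * b)) = f (a⁻¹ * b)
      congr 1
      group
  · constructor
    · rintro ⟨a, b⟩ ⟨a', b'⟩
      refine Quotient.inductionOn₂' a b (fun a b => Quotient.inductionOn₂' a' b' fun a' b' h => ?_)
      obtain ⟨x, hx, y, hy, he⟩ := (hiff _ _).1 h
      refine Quotient.sound ⟨a * x⁻¹ * a'⁻¹, Prod.ext ?_ ?_⟩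
      · show QuotientGroup.mk (a * x⁻¹ * a'⁻¹ * a') = QuotientGroup.mk a
        rw [inv_mul_cancel_right, QuotientGroup.mk_mul_of_mem _ (H.inv_mem hx)]
      · show QuotientGroup.mk (a * x⁻¹ * a'⁻¹ * b') = QuotientGroup.mk b
        rw [show a * x⁻¹ * a'⁻¹ * b' = a * x⁻¹ * (a'⁻¹ * b') by group, he,
          show a * x⁻¹ * (x * (a⁻¹ * b) * y) = b * y by group, QuotientGroup.mk_mul_of_mem _ hy]
    · intro t
      obtain ⟨x, rfl⟩ := hf t
      exact ⟨Quotient.mk _ (QuotientGroup.mk 1, QuotientGroup.mk x), congrArg f (by group)⟩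

/-- The intersection matrix with its margins. -/
def matM (hν : ∑ i, ν i = n) (hμ : ∑ i, μ i = n) (σ : Equiv.Perm (Fin n)) : Margins ν μ :=
  ⟨mat hν hμ σ, mat_margins hν hμ σ⟩

theorem classInner_young (hν : ∑ i, ν i = n) (hμ : ∑ i, μ i = n) :
    classInner (fixedPointCharacter (youngSubgroup ν)) (fixedPointCharacter (youngSubgroup μ)) =
      (Nat.card (Margins ν μ) : ℂ) :=
  classInner_fixedPoint _ _ (matM hν hμ)
    (fun M => (mat_surjective hν hμ M.1 M.2).imp fun _ h => Subtype.ext h)
    fun x y => Subtype.ext_iff.trans (mat_eq_iff hν hμ x y)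

/-! ### the general linear group -/

variable (F : Type*) [Field F]

/-- Permutation matrices: `e_j ↦ e_(σ j)`. -/
def permGL : Equiv.Perm (Fin n) →* GL (Fin n) F where
  toFun σ := ⟨Matrix.of fun i j => if i = σ j then 1 else 0, Matrix.of fun i j => if σ i = j then 1 else 0,
    by
      ext i j
      rw [Matrix.mul_apply, Finset.sum_eq_single (σ.symm i)]
      · simp [Matrix.one_apply]
      · intro b _ hb
        have : ¬ i = σ b := fun h => hb (by simp [h])
        simp [this]
      · simp,
    by ext i j; simp [Matrix.mul_apply, Matrix.one_apply, eq_comm]⟩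
  map_one' := Units.ext <| by ext i j; simp [Matrix.one_apply]; split_ifs <;> simp_all
  map_mul' σ τ := Units.ext <| by ext i j; simp [Matrix.mul_apply]; split_ifs <;> simp_all

variable {F}

theorem permGL_apply (σ : Equiv.Perm (Fin n)) (i j : Fin n) :
    (permGL F σ).1 i j = if i = σ j then 1 else 0 := rfl

theorem permGL_mem {σ : Equiv.Perm (Fin n)} (h : σ ∈ youngSubgroup ν) : permGL F σ ∈ parabolicGL n F ν := by
  intro i j hij
  rw [permGL_apply, if_neg]
  rintro rfl
  rw [h j] at hij
  exact lt_irrefl _ hij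

theorem upper_le_parabolic {b : GL (Fin n) F} (hb : b.1.BlockTriangular id) : b ∈ parabolicGL n F ν :=
  fun _ _ hij => hb (lt_of_not_ge fun h => (not_lt.2 (compLabel_mono ν h)) hij)

/-- Bruhat decomposition. -/
theorem exists_bruhat (g : GL (Fin n) F) : ∃ b c : GL (Fin n) F, ∃ σ : Equiv.Perm (Fin n),
    b.1.BlockTriangular id ∧ c.1.BlockTriangular id ∧ g = b * permGL F σ * c := by
  classical
  let good : Fin n → (Fin n → F) → Prop := fun j a => a j = 1 ∧ ∀ k, j < k → a k = 0
  let S : Fin n → Finset (Fin n) := fun j =>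
    univ.filter fun s => ∃ a, good j a ∧ ∀ r, s < r → (g.1 *ᵥ a) r = 0
  have hS : ∀ j, (S j).Nonempty := fun j => by
    haveI : NeZero n := ⟨(j.pos).ne'⟩
    refine ⟨⊤, mem_filter.2 ⟨mem_univ _, Pi.single j 1, ⟨by simp, fun k hk => by simp [hk.ne']⟩,
      fun r hr => absurd hr (not_lt.2 le_top)⟩⟩
  let σ : Fin n → Fin n := fun j => (S j).min' (hS j)
  have hA : ∀ j, ∃ a, good j a ∧ (∀ r, σ j < r → (g.1 *ᵥ a) r = 0) := fun j =>
    (mem_filter.1 ((S j).min'_mem (hS j))).2
  choose a ha hlow using hA
  have hmin : ∀ j a', good j a' → ¬ ∀ r, σ j ≤ r → (g.1 *ᵥ a') r = 0 := by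
    intro j a' ha' hall
    by_cases h0 : (σ j).val = 0
    · have hz : g.1 *ᵥ a' = 0 := funext fun r => hall r (Fin.le_def.2 (by omega))
      have : a' = 0 := by
        have := congrArg (fun v => (g⁻¹).1 *ᵥ v) hz
        rw [Matrix.mulVec_mulVec, ← Units.val_mul, inv_mul_cancel, Units.val_one, Matrix.one_mulVec,
          Matrix.mulVec_zero] at this
        exact this
      exact one_ne_zero (ha'.1.symm.trans (congrFun this j))
    · let s : Fin n := ⟨(σ j).val - 1, by omega⟩
      have hs : s ∈ S j := mem_filter.2 ⟨mem_univ _, a', ha', fun r hr => hall r (by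
        rw [Fin.lt_def] at hr; rw [Fin.le_def]; simp [s] at hr; omega)⟩
      have := Finset.min'_le (S j) s hs
      rw [Fin.le_def] at this
      simp [s, σ] at this h0
      omega
  have hpiv : ∀ j, (g.1 *ᵥ a j) (σ j) ≠ 0 := fun j h0 => hmin j (a j) (ha j) fun r hr => by
    rcases eq_or_lt_of_le hr with rfl | hr
    · exact h0
    · exact hlow j r hr
  have hinj : Function.Injective σ := by
    have key : ∀ k j, k < j → σ k ≠ σ j := by
      intro k j hkj he
      let c : F := (g.1 *ᵥ a j) (σ j) / (g.1 *ᵥ a k) (σ k)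
      refine hmin j (a j - c • a k) ⟨?_, fun l hl => ?_⟩ fun r hr => ?_
      · simp [(ha j).1, (ha k).2 j hkj]
      · simp [(ha j).2 l hl, (ha k).2 l (hkj.trans hl)]
      · rw [Matrix.mulVec_sub, Matrix.mulVec_smul, Pi.sub_apply, Pi.smul_apply, smul_eq_mul]
        rcases eq_or_lt_of_le hr with rfl | hr
        · rw [← he]
          simp only [c, he]
          rw [← he, div_mul_cancel₀ _ (hpiv k), sub_self]
        · rw [hlow j r hr, hlow k r (by rw [he]; exact hr), mul_zero, sub_zero]
    intro k j h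
    rcases lt_trichotomy k j with h' | h' | h'
    · exact absurd h (key k j h')
    · exact h'
    · exact absurd h.symm (key j k h')
  let π : Equiv.Perm (Fin n) := Equiv.ofBijective σ (Finite.injective_iff_bijective.1 hinj)
  let A : Matrix (Fin n) (Fin n) F := Matrix.of fun k j => a j k
  have hAtri : A.BlockTriangular id := fun i j hij => (ha j).2 i hij
  have hAdet : A.det = 1 := by
    rw [Matrix.det_of_upperTriangular hAtri]
    exact Finset.prod_eq_one fun i _ => (ha i).1
  let Au : GL (Fin n) F := Matrix.GeneralLinearGroup.mk'' A (by rw [hAdet]; exact isUnit_one)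
  have hb : (g * Au * (permGL F π)⁻¹).1.BlockTriangular id := by
    intro i j hij
    rw [Units.val_mul, ← map_inv, Matrix.mul_apply, Finset.sum_eq_single (π⁻¹ j)]
    · have hp : (g.1 *ᵥ a (π⁻¹ j)) i = 0 := hlow _ i (by
        show π (π.symm j) < i
        rw [Equiv.apply_symm_apply]
        exact hij)
      rw [show (g * Au).1 i (π⁻¹ j) = (g.1 *ᵥ a (π⁻¹ j)) i from rfl, hp, zero_mul]
    · intro b _ hb
      rw [permGL_apply, if_neg hb, mul_zero]
    · exact fun h => absurd (mem_univ _) h
  refine ⟨g * Au * (permGL F π)⁻¹, Au⁻¹, π, hb, ?_, by group⟩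
  haveI : Invertible Au.1 := Au.invertible
  rw [Matrix.coe_units_inv]
  exact Matrix.blockTriangular_inv_of_blockTriangular hAtri

/-- A selector of indices. -/
noncomputable def sel (P : Fin n → Prop) [DecidablePred P] : Matrix (Fin n) (Fin n) F :=
  Matrix.diagonal fun i => if P i then 1 else 0

theorem rank_sel_perm (σ : Equiv.Perm (Fin n)) (P Q : Fin n → Prop) [DecidablePred P] [DecidablePred Q] :
    (sel (F := F) P * (permGL F σ).1 * sel Q).rank = (univ.filter fun j => P (σ j) ∧ Q j).card := by
  classical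
  have h : sel (F := F) P * (permGL F σ).1 * sel Q = (permGL F σ).1 * sel fun j => P (σ j) ∧ Q j := by
    ext i j
    simp only [sel, Matrix.mul_diagonal, Matrix.diagonal_mul, permGL_apply]
    split_ifs <;> simp_all
  rw [h, Matrix.rank_mul_eq_right_of_isUnit_det _ _ ((Matrix.isUnit_iff_isUnit_det _).1 (permGL F σ).isUnit),
    sel, Matrix.rank_diagonal, Fintype.card_subtype]
  congr 1
  ext j
  simp

theorem sel_parabolic {p : GL (Fin n) F} (hp : p ∈ parabolicGL n F ν) (a : ℕ) :
    sel (F := F) (fun i => a ≤ compLabel ν i) * p.1 =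
      sel (fun i => a ≤ compLabel ν i) * p.1 * sel fun i => a ≤ compLabel ν i := by
  ext i j
  simp only [sel, Matrix.mul_diagonal, Matrix.diagonal_mul]
  split_ifs with h1 h2
  · rw [mul_one]
  · rw [hp (lt_of_not_ge fun h => h2 (h1.trans h)), mul_zero, mul_zero]
  all_goals simp

theorem parabolic_sel {q : GL (Fin n) F} (hq : q ∈ parabolicGL n F μ) (b : ℕ) :
    q.1 * sel (F := F) (fun i => compLabel μ i < b) =
      sel (fun i => compLabel μ i < b) * q.1 * sel fun i => compLabel μ i < b := by
  ext i j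
  simp only [sel, Matrix.mul_diagonal, Matrix.diagonal_mul]
  split_ifs with h1 h2
  · rw [one_mul]
  · rw [hq (lt_of_lt_of_le h1 (not_lt.1 h2))]; simp
  all_goals simp

theorem rank_le_of_coset {x p q : GL (Fin n) F} (hp : p ∈ parabolicGL n F ν) (hq : q ∈ parabolicGL n F μ)
    (a b : ℕ) :
    (sel (F := F) (fun i => a ≤ compLabel ν i) * (p * x * q).1 * sel fun i => compLabel μ i < b).rank ≤
      (sel (F := F) (fun i => a ≤ compLabel ν i) * x.1 * sel fun i => compLabel μ i < b).rank := by
  rw [Units.val_mul, Units.val_mul]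
  simp only [← Matrix.mul_assoc]
  rw [sel_parabolic hp, Matrix.mul_assoc _ q.1, parabolic_sel hq]
  simp only [← Matrix.mul_assoc]
  refine le_trans (Matrix.rank_mul_le_left _ _) (le_trans (Matrix.rank_mul_le_left _ _) ?_)
  simp only [Matrix.mul_assoc]
  exact le_trans (Matrix.rank_mul_le_right _ _) (Matrix.rank_mul_le_right _ _)

theorem mat_eq_of_coset (hν : ∑ i, ν i = n) (hμ : ∑ i, μ i = n) {σ τ : Equiv.Perm (Fin n)}
    {p q : GL (Fin n) F} (hp : p ∈ parabolicGL n F ν) (hq : q ∈ parabolicGL n F μ)
    (h : permGL F τ = p * permGL F σ * q) : mat hν hμ σ = mat hν hμ τ := by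
  have h' : permGL F σ = p⁻¹ * permGL F τ * q⁻¹ := by rw [h]; group
  have hR : ∀ a b : ℕ, (univ.filter fun j => a ≤ compLabel ν (σ j) ∧ compLabel μ j < b).card =
      (univ.filter fun j => a ≤ compLabel ν (τ j) ∧ compLabel μ j < b).card := fun a b => by
    have e := fun ρ : Equiv.Perm (Fin n) => rank_sel_perm (F := F) ρ (fun i => a ≤ compLabel ν i) (fun i => compLabel μ i < b)
    rw [← e σ, ← e τ]
    refine le_antisymm ?_ ?_
    · rw [h']; exact rank_le_of_coset (inv_mem hp) (inv_mem hq) a b
    · rw [h]; exact rank_le_of_coset hp hq a b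
  funext a b
  have key : ∀ ρ : Equiv.Perm (Fin n),
      mat hν hμ ρ a b + (univ.filter fun j => (a.val + 1) ≤ compLabel ν (ρ j) ∧ compLabel μ j < b.val + 1).card +
        (univ.filter fun j => a.val ≤ compLabel ν (ρ j) ∧ compLabel μ j < b.val).card =
      (univ.filter fun j => a.val ≤ compLabel ν (ρ j) ∧ compLabel μ j < b.val + 1).card +
        (univ.filter fun j => (a.val + 1) ≤ compLabel ν (ρ j) ∧ compLabel μ j < b.val).card := by
    intro ρ
    simp only [mat, Finset.card_filter, ← Finset.sum_add_distrib]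
    refine Finset.sum_congr rfl fun j _ => ?_
    simp only [lab, Fin.ext_iff]
    split_ifs <;> omega
  have := key σ
  have := key τ
  have := hR a b
  have := hR (a + 1) b
  have := hR a (b + 1)
  have := hR (a + 1) (b + 1)
  omega

theorem classInner_parabolic [Fintype F] [Fintype (GL (Fin n) F)] (hν : ∑ i, ν i = n) (hμ : ∑ i, μ i = n) :
    classInner (fixedPointCharacter (parabolicGL n F ν)) (fixedPointCharacter (parabolicGL n F μ)) =
      (Nat.card (Margins ν μ) : ℂ) := by
  choose b c σ hb hc he using exists_bruhat (F := F) (n := n)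
  have hcl : ∀ g τ, ∀ p ∈ parabolicGL n F ν, ∀ q ∈ parabolicGL n F μ, g = p * permGL F τ * q →
      mat hν hμ (σ g) = mat hν hμ τ := by
    intro g τ p hp q hq hg
    refine mat_eq_of_coset hν hμ (mul_mem (inv_mem hp) (upper_le_parabolic (hb g)))
      (mul_mem (upper_le_parabolic (hc g)) (inv_mem hq)) ?_
    calc permGL F τ = p⁻¹ * g * q⁻¹ := by rw [hg]; group
      _ = _ := by conv_lhs => rw [he g]
                  group
  refine classInner_fixedPoint _ _ (fun g => matM hν hμ (σ g)) ?_ fun x y => Subtype.ext_iff.trans ⟨?_, ?_⟩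
  · intro M
    obtain ⟨τ, hτ⟩ := mat_surjective hν hμ M.1 M.2
    exact ⟨permGL F τ, Subtype.ext ((hcl _ τ 1 (one_mem _) 1 (one_mem _) (by group)).trans hτ)⟩
  · intro h
    obtain ⟨u, hu, v, hv, hy⟩ := (mat_eq_iff hν hμ (σ x) (σ y)).1 h
    refine ⟨b y * permGL F u * (b x)⁻¹,
      mul_mem (mul_mem (upper_le_parabolic (hb y)) (permGL_mem hu)) (inv_mem (upper_le_parabolic (hb x))),
      (c x)⁻¹ * permGL F v * c y,
      mul_mem (mul_mem (inv_mem (upper_le_parabolic (hc x))) (permGL_mem hv)) (upper_le_parabolic (hc y)), ?_⟩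
    conv_lhs => rw [he y, hy, map_mul, map_mul]
    conv_rhs => arg 1; arg 2; rw [he x]
    group
  · rintro ⟨p, hp, q, hq, hy⟩
    refine (hcl y (σ x) (p * b x) (mul_mem hp (upper_le_parabolic (hb x))) (c x * q)
      (mul_mem (upper_le_parabolic (hc x)) hq) ?_).symm
    rw [hy]
    conv_lhs => arg 1; arg 2; rw [he x]
    group

/-! ### orders -/

theorem card_flag_tuples {K V : Type*} [Field K] [AddCommGroup V] [Module K V] [Finite K] [Finite V] :
    ∀ (k : ℕ) (W : Fin k → Submodule K V), Monotone W →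
      Nat.card {s : Fin k → V // LinearIndependent K s ∧ ∀ i, s i ∈ W i} =
        ∏ i, (Nat.card (W i) - Nat.card K ^ i.val) := by
  intro k
  induction k with
  | zero =>
    intro W _
    rw [Fin.prod_univ_zero, Nat.card_eq_one_iff_unique]
    exact ⟨⟨fun a b => Subtype.ext (Subsingleton.elim _ _)⟩,
      ⟨⟨Fin.elim0, linearIndependent_empty_type, fun i => i.elim0⟩⟩⟩
  | succ k ih =>
    intro W hW
    let W' : Fin k → Submodule K V := fun i => W i.castSucc
    have e : {s : Fin (k + 1) → V // LinearIndependent K s ∧ ∀ i, s i ∈ W i} ≃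
        Σ t : {t : Fin k → V // LinearIndependent K t ∧ ∀ i, t i ∈ W' i},
          {v : V // v ∈ W (Fin.last k) ∧ v ∉ Submodule.span K (Set.range t.1)} :=
      { toFun := fun s =>
          have h := linearIndependent_finSnoc.1
            (show LinearIndependent K (Fin.snoc (Fin.init s.1) (s.1 (Fin.last k)) : Fin (k + 1) → V) by
              rw [Fin.snoc_init_self]; exact s.2.1)
          ⟨⟨Fin.init s.1, h.1, fun i => s.2.2 i.castSucc⟩, s.1 (Fin.last k), s.2.2 _, h.2⟩
        invFun := fun x => ⟨Fin.snoc x.1.1 x.2.1, linearIndependent_finSnoc.2 ⟨x.1.2.1, x.2.2.2⟩, fun i => by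
          refine Fin.lastCases ?_ (fun j => ?_) i
          · rw [Fin.snoc_last]; exact x.2.2.1
          · rw [Fin.snoc_castSucc]; exact x.1.2.2 j⟩
        left_inv := fun s => Subtype.ext (Fin.snoc_init_self _)
        right_inv := fun x => by
          obtain ⟨⟨t, ht⟩, v, hv⟩ := x
          exact Sigma.subtype_ext (Subtype.ext (by simp [Fin.init_snoc])) (by simp) }
    haveI := Fintype.ofFinite {t : Fin k → V // LinearIndependent K t ∧ ∀ i, t i ∈ W' i}
    rw [Nat.card_congr e, Nat.card_sigma, Finset.sum_const_nat (m := Nat.card (W (Fin.last k)) - Nat.card K ^ k),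
      Finset.card_univ, ← Nat.card_eq_fintype_card, ih W' fun i j h => hW (Fin.castSucc_le_castSucc_iff.2 h),
      Fin.prod_univ_castSucc]
    · rfl
    · intro t _
      have hle : Submodule.span K (Set.range t.1) ≤ W (Fin.last k) :=
        Submodule.span_le.2 (by rintro _ ⟨i, rfl⟩; exact hW (Fin.le_last _) (t.2.2 i))
      have hcard : Nat.card (Submodule.span K (Set.range t.1)) = Nat.card K ^ k := by
        rw [Module.natCard_eq_pow_finrank (K := K), finrank_span_eq_card t.2.1, Fintype.card_fin]
      rw [← hcard]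
      show Nat.card ↥((W (Fin.last k) : Set V) \ (Submodule.span K (Set.range t.1) : Set V)) = _
      rw [Nat.card_coe_set_eq, Set.ncard_sdiff (SetLike.coe_subset_coe.2 hle), ← Nat.card_coe_set_eq,
        ← Nat.card_coe_set_eq]
      rfl

/-- The first position of the block containing `i`. -/
def rowStart (μ : Fin n → ℕ) (i : Fin n) : ℕ := start μ (compLabel μ i)

theorem compLabel_lt_compLabel_iff (hμ : ∑ i, μ i = n) (i j : Fin n) :
    compLabel μ j < compLabel μ i ↔ j.val < rowStart μ i :=
  compLabel_lt_iff μ j (compLabel_lt hμ i).le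

theorem rowStart_le (hμ : ∑ i, μ i = n) (i : Fin n) : rowStart μ i ≤ i.val := by
  have := (compLabel_lt_iff μ i (compLabel_lt hμ i).le).not.1 (lt_irrefl _)
  rw [rowStart]; omega

theorem card_parabolic [Fintype F] (hμ : ∑ i, μ i = n) :
    Nat.card (parabolicGL n F μ) =
      ∏ i : Fin n, (Fintype.card F ^ (n - rowStart μ i) - Fintype.card F ^ (n - 1 - i.val)) := by
  classical
  let W : Fin n → Submodule F (Fin n → F) := fun k =>
    { carrier := {v | ∀ j : Fin n, j.val < rowStart μ k.rev → v j = 0}
      add_mem' := fun hv hw j hj => by rw [Pi.add_apply, hv j hj, hw j hj, add_zero]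
      zero_mem' := fun j _ => rfl
      smul_mem' := fun c v hv j hj => by rw [Pi.smul_apply, hv j hj, smul_zero] }
  have hWmono : Monotone W := fun k l hkl v hv j hj => hv j (lt_of_lt_of_le hj
    (start_mono μ (compLabel_mono μ (Fin.rev_le_rev.2 hkl))))
  have e : (parabolicGL n F μ) ≃ {s : Fin n → (Fin n → F) // LinearIndependent F s ∧ ∀ k, s k ∈ W k} :=
    { toFun := fun g => ⟨fun k => g.1.1 k.rev, by
          refine ⟨LinearIndependent.comp (v := fun i => g.1.1 i) ?_ _ Fin.rev_injective, fun k j hj => ?_⟩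
          · exact Matrix.linearIndependent_rows_iff_isUnit.2 g.1.isUnit
          · exact g.2 ((compLabel_lt_compLabel_iff hμ k.rev j).2 hj)⟩
      invFun := fun s => ⟨Matrix.GeneralLinearGroup.mk'' (Matrix.of fun i => s.1 i.rev) (by
          rw [← Matrix.isUnit_iff_isUnit_det]
          exact Matrix.linearIndependent_rows_iff_isUnit.1
            (LinearIndependent.comp (v := fun i => s.1 i) s.2.1 _ Fin.rev_injective)),
        fun i j hij => s.2.2 i.rev j (by rw [Fin.rev_rev]; exact (compLabel_lt_compLabel_iff hμ i j).1 hij)⟩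
      left_inv := fun g => Subtype.ext (Units.ext (Matrix.ext fun i j => by
        show g.1.1 i.rev.rev j = g.1.1 i j
        rw [Fin.rev_rev]))
      right_inv := fun s => Subtype.ext (funext fun k => by
        show s.1 k.rev.rev = s.1 k
        rw [Fin.rev_rev]) }
  rw [Nat.card_congr e, card_flag_tuples n W hWmono, ← Equiv.prod_comp Fin.revPerm]
  refine Finset.prod_congr rfl fun i _ => ?_
  simp only [Fin.revPerm_apply, Fin.val_rev, Nat.card_eq_fintype_card (α := F)]
  congr 1
  · have hs : rowStart μ i ≤ i.val := rowStart_le hμ i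
    let eW : W i.rev ≃ ({j : Fin n // ¬ j.val < rowStart μ i} → F) :=
      { toFun := fun v j => v.1 j.1
        invFun := fun w => ⟨fun j => if h : j.val < rowStart μ i then 0 else w ⟨j, h⟩, fun j hj => by
          rw [Fin.rev_rev] at hj; exact dif_pos hj⟩
        left_inv := fun v => Subtype.ext <| funext fun j => by
          show (if h : j.val < rowStart μ i then 0 else v.1 j) = v.1 j
          split_ifs with h
          · exact (v.2 j (by rw [Fin.rev_rev]; exact h)).symm
          · rfl
        right_inv := fun w => funext fun j => by simp [dif_neg j.2] }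
    rw [Nat.card_congr eW, Nat.card_fun, Nat.card_eq_fintype_card, Nat.card_eq_fintype_card,
      Fintype.card_subtype_compl, Fintype.card_fin, Fintype.card_subtype, Fin.card_filter_val_lt]
    congr 1
    omega
  · congr 1
    omega

/-- The Gaussian bracket. -/
def br (q m : ℕ) : ℕ := ∑ l ∈ range m, q ^ l

/-- The Gaussian factorial. -/
def qf (q m : ℕ) : ℕ := ∏ j ∈ range m, br q (j + 1)

theorem card_parabolic_mul [Fintype F] {q : ℕ} (hq : Fintype.card F = q) (hμ : ∑ i, μ i = n) :
    Nat.card (parabolicGL n F μ) =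
      (∏ i : Fin n, q ^ (n - 1 - i.val) * (q - 1)) * ∏ a : Fin n, qf q (μ a) := by
  rw [card_parabolic hμ, hq]
  have h1 : ∀ a : Fin n, qf q (μ a) = ∏ i ∈ univ.filter (fun i => lab hμ i = a), br q (i.val + 1 - rowStart μ i) := by
    intro a
    refine (Finset.prod_bij (fun (i : Fin n) _ => i.val - start μ a.val) ?_ ?_ ?_ ?_).symm
    · intro i hi
      have := (lab_eq_iff hμ i a).1 (mem_filter.1 hi).2
      exact mem_range.2 (by omega)
    · intro i hi j hj h
      have := (lab_eq_iff hμ i a).1 (mem_filter.1 hi).2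
      have := (lab_eq_iff hμ j a).1 (mem_filter.1 hj).2
      exact Fin.ext (by omega)
    · intro t ht
      have h2 := start_le_n hμ a.isLt
      rw [start_succ] at h2
      rw [mem_range] at ht
      refine ⟨⟨start μ a.val + t, by omega⟩, mem_filter.2 ⟨mem_univ _, (lab_eq_iff hμ _ a).2 ?_⟩, ?_⟩
      · simp only; omega
      · simp
    · intro i hi
      have h := (mem_filter.1 hi).2
      have hr : rowStart μ i = start μ a.val := by rw [← h]; rfl
      have := (lab_eq_iff hμ i a).1 h
      rw [hr, show i.val + 1 - start μ a.val = i.val - start μ a.val + 1 by omega]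
  simp only [h1]
  rw [Finset.prod_fiberwise univ (lab hμ) fun i => br q (i.val + 1 - rowStart μ i), ← Finset.prod_mul_distrib]
  refine Finset.prod_congr rfl fun i _ => ?_
  have hs := rowStart_le hμ i
  have hq1 : 1 ≤ q := hq ▸ Fintype.card_pos
  rw [show n - rowStart μ i = (n - 1 - i.val) + (i.val + 1 - rowStart μ i) by omega, pow_add, mul_assoc,
    br, mul_comm (q - 1), geom_sum_mul_of_one_le hq1, Nat.mul_sub, mul_one]

theorem index_parabolic [Fintype F] {q : ℕ} (hq : Fintype.card F = q) (hμ : ∑ i, μ i = n) :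
    Nat.card (GL (Fin n) F ⧸ parabolicGL n F μ) * ∏ a : Fin n, qf q (μ a) = qf q n := by
  have h := Subgroup.card_eq_card_quotient_mul_card_subgroup (parabolicGL n F μ)
  rw [card_parabolic_mul hq hμ, Matrix.card_GL_field, hq] at h
  have hq2 : 2 ≤ q := hq ▸ Fintype.one_lt_card
  have h2 : ∏ i : Fin n, (q ^ n - q ^ i.val) = (∏ i : Fin n, q ^ (n - 1 - i.val) * (q - 1)) * qf q n := by
    rw [← Equiv.prod_comp Fin.revPerm, qf, ← Fin.prod_univ_eq_prod_range (fun j => br q (j + 1)) n,
      ← Finset.prod_mul_distrib]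
    refine Finset.prod_congr rfl fun i _ => ?_
    rw [mul_assoc, br, mul_comm (q - 1), geom_sum_mul_of_one_le (by omega), Nat.mul_sub, mul_one, ← pow_add]
    simp only [Fin.revPerm_apply, Fin.val_rev]
    congr 2 <;> omega
  rw [h2] at h
  refine Nat.eq_of_mul_eq_mul_left (show 0 < ∏ i : Fin n, q ^ (n - 1 - i.val) * (q - 1) from
    Finset.prod_pos fun i _ => Nat.mul_pos (pow_pos (by omega) _) (by omega)) ?_
  rw [h]
  ring

end CfsgLib.Char.FlagCosets
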