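import Cfsg.Agent.Lib.Char.FlagMobius
import Cfsg.Agent.Lib.Char.FlagCosets
import Mathlib.Algebra.Polynomial.Module.AEval
import Mathlib.FieldTheory.Finiteness

/-!
# Fixed points on partial flag varieties as flags of invariant subspaces

The fixed cosets of an element `x` of `GL_n(F)` on a standard parabolic subgroup correspond to the flags, with the
block sizes as jumps, of `F[X]`-submodules of `F^n` with `X` acting as `x`.
-/

set_option autoImplicit false
set_option linter.unusedSectionVars false

namespace CfsgLib.Char.FlagFixedPoints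

open Polynomial Module Cfsg Matrix
open CfsgLib.Char.FlagCosets (start start_succ start_all start_mono start_le_n compLabel_lt_iff compLabel_lt)
open CfsgLib.Char.FlagMobius (Flag cnt)
open scoped MatrixGroups

variable {n : ℕ} {F : Type*} [Field F]

/-- The span of the first `s` coordinate vectors. -/
noncomputable def coordSpan (n : ℕ) (F : Type*) [Field F] (s : ℕ) : Submodule F (Fin n → F) :=
  LinearMap.ker (LinearMap.funLeft F F (Subtype.val : {j : Fin n // s ≤ j.val} → Fin n))

theorem mem_coordSpan {s : ℕ} {v : Fin n → F} : v ∈ coordSpan n F s ↔ ∀ j : Fin n, s ≤ j.val → v j = 0 := by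
  rw [coordSpan, LinearMap.mem_ker, funext_iff]
  exact ⟨fun h j hj => h ⟨j, hj⟩, fun h j => h j.1 j.2⟩

theorem finrank_coordSpan {s : ℕ} (hs : s ≤ n) : finrank F (coordSpan n F s) = s := by
  have h := LinearMap.finrank_range_add_finrank_ker
    (LinearMap.funLeft F F (Subtype.val : {j : Fin n // s ≤ j.val} → Fin n))
  rw [LinearMap.range_eq_top.2 (LinearMap.funLeft_surjective_of_injective F F _ Subtype.val_injective), finrank_top,
    Module.finrank_pi, Module.finrank_pi, Fintype.card_fin] at h
  have hc : Fintype.card {j : Fin n // s ≤ j.val} = n - s := by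
    have h1 := Fintype.card_subtype_compl (fun j : Fin n => j.val < s)
    simp only [not_lt, Fintype.card_fin] at h1
    rw [h1, Fintype.card_subtype, Fin.card_filter_val_lt]
    omega
  change _ + finrank F (coordSpan n F s) = n at h
  omega

/-- The image of the span of the first `s` coordinate vectors. -/
noncomputable def img (g : GL (Fin n) F) (s : ℕ) : Submodule F (Fin n → F) :=
  (coordSpan n F s).map (Matrix.mulVecLin g.1)

theorem img_one (s : ℕ) : img (1 : GL (Fin n) F) s = coordSpan n F s := by
  rw [img, Units.val_one, Matrix.mulVecLin_one, Submodule.map_id]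

theorem img_mul (g h : GL (Fin n) F) (s : ℕ) : img (g * h) s = (img h s).map (Matrix.mulVecLin g.1) := by
  rw [img, img, Units.val_mul, Matrix.mulVecLin_mul, Submodule.map_comp]

theorem mulVecLin_injective (g : GL (Fin n) F) : Function.Injective (Matrix.mulVecLin g.1) :=
  Matrix.mulVec_injective_iff_isUnit.2 g.isUnit

theorem finrank_img (g : GL (Fin n) F) {s : ℕ} (hs : s ≤ n) : finrank F (img g s) = s := by
  rw [img, ← (Submodule.equivMapOfInjective _ (mulVecLin_injective g) (coordSpan n F s)).finrank_eq,
    finrank_coordSpan hs]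

variable {μ : Fin n → ℕ}

theorem mem_parabolicGL_iff (hμ : ∑ i, μ i = n) (p : GL (Fin n) F) :
    p ∈ parabolicGL n F μ ↔ ∀ c, c ≤ n → img p (start μ c) = coordSpan n F (start μ c) := by
  constructor
  · intro hp c hc
    refine Submodule.eq_of_le_of_finrank_eq ?_ ?_
    · rintro _ ⟨v, hv, rfl⟩
      rw [SetLike.mem_coe, mem_coordSpan] at hv
      rw [mem_coordSpan]
      intro i hi
      rw [Matrix.mulVecLin_apply, Matrix.mulVec, dotProduct]
      refine Finset.sum_eq_zero fun j _ => ?_
      by_cases hj : start μ c ≤ j.val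
      · rw [hv j hj, mul_zero]
      · have h1 : compLabel μ j < c := (compLabel_lt_iff μ j hc).2 (not_le.1 hj)
        have h2 : ¬ compLabel μ i < c := fun h => absurd ((compLabel_lt_iff μ i hc).1 h) (not_lt.2 hi)
        rw [hp (lt_of_lt_of_le h1 (not_lt.1 h2)), zero_mul]
    · rw [finrank_img _ (start_le_n hμ hc), finrank_coordSpan (start_le_n hμ hc)]
  · intro h i j hij
    have hc : compLabel μ j + 1 ≤ n := compLabel_lt hμ j
    have hmem : (Pi.single j 1 : Fin n → F) ∈ coordSpan n F (start μ (compLabel μ j + 1)) := by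
      rw [mem_coordSpan]
      intro k hk
      refine Pi.single_eq_of_ne ?_ _
      rintro rfl
      exact absurd ((compLabel_lt_iff μ k hc).1 (Nat.lt_succ_self _)) (not_lt.2 hk)
    have him : Matrix.mulVecLin p.1 (Pi.single j 1) ∈ coordSpan n F (start μ (compLabel μ j + 1)) :=
      h _ hc ▸ Submodule.mem_map_of_mem hmem
    have hi : start μ (compLabel μ j + 1) ≤ i.val := by
      rw [← not_lt, ← compLabel_lt_iff μ i hc]
      omega
    have := mem_coordSpan.1 him i hi
    simpa using this

theorem mk_eq_mk_iff (hμ : ∑ i, μ i = n) (g h : GL (Fin n) F) :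
    (QuotientGroup.mk g : GL (Fin n) F ⧸ parabolicGL n F μ) = QuotientGroup.mk h ↔
      ∀ c, c ≤ n → img g (start μ c) = img h (start μ c) := by
  rw [QuotientGroup.eq, mem_parabolicGL_iff hμ]
  refine forall₂_congr fun c _ => ?_
  constructor
  · intro e
    conv_rhs => rw [show h = g * (g⁻¹ * h) by group, img_mul, e]
    rfl
  · intro e
    rw [img_mul, ← e, ← img_mul, inv_mul_cancel, img_one]

variable (f : Module.End F (Fin n → F))

/-- The dimension of an `F[X]`-submodule. -/
noncomputable def dim (K : Submodule F[X] (AEval' f)) : ℕ := finrank F K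

/-- The underlying subspace. -/
noncomputable def under (K : Submodule F[X] (AEval' f)) : Submodule F (Fin n → F) :=
  ((AEval.mapSubmodule F (Fin n → F) f).symm K : Submodule F (Fin n → F))

theorem mem_under {K : Submodule F[X] (AEval' f)} {v : Fin n → F} : v ∈ under f K ↔ AEval'.of f v ∈ K := Iff.rfl

theorem finrank_under (K : Submodule F[X] (AEval' f)) : finrank F (under f K) = dim f K := by
  rw [dim]
  exact (({ toFun := fun x => ⟨AEval'.of f x.1, x.2⟩
            invFun := fun y => ⟨(AEval'.of f).symm y.1, y.2⟩
            map_add' := fun x y => rfl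
            map_smul' := fun t x => rfl
            left_inv := fun x => rfl
            right_inv := fun y => rfl } : under f K ≃ₗ[F] K)).finrank_eq

theorem map_under_le (K : Submodule F[X] (AEval' f)) : (under f K).map f ≤ under f K := by
  rintro _ ⟨v, hv, rfl⟩
  rw [mem_under, ← AEval'.X_smul_of]
  exact K.smul_mem _ hv

theorem under_inj {K K' : Submodule F[X] (AEval' f)} (h : under f K = under f K') : K = K' := by
  refine SetLike.ext fun m => ?_
  simpa [mem_under] using SetLike.ext_iff.1 h ((AEval'.of f).symm m)

theorem under_mono {K K' : Submodule F[X] (AEval' f)} (h : K ≤ K') : under f K ≤ under f K' :=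
  fun _ hv => h hv

theorem le_of_under {K K' : Submodule F[X] (AEval' f)} (h : under f K ≤ under f K') : K ≤ K' := fun m hm => by
  simpa [mem_under] using h (show (AEval'.of f).symm m ∈ under f K by simpa [mem_under] using hm)

theorem exists_under {P : Submodule F (Fin n → F)} (hP : P.map f ≤ P) :
    ∃ K : Submodule F[X] (AEval' f), under f K = P :=
  ⟨AEval.mapSubmodule F (Fin n → F) f ⟨P, fun v hv => hP (Submodule.mem_map_of_mem hv)⟩, by
    rw [under, OrderIso.symm_apply_apply]⟩

theorem dim_strictMono : StrictMono (dim f) := fun K K' h => by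
  rw [← finrank_under, ← finrank_under]
  exact Submodule.finrank_lt_finrank_of_lt
    (lt_of_le_of_ne (under_mono f h.le) fun e => h.ne (under_inj f e))

theorem under_bot : under f ⊥ = ⊥ := by
  ext v
  simp [mem_under]

theorem under_top : under f ⊤ = ⊤ := by
  ext v
  simp [mem_under]

theorem dim_bot : dim f ⊥ = 0 := by rw [← finrank_under, under_bot, finrank_bot]

theorem dim_top : dim f ⊤ = n := by rw [← finrank_under, under_top, finrank_top, Module.finrank_fin_fun]

variable [Fintype F]

/-- The fixed cosets are the flags of invariant subspaces. -/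
theorem card_fixedBy (hμ : ∑ i, μ i = n) (x : GL (Fin n) F) (hf : f = Matrix.mulVecLin x.1) :
    Nat.card (MulAction.fixedBy (GL (Fin n) F ⧸ parabolicGL n F μ) x) = cnt (dim f) μ ⊥ := by
  classical
  subst hf
  have hfix : ∀ g : GL (Fin n) F, (QuotientGroup.mk g : GL (Fin n) F ⧸ parabolicGL n F μ) ∈
      MulAction.fixedBy (GL (Fin n) F ⧸ parabolicGL n F μ) x →
      ∀ c : Fin (n + 1), (img g (start μ c.val)).map (Matrix.mulVecLin x.1) ≤ img g (start μ c.val) := by
    intro g hg c
    rw [← img_mul]
    exact ((mk_eq_mk_iff hμ (x * g) g).1 hg c.val (Nat.le_of_lt_succ c.isLt)).le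
  let K : ∀ a : MulAction.fixedBy (GL (Fin n) F ⧸ parabolicGL n F μ) x, Fin (n + 1) →
      Submodule F[X] (AEval' (Matrix.mulVecLin x.1)) := fun a c =>
    (exists_under _ (hfix a.1.out (by rw [QuotientGroup.out_eq']; exact a.2) c)).choose
  have hK : ∀ a c, under _ (K a c) = img a.1.out (start μ c.val) := fun a c =>
    (exists_under _ (hfix a.1.out (by rw [QuotientGroup.out_eq']; exact a.2) c)).choose_spec
  let Φ : MulAction.fixedBy (GL (Fin n) F ⧸ parabolicGL n F μ) x → Flag (dim (Matrix.mulVecLin x.1)) μ ⊥ :=
    fun a => ⟨K a, by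
      apply under_inj
      rw [hK, under_bot]
      refine Submodule.finrank_eq_zero.1 ?_
      rw [Fin.val_zero, finrank_img _ (start_le_n hμ (Nat.zero_le _))]
      simp [start], by
      apply under_inj
      rw [hK, under_top]
      refine Submodule.eq_top_of_finrank_eq ?_
      rw [Fin.val_last, finrank_img _ (start_le_n hμ le_rfl), Module.finrank_fin_fun, start_all, hμ], fun i => by
      refine ⟨le_of_under _ ?_, ?_⟩
      · rw [hK, hK]
        refine Submodule.map_mono fun v hv => ?_
        rw [mem_coordSpan] at hv ⊢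
        intro j hj
        exact hv j ((start_mono μ (by simp)).trans hj)
      · rw [← finrank_under, ← finrank_under, hK, hK, Fin.val_succ, Fin.val_castSucc,
          finrank_img _ (start_le_n hμ i.isLt), finrank_img _ (start_le_n hμ i.isLt.le), start_succ]⟩
  refine Nat.card_congr (Equiv.ofBijective Φ ⟨?_, ?_⟩)
  · intro a b h
    refine Subtype.ext ?_
    rw [← QuotientGroup.out_eq' a.1, ← QuotientGroup.out_eq' b.1, mk_eq_mk_iff hμ]
    intro c hc
    have := congrArg (under _) (congrFun (congrArg Subtype.val h) ⟨c, Nat.lt_succ_of_le hc⟩)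
    rwa [show (Φ a).1 = K a from rfl, show (Φ b).1 = K b from rfl, hK, hK] at this
  · intro W
    let P : Fin (n + 1) → Submodule F (Fin n → F) := fun c => under _ (W.1 c)
    have hPm : Monotone P := fun c d h =>
      under_mono _ ((Fin.monotone_iff_le_succ.2 fun i => (W.2.2.2 i).1) h)
    have hPd : ∀ c : Fin (n + 1), finrank F (P c) = start μ c.val := by
      intro c
      refine Fin.induction ?_ (fun i ih => ?_) c
      · show finrank F (under _ (W.1 0)) = _
        rw [W.2.1, under_bot, finrank_bot]
        simp [start]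
      · show finrank F (under _ (W.1 i.succ)) = _
        rw [finrank_under, (W.2.2.2 i).2, ← finrank_under, Fin.val_succ, start_succ]
        exact congrArg (· + μ i) ih
    let lvl : Fin n → Fin (n + 1) := fun i => ⟨compLabel μ i + 1, Nat.succ_lt_succ (compLabel_lt hμ i)⟩
    have hlvl : Monotone fun i => P (lvl i) := fun i j h =>
      hPm (show compLabel μ i + 1 ≤ compLabel μ j + 1 from Nat.succ_le_succ (FlagCosets.compLabel_mono μ h))
    have hpos : 0 < Nat.card {s : Fin n → (Fin n → F) // LinearIndependent F s ∧ ∀ i, s i ∈ P (lvl i)} := by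
      rw [FlagCosets.card_flag_tuples n (fun i => P (lvl i)) hlvl]
      refine Finset.prod_pos fun i _ => Nat.sub_pos_of_lt ?_
      rw [Module.natCard_eq_pow_finrank (K := F) (V := P (lvl i)), hPd]
      refine Nat.pow_lt_pow_right Finite.one_lt_card ?_
      exact (compLabel_lt_iff μ i (compLabel_lt hμ i)).1 (Nat.lt_succ_self _)
    obtain ⟨s, hs, hsP⟩ := (Nat.card_pos_iff.1 hpos).1.some
    let g : GL (Fin n) F := Matrix.GeneralLinearGroup.mk'' (Matrix.of fun i j => s j i) (by
      rw [← Matrix.isUnit_iff_isUnit_det]
      exact Matrix.linearIndependent_cols_iff_isUnit.1 hs)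
    have hg : ∀ c : Fin (n + 1), img g (start μ c.val) = P c := by
      intro c
      have hc : c.val ≤ n := Nat.le_of_lt_succ c.isLt
      refine Submodule.eq_of_le_of_finrank_eq ?_ ?_
      · rintro _ ⟨v, hv, rfl⟩
        rw [SetLike.mem_coe, mem_coordSpan] at hv
        rw [show Matrix.mulVecLin g.1 v = ∑ j, v j • s j from funext fun i => by
          simp [g, Matrix.mulVec, dotProduct, Finset.sum_apply, mul_comm]]
        refine Submodule.sum_mem _ fun j _ => ?_
        by_cases hj : start μ c.val ≤ j.val
        · rw [hv j hj, zero_smul]; exact Submodule.zero_mem _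
        · exact Submodule.smul_mem _ _ (hPm (show compLabel μ j + 1 ≤ c.val from
            (compLabel_lt_iff μ j hc).2 (not_le.1 hj)) (hsP j))
      · rw [finrank_img _ (start_le_n hμ hc), hPd]
    have hga : (QuotientGroup.mk g : GL (Fin n) F ⧸ parabolicGL n F μ) ∈
        MulAction.fixedBy (GL (Fin n) F ⧸ parabolicGL n F μ) x := by
      refine (mk_eq_mk_iff hμ (x * g) g).2 fun c hc => Submodule.eq_of_le_of_finrank_eq ?_ ?_
      · rw [img_mul, hg ⟨c, Nat.lt_succ_of_le hc⟩]
        exact map_under_le _ _
      · rw [finrank_img _ (start_le_n hμ hc), finrank_img _ (start_le_n hμ hc)]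
    refine ⟨⟨_, hga⟩, Subtype.ext (funext fun c => under_inj _ ?_)⟩
    rw [show (Φ ⟨_, hga⟩).1 = K ⟨_, hga⟩ from rfl, hK]
    refine ((mk_eq_mk_iff hμ _ g).1 (QuotientGroup.out_eq' _) c.val (Nat.le_of_lt_succ c.isLt)).trans ?_
    exact hg c

end CfsgLib.Char.FlagFixedPoints
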