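import Mathlib.GroupTheory.Perm.Fin
import Mathlib.SetTheory.Cardinal.Finite
import Mathlib.Order.Atoms
import Mathlib.Data.Fintype.Perm

/-!
# Alternating sums of flag counts in a finite graded lattice

In a finite lattice with a strictly monotone dimension `d`, the alternating sum (over the permutations `κ` with
`κ i ≤ i + 1`) of the numbers of flags with dimension jumps `i + 1 - κ i` is, up to sign, the Möbius number from
`U` to `⊤`; the latter satisfies the theorem of Weisner at every coatom above `U`.
-/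

set_option autoImplicit false

namespace CfsgLib.Char.FlagMobius

open Finset
open scoped Classical

variable {L : Type*} [Lattice L] [BoundedOrder L] [Fintype L]

/-! ### the Möbius number `μ(U, ⊤)` -/

/-- The Möbius number from `U` to the top. -/
noncomputable def mob (U : L) : ℤ :=
  if U = ⊤ then 1 else -∑ V : {V : L // U < V}, mob V.1
termination_by (univ.filter (fun V : L => U < V)).card
decreasing_by
  refine Finset.card_lt_card ⟨fun W hW => ?_, fun h => ?_⟩
  · simp only [mem_filter, mem_univ, true_and] at hW ⊢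
    exact V.2.trans hW
  · have := h (show V.1 ∈ univ.filter (fun W : L => U < W) by simpa using V.2)
    simp at this

theorem mob_top : mob (⊤ : L) = 1 := by rw [mob]; simp

theorem mob_of_ne_top {U : L} (h : U ≠ ⊤) : mob U = -∑ V ∈ univ.filter (fun V : L => U < V), mob V := by
  rw [mob, if_neg h, ← Finset.sum_subtype (univ.filter fun V : L => U < V) (fun x => by simp) (fun V => mob V)]

theorem sum_mob_ge {U : L} (h : U ≠ ⊤) : ∑ V ∈ univ.filter (fun V : L => U ≤ V), mob V = 0 := by
  have hs : univ.filter (fun V : L => U ≤ V) = insert U (univ.filter fun V : L => U < V) := by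
    ext V
    simp only [mem_filter, mem_univ, true_and, mem_insert]
    exact ⟨fun hV => hV.eq_or_lt.imp (fun e => e.symm) id, fun hV => hV.elim (fun e => e.ge) le_of_lt⟩
  rw [hs, Finset.sum_insert (by simp), mob_of_ne_top h]
  exact neg_add_cancel _

/-- Weisner's theorem at a coatom. -/
theorem weisner {C : L} (hC : IsCoatom C) :
    ∀ U, U ≤ C → ∑ V ∈ univ.filter (fun V : L => U ≤ V ∧ V ⊓ C = U), mob V = 0 := by
  intro U
  induction U using WellFoundedGT.induction with
  | _ U ih =>
    intro hU
    have h0 : U ≠ ⊤ := fun e => hC.1 (top_unique (e ▸ hU))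
    have h := sum_mob_ge h0
    rw [← Finset.sum_fiberwise (univ.filter fun V : L => U ≤ V) (fun V => V ⊓ C) mob,
      Finset.sum_eq_single U] at h
    · simpa [Finset.filter_filter] using h
    · intro W _ hW
      by_cases hUW : U ≤ W ∧ W ≤ C
      · refine Eq.trans (Finset.sum_congr ?_ fun _ _ => rfl) (ih W (lt_of_le_of_ne hUW.1 (Ne.symm hW)) hUW.2)
        ext V
        simp only [mem_filter, mem_univ, true_and]
        exact ⟨fun hV => ⟨hV.2 ▸ inf_le_left, hV.2⟩, fun hV => ⟨hUW.1.trans hV.1, hV.2⟩⟩
      · refine Finset.sum_eq_zero fun V hV => absurd ?_ hUW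
        simp only [mem_filter, mem_univ, true_and] at hV
        exact ⟨hV.2 ▸ le_inf hV.1 hU, hV.2 ▸ inf_le_right⟩
    · exact fun h' => absurd (mem_univ _) h'

/-! ### flags with prescribed jumps -/

/-- Flags from `U` to the top with the dimension jumps `μ`. -/
def Flag (d : L → ℕ) {n : ℕ} (μ : Fin n → ℕ) (U : L) : Type _ :=
  {W : Fin (n + 1) → L // W 0 = U ∧ W (Fin.last n) = ⊤ ∧
    ∀ i : Fin n, W i.castSucc ≤ W i.succ ∧ d (W i.succ) = d (W i.castSucc) + μ i}

instance (d : L → ℕ) {n : ℕ} (μ : Fin n → ℕ) (U : L) : Finite (Flag d μ U) :=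
  inferInstanceAs (Finite {W : Fin (n + 1) → L // _})

/-- The number of these flags. -/
noncomputable def cnt (d : L → ℕ) {n : ℕ} (μ : Fin n → ℕ) (U : L) : ℕ := Nat.card (Flag d μ U)

theorem cnt_zero (d : L → ℕ) (μ : Fin 0 → ℕ) (U : L) : cnt d μ U = if U = ⊤ then 1 else 0 := by
  split_ifs with h
  · refine Nat.card_eq_one_iff_unique.2 ⟨⟨fun W W' => Subtype.ext (funext fun i => ?_)⟩,
      ⟨⟨fun _ => U, rfl, h, fun i => i.elim0⟩⟩⟩
    rw [show i = 0 from Fin.ext (by omega), W.2.1, W'.2.1]
  · haveI : IsEmpty (Flag d μ U) := ⟨fun W => h (W.2.1.symm.trans W.2.2.1)⟩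
    exact Nat.card_of_isEmpty

theorem cnt_succ (d : L → ℕ) {n : ℕ} (μ : Fin (n + 1) → ℕ) (U : L) :
    cnt d μ U = ∑ V ∈ univ.filter (fun V : L => U ≤ V ∧ d V = d U + μ 0), cnt d (Fin.tail μ) V := by
  let e : Flag d μ U ≃ Σ V : {V : L // U ≤ V ∧ d V = d U + μ 0}, Flag d (Fin.tail μ) V.1 :=
    { toFun := fun W => ⟨⟨W.1 1, by
          have h := W.2.2.2 0
          rwa [Fin.castSucc_zero, Fin.succ_zero_eq_one, W.2.1] at h⟩,
        Fin.tail W.1, by simp [Fin.tail], by simpa [Fin.tail] using W.2.2.1, fun i => by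
          have h := W.2.2.2 i.succ
          rw [← Fin.succ_castSucc] at h
          exact h⟩
      invFun := fun x => ⟨Fin.cons U x.2.1, rfl, by
          rw [← Fin.succ_last, Fin.cons_succ]; exact x.2.2.2.1,
        fun i => by
          refine Fin.cases ?_ (fun j => ?_) i
          · rw [Fin.castSucc_zero, Fin.cons_zero, Fin.cons_succ, x.2.2.1]; exact x.1.2
          · rw [← Fin.succ_castSucc, Fin.cons_succ, Fin.cons_succ]; exact x.2.2.2.2 j⟩
      left_inv := fun W => Subtype.ext (funext fun i => by
        refine Fin.cases ?_ (fun j => ?_) i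
        · exact W.2.1.symm
        · simp only [Fin.cons_succ]
          rfl)
      right_inv := by
        rintro ⟨⟨V, hV⟩, W, hW0, hW1, hW2⟩
        obtain rfl : W 0 = V := hW0
        rfl }
  rw [cnt, Nat.card_congr e, Nat.card_sigma,
    ← Finset.sum_subtype (univ.filter fun V : L => U ≤ V ∧ d V = d U + μ 0) (fun x => by simp)
      (fun V => Nat.card (Flag d (Fin.tail μ) V))]
  rfl

/-! ### the alternating sum -/

/-- The jump in row `i` and column `j`. -/
def wgt (a i j : ℕ) : ℕ := if j = 0 then a + i else i + 1 - j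

/-- The alternating sum of the flag counts. -/
noncomputable def alt (d : L → ℕ) (n a : ℕ) (U : L) : ℤ :=
  ∑ κ : Equiv.Perm (Fin n),
    if ∀ i, (κ i).val ≤ i.val + 1 then
      (Equiv.Perm.sign κ : ℤ) * (cnt d (fun i : Fin n => wgt a i.val (κ i).val) U : ℤ)
    else 0

variable {d : L → ℕ}

theorem eq_top_of_le_dim (hd : StrictMono d) {V : L} (h : d (⊤ : L) ≤ d V) : V = ⊤ :=
  by_contra fun hV => absurd (hd (lt_top_iff_ne_top.2 hV)) (not_lt.2 h)

theorem eq_of_le_of_dim (hd : StrictMono d) {U V : L} (hle : U ≤ V) (h : d V ≤ d U) : V = U :=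
  by_contra fun hV => absurd (hd (lt_of_le_of_ne hle (Ne.symm hV))) (not_lt.2 h)

theorem alt_one {a : ℕ} {U : L} (h : d U + a = d (⊤ : L)) : alt d 1 a U = 1 := by
  have h1 : cnt d (fun i : Fin 1 => wgt a i.val ((1 : Equiv.Perm (Fin 1)) i).val) U = 1 := by
    rw [cnt_succ, Finset.sum_congr rfl fun V _ => cnt_zero d _ V]
    simp [wgt, h]
  rw [alt, Fintype.sum_unique, show (default : Equiv.Perm (Fin 1)) = 1 from Subsingleton.elim _ _,
    if_pos fun i => by simp, h1]
  simp

theorem alt_succ_succ (hd : StrictMono d) (n a : ℕ) (U : L) :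
    alt d (n + 2) a U = ∑ V ∈ univ.filter (fun V : L => U ≤ V ∧ d V = d U + a), alt d (n + 1) 1 V -
      alt d (n + 1) (a + 1) U := by
  rw [alt, ← Equiv.sum_comp Equiv.Perm.decomposeFin.symm, Fintype.sum_prod_type, Fin.sum_univ_succ]
  have h0 : ∀ e : Equiv.Perm (Fin (n + 1)),
      (∀ i, (Equiv.Perm.decomposeFin.symm ((0 : Fin (n + 2)), e) i).val ≤ i.val + 1) ↔
        ∀ i, (e i).val ≤ i.val + 1 := by
    intro e
    rw [Fin.forall_fin_succ]
    simp
  have hw0 : ∀ e : Equiv.Perm (Fin (n + 1)),
      (fun i : Fin (n + 1) => wgt a i.succ.val (Equiv.Perm.decomposeFin.symm ((0 : Fin (n + 2)), e) i.succ).val) =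
        fun i : Fin (n + 1) => wgt 1 i.val (e i).val := by
    intro e
    funext i
    simp only [Equiv.Perm.decomposeFin_symm_apply_succ, Equiv.swap_self, Equiv.refl_apply, Fin.val_succ, wgt]
    rw [if_neg (Nat.succ_ne_zero _)]
    split_ifs with h <;> omega
  have e0 : ∑ e : Equiv.Perm (Fin (n + 1)),
      (if ∀ i, (Equiv.Perm.decomposeFin.symm ((0 : Fin (n + 2)), e) i).val ≤ i.val + 1 then
        (Equiv.Perm.sign (Equiv.Perm.decomposeFin.symm ((0 : Fin (n + 2)), e)) : ℤ) *
          (cnt d (fun i : Fin (n + 2) => wgt a i.val (Equiv.Perm.decomposeFin.symm ((0 : Fin (n + 2)), e) i).val) U : ℤ)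
      else 0) = ∑ V ∈ univ.filter (fun V : L => U ≤ V ∧ d V = d U + a), alt d (n + 1) 1 V := by
    simp only [alt]
    rw [Finset.sum_comm (s := univ.filter fun V : L => U ≤ V ∧ d V = d U + a)]
    refine Finset.sum_congr rfl fun e _ => ?_
    rw [if_congr (h0 e) rfl rfl]
    split_ifs with he
    · rw [Equiv.Perm.decomposeFin.symm_sign, cnt_succ]
      rw [show wgt a (0 : Fin (n + 2)).val (Equiv.Perm.decomposeFin.symm ((0 : Fin (n + 2)), e) 0).val = a by
        simp [wgt]]
      simp only [if_true, Nat.cast_sum, Finset.mul_sum, one_mul]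
      refine Finset.sum_congr rfl fun V _ => ?_
      rw [← hw0 e]
      rfl
    · simp
  rw [e0, Fin.sum_univ_succ, sub_eq_add_neg]
  congr 1
  rw [Finset.sum_eq_zero (s := (univ : Finset (Fin n)))]
  · rw [add_zero, alt, ← Finset.sum_neg_distrib]
    refine Finset.sum_congr rfl fun e _ => ?_
    have hj : ∀ i : Fin (n + 1),
        (Equiv.Perm.decomposeFin.symm ((0 : Fin (n + 1)).succ, e) i.succ).val =
          if (e i).val = 0 then 0 else (e i).val + 1 := by
      intro i
      rw [Equiv.Perm.decomposeFin_symm_apply_succ, Equiv.swap_apply_def]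
      rw [if_neg (Fin.succ_ne_zero _)]
      by_cases h2 : e i = 0
      · rw [if_pos (by rw [h2]), if_pos (by rw [h2]; rfl)]
        rfl
      · rw [if_neg (fun h => h2 (Fin.succ_inj.1 h)), if_neg (fun h => h2 (Fin.ext (by rw [h]; rfl))), Fin.val_succ]
    have h1 : (∀ i, (Equiv.Perm.decomposeFin.symm ((0 : Fin (n + 1)).succ, e) i).val ≤ i.val + 1) ↔
        ∀ i, (e i).val ≤ i.val + 1 := by
      rw [Fin.forall_fin_succ]
      simp only [Equiv.Perm.decomposeFin_symm_apply_zero, hj]
      constructor
      · rintro ⟨-, h⟩ i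
        have := h i
        simp only [Fin.val_succ] at this
        split_ifs at this <;> omega
      · intro h
        refine ⟨by simp, fun i => ?_⟩
        have := h i
        simp only [Fin.val_succ]
        split_ifs <;> omega
    rw [if_congr h1 rfl rfl]
    split_ifs with he
    · rw [Equiv.Perm.decomposeFin.symm_sign, if_neg (Fin.succ_ne_zero _), cnt_succ]
      have hz : wgt a (0 : Fin (n + 2)).val
          (Equiv.Perm.decomposeFin.symm ((0 : Fin (n + 1)).succ, e) 0).val = 0 := by simp [wgt]
      have hU : univ.filter (fun V : L => U ≤ V ∧ d V = d U + 0) = {U} := by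
        ext V
        simp only [mem_filter, mem_univ, true_and, mem_singleton, add_zero]
        exact ⟨fun h => eq_of_le_of_dim hd h.1 h.2.le, by rintro rfl; simp⟩
      have htail : (Fin.tail fun i : Fin (n + 2) =>
          wgt a i.val (Equiv.Perm.decomposeFin.symm ((0 : Fin (n + 1)).succ, e) i).val) =
          fun i : Fin (n + 1) => wgt (a + 1) i.val (e i).val := by
        funext i
        simp only [Fin.tail, hj, Fin.val_succ, wgt]
        rcases Nat.eq_zero_or_pos (e i).val with hz' | hz'
        · rw [if_pos hz', if_pos rfl, if_pos hz']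
          omega
        · rw [if_neg hz'.ne', if_neg (Nat.succ_ne_zero _), if_neg hz'.ne']
          omega
      rw [hz, hU, Finset.sum_singleton, htail]
      simp
    · simp
  · intro p _
    refine Finset.sum_eq_zero fun e _ => if_neg fun h => ?_
    have := h 0
    simp at this

/-- The alternating sum is an upper partial sum of Möbius numbers. -/
theorem alt_eq (hd : StrictMono d) : ∀ (n a : ℕ) (U : L), d U + a + n = d (⊤ : L) →
    alt d (n + 1) a U = (-1) ^ n * ∑ V ∈ univ.filter (fun V : L => U ≤ V ∧ d U + a ≤ d V), mob V := by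
  intro n
  induction n with
  | zero =>
    intro a U h
    rw [alt_one (by omega), pow_zero, one_mul]
    rw [show univ.filter (fun V : L => U ≤ V ∧ d U + a ≤ d V) = {⊤} from ?_, Finset.sum_singleton, mob_top]
    ext V
    simp only [mem_filter, mem_univ, true_and, mem_singleton]
    exact ⟨fun hV => eq_top_of_le_dim hd (by omega), by rintro rfl; exact ⟨le_top, by omega⟩⟩
  | succ n ih =>
    intro a U h
    have hsplit : univ.filter (fun V : L => U ≤ V ∧ d U + a ≤ d V) =
        univ.filter (fun V : L => U ≤ V ∧ d V = d U + a) ∪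
          univ.filter (fun V : L => U ≤ V ∧ d U + (a + 1) ≤ d V) := by
      ext V
      simp only [mem_filter, mem_univ, true_and, mem_union, ← and_or_left]
      exact and_congr_right fun _ => by omega
    have hT : ∀ V, d V = d U + a →
        ∑ W ∈ univ.filter (fun W : L => V ≤ W ∧ d V + 1 ≤ d W), mob W = -mob V := by
      intro V hV
      rw [mob_of_ne_top (fun e => by subst e; omega), neg_neg]
      refine Finset.sum_congr (Finset.ext fun W => ?_) fun _ _ => rfl
      simp only [mem_filter, mem_univ, true_and]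
      exact ⟨fun hW => lt_of_le_of_ne hW.1 (by rintro rfl; omega), fun hW => ⟨hW.le, hd hW⟩⟩
    rw [alt_succ_succ hd, ih (a + 1) U (by omega), hsplit, Finset.sum_union, mul_add]
    · rw [Finset.sum_congr rfl fun V hV => by
        rw [ih 1 V (by have := (mem_filter.1 hV).2; omega), hT V (mem_filter.1 hV).2.2]]
      rw [pow_succ, Finset.mul_sum]
      simp only [mul_neg, mul_one, neg_mul, Finset.sum_neg_distrib, Finset.mul_sum]
      ring
    · rw [Finset.disjoint_filter]
      intros
      omega

/-- At `a = 1` the alternating sum is the signed Möbius number. -/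
theorem alt_one_eq_mob (hd : StrictMono d) {n : ℕ} (hn : d (⊤ : L) = d (⊥ : L) + n) :
    alt d n 1 (⊥ : L) = (-1) ^ n * mob (⊥ : L) := by
  cases n with
  | zero =>
    have hbt : (⊥ : L) = ⊤ := eq_top_of_le_dim hd (by omega)
    rw [alt, Fintype.sum_unique, if_pos fun i => i.elim0, cnt_zero, if_pos hbt, hbt, mob_top]
    simp [Subsingleton.elim (default : Equiv.Perm (Fin 0)) 1]
  | succ m =>
    rw [alt_eq hd m 1 ⊥ (by omega), mob_of_ne_top (fun e => by rw [e] at hn; omega), pow_succ]
    rw [show univ.filter (fun V : L => ⊥ ≤ V ∧ d (⊥ : L) + 1 ≤ d V) =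
      univ.filter (fun V : L => ⊥ < V) from Finset.ext fun V => by
        simp only [mem_filter, mem_univ, true_and]
        exact ⟨fun hW => lt_of_le_of_ne hW.1 (by rintro rfl; omega), fun hW => ⟨hW.le, hd hW⟩⟩]
    ring

end CfsgLib.Char.FlagMobius
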