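/-
The Frobenius kernel is characteristic and comparable with every normal subgroup.
-/
import Cfsg.Agent.Lib.Coprime.Frobenius

set_option autoImplicit false

namespace CfsgLib.Char.FrobKer

open Subgroup

theorem main {L : Type*} [Group L] [Finite L] {H : Subgroup L} (hH : Cfsg.IsFrobeniusComplement H)
    (K : Subgroup L) (hK : (K : Set L) = Cfsg.frobeniusKernel H) :
    K.Characteristic ∧ ∀ N : Subgroup L, N.Normal → K ≤ N ∨ N ≤ K := by
  obtain ⟨N₀, hN₀, hn, -, hnil⟩ := Coprime.frob_kernel_data hH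
  obtain rfl : N₀ = K := SetLike.coe_injective (hN₀.trans hK.symm)
  haveI := hn
  constructor
  · refine characteristic_iff_map_le.2 fun φ => ?_
    refine Coprime.frob_le_kernel hH hK (Normal.map hn _ φ.surjective) ?_ hnil
    haveI := hnil
    exact Group.nilpotent_of_mulEquiv (N₀.equivMapOfInjective φ.toMonoidHom φ.injective)
  · intro N hN
    by_cases hle : N ≤ N₀
    · exact Or.inr hle
    refine Or.inl fun v hv => ?_
    obtain ⟨x, hxN, hxK⟩ := SetLike.not_le_iff_exists.1 hle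
    have hx : x ∉ Cfsg.frobeniusKernel H := fun h => hxK (hK.symm ▸ h : x ∈ (N₀ : Set L))
    rw [Coprime.frob_mem_kernel_iff, not_or, not_forall] at hx
    obtain ⟨hx1, g, hg⟩ := hx
    rw [not_not] at hg
    set y := g⁻¹ * x * g
    have hyN : y ∈ N := by simpa using hN.conj_mem x hxN g⁻¹
    have hy1 : y ≠ 1 := fun e => hx1 (by rw [show x = g * y * g⁻¹ by simp [y, mul_assoc], e]; group)
    let f : N₀ → N₀ := fun k => ⟨(k : L) * (y * (k : L)⁻¹ * y⁻¹),
      mul_mem k.2 (hn.conj_mem _ (inv_mem k.2) y)⟩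
    have hf : Function.Bijective f := by
      refine Finite.injective_iff_bijective.1 fun a b hab => ?_
      have e : (a : L) * (y * (a : L)⁻¹ * y⁻¹) = (b : L) * (y * (b : L)⁻¹ * y⁻¹) := congrArg Subtype.val hab
      have e2 : ((b : L)⁻¹ * a) * y = y * ((b : L)⁻¹ * a) := by
        calc ((b : L)⁻¹ * a) * y = (b : L)⁻¹ * ((a : L) * (y * (a : L)⁻¹ * y⁻¹)) * y * a := by group
          _ = y * ((b : L)⁻¹ * a) := by rw [e]; group
      have h1 : (b : L)⁻¹ * a ∈ H := Coprime.frob_mem_of_commute hH hg hy1 e2.symm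
      exact Subtype.ext (inv_mul_eq_one.1 (Coprime.frob_kernel_inter
        (hK ▸ mul_mem (inv_mem b.2) a.2 : (b : L)⁻¹ * a ∈ Cfsg.frobeniusKernel H) h1)).symm
    obtain ⟨k, hk⟩ := hf.2 ⟨v, hv⟩
    have e : (k : L) * (y * (k : L)⁻¹ * y⁻¹) = v := congrArg Subtype.val hk
    rw [← e, show (k : L) * (y * (k : L)⁻¹ * y⁻¹) = ((k : L) * y * (k : L)⁻¹) * y⁻¹ by group]
    exact mul_mem (hN.conj_mem y hyN k) (inv_mem hyN)

end CfsgLib.Char.FrobKer
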