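/-
A Frobenius section acting non-trivially on a coprime kernel forces an element of larger order.
-/
import Cfsg.Agent.Lib.Coprime.Frobenius
import Cfsg.Agent.Lib.Coprime.Action
import Cfsg.Agent.Lib.Coprime.PGroupFrattini
import Cfsg.Agent.Lib.Coprime.Hall
import Cfsg.Agent.Lib.PGroup.ElementaryBasic
import Mathlib.GroupTheory.Frattini
import Mathlib.GroupTheory.Nilpotent

set_option autoImplicit false

open Subgroup

namespace CfsgLib.Char.FrobeniusQuotient

universe u

variable {G : Type u} [Group G] [Finite G]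

/-- A subgroup containing a Sylow subgroup for every prime is everything. -/
theorem eq_top_of_sylows {X : Type u} [Group X] [Finite X] (C : Subgroup X)
    (h : ∀ q : ℕ, q.Prime → q ∣ Nat.card X → ∃ P : Sylow q X, (P : Subgroup X) ≤ C) : C = ⊤ := by
  by_contra hC
  obtain ⟨q, hq, hd⟩ := Nat.exists_prime_and_dvd (mt index_eq_one.1 hC)
  haveI := Fact.mk hq
  obtain ⟨P, hP⟩ := h q hq (hd.trans C.index_dvd_card)
  exact P.not_dvd_index (hd.trans (index_dvd_of_le hP))

/-- Powers of `x * u` modulo the Frattini subgroup of a normalized `p`-group. -/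
theorem pow_mul_eq {P : Subgroup G} {V : Type*} [CommGroup V] (π : P →* V) (α : ↥(normalizer (P : Set G)) → (V →* V))
    (hα : ∀ (a : ↥(normalizer (P : Set G))) (u : P) (w : P), (w : G) = a * u * (a : G)⁻¹ → π w = α a (π u))
    (x : ↥(normalizer (P : Set G))) (u : P) (k : ℕ) :
    ∃ w : P, ((x : G) * u) ^ k = w * (x : G) ^ k ∧ π w = ∏ i ∈ Finset.range k, α (x ^ (i + 1)) (π u) := by
  induction k with
  | zero => exact ⟨1, by simp, by simp⟩
  | succ k ih =>
    obtain ⟨w, hw, hπ⟩ := ih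
    have hm : ((x ^ (k + 1) : ↥(normalizer (P : Set G))) : G) * u * ((x ^ (k + 1) : ↥(normalizer (P : Set G))) : G)⁻¹ ∈ P :=
      (mem_normalizer_iff.1 (x ^ (k + 1)).2 _).1 u.2
    refine ⟨w * ⟨_, hm⟩, ?_, ?_⟩
    · simp only [pow_succ, hw, Subgroup.coe_mul, SubgroupClass.coe_pow]
      group
    · rw [map_mul, hπ, Finset.prod_range_succ, hα (x ^ (k + 1)) u ⟨_, hm⟩ rfl]

theorem centralizes_of_norm_trivial {p : ℕ} [Fact p.Prime] {P F : Subgroup G} (hP : IsPGroup p P)
    (hF : F ≤ normalizer (P : Set G)) (hcop : ¬ p ∣ Nat.card F) {x : G} {n : ℕ} (hn : 0 < n)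
    (hxP : x ∈ normalizer (P : Set G)) (hxF : x ∈ normalizer (F : Set G))
    (hfree : ∀ i, 0 < i → i < n → ∀ f ∈ F, Commute f (x ^ i) → f = 1)
    (hlift : ∀ u ∈ P, (x * u) ^ n = 1) (hxn : x ^ n = 1) : F ≤ centralizer (P : Set G) := by
  classical
  haveI := Fintype.ofFinite F
  set Φ := frattini P with hΦ
  letI : CommGroup (P ⧸ Φ) := { (inferInstance : Group (P ⧸ Φ)) with
    mul_comm := fun a b => by
      induction a using QuotientGroup.induction_on with | _ a => ?_
      induction b using QuotientGroup.induction_on with | _ b => ?_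
      rw [← QuotientGroup.mk_mul, ← QuotientGroup.mk_mul, QuotientGroup.eq]
      refine Coprime.commutator_le_frattini hP ?_
      rw [show (a * b)⁻¹ * (b * a) = b⁻¹ * a⁻¹ * (b⁻¹)⁻¹ * (a⁻¹)⁻¹ by group]
      exact Subgroup.commutator_mem_commutator (mem_top b⁻¹) (mem_top a⁻¹) }
  let c : ↥(normalizer (P : Set G)) → (P →* P) := fun a =>
    { toFun := fun u => ⟨a * u * (a : G)⁻¹, (mem_normalizer_iff.1 a.2 _).1 u.2⟩
      map_one' := Subtype.ext (by simp)
      map_mul' := fun u v => Subtype.ext (by simp) }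
  have hc : ∀ a, Φ ≤ Φ.comap (c a) := fun a => by
    let e : P ≃* P :=
      { c a with
        invFun := c a⁻¹
        left_inv := fun u => Subtype.ext (by simp [c, mul_assoc])
        right_inv := fun u => Subtype.ext (by simp [c, mul_assoc]) }
    haveI : (frattini P).Characteristic := inferInstance
    exact le_of_eq (Characteristic.fixed (H := Φ) ‹_› e).symm
  let α : ↥(normalizer (P : Set G)) →* Monoid.End (P ⧸ Φ) :=
    { toFun := fun a => QuotientGroup.map Φ Φ (c a) (hc a)
      map_one' := QuotientGroup.monoidHom_ext _ (MonoidHom.ext fun u => by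
        show ((c 1 u : P) : P ⧸ Φ) = (u : P ⧸ Φ)
        exact congrArg _ (Subtype.ext (by simp [c])))
      map_mul' := fun a b => QuotientGroup.monoidHom_ext _ (MonoidHom.ext fun u => by
        show ((c (a * b) u : P) : P ⧸ Φ) = ((c a (c b u) : P) : P ⧸ Φ)
        exact congrArg _ (Subtype.ext (by simp [c, mul_assoc]))) }
  have hα : ∀ (a : ↥(normalizer (P : Set G))) (u w : P), (w : G) = a * u * (a : G)⁻¹ →
      QuotientGroup.mk' Φ w = α a (QuotientGroup.mk' Φ u) := fun a u w h => by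
    show (w : P ⧸ Φ) = ((c a u : P) : P ⧸ Φ)
    exact congrArg _ (Subtype.ext h)
  set X : ↥(normalizer (P : Set G)) := ⟨x, hxP⟩ with hX
  let ι : F → ↥(normalizer (P : Set G)) := fun f => ⟨f, hF f.2⟩
  have hmul : ∀ (a b : ↥(normalizer (P : Set G))) (v : P ⧸ Φ), α (a * b) v = α a (α b v) := fun a b v => by
    rw [map_mul]; rfl
  have hnorm : ∀ v : P ⧸ Φ, ∏ i ∈ Finset.range n, α (X ^ i) v = 1 := by
    intro v
    obtain ⟨v', rfl⟩ : ∃ v', α X v' = v := ⟨α X⁻¹ v, by rw [← hmul, mul_inv_cancel, map_one]; rfl⟩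
    obtain ⟨u, rfl⟩ := QuotientGroup.mk'_surjective Φ v'
    obtain ⟨w, hw, hπ⟩ := pow_mul_eq (QuotientGroup.mk' Φ) (fun a => α a) hα X u n
    rw [hlift u u.2, show ((X : G)) = x from rfl, hxn, mul_one] at hw
    rw [show w = 1 from Subtype.ext hw.symm, map_one] at hπ
    rw [hπ]
    exact Finset.prod_congr rfl fun i _ => by rw [← hmul, ← pow_succ]; rfl
  set T : (P ⧸ Φ) → (P ⧸ Φ) := fun v => ∏ f : F, α (ι f) v with hT
  have hTfix : ∀ (g : F) (v : P ⧸ Φ), α (ι g) (T v) = T v := by
    intro g v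
    simp only [hT, map_prod]
    refine Fintype.prod_equiv (Equiv.mulLeft g) _ _ fun f => ?_
    rw [← hmul]
    exact congrArg (fun a => α a v) (Subtype.ext rfl)
  have hfix : ∀ (g : F) (v : P ⧸ Φ), α (ι g) v = v := by
    intro g v
    have hprod : ∏ i ∈ Finset.range n, ∏ f : F, α (ι f * X ^ i * (ι f)⁻¹) v = 1 := by
      rw [Finset.prod_comm]
      refine Finset.prod_eq_one fun f _ => ?_
      calc ∏ i ∈ Finset.range n, α (ι f * X ^ i * (ι f)⁻¹) v
          = α (ι f) (∏ i ∈ Finset.range n, α (X ^ i) (α (ι f)⁻¹ v)) := by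
            rw [map_prod]; exact Finset.prod_congr rfl fun i _ => by rw [hmul, hmul]
        _ = 1 := by rw [hnorm, map_one]
    have hi : ∀ i, 0 < i → i < n → ∏ f : F, α (ι f * X ^ i * (ι f)⁻¹) v = T (α (X ^ i) v) := by
      intro i h0 hin
      have hxi : x ^ i ∈ normalizer (F : Set G) := pow_mem hxF i
      let d : F → F := fun f => ⟨(f : G) * x ^ i * (f : G)⁻¹ * (x ^ i)⁻¹, by
        rw [show (f : G) * x ^ i * (f : G)⁻¹ * (x ^ i)⁻¹ = f * (x ^ i * (f : G)⁻¹ * (x ^ i)⁻¹) by group]
        exact mul_mem f.2 ((mem_normalizer_iff.1 hxi _).1 (inv_mem f.2))⟩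
      have hd : Function.Injective d := fun f f' e => by
        have e' : (f : G) * x ^ i * (f : G)⁻¹ = (f' : G) * x ^ i * (f' : G)⁻¹ :=
          mul_right_cancel (congrArg Subtype.val e)
        refine Subtype.ext (inv_mul_eq_one.1 (hfree i h0 hin _ (mul_mem (inv_mem f.2) f'.2) ?_))
        show (f : G)⁻¹ * f' * x ^ i = x ^ i * ((f : G)⁻¹ * f')
        calc (f : G)⁻¹ * f' * x ^ i = (f : G)⁻¹ * ((f' : G) * x ^ i * (f' : G)⁻¹) * f' := by group
          _ = _ := by rw [← e']; group
      simp only [hT]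
      refine Fintype.prod_bijective d ((Finite.injective_iff_bijective).1 hd) _ _ fun f => ?_
      rw [← hmul]
      exact congrArg (fun a => α a v) (Subtype.ext (by simp [ι, d, X, mul_assoc]))
    obtain ⟨m, rfl⟩ : ∃ m, n = m + 1 := ⟨n - 1, by omega⟩
    rw [Finset.prod_range_succ', Finset.prod_congr rfl (fun i hi' => hi (i + 1) (by omega)
      (by have := Finset.mem_range.1 hi'; omega))] at hprod
    have h0 : ∏ f : F, α (ι f * X ^ 0 * (ι f)⁻¹) v = v ^ Nat.card F := by
      simp only [pow_zero, mul_one, mul_inv_cancel, map_one]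
      show ∏ _f : F, v = _
      rw [Finset.prod_const, Finset.card_univ, Nat.card_eq_fintype_card]
    rw [h0] at hprod
    have hpow : α (ι g) (v ^ Nat.card F) = v ^ Nat.card F := by
      rw [eq_inv_of_mul_eq_one_right hprod, map_inv, map_prod, Finset.prod_congr rfl fun i _ => hTfix g _]
    rw [map_pow] at hpow
    have hc' : (Nat.card (P ⧸ Φ)).Coprime (Nat.card F) := by
      obtain ⟨k, hk⟩ := IsPGroup.iff_card.1 (hP.to_quotient Φ)
      rw [hk]
      exact Nat.Coprime.pow_left k ((Fact.out : p.Prime).coprime_iff_not_dvd.2 hcop)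
    exact (powCoprime hc').injective hpow
  refine Coprime.le_centralizer_of_trivial_on_frattini_quotient hF ?_ fun a ha k hk => ?_
  · obtain ⟨k, hk⟩ := IsPGroup.iff_card.1 (hP.to_subgroup (frattini P))
    rw [hk]
    exact (Nat.Coprime.pow_left k ((Fact.out : p.Prime).coprime_iff_not_dvd.2 hcop)).symm
  · have h : ((c (ι ⟨a, ha⟩) ⟨k, hk⟩ : P) : P ⧸ Φ) = ((⟨k, hk⟩ : P) : P ⧸ Φ) := hfix ⟨a, ha⟩ ((⟨k, hk⟩ : P) : P ⧸ Φ)
    refine ⟨c (ι ⟨a, ha⟩) ⟨k, hk⟩ * (⟨k, hk⟩ : P)⁻¹, ?_, rfl⟩
    show _ ∈ Φ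
    rw [← QuotientGroup.eq_one_iff, QuotientGroup.mk_mul, h, QuotientGroup.mk_inv, mul_inv_cancel]

theorem exists_orderOf (N : Subgroup G) [N.Normal] (Fb Hb : Subgroup (G ⧸ N)) [Fb.Normal]
    (hHb : Cfsg.IsFrobeniusComplement Hb) (hker : Cfsg.frobeniusKernel Hb = (Fb : Set (G ⧸ N)))
    (hcyc : IsCyclic Hb) (hcop : (Nat.card Fb).Coprime (Nat.card N))
    (hnot : ¬ Fb ≤ (centralizer (N : Set G)).map (QuotientGroup.mk' N)) :
    ∃ p : ℕ, p.Prime ∧ p ∣ Nat.card N ∧ ∃ g : G, orderOf g = p * Nat.card Hb := by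
  classical
  by_contra hcon
  set π := QuotientGroup.mk' N with hπ
  obtain ⟨K, hK, -, -, hKnil⟩ := Coprime.frob_kernel_data hHb
  obtain rfl : K = Fb := SetLike.coe_injective (hK.trans hker)
  -- a Sylow subgroup of the kernel outside the image of the centralizer
  obtain ⟨q, hq, hqK, S, hS⟩ : ∃ q, q.Prime ∧ q ∣ Nat.card K ∧ ∃ S : Sylow q K,
      ¬ (S : Subgroup K) ≤ ((centralizer (N : Set G)).map π).subgroupOf K := by
    by_contra hc
    push Not at hc
    exact hnot (subgroupOf_eq_top.1 (eq_top_of_sylows _ fun q hq hd => ⟨default, hc q hq hd default⟩))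
  haveI := Fact.mk hq
  haveI := hKnil
  haveI : (S : Subgroup K).Normal := inferInstance
  haveI : (S : Subgroup K).Characteristic := Sylow.characteristic_of_normal S inferInstance
  set Q := (S : Subgroup K).map K.subtype with hQdef
  haveI : Q.Normal := inferInstance
  have hqN : ¬ q ∣ Nat.card N := fun h => hq.ne_one (Nat.eq_one_of_dvd_coprimes hcop hqK h)
  set L := Q.comap π with hL
  haveI : L.Normal := inferInstance
  have hNL : N ≤ L := fun y hy => by
    show π y ∈ Q
    rw [hπ, QuotientGroup.mk'_apply, (QuotientGroup.eq_one_iff y).2 hy]; exact one_mem _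
  obtain ⟨T⟩ : Nonempty (Sylow q L) := inferInstance
  set F := (T : Subgroup L).map L.subtype with hFdef
  have hFL : F ≤ L := map_subtype_le _
  have hFq : IsPGroup q F := T.2.map _
  have hFsyl : Coprime.IsSylowIn q F L := Coprime.isSylowIn_map T
  have hFN : F ⊓ N = ⊥ := by
    refine Coprime.disjoint_of_coprime_card ?_
    obtain ⟨k, hk⟩ := IsPGroup.iff_card.1 hFq
    rw [hk]; exact Nat.Coprime.pow_left k (hq.coprime_iff_not_dvd.2 hqN)
  have hinj : ∀ f ∈ F, π f = 1 → f = 1 := fun f hf e => by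
    have h : f ∈ F ⊓ N := ⟨hf, (QuotientGroup.eq_one_iff f).1 e⟩
    rwa [hFN] at h
  have hLF : F ⊔ N = L := by
    have h1 := Coprime.card_mul_relIndex (sup_le hFL hNL)
    refine le_antisymm (sup_le hFL hNL) (relIndex_eq_one.1 ?_)
    by_contra hne
    obtain ⟨r, hr, hrd⟩ := Nat.exists_prime_and_dvd hne
    have hLc : Nat.card L = Nat.card Q * Nat.card N := by
      have h := Coprime.card_mul_relIndex hNL
      rw [← h, mul_comm]
      congr 1
      have h2 := relIndex_comap (⊥ : Subgroup (G ⧸ N)) π L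
      rw [MonoidHom.comap_bot, hπ, QuotientGroup.ker_mk', relIndex_bot_left,
        map_comap_eq_self_of_surjective (QuotientGroup.mk'_surjective N)] at h2
      exact h2
    obtain ⟨k, hk⟩ := IsPGroup.iff_card.1 (S.2.map K.subtype)
    rw [← hQdef] at hk
    have hfac : (Nat.card L).factorization q = k := by
      rw [hLc, hk, Nat.factorization_mul (pow_pos hq.pos k).ne' Nat.card_pos.ne', Finsupp.add_apply,
        hq.factorization_pow, Finsupp.single_eq_same, Nat.factorization_eq_zero_of_not_dvd hqN, add_zero]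
    have h3 : Nat.card ↥(F ⊔ N) = q ^ k * Nat.card N := by
      have h4 := EABasic.card_sup_mul_card_inf_of_le_normalizer (H := F) (N := N)
        (by rw [normalizer_eq_top]; exact le_top)
      rw [hFN, card_bot, mul_one, hFsyl.2, hfac] at h4
      exact h4
    rw [h3, hLc, hk] at h1
    have : ((F ⊔ N).relIndex L) = 1 := by
      have := Nat.eq_of_mul_eq_mul_left (Nat.mul_pos (pow_pos hq.pos k) Nat.card_pos) (h1.trans (mul_one _).symm)
      exact this
    exact hne this
  have hFC : ¬ F ≤ centralizer (N : Set G) := fun h => hS fun s hs => by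
    show (s : G ⧸ N) ∈ (centralizer (N : Set G)).map π
    obtain ⟨y, hy⟩ := QuotientGroup.mk'_surjective N (s : G ⧸ N)
    have hyL : y ∈ L := by show π y ∈ Q; rw [hπ, hy]; exact ⟨s, hs, rfl⟩
    rw [← hLF] at hyL
    obtain ⟨m, hm, f, hf, rfl⟩ := Coprime.mem_sup_exists (N := N) (H := F) (by rw [normalizer_eq_top]; exact le_top)
      (sup_comm F N ▸ hyL)
    refine ⟨f, h hf, ?_⟩
    have hm1 : π m = 1 := (QuotientGroup.eq_one_iff m).2 hm
    rw [← hy, ← hπ, map_mul, hm1, one_mul]
  have hFnorm : F ≤ normalizer (N : Set G) := by rw [normalizer_eq_top]; exact le_top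
  have hcopFN : (Nat.card F).Coprime (Nat.card N) := by
    obtain ⟨k, hk⟩ := IsPGroup.iff_card.1 hFq
    rw [hk]; exact Nat.Coprime.pow_left k (hq.coprime_iff_not_dvd.2 hqN)
  have hFsol : Group.IsSolvable F := by
    haveI := hFq.isNilpotent
    infer_instance
  obtain ⟨p, hp, P, hPN, hFP, hPC⟩ : ∃ (p : ℕ) (_ : p.Prime) (P : Subgroup G),
      Coprime.IsSylowIn p P N ∧ F ≤ normalizer (P : Set G) ∧ ¬ F ≤ centralizer (P : Set G) := by
    by_contra hc
    push Not at hc
    refine hFC (le_centralizer_iff.1 (subgroupOf_eq_top.1 (eq_top_of_sylows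
      ((centralizer (F : Set G)).subgroupOf N) fun p hp hd => ?_)))
    haveI := Fact.mk hp
    obtain ⟨P, hP, hFP⟩ := Coprime.exists_invariant_sylow hFnorm hcopFN (Or.inl hFsol) p
    refine ⟨hP.toSylow, fun s hs => ?_⟩
    exact (le_centralizer_iff.1 (hc p hp P hP hFP)) (show (s : G) ∈ P from hs)
  haveI := Fact.mk hp
  have hpN : p ∣ Nat.card N → True := fun _ => trivial
  -- lifts normalizing both
  have hsurj : ∀ g : G, ∃ a, a ∈ normalizer (P : Set G) ∧ a ∈ normalizer (F : Set G) ∧ π a = π g := by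
    intro g
    have hfr := Sylow.normalizer_sup_eq_top hPN.toSylow
    rw [hPN.map_toSylow] at hfr
    have hg : g ∈ ((normalizer (P : Set G) ⊔ N : Subgroup G) : Set G) := by rw [hfr]; trivial
    rw [mul_normal] at hg
    obtain ⟨a, ha, m, hm, rfl⟩ := hg
    set R := L ⊓ normalizer (P : Set G) with hR
    have hFR : F ≤ R := le_inf hFL hFP
    have hsylR : ∀ F' : Subgroup G, F' ≤ R → Coprime.IsSylowIn q F' L → Coprime.IsSylowIn q F' R := by
      intro F' hle h
      refine ⟨hle, h.2.trans ?_⟩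
      congr 1
      refine le_antisymm ?_ ?_
      · refine (hq.pow_dvd_iff_le_factorization Nat.card_pos.ne').1 ?_
        rw [← h.2]; exact card_dvd_of_le hle
      · exact (Nat.factorization_le_iff_dvd Nat.card_pos.ne' Nat.card_pos.ne').2 (card_dvd_of_le inf_le_left) q
    have ha' : a ∈ normalizer (R : Set G) := by
      refine Coprime.inf_le_normalizer (A := normalizer (P : Set G)) ?_ le_normalizer ha
      rw [normalizer_eq_top L]; exact le_top
    have h2 : Coprime.IsSylowIn q (Coprime.conjBy a F) R :=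
      hsylR _ ((map_mono hFR).trans (le_of_eq (Coprime.conjBy_eq_self_iff.2 ha')))
        (hFsyl.conjBy (by rw [normalizer_eq_top]; trivial))
    obtain ⟨k, hk, hkF⟩ := h2.exists_conj (hsylR F hFR hFsyl)
    obtain ⟨m', hm', f, hf, rfl⟩ := Coprime.mem_sup_exists (N := N) (H := F) (by rw [normalizer_eq_top]; exact le_top)
      (sup_comm F N ▸ hLF.symm ▸ hk.1)
    refine ⟨f⁻¹ * (m' * f) * a, mul_mem (mul_mem (inv_mem (hFP hf)) hk.2) ha, ?_, ?_⟩
    · rw [← Coprime.conjBy_eq_self_iff, mul_assoc, ← Coprime.conjBy_conjBy, ← Coprime.conjBy_conjBy _ a, hkF]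
      exact Coprime.conjBy_eq_self_iff.2 (inv_mem (le_normalizer hf))
    · have h1 : π m = 1 := (QuotientGroup.eq_one_iff m).2 hm
      have h2 : π m' = 1 := (QuotientGroup.eq_one_iff m').2 hm'
      rw [map_mul, map_mul, map_mul, h2, one_mul, map_inv, inv_mul_cancel, one_mul, map_mul, h1, mul_one]
  obtain ⟨h, hh⟩ := hcyc.exists_generator
  have hhn : orderOf (h : G ⧸ N) = Nat.card Hb := by
    rw [Subgroup.orderOf_coe, orderOf_eq_card_of_forall_mem_zpowers hh]
  set n := Nat.card Hb with hn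
  obtain ⟨g0, hg0⟩ := QuotientGroup.mk'_surjective N (h : G ⧸ N)
  obtain ⟨x, hxP, hxF, hx0⟩ := hsurj g0
  have hx : π x = h := hx0.trans hg0
  -- every lift has order dividing `n`
  have hall : ∀ y : G, π y = h → y ^ n = 1 := by
    intro y hy
    by_contra hy1
    have hyN : y ^ n ∈ N := by
      rw [← QuotientGroup.eq_one_iff, ← QuotientGroup.mk'_apply, map_pow, ← hπ, hy, ← hhn, pow_orderOf_eq_one]
    obtain ⟨r, hr, hrd⟩ := Nat.exists_prime_and_dvd (mt orderOf_eq_one_iff.1 hy1)
    have hno : n ∣ orderOf y := by rw [← hhn, ← hy]; exact orderOf_map_dvd π y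
    have he : r * n ∣ orderOf y := by
      rw [orderOf_pow' _ (Nat.card_pos.ne'), Nat.gcd_eq_right hno] at hrd
      obtain ⟨c, hc⟩ := hno
      rw [hc, Nat.mul_div_cancel_left _ Nat.card_pos] at hrd
      rw [hc, mul_comm r]
      exact mul_dvd_mul_left n hrd
    exact hcon ⟨r, hr, hrd.trans (orderOf_dvd_natCard _ hyN), y ^ (orderOf y / (r * n)),
      orderOf_pow_orderOf_div (orderOf_pos y).ne' he⟩
  refine hPC (centralizes_of_norm_trivial (p := p) hPN.isPGroup hFP ?_ Nat.card_pos hxP hxF ?_ ?_ (hall x hx))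
  · intro hd
    obtain ⟨k, hk⟩ := IsPGroup.iff_card.1 hFq
    rw [hk] at hd
    have := (Nat.prime_dvd_prime_iff_eq hp hq).1 (hp.dvd_of_dvd_pow hd)
    subst this
    refine hPC fun f hf => ?_
    have hbot : P = ⊥ := card_eq_one.1 (by
      rw [hPN.2, Nat.factorization_eq_zero_of_not_dvd hqN, pow_zero])
    rw [hbot]
    exact mem_centralizer_iff.2 fun z hz => by rw [mem_bot.1 hz]; simp
  · intro i hi0 hin f hf hc
    refine hinj f hf ?_
    have hhi : (h : G ⧸ N) ^ i ≠ 1 := pow_ne_one_of_lt_orderOf hi0.ne' (hhn.symm ▸ hin)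
    have hmem : π f ∈ Hb := by
      refine Coprime.frob_mem_of_commute hHb (pow_mem h.2 i) hhi ?_
      have := (hc.map π).symm
      rwa [map_pow, hx] at this
    have hfK : π f ∈ K := map_subtype_le (S : Subgroup K) (hFL hf)
    exact Coprime.frob_kernel_inter (hker ▸ hfK) hmem
  · intro u hu
    refine hall _ ?_
    rw [map_mul, hx, hπ, QuotientGroup.mk'_apply N u, (QuotientGroup.eq_one_iff u).2 (hPN.1 hu), mul_one]

end CfsgLib.Char.FrobeniusQuotient
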