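import Cfsg.Agent.Lib.Char.Ramified
import Cfsg.Agent.Lib.Char.Gallagher
import Cfsg.Agent.Lib.Char.Extend
import Cfsg.Agent.Lib.Char.DegreeRatio
import Cfsg.Agent.Lib.Block.ItoMichler
import Cfsg.Agent.Lib.Char.ExtendCriteria

/-!
# Full ramification: basic facts and self-centralizing cyclic sections
-/

set_option autoImplicit false
set_option linter.unusedSectionVars false
set_option linter.style.haveILetI false

namespace CfsgLib.Char.FullyRam

open Cfsg CfsgLib CfsgLib.Char
open scoped ComplexConjugate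

universe u

variable {A : Type u} [Group A] [Finite A]

/-- `χ` is fully ramified over `θ`. -/
structure FR (Z : Subgroup A) (θ : IrrCharacter Z) (χ : IrrCharacter A) : Prop where
  mult : ∃ e : ℕ, e ^ 2 = Z.index ∧ ∀ z : Z, (χ : A → ℂ) z = (e : ℂ) * (θ : Z → ℂ) z

/-- `ψ` lies over `θ`. -/
def Over {N : Subgroup A} [Fintype N] (ψ : IrrCharacter A) (θ : IrrCharacter N) : Prop :=
  classInner (fun n : N => (ψ : A → ℂ) n) (θ : N → ℂ) ≠ 0

variable {Z : Subgroup A} [hZ : Z.Normal] {θ : IrrCharacter Z} {χ : IrrCharacter A}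

theorem FR.exists_eq_smul (h : FR Z θ χ) [Fintype Z] :
    ∃ e : ℕ, e ≠ 0 ∧ e ^ 2 = Z.index ∧ (fun z : Z => (χ : A → ℂ) z) = (e : ℂ) • (θ : Z → ℂ) ∧
      classInner (fun z : Z => (χ : A → ℂ) z) (θ : Z → ℂ) = e := by
  obtain ⟨e, he, hres⟩ := h.mult
  have h1 : (fun z : Z => (χ : A → ℂ) z) = (e : ℂ) • (θ : Z → ℂ) := funext hres
  refine ⟨e, fun h0 => Subgroup.index_ne_zero_of_finite (H := Z) (by rw [← he, h0, zero_pow two_ne_zero]), he,
    h1, ?_⟩
  rw [h1, classInner_smul_left, classInner_irr_self, mul_one]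

theorem FR.over (h : FR Z θ χ) [Fintype Z] : Over χ θ := by
  obtain ⟨e, he0, -, -, hi⟩ := h.exists_eq_smul
  rw [Over, hi]
  exact_mod_cast he0

theorem FR.inv (h : FR Z θ χ) (g : A) : conjFun Z (θ : Z → ℂ) g = (θ : Z → ℂ) := by
  have := Fintype.ofFinite A
  have := Fintype.ofFinite Z
  obtain ⟨e, -, -, h1, -⟩ := h.exists_eq_smul
  exact invariant_of_restrict_eq_smul Z χ.2 θ.2 h.over h1 g

theorem FR.vanish (h : FR Z θ χ) {g : A} (hg : g ∉ Z) : (χ : A → ℂ) g = 0 := by
  have := Fintype.ofFinite A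
  have := Fintype.ofFinite Z
  obtain ⟨e, -, he, h1, -⟩ := h.exists_eq_smul
  exact (sq_eq_index_iff_vanish Z χ.2 θ.2 h1).1 he g hg

theorem FR.unique (h : FR Z θ χ) [Fintype Z] (ψ : IrrCharacter A) (hψ : Over ψ θ) : ψ = χ := by
  classical
  have := Fintype.ofFinite A
  obtain ⟨e, -, he, h1, -⟩ := h.exists_eq_smul
  refine Subtype.ext (((fully_ramified_iff Z χ.2 θ.2 h.over).2.1 ⟨e, h1, he⟩).2 _ ψ.2 ?_)
  rw [classInner_indFun Z (θ : Z → ℂ) _ (isClassFunction_irr ψ), ← classInner_conj]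
  exact (_root_.map_ne_zero _).2 hψ

theorem Over.trans {Z S : Subgroup A} [Fintype Z] [Fintype S] [Fintype (Z.subgroupOf S)] (hZS : Z ≤ S)
    {ψ : IrrCharacter A} {η : IrrCharacter S} {θ : IrrCharacter Z} (h1 : Over ψ η)
    (h2 : classInner (fun x : Z.subgroupOf S => (η : S → ℂ) x)
      (fun x : Z.subgroupOf S => (θ : Z → ℂ) (Subgroup.subgroupOfEquivOfLe hZS x)) ≠ 0) : Over ψ θ := by
  classical
  let eZ := Subgroup.subgroupOfEquivOfLe hZS
  let θ' : IrrCharacter (Z.subgroupOf S) :=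
    ⟨fun x => (θ : Z → ℂ) (eZ x), isIrrCharacter_comp_surjective θ.2 eZ.toMonoidHom eZ.surjective⟩
  have hrest := isCharacter_sub_constituent (isCharacter_comp (isCharacter_irr ψ) S.subtype) η h1
  obtain ⟨a, ha⟩ := classInner_char_irr_nat (isCharacter_comp (isCharacter_irr η) (Z.subgroupOf S).subtype) θ'
  obtain ⟨b, hb⟩ := classInner_char_irr_nat (isCharacter_comp hrest (Z.subgroupOf S).subtype) θ'
  have hsum : classInner (fun n : Z => (ψ : A → ℂ) n) (θ : Z → ℂ) = (a : ℂ) + b := by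
    rw [← classInner_equiv eZ (fun n : Z => (ψ : A → ℂ) n) (θ : Z → ℂ), ← ha, ← hb]
    simp only [classInner, θ']
    rw [← mul_add, ← Finset.sum_add_distrib]
    refine congrArg _ (Finset.sum_congr rfl fun x _ => ?_)
    simp only [Pi.sub_apply, Subgroup.coe_subtype]
    rw [show ((eZ x : Z) : A) = ((x : S) : A) from rfl]
    ring
  rw [Over, hsum, ← Nat.cast_add, Nat.cast_ne_zero]
  intro h0
  refine h2 ?_
  have : a = 0 := by omega
  rw [this, Nat.cast_zero] at ha
  exact ha

/-- The sum over a coset against a character without constituents over `θ`. -/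
theorem coset_sum_eq_zero [Fintype A] [Fintype Z] {ψ : IrrCharacter A}
    (hψ : (fun z : Z => (ψ : A → ℂ) z) = (θ : Z → ℂ)) {f : A → ℂ} (hf : IsCharacter A f)
    (h0 : classInner (fun z : Z => f z) (θ : Z → ℂ) = 0) (g : A) :
    cosetAvg Z (fun x => f x * conj ((ψ : A → ℂ) x)) g = 0 := by
  have hc := isCharacter_cosetAvg Z (isCharacter_mul hf (isCharacter_conj (isCharacter_irr ψ)))
  have h1 : cosetAvg Z (fun x => f x * conj ((ψ : A → ℂ) x)) 1 = 0 :=
    (cosetAvg_one_eq Z f (ψ : A → ℂ)).trans (by rw [hψ]; exact h0)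
  exact congrFun (eq_zero_of_char_one_eq_zero hc h1) g

/-- No cyclic subgroup of `A / Z` is its own centralizer. -/
theorem cyclic_not_selfCentralizing [Fintype A] (h : FR Z θ χ) (hZtop : Z ≠ ⊤) (C : Subgroup (A ⧸ Z))
    (hC : IsCyclic C) : Subgroup.centralizer (C : Set (A ⧸ Z)) ≠ C := by
  classical
  intro hself
  obtain ⟨c, hc⟩ := hC.exists_generator
  obtain ⟨x, hx⟩ := QuotientGroup.mk_surjective (c : A ⧸ Z)
  have hCz : C = Subgroup.zpowers (c : A ⧸ Z) := by
    refine le_antisymm (fun y hy => ?_) (Subgroup.zpowers_le.2 c.2)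
    obtain ⟨i, hi⟩ := hc ⟨y, hy⟩
    exact ⟨i, congrArg Subtype.val hi⟩
  let L := C.comap (QuotientGroup.mk' Z)
  have hZL : Z ≤ L := fun z hz => by
    show (z : A ⧸ Z) ∈ C
    rw [(QuotientGroup.eq_one_iff z).2 hz]
    exact C.one_mem
  have hxL : x ∈ L := by show (x : A ⧸ Z) ∈ C; rw [hx]; exact c.2
  have hxZ : x ∉ Z := by
    intro hxz
    rw [← QuotientGroup.eq_one_iff, hx] at hxz
    rw [hxz, Subgroup.zpowers_one_eq_bot] at hCz
    subst hCz
    rw [Subgroup.centralizer_eq_top_iff_subset.2 (by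
      intro y hy
      rw [SetLike.mem_coe, Subgroup.mem_bot] at hy
      rw [hy]
      exact Subgroup.one_mem _)] at hself
    refine hZtop (eq_top_iff.2 fun a _ => ?_)
    exact (QuotientGroup.eq_one_iff a).1 (Subgroup.mem_bot.1 (hself ▸ Subgroup.mem_top _))
  -- elements mapping the coset of `x` to itself
  have hstab : ∀ g : A, ((g * x * g⁻¹ : A) : A ⧸ Z) = x → g ∈ L := by
    intro g hg
    show (g : A ⧸ Z) ∈ C
    rw [← hself, Subgroup.mem_centralizer_iff]
    intro y hy
    rw [SetLike.mem_coe, hCz] at hy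
    obtain ⟨i, rfl⟩ := hy
    rw [QuotientGroup.mk_mul, QuotientGroup.mk_mul, QuotientGroup.mk_inv, hx, mul_inv_eq_iff_eq_mul] at hg
    exact (Commute.zpow_left (hg.symm : Commute (c : A ⧸ Z) g) i).eq
  -- an extension to `L`
  have := Fintype.ofFinite Z
  have := Fintype.ofFinite L
  have := Fintype.ofFinite (Z.subgroupOf L)
  let eZ := Subgroup.subgroupOfEquivOfLe hZL
  obtain ⟨d, ρ, hρ, hρθ⟩ := isIrrCharacter_comp_surjective θ.2 eZ.toMonoidHom eZ.surjective
  haveI := hρ
  obtain ⟨σ, hσ⟩ := extends_of_cyclic (Z.subgroupOf L) ρ (fun g n => by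
      rw [hρθ]
      exact congrFun (h.inv (g : A)) (eZ n)) (by
    let φ : L →* C := ((QuotientGroup.mk' Z).comp L.subtype).codRestrict C fun l => l.2
    have hφ : Function.Surjective φ := fun y => by
      obtain ⟨a, ha⟩ := QuotientGroup.mk_surjective (y : A ⧸ Z)
      exact ⟨⟨a, show (a : A ⧸ Z) ∈ C by rw [ha]; exact y.2⟩, Subtype.ext ha⟩
    have hker : φ.ker = Z.subgroupOf L := by
      ext l
      rw [MonoidHom.mem_ker, Subgroup.mem_subgroupOf, ← QuotientGroup.eq_one_iff, Subtype.ext_iff]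
      rfl
    exact isCyclic_of_injective ((QuotientGroup.quotientKerEquivOfSurjective φ hφ).toMonoidHom.comp
      (QuotientGroup.quotientMulEquivOfEq hker).symm.toMonoidHom)
      ((QuotientGroup.quotientKerEquivOfSurjective φ hφ).injective.comp
        (QuotientGroup.quotientMulEquivOfEq hker).symm.injective))
  haveI := isIrreducible_of_restrict σ ρ hσ
  let ψ : IrrCharacter L := ⟨σ.character, isIrrCharacter_character σ⟩
  have hψres : ∀ n : Z.subgroupOf L, (ψ : L → ℂ) n = (θ : Z → ℂ) (eZ n) := fun n => by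
    have h1 : σ.character (n : L) = ρ.character n := congrArg (LinearMap.trace ℂ (Fin d → ℂ)) (hσ n)
    exact h1.trans (congrFun hρθ n)
  let θ' : IrrCharacter (Z.subgroupOf L) :=
    ⟨fun x => (θ : Z → ℂ) (eZ x), isIrrCharacter_comp_surjective θ.2 eZ.toMonoidHom eZ.surjective⟩
  have hψirr : IsIrrCharacter (Z.subgroupOf L) fun n : Z.subgroupOf L => (ψ : L → ℂ) n := by
    rw [show (fun n : Z.subgroupOf L => (ψ : L → ℂ) n) = (θ' : Z.subgroupOf L → ℂ) from funext hψres]
    exact θ'.2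
  -- the class function carried by the coset
  let F : A → ℂ := fun g => if hg : ((g : A) : A ⧸ Z) = x then
    (ψ : L → ℂ) ⟨g, show (g : A ⧸ Z) ∈ C by rw [hg, hx]; exact c.2⟩ else 0
  let f : A → ℂ := fun g => ∑ a : A, F (a⁻¹ * g * a)
  have hfc : IsClassFunction A f := fun g t => by
    refine Fintype.sum_bijective (fun a => t⁻¹ * a) (Group.mulLeft_bijective _) _ _ fun a => ?_
    congr 1
    group
  have hFconj : ∀ (g : A) (a : L), F ((a : A)⁻¹ * g * a) = F g := by
    intro g a
    have hmem : ((x : A ⧸ Z) : A ⧸ Z) ∈ C := hx ▸ c.2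
    have hcomm : ∀ y ∈ C, y * (x : A ⧸ Z) = (x : A ⧸ Z) * y := fun y hy => by
      have := hself.symm ▸ hy
      exact (Subgroup.mem_centralizer_iff.1 this _ hmem).symm
    have hiff : (((a : A)⁻¹ * g * a : A) : A ⧸ Z) = x ↔ ((g : A) : A ⧸ Z) = x := by
      have h1 := hcomm _ a.2
      rw [QuotientGroup.mk_mul, QuotientGroup.mk_mul, QuotientGroup.mk_inv, mul_assoc, inv_mul_eq_iff_eq_mul]
      constructor
      · intro h2
        exact mul_right_cancel (h2.trans h1)
      · intro h2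
        rw [h2]
        exact h1.symm
    simp only [F]
    by_cases hg : ((g : A) : A ⧸ Z) = x
    · rw [dif_pos hg, dif_pos (hiff.2 hg)]
      have := isClassFunction_irr ψ ⟨g, show (g : A ⧸ Z) ∈ C by rw [hg, hx]; exact c.2⟩ a⁻¹
      refine Eq.trans ?_ this
      exact congrArg _ (Subtype.ext (by simp))
    · rw [dif_neg hg, dif_neg fun h2 => hg (hiff.1 h2)]
  -- it is orthogonal to every irreducible character
  have hperp : ∀ ξ : IrrCharacter A, classInner f (ξ : A → ℂ) = 0 := by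
    intro ξ
    have h1 : ∑ g : A, f g * conj ((ξ : A → ℂ) g) = (Nat.card A : ℂ) * ∑ g : A, F g * conj ((ξ : A → ℂ) g) := by
      simp only [f, Finset.sum_mul]
      rw [Finset.sum_comm, Finset.sum_congr rfl fun a _ =>
        show ∑ g : A, F (a⁻¹ * g * a) * conj ((ξ : A → ℂ) g) = ∑ g : A, F g * conj ((ξ : A → ℂ) g) from ?_,
        Finset.sum_const, Finset.card_univ, ← Nat.card_eq_fintype_card, nsmul_eq_mul]
      refine Fintype.sum_bijective (fun g => a⁻¹ * g * a)
        ((Group.mulRight_bijective a).comp (Group.mulLeft_bijective a⁻¹)) _ _ fun g => ?_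
      congr 2
      have := isClassFunction_irr ξ g a⁻¹
      rw [inv_inv] at this
      exact this.symm
    have h2 : ∑ g : A, F g * conj ((ξ : A → ℂ) g) = 0 := by
      by_cases hξ : classInner (fun z : Z => (ξ : A → ℂ) z) (θ : Z → ℂ) = 0
      · have hres0 : classInner (fun n : Z.subgroupOf L => (ξ : A → ℂ) ((n : L) : A)) (θ' : Z.subgroupOf L → ℂ) = 0 :=
          (classInner_equiv eZ (fun z : Z => (ξ : A → ℂ) z) (θ : Z → ℂ)).trans hξ
        have h3 := coset_sum_eq_zero (Z := Z.subgroupOf L) (θ := θ') (funext hψres)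
          (isCharacter_comp (isCharacter_irr ξ) L.subtype) hres0 ⟨x, hxL⟩
        rw [cosetAvg, mul_eq_zero] at h3
        have h4 := h3.resolve_left (inv_ne_zero (by exact_mod_cast Nat.card_pos.ne'))
        rw [← Finset.sum_filter_of_ne (p := fun g : A => ((g : A) : A ⧸ Z) = x) fun g _ hg => by
          by_contra hne; exact hg (by simp only [F, dif_neg hne, zero_mul])]
        have h5 := congrArg conj h4
        rw [map_zero, map_sum] at h5
        rw [← h5]
        symm
        refine Finset.sum_bij (fun (n : Z.subgroupOf L) _ => ((n : L) : A) * x) (fun n _ => ?_)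
          (fun n _ m _ e => ?_) (fun g hg => ?_) (fun n _ => ?_)
        · refine Finset.mem_filter.2 ⟨Finset.mem_univ _, ?_⟩
          rw [QuotientGroup.mk_mul, (QuotientGroup.eq_one_iff _).2 (Subgroup.mem_subgroupOf.1 n.2), one_mul]
        · exact Subtype.ext (Subtype.ext (mul_right_cancel e))
        · have hgx := (Finset.mem_filter.1 hg).2
          have hgz : g * x⁻¹ ∈ Z := by
            rw [← QuotientGroup.eq_one_iff, QuotientGroup.mk_mul, QuotientGroup.mk_inv, hgx, mul_inv_cancel]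
          exact ⟨⟨⟨g * x⁻¹, hZL hgz⟩, Subgroup.mem_subgroupOf.2 hgz⟩, Finset.mem_univ _, by simp⟩
        · have hnx : ((((n : L) : A) * x : A) : A ⧸ Z) = x := by
            rw [QuotientGroup.mk_mul, (QuotientGroup.eq_one_iff _).2 (Subgroup.mem_subgroupOf.1 n.2), one_mul]
          simp only [F, dif_pos hnx, map_mul, Complex.conj_conj]
          rw [mul_comm]
          rfl
      · rw [h.unique ξ hξ]
        refine Finset.sum_eq_zero fun g _ => ?_
        by_cases hg : ((g : A) : A ⧸ Z) = x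
        · rw [h.vanish fun hgz => hxZ ?_, map_zero, mul_zero]
          rw [← QuotientGroup.eq_one_iff, ← hg]
          exact (QuotientGroup.eq_one_iff g).2 hgz
        · simp only [F, dif_neg hg, zero_mul]
    rw [classInner, h1, h2, mul_zero, mul_zero]
  have hf0 := classFun_eq_zero_of_perp hfc hperp
  -- but it does not vanish
  have hne : ∃ n : Z.subgroupOf L, (ψ : L → ℂ) ((n : L) * ⟨x, hxL⟩) ≠ 0 := by
    by_contra hall
    push Not at hall
    have h1 := congrFun (cosetAvg_self_eq_one (Z.subgroupOf L) ψ hψirr) ⟨x, hxL⟩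
    rw [cosetAvg, Finset.sum_eq_zero (fun n _ => by rw [hall n, zero_mul]), mul_zero] at h1
    exact zero_ne_one h1
  obtain ⟨n, hn⟩ := hne
  have hnx : ((((n : L) : A) * x : A) : A ⧸ Z) = x := by
    rw [QuotientGroup.mk_mul, (QuotientGroup.eq_one_iff _).2 (Subgroup.mem_subgroupOf.1 n.2), one_mul]
  set g₀ := ((n : L) : A) * x
  have hg₀ : F g₀ = (ψ : L → ℂ) ((n : L) * ⟨x, hxL⟩) := by
    simp only [F, dif_pos hnx]
    rfl
  have h3 : f g₀ = (Nat.card L : ℂ) * F g₀ := by
    simp only [f]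
    rw [← Finset.sum_filter_add_sum_filter_not Finset.univ (· ∈ L),
      Finset.sum_eq_zero (s := Finset.univ.filter fun a : A => ¬ a ∈ L) fun a ha => ?_, add_zero,
      Finset.sum_congr rfl (g := fun _ => F g₀) fun a ha => hFconj g₀ ⟨a, (Finset.mem_filter.1 ha).2⟩,
      Finset.sum_const, nsmul_eq_mul, ← Fintype.card_subtype, ← Nat.card_eq_fintype_card]
    simp only [F]
    rw [dif_neg]
    intro h5
    refine (Finset.mem_filter.1 ha).2 ?_
    have := hstab a⁻¹ (by
      rw [inv_inv]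
      rw [QuotientGroup.mk_mul, QuotientGroup.mk_mul] at h5 ⊢
      rw [hnx] at h5
      exact h5)
    simpa using L.inv_mem this
  rw [hf0, Pi.zero_apply, hg₀, eq_comm, mul_eq_zero] at h3
  exact hn (h3.resolve_left (by exact_mod_cast Nat.card_pos.ne'))

end CfsgLib.Char.FullyRam
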