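import Cfsg.Agent.Lib.Char.FullyRamifiedBasic
import Cfsg.Agent.Lib.Char.Correspondence
import Cfsg.Agent.Lib.Coprime.Solvable

/-!
# Sections of a fully ramified section

Over a fully ramified pair, an intermediate normal subgroup whose characters over `θ` have full
orbits under a Sylow subgroup gives a `p`-complement of the factor group.
-/

set_option autoImplicit false
set_option linter.unusedSectionVars false
set_option linter.style.haveILetI false

namespace CfsgLib.Char.FullyRam

open Cfsg CfsgLib CfsgLib.Char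
open scoped ComplexConjugate

universe u

variable {A : Type u} [Group A] [Fintype A] {Z : Subgroup A} [hZ : Z.Normal] {θ : IrrCharacter Z}
  {χ : IrrCharacter A}

/-- The character of `Z` seen inside an overgroup. -/
noncomputable def subθ (θ : IrrCharacter Z) {T : Subgroup A} (hZT : Z ≤ T) : IrrCharacter (Z.subgroupOf T) :=
  ⟨fun x => (θ : Z → ℂ) (Subgroup.subgroupOfEquivOfLe hZT x),
    isIrrCharacter_comp_surjective θ.2 (Subgroup.subgroupOfEquivOfLe hZT).toMonoidHom
      (Subgroup.subgroupOfEquivOfLe hZT).surjective⟩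

theorem subθ_inv (h : FR Z θ χ) {T : Subgroup A} (hZT : Z ≤ T) (g : T) :
    conjFun (Z.subgroupOf T) (subθ θ hZT : Z.subgroupOf T → ℂ) g = subθ θ hZT :=
  funext fun x => congrFun (h.inv (g : A)) (Subgroup.subgroupOfEquivOfLe hZT x)

/-- Full ramification passes to the preimage of a Sylow subgroup. -/
theorem exists_sylow_FR (h : FR Z θ χ) {p : ℕ} [hp : Fact p.Prime] {T : Subgroup A} (hZT : Z ≤ T) {v : ℕ}
    (hv : Z.relIndex T = p ^ v) (hT : ¬ p ∣ T.index) :
    ∃ ψ : IrrCharacter T, FR (Z.subgroupOf T) (subθ θ hZT) ψ := by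
  classical
  have := Fintype.ofFinite Z
  have := Fintype.ofFinite T
  have := Fintype.ofFinite (Z.subgroupOf T)
  obtain ⟨e, he0, he, hres, -⟩ := h.exists_eq_smul
  obtain ⟨ψ, hψ⟩ := Block.ItoMichler.exists_irr_over (Z.subgroupOf T) (subθ θ hZT)
  obtain ⟨f, hf0, -, hψres⟩ := restrict_eq_smul_of_invariant (Z.subgroupOf T) ψ.2 (subθ θ hZT).2 hψ (subθ_inv h hZT)
  have hψ' : ∀ z : Z.subgroupOf T, (ψ : T → ℂ) z = (f : ℂ) * (subθ θ hZT : Z.subgroupOf T → ℂ) z := fun z => congrFun hψres z
  refine ⟨ψ, ⟨⟨f, ?_, hψ'⟩⟩⟩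
  have hidx : (Z.subgroupOf T).index = p ^ v := hv
  -- the degree ratio is a power of `p`
  have hd : Block.ItoMichler.one_eq_cast ψ = Block.ItoMichler.one_eq_cast ψ := rfl
  obtain ⟨hdvd, hdiv⟩ := ratio_dvd_index (Z.subgroupOf T) ψ.2 (subθ θ hZT).2 hψ
    (Block.ItoMichler.one_eq_cast ψ) (Block.ItoMichler.one_eq_cast (subθ θ hZT))
  have hdeg : charDegree (ψ : T → ℂ) = f * charDegree (subθ θ hZT : Z.subgroupOf T → ℂ) := by
    have h1 := hψ' 1
    rw [OneMemClass.coe_one, Block.ItoMichler.one_eq_cast, Block.ItoMichler.one_eq_cast] at h1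
    exact_mod_cast h1
  have hd0 : charDegree (subθ θ hZT : Z.subgroupOf T → ℂ) ≠ 0 := fun h0 => irr_one_ne_zero (subθ θ hZT) (by
    rw [Block.ItoMichler.one_eq_cast (subθ θ hZT), h0, Nat.cast_zero])
  rw [hdeg, Nat.mul_div_cancel _ (Nat.pos_of_ne_zero hd0), hidx] at hdiv
  obtain ⟨w, -, hw⟩ := (Nat.dvd_prime_pow hp.out).1 hdiv
  -- the norm bound
  have hle : f ^ 2 ≤ p ^ v := by
    have h1 := classInner_irr_self ψ
    have h2 := classInner_irr_self (subθ θ hZT)
    rw [classInner_self, Complex.ofReal_eq_one, inv_mul_eq_one₀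
      (by exact_mod_cast Nat.card_pos.ne')] at h1 h2
    have h3 : ∑ g ∈ Finset.univ.filter (· ∈ Z.subgroupOf T), ‖(ψ : T → ℂ) g‖ ^ 2 =
        (f : ℝ) ^ 2 * Nat.card (Z.subgroupOf T) := by
      rw [Finset.sum_subtype (p := fun g => g ∈ Z.subgroupOf T) _ (fun x => by simp)
        (fun g => ‖(ψ : T → ℂ) g‖ ^ 2), h2, Finset.mul_sum]
      refine Fintype.sum_congr _ _ fun n => ?_
      rw [hψ' n, norm_mul, Complex.norm_natCast, mul_pow]
    have h4 : (f : ℝ) ^ 2 * Nat.card (Z.subgroupOf T) ≤ Nat.card T := by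
      rw [← h3, h1]
      exact Finset.sum_le_sum_of_subset_of_nonneg (Finset.subset_univ _) fun _ _ _ => sq_nonneg _
    rw [← (Z.subgroupOf T).card_mul_index, hidx, Nat.cast_mul, mul_comm ((f : ℝ) ^ 2)] at h4
    exact_mod_cast le_of_mul_le_mul_left h4 (by exact_mod_cast Nat.card_pos)
  -- the multiplicity in the restriction of `χ`
  obtain ⟨n, hn⟩ := classInner_char_irr_nat (isCharacter_comp (isCharacter_irr χ) T.subtype) ψ
  have hn' : classInner (fun t : T => (χ : A → ℂ) t) (ψ : T → ℂ) = n := hn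
  have hkey : n * p ^ v = e * f := by
    have h1 : ∑ t : T, (χ : A → ℂ) t * conj ((ψ : T → ℂ) t) = ((e * f : ℕ) : ℂ) * (Nat.card (Z.subgroupOf T) : ℂ) := by
      rw [← Finset.sum_filter_add_sum_filter_not Finset.univ (· ∈ Z.subgroupOf T),
        Finset.sum_eq_zero (s := Finset.univ.filter fun g : T => ¬ g ∈ Z.subgroupOf T) fun g hg => by
          rw [h.vanish fun hgz => (Finset.mem_filter.1 hg).2 (Subgroup.mem_subgroupOf.2 hgz), zero_mul],
        add_zero, Finset.sum_subtype (p := fun g => g ∈ Z.subgroupOf T) _ (fun x => by simp)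
        (fun g : T => (χ : A → ℂ) g * conj ((ψ : T → ℂ) g))]
      have h2 := classInner_irr_self (subθ θ hZT)
      rw [classInner, inv_mul_eq_one₀ (by exact_mod_cast Nat.card_pos.ne')] at h2
      rw [h2, Finset.mul_sum]
      refine Finset.sum_congr rfl fun z _ => ?_
      have hz : (χ : A → ℂ) ((z : T) : A) = (e : ℂ) * (subθ θ hZT : Z.subgroupOf T → ℂ) z :=
        congrFun hres (Subgroup.subgroupOfEquivOfLe hZT z)
      rw [hz, hψ' z, map_mul, map_natCast]
      push_cast
      ring
    rw [classInner, h1, ← (Z.subgroupOf T).card_mul_index, hidx, inv_mul_eq_iff_eq_mul₀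
      (by exact_mod_cast (Nat.mul_pos Nat.card_pos (pow_pos hp.out.pos v)).ne')] at hn'
    have h2 : e * f * Nat.card (Z.subgroupOf T) = Nat.card (Z.subgroupOf T) * p ^ v * n := by exact_mod_cast hn'
    exact Nat.eq_of_mul_eq_mul_left Nat.card_pos (by linarith : Nat.card (Z.subgroupOf T) * (n * p ^ v) = Nat.card (Z.subgroupOf T) * (e * f))
  have hev : 2 * e.factorization p = v := by
    have h1 := Subgroup.relIndex_mul_index hZT
    rw [hv, ← he] at h1
    have h2 := congrArg (fun m : ℕ => m.factorization p) h1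
    rw [Nat.factorization_mul (pow_ne_zero _ hp.out.ne_zero) Subgroup.index_ne_zero_of_finite,
      Finsupp.add_apply, Nat.factorization_pow, Nat.factorization_pow, Finsupp.smul_apply, Finsupp.smul_apply,
      smul_eq_mul, smul_eq_mul, hp.out.factorization_self, Nat.factorization_eq_zero_of_not_dvd hT] at h2
    omega
  have hn0 : n ≠ 0 := by
    rintro rfl
    rw [zero_mul, eq_comm] at hkey
    rcases Nat.mul_eq_zero.1 hkey with h0 | h0
    · exact he0 h0
    · exact hf0 h0
  have hfw : w * 2 ≥ v := by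
    have h2 := congrArg (fun m : ℕ => m.factorization p) hkey
    rw [Nat.factorization_mul hn0 (pow_ne_zero _ hp.out.ne_zero), Nat.factorization_mul he0 hf0, hw,
      Finsupp.add_apply, Finsupp.add_apply, Nat.factorization_pow, Nat.factorization_pow, Finsupp.smul_apply,
      Finsupp.smul_apply, smul_eq_mul, smul_eq_mul, hp.out.factorization_self] at h2
    omega
  refine le_antisymm (hidx ▸ hle) ?_
  rw [hidx, hw, ← pow_mul]
  exact Nat.pow_le_pow_right hp.out.pos hfw

section Orbit

variable (S : Subgroup A) [hSn : S.Normal] (hZS : Z ≤ S)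

/-- A character of `S` over `θ` lies under `χ` and nothing else. -/
theorem under_eq (h : FR Z θ χ) [Fintype S] [Fintype (Z.subgroupOf S)] (η : IrrCharacter S)
    (hη : Over η (subθ θ hZS)) (ξ : IrrCharacter A) (hξ : Over ξ η) : ξ = χ := by
  have := Fintype.ofFinite Z
  exact h.unique ξ (Over.trans hZS hξ hη)

theorem over_chi (h : FR Z θ χ) [Fintype S] [Fintype (Z.subgroupOf S)] (η : IrrCharacter S)
    (hη : Over η (subθ θ hZS)) : Over χ η := by
  classical
  obtain ⟨ξ, hξ⟩ := Block.ItoMichler.exists_irr_over S η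
  rwa [Over, ← under_eq S hZS h η hη ξ hξ]

theorem orbit_of_cyclic (h : FR Z θ χ) [Fintype S] [Fintype (Z.subgroupOf S)] (η : IrrCharacter S)
    (hη : Over η (subθ θ hZS)) (hcyc : IsCyclic (A ⧸ S)) : inertia S (η : S → ℂ) = S := by
  classical
  have hST : S ≤ inertia S (η : S → ℂ) := le_inertia S (isClassFunction_irr η)
  set I := inertia S (η : S → ℂ) with hIdef
  have := Fintype.ofFinite I
  have := Fintype.ofFinite (S.subgroupOf I)
  let eS := Subgroup.subgroupOfEquivOfLe hST
  obtain ⟨d, ρ, hρ, hρη⟩ := isIrrCharacter_comp_surjective η.2 eS.toMonoidHom eS.surjective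
  haveI := hρ
  haveI := hcyc
  obtain ⟨σ, hσ⟩ := extends_of_cyclic (S.subgroupOf I) ρ (fun g n => by
      rw [hρη]
      have hg : conjFun S (η : S → ℂ) (g : A) = (η : S → ℂ) := g.2
      exact congrFun hg (eS n)) (by
    let φ : I ⧸ S.subgroupOf I →* A ⧸ S :=
      QuotientGroup.map (S.subgroupOf I) S I.subtype fun x hx => Subgroup.mem_subgroupOf.1 hx
    refine isCyclic_of_injective φ ((injective_iff_map_eq_one φ).2 fun q hq => ?_)
    obtain ⟨x, rfl⟩ := QuotientGroup.mk_surjective q
    exact (QuotientGroup.eq_one_iff x).2 (Subgroup.mem_subgroupOf.2 ((QuotientGroup.eq_one_iff (x : A)).1 hq)))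
  haveI := isIrreducible_of_restrict σ ρ hσ
  let η' : IrrCharacter I := ⟨σ.character, isIrrCharacter_character σ⟩
  let η₀ : IrrCharacter (S.subgroupOf I) :=
    ⟨fun x => (η : S → ℂ) (eS x), isIrrCharacter_comp_surjective η.2 eS.toMonoidHom eS.surjective⟩
  have hres : (fun n : S.subgroupOf I => (η' : I → ℂ) n) = (η₀ : S.subgroupOf I → ℂ) := funext fun n =>
    (congrArg (LinearMap.trace ℂ (Fin d → ℂ)) (hσ n) : σ.character (n : I) = ρ.character n).trans (congrFun hρη n)
  -- every character of `I` over `η` is `η'`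
  have huniq : ∀ β : IrrCharacter I, classInner (fun n : S.subgroupOf I => (β : I → ℂ) n)
      (η₀ : S.subgroupOf I → ℂ) ≠ 0 → β = η' := by
    intro β hβ
    have hback : ∀ γ : IrrCharacter I, classInner (fun n : S => (γ : I → ℂ) (Subgroup.inclusion hST n)) (η : S → ℂ) =
        classInner (fun n : S.subgroupOf I => (γ : I → ℂ) n) (η₀ : S.subgroupOf I → ℂ) := fun γ =>
      (classInner_equiv eS (fun n : S => (γ : I → ℂ) (Subgroup.inclusion hST n)) (η : S → ℂ)).symm
    have h1 : classInner (fun n : S.subgroupOf I => (η' : I → ℂ) n) (η₀ : S.subgroupOf I → ℂ) ≠ 0 := by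
      rw [hres, classInner_irr_self]; exact one_ne_zero
    obtain ⟨hi1, hm1⟩ := correspondence_irr S η.2 hST β (by rw [hback]; exact hβ)
    obtain ⟨hi2, hm2⟩ := correspondence_irr S η.2 hST η' (by rw [hback]; exact h1)
    refine correspondence_injective S η.2 hST β η' (by rw [hback]; exact hβ) (by rw [hback]; exact h1) ?_
    have e1 := under_eq S hZS h η hη ⟨_, hi1⟩ (by
      show classInner (fun n : S => indFun I (β : I → ℂ) n) (η : S → ℂ) ≠ 0
      rw [hm1, hback]; exact hβ)
    have e2 := under_eq S hZS h η hη ⟨_, hi2⟩ (by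
      show classInner (fun n : S => indFun I (η' : I → ℂ) n) (η : S → ℂ) ≠ 0
      rw [hm2, hback]; exact h1)
    exact (congrArg Subtype.val e1).trans (congrArg Subtype.val e2).symm
  have := Fintype.ofFinite (IrrCharacter I)
  have hind := classFun_expand (isClassFunction_indFun (S.subgroupOf I) (η₀ : S.subgroupOf I → ℂ))
  have hc : ∀ β : IrrCharacter I, classInner (indFun (S.subgroupOf I) (η₀ : S.subgroupOf I → ℂ)) (β : I → ℂ) =
      conj (classInner (fun n : S.subgroupOf I => (β : I → ℂ) n) (η₀ : S.subgroupOf I → ℂ)) := fun β => by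
    rw [classInner_indFun _ _ _ (isClassFunction_irr β), classInner_conj]
  rw [Finset.sum_eq_single η' (fun β _ hne => by
      rw [hc, not_not.1 fun hb => hne (huniq β hb), map_zero, zero_smul]) (by simp)] at hind
  have h2 := congrFun hind 1
  rw [indFun_one, hc, hres, classInner_irr_self, map_one, one_smul] at h2
  have h3 : (η' : I → ℂ) 1 = (η₀ : S.subgroupOf I → ℂ) 1 := congrFun hres 1
  rw [h3] at h2
  have h4 : ((S.subgroupOf I).index : ℂ) = 1 := (mul_eq_right₀ (irr_one_ne_zero η₀)).1 h2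
  have h5 : S.relIndex I = 1 := by exact_mod_cast h4
  exact le_antisymm (Subgroup.relIndex_eq_one.1 h5) hST

theorem orbit_of_degree (h : FR Z θ χ) [Fintype S] [Fintype (Z.subgroupOf S)] (η : IrrCharacter S)
    (hη : Over η (subθ θ hZS))
    (hdeg : S.index * charDegree (η : S → ℂ) ≤ charDegree (χ : A → ℂ)) : inertia S (η : S → ℂ) = S := by
  classical
  have hST : S ≤ inertia S (η : S → ℂ) := le_inertia S (isClassFunction_irr η)
  have hover := over_chi S hZS h η hη
  have hFc := isCharacter_indFun S (isCharacter_irr η)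
  have hin : classInner (indFun S (η : S → ℂ)) (χ : A → ℂ) =
      conj (classInner (fun n : S => (χ : A → ℂ) n) (η : S → ℂ)) := by
    rw [classInner_indFun S (η : S → ℂ) _ (isClassFunction_irr χ), classInner_conj]
  obtain ⟨hle, heq⟩ := degree_le_of_constituent hFc χ (by rw [hin]; exact (_root_.map_ne_zero _).2 hover)
    (a := S.index * charDegree (η : S → ℂ)) (b := charDegree (χ : A → ℂ))
    (by rw [indFun_one, Block.ItoMichler.one_eq_cast η, Nat.cast_mul]) (Block.ItoMichler.one_eq_cast χ)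
  have hF := heq (le_antisymm hdeg hle)
  rw [hF, classInner_irr_self] at hin
  have hm : classInner (fun n : S => (χ : A → ℂ) n) (η : S → ℂ) = 1 := by
    have := congrArg conj hin
    rw [map_one, Complex.conj_conj] at this
    exact this.symm
  have h1 := clifford_degree S χ.2 η.2 hover
  rw [hm, one_mul, Block.ItoMichler.one_eq_cast χ, Block.ItoMichler.one_eq_cast η, ← le_antisymm hdeg hle,
    Nat.cast_mul] at h1
  have h2 : (S.index : ℂ) = ((inertia S (η : S → ℂ)).index : ℂ) := mul_right_cancel₀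
    (fun h0 => irr_one_ne_zero η (by rw [Block.ItoMichler.one_eq_cast η, h0])) h1
  have h3 := Subgroup.relIndex_mul_index hST
  rw [show S.index = (inertia S (η : S → ℂ)).index by exact_mod_cast h2] at h3
  have h5 : S.relIndex (inertia S (η : S → ℂ)) = 1 :=
    (mul_eq_right₀ Subgroup.index_ne_zero_of_finite).1 h3
  exact le_antisymm (Subgroup.relIndex_eq_one.1 h5) hST

end Orbit

/-- A normal intermediate subgroup with full Sylow orbit leaves a `p`-complement. -/
theorem exists_pComplement (h : FR Z θ χ) (K : Subgroup A) [hK : K.Normal] (hZK : Z ≤ K) (p : ℕ)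
    [hp : Fact p.Prime]
    (horb : ∀ (T : Subgroup A) (hZT : Z ≤ T) (ψ : IrrCharacter T), FR (Z.subgroupOf T) (subθ θ hZT) ψ →
      (∃ b, Z.relIndex T = p ^ b) → ¬ p ∣ T.index →
      ∀ [Fintype (K.subgroupOf T)] [Fintype ((Z.subgroupOf T).subgroupOf (K.subgroupOf T))],
        ∃ η : IrrCharacter (K.subgroupOf T),
          Over η (subθ (subθ θ hZT) (Subgroup.comap_mono hZK : Z.subgroupOf T ≤ K.subgroupOf T)) ∧
          inertia (K.subgroupOf T) (η : K.subgroupOf T → ℂ) = K.subgroupOf T) :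
    ∃ M : Subgroup (A ⧸ K), M.index = p ^ (Nat.card (A ⧸ K)).factorization p := by
  classical
  obtain ⟨Q⟩ : Nonempty (Sylow p (A ⧸ Z)) := inferInstance
  set T := (Q : Subgroup (A ⧸ Z)).comap (QuotientGroup.mk' Z) with hTdef
  have hZT : Z ≤ T := fun z hz => by
    show (z : A ⧸ Z) ∈ (Q : Subgroup (A ⧸ Z))
    rw [(QuotientGroup.eq_one_iff z).2 hz]
    exact (Q : Subgroup (A ⧸ Z)).one_mem
  have hTi : T.index = (Q : Subgroup (A ⧸ Z)).index :=
    Subgroup.index_comap_of_surjective _ (QuotientGroup.mk'_surjective Z)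
  have hTp : ¬ p ∣ T.index := hTi ▸ Q.not_dvd_index
  obtain ⟨b, hb⟩ := IsPGroup.iff_card.1 Q.isPGroup'
  have hTb : Z.relIndex T = p ^ b := by
    have h1 := Subgroup.relIndex_mul_index hZT
    rw [hTi, Subgroup.index_eq_card (H := Z), ← (Q : Subgroup (A ⧸ Z)).card_mul_index, hb] at h1
    exact Nat.eq_of_mul_eq_mul_right (Nat.pos_of_ne_zero Subgroup.index_ne_zero_of_finite) h1
  obtain ⟨ψ, hψ⟩ := exists_sylow_FR h hZT hTb hTp
  have hZS : Z.subgroupOf T ≤ K.subgroupOf T := Subgroup.comap_mono hZK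
  have := Fintype.ofFinite (K.subgroupOf T)
  have := Fintype.ofFinite ((Z.subgroupOf T).subgroupOf (K.subgroupOf T))
  have := Fintype.ofFinite T
  obtain ⟨η, hη, hI⟩ := horb T hZT ψ hψ ⟨b, hTb⟩ hTp
  -- the normalizer
  set S₀ := T ⊓ K with hS₀
  set N := Subgroup.normalizer (S₀ : Set A) with hNdef
  have hTN : T ≤ N := by
    intro t ht
    refine Subgroup.mem_normalizer_iff.2 fun x => ?_
    constructor
    · exact fun hx => ⟨T.mul_mem (T.mul_mem ht hx.1) (T.inv_mem ht), hK.conj_mem _ hx.2 t⟩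
    · intro hx
      have := hK.conj_mem _ hx.2 t⁻¹
      refine ⟨?_, by simpa [mul_assoc] using this⟩
      have := T.mul_mem (T.mul_mem (T.inv_mem ht) hx.1) ht
      simpa [mul_assoc] using this
  have hS₀N : S₀ ≤ N := inf_le_left.trans hTN
  let S' := S₀.subgroupOf N
  haveI hS'n : S'.Normal := Subgroup.normal_in_normalizer
  let eS : S' ≃* (K.subgroupOf T) :=
    { toFun := fun x => ⟨⟨((x : N) : A), (Subgroup.mem_subgroupOf.1 x.2).1⟩,
        Subgroup.mem_subgroupOf.2 (Subgroup.mem_subgroupOf.1 x.2).2⟩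
      invFun := fun x => ⟨⟨((x : T) : A), hTN (x : T).2⟩,
        Subgroup.mem_subgroupOf.2 ⟨(x : T).2, Subgroup.mem_subgroupOf.1 x.2⟩⟩
      left_inv := fun x => rfl
      right_inv := fun x => rfl
      map_mul' := fun x y => rfl }
  have := Fintype.ofFinite N
  have := Fintype.ofFinite S'
  let η₁ : IrrCharacter S' :=
    ⟨fun x => (η : (K.subgroupOf T) → ℂ) (eS x), isIrrCharacter_comp_surjective η.2 eS.toMonoidHom eS.surjective⟩
  set X := inertia S' (η₁ : S' → ℂ) with hX
  have hSX : S' ≤ X := le_inertia S' (isClassFunction_irr η₁)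
  let T' := T.subgroupOf N
  have hTX : ∀ t : T, (⟨(t : A), hTN t.2⟩ : N) ∈ X ↔ t ∈ (K.subgroupOf T) := by
    intro t
    refine Iff.trans ?_ (SetLike.ext_iff.1 hI t)
    constructor
    · intro ht
      funext s
      exact congrFun ht (eS.symm s)
    · intro ht
      funext s
      exact congrFun ht (eS s)
  -- transitivity
  have htrans₀ : ∀ g : N, ∃ t : T, g * (⟨(t : A), hTN t.2⟩ : N)⁻¹ ∈ X := by
    intro g
    have hηg : IsIrrCharacter (K.subgroupOf T) fun s => conjFun S' (η₁ : S' → ℂ) g (eS.symm s) :=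
      isIrrCharacter_comp_surjective (isIrrCharacter_conjFun S' η₁.2 g) eS.symm.toMonoidHom eS.symm.surjective
    have hover1 := over_chi (A := T) (K.subgroupOf T) hZS hψ η hη
    have hover2 := over_chi (A := T) (K.subgroupOf T) hZS hψ ⟨_, hηg⟩ (by
      have := Fintype.ofFinite (Z.subgroupOf T)
      let Z' := (Z.subgroupOf T).subgroupOf (K.subgroupOf T)
      let θ₀ := subθ (subθ θ hZT) hZS
      let c : Z' → Z' := fun z => ⟨eS ⟨g * ((eS.symm (z : (K.subgroupOf T)) : S') : N) * g⁻¹, hS'n.conj_mem _ (eS.symm (z : (K.subgroupOf T))).2 g⟩,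
        Subgroup.mem_subgroupOf.2 (Subgroup.mem_subgroupOf.2 (by
          show (g : A) * (((z : (K.subgroupOf T)) : T) : A) * (g : A)⁻¹ ∈ Z
          exact hZ.conj_mem _ (Subgroup.mem_subgroupOf.1 (Subgroup.mem_subgroupOf.1 z.2)) _))⟩
      have hcinj : Function.Injective c := fun a a' e' => by
        refine Subtype.ext (Subtype.ext (Subtype.ext ?_))
        have := congrArg (fun z : Z' => (((z : (K.subgroupOf T)) : T) : A)) e'
        exact mul_left_cancel (mul_right_cancel this)
      show classInner (fun z : Z' => (η : (K.subgroupOf T) → ℂ) (c z)) (θ₀ : Z' → ℂ) ≠ 0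
      have hθc : ∀ z, (θ₀ : Z' → ℂ) (c z) = (θ₀ : Z' → ℂ) z := fun z =>
        congrFun (h.inv (g : A)) (Subgroup.subgroupOfEquivOfLe hZT
          (Subgroup.subgroupOfEquivOfLe hZS z))
      have e1 : classInner (fun z : Z' => (η : (K.subgroupOf T) → ℂ) (c z)) (θ₀ : Z' → ℂ) =
          classInner (fun z : Z' => (η : (K.subgroupOf T) → ℂ) z) (θ₀ : Z' → ℂ) := by
        simp only [classInner]
        congr 1
        exact Fintype.sum_bijective c (Finite.injective_iff_bijective.1 hcinj) _ _ fun z => by rw [hθc]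
      rw [e1]
      exact hη)
    have h3 : ∃ t : T, conjFun (K.subgroupOf T) (η : (K.subgroupOf T) → ℂ) t = fun s => conjFun S' (η₁ : S' → ℂ) g (eS.symm s) := by
      by_contra hno
      push Not at hno
      exact hover2 (classInner_restrict_zero (K.subgroupOf T) ψ.2 η.2 hηg hover1 hno)
    obtain ⟨t, ht⟩ := h3
    refine ⟨t, ?_⟩
    rw [hX, mem_inertia]
    have hg' : conjFun S' (η₁ : S' → ℂ) (⟨(t : A), hTN t.2⟩ : N) = conjFun S' (η₁ : S' → ℂ) g :=
      funext fun s => congrFun ht (eS s)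
    set t' : N := ⟨(t : A), hTN t.2⟩
    funext s
    have h4 := congrFun hg' ⟨t'⁻¹ * s * t', by
      simpa using hS'n.conj_mem _ s.2 t'⁻¹⟩
    simp only [conjFun] at h4 ⊢
    refine Eq.trans (congrArg _ (Subtype.ext ?_)) (h4.symm.trans (congrArg _ (Subtype.ext ?_)))
    · group
    · group
  have htrans : ∀ g : N, ∃ t : T, (⟨(t : A), hTN t.2⟩ : N)⁻¹ * g ∈ X := fun g => by
    obtain ⟨t, ht⟩ := htrans₀ g⁻¹
    refine ⟨t⁻¹, ?_⟩
    convert X.inv_mem ht using 1
    exact Subtype.ext (by simp)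
  have hidxX : X.index = (K.subgroupOf T).index := by
    rw [Subgroup.index_eq_card, Subgroup.index_eq_card]
    refine (Nat.card_eq_of_bijective (fun q : T ⧸ (K.subgroupOf T) => Quotient.liftOn' q
      (fun t => ((⟨(t : A), hTN t.2⟩ : N) : N ⧸ X)) fun t t' htt => ?_) ⟨?_, ?_⟩).symm
    · rw [QuotientGroup.leftRel_apply] at htt
      exact QuotientGroup.eq.2 ((hTX (t⁻¹ * t')).2 htt)
    · intro q q'
      induction q using QuotientGroup.induction_on with | _ t => ?_
      induction q' using QuotientGroup.induction_on with | _ t' => ?_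
      intro e'
      exact QuotientGroup.eq.2 ((hTX (t⁻¹ * t')).1 (QuotientGroup.eq.1 e'))
    · intro q
      induction q using QuotientGroup.induction_on with | _ g => ?_
      obtain ⟨t, ht⟩ := htrans g
      exact ⟨(t : T ⧸ (K.subgroupOf T)), QuotientGroup.eq.2 ht⟩
  -- arithmetic
  have hsup : ∀ U : Subgroup A, Nat.card (U ⊔ K : Subgroup A) * Nat.card (U ⊓ K : Subgroup A) = Nat.card U * Nat.card K := by
    intro U
    have h1 : K.relIndex (U ⊔ K) = K.relIndex U := Subgroup.relIndex_sup_right U K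
    have h2 := Subgroup.card_mul_index (K.subgroupOf (U ⊔ K))
    have h3 := Subgroup.card_mul_index (K.subgroupOf U)
    rw [Nat.card_congr (Subgroup.subgroupOfEquivOfLe (le_sup_right : K ≤ U ⊔ K)).toEquiv] at h2
    have h4 : Nat.card (K.subgroupOf U) = Nat.card (U ⊓ K : Subgroup A) := by
      rw [← Subgroup.inf_subgroupOf_left, Nat.card_congr (Subgroup.subgroupOfEquivOfLe inf_le_left).toEquiv]
    rw [h4] at h3
    rw [← h2, ← h3]
    show Nat.card K * K.relIndex (U ⊔ K) * _ = _ * K.relIndex U * Nat.card K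
    rw [h1]
    ring
  have hKS₀ : ¬ p ∣ S₀.relIndex K := by
    intro hd
    refine hTp (hd.trans ?_)
    have h1 := hsup T
    have h2 := Subgroup.card_mul_index (S₀.subgroupOf K)
    rw [Nat.card_congr (Subgroup.subgroupOfEquivOfLe (inf_le_right : S₀ ≤ K)).toEquiv] at h2
    have h3 := Subgroup.card_mul_index (T.subgroupOf (T ⊔ K))
    rw [Nat.card_congr (Subgroup.subgroupOfEquivOfLe (le_sup_left : T ≤ T ⊔ K)).toEquiv] at h3
    have h4 : S₀.relIndex K = T.relIndex (T ⊔ K) := by
      refine Nat.eq_of_mul_eq_mul_left (Nat.mul_pos (Nat.card_pos (α := T)) (Nat.card_pos (α := S₀))) ?_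
      calc Nat.card T * Nat.card S₀ * S₀.relIndex K = Nat.card T * (Nat.card S₀ * S₀.relIndex K) := by ring
        _ = Nat.card T * Nat.card K := by rw [show Nat.card S₀ * S₀.relIndex K = Nat.card K from h2]
        _ = Nat.card (T ⊔ K : Subgroup A) * Nat.card S₀ := h1.symm
        _ = Nat.card T * T.relIndex (T ⊔ K) * Nat.card S₀ := by rw [show Nat.card T * T.relIndex (T ⊔ K) = _ from h3]
        _ = _ := by ring
    exact ⟨(T ⊔ K).index, by rw [h4]; exact (Subgroup.relIndex_mul_index le_sup_left).symm⟩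
  have hSi : (K.subgroupOf T).index = p ^ (Nat.card (A ⧸ K)).factorization p := by
    have hS1 : (K.subgroupOf T).index = K.relIndex (T ⊔ K) := by
      rw [Subgroup.relIndex_sup_right]; rfl
    have h1 := Subgroup.relIndex_mul_index (le_sup_right : K ≤ T ⊔ K)
    rw [← hS1] at h1
    obtain ⟨c, hc, hcS⟩ : ∃ c ≤ b, (K.subgroupOf T).index = p ^ c := by
      have hd : (K.subgroupOf T).index ∣ p ^ b := by
        rw [← hTb]
        exact ⟨(Z.subgroupOf T).relIndex (K.subgroupOf T), by
          rw [mul_comm]; exact (Subgroup.relIndex_mul_index (Subgroup.comap_mono hZK)).symm⟩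
      exact (Nat.dvd_prime_pow hp.out).1 hd
    have hn : ¬ p ∣ (T ⊔ K).index := fun hd => hTp (hd.trans
      ⟨T.relIndex (T ⊔ K), by rw [mul_comm]; exact (Subgroup.relIndex_mul_index le_sup_left).symm⟩)
    rw [hcS, Subgroup.index_eq_card (H := K)] at h1
    rw [hcS, ← h1, Nat.factorization_mul (pow_ne_zero _ hp.out.ne_zero) Subgroup.index_ne_zero_of_finite,
      Finsupp.add_apply, Nat.factorization_pow, Finsupp.smul_apply, hp.out.factorization_self,
      Nat.factorization_eq_zero_of_not_dvd hn]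
    simp
  -- the kernel lies in `X`
  let K' := K.subgroupOf N
  have hK'X : K' ≤ X := by
    have h1 : X.relIndex K' = 1 := by
      have hd1 : X.relIndex K' ∣ p ^ (Nat.card (A ⧸ K)).factorization p := by
        rw [← hSi, ← hidxX]
        haveI : K'.Normal := inferInstanceAs (K.comap N.subtype).Normal
        have h1 := Subgroup.relIndex_mul_index (inf_le_left : X ⊓ K' ≤ X)
        have h2 := Subgroup.relIndex_mul_index (inf_le_right : X ⊓ K' ≤ K')
        have h3 := Subgroup.relIndex_mul_index (le_sup_right : K' ≤ X ⊔ K')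
        rw [Subgroup.inf_relIndex_left] at h1
        rw [Subgroup.inf_relIndex_right] at h2
        rw [Subgroup.relIndex_sup_right] at h3
        refine ⟨(X ⊔ K').index, Nat.eq_of_mul_eq_mul_left
          (Nat.pos_of_ne_zero (Subgroup.index_ne_zero_of_finite (H := K'.subgroupOf X))) ?_⟩
        show K'.relIndex X * X.index = K'.relIndex X * _
        rw [h1, ← h2, ← h3]
        ring
      have hd2 : X.relIndex K' ∣ S₀.relIndex K := by
        refine (Subgroup.relIndex_dvd_of_le_left K' hSX).trans ?_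
        have e1 : S'.relIndex K' = S₀.relIndex (N ⊓ K) := by
          show (S₀.subgroupOf N).relIndex (K.subgroupOf N) = _
          rw [← Subgroup.inf_subgroupOf_left K N, Subgroup.relIndex_subgroupOf inf_le_left, inf_comm]
        rw [e1]
        exact ⟨(N ⊓ K).relIndex K, (Subgroup.relIndex_mul_relIndex _ _ _ (le_inf hS₀N inf_le_right) inf_le_right).symm⟩
      have h3 := Nat.dvd_gcd hd1 hd2
      rwa [Nat.Coprime.gcd_eq_one (Nat.Coprime.pow_left _ ((Nat.Prime.coprime_iff_not_dvd hp.out).2 hKS₀)),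
        Nat.dvd_one] at h3
    exact Subgroup.relIndex_eq_one.1 h1
  -- Frattini
  let π : N →* A ⧸ K := (QuotientGroup.mk' K).comp N.subtype
  have hπ : Function.Surjective π := by
    intro q
    obtain ⟨a, rfl⟩ := QuotientGroup.mk_surjective q
    let S₀' := S₀.subgroupOf K
    haveI hZn : (Z.subgroupOf K).Normal := inferInstance
    let Qk := S₀'.map (QuotientGroup.mk' (Z.subgroupOf K))
    have hZS₀ : Z.subgroupOf K ≤ S₀' := Subgroup.comap_mono (le_inf hZT hZK)
    have hcomap : Qk.comap (QuotientGroup.mk' (Z.subgroupOf K)) = S₀' := by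
      rw [Subgroup.comap_map_eq, QuotientGroup.ker_mk', sup_eq_left.2 hZS₀]
    have hQi : Qk.index = S₀'.index := by
      exact (Subgroup.index_comap_of_surjective Qk (QuotientGroup.mk'_surjective _)).symm.trans (congrArg _ hcomap)
    have hQp : IsPGroup p Qk := by
      let m : Qk →* (Q : Subgroup (A ⧸ Z)) :=
        ((QuotientGroup.map (Z.subgroupOf K) Z K.subtype fun x hx => Subgroup.mem_subgroupOf.1 hx).comp
          Qk.subtype).codRestrict _ fun x => by
          obtain ⟨y, hy, e'⟩ := x.2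
          show (QuotientGroup.map (Z.subgroupOf K) Z K.subtype (fun x hx => Subgroup.mem_subgroupOf.1 hx))
            (x : K ⧸ Z.subgroupOf K) ∈ (Q : Subgroup (A ⧸ Z))
          rw [← e']
          exact (Subgroup.mem_subgroupOf.1 hy).1
      refine Q.isPGroup'.of_injective m ((injective_iff_map_eq_one m).2 fun x hx => Subtype.ext ?_)
      have := congrArg Subtype.val hx
      obtain ⟨y, hy⟩ := QuotientGroup.mk_surjective (x : K ⧸ Z.subgroupOf K)
      rw [← hy]
      refine (QuotientGroup.eq_one_iff y).2 (Subgroup.mem_subgroupOf.2 ((QuotientGroup.eq_one_iff (y : A)).1 ?_))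
      show (QuotientGroup.map (Z.subgroupOf K) Z K.subtype (fun x hx => Subgroup.mem_subgroupOf.1 hx))
        (y : K ⧸ Z.subgroupOf K) = 1
      rw [hy]
      exact this
    have hconj : ∃ k ∈ K, k * a ∈ N := by
      let P₁ : Sylow p (K ⧸ Z.subgroupOf K) := hQp.toSylow (hQi ▸ hKS₀)
      let α : MulAut K := MulAut.conjNormal a
      have hαZ : ∀ x, x ∈ Z.subgroupOf K → α x ∈ Z.subgroupOf K := fun x hx => by
        rw [Subgroup.mem_subgroupOf, MulAut.conjNormal_apply]
        exact hZ.conj_mem _ (Subgroup.mem_subgroupOf.1 hx) a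
      let β : K ⧸ Z.subgroupOf K →* K ⧸ Z.subgroupOf K :=
        QuotientGroup.map _ _ α.toMonoidHom fun x hx => hαZ x hx
      have hβs : Function.Surjective β := fun q => by
        obtain ⟨y, rfl⟩ := QuotientGroup.mk_surjective q
        exact ⟨((α.symm y : K) : K ⧸ Z.subgroupOf K), by
          show ((α (α.symm y) : K) : K ⧸ Z.subgroupOf K) = _
          rw [MulEquiv.apply_symm_apply]⟩
      have hβ : Function.Bijective β := ⟨Finite.injective_iff_surjective.2 hβs, hβs⟩
      let P₂ : Sylow p (K ⧸ Z.subgroupOf K) := P₁.mapSurjective hβs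
      obtain ⟨k, hk⟩ := MulAction.exists_smul_eq (K ⧸ Z.subgroupOf K) P₂ P₁
      obtain ⟨k, rfl⟩ := QuotientGroup.mk_surjective k
      refine ⟨k, k.2, ?_⟩
      have hmem : ∀ s ∈ S₀, ((k : A) * a) * s * ((k : A) * a)⁻¹ ∈ S₀ := by
        intro s hs
        have hs' : ((⟨s, hs.2⟩ : K) : K ⧸ Z.subgroupOf K) ∈ Qk := ⟨⟨s, hs.2⟩, Subgroup.mem_subgroupOf.2 hs, rfl⟩
        have h1 : (k : K ⧸ Z.subgroupOf K) * β ((⟨s, hs.2⟩ : K) : K ⧸ Z.subgroupOf K) * (k : K ⧸ Z.subgroupOf K)⁻¹ ∈
            (P₁ : Subgroup (K ⧸ Z.subgroupOf K)) := by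
          rw [← hk, Sylow.coe_subgroup_smul]
          exact ⟨_, ⟨_, hs', rfl⟩, rfl⟩
        have h2 : (k * α ⟨s, hs.2⟩ * k⁻¹ : K) ∈ Qk.comap (QuotientGroup.mk' (Z.subgroupOf K)) := h1
        rw [hcomap, Subgroup.mem_subgroupOf] at h2
        rw [show ((k : A) * a) * s * ((k : A) * a)⁻¹ = (k : A) * (a * s * a⁻¹) * (k : A)⁻¹ by group]
        simpa [α] using h2
      rw [hNdef, Subgroup.mem_normalizer_iff]
      intro x
      refine ⟨hmem x, fun hx => ?_⟩
      have hsurj : Function.Surjective (fun s : S₀ => (⟨_, hmem s.1 s.2⟩ : S₀)) :=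
        Finite.injective_iff_surjective.1 fun u w e' => Subtype.ext
          (mul_left_cancel (mul_right_cancel (congrArg Subtype.val e')))
      obtain ⟨⟨s, hs⟩, hs'⟩ := hsurj ⟨_, hx⟩
      rwa [← mul_left_cancel (mul_right_cancel (congrArg Subtype.val hs'))]
    obtain ⟨k, hk, hka⟩ := hconj
    refine ⟨⟨k * a, hka⟩, ?_⟩
    show ((k * a : A) : A ⧸ K) = a
    rw [QuotientGroup.mk_mul, (QuotientGroup.eq_one_iff k).2 hk, one_mul]
  refine ⟨X.map π, ?_⟩
  have hker : π.ker ≤ X := fun x hx => hK'X (Subgroup.mem_subgroupOf.2 ((QuotientGroup.eq_one_iff (x : A)).1 hx))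
  rw [Subgroup.index_map_eq _ hπ hker, hidxX, hSi]

end CfsgLib.Char.FullyRam
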