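import Cfsg.Agent.Lib.Char.Virtual
import Cfsg.Agent.Lib.Char.Induction
import Cfsg.Agent.Lib.Char.ClassMul
import Cfsg.Agent.Lib.Char.Linear

/-!
# Signed irreducible characters, decompositions of small norm, and the class-algebra functional
-/

set_option autoImplicit false
set_option linter.unusedSectionVars false

namespace CfsgLib.Char.Signed

open scoped ComplexConjugate
open Cfsg CfsgLib.Char

universe u

variable {G : Type u} [Group G] [Fintype G]

/-- A generalized character. -/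
abbrev Gen (f : G → ℂ) : Prop := IsGeneralizedCharacter G f

/-- A signed irreducible character. -/
def Sg (f : G → ℂ) : Prop := IsGeneralizedCharacter G f ∧ classInner f f = 1

/-- The inner product of two generalized characters, as an integer. -/
noncomputable def iq (f g : G → ℂ) : ℤ := ⌊(classInner f g).re⌋

theorem iq_spec {f g : G → ℂ} (hf : Gen f) (hg : Gen g) : classInner f g = (iq f g : ℂ) := by
  obtain ⟨m, hm⟩ := classInner_generalized_int hf hg
  rw [iq, hm]
  simp

theorem iq_eq {f g : G → ℂ} (m : ℤ) (h : classInner f g = m) : iq f g = m := by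
  rw [iq, h]
  simp

theorem iq_comm {f g : G → ℂ} (hf : Gen f) (hg : Gen g) : iq f g = iq g f := by
  refine iq_eq _ ?_
  rw [← classInner_conj, iq_spec hg hf, map_intCast]

theorem iq_neg_left {f g : G → ℂ} (hf : Gen f) (hg : Gen g) : iq (-f) g = -iq f g :=
  iq_eq _ (by rw [classInner_neg_left, iq_spec hf hg]; push_cast; rfl)

theorem iq_neg_right {f g : G → ℂ} (hf : Gen f) (hg : Gen g) : iq f (-g) = -iq f g :=
  iq_eq _ (by rw [classInner_neg_right, iq_spec hf hg]; push_cast; rfl)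

theorem iq_add_left {f f' g : G → ℂ} (hf : Gen f) (hf' : Gen f') (hg : Gen g) :
    iq (f + f') g = iq f g + iq f' g :=
  iq_eq _ (by rw [classInner_add_left, iq_spec hf hg, iq_spec hf' hg]; push_cast; rfl)

theorem iq_add_right {f g g' : G → ℂ} (hf : Gen f) (hg : Gen g) (hg' : Gen g') :
    iq f (g + g') = iq f g + iq f g' :=
  iq_eq _ (by rw [classInner_add_right, iq_spec hf hg, iq_spec hf hg']; push_cast; rfl)

theorem iq_sub_left {f f' g : G → ℂ} (hf : Gen f) (hf' : Gen f') (hg : Gen g) :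
    iq (f - f') g = iq f g - iq f' g :=
  iq_eq _ (by rw [classInner_sub_left, iq_spec hf hg, iq_spec hf' hg]; push_cast; rfl)

theorem iq_sub_right {f g g' : G → ℂ} (hf : Gen f) (hg : Gen g) (hg' : Gen g') :
    iq f (g - g') = iq f g - iq f g' :=
  iq_eq _ (by rw [classInner_sub_right, iq_spec hf hg, iq_spec hf hg']; push_cast; rfl)

theorem Gen.zsmul {f : G → ℂ} (hf : Gen f) (n : ℤ) : Gen ((n : ℂ) • f) :=
  isGeneralizedCharacter_zsmul hf n

theorem iq_smul_left {f g : G → ℂ} (hf : Gen f) (hg : Gen g) (n : ℤ) :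
    iq ((n : ℂ) • f) g = n * iq f g :=
  iq_eq _ (by rw [classInner_smul_left, iq_spec hf hg]; push_cast; rfl)

theorem iq_smul_right {f g : G → ℂ} (hf : Gen f) (hg : Gen g) (n : ℤ) :
    iq f ((n : ℂ) • g) = n * iq f g :=
  iq_eq _ (by rw [classInner_smul_right, iq_spec hf hg, map_intCast]; push_cast; rfl)

theorem iq_self_nonneg {f : G → ℂ} (hf : Gen f) : 0 ≤ iq f f := by
  have : Fintype (IrrCharacter G) := Fintype.ofFinite _
  obtain ⟨m, -, -, hn⟩ := generalized_expand hf
  rw [iq_eq _ hn]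
  exact Finset.sum_nonneg fun _ _ => sq_nonneg _

theorem eq_zero_of_iq_self {f : G → ℂ} (hf : Gen f) (h : iq f f = 0) : f = 0 :=
  classInner_self_eq_zero (by rw [iq_spec hf hf, h, Int.cast_zero])

theorem Sg.gen {f : G → ℂ} (h : Sg f) : Gen f := h.1

theorem Sg.iq_self {f : G → ℂ} (h : Sg f) : iq f f = 1 := iq_eq 1 (by rw [h.2, Int.cast_one])

theorem Sg.of_iq {f : G → ℂ} (hf : Gen f) (h : iq f f = 1) : Sg f :=
  ⟨hf, by rw [iq_spec hf hf, h, Int.cast_one]⟩

theorem Sg.neg {f : G → ℂ} (h : Sg f) : Sg (-f) :=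
  ⟨isGeneralizedCharacter_neg h.1, by rw [classInner_neg_left, classInner_neg_right, neg_neg, h.2]⟩

theorem Sg.of_irr (χ : IrrCharacter G) : Sg (χ : G → ℂ) :=
  ⟨isGeneralizedCharacter_of_isCharacter (isCharacter_irr χ), classInner_irr_self χ⟩

theorem Sg.exists_irr {f : G → ℂ} (h : Sg f) :
    ∃ (χ : IrrCharacter G) (ε : ℤ), (ε = 1 ∨ ε = -1) ∧ f = (ε : ℂ) • (χ : G → ℂ) := by
  rcases irr_or_neg_of_norm_one h.1 h.2 with h' | h'
  · exact ⟨⟨f, h'⟩, 1, Or.inl rfl, by simp⟩
  · exact ⟨⟨-f, h'⟩, -1, Or.inr rfl, by simp⟩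

theorem Sg.apply_one_ne {f : G → ℂ} (h : Sg f) : f 1 ≠ 0 := by
  obtain ⟨χ, ε, hε, rfl⟩ := h.exists_irr
  rcases hε with rfl | rfl <;> simpa using irr_one_ne_zero χ

theorem Sg.apply_one_int {f : G → ℂ} (h : Sg f) : ∃ n : ℤ, n ≠ 0 ∧ f 1 = n := by
  obtain ⟨χ, ε, hε, hf⟩ := h.exists_irr
  obtain ⟨d, -, hd⟩ := isIrrCharacter_degree χ.2
  refine ⟨ε * d, fun h0 => h.apply_one_ne ?_, ?_⟩
  · rw [hf, Pi.smul_apply, smul_eq_mul, hd]
    exact_mod_cast h0
  · rw [hf, Pi.smul_apply, smul_eq_mul, hd]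
    push_cast
    rfl

theorem Sg.exists_hom {f : G → ℂ} (h : Sg f) (h1 : f 1 = 1) :
    ∃ φ : G →* ℂˣ, ∀ g, (φ g : ℂ) = f g := by
  obtain ⟨χ, ε, hε, hf⟩ := h.exists_irr
  obtain ⟨d, -, hd⟩ := isIrrCharacter_degree χ.2
  rw [hf, Pi.smul_apply, smul_eq_mul, hd] at h1
  have h1' : ε * (d : ℤ) = 1 := by exact_mod_cast h1
  rcases hε with rfl | rfl
  · obtain ⟨φ, hφ⟩ := linearCharEquiv.surjective ⟨χ, by
      rw [hd, show d = 1 by omega, Nat.cast_one]⟩
    refine ⟨φ, fun g => ?_⟩
    rw [hf, Int.cast_one, one_smul]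
    exact congrFun (congrArg (fun z => ((z.1 : IrrCharacter G) : G → ℂ)) hφ) g
  · omega

/-- Two signed irreducibles are equal, opposite or orthogonal. -/
theorem Sg.iq_cases {f g : G → ℂ} (hf : Sg f) (hg : Sg g) :
    iq f g = 0 ∨ (iq f g = 1 ∧ f = g) ∨ (iq f g = -1 ∧ f = -g) := by
  have hb1 := iq_self_nonneg (isGeneralizedCharacter_sub hf.gen hg.gen)
  have hb2 := iq_self_nonneg (isGeneralizedCharacter_add hf.gen hg.gen)
  have e1 : iq (f - g) (f - g) = 2 - 2 * iq f g := by
    rw [iq_sub_left hf.gen hg.gen (isGeneralizedCharacter_sub hf.gen hg.gen),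
      iq_sub_right hf.gen hf.gen hg.gen, iq_sub_right hg.gen hf.gen hg.gen, hf.iq_self, hg.iq_self,
      iq_comm hg.gen hf.gen]
    ring
  have e2 : iq (f + g) (f + g) = 2 + 2 * iq f g := by
    rw [iq_add_left hf.gen hg.gen (isGeneralizedCharacter_add hf.gen hg.gen),
      iq_add_right hf.gen hf.gen hg.gen, iq_add_right hg.gen hf.gen hg.gen, hf.iq_self, hg.iq_self,
      iq_comm hg.gen hf.gen]
    ring
  rw [e1] at hb1
  rw [e2] at hb2
  obtain h | h | h : iq f g = 0 ∨ iq f g = 1 ∨ iq f g = -1 := by omega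
  · exact Or.inl h
  · exact Or.inr (Or.inl ⟨h, sub_eq_zero.1 (eq_zero_of_iq_self
      (isGeneralizedCharacter_sub hf.gen hg.gen) (by omega))⟩)
  · exact Or.inr (Or.inr ⟨h, eq_neg_of_add_eq_zero_left (eq_zero_of_iq_self
      (isGeneralizedCharacter_add hf.gen hg.gen) (by omega))⟩)

/-- A norm two generalized character is the sum of two orthogonal signed irreducibles. -/
theorem exists_pair {f : G → ℂ} (hf : Gen f) (h2 : iq f f = 2) :
    ∃ a b : G → ℂ, Sg a ∧ Sg b ∧ iq a b = 0 ∧ f = a + b := by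
  have : Fintype (IrrCharacter G) := Fintype.ofFinite _
  classical
  obtain ⟨m, hm, he, hn⟩ := generalized_expand hf
  have hsum : ∑ ψ, m ψ ^ 2 = 2 := by rw [← iq_eq _ hn, h2]
  obtain ⟨χ, hχ⟩ : ∃ χ, m χ ≠ 0 := by
    by_contra hc
    simp only [not_exists, not_not] at hc
    simp [hc] at hsum
  have hsq : m χ ^ 2 ≤ 2 :=
    hsum ▸ Finset.single_le_sum (fun i _ => sq_nonneg (m i)) (Finset.mem_univ χ)
  have hu : m χ = 1 ∨ m χ = -1 := by
    have h3 : m χ ≤ 1 := by nlinarith
    have h4 : -1 ≤ m χ := by nlinarith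
    omega
  set a : G → ℂ := (m χ : ℂ) • (χ : G → ℂ) with ha
  have hag : Gen a := Gen.zsmul (Sg.of_irr χ).gen _
  have hfχ : iq f (χ : G → ℂ) = m χ := iq_eq _ (hm χ)
  have haa : iq a a = 1 := by
    rw [iq_smul_left (Sg.of_irr χ).gen hag, iq_smul_right (Sg.of_irr χ).gen (Sg.of_irr χ).gen,
      (Sg.of_irr χ).iq_self]
    rcases hu with h | h <;> simp [h]
  have hfa : iq f a = 1 := by
    rw [iq_smul_right hf (Sg.of_irr χ).gen, hfχ]
    rcases hu with h | h <;> simp [h]
  have hbg : Gen (f - a) := isGeneralizedCharacter_sub hf hag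
  refine ⟨a, f - a, Sg.of_iq hag haa, Sg.of_iq hbg ?_, ?_, (add_sub_cancel a f).symm⟩
  · rw [iq_sub_left hf hag hbg, iq_sub_right hf hf hag, iq_sub_right hag hf hag, h2, haa, hfa,
      iq_comm hag hf, hfa]
    norm_num
  · rw [iq_sub_right hag hf hag, haa, iq_comm hag hf, hfa]
    norm_num

/-- A list of pairwise orthogonal signed irreducibles. -/
def Orth (l : List (G → ℂ)) : Prop :=
  (∀ a ∈ l, Sg a) ∧ l.Pairwise fun a b => iq a b = 0

/-- Bessel's inequality. -/
theorem Orth.bessel {l : List (G → ℂ)} (hl : Orth l) :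
    ∀ {f : G → ℂ}, Gen f → (l.map fun a => iq f a ^ 2).sum ≤ iq f f := by
  induction l with
  | nil => intro f hf; simpa using iq_self_nonneg hf
  | cons a t ih =>
    intro f hf
    obtain ⟨hsg, hp⟩ := hl
    rw [List.pairwise_cons] at hp
    have ha : Sg a := hsg a List.mem_cons_self
    have hca : Gen ((iq f a : ℂ) • a) := Gen.zsmul ha.gen _
    have hg : Gen (f - (iq f a : ℂ) • a) := isGeneralizedCharacter_sub hf hca
    have h1 := ih ⟨fun b hb => hsg b (List.mem_cons_of_mem _ hb), hp.2⟩ hg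
    have h2 : iq (f - (iq f a : ℂ) • a) (f - (iq f a : ℂ) • a) = iq f f - iq f a ^ 2 := by
      rw [iq_sub_left hf hca hg, iq_sub_right hf hf hca, iq_sub_right hca hf hca,
        iq_smul_left ha.gen hf, iq_smul_left ha.gen hca, iq_smul_right hf ha.gen,
        iq_smul_right ha.gen ha.gen, ha.iq_self, iq_comm ha.gen hf]
      ring
    have h3 : t.map (fun b => iq (f - (iq f a : ℂ) • a) b ^ 2) =
        t.map (fun b => iq f b ^ 2) := by
      refine List.map_congr_left fun b hb => ?_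
      have hbs := hsg b (List.mem_cons_of_mem _ hb)
      rw [iq_sub_left hf hca hbs.gen, iq_smul_left ha.gen hbs.gen, hp.1 b hb, mul_zero, sub_zero]
    rw [h2, h3] at h1
    rw [List.map_cons, List.sum_cons]
    linarith

/-! ### The class-algebra functional -/

/-- The functional `v ↦ Σ_χ ⟨v, χ⟩ χ(i)² / χ(1)`. -/
noncomputable def qfun (i : G) (v : G → ℂ) : ℂ :=
  ∑ᶠ χ : IrrCharacter G, classInner v (χ : G → ℂ) * (χ : G → ℂ) i ^ 2 / (χ : G → ℂ) 1

theorem qfun_add (i : G) (v w : G → ℂ) : qfun i (v + w) = qfun i v + qfun i w := by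
  have := Fintype.ofFinite (IrrCharacter G)
  simp only [qfun, finsum_eq_sum_of_fintype, ← Finset.sum_add_distrib]
  exact Finset.sum_congr rfl fun χ _ => by rw [classInner_add_left]; ring

theorem qfun_sub (i : G) (v w : G → ℂ) : qfun i (v - w) = qfun i v - qfun i w := by
  have := Fintype.ofFinite (IrrCharacter G)
  simp only [qfun, finsum_eq_sum_of_fintype, ← Finset.sum_sub_distrib]
  exact Finset.sum_congr rfl fun χ _ => by rw [classInner_sub_left]; ring

theorem qfun_sg (i : G) {v : G → ℂ} (hv : Sg v) : qfun i v = v i ^ 2 / v 1 := by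
  classical
  have := Fintype.ofFinite (IrrCharacter G)
  obtain ⟨χ, ε, hε, rfl⟩ := hv.exists_irr
  simp only [qfun, finsum_eq_sum_of_fintype]
  rw [Finset.sum_eq_single χ
    (fun ψ _ hψ => by rw [classInner_smul_left, classInner_irr_ne (Ne.symm hψ)]; simp)
    (fun h => absurd (Finset.mem_univ χ) h), classInner_smul_left, classInner_irr_self,
    Pi.smul_apply, Pi.smul_apply, smul_eq_mul, smul_eq_mul]
  have h1 := irr_one_ne_zero χ
  rcases hε with rfl | rfl <;> push_cast <;> field_simp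

/-- The class-algebra identity for a function supported where products of two conjugates of `i`
stay in `H`. -/
theorem qfun_indFun (H : Subgroup G) [Fintype H] (i : G) (f : H → ℂ)
    (hloc : ∀ x : H, f x ≠ 0 → ∀ y z : G, IsConj i y → IsConj i z → y * z = (x : G) → y ∈ H) :
    ∃ C : ℂ, C ≠ 0 ∧ C = (Nat.card G : ℂ) / ((Nat.card H : ℂ) *
        (Nat.card {x : G // IsConj i x} : ℂ) ^ 2) ∧
      qfun i (indFun H f) = C * ∑ᶠ p : {y : H // IsConj i (y : G)} × {y : H // IsConj i (y : G)},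
        f (p.1.1 * p.2.1) := by
  classical
  have := Fintype.ofFinite (IrrCharacter G)
  have hk : (Nat.card {x : G // IsConj i x} : ℂ) ≠ 0 := by
    have : Nonempty {x : G // IsConj i x} := ⟨⟨i, IsConj.refl i⟩⟩
    exact_mod_cast Nat.card_pos.ne'
  have hG := card_ne_zero' (G := G)
  have hH := card_ne_zero' (G := H)
  refine ⟨_, div_ne_zero hG (mul_ne_zero hH (pow_ne_zero _ hk)), rfl, ?_⟩
  set F : G → ℂ := fun x => (classConst i i x : ℂ) with hF
  have hFc : IsClassFunction G F := by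
    intro g h
    simp only [hF]
    rw [classConst_conj]
  have h1 : classInner (indFun H f) F = (Nat.card {x : G // IsConj i x} : ℂ) ^ 2 / (Nat.card G : ℂ) *
      qfun i (indFun H f) := by
    have hFre : ∀ x, conj (F x) = F x := fun x => map_natCast _ _
    simp only [classInner, hFre]
    simp only [hF, classConst_formula, qfun, finsum_eq_sum_of_fintype, classInner, Finset.mul_sum,
      Finset.sum_mul, Finset.sum_div]
    rw [Finset.sum_comm]
    refine Finset.sum_congr rfl fun χ _ => Finset.sum_congr rfl fun x _ => ?_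
    ring
  have h2 : classInner (indFun H f) F = (Nat.card H : ℂ)⁻¹ *
      ∑ᶠ p : {y : H // IsConj i (y : G)} × {y : H // IsConj i (y : G)}, f (p.1.1 * p.2.1) := by
    rw [classInner_indFun H f F hFc]
    simp only [classInner, hF, map_natCast]
    congr 1
    rw [finsum_eq_sum_of_fintype, ← Finset.sum_fiberwise (Finset.univ)
      (fun p : {y : H // IsConj i (y : G)} × {y : H // IsConj i (y : G)} => p.1.1 * p.2.1)]
    refine Finset.sum_congr rfl fun x _ => ?_
    rw [Finset.sum_congr rfl (g := fun _ => f x) fun p hp => by rw [(Finset.mem_filter.1 hp).2],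
      Finset.sum_const, nsmul_eq_mul, mul_comm (f x)]
    by_cases hx : f x = 0
    · simp [hx]
    congr 1
    rw [← Fintype.card_subtype, ← Nat.card_eq_fintype_card, classConst]
    norm_cast
    refine Nat.card_congr
      { toFun := fun p => ⟨(⟨⟨p.1.1, hloc x hx _ _ p.2.1 p.2.2.1 p.2.2.2⟩, p.2.1⟩,
          ⟨⟨p.1.2, ?_⟩, p.2.2.1⟩), Subtype.ext p.2.2.2⟩
        invFun := fun p => ⟨((p.1.1.1 : G), (p.1.2.1 : G)), p.1.1.2, p.1.2.2,
          congrArg Subtype.val p.2⟩
        left_inv := fun p => rfl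
        right_inv := fun p => rfl }
    have e : p.1.2 = p.1.1⁻¹ * (x : G) := eq_inv_mul_of_mul_eq p.2.2.2
    rw [e]
    exact H.mul_mem (H.inv_mem (hloc x hx _ _ p.2.1 p.2.2.1 p.2.2.2)) x.2
  rw [h1] at h2
  field_simp at h2 ⊢
  linear_combination h2

end CfsgLib.Char.Signed
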