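import Cfsg.Agent.Lib.Char.TwoBorel

/-!
# The irreducible characters of `GL(2, q)`
-/

set_option autoImplicit false
set_option linter.unusedSectionVars false
set_option linter.style.haveILetI false

namespace CfsgLib.Char.TwoChars

open Matrix Cfsg CfsgLib.Char
open scoped ComplexConjugate

variable {F : Type*} [Field F] [Fintype F] [DecidableEq F]

local notation "M2" => Matrix (Fin 2) (Fin 2) F
local notation "G2" => Matrix.GeneralLinearGroup (Fin 2) F
local notation "B2" => Cfsg.upperTriangularGL 2 F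
local notation "qF" => Fintype.card F

theorem mem_borelGL (g : G2) : g ∈ B2 ↔ g.1 1 0 = 0 := by
  constructor
  · intro h
    exact h (show (id (0 : Fin 2)) < id 1 by decide)
  · intro h i j hij
    fin_cases i <;> fin_cases j <;> simp at hij ⊢
    exact h

/-- The Borel element with diagonal `(a, d)` and corner `x`. -/
noncomputable def mkB (a d : Fˣ) (x : F) : B2 :=
  ⟨Matrix.GeneralLinearGroup.mk'' !![(a : F), x; 0, (d : F)]
    (by simp [Matrix.det_fin_two, isUnit_iff_ne_zero]), (mem_borelGL _).2 rfl⟩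

theorem mkB_val (a d : Fˣ) (x : F) : (mkB a d x).1.1 = !![(a : F), x; 0, (d : F)] := rfl

theorem borelGL_diag_ne (b : B2) : b.1.1 0 0 ≠ 0 ∧ b.1.1 1 1 ≠ 0 := by
  have h := ((Matrix.isUnit_iff_isUnit_det _).1 b.1.isUnit)
  rw [Matrix.det_fin_two, (mem_borelGL _).1 b.2, mul_zero, sub_zero, isUnit_iff_ne_zero] at h
  exact mul_ne_zero_iff.1 h

/-- Coordinates on the Borel subgroup. -/
noncomputable def borelGLEquiv : Fˣ × Fˣ × F ≃ B2 where
  toFun p := mkB p.1 p.2.1 p.2.2
  invFun b := (Units.mk0 _ (borelGL_diag_ne b).1, Units.mk0 _ (borelGL_diag_ne b).2, b.1.1 0 1)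
  left_inv p := by
    obtain ⟨a, d, x⟩ := p
    simp [mkB_val]
  right_inv b := by
    refine Subtype.ext (Units.ext ?_)
    rw [mkB_val]
    ext i j
    have := (mem_borelGL _).1 b.2
    fin_cases i <;> fin_cases j <;> simp [this]

theorem sum_borelGL {M : Type*} [AddCommMonoid M] [Fintype B2] (f : B2 → M) :
    ∑ b, f b = ∑ a : Fˣ, ∑ d : Fˣ, ∑ x : F, f (mkB a d x) := by
  rw [← borelGLEquiv.sum_comp]
  simp [Fintype.sum_prod_type, borelGLEquiv]

theorem card_borelGL : Nat.card B2 = (qF - 1) * ((qF - 1) * qF) := by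
  rw [← Nat.card_congr borelGLEquiv, Nat.card_prod, Nat.card_prod, Nat.card_units, Nat.card_eq_fintype_card]

/-- The linear character of the Borel subgroup. -/
noncomputable def borelChar (α β : MulChar F ℂ) : B2 →* ℂ where
  toFun b := α (b.1.1 0 0) * β (b.1.1 1 1)
  map_one' := by simp
  map_mul' a b := by
    have ha := (mem_borelGL _).1 a.2
    have hb := (mem_borelGL _).1 b.2
    simp [Matrix.mul_apply, Fin.sum_univ_two, ha, hb]
    ring

/-- The principal series. -/
noncomputable def psGL (α β : MulChar F ℂ) : G2 → ℂ :=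
  Cfsg.indFun B2 (fun b => α (((b : G2) : M2) 0 0) * β (((b : G2) : M2) 1 1))

/-- Representatives of the lines. -/
noncomputable def lineRep : Option F → G2
  | none => 1
  | some c => Matrix.GeneralLinearGroup.mk'' !![c, -1; 1, 0] (by simp [Matrix.det_fin_two])

theorem lineRep_some_val (c : F) : (lineRep (some c)).1 = !![c, -1; 1, 0] := rfl

theorem lineRep_inv_val (c : F) : ((lineRep (some c))⁻¹).1 = !![0, 1; -1, c] := by
  refine Units.inv_eq_of_mul_eq_one_right ?_
  show !![c, -1; 1, 0] * !![0, 1; -1, c] = 1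
  ext i j
  fin_cases i <;> fin_cases j <;> simp [Matrix.mul_apply, Fin.sum_univ_two]

theorem lineRep_bijective : Function.Bijective fun p : Option F × B2 => lineRep p.1 * p.2 := by
  refine ⟨?_, fun x => ?_⟩
  · rintro ⟨o, b⟩ ⟨o', b'⟩ h
    have hmem : (lineRep o)⁻¹ * lineRep o' ∈ B2 := by
      have : (lineRep o)⁻¹ * lineRep o' = b.1 * b'.1⁻¹ := by
        rw [eq_mul_inv_iff_mul_eq, mul_assoc, inv_mul_eq_iff_eq_mul]
        exact h.symm
      rw [this]
      exact mul_mem b.2 (inv_mem b'.2)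
    have ho : o = o' := by
      rw [mem_borelGL, Units.val_mul] at hmem
      rcases o with _ | c <;> rcases o' with _ | c'
      · rfl
      · simp [show lineRep (F := F) none = 1 from rfl, lineRep_some_val] at hmem
      · rw [lineRep_inv_val] at hmem
        simp [lineRep, Matrix.mul_apply, Fin.sum_univ_two] at hmem
      · rw [lineRep_inv_val] at hmem
        simp [lineRep_some_val, Matrix.mul_apply, Fin.sum_univ_two] at hmem
        rw [show c = c' by linear_combination hmem]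
    subst ho
    exact Prod.ext rfl (Subtype.ext (mul_left_cancel h))
  · by_cases h : x.1 1 0 = 0
    · exact ⟨(none, ⟨x, (mem_borelGL _).2 h⟩), by simp [lineRep]⟩
    · refine ⟨(some (x.1 0 0 / x.1 1 0), ⟨(lineRep (some (x.1 0 0 / x.1 1 0)))⁻¹ * x, (mem_borelGL _).2 ?_⟩), by simp⟩
      rw [Units.val_mul, lineRep_inv_val]
      simp [Matrix.mul_apply, Fin.sum_univ_two]
      field_simp
      ring

theorem lineRep_conj (g : G2) (c : F) :
    ((lineRep (some c))⁻¹ * g * lineRep (some c)).1 =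
      !![g.1 1 0 * c + g.1 1 1, -g.1 1 0; lineQuad g.1 c, g.1 0 0 - g.1 1 0 * c] := by
  rw [← brv_entries, Units.val_mul, Units.val_mul, lineRep_inv_val]
  rfl

theorem psGL_apply (α β : MulChar F ℂ) (g : G2) : psGL α β g = psVal (fun a d => α a * β d) g.1 := by
  classical
  rw [psGL, indFun_transversal B2 _ (fun h k => ?_) lineRep lineRep_bijective, Fintype.sum_option]
  · rw [psVal]
    congr 1
    · simp only [lineRep, inv_one, one_mul, mul_one]
      split_ifs with h
      · exact extendByZero_mem B2 _ ((mem_borelGL _).2 h)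
      · exact extendByZero_not_mem B2 _ fun h' => h ((mem_borelGL _).1 h')
    · refine Finset.sum_congr rfl fun c _ => ?_
      have e := lineRep_conj g c
      split_ifs with h
      · rw [extendByZero_mem B2 _ ((mem_borelGL _).2 (by rw [e]; simpa using h))]
        simp [e]
      · exact extendByZero_not_mem B2 _ fun h' => h (by rw [mem_borelGL, e] at h'; simpa using h')
  · show borelChar α β (k⁻¹ * h * k) = borelChar α β h
    rw [map_mul, map_mul, mul_comm _ (borelChar α β h), mul_assoc, ← map_mul, inv_mul_cancel, map_one, mul_one]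

theorem fixedGL_apply (g : G2) : Cfsg.fixedPointCharacter B2 g = psVal (fun _ _ => 1) g.1 := by
  classical
  rw [fixedPoint_transversal B2 lineRep lineRep_bijective, Nat.card_eq_fintype_card, Fintype.card_subtype,
    Finset.card_filter, Fintype.sum_option, Nat.cast_add, Nat.cast_sum, psVal]
  congr 1
  · simp [lineRep, mem_borelGL]
  · refine Finset.sum_congr rfl fun c _ => ?_
    rw [mem_borelGL, lineRep_conj]
    simp

theorem isCharacter_psGL (α β : MulChar F ℂ) : IsCharacter G2 (psGL α β) :=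
  isCharacter_indFun B2 (θ := fun b : B2 => ((borelChar α β).toHomUnits b : ℂ))
    (isCharacter_of_isIrr (isIrrCharacter_lin _))

theorem classInner_psGL (α β : MulChar F ℂ) {χ : G2 → ℂ} (hχ : IsClassFunction G2 χ) :
    classInner (psGL α β) χ = (((qF - 1) * ((qF - 1) * qF) : ℕ) : ℂ)⁻¹ *
      ∑ a : Fˣ, α a * ∑ d : Fˣ, β d * ∑ x : F, conj (χ (mkB a d x).1) := by
  classical
  have := Fintype.ofFinite B2
  rw [psGL, classInner_indFun _ _ _ hχ, classInner, card_borelGL, sum_borelGL]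
  congr 1
  simp only [Finset.mul_sum]
  refine Finset.sum_congr rfl fun a _ => Finset.sum_congr rfl fun d _ => Finset.sum_congr rfl fun x _ => ?_
  simp [mkB_val]
  ring

theorem borel_card_ne : (((qF - 1) * ((qF - 1) * qF) : ℕ) : ℂ) ≠ 0 := by
  have : 1 < qF := Fintype.one_lt_card
  have h1 : 0 < qF - 1 := by omega
  exact_mod_cast (Nat.mul_pos h1 (Nat.mul_pos h1 (by omega))).ne'

theorem classInner_psGL_psGL (α β α' β' : MulChar F ℂ) [Decidable (α = α' ∧ β = β')] [Decidable (α = β' ∧ β = α')] :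
    classInner (psGL α β) (psGL α' β') =
      (if α = α' ∧ β = β' then 1 else 0) + (if α = β' ∧ β = α' then 1 else 0) := by
  classical
  rw [classInner_psGL α β (χ := psGL α' β') (isClassFunction_indFun _ _)]
  have e : ∀ a d : Fˣ, ∑ x : F, conj (psGL α' β' (mkB a d x).1) =
      (qF : ℂ) * (conj (α' a) * conj (β' d) + conj (α' d) * conj (β' a)) := fun a d => by
    rw [← map_sum]
    simp only [psGL_apply, mkB_val, sum_psVal_upper]
    simp
  simp only [e, Finset.mul_sum, mul_add, Finset.sum_add_distrib]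
  have s1 : ∀ μ ν μ' ν' : MulChar F ℂ, ∀ K : ℂ,
      ∑ a : Fˣ, ∑ d : Fˣ, K * (μ a * (ν d * ((qF : ℂ) * (conj (μ' a) * conj (ν' d))))) =
        K * qF * ((∑ a : Fˣ, μ a * conj (μ' a)) * ∑ d : Fˣ, ν d * conj (ν' d)) := fun μ ν μ' ν' K => by
    rw [Finset.sum_mul_sum]
    simp only [Finset.mul_sum]
    exact Finset.sum_congr rfl fun a _ => Finset.sum_congr rfl fun d _ => by ring
  rw [s1]
  have s2 : ∀ K : ℂ, ∑ a : Fˣ, ∑ d : Fˣ, K * (α a * (β d * ((qF : ℂ) * (conj (α' d) * conj (β' a))))) =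
      K * qF * ((∑ a : Fˣ, α a * conj (β' a)) * ∑ d : Fˣ, β d * conj (α' d)) := fun K => by
    rw [← s1]
    exact Finset.sum_congr rfl fun a _ => Finset.sum_congr rfl fun d _ => by ring
  rw [s2]
  simp only [sum_mulChar_conj, ite_zero_mul_ite_zero]
  have hne := borel_card_ne (F := F)
  push_cast at hne ⊢
  obtain ⟨hn1, hn2⟩ := mul_ne_zero_iff.1 hne
  obtain ⟨-, hn3⟩ := mul_ne_zero_iff.1 hn2
  split_ifs
  all_goals field_simp
  all_goals norm_num

/-- The linear characters. -/
noncomputable def linGL (l : MulChar F ℂ) : G2 →* ℂˣ :=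
  l.toUnitHom.comp Matrix.GeneralLinearGroup.det

theorem linGL_apply (l : MulChar F ℂ) (g : G2) : (linGL l g : ℂ) = l g.1.det := rfl

/-- The Steinberg twists. -/
noncomputable def stGL (l : MulChar F ℂ) : G2 → ℂ := psGL l l - fun g => (linGL l g : ℂ)

theorem isIrr_linGL (l : MulChar F ℂ) : IsIrrCharacter G2 (fun g => (linGL l g : ℂ)) :=
  isIrrCharacter_lin _

theorem classInner_psGL_lin (α β l : MulChar F ℂ) [Decidable (α = l ∧ β = l)] :
    classInner (psGL α β) (fun g => (linGL l g : ℂ)) = if α = l ∧ β = l then 1 else 0 := by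
  classical
  rw [classInner_psGL α β (isClassFunction_of_isCharacter (isCharacter_of_isIrr (isIrr_linGL l)))]
  have e : ∀ a d : Fˣ, ∑ x : F, conj ((linGL l (mkB a d x).1 : ℂ)) = (qF : ℂ) * (conj (l a) * conj (l d)) :=
    fun a d => by simp [linGL_apply, mkB_val, Matrix.det_fin_two, Finset.card_univ]
  simp only [e]
  have s1 : ∑ a : Fˣ, α a * ∑ d : Fˣ, β d * ((qF : ℂ) * (conj (l a) * conj (l d))) =
      (qF : ℂ) * ((∑ a : Fˣ, α a * conj (l a)) * ∑ d : Fˣ, β d * conj (l d)) := by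
    rw [Finset.sum_mul_sum]
    simp only [Finset.mul_sum]
    exact Finset.sum_congr rfl fun a _ => Finset.sum_congr rfl fun d _ => by ring
  rw [s1, sum_mulChar_conj, sum_mulChar_conj]
  have hne := borel_card_ne (F := F)
  push_cast at hne ⊢
  obtain ⟨hn1, hn2⟩ := mul_ne_zero_iff.1 hne
  obtain ⟨-, hn3⟩ := mul_ne_zero_iff.1 hn2
  split_ifs <;> simp_all <;> field_simp

theorem psGL_one (α β : MulChar F ℂ) : psGL α β (1 : G2) = (qF : ℂ) + 1 := by
  rw [psGL_apply, psVal_scalar _ (by simp) (by simp) (by simp)]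
  simp

theorem stGL_one (l : MulChar F ℂ) : stGL l (1 : G2) = (qF : ℂ) := by
  simp [stGL, psGL_one]

theorem isIrr_stGL (l : MulChar F ℂ) : IsIrrCharacter G2 (stGL l) := by
  classical
  refine isIrr_of_norm_one ?_ ?_ ?_
  · exact isGeneralizedCharacter_sub (isGeneralizedCharacter_of_isCharacter (isCharacter_psGL l l))
      (isGeneralizedCharacter_of_isCharacter (isCharacter_of_isIrr (isIrr_linGL l)))
  · have h1 : classInner (fun g => (linGL l g : ℂ)) (fun g => (linGL l g : ℂ)) = 1 :=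
      classInner_irr_self (G := G2) ⟨_, isIrr_linGL l⟩
    rw [stGL, classInner_sub_left, classInner_sub_right, classInner_sub_right, h1,
      ← classInner_conj (psGL l l) (fun g => (linGL l g : ℂ)), classInner_psGL_psGL, classInner_psGL_lin]
    simp
  · rw [stGL_one]
    simp [Fintype.card_pos]

theorem isIrr_psGL {α β : MulChar F ℂ} (h : α ≠ β) : IsIrrCharacter G2 (psGL α β) := by
  classical
  refine isIrr_of_isCharacter_norm_one (isCharacter_psGL α β) ?_
  rw [classInner_psGL_psGL, if_pos ⟨rfl, rfl⟩, if_neg fun h' => h h'.1, add_zero]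

theorem psGL_eq_iff (α β α' β' : MulChar F ℂ) :
    psGL α β = psGL α' β' ↔ (α = α' ∧ β = β') ∨ (α = β' ∧ β = α') := by
  classical
  constructor
  · intro h
    have h1 := classInner_psGL_psGL α β α' β'
    rw [← h, classInner_psGL_psGL] at h1
    by_contra hc
    push Not at hc
    rw [if_pos (show α = α ∧ β = β from ⟨rfl, rfl⟩), if_neg (c := α = α' ∧ β = β') (fun e => hc.1 e.1 e.2),
      if_neg (c := α = β' ∧ β = α') (fun e => hc.2 e.1 e.2)] at h1
    split_ifs at h1 <;> norm_num at h1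
  · intro hsym
    have e : ∀ μ ν : MulChar F ℂ, psGL μ ν = psGL ν μ := fun μ ν => by
      refine sub_eq_zero.1 (classInner_self_eq_zero ?_)
      simp only [classInner_sub_left, classInner_sub_right, classInner_psGL_psGL]
      by_cases h : μ = ν <;> simp [h, Ne.symm]
    rcases hsym with ⟨rfl, rfl⟩ | ⟨rfl, rfl⟩
    · rfl
    · exact e _ _

/-- Cuspidal: orthogonal to all principal series. -/
def IsCuspGL (χ : G2 → ℂ) : Prop := ∀ α β : MulChar F ℂ, classInner (psGL α β) χ = 0

theorem gl_cases (χ : IrrCharacter G2) :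
    (∃ l, (χ : G2 → ℂ) = fun g => (linGL l g : ℂ)) ∨ (∃ l, (χ : G2 → ℂ) = stGL l) ∨
      (∃ α β, α ≠ β ∧ (χ : G2 → ℂ) = psGL α β) ∨ IsCuspGL (χ : G2 → ℂ) := by
  classical
  by_cases h : IsCuspGL (χ : G2 → ℂ)
  · exact Or.inr (Or.inr (Or.inr h))
  simp only [IsCuspGL, not_forall] at h
  obtain ⟨α, β, h⟩ := h
  by_cases hab : α = β
  · subst hab
    have e : psGL α α = stGL α + fun g => (linGL α g : ℂ) := by rw [stGL, sub_add_cancel]
    rw [e, classInner_add_left] at h
    by_cases h1 : classInner (stGL α) (χ : G2 → ℂ) = 0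
    · rw [h1, zero_add] at h
      exact Or.inl ⟨α, (congrArg Subtype.val (irr_eq_of_inner_ne_zero (χ := ⟨_, isIrr_linGL α⟩) h)).symm⟩
    · exact Or.inr (Or.inl ⟨α, (congrArg Subtype.val (irr_eq_of_inner_ne_zero (χ := ⟨_, isIrr_stGL α⟩) h1)).symm⟩)
  · exact Or.inr (Or.inr (Or.inl ⟨α, β, hab,
      (congrArg Subtype.val (irr_eq_of_inner_ne_zero (χ := ⟨_, isIrr_psGL hab⟩) h)).symm⟩))

theorem cuspGL_sum {χ : G2 → ℂ} (hχ : IsClassFunction G2 χ) (hc : IsCuspGL χ) (a d : Fˣ) :
    ∑ x : F, χ (mkB a d x).1 = 0 := by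
  classical
  have h1 : ∀ α β : MulChar F ℂ, ∑ a : Fˣ, α a * ∑ d : Fˣ, β d * ∑ x : F, conj (χ (mkB a d x).1) = 0 := fun α β => by
    have := hc α β
    rw [classInner_psGL α β hχ] at this
    exact (mul_eq_zero.1 this).resolve_left (inv_ne_zero borel_card_ne)
  have h2 : ∀ (β : MulChar F ℂ) (a : Fˣ), ∑ d : Fˣ, β d * ∑ x : F, conj (χ (mkB a d x).1) = 0 := fun β a =>
    fourier_zero (fun a => ∑ d : Fˣ, β d * ∑ x : F, conj (χ (mkB a d x).1)) (fun α => h1 α β) a
  have h3 := fourier_zero (fun d => ∑ x : F, conj (χ (mkB a d x).1)) (fun β => h2 β a) d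
  rw [← map_sum] at h3
  exact (map_eq_zero (starRingEnd ℂ)).1 h3

theorem mkB_isConj_one {x : F} (hx : x ≠ 0) : IsConj (mkB 1 1 x).1 (mkB (1 : Fˣ) 1 (1 : F)).1 := by
  refine (TwoClasses.gl_isConj_iff ?_).2 ⟨?_, ?_, ?_⟩
  · exact fun h => hx (by simpa [mkB_val] using h.1)
  · exact fun h => one_ne_zero (α := F) (by simpa [mkB_val] using h.1)
  · simp [mkB_val, Matrix.trace_fin_two]
  · simp [mkB_val, Matrix.det_fin_two]

theorem cuspGL_split {χ : G2 → ℂ} (hχ : IsClassFunction G2 χ) (hc : IsCuspGL χ) {a d : Fˣ} (h : a ≠ d) :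
    χ (mkB a d 0).1 = 0 := by
  have hne : (a : F) ≠ d := fun e => h (Units.ext e)
  have e : ∀ x : F, χ (mkB a d x).1 = χ (mkB a d 0).1 := fun x => by
    refine classFun_isConj hχ ((TwoClasses.gl_isConj_iff ?_).2 ⟨?_, ?_, ?_⟩) <;>
      simp [mkB_val, Matrix.trace_fin_two, Matrix.det_fin_two, TwoClasses.IsScalar2, hne]
  have h1 := cuspGL_sum hχ hc a d
  rw [Finset.sum_congr rfl fun x _ => e x, Finset.sum_const, Finset.card_univ, nsmul_eq_mul] at h1
  exact (mul_eq_zero.1 h1).resolve_left (by exact_mod_cast Fintype.card_ne_zero)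

theorem cuspGL_unip {χ : G2 → ℂ} (hχ : IsClassFunction G2 χ) (hc : IsCuspGL χ) :
    χ 1 + ((qF - 1 : ℕ) : ℂ) * χ (mkB (1 : Fˣ) 1 (1 : F)).1 = 0 := by
  classical
  have h1 := cuspGL_sum hχ hc 1 1
  rw [← Finset.add_sum_erase _ _ (Finset.mem_univ (0 : F)),
    Finset.sum_congr rfl fun x hx => classFun_isConj hχ (mkB_isConj_one (Finset.mem_erase.1 hx).1),
    Finset.sum_const, Finset.card_erase_of_mem (Finset.mem_univ _), Finset.card_univ, nsmul_eq_mul] at h1
  have : (mkB (1 : Fˣ) 1 (0 : F)).1 = (1 : G2) := Units.ext (by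
    rw [mkB_val]; ext i j; fin_cases i <;> fin_cases j <;> simp)
  rwa [this] at h1

theorem cuspGL_degree_mult (χ : IrrCharacter G2) (hc : IsCuspGL (χ : G2 → ℂ)) :
    ∃ m : ℕ, 0 < m ∧ (χ : G2 → ℂ) 1 = m * ((qF - 1 : ℕ) : ℂ) ∧ (χ : G2 → ℂ) (mkB (1 : Fˣ) 1 (1 : F)).1 = -(m : ℂ) := by
  have h := cuspGL_unip (isClassFunction_irr χ) hc
  obtain ⟨D, hD⟩ := isCharacter_degree (isCharacter_irr χ)
  have hq : 0 < qF - 1 := Nat.sub_pos_of_lt Fintype.one_lt_card
  obtain ⟨m, hm⟩ := exists_int_of_rat (isCharacter_isIntegral (isCharacter_irr χ) (mkB (1 : Fˣ) 1 (1 : F)).1)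
    (a := -(D : ℤ)) hq.ne' (by push_cast; rw [hD] at h; linear_combination h)
  rw [hm, hD] at h
  have hD0 : D ≠ 0 := fun e => irr_one_ne_zero χ (by rw [hD, e, Nat.cast_zero])
  have hz : ((D : ℤ) : ℂ) + (((qF - 1 : ℕ) : ℤ) : ℂ) * (m : ℂ) = 0 := by simpa using h
  rw [← Int.cast_mul, ← Int.cast_add, Int.cast_eq_zero] at hz
  have hneg : m < 0 := by
    by_contra hcon
    have : 0 ≤ ((qF - 1 : ℕ) : ℤ) * m := mul_nonneg (by positivity) (not_lt.1 hcon)
    omega
  obtain ⟨k, rfl⟩ : ∃ k : ℕ, m = -(k : ℤ) := ⟨(-m).toNat, by omega⟩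
  refine ⟨k, by omega, ?_, by rw [hm]; simp⟩
  rw [hD]
  push_cast at h
  linear_combination h

end CfsgLib.Char.TwoChars
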