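import Cfsg.Agent.Lib.Char.GLTwoChars

/-!
# The character table of `GL(2, q)`: degrees, multiplicities and values
-/

set_option autoImplicit false
set_option linter.unusedSectionVars false
set_option linter.style.haveILetI false

namespace CfsgLib.Char.TwoChars

open Matrix Cfsg CfsgLib.Char
open scoped ComplexConjugate

variable {F : Type*} [Field F] [Fintype F] [DecidableEq F]

local notation "M2" => Matrix (Fin 2) (Fin 2) F
local notation "G2" => Matrix.GeneralLinearGroup (Fin 2) F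
local notation "B2" => Cfsg.upperTriangularGL 2 F
local notation "qF" => Fintype.card F

theorem cast_qF : ((qF - 1 : ℕ) : ℂ) = (qF : ℂ) - 1 := by
  rw [Nat.cast_sub Fintype.card_pos, Nat.cast_one]

theorem linGL_one (l : MulChar F ℂ) : (linGL l (1 : G2) : ℂ) = 1 := by simp

theorem lin_not_cusp (l : MulChar F ℂ) : ¬ IsCuspGL (fun g : G2 => (linGL l g : ℂ)) := by
  classical
  intro h
  have := h l l
  rw [classInner_psGL_lin, if_pos ⟨rfl, rfl⟩] at this
  exact one_ne_zero this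

theorem st_not_cusp (l : MulChar F ℂ) : ¬ IsCuspGL (stGL l : G2 → ℂ) := by
  classical
  intro h
  have := h l l
  rw [stGL, classInner_sub_right, classInner_psGL_psGL, classInner_psGL_lin] at this
  simp at this

theorem ps_not_cusp (α β : MulChar F ℂ) : ¬ IsCuspGL (psGL α β : G2 → ℂ) := by
  classical
  intro h
  have := h α β
  rw [classInner_psGL_psGL, if_pos ⟨rfl, rfl⟩] at this
  split_ifs at this <;> norm_num at this

theorem lin_injective : Function.Injective
    fun l : MulChar F ℂ => (⟨fun g : G2 => (linGL l g : ℂ), isIrr_linGL l⟩ : IrrCharacter G2) := by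
  classical
  intro l m h
  have e := classInner_psGL_lin l l m
  rw [show (fun g : G2 => (linGL m g : ℂ)) = fun g : G2 => (linGL l g : ℂ) from (congrArg Subtype.val h).symm,
    classInner_psGL_lin, if_pos ⟨rfl, rfl⟩] at e
  by_contra hne
  rw [if_neg fun hh => hne hh.1] at e
  exact one_ne_zero e

theorem st_injective : Function.Injective
    fun l : MulChar F ℂ => (⟨stGL l, isIrr_stGL l⟩ : IrrCharacter G2) := by
  classical
  intro l m h
  have e := congrArg (classInner (psGL l l : G2 → ℂ)) (congrArg Subtype.val h)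
  simp only [stGL, classInner_sub_right, classInner_psGL_psGL, classInner_psGL_lin] at e
  by_contra hne
  simp [hne] at e

open Finset in
/-- The counts and the degree of the cuspidal characters. -/
theorem gl_table :
    (∀ χ : IrrCharacter G2, IsCuspGL (χ : G2 → ℂ) →
      (χ : G2 → ℂ) 1 = (qF : ℂ) - 1 ∧ (χ : G2 → ℂ) (mkB (1 : Fˣ) 1 (1 : F)).1 = -1) ∧
    Nat.card {χ : IrrCharacter G2 // IsCuspGL (χ : G2 → ℂ)} = qF * (qF - 1) / 2 ∧
    Nat.card {χ : IrrCharacter G2 // ∃ α β, α ≠ β ∧ (χ : G2 → ℂ) = psGL α β} = (qF - 1) * (qF - 2) / 2 := by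
  classical
  haveI := Fintype.ofFinite (IrrCharacter G2)
  let A : Finset (IrrCharacter G2) := univ.image fun l : MulChar F ℂ => ⟨_, isIrr_linGL l⟩
  let S : Finset (IrrCharacter G2) := univ.image fun l : MulChar F ℂ => ⟨_, isIrr_stGL l⟩
  let P : Finset (IrrCharacter G2) := univ.filter fun χ => ∃ α β, α ≠ β ∧ (χ : G2 → ℂ) = psGL α β
  let D : Finset (IrrCharacter G2) := univ.filter fun χ => IsCuspGL (χ : G2 → ℂ)
  have hA1 : ∀ χ ∈ A, (χ : G2 → ℂ) 1 = 1 := fun χ hχ => by
    obtain ⟨l, -, rfl⟩ := mem_image.1 hχ; exact linGL_one l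
  have hS1 : ∀ χ ∈ S, (χ : G2 → ℂ) 1 = (qF : ℂ) := fun χ hχ => by
    obtain ⟨l, -, rfl⟩ := mem_image.1 hχ; exact stGL_one l
  have hP1 : ∀ χ ∈ P, (χ : G2 → ℂ) 1 = (qF : ℂ) + 1 := fun χ hχ => by
    obtain ⟨α, β, -, e⟩ := (mem_filter.1 hχ).2
    rw [e, psGL_one]
  have hq2 : 2 ≤ qF := Fintype.one_lt_card
  have dAS : Disjoint A S := disjoint_left.2 fun χ h h' => by
    have e := (hA1 χ h).symm.trans (hS1 χ h')
    have : (1 : ℕ) = qF := by exact_mod_cast e
    omega
  have dASP : Disjoint (A ∪ S) P := disjoint_left.2 fun χ h h' => by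
    rcases mem_union.1 h with h | h
    · have : (1 : ℕ) = qF + 1 := by exact_mod_cast (hA1 χ h).symm.trans (hP1 χ h')
      omega
    · have : qF = qF + 1 := by exact_mod_cast (hS1 χ h).symm.trans (hP1 χ h')
      omega
  have dD : Disjoint (A ∪ S ∪ P) D := disjoint_left.2 fun χ h h' => by
    have hc := (mem_filter.1 h').2
    rcases mem_union.1 h with h | h
    · rcases mem_union.1 h with h | h
      · obtain ⟨l, -, rfl⟩ := mem_image.1 h; exact lin_not_cusp l hc
      · obtain ⟨l, -, rfl⟩ := mem_image.1 h; exact st_not_cusp l hc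
    · obtain ⟨α, β, -, e⟩ := (mem_filter.1 h).2
      exact ps_not_cusp α β (e ▸ hc)
  have hU : A ∪ S ∪ P ∪ D = univ := eq_univ_of_forall fun χ => by
    rcases gl_cases χ with ⟨l, hl⟩ | ⟨l, hl⟩ | h | h
    · exact mem_union_left _ (mem_union_left _ (mem_union_left _ (mem_image.2 ⟨l, mem_univ _, Subtype.ext hl.symm⟩)))
    · exact mem_union_left _ (mem_union_left _ (mem_union_right _ (mem_image.2 ⟨l, mem_univ _, Subtype.ext hl.symm⟩)))
    · exact mem_union_left _ (mem_union_right _ (mem_filter.2 ⟨mem_univ _, h⟩))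
    · exact mem_union_right _ (mem_filter.2 ⟨mem_univ _, h⟩)
  have cA : A.card = qF - 1 := by
    rw [card_image_of_injective _ lin_injective, card_univ, ← Nat.card_eq_fintype_card, card_mulChar]
  have cS : S.card = qF - 1 := by
    rw [card_image_of_injective _ st_injective, card_univ, ← Nat.card_eq_fintype_card, card_mulChar]
  -- the principal series
  have cP : 2 * P.card = (qF - 1) * (qF - 1) - (qF - 1) := by
    let T : Finset (MulChar F ℂ × MulChar F ℂ) := (univ : Finset (MulChar F ℂ)).offDiag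
    let f : T → IrrCharacter G2 := fun p => ⟨psGL p.1.1 p.1.2, isIrr_psGL (mem_offDiag.1 p.2).2.2⟩
    have himg : univ.image f = P := by
      ext χ
      simp only [mem_image, mem_univ, true_and, P, mem_filter]
      constructor
      · rintro ⟨p, rfl⟩; exact ⟨_, _, (mem_offDiag.1 p.2).2.2, rfl⟩
      · rintro ⟨α, β, h, e⟩
        exact ⟨⟨(α, β), mem_offDiag.2 ⟨mem_univ _, mem_univ _, h⟩⟩, Subtype.ext e.symm⟩
    have hfib : ∀ χ ∈ P, (univ.filter fun p => f p = χ).card = 2 := by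
      intro χ hχ
      obtain ⟨α, β, h, e⟩ := (mem_filter.1 hχ).2
      have h1 : ((α, β) : MulChar F ℂ × MulChar F ℂ) ∈ T := mem_offDiag.2 ⟨mem_univ _, mem_univ _, h⟩
      have h2 : ((β, α) : MulChar F ℂ × MulChar F ℂ) ∈ T := mem_offDiag.2 ⟨mem_univ _, mem_univ _, Ne.symm h⟩
      rw [show (univ.filter fun p => f p = χ) = {⟨_, h1⟩, ⟨_, h2⟩} from ?_]
      · exact card_pair fun hh => h (congrArg (fun p : T => p.1.1) hh)
      ext ⟨⟨μ, ν⟩, hp⟩
      simp only [mem_filter, mem_univ, true_and, mem_insert, mem_singleton, f, Subtype.ext_iff, e, psGL_eq_iff,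
        Prod.mk.injEq]
    have h3 := card_eq_sum_card_image f univ
    rw [himg, sum_const_nat hfib, card_univ, Fintype.card_coe, offDiag_card, card_univ,
      ← Nat.card_eq_fintype_card, card_mulChar] at h3
    omega
  have cU : A.card + S.card + P.card + D.card = qF ^ 2 - 1 := by
    rw [← card_union_of_disjoint dAS, ← card_union_of_disjoint dASP, ← card_union_of_disjoint dD, hU, card_univ,
      ← Nat.card_eq_fintype_card, card_irr_eq_card_conjClasses, TwoClasses.card_conjClasses_gl]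
  -- degrees
  have hm : ∀ χ ∈ D, ∃ m : ℕ, 0 < m ∧ (χ : G2 → ℂ) 1 = m * ((qF - 1 : ℕ) : ℂ) ∧
      (χ : G2 → ℂ) (mkB (1 : Fˣ) 1 (1 : F)).1 = -(m : ℂ) := fun χ h => cuspGL_degree_mult χ (mem_filter.1 h).2
  choose m hmpos hmdeg hmu using hm
  have hsum : ∑ χ : IrrCharacter G2, (χ : G2 → ℂ) 1 ^ 2 = (Nat.card G2 : ℂ) := sum_degree_sq
  rw [← hU, sum_union dD, sum_union dASP, sum_union dAS] at hsum
  rw [sum_congr (s₁ := A) (g := fun _ => (1 : ℂ) ^ 2) rfl fun χ h => by rw [hA1 χ h],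
    sum_congr (s₁ := S) (g := fun _ => (qF : ℂ) ^ 2) rfl fun χ h => by rw [hS1 χ h],
    sum_congr (s₁ := P) (g := fun _ => ((qF : ℂ) + 1) ^ 2) rfl fun χ h => by rw [hP1 χ h], ← sum_attach D,
    sum_congr (s₁ := D.attach) rfl fun χ _ => by rw [hmdeg χ.1 χ.2]] at hsum
  simp only [sum_const, nsmul_eq_mul, mul_pow, ← Finset.sum_mul] at hsum
  have hG : Nat.card G2 = (qF ^ 2 - 1) * (qF ^ 2 - qF) := by
    rw [Matrix.card_GL_field, Fin.prod_univ_two]
    simp
  rw [cA, cS, hG] at hsum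
  set sm : ℕ := ∑ χ ∈ D.attach, m χ.1 χ.2 ^ 2 with hsm
  have hsm' : ∑ χ ∈ D.attach, (m χ.1 χ.2 : ℂ) ^ 2 = (sm : ℂ) := by rw [hsm]; push_cast; rfl
  rw [hsm'] at hsum
  have hN : (qF - 1) * 1 ^ 2 + (qF - 1) * qF ^ 2 + P.card * (qF + 1) ^ 2 + sm * (qF - 1) ^ 2 =
      (qF ^ 2 - 1) * (qF ^ 2 - qF) := by exact_mod_cast hsum
  -- turn everything into polynomials in `x = q - 1`
  obtain ⟨x, hx⟩ : ∃ x, qF = x + 1 := ⟨qF - 1, by omega⟩
  have hxpos : 0 < x := by omega
  rw [hx] at hN cP cU cA cS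
  simp only [Nat.add_sub_cancel] at hN cP cU cA cS
  have e1 : (x + 1) ^ 2 - 1 = x * (x + 2) := by rw [Nat.sub_eq_iff_eq_add (by nlinarith)]; ring
  have e2 : (x + 1) ^ 2 - (x + 1) = x * (x + 1) := by rw [Nat.sub_eq_iff_eq_add (by nlinarith)]; ring
  have e3 : x * x - x + x = x * x := Nat.sub_add_cancel (by nlinarith)
  rw [e1, e2] at hN
  rw [e1] at cU
  have hP' : 2 * P.card + x = x * x := by omega
  have hD' : 2 * D.card = x * x + x := by nlinarith
  have hS' : sm = D.card := by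
    have : 2 * sm * x ^ 2 = (x * x + x) * x ^ 2 := by nlinarith
    have := Nat.eq_of_mul_eq_mul_right (pow_pos hxpos 2) this
    omega
  have hone : ∀ χ (h : χ ∈ D), m χ h = 1 := by
    have h1 : ∑ χ ∈ D.attach, m χ.1 χ.2 ^ 2 = ∑ χ ∈ D.attach, 1 := by
      rw [← hsm, hS', sum_const, card_attach]; simp
    have h2 := (Finset.sum_eq_sum_iff_of_le (s := D.attach) fun χ _ => Nat.one_le_pow 2 _ (hmpos χ.1 χ.2)).1 h1.symm
    intro χ h
    have := h2 ⟨χ, h⟩ (mem_attach _ _)
    exact (Nat.pow_eq_one.1 this.symm).resolve_right (by norm_num)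
  refine ⟨fun χ hc => ?_, ?_, ?_⟩
  · have hχ : χ ∈ D := mem_filter.2 ⟨mem_univ _, hc⟩
    rw [hmdeg χ hχ, hmu χ hχ, hone χ hχ, cast_qF]
    simp
  · rw [Nat.card_eq_fintype_card, Fintype.card_subtype, show univ.filter _ = D from rfl, hx,
      Nat.add_sub_cancel]
    have : (x + 1) * x = 2 * D.card := by nlinarith
    omega
  · rw [Nat.card_eq_fintype_card, Fintype.card_subtype, show univ.filter _ = P from rfl, hx,
      Nat.add_sub_cancel, show x + 1 - 2 = x - 1 by omega, Nat.mul_sub, mul_one]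
    omega

theorem gl_deg_q (χ : IrrCharacter G2) (h : (χ : G2 → ℂ) 1 = (qF : ℂ)) : ∃ l, (χ : G2 → ℂ) = stGL (F := F) l := by
  have hq2 : 2 ≤ qF := Fintype.one_lt_card
  rcases gl_cases χ with ⟨l, hl⟩ | h' | ⟨α, β, -, e⟩ | hc
  · simp only [hl, linGL_one] at h
    have : (1 : ℕ) = qF := by exact_mod_cast h
    omega
  · exact h'
  · rw [e, psGL_one] at h; simp at h
  · rw [((gl_table (F := F)).1 χ hc).1] at h; simp at h

theorem gl_deg_q_add (χ : IrrCharacter G2) (h : (χ : G2 → ℂ) 1 = (qF : ℂ) + 1) : ∃ α β, α ≠ β ∧ (χ : G2 → ℂ) = psGL (F := F) α β := by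
  rcases gl_cases χ with ⟨l, hl⟩ | ⟨l, hl⟩ | h' | hc
  · simp only [hl, linGL_one] at h; simp at h
  · rw [hl, stGL_one] at h; simp at h
  · exact h'
  · rw [((gl_table (F := F)).1 χ hc).1] at h
    have : (2 : ℂ) = 0 := by linear_combination -h
    norm_num at this

theorem gl_deg_one (χ : IrrCharacter G2) (hq : 3 ≤ qF) (h : (χ : G2 → ℂ) 1 = 1) :
    ∃ l, (χ : G2 → ℂ) = fun g => (linGL (F := F) l g : ℂ) := by
  rcases gl_cases χ with h' | ⟨l, hl⟩ | ⟨α, β, -, e⟩ | hc
  · exact h'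
  · rw [hl, stGL_one] at h
    have : qF = 1 := by exact_mod_cast h
    omega
  · rw [e, psGL_one] at h; simp at h
  · rw [((gl_table (F := F)).1 χ hc).1] at h
    have h' : (qF : ℂ) = ((2 : ℕ) : ℂ) := by push_cast; linear_combination h
    have : qF = 2 := by exact_mod_cast h'
    omega

theorem gl_deg_q_sub (χ : IrrCharacter G2) (hq : 3 ≤ qF) (h : (χ : G2 → ℂ) 1 = (qF : ℂ) - 1) : IsCuspGL (F := F) (χ : G2 → ℂ) := by
  rcases gl_cases χ with ⟨l, hl⟩ | ⟨l, hl⟩ | ⟨α, β, -, e⟩ | hc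
  · simp only [hl, linGL_one] at h
    have h' : (qF : ℂ) = ((2 : ℕ) : ℂ) := by push_cast; linear_combination -h
    have : qF = 2 := by exact_mod_cast h'
    omega
  · rw [hl, stGL_one] at h
    have : (1 : ℂ) = 0 := by linear_combination h
    norm_num at this
  · rw [e, psGL_one] at h
    have : (2 : ℂ) = 0 := by linear_combination h
    norm_num at this
  · exact hc

end CfsgLib.Char.TwoChars
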