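import Cfsg.Agent.Lib.Char.TwoDegreesMain
import Cfsg.Agent.Lib.Char.DegreeRatio
import Cfsg.Agent.Lib.Char.ExtendCriteria
import Cfsg.Agent.Lib.Char.NilMonomial
import Cfsg.Agent.Lib.Char.Integrality
import Cfsg.Agent.Lib.Char.CliffordOdd
import Cfsg.Agent.Lib.Block.PrincipalResidual
import Cfsg.Agent.S4456

/-!
# Groups with at most three character degrees are solvable

If the nonlinear degrees are `m` and `n` and are coprime, the product of a faithful character of
degree `m` with one of degree `n` has all constituents of one degree, and multiplying repeatedly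
with the squared absolute value of a faithful factor never reaches the principal character.  So
above a nonabelian minimal normal subgroup only one degree occurs, but there is always a degree
prime to a given prime divisor of the order of the subgroup.
-/

set_option autoImplicit false
set_option linter.unusedSectionVars false

namespace CfsgLib.Char.ThreeDegrees

open Cfsg CfsgLib
open scoped ComplexConjugate commutatorElement

universe u

variable {G : Type u} [Group G]

/-- All degrees are among `1`, `m`, `n`. -/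
def Deg3 (m n : ℕ) (G : Type u) [Group G] : Prop :=
  ∀ χ : IrrCharacter G, charDegree (χ : G → ℂ) = 1 ∨ charDegree (χ : G → ℂ) = m ∨
    charDegree (χ : G → ℂ) = n

theorem Deg3.symm {m n : ℕ} (h : Deg3 m n G) : Deg3 n m G := fun χ => by
  rcases h χ with e | e | e
  exacts [Or.inl e, Or.inr (Or.inr e), Or.inr (Or.inl e)]

theorem charDegree_of_eq {f : G → ℂ} {d : ℕ} (h : f 1 = (d : ℂ)) : charDegree f = d := by
  simp [charDegree, h]

theorem Deg3.quotient [Finite G] {m n : ℕ} (h : Deg3 m n G) (N : Subgroup G) [N.Normal] :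
    Deg3 m n (G ⧸ N) :=
  fun θ => h ⟨fun g => (θ : G ⧸ N → ℂ) g, isIrrCharacter_comp_surjective θ.2 (QuotientGroup.mk' N)
    (QuotientGroup.mk'_surjective N)⟩

/-- The conjugate character. -/
noncomputable def conjIrr [Finite G] (χ : IrrCharacter G) : IrrCharacter G :=
  ⟨fun g => conj ((χ : G → ℂ) g), by
    have := Fintype.ofFinite G
    exact isIrrCharacter_conj χ.2⟩

theorem charDegree_conjIrr [Finite G] (χ : IrrCharacter G) :
    charDegree (conjIrr χ : G → ℂ) = charDegree (χ : G → ℂ) := by
  refine charDegree_of_eq ?_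
  show conj ((χ : G → ℂ) 1) = _
  rw [conj_irr_one, Block.ItoMichler.one_eq_cast]

theorem nonneg_of_expand [Fintype G] [Fintype (IrrCharacter G)] {f : G → ℂ} (hf : IsCharacter G f) :
    ∃ c : IrrCharacter G → ℕ, (∀ η : IrrCharacter G, classInner f (η : G → ℂ) = c η) ∧
      ∀ g, f g = ∑ η : IrrCharacter G, (c η : ℂ) * (η : G → ℂ) g := by
  choose c hc using classInner_char_irr_nat hf
  refine ⟨c, hc, fun g => ?_⟩
  conv_lhs => rw [classFun_expand (isClassFunction_of_isCharacter hf)]
  simp [hc, Finset.sum_apply]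

section Product

variable [Fintype G] {m n : ℕ}

/-- The product of the two kinds of character has constituents of one kind only. -/
theorem product_type (h : Deg3 m n G) (hcop : m.Coprime n) (hm : 1 < m) (hn : 1 < n)
    (a b : IrrCharacter G) (ha : charDegree (a : G → ℂ) = m) (hb : charDegree (b : G → ℂ) = n) :
    (∀ η : IrrCharacter G, classInner (fun g => (a : G → ℂ) g * (b : G → ℂ) g) (η : G → ℂ) ≠ 0 →
        charDegree (η : G → ℂ) = n) ∨
      (∀ η : IrrCharacter G, classInner (fun g => (a : G → ℂ) g * (b : G → ℂ) g) (η : G → ℂ) ≠ 0 →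
        charDegree (η : G → ℂ) = m) := by
  classical
  have := Fintype.ofFinite (IrrCharacter G)
  have hmn : m ≠ n := fun e => by
    subst e; rw [Nat.coprime_self] at hcop; omega
  obtain ⟨c, hc, hexp⟩ := nonneg_of_expand (G := G) (f := fun g => (a : G → ℂ) g * (b : G → ℂ) g)
    (isCharacter_mul (isCharacter_irr a) (isCharacter_irr b))
  have hlin : ∀ η : IrrCharacter G, charDegree (η : G → ℂ) = 1 → c η = 0 := by
    intro η hη
    have hη1 : (η : G → ℂ) 1 = 1 := by rw [Block.ItoMichler.one_eq_cast, hη, Nat.cast_one]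
    obtain ⟨f, hf⟩ := exists_hom_of_linear (isCharacter_irr η) hη1
    set b' := linMul f (conjIrr b) with hb'
    have hb'n : charDegree (b' : G → ℂ) = n := by
      refine charDegree_of_eq ?_
      show (f 1 : ℂ) * conj ((b : G → ℂ) 1) = _
      rw [map_one, Units.val_one, one_mul, conj_irr_one, Block.ItoMichler.one_eq_cast, hb]
    have hne : a ≠ b' := fun e => hmn (by rw [← ha, e, hb'n])
    have h1 : classInner (fun g => (a : G → ℂ) g * (b : G → ℂ) g) (η : G → ℂ) =
        classInner (a : G → ℂ) (b' : G → ℂ) := by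
      simp only [classInner, hb', linMul, conjIrr, hf, map_mul, Complex.conj_conj]
      refine congrArg _ (Finset.sum_congr rfl fun g _ => ?_)
      ring
    rw [hc, classInner_irr_ne hne] at h1
    exact_mod_cast h1
  have hsum : m * n = ∑ η : IrrCharacter G, c η * charDegree (η : G → ℂ) := by
    have h1 := hexp 1
    simp only [Block.ItoMichler.one_eq_cast, ha, hb] at h1
    exact_mod_cast h1
  set i := ∑ η ∈ Finset.univ.filter (fun η : IrrCharacter G => charDegree (η : G → ℂ) = m), c η
    with hi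
  set j := ∑ η ∈ Finset.univ.filter (fun η : IrrCharacter G => charDegree (η : G → ℂ) = n), c η
    with hj
  have hij : m * n = i * m + j * n := by
    rw [hsum, hi, hj, Finset.sum_mul, Finset.sum_mul, Finset.sum_filter, Finset.sum_filter,
      ← Finset.sum_add_distrib]
    refine Finset.sum_congr rfl fun η _ => ?_
    rcases h η with e | e | e
    · simp [e, hlin η e]
    · simp [e, hmn]
    · simp [e, hmn.symm]
  have hdvd : m ∣ j := by
    refine hcop.dvd_of_dvd_mul_right ?_
    exact (Nat.dvd_add_right (dvd_mul_left m i)).1 (hij ▸ dvd_mul_right m n)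
  obtain ⟨k, hk⟩ := hdvd
  have hk1 : k ≤ 1 := by
    by_contra hk1
    have : m * n * 2 ≤ j * n := by
      rw [hk, mul_right_comm m k n]
      exact Nat.mul_le_mul_left _ (by omega)
    have : 0 < m * n := by positivity
    omega
  have key : ∀ (d : ℕ), ∑ η ∈ Finset.univ.filter (fun η : IrrCharacter G => charDegree (η : G → ℂ) = d), c η = 0 →
      ∀ η : IrrCharacter G, c η ≠ 0 → charDegree (η : G → ℂ) ≠ d := fun d hd η hη e =>
    hη (Finset.sum_eq_zero_iff.1 hd η (Finset.mem_filter.2 ⟨Finset.mem_univ _, e⟩))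
  interval_cases k
  · refine Or.inr fun η hη => ?_
    have hη' : c η ≠ 0 := fun e => hη (by rw [hc, e, Nat.cast_zero])
    rcases h η with e | e | e
    · exact absurd (hlin η e) hη'
    · exact e
    · exact absurd e (key n (by rw [← hj, hk, mul_zero]) η hη')
  · refine Or.inl fun η hη => ?_
    have hη' : c η ≠ 0 := fun e => hη (by rw [hc, e, Nat.cast_zero])
    have hi0 : i = 0 := by
      rw [hk, mul_one] at hij
      have : i * m = 0 := by omega
      rcases mul_eq_zero.1 this with h0 | h0
      · exact h0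
      · omega
    rcases h η with e | e | e
    · exact absurd (hlin η e) hη'
    · exact absurd e (key m (hi ▸ hi0) η hη')
    · exact e

/-- A faithful character of one degree does not multiply the other degree into itself. -/
theorem type_false (h : Deg3 m n G) (hcop : m.Coprime n) (hm : 1 < m) (hn : 1 < n)
    (χ ψ : IrrCharacter G) (hχ : charDegree (χ : G → ℂ) = m) (hψ : charDegree (ψ : G → ℂ) = n)
    (hfaith : ∀ g : G, ‖(χ : G → ℂ) g‖ = (m : ℝ) → g = 1)
    (htype : ∀ η : IrrCharacter G, classInner (fun g => (χ : G → ℂ) g * (ψ : G → ℂ) g) (η : G → ℂ) ≠ 0 →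
        charDegree (η : G → ℂ) = n) : False := by
  classical
  have := Fintype.ofFinite (IrrCharacter G)
  have hmn : m ≠ n := fun e => by
    subst e; rw [Nat.coprime_self] at hcop; omega
  let H : G → ℂ := fun g => (χ : G → ℂ) g * conj ((χ : G → ℂ) g)
  have hall : ∀ (k : ℕ) (φ : IrrCharacter G), charDegree (φ : G → ℂ) = n →
      (∀ η : IrrCharacter G, classInner (fun g => (χ : G → ℂ) g * (φ : G → ℂ) g) (η : G → ℂ) ≠ 0 →
        charDegree (η : G → ℂ) = n) → ∑ g : G, H g ^ k * (φ : G → ℂ) g = 0 := by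
    intro k
    induction k with
    | zero =>
      intro φ hφ _
      let one : IrrCharacter G := ⟨fun _ => 1, isIrrCharacter_one⟩
      have hne : φ ≠ one := fun e => by
        have : charDegree (one : G → ℂ) = 1 := by simp [one, charDegree]
        rw [← e, hφ] at this; omega
      have h1 := classInner_irr_ne hne
      simp only [classInner, one, map_one, mul_one] at h1
      simp only [pow_zero, one_mul]
      exact (mul_eq_zero.1 h1).resolve_left (inv_ne_zero card_ne_zero')
    | succ k ih =>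
      intro φ hφ hN
      obtain ⟨c, hc, hexp⟩ := nonneg_of_expand (G := G) (f := fun g => (χ : G → ℂ) g * (φ : G → ℂ) g)
        (isCharacter_mul (isCharacter_irr χ) (isCharacter_irr φ))
      have e1 : ∀ g, H g ^ (k + 1) * (φ : G → ℂ) g =
          ∑ η : IrrCharacter G, (c η : ℂ) * (H g ^ k * (conj ((χ : G → ℂ) g) * (η : G → ℂ) g)) := by
        intro g
        calc H g ^ (k + 1) * (φ : G → ℂ) g
            = H g ^ k * conj ((χ : G → ℂ) g) * ((χ : G → ℂ) g * (φ : G → ℂ) g) := by
              simp only [H, pow_succ]; ring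
          _ = _ := by
              rw [show (χ : G → ℂ) g * (φ : G → ℂ) g = _ from hexp g, Finset.mul_sum]
              exact Finset.sum_congr rfl fun η _ => by ring
      rw [Finset.sum_congr rfl fun g _ => e1 g, Finset.sum_comm]
      refine Finset.sum_eq_zero fun η _ => ?_
      rw [← Finset.mul_sum]
      by_cases hη : c η = 0
      · rw [hη, Nat.cast_zero, zero_mul]
      refine mul_eq_zero_of_right _ ?_
      have hηn : charDegree (η : G → ℂ) = n := hN η (by rw [hc]; exact Nat.cast_ne_zero.2 hη)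
      obtain ⟨c', hc', hexp'⟩ := nonneg_of_expand (G := G)
        (f := fun g => (conjIrr χ : G → ℂ) g * (η : G → ℂ) g)
        (isCharacter_mul (isCharacter_irr _) (isCharacter_irr η))
      -- `φ` is a constituent of the second product
      have hback : classInner (fun g => (conjIrr χ : G → ℂ) g * (η : G → ℂ) g) (φ : G → ℂ) ≠ 0 := by
        have e : classInner (fun g => (conjIrr χ : G → ℂ) g * (η : G → ℂ) g) (φ : G → ℂ) =
            conj (classInner (fun g => (χ : G → ℂ) g * (φ : G → ℂ) g) (η : G → ℂ)) := by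
          rw [classInner_conj]
          simp only [classInner, conjIrr, map_mul]
          exact congrArg _ (Finset.sum_congr rfl fun g _ => by ring)
        rw [e, hc, map_natCast]
        exact Nat.cast_ne_zero.2 hη
      have htype' := (product_type h hcop hm hn (conjIrr χ) η
        (by rw [charDegree_conjIrr, hχ]) hηn).resolve_right fun hM => hmn (by
          rw [← hM φ hback, hφ])
      rw [Finset.sum_congr rfl fun g _ => by
        rw [show conj ((χ : G → ℂ) g) * (η : G → ℂ) g = _ from hexp' g, Finset.mul_sum],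
        Finset.sum_comm]
      refine Finset.sum_eq_zero fun ξ _ => ?_
      by_cases hξ : c' ξ = 0
      · exact Finset.sum_eq_zero fun g _ => by rw [hξ, Nat.cast_zero, zero_mul, mul_zero]
      rw [Finset.sum_congr rfl fun g _ => mul_left_comm (H g ^ k) (c' ξ : ℂ) ((ξ : G → ℂ) g),
        ← Finset.mul_sum]
      refine mul_eq_zero_of_right _ ?_
      have hξn : charDegree (ξ : G → ℂ) = n := htype' ξ (by rw [hc']; exact Nat.cast_ne_zero.2 hξ)
      refine ih ξ hξn ((product_type h hcop hm hn χ ξ hχ hξn).resolve_right fun hM => hmn ?_)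
      rw [← hM η ?_, hηn]
      have e : classInner (fun g => (χ : G → ℂ) g * (ξ : G → ℂ) g) (η : G → ℂ) =
          conj (classInner (fun g => (conjIrr χ : G → ℂ) g * (η : G → ℂ) g) (ξ : G → ℂ)) := by
        rw [classInner_conj]
        simp only [classInner, conjIrr, map_mul, Complex.conj_conj]
        exact congrArg _ (Finset.sum_congr rfl fun g _ => by ring)
      rw [e, hc', map_natCast]
      exact Nat.cast_ne_zero.2 hξ
  -- a polynomial in `H` concentrated at the identity
  let P : Polynomial ℂ := ∏ a ∈ (Finset.univ.image H).erase (H 1), (Polynomial.X - Polynomial.C a)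
  have h0 : ∑ g : G, P.eval (H g) * (ψ : G → ℂ) g = 0 := by
    simp only [Polynomial.eval_eq_sum_range, Finset.sum_mul]
    rw [Finset.sum_comm]
    refine Finset.sum_eq_zero fun k _ => ?_
    rw [Finset.sum_congr rfl fun g _ => mul_assoc (P.coeff k) _ _, ← Finset.mul_sum,
      hall k ψ hψ htype, mul_zero]
  have hH1 : H 1 = ((m : ℝ) : ℂ) ^ 2 := by
    simp only [H, Block.ItoMichler.one_eq_cast, hχ, map_natCast]
    push_cast; ring
  have hne1 : ∀ g : G, g ≠ 1 → H g ≠ H 1 := fun g hg e => hg (hfaith g (by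
    rw [hH1, show H g = _ from Complex.mul_conj' _] at e
    have e' : ‖(χ : G → ℂ) g‖ ^ 2 = (m : ℝ) ^ 2 := by exact_mod_cast e
    exact (pow_left_inj₀ (norm_nonneg _) (Nat.cast_nonneg _) two_ne_zero).1 e'))
  rw [Finset.sum_eq_single (1 : G) (fun g _ hg => mul_eq_zero_of_left (by
      rw [Polynomial.eval_prod]
      exact Finset.prod_eq_zero (i := H g) (Finset.mem_erase.2 ⟨hne1 g hg,
        Finset.mem_image.2 ⟨g, Finset.mem_univ _, rfl⟩⟩) (by simp)) _)
    (fun h' => absurd (Finset.mem_univ _) h'), mul_eq_zero] at h0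
  rcases h0 with h0 | h0
  · rw [Polynomial.eval_prod, Finset.prod_eq_zero_iff] at h0
    obtain ⟨a, ha, he⟩ := h0
    rw [Polynomial.eval_sub, Polynomial.eval_X, Polynomial.eval_C, sub_eq_zero] at he
    exact (Finset.mem_erase.1 ha).1 he.symm
  · exact irr_one_ne_zero ψ h0

/-- Two coprime degrees cannot both be faithful. -/
theorem coprime_faithful_false (h : Deg3 m n G) (hcop : m.Coprime n) (hm : 1 < m) (hn : 1 < n)
    (χ ψ : IrrCharacter G) (hχ : charDegree (χ : G → ℂ) = m) (hψ : charDegree (ψ : G → ℂ) = n)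
    (hfχ : ∀ g : G, ‖(χ : G → ℂ) g‖ = (m : ℝ) → g = 1)
    (hfψ : ∀ g : G, ‖(ψ : G → ℂ) g‖ = (n : ℝ) → g = 1) : False := by
  rcases product_type h hcop hm hn χ ψ hχ hψ with ht | ht
  · exact type_false h hcop hm hn χ ψ hχ hψ hfχ ht
  · refine type_false h.symm hcop.symm hn hm ψ χ hψ hχ hfψ fun η hη => ht η ?_
    rwa [show (fun g => (χ : G → ℂ) g * (ψ : G → ℂ) g) = fun g => (ψ : G → ℂ) g * (χ : G → ℂ) g from
      funext fun g => mul_comm _ _]

end Product

/-- Above a perfect normal subgroup of order divisible by `p` there is a degree prime to `p`. -/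
theorem exists_pPrime_over [Fintype G] (N : Subgroup G) [N.Normal] (hperf : ⁅N, N⁆ = N)
    {p : ℕ} [hp : Fact p.Prime] (hpN : p ∣ Nat.card N) :
    ∃ χ : IrrCharacter G, ¬ p ∣ charDegree (χ : G → ℂ) ∧
      ¬ ∀ x ∈ N, (χ : G → ℂ) x = (χ : G → ℂ) 1 := by
  classical
  have := Fintype.ofFinite N
  have := Fintype.ofFinite (IrrCharacter N)
  have := Fintype.ofFinite (IrrCharacter G)
  obtain ⟨P⟩ : Nonempty (Sylow p G) := inferInstance
  let one : IrrCharacter N := ⟨fun _ => 1, isIrrCharacter_one⟩
  have hone : charDegree (one : N → ℂ) = 1 := by simp [one, charDegree]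
  letI : MulAction (P : Subgroup G) (IrrCharacter N) :=
    { smul := fun u θ => Block.cjN (u : G) θ
      one_smul := fun θ => Block.cjN_one θ
      mul_smul := fun u v θ => (Block.cjN_cjN _ _ θ).symm }
  have hdeg : ∀ (u : (P : Subgroup G)) (θ : IrrCharacter N),
      charDegree ((u • θ : IrrCharacter N) : N → ℂ) = charDegree (θ : N → ℂ) :=
    fun u θ => Block.HeightZeroOrbit.charDegree_cjN (u : G) θ
  have htot : ∑ θ : IrrCharacter N, ((charDegree (θ : N → ℂ) : ℕ) : ZMod p) ^ 2 = 0 := by
    have h1 := sum_degree_sq (G := N)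
    simp only [Block.ItoMichler.one_eq_cast] at h1
    norm_cast at h1
    have h2 : ((Nat.card N : ℕ) : ZMod p) = 0 := (ZMod.natCast_eq_zero_iff _ p).2 hpN
    rw [← h1] at h2
    push_cast at h2
    exact h2
  rw [Block.sum_eq_sum_fixedPoints (p := p) P.2 _ fun u θ => by rw [hdeg u θ]] at htot
  obtain ⟨θ, hfix, hθne, hθp⟩ : ∃ θ : IrrCharacter N, (∀ u : (P : Subgroup G), u • θ = θ) ∧
      θ ≠ one ∧ ¬ p ∣ charDegree (θ : N → ℂ) := by
    by_contra hc
    push Not at hc
    rw [Finset.sum_eq_single one] at htot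
    · rw [hone, Nat.cast_one, one_pow] at htot
      exact one_ne_zero htot
    · intro θ hθ hne
      rw [(ZMod.natCast_eq_zero_iff _ p).2 (hc θ (Finset.mem_filter.1 hθ).2 hne)]
      simp
    · intro h'
      refine absurd (Finset.mem_filter.2 ⟨Finset.mem_univ _, fun u => ?_⟩) h'
      refine Subtype.ext (funext fun x => ?_)
      show (Block.cjN (u : G) one : N → ℂ) x = _
      rw [Block.cjN_apply]
  -- extend to `N ⊔ P`
  set X : Subgroup G := N ⊔ (P : Subgroup G) with hX
  have hNX : N ≤ X := le_sup_left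
  have := Fintype.ofFinite X
  set N' := N.subgroupOf X with hN'
  have := Fintype.ofFinite N'
  let e : N' ≃* N := Subgroup.subgroupOfEquivOfLe hNX
  have hθ' : IsIrrCharacter N' (fun x => (θ : N → ℂ) (e x)) :=
    isIrrCharacter_comp_surjective θ.2 e.toMonoidHom e.surjective
  obtain ⟨d, ρ, hρ, hρθ⟩ := id hθ'
  have := hρ
  have hd : charDegree (θ : N → ℂ) = d := by
    refine charDegree_of_eq ?_
    have h1 := congrFun hρθ 1
    rw [Representation.char_one, Module.finrank_fin_fun, map_one] at h1
    exact h1.symm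
  have hinv : IsInvariant N' ρ := (isInvariant_iff N' ρ hρθ).mpr fun g x => by
    obtain ⟨n, hn, u, hu, hg⟩ := Subgroup.mem_sup_of_normal_left.mp g.2
    have h1 : Block.cjN (g : G)⁻¹ θ = θ := by
      rw [← hg, mul_inv_rev, ← Block.cjN_cjN]
      have h2 : Block.cjN n⁻¹ θ = θ := Subtype.ext (funext fun z => by
        rw [Block.cjN_apply]
        conv_rhs => rw [← isClassFunction_irr θ z ⟨n, hn⟩]
        exact congrArg _ (Subtype.ext (by simp)))
      rw [h2]
      exact hfix ⟨u⁻¹, inv_mem hu⟩
    have h3 := congrFun (congrArg Subtype.val h1) (e x)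
    rw [Block.cjN_apply] at h3
    refine Eq.trans (congrArg _ (Subtype.ext ?_)) h3
    simp [e, Subgroup.subgroupOfEquivOfLe]
  have hperf' : commutator N = ⊤ := by
    refine Subgroup.map_injective N.subtype_injective ?_
    rw [commutator_def, Subgroup.map_commutator, ← MonoidHom.range_eq_map, Subgroup.range_subtype, hperf]
  have hidx : ∃ k, N'.index = p ^ k := by
    have h1 : N'.index = N.relIndex X := rfl
    have h2 : N.relIndex X = N.relIndex (P : Subgroup G) :=
      (congrArg N.relIndex (sup_comm N (P : Subgroup G))).trans (Subgroup.relIndex_sup_right _ _)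
    obtain ⟨a, ha⟩ := IsPGroup.iff_card.1 P.2
    obtain ⟨k, -, hk⟩ := (Nat.dvd_prime_pow hp.out).1 (ha ▸ Subgroup.relIndex_dvd_card N (P : Subgroup G))
    exact ⟨k, h1.trans (h2.trans hk)⟩
  obtain ⟨σ, hσ⟩ := extends_of_sylow N' ρ hinv fun q hq hqi hqd => by
    exfalso
    obtain ⟨k, hk⟩ := hidx
    rw [hk] at hqi
    obtain rfl : q = p := (Nat.prime_dvd_prime_iff_eq hq hp.out).mp (hq.dvd_of_dvd_pow hqi)
    have hdet : detHom ρ = 1 := by
      have h1 : commutator N' = ⊤ := by
        have := congrArg (Subgroup.map e.symm.toMonoidHom) hperf'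
        rwa [commutator_def, Subgroup.map_commutator, Subgroup.map_top_of_surjective _ e.symm.surjective,
          ← commutator_def] at this
      refine MonoidHom.ext fun x => ?_
      exact MonoidHom.mem_ker.1 ((Abelianization.commutator_subset_ker (detHom ρ)) (h1 ▸ Subgroup.mem_top x))
    rw [hdet, orderOf_one, mul_one] at hqd
    exact hθp (hd ▸ hqd)
  let η : IrrCharacter X := ⟨σ.character, isIrrCharacter_of_extends N' ρ hσ⟩
  have hres : ∀ x : N, (η : X → ℂ) ⟨(x : G), hNX x.2⟩ = (θ : N → ℂ) x := by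
    intro x
    have h1 : (η : X → ℂ) ((e.symm x : N') : X) = ρ.character (e.symm x) :=
      congrArg (LinearMap.trace ℂ _) (hσ (e.symm x))
    rw [hρθ] at h1
    simpa [e, Subgroup.subgroupOfEquivOfLe] using h1
  -- a constituent of the induced character of degree prime to `p`
  have hPX : (P : Subgroup G) ≤ X := le_sup_right
  have hXp : ¬ p ∣ X.index := fun h => P.not_dvd_index (h.trans (Subgroup.index_dvd_of_le hPX))
  obtain ⟨c, hc, hexp⟩ := nonneg_of_expand (isCharacter_indFun X (isCharacter_irr η))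
  have hηd : charDegree (η : X → ℂ) = d := by
    refine charDegree_of_eq ?_
    show σ.character 1 = _
    rw [Representation.char_one, Module.finrank_fin_fun]
  obtain ⟨χ, hχc, hχp⟩ : ∃ χ : IrrCharacter G, c χ ≠ 0 ∧ ¬ p ∣ charDegree (χ : G → ℂ) := by
    by_contra hall
    push Not at hall
    have h1 := hexp 1
    simp only [indFun_one, Block.ItoMichler.one_eq_cast, hηd] at h1
    have h2 : X.index * d = ∑ χ : IrrCharacter G, c χ * charDegree (χ : G → ℂ) := by exact_mod_cast h1
    have h3 : p ∣ X.index * d := h2 ▸ Finset.dvd_sum fun χ _ => by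
      by_cases h0 : c χ = 0
      · simp [h0]
      · exact (hall χ h0).mul_left _
    rcases (Nat.Prime.dvd_mul hp.out).1 h3 with h4 | h4
    · exact hXp h4
    · exact hθp (hd ▸ h4)
  refine ⟨χ, hχp, fun htriv => hχc ?_⟩
  have hinner : (c χ : ℂ) = classInner (η : X → ℂ) (fun x : X => (χ : G → ℂ) x) := by
    rw [← hc, classInner_indFun X _ _ (isClassFunction_irr χ)]
  -- the restriction of `χ` to `N` contains `θ` with at least this multiplicity
  have := Fintype.ofFinite (IrrCharacter X)
  obtain ⟨a, ha, haexp⟩ := nonneg_of_expand (G := X) (f := fun x : X => (χ : G → ℂ) x)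
    (isCharacter_comp (isCharacter_irr χ) X.subtype)
  have hcharN : ∀ ξ : IrrCharacter X, ∃ b : ℕ,
      classInner (fun x : N => (ξ : X → ℂ) ⟨(x : G), hNX x.2⟩) (θ : N → ℂ) = b := fun ξ =>
    classInner_char_irr_nat (isCharacter_comp (isCharacter_irr ξ) (Subgroup.inclusion hNX)) θ
  choose b hb using hcharN
  have h0 : classInner (fun x : N => (χ : G → ℂ) x) (θ : N → ℂ) = 0 := by
    rw [show (fun x : N => (χ : G → ℂ) x) = fun _ => (χ : G → ℂ) 1 from funext fun x => htriv x x.2,
      show (fun _ : N => (χ : G → ℂ) 1) = (χ : G → ℂ) 1 • (one : N → ℂ) by funext x; simp [one],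
      classInner_smul_left, classInner_irr_ne (Ne.symm hθne), mul_zero]
  have hsum : classInner (fun x : N => (χ : G → ℂ) x) (θ : N → ℂ) = ∑ ξ : IrrCharacter X, ((a ξ * b ξ : ℕ) : ℂ) := by
    have e1 : (fun x : N => (χ : G → ℂ) x) =
        ∑ ξ : IrrCharacter X, (a ξ : ℂ) • fun x : N => (ξ : X → ℂ) ⟨(x : G), hNX x.2⟩ := by
      funext x
      rw [Finset.sum_apply]
      exact haexp ⟨(x : G), hNX x.2⟩
    rw [e1, classInner_sum_left]
    refine Finset.sum_congr rfl fun ξ _ => ?_
    rw [classInner_smul_left, hb, Nat.cast_mul]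
  rw [hsum, ← Nat.cast_sum, Nat.cast_eq_zero, Finset.sum_eq_zero_iff] at h0
  have hbη : b η = 1 := by
    have h1 := hb η
    rw [show (fun x : N => (η : X → ℂ) ⟨(x : G), hNX x.2⟩) = (θ : N → ℂ) from funext hres,
      classInner_irr_self] at h1
    exact_mod_cast h1.symm
  have haη : a η = 0 := by simpa [hbη] using h0 η (Finset.mem_univ _)
  have : (c χ : ℂ) = 0 := by
    rw [hinner, ← classInner_conj, ha, haη, Nat.cast_zero, map_zero]
  exact_mod_cast this

theorem scalar_trivial_of_perfect [Finite G] (N : Subgroup G) (hperf : ⁅N, N⁆ = N) {d : ℕ}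
    (ρ : Representation ℂ G (Fin d → ℂ)) (hN : N ≤ scalarSubgroup ρ) (x : G) (hx : x ∈ N) :
    ρ.character x = ρ.character 1 := by
  have hcomm : N ≤ ρ.toHomUnits.ker := by
    rw [← hperf, Subgroup.commutator_le]
    intro a ha b hb
    rw [MonoidHom.mem_ker, map_commutatorElement, commutatorElement_eq_one_iff_mul_comm]
    exact Units.ext (scalar_comm ρ (hN ha) b)
  have h1 : ρ x = 1 := congrArg Units.val (MonoidHom.mem_ker.1 (hcomm hx))
  rw [Representation.character, Representation.character, h1, map_one ρ]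

/-- Above a perfect minimal normal subgroup with trivial centralizer the characters are faithful. -/
theorem faithful_over [Fintype G] (N : Subgroup G) [N.Normal] (hperf : ⁅N, N⁆ = N)
    (hC : Subgroup.centralizer (N : Set G) = ⊥)
    (hmin : ∀ K : Subgroup G, K.Normal → K ≤ N → K = ⊥ ∨ K = N) (χ : IrrCharacter G)
    (hχ : ¬ ∀ x ∈ N, (χ : G → ℂ) x = (χ : G → ℂ) 1) {d : ℕ} (hd : charDegree (χ : G → ℂ) = d)
    (g : G) (hg : ‖(χ : G → ℂ) g‖ = (d : ℝ)) : g = 1 := by
  obtain ⟨k, ρ, hρ, hρχ⟩ := χ.2
  have := hρ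
  have hkd : k = d := by
    rw [← hd, eq_comm]
    refine charDegree_of_eq ?_
    rw [← hρχ, Representation.char_one, Module.finrank_fin_fun]
  haveI := scalarSubgroup_normal ρ
  have hgS : g ∈ scalarSubgroup ρ := by
    refine (norm_char_eq_iff ρ g).1 ?_
    rw [hρχ, hg, Module.finrank_fin_fun, hkd]
  rcases hmin (scalarSubgroup ρ ⊓ N) inferInstance inf_le_right with h | h
  · have : g ∈ Subgroup.centralizer (N : Set G) := by
      refine Subgroup.mem_centralizer_iff.2 fun x hx => ?_
      have h1 : ⁅x, g⁆ ∈ scalarSubgroup ρ ⊓ N := by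
        refine ⟨?_, ?_⟩
        · exact (scalarSubgroup ρ).mul_mem ((scalarSubgroup_normal ρ).conj_mem g hgS x)
            ((scalarSubgroup ρ).inv_mem hgS)
        · have hNn : N.Normal := inferInstance
          have h2 := N.mul_mem hx (hNn.conj_mem x⁻¹ (N.inv_mem hx) g)
          rw [commutatorElement_def]
          simpa [mul_assoc] using h2
      rw [h, Subgroup.mem_bot, commutatorElement_eq_one_iff_mul_comm] at h1
      exact h1
    rwa [hC, Subgroup.mem_bot] at this
  · refine absurd (fun x hx => ?_) hχ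
    rw [← hρχ]
    exact scalar_trivial_of_perfect N hperf ρ (h ▸ inf_le_left) x hx

theorem degree_pPart {G : Type u} [Group G] [Fintype G] {q : ℕ} (hq : q.Prime) (K : Subgroup G)
    [K.Normal] [Fintype K] (hK : (Nat.card K).Coprime q) {k : ℕ} (hk : K.index = q ^ k)
    (χ : IrrCharacter G) (θ : IrrCharacter K)
    (h : classInner (fun x : K => (χ : G → ℂ) x) (θ : K → ℂ) ≠ 0) :
    charDegree (θ : K → ℂ) = ordCompl[q] (charDegree (χ : G → ℂ)) := by
  obtain ⟨h1, h2⟩ := ratio_dvd_index K χ.2 θ.2 h (Block.ItoMichler.one_eq_cast χ)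
    (Block.ItoMichler.one_eq_cast θ)
  obtain ⟨a, ha⟩ := h1
  have hθq : ¬ q ∣ charDegree (θ : K → ℂ) := fun hd => (hq.coprime_iff_not_dvd.1 hK.symm)
    (hd.trans (degree_dvd_card θ (Block.ItoMichler.one_eq_cast θ)))
  have hθ0 : charDegree (θ : K → ℂ) ≠ 0 := fun e => irr_one_ne_zero θ (by
    rw [Block.ItoMichler.one_eq_cast, e, Nat.cast_zero])
  rw [ha, Nat.mul_div_cancel_left _ (Nat.pos_of_ne_zero hθ0), hk] at h2
  obtain ⟨b, -, rfl⟩ := (Nat.dvd_prime_pow hq).1 h2
  rw [ha, Nat.ordCompl_mul, Nat.ordCompl_self_pow hq, mul_one, (Nat.ordCompl_eq_self_iff_zero_or_not_dvd _ hq).2 (Or.inr hθq)]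

theorem Deg3.pComplement {G : Type u} [Group G] [Finite G] {m n q : ℕ} (hq : q.Prime)
    (h : Deg3 m n G) (K : Subgroup G) [K.Normal] (hK : (Nat.card K).Coprime q) {k : ℕ}
    (hk : K.index = q ^ k) : Deg3 (ordCompl[q] m) (ordCompl[q] n) K := by
  classical
  have := Fintype.ofFinite G
  have := Fintype.ofFinite K
  intro θ
  obtain ⟨χ, hχ⟩ := Block.ItoMichler.exists_irr_over K θ
  rw [degree_pPart hq K hK hk χ θ hχ]
  rcases h χ with e | e | e <;> rw [e]
  · exact Or.inl (by simp)
  · exact Or.inr (Or.inl rfl)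
  · exact Or.inr (Or.inr rfl)

/-- A group with at most three degrees is solvable. -/
theorem isSolvable : ∀ (N : ℕ) (G : Type u) [Group G] [Finite G], Nat.card G = N →
    ∀ m n : ℕ, Deg3 m n G → Group.IsSolvable G := by
  intro c
  induction c using Nat.strong_induction_on with
  | _ c ih =>
  intro G _ _ hc m n h
  subst hc
  classical
  have := Fintype.ofFinite G
  by_cases hab : ∀ χ : IrrCharacter G, (χ : G → ℂ) 1 = 1
  · exact Group.isSolvable_of_comm fun a b => comm_of_degree_one hab a b
  by_cases hq : ∃ q : ℕ, q.Prime ∧ ∀ χ : IrrCharacter G, charDegree (χ : G → ℂ) ≠ 1 →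
      q ∣ charDegree (χ : G → ℂ)
  · obtain ⟨q, hq, hdiv⟩ := hq
    obtain ⟨K, hKn, hKc, k, hk⟩ := Cfsg.Agent.S4456.result q hq hdiv
    have := hKn
    have := Fact.mk hq
    haveI hGK : Group.IsSolvable (G ⧸ K) := by
      have hP : IsPGroup q (G ⧸ K) := IsPGroup.of_card (n := k) (by rw [← Subgroup.index_eq_card, hk])
      haveI := hP.isNilpotent
      infer_instance
    haveI hKs : Group.IsSolvable K := by
      refine ih (Nat.card K) ?_ K rfl _ _ (h.pComplement hq K hKc hk)
      refine lt_of_le_of_ne (Subgroup.card_le_card_group K) fun e => ?_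
      have hnd : ¬ q ∣ Nat.card G := e ▸ hq.coprime_iff_not_dvd.1 hKc.symm
      refine hab fun χ => ?_
      by_contra hne
      refine hnd ((hdiv χ fun e' => hne (by rw [Block.ItoMichler.one_eq_cast, e', Nat.cast_one])).trans ?_)
      exact degree_dvd_card χ (Block.ItoMichler.one_eq_cast χ)
    exact Group.isSolvable_of_ker_le_range K.subtype (QuotientGroup.mk' K)
      (by rw [QuotientGroup.ker_mk', Subgroup.range_subtype])
  push Not at hq hab
  obtain ⟨χ₀, hχ₀⟩ := hab
  haveI : Nontrivial G := by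
    by_contra hnt
    rw [not_nontrivial_iff_subsingleton] at hnt
    have e := degree_dvd_card χ₀ (Block.ItoMichler.one_eq_cast χ₀)
    rw [Nat.card_unique, Nat.dvd_one] at e
    exact hχ₀ (by rw [Block.ItoMichler.one_eq_cast χ₀, e, Nat.cast_one])
  -- both degrees occur and are coprime
  have hd : ∀ χ : IrrCharacter G, charDegree (χ : G → ℂ) ≠ 0 := fun χ e => irr_one_ne_zero χ (by
    rw [Block.ItoMichler.one_eq_cast, e, Nat.cast_zero])
  have hd₀ : charDegree (χ₀ : G → ℂ) ≠ 1 := fun e => hχ₀ (by
    rw [Block.ItoMichler.one_eq_cast, e, Nat.cast_one])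
  have hocc : ∀ a b : ℕ, Deg3 a b G → 1 < a := by
    intro a b hab'
    by_contra ha
    obtain ⟨q, hq', hqd⟩ := Nat.exists_prime_and_dvd hd₀
    obtain ⟨χ, hχ1, hχq⟩ := hq q hq'
    rcases hab' χ with e | e | e
    · exact hχ1 e
    · have := hd χ; omega
    · rcases hab' χ₀ with e' | e' | e'
      · exact hd₀ e'
      · have := hd χ₀; omega
      · exact hχq (e ▸ e' ▸ hqd)
  have hm := hocc m n h
  have hn := hocc n m h.symm
  have hcop : m.Coprime n := Nat.coprime_of_dvd fun q hq' hqm hqn => by
    obtain ⟨χ, hχ1, hχq⟩ := hq q hq'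
    rcases h χ with e | e | e
    · exact hχ1 e
    · exact hχq (e ▸ hqm)
    · exact hχq (e ▸ hqn)
  -- minimal normal subgroup
  obtain ⟨N, ⟨hNn, hNne⟩, hNmin⟩ := Set.Finite.exists_minimal
    (s := {K : Subgroup G | K.Normal ∧ K ≠ ⊥}) (Set.toFinite _) ⟨⊤, inferInstance, top_ne_bot⟩
  have hmin : ∀ K : Subgroup G, K.Normal → K ≤ N → K = ⊥ ∨ K = N := fun K hK hle =>
    (em (K = ⊥)).imp_right fun hne => le_antisymm hle (hNmin ⟨hK, hne⟩ hle)
  have := hNn
  have hlt : ∀ K : Subgroup G, K ≠ ⊥ → K.index < Nat.card G := fun K hK => by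
    have h1 := K.card_mul_index
    have := Subgroup.one_lt_card_iff_ne_bot K |>.2 hK
    have := Nat.pos_of_ne_zero (Subgroup.index_ne_zero_of_finite (H := K))
    nlinarith
  haveI hQ : Group.IsSolvable (G ⧸ N) :=
    ih _ (by rw [← Subgroup.index_eq_card]; exact hlt N hNne) (G ⧸ N) rfl m n (h.quotient N)
  by_cases hNs : Group.IsSolvable N
  · exact Group.isSolvable_of_ker_le_range N.subtype (QuotientGroup.mk' N)
      (by rw [QuotientGroup.ker_mk', Subgroup.range_subtype])
  by_cases hC : Subgroup.centralizer (N : Set G) = ⊥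
  swap
  · set C := Subgroup.centralizer (N : Set G)
    haveI hCn : C.Normal := Subgroup.normal_centralizer
    haveI hQ' : Group.IsSolvable (G ⧸ C) :=
      ih _ (by rw [← Subgroup.index_eq_card]; exact hlt C hC) (G ⧸ C) rfl m n (h.quotient C)
    rcases hmin (C ⊓ N) inferInstance inf_le_right with hi | hi
    · refine Group.isSolvable_of_isSolvable_injective
        (f := (QuotientGroup.mk' C).prod (QuotientGroup.mk' N)) ?_
      rw [← MonoidHom.ker_eq_bot_iff, MonoidHom.ker_prod, QuotientGroup.ker_mk', QuotientGroup.ker_mk']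
      exact hi
    · refine absurd (Group.isSolvable_of_comm fun a b => Subtype.ext ?_) hNs
      exact (Subgroup.mem_centralizer_iff.1 (inf_le_left.trans' hi.ge b.2) a a.2)
  have hperf : ⁅N, N⁆ = N := (hmin _ inferInstance (Subgroup.commutator_le_self N)).resolve_left
    fun hb => hNs (Group.isSolvable_of_comm fun a b => Subtype.ext (by
      have h1 := Subgroup.commutator_mem_commutator a.2 b.2
      rw [hb, Subgroup.mem_bot, commutatorElement_eq_one_iff_mul_comm] at h1
      exact h1))
  exfalso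
  -- all characters over `N` have the same degree
  have hone : ∀ χ : IrrCharacter G, ¬ (∀ x ∈ N, (χ : G → ℂ) x = (χ : G → ℂ) 1) →
      charDegree (χ : G → ℂ) ≠ 1 := by
    intro χ hχ e
    have h1 : (χ : G → ℂ) 1 = 1 := by rw [Block.ItoMichler.one_eq_cast, e, Nat.cast_one]
    obtain ⟨f, hf⟩ := exists_hom_of_linear (isCharacter_irr χ) h1
    refine hχ fun x hx => ?_
    have hx' : f x = 1 := MonoidHom.mem_ker.1 ((Abelianization.commutator_subset_ker f)
      ((Subgroup.commutator_mono le_top le_top : ⁅N, N⁆ ≤ commutator G) (hperf.symm ▸ hx)))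
    rw [hf]
    simp [hx']
  have hsame : ∀ χ ψ : IrrCharacter G, ¬ (∀ x ∈ N, (χ : G → ℂ) x = (χ : G → ℂ) 1) →
      ¬ (∀ x ∈ N, (ψ : G → ℂ) x = (ψ : G → ℂ) 1) →
      charDegree (χ : G → ℂ) = charDegree (ψ : G → ℂ) := by
    intro χ ψ hχ hψ
    by_contra hne
    rcases (h χ).resolve_left (hone χ hχ) with e1 | e1 <;>
      rcases (h ψ).resolve_left (hone ψ hψ) with e2 | e2
    · exact hne (e1.trans e2.symm)
    · exact coprime_faithful_false h hcop hm hn χ ψ e1 e2
        (faithful_over N hperf hC hmin χ hχ e1) (faithful_over N hperf hC hmin ψ hψ e2)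
    · exact coprime_faithful_false h hcop hm hn ψ χ e2 e1
        (faithful_over N hperf hC hmin ψ hψ e2) (faithful_over N hperf hC hmin χ hχ e1)
    · exact hne (e1.trans e2.symm)
  have := Fintype.ofFinite N
  obtain ⟨θ, hθ⟩ : ∃ θ : IrrCharacter N, (θ : N → ℂ) 1 ≠ 1 := by
    by_contra hall
    push Not at hall
    exact hNs (Group.isSolvable_of_comm fun a b => comm_of_degree_one hall a b)
  obtain ⟨p, hp, hpθ⟩ := Nat.exists_prime_and_dvd (n := charDegree (θ : N → ℂ)) fun e => hθ (by
    rw [Block.ItoMichler.one_eq_cast, e, Nat.cast_one])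
  have := Fact.mk hp
  obtain ⟨χ, hχ⟩ := Block.ItoMichler.exists_irr_over N θ
  have hχN : ¬ ∀ x ∈ N, (χ : G → ℂ) x = (χ : G → ℂ) 1 := by
    intro htriv
    refine hχ ?_
    rw [show (fun x : N => (χ : G → ℂ) x) = (χ : G → ℂ) 1 • fun _ : N => (1 : ℂ) from
      funext fun x => by simp [htriv x x.2], classInner_smul_left]
    refine mul_eq_zero_of_right _ (classInner_irr_ne (χ := ⟨_, isIrrCharacter_one⟩) (ψ := θ) fun e => hθ ?_)
    rw [← e]
  obtain ⟨ψ, hψp, hψN⟩ := exists_pPrime_over N hperf (p := p)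
    (hpθ.trans (degree_dvd_card θ (Block.ItoMichler.one_eq_cast θ)))
  exact hψp (hsame χ ψ hχN hψN ▸ hpθ.trans (Block.ItoMichler.dvd_of_constituent N χ θ hχ).1)

end CfsgLib.Char.ThreeDegrees
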