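import Cfsg.Agent.Lib.Char.Inertia
import Cfsg.Agent.Lib.Char.IndMap
import Cfsg.Agent.Lib.Char.PowTwist
import Cfsg.Agent.Lib.Char.Scalar
import Cfsg.Agent.Lib.Char.Ramified
import Cfsg.Agent.Lib.Char.Linear
import Cfsg.Agent.Lib.Block.Covering
import Cfsg.Agent.Lib.Rep.SelfDualSplit

/-!
# Irreducible products of a character with a Galois conjugate
-/

set_option autoImplicit false
set_option linter.unusedSectionVars false
set_option linter.style.haveILetI false

namespace CfsgLib.Char.GaloisProduct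

open Cfsg CfsgLib CfsgLib.Char Module
open scoped ComplexConjugate

universe u v

variable {G : Type u} [Group G] [Fintype G]

theorem exists_two_le_norm {a b : G → ℂ} (ha : IsCharacter G a) (hb : IsCharacter G b)
    (ha0 : a 1 ≠ 0) (hb0 : b 1 ≠ 0) : ∃ m : ℕ, 2 ≤ m ∧ classInner (a + b) (a + b) = m := by
  have hnz : ∀ {f : G → ℂ}, IsCharacter G f → f 1 ≠ 0 → ∃ m : ℕ, 1 ≤ m ∧ classInner f f = m := by
    intro f hf hf0
    obtain ⟨m, hm⟩ := classInner_isCharacter hf hf
    refine ⟨m, Nat.one_le_iff_ne_zero.2 fun h0 => hf0 ?_, hm⟩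
    rw [h0, Nat.cast_zero, classInner_self, Complex.ofReal_eq_zero, mul_eq_zero] at hm
    have h1 := hm.resolve_left (inv_ne_zero (by exact_mod_cast Nat.card_pos.ne'))
    rw [Finset.sum_eq_zero_iff_of_nonneg fun _ _ => sq_nonneg _] at h1
    exact norm_eq_zero.1 (pow_eq_zero_iff two_ne_zero |>.1 (h1 1 (Finset.mem_univ _)))
  obtain ⟨m, hm, e1⟩ := hnz ha ha0
  obtain ⟨n, hn, e2⟩ := hnz hb hb0
  obtain ⟨c, e3⟩ := classInner_isCharacter ha hb
  obtain ⟨d, e4⟩ := classInner_isCharacter hb ha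
  refine ⟨m + c + (d + n), by omega, ?_⟩
  rw [classInner_add_left, classInner_add_right, classInner_add_right, e1, e2, e3, e4]
  push_cast
  ring

variable (χ : IrrCharacter G) (k : ℕ)

/-- An abelian normal subgroup is central. -/
theorem le_center_of_comm (hfaith : ∀ g : G, (χ : G → ℂ) g = (χ : G → ℂ) 1 → g = 1)
    (hk : Nat.Coprime k (Nat.card G))
    (hirr : IsIrrCharacter G (fun g => (χ : G → ℂ) g * (χ : G → ℂ) (g ^ k))) (A : Subgroup G) [A.Normal]
    (hA : ∀ a ∈ A, ∀ b ∈ A, a * b = b * a) : A ≤ Subgroup.center G := by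
  classical
  have := Fintype.ofFinite A
  obtain ⟨θ, hθ⟩ := Block.exists_constituent (N := A) χ
  have hlin := degree_one_of_comm (G := A) (fun a b => Subtype.ext (hA a a.2 b b.2)) θ
  obtain ⟨lam, hlam⟩ := linearCharEquiv.surjective ⟨θ, hlin⟩
  have hθl : ∀ a : A, (θ : A → ℂ) a = (lam a : ℂ) := fun a =>
    (congrFun (congrArg (fun z => ((z.1 : IrrCharacter A) : A → ℂ)) hlam) a).symm
  set T := inertia A (θ : A → ℂ) with hT
  have := Fintype.ofFinite T
  by_cases htop : T = ⊤
  · -- homogeneous restriction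
    have hsm := clifford_smul A χ.2 θ.2 hθ
    intro a ha
    rw [Subgroup.mem_center_iff]
    intro g
    have hmem : g * a * g⁻¹ * a⁻¹ ∈ A :=
      A.mul_mem (Subgroup.Normal.conj_mem inferInstance a ha g) (A.inv_mem ha)
    have hinv : (θ : A → ℂ) ⟨g * a * g⁻¹, Subgroup.Normal.conj_mem inferInstance a ha g⟩ = (θ : A → ℂ) ⟨a, ha⟩ :=
      congrFun ((mem_inertia A _ g).1 (by rw [← hT, htop]; trivial)) ⟨a, ha⟩
    have hcomm : (θ : A → ℂ) ⟨g * a * g⁻¹ * a⁻¹, hmem⟩ = 1 := by
      rw [hθl] at hinv ⊢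
      rw [hθl] at hinv
      rw [show (⟨g * a * g⁻¹ * a⁻¹, hmem⟩ : A) =
        ⟨g * a * g⁻¹, Subgroup.Normal.conj_mem inferInstance a ha g⟩ * ⟨a, ha⟩⁻¹ from rfl, map_mul, Units.val_mul,
        hinv, map_inv, Units.val_inv_eq_inv_val, mul_inv_cancel₀ (Units.ne_zero _)]
    obtain ⟨e, hres⟩ : ∃ e : ℂ, ∀ b : A, (χ : G → ℂ) b = e * (θ : A → ℂ) b := by
      obtain ⟨e, -, -, he⟩ := restrict_eq_smul_of_invariant A χ.2 θ.2 hθ fun x =>
        (mem_inertia A _ x).1 (by rw [← hT, htop]; trivial)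
      exact ⟨e, fun b => congrFun he b⟩
    have h1 := hres ⟨_, hmem⟩
    have h2 := hres 1
    rw [hcomm] at h1
    rw [OneMemClass.coe_one, hlin] at h2
    have h3 := hfaith _ (h1.trans h2.symm)
    rw [mul_inv_eq_one, mul_inv_eq_iff_eq_mul] at h3
    exact h3
  · exfalso
    obtain ⟨ψ, hψ, hind⟩ := exists_inertia_correspondent A χ.2 θ.2 hθ
    let ψ₀ : IrrCharacter T := ⟨ψ, hψ⟩
    have hres : classInner (fun t : T => (χ : G → ℂ) t) (ψ₀ : T → ℂ) ≠ 0 := by
      intro h0
      have h1 := classInner_irr_self χ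
      nth_rw 1 [hind] at h1
      rw [classInner_indFun T _ _ (isClassFunction_irr χ), ← classInner_conj (fun h : T => (χ : G → ℂ) h)] at h1
      rw [show classInner (fun t : T => (χ : G → ℂ) t) ψ = 0 from h0, map_zero] at h1
      exact zero_ne_one h1
    have hR := isCharacter_sub_constituent (isCharacter_comp (isCharacter_irr χ) T.subtype) ψ₀ hres
    have hkT : Nat.Coprime (Nat.card T) k :=
      (hk.symm).coprime_dvd_left T.card_subgroup_dvd_card
    have hψk := isCharacter_powMap hkT (isCharacter_irr ψ₀)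
    have hRk := isCharacter_powMap hkT hR
    have hsplit : (fun g => (χ : G → ℂ) g * (χ : G → ℂ) (g ^ k)) =
        indFun T (fun t => ψ t * ψ (t ^ k)) +
          indFun T (fun t => ψ t * ((fun t : T => (χ : G → ℂ) t) - ψ) (t ^ k)) := by
      have h1 := indFun_mul T ψ (χ := fun g => (χ : G → ℂ) (g ^ k))
        (isClassFunction_of_isCharacter (isCharacter_powMap hk.symm (isCharacter_irr χ)))
      rw [← hind] at h1
      rw [← indFun_add]
      refine h1.trans (congrArg _ (funext fun t => ?_))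
      simp only [Pi.add_apply, Pi.sub_apply, SubgroupClass.coe_pow]
      ring
    have hψ1 : ψ 1 ≠ 0 := irr_one_ne_zero ψ₀
    have hχ1 : (χ : G → ℂ) 1 = (T.index : ℂ) * ψ 1 := by rw [hind, indFun_one]
    obtain ⟨m, hm, hnorm⟩ := exists_two_le_norm
      (isCharacter_indFun T (isCharacter_mul (isCharacter_of_isIrr hψ) hψk))
      (isCharacter_indFun T (isCharacter_mul (isCharacter_of_isIrr hψ) hRk))
      (by
        rw [indFun_one, Pi.mul_apply]
        simp only [one_pow]
        exact mul_ne_zero (by exact_mod_cast Subgroup.index_ne_zero_of_finite) (mul_ne_zero hψ1 hψ1))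
      (by
        rw [indFun_one, Pi.mul_apply]
        simp only [one_pow, Pi.sub_apply, Subgroup.coe_subtype, OneMemClass.coe_one, hχ1]
        refine mul_ne_zero (by exact_mod_cast Subgroup.index_ne_zero_of_finite) (mul_ne_zero hψ1 ?_)
        show (T.index : ℂ) * ψ 1 - ψ 1 ≠ 0
        rw [← sub_one_mul]
        refine mul_ne_zero (sub_ne_zero.2 ?_) hψ1
        exact_mod_cast fun h => htop (Subgroup.index_eq_one.1 h))
    have h1 := classInner_irr_self (⟨_, hirr⟩ : IrrCharacter G)
    rw [show ((⟨_, hirr⟩ : IrrCharacter G) : G → ℂ) = _ from hsplit] at h1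
    have h2 : classInner (indFun T (fun t => ψ t * ψ (t ^ k)) +
          indFun T (fun t => ψ t * ((fun t : T => (χ : G → ℂ) t) - ψ) (t ^ k)))
        (indFun T (fun t => ψ t * ψ (t ^ k)) +
          indFun T (fun t => ψ t * ((fun t : T => (χ : G → ℂ) t) - ψ) (t ^ k))) = (m : ℂ) := hnorm
    rw [h1] at h2
    have : m = 1 := by exact_mod_cast h2.symm
    omega

/-- Conjugation of a central commutator by powers. -/
theorem pow_conj_of_central {g x z : G} (hz : z ∈ Subgroup.center G) (h : g * x * g⁻¹ = x * z) (j : ℕ) :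
    g ^ j * x * (g ^ j)⁻¹ = x * z ^ j := by
  induction j with
  | zero => simp
  | succ j ih =>
    rw [pow_succ', mul_inv_rev, show g * g ^ j * x * ((g ^ j)⁻¹ * g⁻¹) = g * (g ^ j * x * (g ^ j)⁻¹) * g⁻¹ by group,
      ih, ← mul_assoc g x]
    rw [mul_assoc (g * x) (z ^ j), ← Subgroup.mem_center_iff.1 ((Subgroup.center G).pow_mem hz j) g⁻¹,
      ← mul_assoc (g * x), h, mul_assoc, pow_succ']

/-- An invariant subspace splits off its trace function. -/
theorem exists_split {V : Type v} [AddCommGroup V] [Module ℂ V] [FiniteDimensional ℂ V]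
    (c : Representation ℂ G V) (W : Submodule ℂ V) (hW : CfsgLib.Rep.SelfDualSplit.Inv c W)
    (v : V) (hv : v ∈ W) (hv0 : v ≠ 0) (hfix : ∀ g, c g v = v) :
    IsCharacter G (fun g => LinearMap.trace ℂ W ((c g).restrict (hW g))) ∧
      (∃ m : ℕ, 1 ≤ m ∧ classInner (fun g => LinearMap.trace ℂ W ((c g).restrict (hW g))) (1 : G → ℂ) = m) ∧
      ∃ R : G → ℂ, IsCharacter G R ∧ ∀ g, c.character g = LinearMap.trace ℂ W ((c g).restrict (hW g)) + R g := by
  classical
  obtain ⟨D, hD, -, hd, hs⟩ := CfsgLib.Rep.SelfDualSplit.exists_invariant_compl c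
    (by exact_mod_cast Nat.card_pos.ne') (le_top : W ≤ ⊤) hW (fun _ _ _ => trivial)
  let σW : Representation ℂ G W :=
    { toFun := fun g => (c g).restrict (hW g)
      map_one' := by ext X; simp
      map_mul' := fun g h => by ext X; simp }
  let σD : Representation ℂ G D :=
    { toFun := fun g => (c g).restrict (hD g)
      map_one' := by ext X; simp
      map_mul' := fun g h => by ext X; simp }
  have hcompl : IsCompl W D := ⟨disjoint_iff.2 hd, codisjoint_iff.2 hs⟩
  refine ⟨isCharacter_character σW, ?_, _, isCharacter_character σD, fun g => ?_⟩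
  · haveI : Invertible (Nat.card G : ℂ) := invertibleOfNonzero (by exact_mod_cast Nat.card_pos.ne')
    refine ⟨finrank ℂ (Representation.invariants σW), Submodule.one_le_finrank_iff.2 fun h0 => hv0 ?_, ?_⟩
    · have hid : (⟨v, hv⟩ : W) ∈ Representation.invariants σW := fun g => Subtype.ext (hfix g)
      rw [h0, Submodule.mem_bot] at hid
      exact congrArg Subtype.val hid
    · rw [← Representation.card_inv_mul_sum_char_eq_finrank σW]
      simp only [classInner, Pi.one_apply, map_one, mul_one]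
      rfl
  · let e := Submodule.prodEquivOfIsCompl W D hcompl
    have h2 : c g = e.conj ((σW g).prodMap (σD g)) := by
      refine LinearMap.ext fun X => ?_
      obtain ⟨y, rfl⟩ := e.surjective X
      rw [LinearEquiv.conj_apply_apply, LinearEquiv.symm_apply_apply]
      simp only [e, Submodule.coe_prodEquivOfIsCompl', map_add, LinearMap.prodMap_apply]
      rfl
    show LinearMap.trace ℂ V (c g) = LinearMap.trace ℂ W (σW g) + LinearMap.trace ℂ D (σD g)
    rw [h2, LinearMap.trace_conj', LinearMap.trace_prodMap']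

/-- A class two normal subgroup with central centre lies in the centre. -/
theorem le_center_of_class_two (hfaith : ∀ g : G, (χ : G → ℂ) g = (χ : G → ℂ) 1 → g = 1)
    (hk : Nat.Coprime k (Nat.card G))
    (hirr : IsIrrCharacter G (fun g => (χ : G → ℂ) g * (χ : G → ℂ) (g ^ k))) (N : Subgroup G) [hN : N.Normal]
    (hcl : ∀ x ∈ N, ∀ y ∈ N, x * y * x⁻¹ * y⁻¹ ∈ Subgroup.center G)
    (hZN : ∀ x ∈ N, (∀ y ∈ N, x * y = y * x) → x ∈ Subgroup.center G) : N ≤ Subgroup.center G := by
  classical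
  by_contra hne
  obtain ⟨n, ρ, hρ, hρχ⟩ := χ.2
  haveI := hρ
  have hn : 0 < finrank ℂ (Fin n → ℂ) := finrank_pos_of_irreducible ρ
  obtain ⟨lam, hlam⟩ := exists_central_hom ρ
  have hn0 : (finrank ℂ (Fin n → ℂ) : ℂ) ≠ 0 := by exact_mod_cast hn.ne'
  have hlam1 : ∀ z : Subgroup.center G, (lam z : ℂ) = 1 → z = 1 := by
    intro z hz
    refine Subtype.ext (hfaith _ ?_)
    rw [← hρχ]
    show LinearMap.trace ℂ _ (ρ (z : G)) = LinearMap.trace ℂ _ (ρ 1)
    rw [hlam z, hz, one_smul, map_one]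
    rfl
  -- vanishing
  have hvan : ∀ x ∈ N, x ∉ Subgroup.center G → ρ.character x = 0 := by
    intro x hx hxZ
    obtain ⟨y, hy, hxy⟩ : ∃ y ∈ N, x * y ≠ y * x := by
      by_contra hall
      push Not at hall
      exact hxZ (hZN x hx hall)
    have hz := hcl y hy x hx
    have e : ρ (y * x * y⁻¹) = (lam ⟨_, hz⟩ : ℂ) • ρ x := by
      conv_lhs => rw [show y * x * y⁻¹ = y * x * y⁻¹ * x⁻¹ * x by group, map_mul, hlam ⟨_, hz⟩]
      rfl
    have h1 := Representation.char_conj ρ x y
    rw [Representation.character, e, map_smul, smul_eq_mul] at h1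
    by_contra h0
    have h2 : (lam ⟨_, hz⟩ : ℂ) = 1 := (mul_eq_right₀ h0).1 h1
    have h3 := congrArg Subtype.val (hlam1 _ h2)
    rw [OneMemClass.coe_one, mul_inv_eq_one, mul_inv_eq_iff_eq_mul] at h3
    exact hxy h3.symm
  -- the span
  set C := (Subgroup.center G).subgroupOf N with hC
  haveI : C.Normal := Subgroup.Normal.subgroupOf inferInstance N
  set v : N ⧸ C → Module.End ℂ (Fin n → ℂ) := fun q => ρ ((q.out : N) : G) with hv
  have hcoset : ∀ x : N, ∃ c : Subgroup.center G, ((x : N) : G) = ((QuotientGroup.mk x : N ⧸ C).out : N) * (c : G) := by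
    intro x
    have h1 := QuotientGroup.eq.1 (QuotientGroup.out_eq' (QuotientGroup.mk x : N ⧸ C))
    exact ⟨⟨_, Subgroup.mem_subgroupOf.1 h1⟩, by simp⟩
  have hind : LinearIndependent ℂ v := by
    rw [Fintype.linearIndependent_iff]
    intro a ha r
    have h1 := congrArg (fun X => LinearMap.trace ℂ _ (X * ρ (((r.out : N) : G))⁻¹)) ha
    simp only [Finset.sum_mul, zero_mul, map_zero, map_sum, smul_mul_assoc, map_smul, smul_eq_mul] at h1
    rw [Finset.sum_eq_single r] at h1
    · rw [hv, ← map_mul, mul_inv_cancel, map_one, LinearMap.trace_one, mul_eq_zero] at h1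
      exact h1.resolve_right hn0
    · intro q _ hq
      rw [hv, ← map_mul]
      refine mul_eq_zero_of_right _ (hvan _ (N.mul_mem q.out.2 (N.inv_mem r.out.2)) fun hz => hq ?_)
      rw [← QuotientGroup.out_eq' q, ← QuotientGroup.out_eq' r]
      have hz' : (q.out * r.out⁻¹ : N) ∈ C := Subgroup.mem_subgroupOf.2 hz
      rw [← (QuotientGroup.eq_one_iff (q.out * r.out⁻¹ : N)), QuotientGroup.mk_mul, QuotientGroup.mk_inv,
        mul_inv_eq_one] at hz'
      exact hz'
    · exact fun h => absurd (Finset.mem_univ r) h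
  set W : Submodule ℂ (Module.End ℂ (Fin n → ℂ)) := Submodule.span ℂ (Set.range v) with hWdef
  have hvx : ∀ x : N, ∀ c : Subgroup.center G, ((x : N) : G) = ((QuotientGroup.mk x : N ⧸ C).out : N) * (c : G) →
      ρ ((x : N) : G) = (lam c : ℂ) • v (QuotientGroup.mk x) := by
    intro x c hc
    rw [hc, map_mul, hlam c]
    show ρ _ * ((lam c : ℂ) • (1 : Module.End ℂ (Fin n → ℂ))) = _
    rw [mul_smul_comm, mul_one]
  have hρW : ∀ x ∈ N, ρ x ∈ W := by
    intro x hx
    obtain ⟨c, hc⟩ := hcoset ⟨x, hx⟩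
    rw [show ρ x = _ from hvx ⟨x, hx⟩ c hc]
    exact W.smul_mem _ (Submodule.subset_span ⟨_, rfl⟩)
  let c₀ := Representation.linHom ρ ρ
  have hc₀ : ∀ (g : G) (X : Module.End ℂ (Fin n → ℂ)), c₀ g X = ρ g * X * ρ g⁻¹ := fun g X => by
    ext w
    rfl
  have hWinv : CfsgLib.Rep.SelfDualSplit.Inv c₀ W := by
    intro g X hX
    induction hX using Submodule.span_induction with
    | mem X hX =>
      obtain ⟨q, rfl⟩ := hX
      rw [hc₀, hv, ← map_mul, ← map_mul]
      exact hρW _ (hN.conj_mem _ q.out.2 g)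
    | zero => simp
    | add X Y _ _ h1 h2 => rw [map_add]; exact W.add_mem h1 h2
    | smul a X _ h1 => rw [map_smul]; exact W.smul_mem a h1
  haveI := nontrivial_of_irreducible ρ
  obtain ⟨hWc, hWone, fD, hDc, hsplit⟩ := exists_split c₀ W hWinv 1 (by simpa using hρW 1 N.one_mem) one_ne_zero
    fun g => by rw [hc₀, mul_one, ← map_mul, mul_inv_cancel, map_one]
  set fW : G → ℂ := fun g => LinearMap.trace ℂ W ((c₀ g).restrict (hWinv g)) with hfW
  have hΦ : ∀ g, (χ : G → ℂ) g * conj ((χ : G → ℂ) g) = fW g + fD g := by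
    intro g
    show _ = LinearMap.trace ℂ W ((c₀ g).restrict (hWinv g)) + fD g
    rw [← hsplit g, Representation.char_linHom, ← hρχ, char_inv ρ]
    ring
  -- the trace on the span
  let b : Basis (N ⧸ C) ℂ W := Basis.span hind
  let F : G → G → ℂ := fun g x =>
    if h : x⁻¹ * (g * x * g⁻¹) ∈ Subgroup.center G then (lam ⟨_, h⟩ : ℂ) else 0
  have hw : ∀ g, fW g = ∑ q : N ⧸ C, F g ((q.out : N) : G) := by
    intro g
    rw [show fW g = LinearMap.trace ℂ W ((c₀ g).restrict (hWinv g)) from rfl, LinearMap.trace_eq_matrix_trace ℂ b, Matrix.trace]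
    refine Finset.sum_congr rfl fun q _ => ?_
    rw [Matrix.diag_apply, LinearMap.toMatrix_apply]
    set x : N := ⟨g * ((q.out : N) : G) * g⁻¹, hN.conj_mem _ q.out.2 g⟩ with hx
    obtain ⟨c, hc⟩ := hcoset x
    have himg : (c₀ g).restrict (hWinv g) (b q) = (lam c : ℂ) • b (QuotientGroup.mk x) := by
      refine Subtype.ext ?_
      rw [Submodule.coe_smul]
      show c₀ g (b q : Module.End ℂ (Fin n → ℂ)) = _
      rw [Basis.span_apply, Basis.span_apply]
      show c₀ g (v q) = (lam c : ℂ) • v (QuotientGroup.mk x)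
      rw [hc₀, ← hvx x c hc, hv, ← map_mul, ← map_mul]
    rw [himg, map_smul, Basis.repr_self, Finsupp.smul_apply, Finsupp.single_apply, smul_eq_mul]
    simp only [F]
    by_cases hq : (QuotientGroup.mk x : N ⧸ C) = q
    · rw [if_pos hq, mul_one]
      have h : ((q.out : N) : G)⁻¹ * (g * ((q.out : N) : G) * g⁻¹) = (c : G) := by
        rw [show g * ((q.out : N) : G) * g⁻¹ = ((x : N) : G) from rfl, hc, hq, inv_mul_cancel_left]
      rw [dif_pos (show ((q.out : N) : G)⁻¹ * (g * ((q.out : N) : G) * g⁻¹) ∈ Subgroup.center G from h ▸ c.2)]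
      exact congrArg (fun z => (lam z : ℂ)) (Subtype.ext h.symm)
    · rw [if_neg hq, mul_zero, dif_neg fun h => hq ?_]
      rw [← QuotientGroup.out_eq' q, eq_comm, QuotientGroup.eq]
      exact Subgroup.mem_subgroupOf.2 h
  have hFc : ∀ g x, ∀ c ∈ Subgroup.center G, F g (x * c) = F g x := by
    intro g x c hc
    have e : (x * c)⁻¹ * (g * (x * c) * g⁻¹) = x⁻¹ * (g * x * g⁻¹) := by
      have hcc := Subgroup.mem_center_iff.1 hc
      rw [show g * (x * c) * g⁻¹ = g * x * g⁻¹ * c by
        rw [← mul_assoc, mul_assoc (g * x) c, ← hcc g⁻¹, ← mul_assoc], mul_inv_rev, mul_assoc c⁻¹,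
        ← mul_assoc x⁻¹, hcc (x⁻¹ * (g * x * g⁻¹)), inv_mul_cancel_left]
    simp only [F, e]
  have hkq : Nat.Coprime (Nat.card (N ⧸ C)) k :=
    hk.symm.coprime_dvd_left ((Subgroup.card_quotient_dvd_card C).trans N.card_subgroup_dvd_card)
  have hFpow : ∀ g, ∀ x ∈ N, F (g ^ k) x = F g (x ^ k) := by
    intro g x hx
    by_cases h : x⁻¹ * (g * x * g⁻¹) ∈ Subgroup.center G
    · set z := x⁻¹ * (g * x * g⁻¹) with hz
      have hgx : g * x * g⁻¹ = x * z := by rw [hz, mul_inv_cancel_left]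
      have hzk := (Subgroup.center G).pow_mem h k
      have e1 : x⁻¹ * (g ^ k * x * (g ^ k)⁻¹) = z ^ k := by
        rw [pow_conj_of_central h hgx k, inv_mul_cancel_left]
      have e2 : (x ^ k)⁻¹ * (g * x ^ k * g⁻¹) = z ^ k := by
        have h1 : g * x ^ k * g⁻¹ = (x * z) ^ k := by rw [← hgx, conj_pow]
        rw [h1, (show Commute x z from Subgroup.mem_center_iff.1 h x).mul_pow, inv_mul_cancel_left]
      simp only [F, e1, e2]
    · have n1 : x⁻¹ * (g ^ k * x * (g ^ k)⁻¹) ∉ Subgroup.center G := by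
        intro h1
        obtain ⟨m, hm⟩ : ∃ m : ℕ, (g ^ k) ^ m = g := exists_pow_eq_self_of_coprime
          (hk.coprime_dvd_right (orderOf_dvd_natCard g))
        have h2 := pow_conj_of_central (g := g ^ k) (x := x) h1 (by rw [mul_inv_cancel_left]) m
        rw [hm] at h2
        refine h ?_
        rw [h2, inv_mul_cancel_left]
        exact (Subgroup.center G).pow_mem h1 m
      have n2 : (x ^ k)⁻¹ * (g * x ^ k * g⁻¹) ∉ Subgroup.center G := by
        intro h1
        let x' : N := ⟨x, hx⟩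
        let y' : N := ⟨g * x * g⁻¹, hN.conj_mem x hx g⟩
        have h2 : ((x' : N ⧸ C)) ^ k = (y' : N ⧸ C) ^ k := by
          rw [← QuotientGroup.mk_pow, ← QuotientGroup.mk_pow, QuotientGroup.eq, hC, Subgroup.mem_subgroupOf]
          show (x ^ k)⁻¹ * (g * x * g⁻¹) ^ k ∈ _
          rwa [conj_pow]
        have h3 := (powCoprime hkq).injective (a₁ := (x' : N ⧸ C)) (a₂ := (y' : N ⧸ C)) h2
        rw [QuotientGroup.eq, hC, Subgroup.mem_subgroupOf] at h3
        exact h h3
      simp only [F, dif_neg n1, dif_neg n2]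
  have hwk : ∀ g, fW (g ^ k) = fW g := by
    intro g
    rw [hw, hw, Finset.sum_congr rfl fun q _ => hFpow g _ q.out.2]
    refine Fintype.sum_bijective _ (powCoprime hkq).bijective _ _ fun q => ?_
    obtain ⟨c, hc⟩ := hcoset (q.out ^ k)
    rw [show (QuotientGroup.mk (q.out ^ k) : N ⧸ C) = q ^ k by rw [QuotientGroup.mk_pow, QuotientGroup.out_eq'],
      SubgroupClass.coe_pow] at hc
    rw [hc, hFc _ _ _ c.2]
    rfl
  obtain ⟨m, hm, hm1⟩ := hWone
  have hW1 : fW 1 ≠ 1 := by
    rw [show fW 1 = (finrank ℂ W : ℂ) from by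
      haveI : Module.Free ℂ W := Module.Free.of_basis b
      show LinearMap.trace ℂ W ((c₀ 1).restrict (hWinv 1)) = _
      exact (congrArg (LinearMap.trace ℂ W) (LinearMap.ext fun X => Subtype.ext (by simp) :
        (c₀ 1).restrict (hWinv 1) = (1 : Module.End ℂ W))).trans (LinearMap.trace_one ℂ W), finrank_span_eq_card hind, ← Nat.card_eq_fintype_card]
    intro h1
    have h2 : Subsingleton (N ⧸ C) := (Nat.card_eq_one_iff_unique.1 (by exact_mod_cast h1)).1
    refine hne fun x hx => ?_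
    have h3 : ((⟨x, hx⟩ : N) : N ⧸ C) = 1 := Subsingleton.elim _ _
    exact Subgroup.mem_subgroupOf.1 ((QuotientGroup.eq_one_iff _).1 h3)
  obtain ⟨w', hw', hww⟩ : ∃ w' : G → ℂ, IsCharacter G w' ∧ fW = (1 : G → ℂ) + w' := by
    refine ⟨fW - 1, ?_, (add_sub_cancel _ _).symm⟩
    obtain ⟨one, hone'⟩ : ∃ one : IrrCharacter G, (one : G → ℂ) = 1 :=
      ⟨⟨_, isIrrCharacter_lin (1 : G →* ℂˣ)⟩, funext fun g => by simp⟩
    rw [← hone']
    exact isCharacter_sub_constituent (hWc) one (by
      rw [hone', hm1]; exact_mod_cast (by omega : m ≠ 0))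
  obtain ⟨p, hp, hpn⟩ := exists_two_le_norm (a := (1 : G → ℂ)) (b := w')
    (by
      have : (fun g => ((1 : G →* ℂˣ) g : ℂ)) = (1 : G → ℂ) := funext fun g => by simp
      exact this ▸ isCharacter_of_isIrr (isIrrCharacter_lin _))
    hw' one_ne_zero (fun h0 => hW1 (by rw [hww, Pi.add_apply, h0, add_zero]; rfl))
  rw [← hww] at hpn
  have hDk := isCharacter_powMap hk.symm (hDc)
  obtain ⟨a, ha⟩ := classInner_isCharacter (hWc) hDk
  obtain ⟨b', hb⟩ := classInner_isCharacter (hDc) (hWc)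
  obtain ⟨d, hd'⟩ := classInner_isCharacter (hDc) hDk
  have hinner : classInner (fun g => fW g + fD g)
      (fun g => fW (g ^ k) + fD (g ^ k)) = ((p + a + (b' + d) : ℕ) : ℂ) := by
    rw [show (fun g => fW (g ^ k) + fD (g ^ k)) =
      fW + fun g => fD (g ^ k) from funext fun g => by rw [hwk]; rfl]
    show classInner (fW + fD) _ = _
    rw [classInner_add_left, classInner_add_right, classInner_add_right, hpn, ha, hb, hd']
    push_cast
    ring
  have hone2 := classInner_irr_self (⟨_, hirr⟩ : IrrCharacter G)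
  have heq : classInner (fun g => fW g + fD g)
      (fun g => fW (g ^ k) + fD (g ^ k)) =
      classInner (fun g => (χ : G → ℂ) g * (χ : G → ℂ) (g ^ k)) (fun g => (χ : G → ℂ) g * (χ : G → ℂ) (g ^ k)) := by
    simp only [classInner]
    congr 1
    refine Finset.sum_congr rfl fun g _ => ?_
    rw [← hΦ, ← hΦ, map_mul, map_mul, Complex.conj_conj]
    ring
  rw [hinner] at heq
  have : p + a + (b' + d) = 1 := by exact_mod_cast heq.trans hone2
  omega

end CfsgLib.Char.GaloisProduct
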