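import Mathlib

/-!
# A field with sixteen elements with fast arithmetic

Elements are numbers below 16, read as polynomials over the field with two elements modulo
`X^4 + X + 1`; multiplication and inversion are packed tables.
-/

set_option autoImplicit false

namespace CfsgLib.Char

/-- The field with sixteen elements. -/
@[ext] structure K16 where
  v : Fin 16
deriving DecidableEq

namespace K16

instance : Fintype K16 := Fintype.ofEquiv (Fin 16) ⟨K16.mk, K16.v, fun _ => rfl, fun _ => rfl⟩

/-- The element with the given code (reduced modulo 16). -/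
def ofNat (n : ℕ) : K16 := ⟨⟨n % 16, Nat.mod_lt _ (Nat.succ_pos 15)⟩⟩

/-- The packed multiplication table. -/
def mulTable : ℕ := 0xa5783ce1b4692df05ba48679c23d1fe07ae36bf258c149d0843fd16a2e957bc0386d92c74f1ae5b0c6b1285f394ed7a0e7f6c5d4a3b28190192a7f4cd5e6b380bc5243ad618f9e70428ef93517dbac6063c914be8d27fa509d15ae26fb73c8402147ed8b9afc5630df9b5713eca86420fedcba98765432100000000000000000

/-- The packed table of inverses. -/
def invTable : ℕ := 0x834a5c2f67bde910

instance : Zero K16 := ⟨ofNat 0⟩
instance : One K16 := ⟨ofNat 1⟩
instance : Add K16 := ⟨fun a b => ofNat (a.v.val ^^^ b.v.val)⟩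
instance : Neg K16 := ⟨fun a => a⟩
instance : Mul K16 := ⟨fun a b => ofNat (mulTable >>> (4 * (16 * a.v.val + b.v.val)))⟩
instance : Inv K16 := ⟨fun a => ofNat (invTable >>> (4 * a.v.val))⟩

theorem add_assoc_all : ∀ a b c : K16, a + b + c = a + (b + c) := by decide +kernel
theorem mul_assoc_all : ∀ a b c : K16, a * b * c = a * (b * c) := by decide +kernel
theorem mul_add_all : ∀ a b c : K16, a * (b + c) = a * b + a * c := by decide +kernel
theorem add_comm_all : ∀ a b : K16, a + b = b + a := by decide +kernel
theorem mul_comm_all : ∀ a b : K16, a * b = b * a := by decide +kernel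
theorem zero_add_all : ∀ a : K16, 0 + a = a := by decide +kernel
theorem one_mul_all : ∀ a : K16, 1 * a = a := by decide +kernel
theorem zero_mul_all : ∀ a : K16, 0 * a = 0 := by decide +kernel
theorem neg_add_all : ∀ a : K16, -a + a = 0 := by decide +kernel
theorem mul_inv_all : ∀ a : K16, a ≠ 0 → a * a⁻¹ = 1 := by decide +kernel

instance commRing : CommRing K16 where
  add_assoc := add_assoc_all
  zero_add := zero_add_all
  add_zero a := by rw [add_comm_all, zero_add_all]
  add_comm := add_comm_all
  neg_add_cancel := neg_add_all
  nsmul := nsmulRec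
  zsmul := zsmulRec
  mul_assoc := mul_assoc_all
  one_mul := one_mul_all
  mul_one a := by rw [mul_comm_all, one_mul_all]
  left_distrib := mul_add_all
  right_distrib a b c := by
    rw [mul_comm_all (a + b), mul_add_all, mul_comm_all c a, mul_comm_all c b]
  zero_mul := zero_mul_all
  mul_zero a := by rw [mul_comm_all, zero_mul_all]
  mul_comm := mul_comm_all
  npow := npowRec

instance : Field K16 where
  __ := K16.commRing
  exists_pair_ne := ⟨0, 1, by decide⟩
  mul_inv_cancel := mul_inv_all
  inv_zero := by decide +kernel
  nnqsmul := _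
  qsmul := _

theorem card_eq : Fintype.card K16 = 16 := by decide +kernel

theorem pow_four_add : ∀ a b : K16, (a + b) ^ 4 = a ^ 4 + b ^ 4 := by decide +kernel

theorem pow_four_pow_four : ∀ a : K16, (a ^ 4) ^ 4 = a := by decide +kernel

end K16

end CfsgLib.Char
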