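import Cfsg.Agent.Lib.Char.TwoDegrees
import Cfsg.Agent.Lib.Invol.PrincipalBlock
import Cfsg.Agent.Lib.Char.PowTwist
import Cfsg.Agent.Lib.Block.CentralDefect
import Mathlib.Data.Nat.Totient

/-!
# `p`-groups whose characters of equal degree are Galois conjugate

These are exactly the groups with cyclic centre and derived subgroup of order `p`.
-/

set_option autoImplicit false
set_option linter.unusedSectionVars false
set_option linter.style.haveILetI false

namespace CfsgLib.Char.GaloisTransitive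

open Cfsg CfsgLib CfsgLib.Block
open scoped ComplexConjugate commutatorElement

universe u

variable {G : Type u} [Group G] [Finite G]

/-- Nonlinear characters of equal degree are Galois conjugate. -/
def Transitive (G : Type u) [Group G] : Prop :=
  ∀ χ ψ : IrrCharacter G, charDegree (χ : G → ℂ) ≠ 1 → charDegree (χ : G → ℂ) = charDegree (ψ : G → ℂ) →
    ∃ k : ℕ, Nat.Coprime k (Nat.card G) ∧ ∀ g : G, (ψ : G → ℂ) g = (χ : G → ℂ) (g ^ k)

theorem exists_central_hom (χ : IrrCharacter G) :
    ∃ lam : Subgroup.center G →* ℂˣ, ∀ (z : Subgroup.center G) (g : G),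
      (χ : G → ℂ) ((z : G) * g) = (lam z : ℂ) * (χ : G → ℂ) g := by
  obtain ⟨χ, n, ρ, hρ, rfl⟩ := χ
  show ∃ lam : Subgroup.center G →* ℂˣ, ∀ (z : Subgroup.center G) (g : G),
      ρ.character ((z : G) * g) = (lam z : ℂ) * ρ.character g
  choose c hc using fun z : Subgroup.center G => exists_scalar_of_mem_center ρ z.2
  have hmul : ∀ (z : Subgroup.center G) (g : G), ρ.character ((z : G) * g) = c z * ρ.character g := by
    intro z g
    rw [Representation.character, map_mul, hc, Representation.character, Module.End.mul_eq_comp,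
      LinearMap.smul_comp, LinearMap.id_comp, map_smul, smul_eq_mul]
  have h1 : ρ.character 1 ≠ 0 := irr_one_ne_zero (⟨ρ.character, n, ρ, hρ, rfl⟩ : IrrCharacter G)
  have hone : c 1 = 1 := by
    have := hmul 1 1
    rw [OneMemClass.coe_one, one_mul] at this
    exact (mul_eq_right₀ h1).1 this.symm
  have hm : ∀ a b, c (a * b) = c a * c b := by
    intro a b
    have := hmul (a * b) 1
    rw [Subgroup.coe_mul, mul_assoc, hmul, hmul, ← mul_assoc] at this
    exact (mul_right_cancel₀ h1 this).symm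
  exact ⟨(⟨⟨c, hone⟩, hm⟩ : Subgroup.center G →* ℂ).toHomUnits, fun z g => hmul z g⟩

theorem mem_commutator_of_forall {g : G} (h : ∀ lam : G →* ℂˣ, lam g = 1) : g ∈ commutator G := by
  have h1 : Abelianization.of g = 1 := by
    by_contra hne
    obtain ⟨f, hf⟩ := CommGroup.exists_apply_ne_one_of_hasEnoughRootsOfUnity (Abelianization G) ℂ hne
    exact hf (h (f.comp Abelianization.of))
  exact (QuotientGroup.eq_one_iff g).1 h1

theorem kernel_le_commutator (h : Transitive G) (χ : IrrCharacter G)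
    (hχ : charDegree (χ : G → ℂ) ≠ 1) {g : G} (hg : (χ : G → ℂ) g = (χ : G → ℂ) 1) :
    g ∈ commutator G := by
  refine mem_commutator_of_forall fun lam => ?_
  set ψ : IrrCharacter G := ⟨_, isIrrCharacter_mul_linear χ lam⟩
  have hd : charDegree (χ : G → ℂ) = charDegree (ψ : G → ℂ) := by
    simp [ψ, charDegree]
  obtain ⟨k, -, hk⟩ := h χ ψ hχ hd
  obtain ⟨N, -, hN⟩ := Invol.exists_charKernel χ
  have h2 : (χ : G → ℂ) (g ^ k) = (χ : G → ℂ) 1 := (hN _).1 (N.pow_mem ((hN g).2 hg) k)
  have h3 := hk g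
  simp only [ψ] at h3
  rw [h2, hg] at h3
  exact Units.ext ((mul_eq_right₀ (irr_one_ne_zero χ)).1 h3)

theorem nonlinear_of_moves_commutator (χ : IrrCharacter G) {g : G} (hg : g ∈ commutator G)
    (hne : (χ : G → ℂ) g ≠ (χ : G → ℂ) 1) : charDegree (χ : G → ℂ) ≠ 1 := by
  intro hd
  have h1 : (χ : G → ℂ) 1 = 1 := by rw [Block.ItoMichler.one_eq_cast χ, hd, Nat.cast_one]
  obtain ⟨f, hf⟩ := linearCharEquiv.surjective (⟨χ, h1⟩ : {χ : IrrCharacter G // (χ : G → ℂ) 1 = 1})
  have e : ∀ t, (χ : G → ℂ) t = (f t : ℂ) := fun t =>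
    (congrFun (congrArg (fun z => ((z.1 : IrrCharacter G) : G → ℂ)) hf) t).symm
  exact hne (by rw [e, e, map_one, MonoidHom.mem_ker.1 (Abelianization.commutator_subset_ker f hg)])

theorem le_center_of_card_eq {p : ℕ} [hp : Fact p.Prime] (hG : IsPGroup p G) (N : Subgroup G)
    [hN : N.Normal] (hc : Nat.card N = p) : N ≤ Subgroup.center G := by
  haveI : IsPGroup p (G ⧸ Subgroup.centralizer (N : Set G)) := hG.to_quotient _
  intro n hn
  rw [Subgroup.mem_center_iff]
  intro g
  -- the conjugation action of a `p`-group on `N` with `p` elements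
  let act : MulAction G N :=
    { smul := fun x m => MulAut.conjNormal x m
      one_smul := fun m => by show MulAut.conjNormal (1 : G) m = m; simp
      mul_smul := fun a b m => by
        show MulAut.conjNormal (a * b) m = MulAut.conjNormal a (MulAut.conjNormal b m)
        simp [map_mul] }
  have h1 := hG.exists_fixed_point_of_prime_dvd_card_of_fixed_point N (hc ▸ dvd_rfl) (a := (1 : N))
    (fun x => by show MulAut.conjNormal x (1 : N) = 1; exact map_one _)
  obtain ⟨b, hb, hb1⟩ := h1
  have hord : orderOf b = p := orderOf_eq_prime (hc ▸ pow_card_eq_one') (Ne.symm hb1)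
  have hgen : (⟨n, hn⟩ : N) ∈ Subgroup.zpowers b := by
    rw [Subgroup.eq_top_of_card_eq (Subgroup.zpowers b) (by rw [Nat.card_zpowers, hord, hc])]
    exact Subgroup.mem_top _
  obtain ⟨i, hi⟩ := hgen
  have hbg : (MulAut.conjNormal g : N ≃* N) b = b := hb g
  have h2 : (MulAut.conjNormal g : N ≃* N) ⟨n, hn⟩ = ⟨n, hn⟩ := by
    rw [← show b ^ i = ⟨n, hn⟩ from hi, map_zpow, hbg]
  have h3 := congrArg Subtype.val h2
  rw [MulAut.conjNormal_apply] at h3
  exact mul_inv_eq_iff_eq_mul.1 h3

theorem exists_central_in_normal {p : ℕ} [hp : Fact p.Prime] (hG : IsPGroup p G) (N : Subgroup G)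
    [hN : N.Normal] (hN1 : N ≠ ⊥) :
    ∃ L : Subgroup G, L.Normal ∧ L ≤ N ∧ L ≤ Subgroup.center G ∧ Nat.card L = p := by
  let act : MulAction G N :=
    { smul := fun x m => MulAut.conjNormal x m
      one_smul := fun m => by show MulAut.conjNormal (1 : G) m = m; simp
      mul_smul := fun a b m => by
        show MulAut.conjNormal (a * b) m = MulAut.conjNormal a (MulAut.conjNormal b m)
        simp [map_mul] }
  have hd : p ∣ Nat.card N := by
    obtain ⟨a, ha⟩ := IsPGroup.iff_card.1 (hG.to_subgroup N)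
    rw [ha]
    refine dvd_pow_self p fun h0 => hN1 (Subgroup.card_eq_one.1 ?_)
    rw [ha, h0, pow_zero]
  obtain ⟨b, hb, hb1⟩ := hG.exists_fixed_point_of_prime_dvd_card_of_fixed_point N hd (a := (1 : N))
    (fun x => by show MulAut.conjNormal x (1 : N) = 1; exact map_one _)
  have hcb : (b : G) ∈ Subgroup.center G := Subgroup.mem_center_iff.2 fun g => by
    have h3 := congrArg Subtype.val (show (MulAut.conjNormal g : N ≃* N) b = b from hb g)
    rw [MulAut.conjNormal_apply] at h3
    exact mul_inv_eq_iff_eq_mul.1 h3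
  obtain ⟨k, hk⟩ := IsPGroup.iff_orderOf.1 hG (b : G)
  have hk0 : k ≠ 0 := fun h0 => hb1 (Subtype.ext (orderOf_eq_one_iff.1 (by rw [hk, h0, pow_zero])).symm)
  set c := (b : G) ^ (orderOf (b : G) / p)
  have hc : orderOf c = p := orderOf_pow_orderOf_div (orderOf_pos _).ne' (hk ▸ dvd_pow_self p hk0)
  have hle : Subgroup.zpowers c ≤ Subgroup.center G :=
    Subgroup.zpowers_le.2 (Subgroup.pow_mem _ hcb _)
  refine ⟨Subgroup.zpowers c, ⟨fun n hn g => ?_⟩, Subgroup.zpowers_le.2 (N.pow_mem b.2 _), hle,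
    by rw [Nat.card_zpowers, hc]⟩
  rwa [Subgroup.mem_center_iff.1 (hle hn) g, mul_inv_cancel_right]

/-- With derived subgroup of order `p` and cyclic centre the nonlinear characters live on the
centre. -/
theorem fully_ramified {p : ℕ} [hp : Fact p.Prime] (hG : IsPGroup p G)
    (hc : Nat.card (commutator G) = p) (hZ : IsCyclic (Subgroup.center G)) (χ : IrrCharacter G)
    (hχ : charDegree (χ : G → ℂ) ≠ 1) :
    ∃ lam : Subgroup.center G →* ℂˣ, Function.Injective lam ∧
      (∀ z : Subgroup.center G, (χ : G → ℂ) z = (lam z : ℂ) * (χ : G → ℂ) 1) ∧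
      (∀ g : G, g ∉ Subgroup.center G → (χ : G → ℂ) g = 0) ∧
      charDegree (χ : G → ℂ) ^ 2 = (Subgroup.center G).index := by
  classical
  have := Fintype.ofFinite G
  obtain ⟨lam, hlam⟩ := exists_central_hom χ
  have hcz : commutator G ≤ Subgroup.center G := le_center_of_card_eq hG _ hc
  have hinj : Function.Injective lam := by
    rw [← MonoidHom.ker_eq_bot_iff]
    by_contra hne
    obtain ⟨K, hKn, hK⟩ := Invol.exists_charKernel χ
    -- `G'` is the only subgroup of order `p` of the centre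
    have hd : p ∣ Nat.card lam.ker := by
      obtain ⟨a, ha⟩ := IsPGroup.iff_card.1 ((hG.to_subgroup (Subgroup.center G)).to_subgroup lam.ker)
      rw [ha]
      refine dvd_pow_self p fun h0 => hne (Subgroup.card_eq_one.1 ?_)
      rw [ha, h0, pow_zero]
    obtain ⟨z, hz⟩ := exists_prime_orderOf_dvd_card' p hd
    haveI := hZ
    have heq : Subgroup.zpowers (z : Subgroup.center G) = (commutator G).subgroupOf (Subgroup.center G) := by
      have e1 : Nat.card (Subgroup.zpowers (z : Subgroup.center G)) = p := by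
        rw [Nat.card_zpowers, Subgroup.orderOf_coe, hz]
      have e2 : Nat.card ((commutator G).subgroupOf (Subgroup.center G)) = p := by
        rw [Nat.card_congr (Subgroup.subgroupOfEquivOfLe hcz).toEquiv, hc]
      have key : ∀ H : Subgroup (Subgroup.center G), Nat.card H = p →
          Finset.univ.filter (· ∈ H) = Finset.univ.filter fun a : Subgroup.center G => a ^ p = 1 := by
        intro H hH
        refine Finset.eq_of_subset_of_card_le (fun a ha => Finset.mem_filter.2 ⟨Finset.mem_univ _, ?_⟩)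
          ((IsCyclic.card_pow_eq_one_le hp.out.pos).trans (le_of_eq ?_))
        · have := congrArg Subtype.val (pow_card_eq_one' (x := (⟨a, (Finset.mem_filter.1 ha).2⟩ : H)))
          rw [hH] at this
          exact this
        · rw [← hH, Nat.card_eq_fintype_card, Fintype.card_subtype]
      ext a
      have e := Finset.ext_iff.1 ((key _ e1).trans (key _ e2).symm) a
      simpa using e
    have hcK : commutator G ≤ K := fun g hg => by
      have h1 : (⟨g, hcz hg⟩ : Subgroup.center G) ∈ Subgroup.zpowers (z : Subgroup.center G) :=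
        heq ▸ Subgroup.mem_subgroupOf.2 hg
      have h2 : lam ⟨g, hcz hg⟩ = 1 := MonoidHom.mem_ker.1 (Subgroup.zpowers_le.2 z.2 h1)
      refine (hK g).2 ?_
      have h3 := hlam ⟨g, hcz hg⟩ 1
      rwa [h2, Units.val_one, one_mul, mul_one] at h3
    obtain ⟨θ, hθ⟩ := exists_deflate (N := commutator G) χ fun g hg => (hK g).1 (hcK hg)
    refine hχ ?_
    have h4 : (θ : G ⧸ commutator G → ℂ) 1 = 1 := degree_one_of_comm (fun a b => by
      obtain ⟨x, rfl⟩ := QuotientGroup.mk_surjective a
      obtain ⟨y, rfl⟩ := QuotientGroup.mk_surjective b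
      exact mul_comm (Abelianization.of x) (Abelianization.of y)) θ
    have h5 := hθ 1
    rw [QuotientGroup.mk_one, h4] at h5
    simp [charDegree, ← h5]
  have hval : ∀ z : Subgroup.center G, (χ : G → ℂ) z = (lam z : ℂ) * (χ : G → ℂ) 1 := fun z => by
    rw [← hlam z 1, mul_one]
  have hoff : ∀ g : G, g ∉ Subgroup.center G → (χ : G → ℂ) g = 0 := by
    intro g hg
    rw [Subgroup.mem_center_iff] at hg
    push Not at hg
    obtain ⟨y, hy⟩ := hg
    have hmem : ⁅y, g⁆ ∈ commutator G := by
      rw [commutator_def]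
      exact Subgroup.commutator_mem_commutator (Subgroup.mem_top y) (Subgroup.mem_top g)
    have h1 := hlam ⟨_, hcz hmem⟩ g
    rw [show ⁅y, g⁆ * g = y * g * y⁻¹ by rw [commutatorElement_def]; group,
      isClassFunction_irr χ g y] at h1
    by_contra h0
    have h2 : lam ⟨_, hcz hmem⟩ = 1 := Units.ext ((mul_eq_right₀ h0).1 h1.symm)
    exact hy (commutatorElement_eq_one_iff_mul_comm.1
      (congrArg Subtype.val ((injective_iff_map_eq_one lam).1 hinj _ h2)))
  refine ⟨lam, hinj, hval, hoff, ?_⟩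
  have h1 := classInner_irr_self χ
  rw [classInner, inv_mul_eq_one₀ card_ne_zero',
    ← Finset.sum_filter_add_sum_filter_not Finset.univ (· ∈ Subgroup.center G),
    Finset.sum_eq_zero (s := Finset.univ.filter fun g => ¬ g ∈ Subgroup.center G)
      (fun g hg => by rw [hoff g (Finset.mem_filter.1 hg).2, zero_mul]), add_zero,
    Finset.sum_congr rfl (g := fun _ => ((charDegree (χ : G → ℂ) ^ 2 : ℕ) : ℂ)) fun g hg => ?_,
    Finset.sum_const, nsmul_eq_mul, ← Fintype.card_subtype, ← Nat.card_eq_fintype_card] at h1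
  · have h2 : Nat.card G = Nat.card (Subgroup.center G) * charDegree (χ : G → ℂ) ^ 2 := by
      exact_mod_cast h1
    rw [← (Subgroup.center G).card_mul_index] at h2
    exact (Nat.eq_of_mul_eq_mul_left Nat.card_pos h2).symm
  · have hz := hval ⟨g, (Finset.mem_filter.1 hg).2⟩
    simp only at hz
    have hn : (lam ⟨g, (Finset.mem_filter.1 hg).2⟩ : ℂ) * conj (lam ⟨g, (Finset.mem_filter.1 hg).2⟩ : ℂ) = 1 := by
      rw [Complex.mul_conj', Complex.norm_eq_one_of_pow_eq_one (n := Nat.card (Subgroup.center G)) ?_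
        Nat.card_pos.ne']
      · simp
      · rw [← Units.val_pow_eq_pow_val, ← map_pow, pow_card_eq_one', map_one, Units.val_one]
    rw [hz, Block.ItoMichler.one_eq_cast χ, map_mul, map_natCast, mul_mul_mul_comm, hn, one_mul,
      Nat.cast_pow, pow_two]

theorem transitive_of_fully_ramified {p : ℕ} [hp : Fact p.Prime] (hG : IsPGroup p G)
    (hc : Nat.card (commutator G) = p) (hZ : IsCyclic (Subgroup.center G)) : Transitive G := by
  intro χ ψ hχ hd
  obtain ⟨lam, hlam, hχz, hχ0, -⟩ := fully_ramified hG hc hZ χ hχ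
  obtain ⟨mu, hmu, hψz, hψ0, -⟩ := fully_ramified hG hc hZ ψ (hd ▸ hχ)
  haveI := hZ
  obtain ⟨z0, hz0⟩ := IsCyclic.exists_generator (α := Subgroup.center G)
  have hord : orderOf z0 = Nat.card (Subgroup.center G) := orderOf_eq_card_of_forall_mem_zpowers hz0
  set n := Nat.card (Subgroup.center G) with hn
  have hprim : ∀ f : Subgroup.center G →* ℂˣ, Function.Injective f →
      IsPrimitiveRoot ((f z0 : ℂˣ) : ℂ) n := fun f hf => by
    rw [← hord, ← orderOf_injective f hf z0, ← orderOf_units]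
    exact IsPrimitiveRoot.orderOf _
  haveI : NeZero n := ⟨Nat.card_pos.ne'⟩
  obtain ⟨i, -, hi, hik⟩ := (hprim lam hlam).isPrimitiveRoot_iff.1 (hprim mu hmu)
  have hpn : p ∣ n := hc ▸ (Subgroup.card_dvd_of_le (le_center_of_card_eq hG _ hc))
  have hip : i.Coprime p := hi.coprime_dvd_right hpn
  obtain ⟨a, ha⟩ := IsPGroup.iff_card.1 hG
  have hiG : i.Coprime (Nat.card G) := ha ▸ hip.pow_right a
  refine ⟨i, hiG, fun g => ?_⟩
  by_cases hg : g ∈ Subgroup.center G
  · have h1 := hψz ⟨g, hg⟩
    have h2 := hχz (⟨g, hg⟩ ^ i)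
    simp only [SubmonoidClass.coe_pow] at h1 h2
    obtain ⟨j, hj⟩ := hz0 ⟨g, hg⟩
    have hj' : z0 ^ j = ⟨g, hg⟩ := hj
    have hmuz : mu z0 = lam z0 ^ i := Units.ext (by rw [Units.val_pow_eq_pow_val]; exact hik.symm)
    rw [h1, h2, Block.ItoMichler.one_eq_cast χ, Block.ItoMichler.one_eq_cast ψ, hd, ← hj', map_zpow,
      map_pow, map_zpow, hmuz, ← zpow_natCast (lam z0) i, ← zpow_mul, mul_comm (i : ℤ), zpow_mul,
      zpow_natCast]
  · rw [hψ0 g hg, hχ0 (g ^ i) fun hgi => hg ?_]
    have h1 : g ∈ Subgroup.zpowers (g ^ i) := mem_zpowers_pow_of_coprime hiG g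
    exact Subgroup.zpowers_le.2 hgi h1
where
  mem_zpowers_pow_of_coprime {i : ℕ} (h : i.Coprime (Nat.card G)) (g : G) :
      g ∈ Subgroup.zpowers (g ^ i) := by
    obtain ⟨y, hy⟩ := exists_pow_eq_self_of_coprime (h.coprime_dvd_right (orderOf_dvd_natCard g))
    exact ⟨y, by show (g ^ i) ^ (y : ℤ) = g; rw [zpow_natCast]; exact hy⟩

theorem sum_sq_lt {p : ℕ} (hp : 2 ≤ p) (m : ℕ) :
    p * ∑ j ∈ Finset.range m, (p ^ j) ^ 2 < (p ^ m) ^ 2 := by
  induction m with
  | zero => simp
  | succ m ih =>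
    rw [Finset.sum_range_succ, mul_add, pow_succ p m, mul_pow]
    have h1 : (p ^ m) ^ 2 + p * (p ^ m) ^ 2 ≤ (p ^ m) ^ 2 * p ^ 2 := by
      have : 1 + p ≤ p ^ 2 := by nlinarith
      nlinarith [Nat.zero_le ((p ^ m) ^ 2)]
    omega

/-- The forward direction. -/
theorem shape_of_transitive {p : ℕ} [hp : Fact p.Prime] : ∀ (G : Type u) [Group G] [Finite G],
    IsPGroup p G → (∃ a b : G, a * b ≠ b * a) → Transitive G →
      IsCyclic (Subgroup.center G) ∧ Nat.card (commutator G) = p := by
  intro G _ _ hG hna htr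
  induction hn : Nat.card G using Nat.strong_induction_on generalizing G with
  | _ n ih =>
  subst hn
  classical
  have := Fintype.ofFinite G
  have := Fintype.ofFinite (IrrCharacter G)
  have hc1 : commutator G ≠ ⊥ := by
    intro e
    obtain ⟨a, b, hab⟩ := hna
    refine hab (commutatorElement_eq_one_iff_mul_comm.1 ?_)
    rw [← Subgroup.mem_bot, ← e, commutator_def]
    exact Subgroup.commutator_mem_commutator (Subgroup.mem_top a) (Subgroup.mem_top b)
  obtain ⟨L, hLn, hLc, hLz, hLp⟩ := exists_central_in_normal hG (commutator G) hc1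
  haveI := hLn
  obtain ⟨l, hl, hl1⟩ : ∃ l ∈ L, l ≠ 1 :=
    L.bot_or_exists_ne_one.resolve_left fun e => hp.out.ne_one (by rw [← hLp, e, Subgroup.card_bot])
  obtain ⟨χ₀, hχ₀⟩ : ∃ χ : IrrCharacter G, (χ : G → ℂ) l ≠ (χ : G → ℂ) 1 := by
    by_contra hall
    push Not at hall
    have h1 := sum_irr_mul_conj (G := G) l 1
    rw [if_neg (fun e => hl1 (isConj_one_left.1 e))] at h1
    have h2 := sum_irr_mul_conj (G := G) 1 1
    rw [if_pos (IsConj.refl _)] at h2
    rw [Finset.sum_congr rfl fun χ _ => by rw [hall χ], h2] at h1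
    exact Nat.cast_ne_zero.2 Nat.card_pos.ne' h1
  by_cases hGL : commutator G = L
  · refine ⟨?_, hGL ▸ hLp⟩
    obtain ⟨lam, hlam⟩ := exists_central_hom χ₀
    have hinj : Function.Injective lam := by
      rw [injective_iff_map_eq_one]
      intro z hz
      have h1 : (χ₀ : G → ℂ) z = (χ₀ : G → ℂ) 1 := by rw [← mul_one (z : G), hlam, hz, Units.val_one, one_mul]
      have h2 := kernel_le_commutator htr χ₀ (nonlinear_of_moves_commutator χ₀ (hLc hl) hχ₀) h1
      rw [hGL] at h2
      by_contra hz1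
      refine hχ₀ ?_
      have hz1' : (⟨z, h2⟩ : L) ≠ 1 := fun e => hz1 (Subtype.ext (by simpa using congrArg Subtype.val e))
      haveI : Fact (Nat.card L).Prime := ⟨hLp.symm ▸ hp.out⟩
      obtain ⟨i, hi⟩ := Submonoid.mem_powers_iff _ _ |>.1 (mem_powers_of_prime_card rfl hz1' (g' := (⟨l, hl⟩ : L)))
      obtain ⟨K, -, hK⟩ := Invol.exists_charKernel χ₀
      refine (hK l).1 ?_
      rw [← show (z : G) ^ i = l from congrArg Subtype.val hi]
      exact K.pow_mem ((hK _).2 h1) i
    exact isCyclic_of_subgroup_isDomain ((Units.coeHom ℂ).comp lam) fun a b e =>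
      hinj (Units.ext (by exact e))
  exfalso
  set R := G ⧸ L
  have := Fintype.ofFinite R
  have := Fintype.ofFinite (IrrCharacter R)
  have hRp : IsPGroup p R := hG.to_quotient L
  have hRna : ∃ a b : R, a * b ≠ b * a := by
    by_contra hc
    push Not at hc
    refine hGL (le_antisymm ?_ hLc)
    rw [commutator_def, Subgroup.commutator_le]
    intro a _ b _
    rw [← QuotientGroup.eq_one_iff,
      show ((⁅a, b⁆ : G) : R) = ⁅(a : R), (b : R)⁆ from map_commutatorElement (QuotientGroup.mk' L) a b,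
      commutatorElement_eq_one_iff_mul_comm]
    exact hc _ _
  let infl : IrrCharacter R → IrrCharacter G := fun θ => ⟨fun g => (θ : R → ℂ) g,
    isIrrCharacter_comp_surjective θ.2 (QuotientGroup.mk' L) (QuotientGroup.mk'_surjective L)⟩
  have hlt : Nat.card R < Nat.card G := by
    rw [Subgroup.card_eq_card_quotient_mul_card_subgroup L, hLp]
    exact lt_mul_of_one_lt_right Nat.card_pos hp.out.one_lt
  have hRtr : Transitive R := fun θ η hθ hd => by
    obtain ⟨k, hk, hv⟩ := htr (infl θ) (infl η) hθ hd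
    exact ⟨k, hk.coprime_dvd_right (Subgroup.card_quotient_dvd_card L), fun q => by
      obtain ⟨g, rfl⟩ := QuotientGroup.mk_surjective q
      exact hv g⟩
  obtain ⟨hRZ, hRc⟩ := ih _ hlt R hRp hRna hRtr rfl
  obtain ⟨θ₀, hθ₀⟩ : ∃ θ : IrrCharacter R, charDegree (θ : R → ℂ) ≠ 1 := by
    by_contra hall
    push Not at hall
    obtain ⟨a, b, hab⟩ := hRna
    exact hab (comm_of_degree_one (fun θ => by rw [Block.ItoMichler.one_eq_cast θ, hall θ, Nat.cast_one]) a b)
  obtain ⟨-, -, -, -, hd0⟩ := fully_ramified hRp hRc hRZ θ₀ hθ₀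
  obtain ⟨a₀, ha₀⟩ := IsPGroup.iff_card.1 hG
  obtain ⟨m, -, hm⟩ : ∃ m ≤ a₀, charDegree (θ₀ : R → ℂ) = p ^ m := (Nat.dvd_prime_pow hp.out).1
    (ha₀ ▸ (degree_dvd_card θ₀ (Block.ItoMichler.one_eq_cast θ₀)).trans (Subgroup.card_quotient_dvd_card L))
  set z := Nat.card (Subgroup.center R) with hz
  -- the preimage of the centre
  obtain ⟨w₀, hw₀⟩ := hRZ.exists_generator
  obtain ⟨w, hw⟩ := QuotientGroup.mk_surjective (w₀ : R)
  have hwL : ∀ g : G, ⁅g, w⁆ ∈ L := fun g => by
    rw [← QuotientGroup.eq_one_iff,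
      show ((⁅g, w⁆ : G) : R) = ⁅(g : R), (w : R)⁆ from map_commutatorElement (QuotientGroup.mk' L) g w,
      commutatorElement_eq_one_iff_mul_comm, hw]
    exact Subgroup.mem_center_iff.1 w₀.2 _
  have hwp : w ^ p ∈ Subgroup.center G := Subgroup.mem_center_iff.2 fun g => by
    have hind : ∀ i : ℕ, g * w ^ i * g⁻¹ = ⁅g, w⁆ ^ i * w ^ i := by
      intro i
      induction i with
      | zero => simp
      | succ i ih =>
        have hcc : Commute (w ^ i) ⁅g, w⁆ := Subgroup.mem_center_iff.1 (hLz (hwL g)) _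
        calc g * w ^ (i + 1) * g⁻¹ = (g * w ^ i * g⁻¹) * (⁅g, w⁆ * w) := by
              rw [pow_succ, commutatorElement_def]; group
          _ = ⁅g, w⁆ ^ i * (w ^ i * ⁅g, w⁆) * w := by rw [ih]; group
          _ = ⁅g, w⁆ ^ i * (⁅g, w⁆ * w ^ i) * w := by rw [hcc.eq]
          _ = ⁅g, w⁆ ^ (i + 1) * w ^ (i + 1) := by simp only [pow_succ, mul_assoc]
    have h1 : ⁅g, w⁆ ^ p = 1 := by
      rw [← hLp]
      exact congrArg Subtype.val (pow_card_eq_one' (x := (⟨_, hwL g⟩ : L)))
    have := hind p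
    rw [h1, one_mul] at this
    exact mul_inv_eq_iff_eq_mul.1 this
  have hW : Nat.card ((Subgroup.center R).comap (QuotientGroup.mk' L)) ≤ p * Nat.card (Subgroup.center G) := by
    let W := (Subgroup.center R).comap (QuotientGroup.mk' L)
    let f : Fin p × Subgroup.center G → G := fun e => w ^ (e.1 : ℕ) * (e.2 : G)
    have hsub : (W : Set G) ⊆ Set.range f := by
      intro g hg
      obtain ⟨i, hi⟩ := mem_powers_iff_mem_zpowers.2 (hw₀ ⟨(g : R), hg⟩)
      have hgl : (w ^ i)⁻¹ * g ∈ L := by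
        refine QuotientGroup.eq.1 ?_
        rw [QuotientGroup.mk_pow, hw]
        exact congrArg Subtype.val hi
      refine ⟨(⟨i % p, Nat.mod_lt _ hp.out.pos⟩,
        ⟨(w ^ p) ^ (i / p) * ((w ^ i)⁻¹ * g), Subgroup.mul_mem _ (Subgroup.pow_mem _ hwp _) (hLz hgl)⟩), ?_⟩
      show w ^ (i % p) * ((w ^ p) ^ (i / p) * ((w ^ i)⁻¹ * g)) = g
      rw [← pow_mul, ← mul_assoc, ← pow_add, Nat.mod_add_div, mul_inv_cancel_left]
    calc Nat.card W ≤ Nat.card (Set.range f) := Nat.card_mono (Set.toFinite _) hsub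
      _ ≤ Nat.card (Fin p × Subgroup.center G) := Finite.card_range_le f
      _ = p * Nat.card (Subgroup.center G) := by rw [Nat.card_prod, Nat.card_fin]
  have hcW : Nat.card ((Subgroup.center R).comap (QuotientGroup.mk' L)) = z * p := by
    have h1 := Subgroup.index_comap_of_surjective (Subgroup.center R) (QuotientGroup.mk'_surjective L)
    have h2 := Subgroup.card_mul_index ((Subgroup.center R).comap (QuotientGroup.mk' L))
    rw [h1, Subgroup.card_eq_card_quotient_mul_card_subgroup L, hLp,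
      ← (Subgroup.center R).card_mul_index, ← hz] at h2
    refine Nat.eq_of_mul_eq_mul_right
      (Nat.pos_of_ne_zero (Subgroup.index_ne_zero_of_finite (H := Subgroup.center R))) (h2.trans ?_)
    ring
  have hcard : Nat.card G = p * z * (p ^ m) ^ 2 := by
    rw [Subgroup.card_eq_card_quotient_mul_card_subgroup L, hLp, ← (Subgroup.center R).card_mul_index,
      ← hd0, hm, ← hz]
    ring
  set S := Finset.univ.filter fun χ : IrrCharacter G => (χ : G → ℂ) l ≠ (χ : G → ℂ) 1 with hS
  have hdeg : ∀ χ ∈ S, ∃ j < m, charDegree (χ : G → ℂ) = p ^ j := by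
    intro χ hχ
    have hχl := (Finset.mem_filter.1 hχ).2
    obtain ⟨j, -, hj⟩ := (Nat.dvd_prime_pow hp.out).1
      (ha₀ ▸ degree_dvd_card χ (Block.ItoMichler.one_eq_cast χ))
    refine ⟨j, lt_of_le_of_ne ?_ ?_, hj⟩
    · have hsq : charDegree (χ : G → ℂ) ^ 2 ≤ (Subgroup.center G).index := by
        obtain ⟨χ, n, ρ, hρ, rfl⟩ := χ
        obtain ⟨lam, hlam⟩ := exists_central_hom (⟨ρ.character, n, ρ, hρ, rfl⟩ : IrrCharacter G)
        have hd : ρ.character 1 = (n : ℂ) := by rw [Representation.char_one, Module.finrank_fin_fun]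
        rw [TwoDegrees.charDegree_of_eq hd]
        have hsum : ∑ g : G, Complex.normSq (ρ.character g) = (Nat.card G : ℝ) := by
          have h1 := classInner_irr_self (⟨ρ.character, n, ρ, hρ, rfl⟩ : IrrCharacter G)
          rw [classInner, inv_mul_eq_one₀ card_ne_zero'] at h1
          simp only [Complex.mul_conj, ← Complex.ofReal_sum] at h1
          exact_mod_cast h1.symm
        have hz' : ∀ g ∈ Subgroup.center G, Complex.normSq (ρ.character g) = (n : ℝ) ^ 2 := by
          intro g hg
          rw [Complex.normSq_eq_norm_sq, (norm_char_eq_iff ρ g).2 (exists_scalar_of_mem_center ρ hg),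
            Module.finrank_fin_fun]
        have hle : (Nat.card (Subgroup.center G) : ℝ) * (n : ℝ) ^ 2 ≤ (Nat.card G : ℝ) := by
          rw [← hsum, ← Finset.sum_filter_add_sum_filter_not Finset.univ (· ∈ Subgroup.center G),
            Finset.sum_congr rfl fun g hg => hz' g (Finset.mem_filter.1 hg).2, Finset.sum_const, nsmul_eq_mul,
            ← Fintype.card_subtype, ← Nat.card_eq_fintype_card]
          exact le_add_of_nonneg_right (Finset.sum_nonneg fun g _ => Complex.normSq_nonneg _)
        rw [← (Subgroup.center G).card_mul_index, Nat.cast_mul] at hle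
        exact_mod_cast le_of_mul_le_mul_left hle (by exact_mod_cast Nat.card_pos)
      have hidx : (Subgroup.center G).index ≤ p * (p ^ m) ^ 2 := by
        have h1 := (Subgroup.center G).card_mul_index
        rw [hcard] at h1
        have h2 : z * p ≤ p * Nat.card (Subgroup.center G) := hcW ▸ hW
        have h3 : 0 < Nat.card (Subgroup.center G) := Nat.card_pos
        nlinarith [Nat.zero_le ((p ^ m) ^ 2)]
      have h5 : (p ^ j) ^ 2 ≤ p ^ (2 * m + 1) := by
        rw [← hj]; refine hsq.trans (hidx.trans ?_); rw [pow_succ p (2 * m), ← pow_mul, mul_comm m]; ring_nf; rfl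
      rw [← pow_mul, Nat.pow_le_pow_iff_right hp.out.one_lt] at h5
      omega
    · rintro rfl
      obtain ⟨k, -, hk⟩ := htr (infl θ₀) χ hθ₀ (hm.trans hj.symm)
      refine hχl ?_
      rw [hk, hk, one_pow]
      show (θ₀ : R → ℂ) ((l ^ k : G) : R) = (θ₀ : R → ℂ) ((1 : G) : R)
      rw [(QuotientGroup.eq_one_iff _).2 (L.pow_mem hl k), QuotientGroup.mk_one]
  have hexp : ∀ g : G, g ^ (p * p * z) = 1 := by
    intro g
    have h1 : ((g : R) ^ p) ∈ Subgroup.center R := Subgroup.mem_center_iff.2 fun y => by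
      have hcz : commutator R ≤ Subgroup.center R := le_center_of_card_eq hRp _ hRc
      have hind : ∀ i : ℕ, y * (g : R) ^ i * y⁻¹ = ⁅y, (g : R)⁆ ^ i * (g : R) ^ i := by
        intro i
        induction i with
        | zero => simp
        | succ i ih =>
          have hcc : Commute ((g : R) ^ i) ⁅y, (g : R)⁆ := Subgroup.mem_center_iff.1 (hcz (by
            rw [commutator_def]
            exact Subgroup.commutator_mem_commutator (Subgroup.mem_top y) (Subgroup.mem_top _))) _
          calc y * (g : R) ^ (i + 1) * y⁻¹ = (y * (g : R) ^ i * y⁻¹) * (⁅y, (g : R)⁆ * g) := by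
                rw [pow_succ, commutatorElement_def]; group
            _ = ⁅y, (g : R)⁆ ^ i * ((g : R) ^ i * ⁅y, (g : R)⁆) * g := by rw [ih]; group
            _ = ⁅y, (g : R)⁆ ^ i * (⁅y, (g : R)⁆ * (g : R) ^ i) * g := by rw [hcc.eq]
            _ = ⁅y, (g : R)⁆ ^ (i + 1) * (g : R) ^ (i + 1) := by simp only [pow_succ, mul_assoc]
      have h2 : ⁅y, (g : R)⁆ ^ p = 1 := by
        rw [← hRc]
        refine congrArg Subtype.val (pow_card_eq_one' (x := (⟨⁅y, (g : R)⁆, ?_⟩ : commutator R)))
        rw [commutator_def]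
        exact Subgroup.commutator_mem_commutator (Subgroup.mem_top y) (Subgroup.mem_top _)
      have := hind p
      rw [h2, one_mul] at this
      exact mul_inv_eq_iff_eq_mul.1 this
    have h3 : g ^ (p * z) ∈ L := by
      rw [← QuotientGroup.eq_one_iff, QuotientGroup.mk_pow, pow_mul]
      exact congrArg Subtype.val (pow_card_eq_one' (x := (⟨_, h1⟩ : Subgroup.center R)))
    rw [show p * p * z = p * z * Nat.card L by rw [hLp]; ring, pow_mul]
    exact congrArg Subtype.val (pow_card_eq_one' (x := (⟨_, h3⟩ : L)))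
  obtain ⟨t, ht⟩ := IsPGroup.iff_card.1 (hRp.to_subgroup (Subgroup.center R))
  have horbit : ∀ j, (S.filter fun χ : IrrCharacter G => charDegree (χ : G → ℂ) = p ^ j).card ≤
      (p - 1) * p * z := by
    intro j
    rcases (S.filter fun χ : IrrCharacter G => charDegree (χ : G → ℂ) = p ^ j).eq_empty_or_nonempty
      with he | ⟨χ, hχ⟩
    · simp [he]
    set U := (Finset.range (p ^ (t + 2))).filter fun k => (p ^ (t + 2)).Coprime k with hU
    have hUc : U.card = (p - 1) * p * z := by
      rw [hU, ← Nat.totient_eq_card_coprime, Nat.totient_prime_pow hp.out (by omega)]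
      rw [show t + 2 - 1 = t + 1 by omega, pow_succ, hz, ht]
      ring
    rw [← hUc]
    have hχS := (Finset.mem_filter.1 hχ).1
    have hnl := nonlinear_of_moves_commutator χ (hLc hl) (Finset.mem_filter.1 hχS).2
    have hχd := (Finset.mem_filter.1 hχ).2
    refine le_trans (Finset.card_le_card_of_surjOn (fun k : ℕ => (fun g => (χ : G → ℂ) (g ^ k)))
      (s := U) (t := (S.filter fun χ : IrrCharacter G => charDegree (χ : G → ℂ) = p ^ j).image Subtype.val)
      ?_ |> fun h => le_of_eq_of_le (Finset.card_image_of_injective _ Subtype.val_injective).symm h) le_rfl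
    intro f hf
    obtain ⟨ψ, hψ, rfl⟩ := Finset.mem_image.1 hf
    obtain ⟨k, hk, hv⟩ := htr χ ψ hnl (hχd.trans (Finset.mem_filter.1 hψ).2.symm)
    refine ⟨k % p ^ (t + 2), ?_, funext fun g => ?_⟩
    · rw [Finset.mem_coe, hU, Finset.mem_filter, Finset.mem_range]
      refine ⟨Nat.mod_lt _ (pow_pos hp.out.pos _), ?_⟩
      have hpk : k.Coprime p := hk.coprime_dvd_right (by
        rw [hcard]; exact (dvd_mul_right p z).trans (dvd_mul_right _ _))
      rw [Nat.Coprime, Nat.gcd_comm, ← Nat.gcd_rec, Nat.gcd_comm]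
      exact hpk.pow_right (t + 2)
    · rw [hv]
      have hpp : g ^ (p ^ (t + 2)) = 1 := by
        rw [show p ^ (t + 2) = p * p * z by rw [hz, ht]; ring]; exact hexp g
      have h7 : g ^ k = g ^ (k % p ^ (t + 2)) := by
        conv_lhs => rw [← Nat.mod_add_div k (p ^ (t + 2)), pow_add, pow_mul, hpp, one_pow, mul_one]
      rw [h7]
  have hsumS : (p - 1) * z * (p ^ m) ^ 2 = ∑ χ ∈ S, charDegree (χ : G → ℂ) ^ 2 := by
    have h1 := sum_degree_sq (G := G)
    have h2 := sum_degree_sq (G := R)
    simp only [Block.ItoMichler.one_eq_cast] at h1 h2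
    norm_cast at h1 h2
    rw [← Finset.sum_filter_add_sum_filter_not Finset.univ
      (fun χ : IrrCharacter G => (χ : G → ℂ) l ≠ (χ : G → ℂ) 1)] at h1
    have h3 : ∑ χ ∈ Finset.univ.filter (fun χ : IrrCharacter G => ¬ (χ : G → ℂ) l ≠ (χ : G → ℂ) 1),
        charDegree (χ : G → ℂ) ^ 2 = ∑ θ : IrrCharacter R, charDegree (θ : R → ℂ) ^ 2 := by
      have hinjI : Function.Injective infl := fun a b e => Subtype.ext (funext fun q => by
        obtain ⟨g, rfl⟩ := QuotientGroup.mk_surjective q
        exact congrFun (congrArg Subtype.val e) g)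
      symm
      refine Finset.sum_bij (fun θ _ => infl θ) (fun θ _ => ?_) (fun a _ b _ e => hinjI e) (fun χ hχ => ?_)
        (fun θ _ => rfl)
      · refine Finset.mem_filter.2 ⟨Finset.mem_univ _, not_not.2 ?_⟩
        show (θ : R → ℂ) (l : R) = (θ : R → ℂ) ((1 : G) : R)
        rw [(QuotientGroup.eq_one_iff l).2 hl, QuotientGroup.mk_one]
      · obtain ⟨K, -, hK⟩ := Invol.exists_charKernel χ
        have hLK : L ≤ K := by
          have hz' : Subgroup.zpowers l = L := Subgroup.eq_of_le_of_card_ge (Subgroup.zpowers_le.2 hl) (by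
            rw [hLp, Nat.card_zpowers]
            refine le_of_eq (orderOf_eq_prime (G := G) ?_ hl1).symm
            rw [← hLp]
            exact congrArg Subtype.val (pow_card_eq_one' (x := (⟨l, hl⟩ : L))))
          rw [← hz']
          exact Subgroup.zpowers_le.2 ((hK l).2 (not_not.1 (Finset.mem_filter.1 hχ).2))
        obtain ⟨θ, hθ⟩ := exists_deflate (N := L) χ fun g hg => (hK g).1 (hLK hg)
        exact ⟨θ, Finset.mem_univ _, Subtype.ext (funext hθ)⟩
    rw [h3, h2, hcard] at h1
    have hR : Nat.card R = z * (p ^ m) ^ 2 := by rw [← (Subgroup.center R).card_mul_index, ← hd0, hm]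
    rw [hR] at h1
    have h4 : 1 ≤ p := hp.out.one_lt.le
    have h6 : p * z * (p ^ m) ^ 2 = (p - 1) * z * (p ^ m) ^ 2 + z * (p ^ m) ^ 2 := by
      obtain ⟨q, hq⟩ : ∃ q, p = q + 1 := ⟨p - 1, by omega⟩
      generalize (p ^ m) ^ 2 = X
      subst hq
      rw [Nat.add_sub_cancel]
      ring
    rw [h6] at h1
    exact (Nat.add_right_cancel h1).symm
  have hupper : ∑ χ ∈ S, charDegree (χ : G → ℂ) ^ 2 ≤
      (p - 1) * p * z * ∑ j ∈ Finset.range m, (p ^ j) ^ 2 := by
    have hmaps : ∀ χ ∈ S, charDegree (χ : G → ℂ) ∈ (Finset.range m).image fun j => p ^ j := fun χ hχ => by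
      obtain ⟨j, hj, e⟩ := hdeg χ hχ
      exact Finset.mem_image.2 ⟨j, Finset.mem_range.2 hj, e.symm⟩
    rw [← Finset.sum_fiberwise_of_maps_to hmaps, Finset.sum_image (fun a _ b _ e =>
      Nat.pow_right_injective hp.out.two_le e), Finset.mul_sum]
    refine Finset.sum_le_sum fun j _ => ?_
    rw [Finset.sum_congr rfl (g := fun _ => (p ^ j) ^ 2) fun χ hχ => by rw [(Finset.mem_filter.1 hχ).2],
      Finset.sum_const, smul_eq_mul]
    exact Nat.mul_le_mul_right _ (horbit j)
  have hlt' := sum_sq_lt hp.out.two_le m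
  have hpos : 0 < (p - 1) * z := Nat.mul_pos (Nat.sub_pos_of_lt hp.out.one_lt) Nat.card_pos
  rw [← hsumS] at hupper
  have h8 := Nat.mul_lt_mul_of_pos_left hlt' hpos
  have h9 : (p - 1) * p * z * ∑ j ∈ Finset.range m, (p ^ j) ^ 2 =
      (p - 1) * z * (p * ∑ j ∈ Finset.range m, (p ^ j) ^ 2) := by ring
  omega

end CfsgLib.Char.GaloisTransitive
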