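/-
An irreducible linear `p`-group over a field of `q` elements that is not cyclic, dihedral,
semidihedral or generalized quaternion is imprimitive with `p` blocks (Roquette, Passman).
-/
import Cfsg.Agent.Lib.Invol.CyclicNormalAbelian
import Cfsg.Agent.Lib.Invol.CharTwo
import Cfsg.Agent.Lib.Coprime.UniqueOrderP
import Mathlib.LinearAlgebra.FreeModule.Finite.Basic
import Mathlib.Tactic

set_option autoImplicit false

namespace CfsgLib.Char.PGroupImprimitive

open Subgroup

universe u

variable {G : Type u} [Group G] {p : ℕ} [hp : Fact p.Prime]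

/-- A central element of order `p` and a normal extension of it of exponent `p`. -/
theorem exists_pair [Finite G] (hG : IsPGroup p G) {B : Subgroup G} [B.Normal]
    (hBc : IsMulCommutative B) (hBnc : ¬ IsCyclic B) :
    ∃ z u : G, orderOf z = p ∧ z ∈ center G ∧ u ^ p = 1 ∧ u ∉ zpowers z ∧
      ∀ g : G, ∃ i : ℤ, g * u * g⁻¹ = u * z ^ i := by
  haveI := hBc
  have hcB : ∀ a ∈ B, ∀ b ∈ B, a * b = b * a := fun a ha b hb =>
    congrArg Subtype.val (hBc.is_comm.comm (⟨a, ha⟩ : B) ⟨b, hb⟩)
  let Ω : Subgroup G :=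
    { carrier := {x | x ∈ B ∧ x ^ p = 1}
      one_mem' := ⟨one_mem B, one_pow p⟩
      mul_mem' := fun {a b} ha hb => ⟨mul_mem ha.1 hb.1, by
        rw [(show Commute a b from hcB a ha.1 b hb.1).mul_pow, ha.2, hb.2, one_mul]⟩
      inv_mem' := fun {a} ha => ⟨inv_mem ha.1, by rw [inv_pow, ha.2, inv_one]⟩ }
  haveI hΩn : Ω.Normal := ⟨fun x hx g => ⟨Normal.conj_mem inferInstance x hx.1 g, by
    rw [conj_pow, hx.2, mul_one, mul_inv_cancel]⟩⟩
  have hnu : ∀ z : G, ¬ Ω ≤ zpowers z ∨ orderOf z ≠ p := by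
    intro z
    by_cases hz : orderOf z = p
    · refine Or.inl fun hle => hBnc (CfsgLib.Coprime.isCyclic_of_comm_of_unique (hG.to_subgroup B) ?_)
      intro x y hx hy hx1
      have hx' : (x : G) ∈ zpowers z := hle ⟨x.2, by rw [← SubgroupClass.coe_pow, hx]; rfl⟩
      have hy' : (y : G) ∈ zpowers z := hle ⟨y.2, by rw [← SubgroupClass.coe_pow, hy]; rfl⟩
      have heq : zpowers (x : G) = zpowers z := by
        refine Subgroup.eq_of_le_of_card_ge (zpowers_le.2 hx') ?_
        rw [Nat.card_zpowers, Nat.card_zpowers, hz, orderOf_eq_prime (x := (x : G))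
          (by rw [← SubgroupClass.coe_pow, hx]; rfl) fun e => hx1 (Subtype.ext e)]
      obtain ⟨m, hm⟩ := mem_zpowers_iff.1 (heq.ge hy')
      exact ⟨m, Subtype.ext (by simpa using hm)⟩
    · exact Or.inr hz
  have hΩ : Ω ≠ ⊥ := by
    intro e
    refine hBnc (CfsgLib.Coprime.isCyclic_of_comm_of_unique (hG.to_subgroup B) ?_)
    intro x y hx _ hx1
    refine absurd (Subtype.ext ?_) hx1
    exact (Subgroup.eq_bot_iff_forall _).1 e _ ⟨x.2, by rw [← SubgroupClass.coe_pow, hx]; rfl⟩
  obtain ⟨z, -, hzo, hzc⟩ := CfsgLib.Invol.exists_fixed_of_normalized (p := p)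
    (P := (⊤ : Subgroup G)) (hG.to_subgroup ⊤) (hG.to_subgroup Ω) hΩ
    (le_of_le_of_eq le_top (normalizer_eq_top_iff.2 hΩn).symm)
  have hzcen : z ∈ center G := mem_center_iff.2 fun g =>
    mem_centralizer_singleton_iff.1 (hzc (mem_top g))
  haveI : (zpowers z).Normal := ⟨fun x hx g => by
    obtain ⟨i, rfl⟩ := mem_zpowers_iff.1 hx
    rw [(mem_center_iff.1 (zpow_mem hzcen i) g), mul_inv_cancel_right]
    exact zpow_mem (mem_zpowers z) i⟩
  set π := QuotientGroup.mk' (zpowers z)
  haveI : (Ω.map π).Normal := hΩn.map π (QuotientGroup.mk'_surjective _)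
  have hne : Ω.map π ≠ ⊥ := by
    rw [Ne, Subgroup.map_eq_bot_iff, QuotientGroup.ker_mk']
    exact (hnu z).resolve_right (not_not_intro hzo)
  obtain ⟨_, ⟨u, hu, rfl⟩, huo, huc⟩ := CfsgLib.Invol.exists_fixed_of_normalized (p := p)
    (P := (⊤ : Subgroup (G ⧸ zpowers z))) ((hG.to_quotient _).to_subgroup ⊤)
    ((hG.to_quotient _).to_subgroup (Ω.map π)) hne
    (le_of_le_of_eq le_top (normalizer_eq_top_iff.2 inferInstance).symm)
  refine ⟨z, u, hzo, hzcen, hu.2, fun h => ?_, fun g => ?_⟩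
  · rw [show π u = 1 from (QuotientGroup.eq_one_iff u).2 h, orderOf_one] at huo
    exact hp.out.ne_one huo.symm
  · have h1 : π g * π u = π u * π g := mem_centralizer_singleton_iff.1 (huc (mem_top (π g)))
    have h2 : π (u⁻¹ * (g * u * g⁻¹)) = 1 := by
      simp only [map_mul, map_inv]
      rw [h1, mul_inv_cancel_right, inv_mul_cancel]
    obtain ⟨i, hi⟩ := mem_zpowers_iff.1 ((QuotientGroup.eq_one_iff _).1 h2)
    exact ⟨i, by rw [hi, mul_inv_cancel_left]⟩

/-- Powers indexed by `ZMod p`. -/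
def zp (z : G) (a : ZMod p) : G := z ^ a.val

theorem zp_add {z : G} (hz : z ^ p = 1) (a b : ZMod p) : zp z (a + b) = zp z a * zp z b := by
  rw [zp, zp, zp, ← pow_add, ZMod.val_add, ← pow_eq_pow_mod _ hz]

theorem zp_zero (z : G) : zp z (0 : ZMod p) = 1 := by simp [zp]

theorem zp_one (z : G) : zp z (1 : ZMod p) = z := by
  haveI : Fact (1 < p) := ⟨hp.out.one_lt⟩
  rw [zp, ZMod.val_one, pow_one]

theorem zp_natCast {z : G} (hz : z ^ p = 1) (n : ℕ) : zp z (n : ZMod p) = z ^ n := by
  rw [zp, ZMod.val_natCast, ← pow_eq_pow_mod _ hz]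

theorem zp_intCast {z : G} (hz : z ^ p = 1) (i : ℤ) : zp z (i : ZMod p) = z ^ i := by
  rw [zp, ← zpow_natCast, ZMod.val_intCast, ← zpow_eq_zpow_emod' i (n := p) (by exact_mod_cast hz)]

theorem zp_mem {z : G} {H : Subgroup G} (h : z ∈ H) (a : ZMod p) : zp z a ∈ H := pow_mem h _

theorem zp_injective {z : G} (hz : orderOf z = p) : Function.Injective (zp (p := p) z) := by
  intro a b h
  refine ZMod.val_injective p (pow_injOn_Iio_orderOf ?_ ?_ h) <;> rw [Set.mem_Iio, hz] <;>
    exact ZMod.val_lt _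

theorem main {q : ℕ} [hq : Fact q.Prime] {V : Type*} [AddCommGroup V] [Module (ZMod q) V] [Finite V]
    [Nontrivial V] [Finite G] (hG : IsPGroup p G)
    (ρ : G →* (V ≃ₗ[ZMod q] V)) (hρ : Function.Injective ρ)
    (hirr : ∀ W : Submodule (ZMod q) V, (∀ g : G, ∀ w ∈ W, ρ g w ∈ W) → W = ⊥ ∨ W = ⊤)
    {B : Subgroup G} [B.Normal] (hBc : IsMulCommutative B) (hBnc : ¬ IsCyclic B) :
    ∃ (H : Subgroup G) (W : Fin p → Submodule (ZMod q) V), H.index = p ∧
      iSup W = ⊤ ∧ iSupIndep W ∧
      (∀ h ∈ H, ∀ i, ∀ w ∈ W i, ρ h w ∈ W i) ∧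
      (∀ i, ∃ h ∈ H, h ≠ 1 ∧ ∀ w ∈ W i, ρ h w = w) ∧
      ∀ g : G, g ∉ H → ∃ σ : Equiv.Perm (Fin p), orderOf σ = p ∧
        ∀ i, (W i).map (ρ g : V →ₗ[ZMod q] V) = W (σ i) := by
  classical
  haveI : Fact (1 < p) := ⟨hp.out.one_lt⟩
  obtain ⟨z, u, hzo, hzc, hup, huz, hconj⟩ := exists_pair hG hBc hBnc
  have hzp : z ^ p = 1 := orderOf_dvd_iff_pow_eq_one.1 hzo.dvd
  have hz1 : z ≠ 1 := fun e => by rw [e, orderOf_one] at hzo; exact hp.out.ne_one hzo.symm
  have hu1 : u ≠ 1 := fun e => huz (e ▸ one_mem _)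
  have huo : orderOf u = p := orderOf_eq_prime hup hu1
  have hzcomm : ∀ g : G, Commute g z := fun g => mem_center_iff.1 hzc g
  have hzpc : ∀ (g : G) (a : ZMod p), Commute g (zp z a) := fun g a => (hzcomm g).pow_right _
  have hmulρ : ∀ (a b : G) (v : V), ρ (a * b) v = ρ a (ρ b v) := fun a b v => by rw [map_mul]; rfl
  have hone : ∀ v : V, ρ 1 v = v := fun v => by rw [map_one]; rfl
  -- fixed spaces
  let Fix : G → Submodule (ZMod q) V := fun x =>
    { carrier := {v | ρ x v = v}
      add_mem' := fun {a b} ha hb => by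
        simp only [Set.mem_setOf_eq] at ha hb ⊢
        rw [map_add, ha, hb]
      zero_mem' := map_zero _
      smul_mem' := fun c a ha => by
        simp only [Set.mem_setOf_eq] at ha ⊢
        rw [map_smul, ha] }
  have hFixz : ∀ v : V, ρ z v = v → v = 0 := by
    rcases hirr (Fix z) (fun g w hw => by
      show ρ z (ρ g w) = ρ g w
      rw [← hmulρ, ← (hzcomm g).eq, hmulρ, show ρ z w = w from hw]) with e | e
    · intro v hv
      exact (Submodule.mem_bot (ZMod q)).1 (e ▸ (show v ∈ Fix z from hv))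
    · refine absurd (hρ ?_) hz1
      rw [map_one]
      exact LinearEquiv.ext fun v => show ρ z v = v from (e.ge Submodule.mem_top : v ∈ Fix z)
  have hqp : q ≠ p := by
    intro hqp'
    subst hqp'
    haveI : Module.Finite (ZMod q) V := Module.Finite.of_finite
    letI : MulAction (zpowers z) V :=
      { smul := fun g v => ρ g v
        one_smul := fun v => hone v
        mul_smul := fun a b v => hmulρ a b v }
    obtain ⟨n, hn⟩ := IsPGroup.iff_card.1 (hG.to_subgroup (zpowers z))
    have hdvd : q ∣ Nat.card V := by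
      obtain ⟨v, hv⟩ := exists_ne (0 : V)
      have h1 : addOrderOf v = q := by
        refine addOrderOf_eq_prime ?_ hv
        rw [← Nat.cast_smul_eq_nsmul (ZMod q), ZMod.natCast_self, zero_smul]
      exact h1 ▸ addOrderOf_dvd_natCard v
    obtain ⟨v, hv, hv0⟩ := (hG.to_subgroup (zpowers z)).exists_fixed_point_of_prime_dvd_card_of_fixed_point
      V hdvd (a := 0) (fun g => map_zero _)
    exact hv0 (hFixz v (hv ⟨z, mem_zpowers z⟩)).symm
  -- the conjugation character
  choose i hi using hconj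
  let c : G → ZMod p := fun g => (i g : ZMod p)
  have hc : ∀ g, g * u * g⁻¹ = u * zp z (c g) := fun g => by rw [hi, zp_intCast hzp]
  have hcinj : ∀ a b : ZMod p, u * zp z a = u * zp z b → a = b := fun a b h =>
    zp_injective hzo (mul_left_cancel h)
  have hcmul : ∀ g h, c (g * h) = c g + c h := fun g h => hcinj _ _ (by
    rw [← hc, zp_add hzp, ← mul_assoc, ← hc]
    calc g * h * u * (g * h)⁻¹ = g * (h * u * h⁻¹) * g⁻¹ := by group
      _ = g * (u * zp z (c h)) * g⁻¹ := by rw [hc]
      _ = g * u * g⁻¹ * zp z (c h) := by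
          rw [mul_assoc g, mul_assoc u, ← (hzpc g⁻¹ (c h)).eq]; group)
  let φ : G →* Multiplicative (ZMod p) :=
    MonoidHom.mk' (fun g => Multiplicative.ofAdd (c g)) fun g h => by
      show Multiplicative.ofAdd (c (g * h)) = _
      rw [hcmul]; rfl
  let H : Subgroup G := φ.ker
  have hHmem : ∀ g, g ∈ H ↔ c g = 0 := fun g => MonoidHom.mem_ker
  let x : ZMod p → G := fun a => u * zp z a
  have hxconj : ∀ g a, g * x a * g⁻¹ = x (a + c g) := fun g a => by
    simp only [x]
    calc g * (u * zp z a) * g⁻¹ = g * u * g⁻¹ * zp z a := by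
          rw [mul_assoc g, mul_assoc u, ← (hzpc g⁻¹ a).eq]; group
      _ = u * zp z (a + c g) := by rw [hc, mul_assoc, ← zp_add hzp, add_comm]
  have hxp : ∀ a, x a ^ p = 1 := fun a => by
    simp only [x, zp]
    rw [((hzcomm u).pow_right _).mul_pow, hup, one_mul, ← pow_mul, mul_comm, pow_mul, hzp, one_pow]
  have hx1 : ∀ a, x a ≠ 1 := fun a e => huz (by
    rw [eq_inv_of_mul_eq_one_left e]
    exact inv_mem (zp_mem (mem_zpowers z) a))
  have hmove : ∀ g a, ∀ v ∈ Fix (x a), ρ g v ∈ Fix (x (a + c g)) := fun g a v hv => by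
    show ρ (x (a + c g)) (ρ g v) = ρ g v
    rw [← hxconj, ← hmulρ, inv_mul_cancel_right, hmulρ, show ρ (x a) v = v from hv]
  -- the sum identity
  have hsumz : ∀ v : V, ∑ a : ZMod p, ρ (zp z a) v = 0 := fun v => hFixz _ (by
    rw [map_sum]
    refine Fintype.sum_equiv (Equiv.addLeft (1 : ZMod p)) _ _ fun a => ?_
    rw [← hmulρ, Equiv.coe_addLeft, zp_add hzp, zp_one])
  let S : ZMod p → V → V := fun a v => ∑ b : ZMod p, ρ (zp (x a) b) v
  have hSfix : ∀ a v, S a v ∈ Fix (x a) := fun a v => by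
    show ρ (x a) (S a v) = S a v
    simp only [S, map_sum]
    refine Fintype.sum_equiv (Equiv.addLeft (1 : ZMod p)) _ _ fun b => ?_
    rw [← hmulρ, Equiv.coe_addLeft, zp_add (hxp a), zp_one]
  have hpow : ∀ a b : ZMod p, zp (x a) b = zp u b * zp z (b * a) := fun a b => by
    simp only [x]
    show (u * zp z a) ^ b.val = u ^ b.val * zp z (b * a)
    rw [(hzpc u a).mul_pow]
    congr 1
    rw [zp, ← pow_mul, zp, ZMod.val_mul, mul_comm a.val, ← pow_eq_pow_mod _ hzp]
  have hsum : ∀ v : V, ∑ a : ZMod p, S a v = (p : ZMod q) • v := fun v => by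
    simp only [S]
    rw [Finset.sum_comm, Finset.sum_eq_single (0 : ZMod p)]
    · simp only [zp_zero, hone, Finset.sum_const, Finset.card_univ, ZMod.card,
        Nat.cast_smul_eq_nsmul]
    · intro b _ hb
      calc ∑ a : ZMod p, ρ (zp (x a) b) v = ρ (zp u b) (∑ a : ZMod p, ρ (zp z (b * a)) v) := by
            rw [map_sum]; exact Finset.sum_congr rfl fun a _ => by rw [hpow, hmulρ]
        _ = ρ (zp u b) (∑ a : ZMod p, ρ (zp z a) v) := by
            congr 1
            exact Fintype.sum_equiv (Equiv.mulLeft₀ b hb) _ _ fun a => rfl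
        _ = 0 := by rw [hsumz, map_zero]
    · simp
  have hpne : (p : ZMod q) ≠ 0 := by
    rw [Ne, ZMod.natCast_eq_zero_iff, Nat.prime_dvd_prime_iff_eq hq.out hp.out]
    exact hqp
  -- the blocks
  let e : Fin p ≃ ZMod p := (ZMod.finEquiv p).toEquiv
  let W : Fin p → Submodule (ZMod q) V := fun k => Fix (x (e k))
  have hsup : iSup W = ⊤ := eq_top_iff.2 fun v _ => by
    have h1 : (p : ZMod q) • v ∈ iSup W := by
      rw [← hsum]
      refine Submodule.sum_mem _ fun a _ => Submodule.mem_iSup_of_mem (e.symm a) ?_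
      show S a v ∈ Fix (x (e (e.symm a)))
      rw [Equiv.apply_symm_apply]
      exact hSfix a v
    have h2 := (iSup W).smul_mem (p : ZMod q)⁻¹ h1
    rwa [inv_smul_smul₀ hpne] at h2
  have hSfixed : ∀ a w, w ∈ Fix (x a) → S a w = (p : ZMod q) • w := fun a w hw => by
    have h1 : ∀ n : ℕ, ρ (x a ^ n) w = w := by
      intro n
      induction n with
      | zero => rw [pow_zero, hone]
      | succ n ih => rw [pow_succ, hmulρ, show ρ (x a) w = w from hw, ih]
    simp only [S, zp, h1, Finset.sum_const, Finset.card_univ, ZMod.card, Nat.cast_smul_eq_nsmul]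
  have hSother : ∀ a b w, a ≠ b → w ∈ Fix (x a) → S b w = 0 := fun a b w hab hw => by
    refine hFixz _ ?_
    have h1 : S b w ∈ Fix (x a) := by
      show ρ (x a) (∑ k : ZMod p, ρ (zp (x b) k) w) = _
      rw [map_sum]
      refine Finset.sum_congr rfl fun k _ => ?_
      have hcm : Commute (x a) (zp (x b) k) := by
        refine Commute.pow_right ?_ _
        exact ((Commute.refl u).mul_right (hzpc u b)).mul_left ((hzpc u a).symm.mul_right (hzpc _ a).symm)
      rw [← hmulρ, hcm.eq, hmulρ, show ρ (x a) w = w from hw]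
    -- an element fixed by `x a` and `x b` is fixed by `z`
    have h3 : ∀ t : G, ρ t (S b w) = S b w → ρ t⁻¹ (S b w) = S b w := fun t ht => by
      conv_lhs => rw [← ht]
      rw [← hmulρ, inv_mul_cancel, hone]
    have h4 : ρ (zp z (b - a)) (S b w) = S b w := by
      have : zp z (b - a) = (x a)⁻¹ * x b := by
        simp only [x]
        rw [mul_inv_rev, mul_assoc, inv_mul_cancel_left, eq_inv_mul_iff_mul_eq, ← zp_add hzp,
          add_sub_cancel]
      rw [this, hmulρ, show ρ (x b) (S b w) = S b w from hSfix b w, h3 _ h1]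
    have h5 : ∀ n : ℕ, ρ (zp z (b - a) ^ n) (S b w) = S b w := by
      intro n
      induction n with
      | zero => rw [pow_zero, hone]
      | succ n ih => rw [pow_succ, hmulρ, h4, ih]
    obtain ⟨n, hn⟩ : ∃ n : ℕ, zp z (b - a) ^ n = z := by
      refine ⟨(b - a)⁻¹.val, ?_⟩
      rw [zp, ← pow_mul, pow_eq_pow_mod _ hzp, ← ZMod.val_mul,
        mul_inv_cancel₀ (sub_ne_zero.2 (Ne.symm hab)), ZMod.val_one, pow_one]
    rw [← hn]
    exact h5 n
  have hindep : iSupIndep W := by
    rw [iSupIndep_def]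
    intro k
    rw [Submodule.disjoint_def]
    intro w hw hw'
    have h1 : ⨆ (j : Fin p) (_ : j ≠ k), W j ≤
        LinearMap.ker (∑ b : ZMod p, (ρ (zp (x (e k)) b) : V →ₗ[ZMod q] V)) := by
      refine iSup₂_le fun j hj v hv => ?_
      rw [LinearMap.mem_ker, LinearMap.sum_apply]
      exact hSother (e j) (e k) v (fun h => hj (e.injective h)) hv
    have h2 := h1 hw'
    rw [LinearMap.mem_ker, LinearMap.sum_apply] at h2
    have h3 : (p : ZMod q) • w = 0 := (hSfixed (e k) w hw).symm.trans h2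
    exact (smul_eq_zero.1 h3).resolve_left hpne
  have hidx : H.index = p := by
    have hne : ∃ g, c g ≠ 0 := by
      by_contra hall
      push Not at hall
      have h1 : ∀ a, Fix (x a) = ⊥ := fun a => by
        refine (hirr (Fix (x a)) fun g w hw => ?_).resolve_right fun etop => hx1 a (hρ ?_)
        · have h2 := hmove g a w hw
          rwa [hall g, add_zero] at h2
        · rw [map_one]
          exact LinearEquiv.ext fun v => show ρ (x a) v = v from (etop.ge Submodule.mem_top : v ∈ Fix (x a))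
      have h2 : (⊤ : Submodule (ZMod q) V) = ⊥ := hsup ▸ iSup_eq_bot.2 fun k => h1 (e k)
      exact bot_ne_top h2.symm
    obtain ⟨g, hg⟩ := hne
    rw [Subgroup.index_ker]
    have hr : φ.range = ⊤ := by
      haveI : Fact (Nat.card (Multiplicative (ZMod p))).Prime :=
        ⟨by rw [Nat.card_congr Multiplicative.toAdd, Nat.card_zmod]; exact hp.out⟩
      refine (Subgroup.eq_bot_or_eq_top_of_prime_card φ.range).resolve_left fun e' => hg ?_
      have h2 : φ g = 1 := (Subgroup.eq_bot_iff_forall _).1 e' _ ⟨g, rfl⟩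
      exact h2
    rw [hr, Subgroup.card_top, Nat.card_congr Multiplicative.toAdd, Nat.card_zmod]
  refine ⟨H, W, hidx, hsup, hindep, fun h hh k w hw => ?_, fun k => ⟨x (e k), ?_, hx1 _, fun w hw => hw⟩,
    fun g hg => ?_⟩
  · have := hmove h (e k) w hw
    rwa [(hHmem h).1 hh, add_zero] at this
  · rw [hHmem]
    refine hcinj _ _ ?_
    rw [← hc, zp_zero, mul_one]
    simp only [x]
    rw [show u * zp z (e k) * u = u * (u * zp z (e k)) by rw [mul_assoc, ← (hzpc u (e k)).eq],
      mul_inv_cancel_right]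
  · let σ : Equiv.Perm (Fin p) := e.symm.permCongr (Equiv.addRight (c g))
    have hσ : ∀ k, e (σ k) = e k + c g := fun k => by simp [σ, Equiv.permCongr_apply]
    have hcg : c g ≠ 0 := fun h => hg ((hHmem g).2 h)
    have hpowσ : ∀ n : ℕ, ∀ k, e ((σ ^ n) k) = e k + n * c g := by
      intro n
      induction n with
      | zero => intro k; simp
      | succ n ih =>
        intro k
        rw [pow_succ', Equiv.Perm.mul_apply, hσ, ih]
        push_cast
        ring
    refine ⟨σ, orderOf_eq_prime (Equiv.ext fun k => e.injective ?_) fun h => hcg ?_, fun k => ?_⟩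
    · rw [hpowσ, ZMod.natCast_self, zero_mul, add_zero]; rfl
    · have := hσ (e.symm 0)
      rw [h] at this
      exact (by simpa using this : (0 : ZMod p) = c g).symm
    · refine le_antisymm ?_ fun w hw => ?_
      · rintro _ ⟨w, hw, rfl⟩
        show ρ g w ∈ Fix (x (e (σ k)))
        rw [hσ]
        exact hmove g (e k) w hw
      · have h1 : c g⁻¹ = -c g := by
          have h2 := hcmul g⁻¹ g
          have h3 : c (1 : G) = 0 := by
            have := hcmul 1 1
            rw [one_mul] at this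
            simpa using this
          rw [inv_mul_cancel, h3] at h2
          exact eq_neg_of_add_eq_zero_left h2.symm
        refine ⟨ρ g⁻¹ w, ?_, ?_⟩
        · have h2 := hmove g⁻¹ (e (σ k)) w hw
          rwa [h1, hσ, add_neg_cancel_right] at h2
        · show ρ g (ρ g⁻¹ w) = w
          rw [← hmulρ, mul_inv_cancel, hone]
end CfsgLib.Char.PGroupImprimitive
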