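/-
A regular normal subgroup of a non-Frobenius 3/2-transitive group is elementary abelian and minimal.
-/
import Mathlib.GroupTheory.GroupAction.Primitive
import Mathlib.GroupTheory.Perm.Cycle.Type
import Mathlib.GroupTheory.GroupAction.Quotient
import Mathlib.GroupTheory.Subgroup.Center
import Mathlib.GroupTheory.Commutator.Basic

set_option autoImplicit false

open MulAction

namespace CfsgLib.Char.HalfTransitive

variable {G Ω : Type*} [Group G] [Finite G] [MulAction G Ω] [FaithfulSMul G Ω] [Finite Ω]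
  {N : Subgroup G} [hN : N.Normal] {a : Ω}

/-- The part of the point stabilizer centralizing an element. -/
def stab (a : Ω) (n : G) : Subgroup G := stabilizer G a ⊓ Subgroup.centralizer {n}

omit [Finite G] [FaithfulSMul G Ω] [Finite Ω] hN in
theorem mem_stab {n h : G} : h ∈ stab a n ↔ h • a = a ∧ h * n = n * h :=
  and_congr mem_stabilizer_iff Subgroup.mem_centralizer_singleton_iff

variable (hreg : ∀ n ∈ N, ∀ n' ∈ N, n • a = n' • a → n = n')

include hreg hN in
omit [Finite G] [FaithfulSMul G Ω] [Finite Ω] in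
theorem stabilizer_point {n : G} (hn : n ∈ N) :
    stabilizer G a ⊓ stabilizer G (n • a) = stab a n := by
  ext h
  rw [mem_stab, Subgroup.mem_inf, mem_stabilizer_iff, mem_stabilizer_iff]
  refine and_congr_right fun ha => ?_
  have ha' : h⁻¹ • a = a := inv_smul_eq_iff.2 ha.symm
  constructor
  · intro e
    exact mul_inv_eq_iff_eq_mul.1 (hreg _ (hN.conj_mem n hn h) n hn (by rw [mul_smul, mul_smul, ha', e]))
  · intro e
    rw [← mul_smul, e, mul_smul, ha]

variable (hN_tr : ∀ b : Ω, ∃ n ∈ N, n • a = b) {k c : ℕ} (hc : ∀ n ∈ N, n ≠ 1 → Nat.card (stab a n) = c)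
  (hkc : k * c = Nat.card (stabilizer G a)) (hcop : k.Coprime (Nat.card N))

include hN hc hkc hcop in
omit [FaithfulSMul G Ω] [Finite Ω] in
/-- An invariant subset of cardinality dividing `|N|` has constant centralizers. -/
theorem stab_eq_of_invariant {X : Set G} (hX1 : X ⊆ {n | n ∈ N ∧ n ≠ 1}) (hXc : X.ncard ∣ Nat.card N)
    (hXs : ∀ y ∈ X, stab a y ≤ Subgroup.normalizer X) {x y : G} (hx : x ∈ X) (hy : y ∈ X) :
    stab a x = stab a y := by
  classical
  set T := stabilizer G a ⊓ Subgroup.normalizer X with hT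
  haveI : Finite X := Subtype.finite
  letI : MulAction T X :=
    { smul := fun t z => ⟨(t : G) * z * (t : G)⁻¹, (Subgroup.mem_set_normalizer_iff.1 t.2.2 _).1 z.2⟩
      one_smul := fun z => Subtype.ext (by show (1 : G) * z * (1 : G)⁻¹ = z; simp)
      mul_smul := fun s t z => Subtype.ext (by
        show ((s : G) * t) * z * ((s : G) * t)⁻¹ = (s : G) * ((t : G) * z * (t : G)⁻¹) * (s : G)⁻¹
        group) }
  have hle : ∀ z ∈ X, stab a z ≤ T := fun z hz => le_inf inf_le_left (hXs z hz)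
  have hidx : ∀ z : X, (stabilizer T z).index * c = Nat.card T := fun z => by
    have e : stabilizer T z = (stab a (z : G)).subgroupOf T := by
      ext t
      rw [mem_stabilizer_iff, Subgroup.mem_subgroupOf, mem_stab]
      exact ⟨fun h => ⟨t.2.1, mul_inv_eq_iff_eq_mul.1 (congrArg Subtype.val h)⟩,
        fun h => Subtype.ext (mul_inv_eq_iff_eq_mul.2 h.2)⟩
    rw [e, ← hc z (hX1 z.2).1 (hX1 z.2).2,
      ← Nat.card_congr (Subgroup.subgroupOfEquivOfLe (hle z z.2)).toEquiv, mul_comm]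
    exact Subgroup.card_mul_index _
  have hcpos : 0 < c := by rw [← hc x (hX1 hx).1 (hX1 hx).2]; exact Nat.card_pos
  set d := (stabilizer T (⟨x, hx⟩ : X)).index with hd
  have hdall : ∀ z : X, (stabilizer T z).index = d := fun z =>
    Nat.eq_of_mul_eq_mul_right hcpos ((hidx z).trans (hidx ⟨x, hx⟩).symm)
  have hdX : d ∣ X.ncard := by
    haveI := Fintype.ofFinite (orbitRel.Quotient T X)
    rw [← Nat.card_coe_set_eq, Nat.card_congr (selfEquivSigmaOrbitsQuotientStabilizer T X), Nat.card_sigma]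
    exact Finset.dvd_sum fun ω _ => by rw [← Subgroup.index_eq_card, hdall]
  have hdk : d ∣ k := by
    have h := Subgroup.card_dvd_of_le (inf_le_left : T ≤ stabilizer G a)
    rw [← hidx ⟨x, hx⟩, ← hd, ← hkc] at h
    exact Nat.dvd_of_mul_dvd_mul_right hcpos h
  have hd1 : d = 1 := Nat.eq_one_of_dvd_coprimes hcop hdk (hdX.trans hXc)
  have key : ∀ z ∈ X, stab a z = T := fun z hz => by
    refine Subgroup.eq_of_le_of_card_ge (hle z hz) ?_
    rw [← hidx ⟨z, hz⟩, hdall, hd1, one_mul, hc z (hX1 hz).1 (hX1 hz).2]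
  rw [key x hx, key y hy]

include hN hN_tr in
omit [Finite G] [Finite Ω] in
theorem stab_not_constant (hc1 : ∀ n ∈ N, n ≠ 1 → stab a n ≠ ⊥) {x : G} (hx : x ∈ N) (hx1 : x ≠ 1)
    (hall : ∀ n ∈ N, n ≠ 1 → stab a n = stab a x) : False := by
  refine hc1 x hx hx1 ((Subgroup.eq_bot_iff_forall _).2 fun h hh => FaithfulSMul.eq_of_smul_eq_smul (α := Ω) fun b => ?_)
  obtain ⟨n, hn, rfl⟩ := hN_tr b
  rw [one_smul]
  by_cases hn1 : n = 1
  · subst hn1; rw [one_smul]; exact (mem_stab.1 hh).1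
  · rw [← hall n hn hn1, mem_stab] at hh
    rw [← mul_smul, hh.2, mul_smul, hh.1]

include hN hN_tr hc hkc hcop in
omit [Finite Ω] in
/-- There is no proper invariant normal subgroup. -/
theorem irreducible (hc1 : ∀ n ∈ N, n ≠ 1 → stab a n ≠ ⊥) (M : Subgroup G) (hMN : M ≤ N) (hM : M.Normal) :
    M = ⊥ ∨ M = N := by
  by_cases h0 : M = ⊥
  · exact Or.inl h0
  refine Or.inr (le_antisymm hMN fun x0 hx0 => ?_)
  by_contra hxM
  obtain ⟨⟨m0, hm0⟩, hm01⟩ := M.ne_bot_iff_exists_ne_one.1 h0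
  have hm01' : m0 ≠ 1 := fun e => hm01 (Subtype.ext e)
  have key : ∀ x ∈ N, x ∉ M → ∀ m ∈ M, m ≠ 1 → stab a x = stab a m := by
    intro x hx hxM m hm hm1
    set X : Set G := {z | x⁻¹ * z ∈ M} with hX
    have hXc : X.ncard = Nat.card M := by
      rw [← Nat.card_coe_set_eq]
      exact (Nat.card_congr
        { toFun := fun m : M => (⟨x * (m : G), by show x⁻¹ * (x * (m : G)) ∈ M; simp⟩ : X)
          invFun := fun z => ⟨x⁻¹ * (z : G), z.2⟩
          left_inv := fun m => Subtype.ext (by simp)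
          right_inv := fun z => Subtype.ext (by simp) }).symm
    have h := stab_eq_of_invariant hc hkc hcop (X := X) (a := a) (fun z hz => ⟨by
        have := mul_mem hx (hMN hz); simpa using this, fun e => hxM (by
        have h1 : x⁻¹ * z ∈ M := hz
        rw [e, mul_one] at h1; simpa using h1)⟩) (hXc ▸ Subgroup.card_dvd_of_le hMN)
      (fun y hy h hh => by
        rw [Subgroup.mem_set_normalizer_iff]
        have hy' : x⁻¹ * y ∈ M := hy
        have hhy : h * y * h⁻¹ = y := mul_inv_eq_iff_eq_mul.2 (mem_stab.1 hh).2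
        intro z
        show x⁻¹ * z ∈ M ↔ x⁻¹ * (h * z * h⁻¹) ∈ M
        have e1 : x⁻¹ * (h * z * h⁻¹) = (x⁻¹ * y) * (h * (y⁻¹ * z) * h⁻¹) := by
          calc x⁻¹ * (h * z * h⁻¹) = x⁻¹ * ((h * y * h⁻¹) * (h * (y⁻¹ * z) * h⁻¹)) := by group
            _ = _ := by rw [hhy]; group
        rw [e1, Subgroup.mul_mem_cancel_left _ hy',
          show h * (y⁻¹ * z) * h⁻¹ ∈ M ↔ y⁻¹ * z ∈ M from
            ⟨fun hu => by simpa [mul_assoc] using hM.conj_mem _ hu h⁻¹, fun hu => hM.conj_mem _ hu h⟩]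
        rw [show x⁻¹ * z = (x⁻¹ * y) * (y⁻¹ * z) by group, Subgroup.mul_mem_cancel_left _ hy'])
      (show x ∈ X by show x⁻¹ * x ∈ M; simp) (show x * m ∈ X by show x⁻¹ * (x * m) ∈ M; simpa using hm)
    refine Subgroup.eq_of_le_of_card_ge (fun g hg => ?_) (by rw [hc x hx (fun e => hxM (e ▸ one_mem M)), hc m (hMN hm) hm1])
    have hg' := hg
    rw [h, mem_stab] at hg'
    rw [mem_stab] at hg ⊢
    refine ⟨hg.1, ?_⟩
    have e := hg'.2
    rw [← mul_assoc, hg.2, mul_assoc, mul_assoc] at e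
    exact mul_left_cancel e
  refine stab_not_constant hN_tr hc1 hx0 (fun e => hxM (e ▸ one_mem M)) fun n hn hn1 => ?_
  by_cases hnM : n ∈ M
  · exact (key x0 hx0 hxM n hnM hn1).symm
  · rw [key n hn hnM m0 hm0 hm01', key x0 hx0 hxM m0 hm0 hm01']

include hN hN_tr hc hkc hcop in
omit [Finite Ω] in
/-- The regular subgroup is abelian. -/
theorem commutative (hc1 : ∀ n ∈ N, n ≠ 1 → stab a n ≠ ⊥) : ∀ x ∈ N, ∀ y ∈ N, x * y = y * x := by
  have hclass : ∀ x ∈ N, x ≠ 1 → ∀ g ∈ N, stab a (g * x * g⁻¹) = stab a x := by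
    intro x hx hx1 g hg
    set X : Set G := {z | ∃ g ∈ N, g * x * g⁻¹ = z} with hX
    letI : MulAction N X :=
      { smul := fun g z => ⟨(g : G) * z * (g : G)⁻¹, by
          obtain ⟨g', hg', e⟩ := z.2
          exact ⟨g * g', mul_mem g.2 hg', by rw [← e]; group⟩⟩
        one_smul := fun z => Subtype.ext (by show (1 : G) * z * (1 : G)⁻¹ = z; simp)
        mul_smul := fun s t z => Subtype.ext (by
          show ((s : G) * t) * z * ((s : G) * t)⁻¹ = (s : G) * ((t : G) * z * (t : G)⁻¹) * (s : G)⁻¹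
          group) }
    have hx' : x ∈ X := ⟨1, one_mem N, by simp⟩
    have horb : orbit N (⟨x, hx'⟩ : X) = Set.univ := Set.eq_univ_of_forall fun ⟨z, g, hg, e⟩ => ⟨⟨g, hg⟩, Subtype.ext e⟩
    have hXc : X.ncard ∣ Nat.card N := by
      have h := index_stabilizer N (⟨x, hx'⟩ : X)
      rw [horb, Set.ncard_univ, Nat.card_coe_set_eq] at h
      rw [← h]
      exact Subgroup.index_dvd_card _
    refine stab_eq_of_invariant hc hkc hcop (X := X) (a := a) ?_ hXc ?_ ⟨g, hg, rfl⟩ hx'
    · rintro z ⟨g', hg', rfl⟩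
      exact ⟨hN.conj_mem x hx g', fun e => hx1 (conj_eq_one_iff.1 e)⟩
    · intro y hy h hh
      have hcl : ∀ h : G, h * y = y * h → ∀ z ∈ X, h * z * h⁻¹ ∈ X := by
        rintro h hhy _ ⟨g', hg', rfl⟩
        obtain ⟨g0, hg0, rfl⟩ := hy
        refine ⟨(h * (g' * g0⁻¹) * h⁻¹) * g0, mul_mem (hN.conj_mem _ (mul_mem hg' (inv_mem hg0)) h) hg0, ?_⟩
        have e : h * (g0 * x * g0⁻¹) * h⁻¹ = g0 * x * g0⁻¹ := mul_inv_eq_iff_eq_mul.2 hhy
        calc (h * (g' * g0⁻¹) * h⁻¹) * g0 * x * ((h * (g' * g0⁻¹) * h⁻¹) * g0)⁻¹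
            = (h * (g' * g0⁻¹) * h⁻¹) * (g0 * x * g0⁻¹) * (h * (g' * g0⁻¹)⁻¹ * h⁻¹) := by group
          _ = _ := by rw [← e]; group
      rw [Subgroup.mem_set_normalizer_iff]
      intro z
      refine ⟨hcl h (mem_stab.1 hh).2 z, fun hz => ?_⟩
      have h2 := hcl h⁻¹ ((Commute.inv_left (show Commute h y from (mem_stab.1 hh).2)).eq) _ hz
      simpa [mul_assoc] using h2
  have hconst : ∀ x ∈ N, x ≠ 1 → ∀ n ∈ N, n ≠ 1 → stab a n ≠ stab a x → Commute x n := by
    intro x hx hx1 n hn hn1 hne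
    show x * n = n * x
    by_contra hcom
    set w := x * n * x⁻¹ * n⁻¹ with hw
    have hw1 : w ≠ 1 := fun e => hcom (by
      rw [hw, mul_inv_eq_one, mul_inv_eq_iff_eq_mul] at e; exact e)
    have hwN : w ∈ N := mul_mem (mul_mem (mul_mem hx hn) (inv_mem hx)) (inv_mem hn)
    have hxw : stab a x ≤ stab a w := fun g hg => by
      have h1 : g ∈ stab a (n * x⁻¹ * n⁻¹) := by
        rw [mem_stab] at hg
        rw [hclass x⁻¹ (inv_mem hx) (inv_ne_one.2 hx1) n hn, mem_stab]
        exact ⟨hg.1, (Commute.inv_right (show Commute g x from hg.2)).eq⟩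
      rw [mem_stab] at h1 hg ⊢
      refine ⟨hg.1, ?_⟩
      rw [show w = x * (n * x⁻¹ * n⁻¹) by rw [hw]; group]
      exact ((show Commute g x from hg.2).mul_right h1.2).eq
    have hnw : stab a n ≤ stab a w := fun g hg => by
      have h1 : g ∈ stab a (x * n * x⁻¹) := by rw [hclass n hn hn1 x hx]; exact hg
      rw [mem_stab] at h1 hg ⊢
      refine ⟨hg.1, ?_⟩
      exact ((show Commute g (x * n * x⁻¹) from h1.2).mul_right (Commute.inv_right (show Commute g n from hg.2))).eq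
    refine hne ?_
    rw [Subgroup.eq_of_le_of_card_ge hnw (by rw [hc n hn hn1, hc w hwN hw1]),
      Subgroup.eq_of_le_of_card_ge hxw (by rw [hc x hx hx1, hc w hwN hw1])]
  intro x hx y hy
  by_cases hx1 : x = 1
  · simp [hx1]
  by_cases hy1 : y = 1
  · simp [hy1]
  by_cases hxy : stab a y = stab a x
  · obtain ⟨z, hz, hz1, hzx⟩ : ∃ z ∈ N, z ≠ 1 ∧ stab a z ≠ stab a x := by
      by_contra h
      push Not at h
      exact stab_not_constant hN_tr hc1 hx hx1 h
    have hzy : stab a z ≠ stab a y := fun e => hzx (e.trans hxy)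
    have c1 := hconst x hx hx1 z hz hz1 hzx
    have hzy1 : z * y ≠ 1 := fun e => hzy (by
      have ez : z = y⁻¹ := eq_inv_of_mul_eq_one_left e
      ext g
      rw [mem_stab, mem_stab, ez]
      exact and_congr_right fun _ => (Commute.inv_right_iff (a := g) (b := y)))
    have hzyx : stab a (z * y) ≠ stab a x := fun e => hzx (by
      refine (Subgroup.eq_of_le_of_card_ge (fun g hg => ?_) (by rw [hc x hx hx1, hc z hz hz1])).symm
      have h1 : g ∈ stab a y := by rw [hxy]; exact hg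
      have h2 : g ∈ stab a (z * y) := by rw [e]; exact hg
      rw [mem_stab] at h1 h2 ⊢
      refine ⟨h1.1, ?_⟩
      have := (show Commute g (z * y) from h2.2).mul_right (Commute.inv_right (show Commute g y from h1.2))
      rwa [mul_inv_cancel_right] at this)
    have c2 := hconst x hx hx1 (z * y) (mul_mem hz hy) hzy1 hzyx
    have := c1.inv_right.mul_right c2
    rw [inv_mul_cancel_left] at this
    exact this.eq
  · exact (hconst x hx hx1 y hy hy1 hxy).eq

theorem main (htrans : IsPretransitive G Ω) (hne : ∀ a : Ω, stabilizer G a ≠ ⊥)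
    (hhalf : ∀ a b c : Ω, b ≠ a → c ≠ a →
      Nat.card (orbit (stabilizer G a) b) = Nat.card (orbit (stabilizer G a) c))
    (N : Subgroup G) [hN : N.Normal] (hNt : IsPretransitive N Ω) (hNr : ∀ a : Ω, stabilizer N a = ⊥)
    (hnotF : ∃ a b : Ω, a ≠ b ∧ stabilizer G a ⊓ stabilizer G b ≠ ⊥) :
    (∃ p : ℕ, p.Prime ∧ IsMulCommutative N ∧ ∀ x ∈ N, x ^ p = 1) ∧
    (∀ M : Subgroup G, M.Normal → M ≠ ⊥ → N ≤ M) := by
  classical
  obtain ⟨a, b₀, hab, hK⟩ := hnotF
  have hreg : ∀ n ∈ N, ∀ n' ∈ N, n • a = n' • a → n = n' := by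
    intro n hn n' hn' e
    have h : (⟨n'⁻¹ * n, mul_mem (inv_mem hn') hn⟩ : N) ∈ stabilizer N a := by
      rw [mem_stabilizer_iff]
      show (n'⁻¹ * n) • a = a
      rw [mul_smul, e, inv_smul_smul]
    rw [hNr, Subgroup.mem_bot] at h
    exact (inv_mul_eq_one.1 (congrArg Subtype.val h)).symm
  have hN_tr : ∀ b : Ω, ∃ n ∈ N, n • a = b := fun b => by
    obtain ⟨n, hn⟩ := hNt.exists_smul_eq a b
    exact ⟨n, n.2, hn⟩
  set k := Nat.card (orbit (stabilizer G a) b₀) with hk
  set c := Nat.card ↥(stabilizer G a ⊓ stabilizer G b₀) with hcdef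
  have hkc0 : ∀ b, b ≠ a → Nat.card ↥(stabilizer G a ⊓ stabilizer G b) * k = Nat.card (stabilizer G a) := by
    intro b hb
    rw [hk, ← hhalf a b b₀ hb hab.symm, Nat.card_coe_set_eq, ← index_stabilizer]
    have e : stabilizer (stabilizer G a) b = (stabilizer G a ⊓ stabilizer G b).subgroupOf (stabilizer G a) := by
      ext h
      rw [Subgroup.mem_subgroupOf]
      exact ⟨fun hh => ⟨h.2, hh⟩, fun hh => hh.2⟩
    rw [e, ← Nat.card_congr (Subgroup.subgroupOfEquivOfLe
      (inf_le_left : stabilizer G a ⊓ stabilizer G b ≤ stabilizer G a)).toEquiv, Subgroup.card_mul_index]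
  have hkpos : 0 < k := by
    haveI : Finite (orbit (stabilizer G a) b₀) := Subtype.finite
    haveI : Nonempty (orbit (stabilizer G a) b₀) := ⟨⟨b₀, mem_orbit_self b₀⟩⟩
    exact Nat.card_pos
  have hkc : k * c = Nat.card (stabilizer G a) := by rw [mul_comm]; exact hkc0 b₀ hab.symm
  have hc : ∀ n ∈ N, n ≠ 1 → Nat.card (stab a n) = c := fun n hn hn1 => by
    rw [← stabilizer_point hreg hn]
    refine Nat.eq_of_mul_eq_mul_right hkpos ((hkc0 _ ?_).trans (hkc0 b₀ hab.symm).symm)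
    exact fun e => hn1 (hreg n hn 1 (one_mem N) (by rw [e, one_smul]))
  have hc1 : ∀ n ∈ N, n ≠ 1 → stab a n ≠ ⊥ := fun n hn hn1 e => by
    have := hc n hn hn1
    rw [e, Subgroup.card_bot] at this
    exact hK (Subgroup.card_eq_one.1 this.symm)
  have hNcard : Nat.card N = Nat.card Ω := Nat.card_eq_of_bijective (fun n : N => (n : G) • a)
    ⟨fun n n' e => Subtype.ext (hreg _ n.2 _ n'.2 e), fun b => by
      obtain ⟨n, hn, e⟩ := hN_tr b; exact ⟨⟨n, hn⟩, e⟩⟩
  have hcop : k.Coprime (Nat.card N) := by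
    let S : SubMulAction (stabilizer G a) Ω :=
      { carrier := {a}ᶜ
        smul_mem' := fun h x hx e => hx (by
          rw [Set.mem_singleton_iff] at e ⊢
          exact MulAction.injective (h : G) (e.trans (show (h : G) • a = a from h.2).symm)) }
    have hd : k ∣ Nat.card S := by
      haveI : Finite S := Subtype.finite
      haveI := Fintype.ofFinite (orbitRel.Quotient (stabilizer G a) S)
      rw [Nat.card_congr (selfEquivSigmaOrbitsQuotientStabilizer (stabilizer G a) S), Nat.card_sigma]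
      refine Finset.dvd_sum fun ω _ => ?_
      rw [← Subgroup.index_eq_card, SubMulAction.stabilizer_of_subMul, index_stabilizer, ← Nat.card_coe_set_eq,
        hhalf a ((ω.out : S) : Ω) b₀ (ω.out : S).2 hab.symm]
    have hS : Nat.card S = Nat.card Ω - 1 := by
      show Nat.card ↥(({a} : Set Ω)ᶜ) = _
      rw [Nat.card_coe_set_eq, Set.ncard_compl, Set.ncard_singleton]
    rw [hS] at hd
    rw [hNcard]
    have hΩ : 0 < Nat.card Ω := by rw [← hNcard]; exact Nat.card_pos
    refine Nat.coprime_of_dvd fun q hq h1 h2 => hq.ne_one (Nat.dvd_one.1 ?_)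
    have := Nat.dvd_sub h2 (h1.trans hd)
    rwa [Nat.sub_sub_self hΩ] at this
  have hcomm := commutative hN_tr hc hkc hcop hc1
  have hirr := irreducible hN_tr hc hkc hcop hc1
  have hN1 : Nat.card N ≠ 1 := fun e => by
    rw [hNcard, Nat.card_eq_one_iff_unique] at e
    exact hab (e.1.elim a b₀)
  refine ⟨?_, fun M hM hM0 => ?_⟩
  · obtain ⟨p, hp, hd⟩ := Nat.exists_prime_and_dvd hN1
    haveI := Fact.mk hp
    let P : Subgroup G :=
      { carrier := {x | x ∈ N ∧ x ^ p = 1}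
        one_mem' := ⟨one_mem N, one_pow p⟩
        mul_mem' := fun {x y} hx hy => ⟨mul_mem hx.1 hy.1,
          by rw [Commute.mul_pow (hcomm x hx.1 y hy.1), hx.2, hy.2, one_mul]⟩
        inv_mem' := fun {x} hx => ⟨inv_mem hx.1, by rw [inv_pow, hx.2, inv_one]⟩ }
    have hPn : P.Normal := ⟨fun x hx g => ⟨hN.conj_mem x hx.1 g, by
      rw [conj_pow, hx.2, mul_one, mul_inv_cancel]⟩⟩
    obtain ⟨x, hx⟩ := exists_prime_orderOf_dvd_card' p hd
    rcases hirr P (fun y hy => hy.1) hPn with h | h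
    · exfalso
      have hxP : (x : G) ∈ P := ⟨x.2, by rw [← hx, ← Subgroup.orderOf_coe, pow_orderOf_eq_one]⟩
      rw [h, Subgroup.mem_bot] at hxP
      rw [show x = 1 from Subtype.ext hxP, orderOf_one] at hx
      exact hp.ne_one hx.symm
    · exact ⟨p, hp, ⟨⟨fun x y => Subtype.ext (hcomm x x.2 y y.2)⟩⟩, fun y hy => (h.symm ▸ hy : y ∈ P).2⟩
  · rcases hirr (M ⊓ N) inf_le_right inferInstance with h | h
    · exfalso
      refine hM0 ((Subgroup.eq_bot_iff_forall _).2 fun m hm => ?_)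
      have hcen : ∀ n ∈ N, m * n = n * m := fun n hn => by
        have : m * n * m⁻¹ * n⁻¹ ∈ M ⊓ N := Subgroup.mem_inf.2 ⟨by
          rw [show m * n * m⁻¹ * n⁻¹ = m * (n * m⁻¹ * n⁻¹) by group]
          exact mul_mem hm (hM.conj_mem _ (inv_mem hm) n), mul_mem (hN.conj_mem n hn m) (inv_mem hn)⟩
        rw [h, Subgroup.mem_bot, mul_inv_eq_one, mul_inv_eq_iff_eq_mul] at this
        exact this
      obtain ⟨n, hn, e⟩ := hN_tr (m • a)
      have hnm : n = m := FaithfulSMul.eq_of_smul_eq_smul (α := Ω) fun b => by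
        obtain ⟨n', hn', rfl⟩ := hN_tr b
        rw [← mul_smul m, hcen n' hn', mul_smul, ← e, ← mul_smul, hcomm n hn n' hn', mul_smul]
      have hmN : m ∈ M ⊓ N := ⟨hm, hnm ▸ hn⟩
      rwa [h] at hmN
    · exact h.ge.trans inf_le_left

end CfsgLib.Char.HalfTransitive
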