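import Cfsg.Agent.Lib.Char.Brauer
import Cfsg.Agent.Lib.Invol.PrincipalBlock
import Cfsg.Agent.Lib.PGroup.FrobeniusCount
import Cfsg.Agent.Lib.PGroup.PiClasses

/-!
# The Brauer–Suzuki theorem on Hall subgroups controlling fusion
-/

set_option autoImplicit false
set_option linter.style.haveILetI false
set_option linter.unusedSectionVars false

open Cfsg
open scoped ComplexConjugate

namespace CfsgLib.Char.HallComplement

universe u

theorem isElementary_of_surjective {p : ℕ} {A B : Type u} [Group A] [Group B] [Finite A] (f : A →* B)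
    (hf : Function.Surjective f) (hp : p.Prime) (h : IsElementary p A) : IsElementary p B := by
  obtain ⟨x, hx, hcop, k, hk⟩ := h
  refine ⟨f x, Subgroup.mem_center_iff.2 fun b => ?_, Nat.Coprime.of_dvd_left (orderOf_map_dvd f x) hcop, ?_⟩
  · obtain ⟨a, rfl⟩ := hf b
    rw [← map_mul, ← map_mul, Subgroup.mem_center_iff.1 hx a]
  · have hd := Subgroup.index_map_dvd (H := Subgroup.zpowers x) hf
    rw [MonoidHom.map_zpowers, hk] at hd
    obtain ⟨j, -, hj⟩ := (Nat.dvd_prime_pow hp).1 hd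
    exact ⟨j, hj⟩

variable {G : Type u} [Group G] [Finite G] (H : Subgroup G)

/-- the exponent giving the `H`-part -/
noncomputable def piExp (hHall : Nat.Coprime (Nat.card H) H.index) : ℕ :=
  (Nat.chineseRemainder hHall 1 0).1

variable (hHall : Nat.Coprime (Nat.card H) H.index)
include hHall

theorem piExp_spec : piExp H hHall ≡ 1 [MOD Nat.card H] ∧ piExp H hHall ≡ 0 [MOD H.index] :=
  (Nat.chineseRemainder hHall 1 0).2

theorem pow_piExp_of_dvd {a : G} (ha : orderOf a ∣ Nat.card H) : a ^ piExp H hHall = a := by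
  conv_rhs => rw [← pow_one a]
  exact pow_eq_pow_iff_modEq.2 ((piExp_spec H hHall).1.of_dvd ha)

theorem pow_piExp_eq_one {a : G} (ha : orderOf a ∣ H.index) : a ^ piExp H hHall = 1 := by
  rw [← pow_zero a]
  exact pow_eq_pow_iff_modEq.2 ((piExp_spec H hHall).2.of_dvd ha)

theorem piExp_pow_card (g : G) : (g ^ piExp H hHall) ^ Nat.card H = 1 := by
  obtain ⟨c, hc⟩ := Nat.modEq_zero_iff_dvd.1 (piExp_spec H hHall).2
  rw [← pow_mul, hc, show H.index * c * Nat.card H = Nat.card H * H.index * c by ring,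
    Subgroup.card_mul_index, pow_mul, pow_card_eq_one', one_pow]

theorem piPart_conj (g c : G) : (c * g * c⁻¹) ^ piExp H hHall = c * g ^ piExp H hHall * c⁻¹ := conj_pow

theorem card_dvd_of_piSub (K : Subgroup G) (hK : ∀ a ∈ K, a ^ Nat.card H = 1) : Nat.card K ∣ Nat.card H := by
  have hd : Nat.card K ∣ Nat.card H * H.index := by
    rw [Subgroup.card_mul_index]; exact Subgroup.card_subgroup_dvd_card K
  refine Nat.Coprime.dvd_of_dvd_mul_right (Nat.coprime_of_dvd fun q hq h1 h2 => ?_) hd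
  haveI := Fact.mk hq
  obtain ⟨a, ha⟩ := exists_prime_orderOf_dvd_card' (G := K) q h1
  have h3 : q ∣ Nat.card H := ha ▸ orderOf_dvd_of_pow_eq_one (Subtype.ext (hK a a.2) : a ^ Nat.card H = 1)
  exact hq.one_lt.ne' (Nat.dvd_one.1 (hHall ▸ Nat.dvd_gcd h3 h2))

section

variable (helem : ∀ (E : Subgroup G) (p : ℕ), p.Prime → Cfsg.IsElementary p E → Nat.card E ∣ Nat.card H →
  ∃ g : G, E.map (MulAut.conj g).toMonoidHom ≤ H)
include helem

theorem exists_conj_sylow_aux {x : G} (hx : x ^ Nat.card H = 1) {p : ℕ} [Fact p.Prime] (hp : p ∣ Nat.card H)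
    (C : Subgroup G) (hxC : x ∈ C) (hcomC : ∀ c ∈ C, c * x = x * c) (P : Sylow p C) :
    ∃ g : G, g * x * g⁻¹ ∈ H ∧
      ((P : Subgroup C).map C.subtype).map (MulAut.conj g).toMonoidHom ≤ H := by
  obtain ⟨u, y, huy, hmul, ⟨e, hu⟩, -, hy, -⟩ := CfsgLib.PGroup.exists_split (⟨x, hxC⟩ : C) (Fact.out : p.Prime)
  obtain ⟨n, hn⟩ : ∃ n, orderOf (⟨x, hxC⟩ : C) = n := ⟨_, rfl⟩
  have hcen : (⟨x, hxC⟩ : C) ∈ Subgroup.center C := Subgroup.mem_center_iff.2 fun c => Subtype.ext
    (hcomC c c.2)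
  -- both parts are powers of `x`, hence central
  have hcomm : ∀ c : C, Commute c (⟨x, hxC⟩ : C) := fun c => Subgroup.mem_center_iff.1 hcen c
  have hucop : Nat.Coprime (orderOf u) (orderOf y) := Nat.Coprime.of_dvd_left hu
    (((Fact.out : p.Prime).coprime_iff_not_dvd.2 hy).pow_left e)
  have hzy : y ∈ Subgroup.zpowers (⟨x, hxC⟩ : C) ∧ u ∈ Subgroup.zpowers (⟨x, hxC⟩ : C) := by
    obtain ⟨a, ha1, ha0⟩ := Nat.chineseRemainder hucop 1 0
    obtain ⟨b, hb0, hb1⟩ := Nat.chineseRemainder hucop 0 1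
    refine ⟨⟨b, ?_⟩, ⟨a, ?_⟩⟩
    · show (⟨x, hxC⟩ : C) ^ (b : ℤ) = y
      rw [zpow_natCast, ← hmul, huy.mul_pow, show u ^ b = 1 by rw [← pow_zero u]; exact pow_eq_pow_iff_modEq.2 hb0,
        one_mul]
      conv_rhs => rw [← pow_one y]
      exact pow_eq_pow_iff_modEq.2 hb1
    · show (⟨x, hxC⟩ : C) ^ (a : ℤ) = u
      rw [zpow_natCast, ← hmul, huy.mul_pow, show y ^ a = 1 by rw [← pow_zero y]; exact pow_eq_pow_iff_modEq.2 ha0,
        mul_one]
      conv_rhs => rw [← pow_one u]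
      exact pow_eq_pow_iff_modEq.2 ha1
  have hyc : y ∈ Subgroup.center C := (Subgroup.zpowers_le.2 hcen) hzy.1
  have huc : u ∈ Subgroup.center C := (Subgroup.zpowers_le.2 hcen) hzy.2
  -- `u` lies in `P`
  have huP : u ∈ (P : Subgroup C) := by
    haveI : (Subgroup.zpowers u).Normal := ⟨fun a ha g => by
      have : a ∈ Subgroup.center C := Subgroup.zpowers_le.2 huc ha
      rwa [Subgroup.mem_center_iff.1 this g, mul_inv_cancel_right]⟩
    obtain ⟨j, -, hj⟩ := (Nat.dvd_prime_pow (Fact.out : p.Prime)).1 hu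
    have hpu : IsPGroup p (Subgroup.zpowers u) := IsPGroup.of_card (n := j) (by rw [Nat.card_zpowers, hj])
    have hsup := P.3 (IsPGroup.to_sup_of_normal_left hpu P.2) le_sup_right
    exact hsup.le (Subgroup.mem_sup_left (Subgroup.mem_zpowers u))
  obtain ⟨E0, hE0⟩ : ∃ E0 : Subgroup C, E0 = Subgroup.zpowers y ⊔ (P : Subgroup C) := ⟨_, rfl⟩
  have hym : y ∈ E0 := hE0 ▸ Subgroup.mem_sup_left (Subgroup.mem_zpowers y)
  obtain ⟨a, hPc⟩ := IsPGroup.iff_card.1 P.2
  have hidx : ∃ k, (Subgroup.zpowers (⟨y, hym⟩ : E0)).index = p ^ k := by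
    have hYn : (Subgroup.zpowers y).Normal := ⟨fun a ha g => by
      have : a ∈ Subgroup.center C := Subgroup.zpowers_le.2 hyc ha
      rwa [Subgroup.mem_center_iff.1 this g, mul_inv_cancel_right]⟩
    have e1 : (Subgroup.zpowers (⟨y, hym⟩ : E0)).index = (Subgroup.zpowers y).relIndex E0 := by
      rw [Subgroup.relIndex]
      congr 1
      rw [← Subgroup.comap_subtype, ← Subgroup.comap_map_eq_self_of_injective E0.subtype_injective
        (Subgroup.zpowers (⟨y, hym⟩ : E0)), MonoidHom.map_zpowers]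
      rfl
    rw [e1, hE0, sup_comm, Subgroup.relIndex_sup_right]
    have hd := Subgroup.relIndex_dvd_card (Subgroup.zpowers y) (P : Subgroup C)
    rw [hPc] at hd
    obtain ⟨k, -, hk⟩ := (Nat.dvd_prime_pow Fact.out).1 hd
    exact ⟨k, hk⟩
  have helE0 : IsElementary p E0 := ⟨⟨y, hym⟩, Subgroup.mem_center_iff.2 fun c => Subtype.ext
    (Subgroup.mem_center_iff.1 hyc c.1), by
      rw [← Subgroup.orderOf_coe]
      exact Nat.Coprime.symm ((Fact.out : p.Prime).coprime_iff_not_dvd.2 hy), hidx⟩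
  have hxE : (⟨x, hxC⟩ : C) ∈ E0 := by
    rw [← hmul, hE0]
    exact Subgroup.mul_mem _ (Subgroup.mem_sup_right huP) (Subgroup.mem_sup_left (Subgroup.mem_zpowers y))
  obtain ⟨E, hE⟩ : ∃ E : Subgroup G, E = E0.map C.subtype := ⟨_, rfl⟩
  have helE : IsElementary p E := hE ▸ isElementary_map_subtype E0 helE0
  have hyx : (y : G) ^ Nat.card H = 1 := by
    obtain ⟨i, hi⟩ := hzy.1
    rw [← hi, Subgroup.coe_zpow, ← zpow_natCast, ← zpow_mul, mul_comm, zpow_mul, zpow_natCast]
    show (x ^ Nat.card H) ^ i = 1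
    rw [hx, one_zpow]
  have hEc : Nat.card E ∣ Nat.card H := by
    refine card_dvd_of_piSub H hHall E ?_
    rw [hE]
    rintro _ ⟨w, hw, rfl⟩
    haveI : (Subgroup.zpowers y).Normal := ⟨fun a ha g => by
      have : a ∈ Subgroup.center C := Subgroup.zpowers_le.2 hyc ha
      rwa [Subgroup.mem_center_iff.1 this g, mul_inv_cancel_right]⟩
    obtain ⟨v, hv, z, hz, rfl⟩ := Subgroup.mem_sup_of_normal_left.1 (hE0 ▸ hw : w ∈ Subgroup.zpowers y ⊔ (P : Subgroup C))
    have hvc : v ∈ Subgroup.center C := Subgroup.zpowers_le.2 hyc hv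
    show ((v * z : C) : G) ^ Nat.card H = 1
    rw [Subgroup.coe_mul, (show Commute (v : G) (z : G) from
      congrArg Subtype.val (Subgroup.mem_center_iff.1 hvc z).symm).mul_pow]
    obtain ⟨i, rfl⟩ := hv
    rw [Subgroup.coe_zpow, ← zpow_natCast, ← zpow_mul, mul_comm, zpow_mul, zpow_natCast, hyx, one_zpow, one_mul]
    have hzo : orderOf (z : G) ∣ p ^ a := by
      rw [Subgroup.orderOf_coe, ← Subgroup.orderOf_mk z hz, ← hPc]
      exact orderOf_dvd_natCard _
    have hpa : p ^ a ∣ Nat.card H := by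
      have h1 : p ^ a ∣ Nat.card H * H.index := by
        rw [Subgroup.card_mul_index, ← hPc]
        exact (Subgroup.card_subgroup_dvd_card _).trans (Subgroup.card_subgroup_dvd_card _)
      refine Nat.Coprime.dvd_of_dvd_mul_right (Nat.Coprime.pow_left a ?_) h1
      exact Nat.Coprime.of_dvd_left hp hHall
    exact orderOf_dvd_iff_pow_eq_one.1 (hzo.trans hpa)
  obtain ⟨g, hg⟩ := helem E p Fact.out helE hEc
  refine ⟨g, hg ⟨x, hE ▸ ⟨⟨x, hxC⟩, hxE, rfl⟩, rfl⟩, le_trans (Subgroup.map_mono ?_) hg⟩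
  rw [hE, hE0]
  exact Subgroup.map_mono le_sup_right

/-- A π-element and a Sylow subgroup of its centraliser conjugate into `H`. -/
theorem exists_conj_sylow {x : G} (hx : x ^ Nat.card H = 1) {p : ℕ} [Fact p.Prime] (hp : p ∣ Nat.card H)
    (P : Sylow p (Subgroup.centralizer ({x} : Set G))) :
    ∃ g : G, g * x * g⁻¹ ∈ H ∧
      ((P : Subgroup (Subgroup.centralizer ({x} : Set G))).map (Subgroup.centralizer ({x} : Set G)).subtype).map
        (MulAut.conj g).toMonoidHom ≤ H := by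
  exact exists_conj_sylow_aux H hHall helem hx hp (Subgroup.centralizer ({x} : Set G))
    (Subgroup.mem_centralizer_iff.2 fun y hy => by rw [Set.mem_singleton_iff] at hy; rw [hy])
    (fun c hc => (Subgroup.mem_centralizer_iff.1 hc x rfl).symm) P

theorem exists_conj_mem {x : G} (hx : x ^ Nat.card H = 1) : ∃ g : G, g * x * g⁻¹ ∈ H := by
  rcases eq_or_ne (Nat.card H) 1 with h | h
  · exact ⟨1, by rw [h, pow_one] at hx; rw [hx]; simp⟩
  · haveI := Fact.mk (Nat.minFac_prime h)
    obtain ⟨g, hg, -⟩ := exists_conj_sylow H hHall helem hx (p := (Nat.card H).minFac) (Nat.minFac_dvd _) default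
    exact ⟨g, hg⟩

variable (hfus : ∀ x ∈ H, ∀ y ∈ H, IsConj x y → ∃ h ∈ H, h * x * h⁻¹ = y)
include hfus

/-- the centraliser in `G` is `r` times the one in `H`, with `r` dividing the index -/
theorem exists_centralizer_index (h : G) (hh : h ∈ H) : ∃ r : ℕ, r ∣ H.index ∧
    Nat.card (Subgroup.centralizer ({h} : Set G)) =
      Nat.card (Subgroup.centralizer ({h} : Set G) ⊓ H : Subgroup G) * r := by
  set C := Subgroup.centralizer ({h} : Set G) with hC
  obtain ⟨r, hr⟩ := Subgroup.card_dvd_of_le (inf_le_left : C ⊓ H ≤ C)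
  refine ⟨r, ?_, hr⟩
  have hrG : r ∣ Nat.card H * H.index := by
    rw [Subgroup.card_mul_index]
    exact (Dvd.intro_left _ hr.symm).trans (Subgroup.card_subgroup_dvd_card C)
  refine Nat.Coprime.dvd_of_dvd_mul_left (Nat.coprime_of_dvd fun p hp h1 h2 => ?_) hrG
  haveI := Fact.mk hp
  have hh1 : h ^ Nat.card H = 1 := congrArg Subtype.val (pow_card_eq_one' (x := (⟨h, hh⟩ : H)))
  let P : Sylow p C := default
  obtain ⟨g, hg, hgP⟩ := exists_conj_sylow H hHall helem hh1 h2 P
  obtain ⟨k, hk, hkh⟩ := hfus h hh _ hg (isConj_iff.2 ⟨g, rfl⟩)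
  have hle : ((P : Subgroup C).map C.subtype).map (MulAut.conj (k⁻¹ * g)).toMonoidHom ≤ C ⊓ H := by
    rintro _ ⟨_, ⟨w, hw, rfl⟩, rfl⟩
    refine ⟨?_, ?_⟩
    · refine Subgroup.mem_centralizer_iff.2 fun z hz => ?_
      rw [Set.mem_singleton_iff] at hz
      subst hz
      have hwh : (w : G) * z = z * (w : G) := (Subgroup.mem_centralizer_iff.1 w.2 z rfl).symm
      have e : (k⁻¹ * g) * z * (k⁻¹ * g)⁻¹ = z := by
        rw [show (k⁻¹ * g) * z * (k⁻¹ * g)⁻¹ = k⁻¹ * (g * z * g⁻¹) * k by group, ← hkh]; group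
      show z * ((k⁻¹ * g) * w * (k⁻¹ * g)⁻¹) = ((k⁻¹ * g) * w * (k⁻¹ * g)⁻¹) * z
      calc z * ((k⁻¹ * g) * w * (k⁻¹ * g)⁻¹)
          = ((k⁻¹ * g) * z * (k⁻¹ * g)⁻¹) * ((k⁻¹ * g) * w * (k⁻¹ * g)⁻¹) := by rw [e]
        _ = (k⁻¹ * g) * (z * w) * (k⁻¹ * g)⁻¹ := by group
        _ = (k⁻¹ * g) * (w * z) * (k⁻¹ * g)⁻¹ := by rw [hwh]
        _ = ((k⁻¹ * g) * w * (k⁻¹ * g)⁻¹) * ((k⁻¹ * g) * z * (k⁻¹ * g)⁻¹) := by group
        _ = ((k⁻¹ * g) * w * (k⁻¹ * g)⁻¹) * z := by rw [e]
    · have := hgP ⟨_, ⟨w, hw, rfl⟩, rfl⟩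
      show (k⁻¹ * g) * w * (k⁻¹ * g)⁻¹ ∈ H
      rw [show (k⁻¹ * g) * (w : G) * (k⁻¹ * g)⁻¹ = k⁻¹ * (g * w * g⁻¹) * k by group]
      exact H.mul_mem (H.mul_mem (H.inv_mem hk) this) hk
  have hPd : Nat.card (P : Subgroup C) ∣ Nat.card (C ⊓ H : Subgroup G) := by
    have := Subgroup.card_dvd_of_le hle
    rwa [Subgroup.card_map_of_injective (MulAut.conj (k⁻¹ * g)).injective,
      Subgroup.card_map_of_injective C.subtype_injective] at this
  rw [Sylow.card_eq_multiplicity, hr, Nat.factorization_mul Nat.card_pos.ne' (fun e => by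
    rw [e, mul_zero] at hr; exact Nat.card_pos.ne' hr), Finsupp.add_apply,
    hp.pow_dvd_iff_le_factorization Nat.card_pos.ne'] at hPd
  have hr0 : r ≠ 0 := fun e => by rw [e, mul_zero] at hr; exact Nat.card_pos.ne' hr
  have := hp.factorization_pos_of_dvd hr0 h1
  omega

/-- the number of `c` with `c⁻¹ x c ∈ H`, for `x` conjugate to `h` -/
theorem card_into (h : G) (hh : h ∈ H) (c₀ : G) :
    Nat.card {c : G // c⁻¹ * (c₀ * h * c₀⁻¹) * c ∈ H} *
        Nat.card (Subgroup.centralizer ({h} : Set G) ⊓ H : Subgroup G) =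
      Nat.card (Subgroup.centralizer ({h} : Set G)) * Nat.card H := by
  classical
  set C := Subgroup.centralizer ({h} : Set G) with hC
  have hch : ∀ d ∈ C, d⁻¹ * h * d = h := fun d hd => by
    rw [mul_assoc, Subgroup.mem_centralizer_iff.1 hd h rfl, inv_mul_cancel_left]
  let F : C × H → {c : G // c⁻¹ * (c₀ * h * c₀⁻¹) * c ∈ H} := fun p => ⟨c₀ * p.1 * p.2, by
    rw [show (c₀ * (p.1 : G) * p.2)⁻¹ * (c₀ * h * c₀⁻¹) * (c₀ * p.1 * p.2) =
      (p.2 : G)⁻¹ * ((p.1 : G)⁻¹ * h * p.1) * p.2 by group, hch _ p.1.2]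
    exact H.mul_mem (H.mul_mem (H.inv_mem p.2.2) hh) p.2.2⟩
  have hsurj : ∀ c, ∃ p, F p = c := by
    rintro ⟨c, hc⟩
    obtain ⟨k, hk, hkh⟩ := hfus h hh _ hc (isConj_iff.2 ⟨c⁻¹ * c₀, by group⟩)
    have hd : c₀⁻¹ * c * k ∈ C := by
      refine Subgroup.mem_centralizer_iff.2 fun z hz => ?_
      rw [Set.mem_singleton_iff] at hz
      subst hz
      calc z * (c₀⁻¹ * c * k) = c₀⁻¹ * c * (c⁻¹ * (c₀ * z * c₀⁻¹) * c) * k := by group
        _ = c₀⁻¹ * c * (k * z * k⁻¹) * k := by rw [hkh]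
        _ = c₀⁻¹ * c * k * z := by group
    exact ⟨(⟨_, hd⟩, ⟨k⁻¹, H.inv_mem hk⟩), Subtype.ext (by show c₀ * (c₀⁻¹ * c * k) * k⁻¹ = c; group)⟩
  choose sec hsec using hsurj
  let e : C × H ≃ {c : G // c⁻¹ * (c₀ * h * c₀⁻¹) * c ∈ H} × (C ⊓ H : Subgroup G) :=
    { toFun := fun p => (F p, ⟨(sec (F p)).1⁻¹ * p.1, by
        refine ⟨C.mul_mem (C.inv_mem (sec (F p)).1.2) p.1.2, ?_⟩
        have e : c₀ * ((sec (F p)).1 : G) * (sec (F p)).2 = c₀ * p.1 * p.2 := congrArg Subtype.val (hsec (F p))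
        rw [mul_assoc, mul_assoc, mul_right_inj] at e
        show ((sec (F p)).1 : G)⁻¹ * (p.1 : G) ∈ H
        rw [show ((sec (F p)).1 : G)⁻¹ * (p.1 : G) = ((sec (F p)).2 : G) * (p.2 : G)⁻¹ by
          rw [eq_mul_inv_iff_mul_eq, mul_assoc, ← e, inv_mul_cancel_left]]
        exact H.mul_mem (sec (F p)).2.2 (H.inv_mem p.2.2)⟩)
      invFun := fun q => (⟨(sec q.1).1 * (q.2 : G), C.mul_mem (sec q.1).1.2 q.2.2.1⟩,
        ⟨(q.2 : G)⁻¹ * (sec q.1).2, H.mul_mem (H.inv_mem q.2.2.2) (sec q.1).2.2⟩)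
      left_inv := fun p => by
        have e : c₀ * ((sec (F p)).1 : G) * (sec (F p)).2 = c₀ * p.1 * p.2 := congrArg Subtype.val (hsec (F p))
        rw [mul_assoc, mul_assoc, mul_right_inj] at e
        refine Prod.ext (Subtype.ext ?_) (Subtype.ext ?_)
        · show ((sec (F p)).1 : G) * (((sec (F p)).1 : G)⁻¹ * p.1) = p.1
          group
        · show (((sec (F p)).1 : G)⁻¹ * p.1)⁻¹ * (sec (F p)).2 = p.2
          rw [mul_inv_rev, inv_inv, mul_assoc, e, inv_mul_cancel_left]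
      right_inv := fun q => by
        have hF : F (⟨(sec q.1).1 * (q.2 : G), C.mul_mem (sec q.1).1.2 q.2.2.1⟩,
            ⟨(q.2 : G)⁻¹ * (sec q.1).2, H.mul_mem (H.inv_mem q.2.2.2) (sec q.1).2.2⟩) = q.1 := by
          refine Subtype.ext ?_
          show c₀ * (((sec q.1).1 : G) * q.2) * ((q.2 : G)⁻¹ * (sec q.1).2) = q.1
          rw [show c₀ * (((sec q.1).1 : G) * q.2) * ((q.2 : G)⁻¹ * (sec q.1).2) =
            c₀ * (sec q.1).1 * (sec q.1).2 by group]
          exact congrArg Subtype.val (hsec q.1)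
        refine Prod.ext hF (Subtype.ext ?_)
        show ((sec (F _)).1 : G)⁻¹ * ((sec q.1).1 * (q.2 : G)) = q.2
        rw [hF, inv_mul_cancel_left] }
  rw [← Nat.card_prod, ← Nat.card_prod, Nat.card_congr e]

/-- Brauer–Suzuki -/
theorem exists_complement : ∃ K : Subgroup G, K.Normal ∧ K ⊔ H = ⊤ ∧ K ⊓ H = ⊥ := by
  classical
  haveI : Fintype G := Fintype.ofFinite G
  set e := piExp H hHall with he
  choose cj hcj using fun g : G => exists_conj_mem H hHall helem (piExp_pow_card H hHall g)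
  let hp : G → H := fun g => ⟨cj g * g ^ e * (cj g)⁻¹, hcj g⟩
  choose r hr1 hr2 using fun h : H => exists_centralizer_index H hHall helem hfus h h.2
  have hrpos : ∀ h, 0 < r h := fun h => Nat.pos_of_ne_zero fun e0 => by
    have := hr2 h; rw [e0, mul_zero] at this; exact Nat.card_pos.ne' this
  let S : H → Finset G := fun h => Finset.univ.filter fun g => g ^ e = h
  -- lower bound for sections
  have hSle : ∀ h : H, r h ≤ (S h).card := by
    intro h
    set C := Subgroup.centralizer ({(h : G)} : Set G) with hC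
    have hd : r h ∣ Nat.card C := Dvd.intro_left _ (hr2 h).symm
    have hF : r h ∣ Nat.card {b : C // b ^ r h = 1} := by
      have h0 := CfsgLib.PGroup.hall_card_roots_aux _ C rfl (r h) 1
      simp only [isConj_one_right] at h0
      rw [Nat.card_unique, one_mul, Nat.gcd_eq_left hd] at h0
      simpa [eq_comm] using h0
    have hne : Nonempty {b : C // b ^ r h = 1} := ⟨⟨1, one_pow _⟩⟩
    refine (Nat.le_of_dvd Nat.card_pos hF).trans ?_
    rw [← Fintype.card_coe, ← Nat.card_eq_fintype_card]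
    refine Nat.card_le_card_of_injective (fun b => ⟨(h : G) * (b.1 : G), ?_⟩) fun b b' hb => ?_
    · rw [Finset.mem_filter]
      refine ⟨Finset.mem_univ _, ?_⟩
      have hc : Commute (h : G) (b.1 : G) := Subgroup.mem_centralizer_iff.1 b.1.2 h rfl
      rw [hc.mul_pow, he, pow_piExp_of_dvd H hHall (Subgroup.orderOf_coe h ▸ orderOf_dvd_natCard h),
        pow_piExp_eq_one H hHall ((orderOf_dvd_of_pow_eq_one (congrArg Subtype.val b.2)).trans (hr1 h)), mul_one]
    · exact Subtype.ext (Subtype.ext (mul_left_cancel (congrArg Subtype.val hb)))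
  -- invariance of `r`
  have hconjH : ∀ g g' : G, (∃ c, c * g ^ e * c⁻¹ = g' ^ e) → ∃ k : H, k * hp g * k⁻¹ = hp g' := by
    rintro g g' ⟨c, hc⟩
    obtain ⟨k, hk, hkh⟩ := hfus _ (hp g).2 _ (hp g').2 (isConj_iff.2 ⟨cj g' * c * (cj g)⁻¹, by
      show cj g' * c * (cj g)⁻¹ * (cj g * g ^ e * (cj g)⁻¹) * (cj g' * c * (cj g)⁻¹)⁻¹ = cj g' * g' ^ e * (cj g')⁻¹
      rw [← hc]; group⟩)
    exact ⟨⟨k, hk⟩, Subtype.ext hkh⟩
  -- the transfer formula
  have hsum : ∀ f : H → ℂ, (∀ a b : H, f (b * a * b⁻¹) = f a) →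
      (Nat.card G : ℂ) * ∑ h : H, ((S h).card : ℂ) / (r h : ℂ) * f h =
        (Nat.card H : ℂ) * ∑ g : G, f (hp g) := by
    intro f hf
    have hrinv : ∀ a b : H, r (b * a * b⁻¹) = r a := by
      intro a b
      have hcC : ∀ (K : Subgroup G), (∀ x : G, x ∈ K ↔ (b : G) * x * (b : G)⁻¹ ∈ K) →
          Nat.card (Subgroup.centralizer ({((b * a * b⁻¹ : H) : G)} : Set G) ⊓ K : Subgroup G) =
          Nat.card (Subgroup.centralizer ({(a : G)} : Set G) ⊓ K : Subgroup G) := by
        intro K hK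
        refine Eq.trans ?_ (Subgroup.card_map_of_injective (f := (MulAut.conj (b : G)).toMonoidHom)
          (MulAut.conj (b : G)).injective)
        congr 1
        congr 1
        ext x
        rw [Subgroup.mem_map_equiv]
        simp only [Subgroup.mem_inf, Subgroup.mem_centralizer_singleton_iff, MulAut.conj_symm_apply,
          Subgroup.coe_mul, InvMemClass.coe_inv]
        refine and_congr ⟨fun h0 => ?_, fun h0 => ?_⟩ ?_
        · calc (b : G)⁻¹ * x * b * a = (b : G)⁻¹ * (x * (b * a * (b : G)⁻¹)) * b := by group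
            _ = (b : G)⁻¹ * (b * a * (b : G)⁻¹ * x) * b := by rw [h0]
            _ = a * ((b : G)⁻¹ * x * b) := by group
        · calc x * (b * a * (b : G)⁻¹) = b * (((b : G)⁻¹ * x * b) * a) * (b : G)⁻¹ := by group
            _ = b * (a * ((b : G)⁻¹ * x * b)) * (b : G)⁻¹ := by rw [h0]
            _ = b * a * (b : G)⁻¹ * x := by group
        · rw [hK ((b : G)⁻¹ * x * b)]
          simp [mul_assoc]
      have h1 := hcC H fun x => ⟨fun hx => H.mul_mem (H.mul_mem b.2 hx) (H.inv_mem b.2), fun hx => by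
        rw [show x = (b : G)⁻¹ * (b * x * (b : G)⁻¹) * b by group]
        exact H.mul_mem (H.mul_mem (H.inv_mem b.2) hx) b.2⟩
      have h2 := hcC ⊤ (fun x => by simp)
      rw [inf_top_eq, inf_top_eq, hr2, hr2, h1] at h2
      exact Nat.eq_of_mul_eq_mul_left Nat.card_pos h2
    let F : H → ℂ := fun h => f h / (r h : ℂ)
    have hFc : ∀ g : G, ∀ c : G, ∀ hc : c⁻¹ * g ^ e * c ∈ H, F ⟨c⁻¹ * g ^ e * c, hc⟩ = F (hp g) := by
      intro g c hc
      obtain ⟨k, hk, hkh⟩ := hfus _ (hp g).2 _ hc (isConj_iff.2 ⟨c⁻¹ * (cj g)⁻¹, by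
        show c⁻¹ * (cj g)⁻¹ * (cj g * g ^ e * (cj g)⁻¹) * (c⁻¹ * (cj g)⁻¹)⁻¹ = c⁻¹ * g ^ e * c
        group⟩)
      rw [show (⟨c⁻¹ * g ^ e * c, hc⟩ : H) = ⟨k, hk⟩ * hp g * (⟨k, hk⟩ : H)⁻¹ from Subtype.ext hkh.symm]
      simp only [F, hf, hrinv]
    have hfib : ∀ g : G, ((Finset.univ.filter fun c : G => c⁻¹ * g ^ e * c ∈ H).card : ℂ) =
        (r (hp g) : ℂ) * (Nat.card H : ℂ) := by
      intro g
      have h0 := card_into H hHall helem hfus (hp g) (hp g).2 (cj g)⁻¹
      rw [show (cj g)⁻¹ * (hp g : G) * (cj g)⁻¹⁻¹ = g ^ e by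
        show (cj g)⁻¹ * (cj g * g ^ e * (cj g)⁻¹) * (cj g)⁻¹⁻¹ = g ^ e
        group, hr2] at h0
      have h1 : Nat.card {c : G // c⁻¹ * g ^ e * c ∈ H} = r (hp g) * Nat.card H :=
        Nat.eq_of_mul_eq_mul_right Nat.card_pos (h0.trans (by ring))
      rw [Nat.card_eq_fintype_card (α := {c : G // c⁻¹ * g ^ e * c ∈ H}), Fintype.card_subtype] at h1
      rw [h1]; push_cast; rfl
    -- double counting of pairs `(g, c)`
    let X : G → G → ℂ := fun g c => if hc : c⁻¹ * g ^ e * c ∈ H then F ⟨_, hc⟩ else 0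
    have e1 : ∀ g, ∑ c, X g c = (Nat.card H : ℂ) * f (hp g) := by
      intro g
      rw [Finset.sum_congr rfl (fun c _ => show X g c = if c⁻¹ * g ^ e * c ∈ H then F (hp g) else 0 by
        simp only [X]; split_ifs with hc
        · exact hFc g c hc
        · rfl), ← Finset.sum_filter, Finset.sum_const, nsmul_eq_mul, hfib]
      simp only [F]
      have : (r (hp g) : ℂ) ≠ 0 := Nat.cast_ne_zero.2 (hrpos _).ne'
      field_simp
    have e2 : ∀ c, ∑ g, X g c = ∑ h : H, ((S h).card : ℂ) * F h := by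
      intro c
      rw [← Equiv.sum_comp (MulAut.conj c).toEquiv]
      have : ∀ g, X ((MulAut.conj c).toEquiv g) c = ∑ h : H, if g ^ e = h then F h else 0 := by
        intro g
        show X (c * g * c⁻¹) c = _
        have hg : c⁻¹ * (c * g * c⁻¹) ^ e * c = g ^ e := by rw [conj_pow]; group
        simp only [X]
        by_cases hm : g ^ e ∈ H
        · rw [dif_pos (hg.symm ▸ hm), Finset.sum_eq_single (⟨g ^ e, hm⟩ : H)
            (fun h _ hne => if_neg fun e' => hne (Subtype.ext e'.symm)) (fun h => absurd (Finset.mem_univ _) h),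
            if_pos rfl]
          exact congrArg F (Subtype.ext hg)
        · rw [dif_neg (fun h => hm (hg ▸ h)), Finset.sum_eq_zero]
          exact fun h _ => if_neg fun (e' : g ^ e = (h : G)) => hm (e' ▸ h.2)
      rw [Finset.sum_congr rfl fun g _ => this g, Finset.sum_comm]
      refine Finset.sum_congr rfl fun h _ => ?_
      rw [← Finset.sum_filter, Finset.sum_const, nsmul_eq_mul]
    calc (Nat.card G : ℂ) * ∑ h : H, ((S h).card : ℂ) / (r h : ℂ) * f h
        = ∑ _c : G, ∑ h : H, ((S h).card : ℂ) * F h := by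
          rw [Finset.sum_const, Finset.card_univ, nsmul_eq_mul, ← Nat.card_eq_fintype_card]
          congr 1
          exact Finset.sum_congr rfl fun h _ => by simp only [F]; ring
      _ = ∑ c : G, ∑ g : G, X g c := Finset.sum_congr rfl fun c _ => (e2 c).symm
      _ = ∑ g : G, ∑ c : G, X g c := Finset.sum_comm
      _ = (Nat.card H : ℂ) * ∑ g : G, f (hp g) := by
          rw [Finset.mul_sum]; exact Finset.sum_congr rfl fun g _ => e1 g
  -- the sections have exact size
  have hSeq : ∀ h : H, (S h).card = r h := by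
    have h1 := hsum (fun _ => 1) fun _ _ => rfl
    simp only [mul_one, Finset.sum_const, Finset.card_univ, nsmul_eq_mul, ← Nat.card_eq_fintype_card] at h1
    have h2 : ∑ h : H, ((S h).card : ℂ) / (r h : ℂ) = (Nat.card H : ℂ) := by
      have hG : (Nat.card G : ℂ) ≠ 0 := Nat.cast_ne_zero.2 Nat.card_pos.ne'
      exact mul_left_cancel₀ hG (h1.trans (mul_comm _ _))
    have h3 : ∑ h : H, ((S h).card : ℝ) / (r h : ℝ) = ∑ _h : H, (1 : ℝ) := by
      rw [Finset.sum_const, Finset.card_univ, nsmul_eq_mul, mul_one, ← Nat.card_eq_fintype_card]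
      apply Complex.ofReal_injective
      push_cast
      exact h2
    intro h
    have h4 := (Finset.sum_eq_sum_iff_of_le (fun h _ => show (1 : ℝ) ≤ ((S h).card : ℝ) / (r h : ℝ) by
      rw [le_div_iff₀ (by exact_mod_cast hrpos h), one_mul]; exact_mod_cast hSle h)).1 h3.symm h (Finset.mem_univ _)
    rw [eq_div_iff (by exact_mod_cast (hrpos h).ne'), one_mul] at h4
    exact_mod_cast h4.symm
  -- extensions of irreducible characters
  have hext : ∀ θ : IrrCharacter H, ∃ χ : IrrCharacter G, ∀ g, (χ : G → ℂ) g = (θ : H → ℂ) (hp g) := by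
    intro θ
    have hθc := isClassFunction_irr θ
    have hcf : IsClassFunction G (fun g => (θ : H → ℂ) (hp g)) := by
      intro g k
      obtain ⟨c, hc⟩ := hconjH g (k * g * k⁻¹) ⟨k, (conj_pow).symm⟩
      show (θ : H → ℂ) (hp (k * g * k⁻¹)) = (θ : H → ℂ) (hp g)
      rw [← hc, hθc]
    have hgen : IsGeneralizedCharacter G (fun g => (θ : H → ℂ) (hp g)) := by
      refine isGeneralizedCharacter_of_elementary hcf fun E p hp' hE => ?_
      obtain ⟨y, hy, hcop, k, hk⟩ := id hE
      haveI := Fact.mk hp'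
      haveI : (Subgroup.zpowers y).Normal := ⟨fun a ha g => by
        rwa [Subgroup.mem_center_iff.1 (Subgroup.zpowers_le.2 hy ha) g, mul_inv_cancel_right]⟩
      let P : Sylow p E := default
      haveI := isNilpotent_of_isElementary hp' hE
      have hPn : (P : Subgroup E).Normal := Sylow.normal_of_normalizerCondition Group.normalizerCondition_of_isNilpotent P
      have hPtop : Subgroup.zpowers y ⊔ (P : Subgroup E) = ⊤ := by
        refine Subgroup.eq_top_of_card_eq _ (Nat.dvd_antisymm (Subgroup.card_subgroup_dvd_card _) ?_)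
        have hcard : Nat.card E = orderOf y * p ^ k := by
          rw [← Subgroup.card_mul_index (Subgroup.zpowers y), hk, Nat.card_zpowers]
        have hPk : Nat.card (P : Subgroup E) = p ^ k := by
          rw [Sylow.card_eq_multiplicity, hcard, Nat.factorization_mul (orderOf_pos y).ne' (pow_pos hp'.pos k).ne',
            Finsupp.add_apply, Nat.factorization_eq_zero_of_not_dvd (hp'.coprime_iff_not_dvd.1 hcop.symm), zero_add,
            Nat.Prime.factorization_pow hp', Finsupp.single_eq_same]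
        rw [hcard]
        refine Nat.Coprime.mul_dvd_of_dvd_of_dvd (hcop.pow_right k) ?_ ?_
        · rw [← Nat.card_zpowers y]; exact Subgroup.card_dvd_of_le le_sup_left
        · rw [← hPk]; exact Subgroup.card_dvd_of_le le_sup_right
      have hsplit : ∀ a : E, ∃ i : ℤ, ∃ u ∈ (P : Subgroup E), a = y ^ i * u := fun a => by
        obtain ⟨v, hv, u, hu, rfl⟩ := Subgroup.mem_sup_of_normal_left.1
          (hPtop.symm ▸ Subgroup.mem_top a : a ∈ Subgroup.zpowers y ⊔ (P : Subgroup E))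
        obtain ⟨i, rfl⟩ := hv
        exact ⟨i, u, hu, rfl⟩
      have hyC : ∀ (i : ℤ) (u : E), Commute (y ^ i) u := fun i u => Commute.zpow_left
        (show Commute y u from (Subgroup.mem_center_iff.1 hy u).symm) i
      -- on `P` the power map is trivial or the identity
      have hPpow : (∀ u ∈ (P : Subgroup E), u ^ e = u) ∨ (∀ u ∈ (P : Subgroup E), u ^ e = 1) := by
        obtain ⟨j, hj⟩ := IsPGroup.iff_card.1 P.2
        have hd : p ^ j ∣ Nat.card H * H.index := by
          rw [Subgroup.card_mul_index, ← hj]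
          exact (Subgroup.card_subgroup_dvd_card _).trans (Subgroup.card_subgroup_dvd_card _)
        have ho : ∀ u ∈ (P : Subgroup E), orderOf (u : G) ∣ p ^ j := fun u hu => by
          rw [Subgroup.orderOf_coe, ← Subgroup.orderOf_mk u hu, ← hj]
          exact orderOf_dvd_natCard _
        by_cases hpH : p ∣ H.index
        · right
          intro u hu
          have : p ^ j ∣ H.index := Nat.Coprime.dvd_of_dvd_mul_left
            (Nat.Coprime.pow_left j (Nat.Coprime.of_dvd_left hpH hHall.symm)) hd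
          exact Subtype.ext (pow_piExp_eq_one H hHall ((ho u hu).trans this))
        · left
          intro u hu
          have : p ^ j ∣ Nat.card H := Nat.Coprime.dvd_of_dvd_mul_right
            (Nat.Coprime.pow_left j (hp'.coprime_iff_not_dvd.2 hpH)) hd
          exact Subtype.ext (pow_piExp_of_dvd H hHall ((ho u hu).trans this))
      let f : E →* G :=
        { toFun := fun a => ((a ^ e : E) : G)
          map_one' := by rw [one_pow]; rfl
          map_mul' := fun a b => by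
            rw [← Subgroup.coe_mul]
            congr 1
            obtain ⟨i, u, hu, rfl⟩ := hsplit a
            obtain ⟨j, v, hv, rfl⟩ := hsplit b
            rw [show y ^ i * u * (y ^ j * v) = y ^ (i + j) * (u * v) by
              rw [mul_assoc, ← mul_assoc u, ← (hyC j u).eq, zpow_add, mul_assoc, mul_assoc],
              (hyC _ _).mul_pow, (hyC _ _).mul_pow, (hyC _ _).mul_pow]
            have hy' : (y ^ (i + j)) ^ e = (y ^ i) ^ e * (y ^ j) ^ e := by
              rw [zpow_add, (hyC i (y ^ j)).mul_pow]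
            have hPe : (u * v) ^ e = u ^ e * v ^ e := by
              rcases hPpow with hc | hc <;> rw [hc _ hu, hc _ hv, hc _ (mul_mem hu hv)]
              rw [one_mul]
            rw [hy', hPe, mul_assoc, mul_assoc, ← mul_assoc ((y ^ j) ^ e),
              show (y ^ j) ^ e * u ^ e = u ^ e * (y ^ j) ^ e from
                ((hyC j u).pow_pow e e).eq, mul_assoc] }
      have hEl : IsElementary p f.range :=
        isElementary_of_surjective f.rangeRestrict f.rangeRestrict_surjective hp' hE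
      obtain ⟨g0, hg0⟩ := helem f.range p hp' hEl (card_dvd_of_piSub H hHall _ (by
        rintro _ ⟨a, rfl⟩
        show ((a ^ e : E) : G) ^ Nat.card H = 1
        rw [SubmonoidClass.coe_pow]
        exact piExp_pow_card H hHall _))
      let ψ : E →* H := ((MulAut.conj g0).toMonoidHom.comp f).codRestrict H fun a => hg0 ⟨f a, ⟨a, rfl⟩, rfl⟩
      have heq : (fun a : E => (θ : H → ℂ) (hp a)) = fun a => (θ : H → ℂ) (ψ a) := by
        funext a
        obtain ⟨k, hk, hkh⟩ := hfus _ (ψ a).2 _ (hp (a : G)).2 (isConj_iff.2 ⟨cj (a : G) * g0⁻¹, by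
          show cj (a : G) * g0⁻¹ * (g0 * ((a ^ e : E) : G) * g0⁻¹) * (cj (a : G) * g0⁻¹)⁻¹
            = cj (a : G) * (a : G) ^ e * (cj (a : G))⁻¹
          rw [SubmonoidClass.coe_pow]; group⟩)
        rw [show hp (a : G) = ⟨k, hk⟩ * ψ a * (⟨k, hk⟩ : H)⁻¹ from Subtype.ext hkh.symm, hθc]
      rw [heq]
      exact isGeneralizedCharacter_comp (isGeneralizedCharacter_of_isCharacter (isCharacter_irr θ)) ψ
    have hp1 : hp 1 = 1 := Subtype.ext (by
      show cj 1 * (1 : G) ^ e * (cj 1)⁻¹ = 1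
      rw [one_pow, mul_one, mul_inv_cancel])
    have hnorm : classInner (fun g => (θ : H → ℂ) (hp g)) (fun g => (θ : H → ℂ) (hp g)) = 1 := by
      have h0 := hsum (fun h => (θ : H → ℂ) h * conj ((θ : H → ℂ) h)) fun a b => by
        show (θ : H → ℂ) (b * a * b⁻¹) * conj ((θ : H → ℂ) (b * a * b⁻¹)) = _
        rw [hθc]
      have hone : ∀ h : H, ((S h).card : ℂ) / (r h : ℂ) = 1 := fun h => by
        rw [hSeq h, div_self (Nat.cast_ne_zero.2 (hrpos h).ne')]
      simp only [hone, one_mul] at h0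
      have h1 := classInner_irr_self θ
      rw [classInner] at h1 ⊢
      have hG : (Nat.card G : ℂ) ≠ 0 := Nat.cast_ne_zero.2 Nat.card_pos.ne'
      have hH : (Nat.card H : ℂ) ≠ 0 := Nat.cast_ne_zero.2 Nat.card_pos.ne'
      rw [inv_mul_eq_one₀ hH] at h1
      rw [← h1, mul_comm] at h0
      rw [inv_mul_eq_one₀ hG]
      exact mul_left_cancel₀ hH h0
    have hpos : 0 < ((fun g => (θ : H → ℂ) (hp g)) 1).re := by
      show 0 < ((θ : H → ℂ) (hp 1)).re
      obtain ⟨d, hd, hde⟩ := isIrrCharacter_degree θ.2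
      rw [hp1, hde, Complex.natCast_re]
      exact_mod_cast hd
    exact ⟨⟨_, isIrr_of_norm_one hgen hnorm hpos⟩, fun g => rfl⟩
  choose χ hχ using hext
  choose N hNn hN using fun θ : IrrCharacter H => CfsgLib.Invol.exists_charKernel (χ θ)
  refine ⟨⨅ θ, N θ, Subgroup.normal_iInf_normal fun θ => hNn θ, ?_⟩
  have hp1 : hp 1 = 1 := Subtype.ext (by
    show cj 1 * (1 : G) ^ e * (cj 1)⁻¹ = 1
    rw [one_pow, mul_one, mul_inv_cancel])
  have hK : ∀ g, g ∈ ⨅ θ, N θ ↔ g ^ e = 1 := by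
    intro g
    rw [Subgroup.mem_iInf]
    have key : (∀ θ : IrrCharacter H, (θ : H → ℂ) (hp g) = (θ : H → ℂ) 1) ↔ g ^ e = 1 := by
      refine ⟨fun h0 => ?_, fun h0 θ => by rw [show hp g = 1 from Subtype.ext (by
        show cj g * g ^ e * (cj g)⁻¹ = 1
        rw [h0, mul_one, mul_inv_cancel])]⟩
      haveI := Fintype.ofFinite (IrrCharacter H)
      have hreg := regular_char_expand (G := H)
      have e1 : (Representation.leftRegular ℂ H).character (hp g) = (Representation.leftRegular ℂ H).character 1 := by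
        rw [hreg, Finset.sum_apply, Finset.sum_apply]
        refine Finset.sum_congr rfl fun θ _ => ?_
        rw [Pi.smul_apply, Pi.smul_apply, h0 θ]
      rw [regular_char, regular_char, if_pos rfl] at e1
      by_contra hne
      rw [if_neg fun e' => hne (by
        have h2 : cj g * g ^ e * (cj g)⁻¹ = 1 := congrArg Subtype.val e'
        rwa [conj_eq_one_iff] at h2)] at e1
      exact Nat.card_pos.ne' (Nat.cast_eq_zero.1 e1.symm)
    rw [← key]
    refine forall_congr' fun θ => ?_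
    rw [hN, hχ, hχ, hp1]
  have hdis : (⨅ θ, N θ) ⊓ H = ⊥ := (Subgroup.eq_bot_iff_forall _).2 fun g ⟨h1, h2⟩ => by
    have h3 := (hK g).1 h1
    rwa [he, pow_piExp_of_dvd H hHall (Subgroup.orderOf_mk g h2 ▸ orderOf_dvd_natCard _)] at h3
  refine ⟨?_, hdis⟩
  haveI : (⨅ θ, N θ).Normal := Subgroup.normal_iInf_normal fun θ => hNn θ
  have hr1' : r 1 = H.index := by
    have h0 := hr2 1
    rw [show Subgroup.centralizer ({((1 : H) : G)} : Set G) = ⊤ from
      eq_top_iff.2 fun x _ => Subgroup.mem_centralizer_singleton_iff.2 (by simp), top_inf_eq,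
      Subgroup.card_top, ← Subgroup.card_mul_index H] at h0
    exact (Nat.eq_of_mul_eq_mul_left Nat.card_pos h0).symm
  have hKc : Nat.card (⨅ θ, N θ : Subgroup G) = H.index := by
    rw [← hr1', ← hSeq 1, ← Fintype.card_coe, ← Nat.card_eq_fintype_card]
    exact Nat.card_congr (Equiv.subtypeEquivRight fun g => by simp [S, hK g])
  refine Subgroup.eq_top_of_card_eq _ (Nat.dvd_antisymm (Subgroup.card_subgroup_dvd_card _) ?_)
  rw [← Subgroup.card_mul_index H]
  refine Nat.Coprime.mul_dvd_of_dvd_of_dvd hHall (Subgroup.card_dvd_of_le le_sup_right) ?_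
  rw [← hKc]
  exact Subgroup.card_dvd_of_le le_sup_left

end

end CfsgLib.Char.HallComplement
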