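import Mathlib
import Cfsg.Agent.Lib.Char.Counting
import Cfsg.Agent.Lib.Coprime.SchurZassenhaus

/-!
# Characters of a normal Hall subgroup fixed by an element
-/

set_option autoImplicit false
set_option linter.unusedSectionVars false

namespace CfsgLib.Char

open Cfsg

universe u

variable {M : Type u} [Group M] [Finite M] (H : Subgroup M) [hN : H.Normal]

/-- If `x` has order prime to `|H|` and fixes the class of `h`, it centralizes a conjugate. -/
theorem exists_centralized_conj (hHall : (Nat.card H).Coprime H.index) {x h k : M} (hh : h ∈ H)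
    (hk : k ∈ H) (hx : (orderOf x).Coprime (Nat.card H))
    (hfix : (k * x) * h = h * (k * x)) : ∃ n ∈ H, x * (n * h * n⁻¹) = n * h * n⁻¹ * x := by
  set y := k * x with hy
  -- a power of `y` in the coset `x H` of order prime to `|H|`
  obtain ⟨a, ha1, ha0⟩ : ∃ a : ℕ, a ≡ 1 [MOD H.index] ∧ a ≡ 0 [MOD Nat.card H] :=
    ⟨_, (Nat.chineseRemainder hHall.symm 1 0).2.1, (Nat.chineseRemainder hHall.symm 1 0).2.2⟩
  set z := y ^ a with hz
  have hzx : z * x⁻¹ ∈ H := by
    rw [← QuotientGroup.eq_one_iff, QuotientGroup.mk_mul, QuotientGroup.mk_inv, hz,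
      QuotientGroup.mk_pow, hy, QuotientGroup.mk_mul, (QuotientGroup.eq_one_iff k).2 hk, one_mul,
      mul_inv_eq_one]
    have hd : orderOf (QuotientGroup.mk (s := H) x) ∣ H.index := by
      rw [Subgroup.index_eq_card]; exact orderOf_dvd_natCard _
    rw [← pow_mod_orderOf, (ha1.of_dvd hd : a % _ = 1 % _), pow_mod_orderOf, pow_one]
  have hzh : z * h = h * z := (show Commute y h from hfix).pow_left a
  have hcopA : (Nat.card H).Coprime (Nat.card (Subgroup.zpowers x)) := by
    rw [Nat.card_zpowers]; exact hx.symm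
  have hAn : Subgroup.zpowers x ≤ Subgroup.normalizer (H : Set M) := by
    rw [Subgroup.normalizer_eq_top H]; exact le_top
  have hzsup : z ∈ Subgroup.zpowers x ⊔ H := by
    have : z = (z * x⁻¹) * x := by group
    rw [this]
    exact mul_mem (Subgroup.mem_sup_right hzx) (Subgroup.mem_sup_left (Subgroup.mem_zpowers x))
  have hmk : (QuotientGroup.mk (s := H) z) = QuotientGroup.mk x := by
    rw [← mul_inv_eq_one, ← QuotientGroup.mk_inv, ← QuotientGroup.mk_mul]
    exact (QuotientGroup.eq_one_iff _).2 hzx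
  have hzord : orderOf z = orderOf x := by
    have hzH : (orderOf z).Coprime (Nat.card H) := by
      refine (Nat.Coprime.coprime_dvd_left ?_ hHall.symm)
      rw [hz]
      apply orderOf_dvd_of_pow_eq_one
      have h1 : y ^ H.index ∈ H := Subgroup.pow_index_mem H y
      obtain ⟨b, hb⟩ := Nat.modEq_zero_iff_dvd.1 ha0
      rw [← pow_mul, hb, mul_comm (Nat.card H) b, mul_assoc, mul_comm b, mul_comm (Nat.card H),
        pow_mul, pow_mul, show (y ^ H.index) ^ Nat.card H = 1 from
          congrArg Subtype.val (pow_card_eq_one' (x := (⟨_, h1⟩ : H))), one_pow]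
    have key : ∀ w : M, (orderOf w).Coprime (Nat.card H) →
        orderOf (QuotientGroup.mk (s := H) w) = orderOf w := fun w hw => by
      refine Nat.dvd_antisymm (orderOf_map_dvd (QuotientGroup.mk' H) w) (orderOf_dvd_of_pow_eq_one ?_)
      have hm : w ^ orderOf (QuotientGroup.mk (s := H) w) ∈ H := by
        rw [← QuotientGroup.eq_one_iff, QuotientGroup.mk_pow, pow_orderOf_eq_one]
      refine orderOf_eq_one_iff.1 (Nat.eq_one_of_dvd_coprimes hw (orderOf_pow_dvd _) ?_)
      rw [← Subgroup.orderOf_mk _ hm]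
      exact orderOf_dvd_natCard _
    rw [← key z hzH, hmk, key x hx]
  obtain ⟨n, hn, hconj⟩ := CfsgLib.Coprime.sz_conj_in (A := Subgroup.zpowers x)
    (B := Subgroup.zpowers z) (N := H) hAn hcopA (Subgroup.zpowers_le.2 hzsup)
    (by rw [Nat.card_zpowers, Nat.card_zpowers, hzord])
    (Or.inl inferInstance)
  refine ⟨n, hn, ?_⟩
  have hmem : x ∈ (Subgroup.zpowers z).map (MulAut.conj n).toMonoidHom := by
    have : x ∈ CfsgLib.Coprime.conjBy n (Subgroup.zpowers z) := hconj ▸ Subgroup.mem_zpowers x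
    exact this
  obtain ⟨w, ⟨j, rfl⟩, hw⟩ := hmem
  have hwh : z ^ j * h = h * z ^ j := (show Commute z h from hzh).zpow_left j
  have hw' : x = n * z ^ j * n⁻¹ := hw.symm
  rw [hw']
  calc n * z ^ j * n⁻¹ * (n * h * n⁻¹) = n * (z ^ j * h) * n⁻¹ := by group
    _ = n * (h * z ^ j) * n⁻¹ := by rw [hwh]
    _ = n * h * n⁻¹ * (n * z ^ j * n⁻¹) := by group

theorem fixes_char_iff (hHall : (Nat.card H).Coprime H.index) (x : M) :
    (∃ θ : H → ℂ, IsIrrCharacter H θ ∧ θ ≠ (fun _ => 1) ∧
      (fun h : H => θ ⟨x * h * x⁻¹, hN.conj_mem h h.2 x⟩) = θ) ↔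
    ∃ h ∈ H, h ≠ 1 ∧ x * h = h * x := by
  classical
  have := Fintype.ofFinite (IrrCharacter H)
  have := Fintype.ofFinite (ConjClasses H)
  let α : H ≃* H := MulAut.conjNormal x
  have hα : ∀ (θ : H → ℂ), (fun h : H => θ ⟨x * h * x⁻¹, hN.conj_mem h h.2 x⟩) = θ ∘ α := fun θ =>
    funext fun h => congrArg θ (Subtype.ext (MulAut.conjNormal_apply x h).symm)
  have hcount := card_fixed_classes_aut α
  simp only [hα]
  have h1c : ConjClasses.map α.toMonoidHom (ConjClasses.mk 1) = ConjClasses.mk 1 := by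
    show ConjClasses.mk (α 1) = _
    rw [map_one]
  have h1t : ((⟨_, isIrrCharacter_one⟩ : IrrCharacter H) : H → ℂ) ∘ α =
      ((⟨_, isIrrCharacter_one⟩ : IrrCharacter H) : H → ℂ) := rfl
  constructor
  · rintro ⟨θ, hθ, hθ1, hfix⟩
    have hlt : 1 < Nat.card {C : ConjClasses H // ConjClasses.map α.toMonoidHom C = C} := by
      rw [hcount, Finite.one_lt_card_iff_nontrivial]
      exact ⟨⟨⟨⟨θ, hθ⟩, hfix⟩, ⟨_, h1t⟩, fun h => hθ1 (congrArg (fun t => (t.1 : H → ℂ)) h)⟩⟩
    obtain ⟨⟨C, hC⟩, hC1⟩ : ∃ C : {C : ConjClasses H // ConjClasses.map α.toMonoidHom C = C},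
        C.1 ≠ ConjClasses.mk 1 := by
      haveI := Finite.one_lt_card_iff_nontrivial.1 hlt
      obtain ⟨C, hC⟩ := exists_ne (⟨ConjClasses.mk 1, h1c⟩ :
        {C : ConjClasses H // ConjClasses.map α.toMonoidHom C = C})
      exact ⟨C, fun h => hC (Subtype.ext h)⟩
    obtain ⟨h, rfl⟩ := ConjClasses.exists_rep C
    have hh1 : (h : M) ≠ 1 := fun e => hC1 (congrArg ConjClasses.mk (Subtype.ext e : h = 1))
    by_cases hx : (orderOf x).Coprime (Nat.card H)
    · obtain ⟨k, hk⟩ := isConj_iff.1 (ConjClasses.mk_eq_mk_iff_isConj.1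
        (show ConjClasses.mk (α h) = ConjClasses.mk h from hC))
      have hk' : (k : M) * (x * h * x⁻¹) * (k : M)⁻¹ = h := by
        have := congrArg Subtype.val hk
        simpa [α, MulAut.conjNormal_apply, mul_assoc] using this
      obtain ⟨n, hn, hcomm⟩ := exists_centralized_conj H hHall h.2 k.2 hx (by
        conv_rhs => rw [← hk']
        group)
      exact ⟨n * h * n⁻¹, H.mul_mem (H.mul_mem hn h.2) (H.inv_mem hn),
        fun e => hh1 (conj_eq_one_iff.1 e), hcomm⟩
    · obtain ⟨p, hp, hpx, hpH⟩ := Nat.Prime.not_coprime_iff_dvd.1 hx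
      haveI : Fact p.Prime := ⟨hp⟩
      have hxp : orderOf (x ^ (orderOf x / p)) = p := by
        rw [orderOf_pow_orderOf_div (orderOf_pos x).ne' hpx]
      refine ⟨x ^ (orderOf x / p), ?_, fun e => hp.ne_one ?_, (Commute.self_pow x _).eq⟩
      · rw [← QuotientGroup.eq_one_iff, ← orderOf_eq_one_iff]
        refine Nat.eq_one_of_dvd_coprimes (hHall.coprime_dvd_left hpH) ?_ ?_
        · conv_rhs => rw [← hxp]
          exact orderOf_map_dvd (QuotientGroup.mk' H) _
        · rw [Subgroup.index_eq_card]; exact orderOf_dvd_natCard _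
      · rw [← hxp, e, orderOf_one]
  · rintro ⟨h, hh, hh1, hcomm⟩
    have hfixc : ConjClasses.map α.toMonoidHom (ConjClasses.mk ⟨h, hh⟩) = ConjClasses.mk ⟨h, hh⟩ := by
      show ConjClasses.mk (α ⟨h, hh⟩) = _
      congr 1
      apply Subtype.ext
      rw [MulAut.conjNormal_apply]
      show x * h * x⁻¹ = h
      rw [hcomm, mul_inv_cancel_right]
    have hlt : 1 < Nat.card {χ : IrrCharacter H // (χ : H → ℂ) ∘ α = (χ : H → ℂ)} := by
      rw [← hcount, Finite.one_lt_card_iff_nontrivial]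
      refine ⟨⟨⟨_, hfixc⟩, ⟨_, h1c⟩, fun e => hh1 ?_⟩⟩
      have e' := congrArg Subtype.val e
      exact congrArg Subtype.val (isConj_one_left.1 (ConjClasses.mk_eq_mk_iff_isConj.1 e'))
    haveI := Finite.one_lt_card_iff_nontrivial.1 hlt
    obtain ⟨⟨χ, hχ⟩, hne⟩ := exists_ne (⟨⟨_, isIrrCharacter_one⟩, h1t⟩ :
      {χ : IrrCharacter H // (χ : H → ℂ) ∘ α = (χ : H → ℂ)})
    exact ⟨χ.1, χ.2, fun e => hne (Subtype.ext (Subtype.ext e)), hχ⟩

end CfsgLib.Char
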