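/-
Isometries of a Hamming cube: primitive, not doubly transitive, with regular product subgroups.
-/
import Mathlib.GroupTheory.GroupAction.Primitive
import Mathlib.GroupTheory.GroupAction.MultipleTransitivity
import Mathlib.InformationTheory.Hamming

set_option autoImplicit false

open MulAction

namespace CfsgLib.Char.HammingPrimitive

variable {n m : ℕ} {ι : Type*} [Fintype ι]

/-- Permutations preserving the Hamming distance seen through `Φ`. -/
def isometries (Φ : Fin n ≃ (ι → Fin m)) : Subgroup (Equiv.Perm (Fin n)) where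
  carrier := {σ | ∀ a b, hammingDist (Φ (σ a)) (Φ (σ b)) = hammingDist (Φ a) (Φ b)}
  one_mem' := fun _ _ => rfl
  mul_mem' := fun {σ τ} hσ hτ a b => (hσ (τ a) (τ b)).trans (hτ a b)
  inv_mem' := fun {σ} hσ a b => by
    have := hσ (σ⁻¹ a) (σ⁻¹ b)
    simpa using this.symm

theorem mem_isometries {Φ : Fin n ≃ (ι → Fin m)} {σ : Equiv.Perm (Fin n)} :
    σ ∈ isometries Φ ↔ ∀ a b, hammingDist (Φ (σ a)) (Φ (σ b)) = hammingDist (Φ a) (Φ b) := Iff.rfl

/-- A coordinatewise permutation. -/
def coordPerm (Φ : Fin n ≃ (ι → Fin m)) (π : ι → Equiv.Perm (Fin m)) : Equiv.Perm (Fin n) :=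
  (Φ.trans (Equiv.piCongrRight π)).trans Φ.symm

theorem coordPerm_apply (Φ : Fin n ≃ (ι → Fin m)) (π : ι → Equiv.Perm (Fin m)) (a : Fin n) (i : ι) :
    Φ (coordPerm Φ π a) i = π i (Φ a i) := by simp [coordPerm]

theorem coordPerm_mem (Φ : Fin n ≃ (ι → Fin m)) (π : ι → Equiv.Perm (Fin m)) :
    coordPerm Φ π ∈ isometries Φ := fun a b => by
  unfold hammingDist
  congr 1
  ext i
  simp [coordPerm_apply]

/-- A permutation of coordinates. -/
def indexPerm (Φ : Fin n ≃ (ι → Fin m)) (π : Equiv.Perm ι) : Equiv.Perm (Fin n) :=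
  (Φ.trans (Equiv.arrowCongr π (Equiv.refl (Fin m)))).trans Φ.symm

theorem indexPerm_apply (Φ : Fin n ≃ (ι → Fin m)) (π : Equiv.Perm ι) (a : Fin n) (i : ι) :
    Φ (indexPerm Φ π a) i = Φ a (π.symm i) := by simp [indexPerm]

theorem indexPerm_mem (Φ : Fin n ≃ (ι → Fin m)) (π : Equiv.Perm ι) :
    indexPerm Φ π ∈ isometries Φ := fun a b => by
  unfold hammingDist
  refine Finset.card_equiv π.symm fun i => ?_
  simp [indexPerm_apply]

theorem preprimitive [DecidableEq ι] (Φ : Fin n ≃ (ι → Fin m)) (hm : 3 ≤ m) :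
    IsPreprimitive (isometries Φ) (Fin n) := by
  classical
  haveI : IsPretransitive (isometries Φ) (Fin n) := by
    refine ⟨fun a b => ⟨⟨coordPerm Φ fun i => Equiv.swap (Φ a i) (Φ b i), coordPerm_mem Φ _⟩, Φ.injective (funext fun i => ?_)⟩⟩
    show Φ (coordPerm Φ _ a) i = Φ b i
    rw [coordPerm_apply, Equiv.swap_apply_left]
  refine { isTrivialBlock_of_isBlock := fun {B} hB => ?_ }
  refine or_iff_not_imp_left.2 fun hns => ?_
  rw [Set.not_subsingleton_iff] at hns
  obtain ⟨a, ha, b, hb, hab⟩ := hns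
  -- a block is preserved by an element moving one of its points into it
  have key : ∀ σ ∈ isometries Φ, ∀ x ∈ B, σ x ∈ B → ∀ y ∈ B, σ y ∈ B := by
    intro σ hσ x hx hσx y hy
    have h := (isBlock_iff_smul_eq_or_disjoint.1 hB ⟨σ, hσ⟩).resolve_right fun hd =>
      Set.disjoint_left.1 hd ⟨x, hx, rfl⟩ hσx
    exact h ▸ ⟨y, hy, rfl⟩
  -- changing one coordinate of `a`
  obtain ⟨i, hi⟩ : ∃ i, Φ a i ≠ Φ b i := by
    by_contra h
    push Not at h
    exact hab (Φ.injective (funext h))
  have third : ∃ c : Fin m, c ≠ Φ a i ∧ c ≠ Φ b i := by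
    by_contra h
    push Not at h
    have : (Finset.univ : Finset (Fin m)) ⊆ {Φ a i, Φ b i} := fun c _ => by
      simp only [Finset.mem_insert, Finset.mem_singleton]
      exact or_iff_not_imp_left.2 (h c)
    have := (Finset.card_le_card this).trans Finset.card_le_two
    simp at this; omega
  obtain ⟨c, hca, hcb⟩ := third
  set σ := coordPerm Φ (Function.update 1 i (Equiv.swap (Φ a i) c)) with hσ
  have hσb : σ b = b := Φ.injective (funext fun j => by
    rw [hσ, coordPerm_apply]
    by_cases hj : j = i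
    · subst hj; rw [Function.update_self, Equiv.swap_apply_of_ne_of_ne hi.symm hcb.symm]
    · rw [Function.update_of_ne hj]; rfl)
  have hσa : σ a ∈ B := key σ (coordPerm_mem Φ _) b hb (by rw [hσb]; exact hb) a ha
  have single : ∀ (j : ι) (d : Fin m), Φ.symm (Function.update (Φ a) j d) ∈ B := by
    have h1 : Φ (σ a) = Function.update (Φ a) i c := funext fun j => by
      rw [hσ, coordPerm_apply]
      by_cases hj : j = i
      · subst hj; rw [Function.update_self, Function.update_self, Equiv.swap_apply_left]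
      · rw [Function.update_of_ne hj, Function.update_of_ne hj]; rfl
    intro j d
    by_cases hd : d = Φ a j
    · rw [hd, Function.update_eq_self, Equiv.symm_apply_apply]; exact ha
    set π : ι → Equiv.Perm (Fin m) := fun k =>
      if k = j then Equiv.swap (Φ a i) (Φ a j) else if k = i then Equiv.swap (Φ a j) (Φ a i) else 1 with hπ
    set τ := coordPerm Φ (Function.update 1 j (Equiv.swap (Equiv.swap (Φ a i) (Φ a j) c) d)) *
      (coordPerm Φ π * indexPerm Φ (Equiv.swap i j)) with hτ
    have hτm : τ ∈ isometries Φ := mul_mem (coordPerm_mem Φ _) (mul_mem (coordPerm_mem Φ _) (indexPerm_mem Φ _))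
    have hz : Equiv.swap (Φ a i) (Φ a j) c ≠ Φ a j := fun e => hca (by
      rw [← Equiv.swap_apply_left (Φ a i) (Φ a j)] at e
      exact (Equiv.swap (Φ a i) (Φ a j)).injective (by simpa using e))
    have hfix : τ a = a := Φ.injective (funext fun k => by
      rw [hτ, Equiv.Perm.mul_apply, Equiv.Perm.mul_apply, coordPerm_apply, coordPerm_apply, indexPerm_apply, Equiv.symm_swap]
      by_cases hkj : k = j
      · subst hkj
        rw [Function.update_self, hπ]; simp only [↓reduceIte, Equiv.swap_apply_right, Equiv.swap_apply_left]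
        exact Equiv.swap_apply_of_ne_of_ne hz.symm (Ne.symm hd)
      · rw [Function.update_of_ne hkj, hπ]; simp only [if_neg hkj]
        by_cases hki : k = i
        · subst hki; rw [if_pos rfl, Equiv.swap_apply_left]; simp
        · rw [if_neg hki, Equiv.swap_apply_of_ne_of_ne hki hkj]; rfl)
    have hmem := key τ hτm a ha (by rw [hfix]; exact ha) (σ a) hσa
    have heq : τ (σ a) = Φ.symm (Function.update (Φ a) j d) := Φ.injective (funext fun k => by
      rw [hτ, Equiv.Perm.mul_apply, Equiv.Perm.mul_apply, coordPerm_apply, coordPerm_apply, indexPerm_apply, h1,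
        Equiv.apply_symm_apply, Equiv.symm_swap]
      by_cases hkj : k = j
      · subst hkj
        rw [Function.update_self, Function.update_self, hπ]
        simp only [↓reduceIte, Equiv.swap_apply_right, Function.update_self, Equiv.swap_apply_left]
      · rw [Function.update_of_ne hkj, Function.update_of_ne hkj, hπ]
        simp only [if_neg hkj]
        by_cases hki : k = i
        · subst hki
          rw [if_pos rfl, Equiv.swap_apply_left, Function.update_of_ne (Ne.symm hkj), Equiv.swap_apply_left]; rfl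
        · rw [if_neg hki, Equiv.swap_apply_of_ne_of_ne hki hkj, Function.update_of_ne hki]; rfl)
    exact heq ▸ hmem
  refine Set.eq_univ_of_forall fun z => ?_
  suffices h : ∀ (s : Finset ι) (w : Fin n), (∀ j ∉ s, Φ w j = Φ a j) → w ∈ B from
    h Finset.univ z fun j hj => absurd (Finset.mem_univ j) hj
  intro s
  induction s using Finset.induction_on with
  | empty => exact fun w hw => (Φ.injective (funext fun j => hw j (Finset.notMem_empty j)) : w = a) ▸ ha
  | insert j s hj ih =>
    intro w hw
    have hw' : Φ.symm (Function.update (Φ w) j (Φ a j)) ∈ B := ih _ fun k hk => by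
      rw [Equiv.apply_symm_apply]
      by_cases hkj : k = j
      · subst hkj; rw [Function.update_self]
      · rw [Function.update_of_ne hkj]; exact hw k (by simp [hkj, hk])
    set ρ := coordPerm Φ (Function.update 1 j (Equiv.swap (Φ a j) (Φ w j))) with hρ
    have hρa : ρ a = Φ.symm (Function.update (Φ a) j (Φ w j)) := Φ.injective (funext fun k => by
      rw [hρ, coordPerm_apply, Equiv.apply_symm_apply]
      by_cases hkj : k = j
      · subst hkj; rw [Function.update_self, Function.update_self, Equiv.swap_apply_left]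
      · rw [Function.update_of_ne hkj, Function.update_of_ne hkj]; rfl)
    have := key ρ (coordPerm_mem Φ _) a ha (hρa ▸ single j _) _ hw'
    have e : ρ (Φ.symm (Function.update (Φ w) j (Φ a j))) = w := Φ.injective (funext fun k => by
      rw [hρ, coordPerm_apply, Equiv.apply_symm_apply]
      by_cases hkj : k = j
      · subst hkj; rw [Function.update_self, Function.update_self, Equiv.swap_apply_left]
      · rw [Function.update_of_ne hkj, Function.update_of_ne hkj]; rfl)
    exact e ▸ this

theorem not_two_transitive [DecidableEq ι] (Φ : Fin n ≃ (ι → Fin m)) (hm : 2 ≤ m) (hr : 2 ≤ Fintype.card ι) :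
    ¬ IsMultiplyPretransitive (isometries Φ) (Fin n) 2 := by
  intro h
  rw [is_two_pretransitive_iff] at h
  obtain ⟨i, j, hij⟩ := Fintype.exists_pair_of_one_lt_card hr
  set z : ι → Fin m := fun _ => ⟨0, by omega⟩
  set one : Fin m := ⟨1, by omega⟩
  set u := Function.update z i one
  set v := Function.update u j one
  have hu : Φ.symm z ≠ Φ.symm u := fun e => by
    have := congrFun (Φ.symm.injective e) i
    simp [u, z, one] at this
  have hv : Φ.symm z ≠ Φ.symm v := fun e => by
    have := congrFun (Φ.symm.injective e) j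
    simp [v, u, z, one] at this
  obtain ⟨⟨σ, hσ⟩, e1, e2⟩ := h hu hv
  change σ _ = _ at e1 e2
  have h1 := hσ (Φ.symm z) (Φ.symm u)
  rw [e1, e2] at h1
  simp only [Equiv.apply_symm_apply] at h1
  have hd1 : hammingDist z u = 1 := by
    unfold hammingDist
    rw [Finset.card_eq_one]
    refine ⟨i, Finset.ext fun k => ?_⟩
    by_cases hk : k = i <;> simp [u, z, one, hk]
  have hd2 : hammingDist z v = 2 := by
    unfold hammingDist
    rw [Finset.card_eq_two]
    refine ⟨i, j, hij, Finset.ext fun k => ?_⟩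
    by_cases hki : k = i <;> by_cases hkj : k = j <;> simp_all [u, v, z, one]
  omega

theorem exists_regular_product {K : Type*} [Group K] [Finite K] (F : ι → Type*) [∀ i, Group (F i)]
    (hr : 2 ≤ Fintype.card ι) (hm : 3 ≤ m) (hcard : ∀ i, Nat.card (F i) = m) (e : K ≃* (∀ i, F i)) :
    ∃ (n : ℕ) (G R : Subgroup (Equiv.Perm (Fin n))), R ≤ G ∧ Nonempty (↥R ≃* K) ∧
      IsPretransitive ↥R (Fin n) ∧ (∀ a : Fin n, stabilizer ↥R a = ⊥) ∧
      IsPreprimitive ↥G (Fin n) ∧ ¬ IsMultiplyPretransitive ↥G (Fin n) 2 := by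
  classical
  haveI : ∀ i, Finite (F i) := fun i => Nat.finite_of_card_ne_zero (by rw [hcard]; omega)
  let β : ∀ i, F i ≃ Fin m := fun i => (Finite.equivFinOfCardEq (hcard i))
  let Ψ : (∀ i, F i) ≃ (ι → Fin m) := Equiv.piCongrRight β
  let Φ : Fin (Fintype.card (ι → Fin m)) ≃ (ι → Fin m) := (Fintype.equivFin _).symm
  let ψ : K →* Equiv.Perm (Fin (Fintype.card (ι → Fin m))) :=
    { toFun := fun k => ((Φ.trans Ψ.symm).trans (Equiv.mulLeft (e k))).trans (Ψ.trans Φ.symm)
      map_one' := by ext a; simp
      map_mul' := fun a b => by ext x; simp [mul_assoc] }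
  have hψ : ∀ k a, Ψ.symm (Φ (ψ k a)) = e k * Ψ.symm (Φ a) := fun k a => by simp [ψ]
  have hinj : Function.Injective ψ := fun a b h => by
    have h1 := congrFun (congrArg (fun σ : Equiv.Perm _ => (σ : _ → _)) h) (Φ.symm (Ψ 1))
    have h2 := congrArg (fun x => Ψ.symm (Φ x)) h1
    simp only [hψ, Equiv.apply_symm_apply, Equiv.symm_apply_apply, mul_one] at h2
    exact e.injective h2
  refine ⟨_, isometries Φ, ψ.range, ?_, ⟨(MonoidHom.ofInjective hinj).symm⟩, ⟨fun a b => ?_⟩, fun a => ?_,
    preprimitive Φ hm, not_two_transitive Φ (by omega) hr⟩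
  · rintro _ ⟨k, rfl⟩
    have : ψ k = coordPerm Φ (fun i => ((β i).symm.trans (Equiv.mulLeft (e k i))).trans (β i)) := by
      refine Equiv.ext fun a => Φ.injective (funext fun i => ?_)
      rw [coordPerm_apply]
      have h := congrArg Ψ (hψ k a)
      rw [Equiv.apply_symm_apply] at h
      rw [h]; rfl
    rw [this]; exact coordPerm_mem Φ _
  · refine ⟨⟨ψ (e.symm (Ψ.symm (Φ b) * (Ψ.symm (Φ a))⁻¹)), _, rfl⟩, Φ.injective (Ψ.symm.injective ?_)⟩
    show Ψ.symm (Φ (ψ _ a)) = _
    rw [hψ, MulEquiv.apply_symm_apply, inv_mul_cancel_right]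
  · refine (Subgroup.eq_bot_iff_forall _).2 ?_
    rintro ⟨_, k, rfl⟩ hk
    have hk' : ψ k a = a := hk
    have h := hψ k a
    rw [hk', eq_comm, mul_eq_right, MulEquiv.map_eq_one_iff] at h
    subst h
    exact Subtype.ext (map_one ψ)

end CfsgLib.Char.HammingPrimitive
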