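import Cfsg.Agent.Lib.Char.IndMap

/-!
# Integral spans of induced characters
-/

set_option autoImplicit false
set_option linter.unusedSectionVars false

namespace CfsgLib.Char

open scoped ComplexConjugate
open Representation Module Cfsg

universe u

variable {G : Type u} [Group G] [Fintype G]

/-- The integral span of the functions induced from characters of the subgroups satisfying `S`. -/
noncomputable def IndSpan (S : Subgroup G → Prop) : AddSubgroup (G → ℂ) :=
  AddSubgroup.closure {f | ∃ (E : Subgroup G) (φ : E → ℂ), S E ∧ IsCharacter E φ ∧ f = indFun E φ}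

theorem indFun_mem_indSpan {S : Subgroup G → Prop} {E : Subgroup G} (hE : S E) {φ : E → ℂ}
    (hφ : IsGeneralizedCharacter E φ) : indFun E φ ∈ IndSpan S := by
  obtain ⟨a, b, ha, hb, rfl⟩ := hφ
  rw [indFun_sub]
  exact sub_mem (AddSubgroup.subset_closure ⟨E, a, hE, ha, rfl⟩)
    (AddSubgroup.subset_closure ⟨E, b, hE, hb, rfl⟩)

theorem indSpan_le_generalized (S : Subgroup G → Prop) {f : G → ℂ} (hf : f ∈ IndSpan S) :
    IsGeneralizedCharacter G f := by
  induction hf using AddSubgroup.closure_induction with
  | mem x hx =>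
    obtain ⟨E, φ, -, hφ, rfl⟩ := hx
    exact isGeneralizedCharacter_of_isCharacter (isCharacter_indFun E hφ)
  | zero => exact isGeneralizedCharacter_zero
  | add x y _ _ hx hy => exact isGeneralizedCharacter_add hx hy
  | neg x _ hx => exact isGeneralizedCharacter_neg hx

/-- The span is an ideal of the ring of generalized characters; more generally it absorbs a class
function which is a generalized character on each of the subgroups. -/
theorem indSpan_mul {S : Subgroup G → Prop} {f : G → ℂ} (hf : f ∈ IndSpan S) {θ : G → ℂ}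
    (hθ : IsClassFunction G θ)
    (hres : ∀ E : Subgroup G, S E → IsGeneralizedCharacter E (fun e : E => θ e)) :
    f * θ ∈ IndSpan S := by
  induction hf using AddSubgroup.closure_induction with
  | mem x hx =>
    obtain ⟨E, φ, hE, hφ, rfl⟩ := hx
    rw [indFun_mul E φ hθ]
    exact indFun_mem_indSpan hE
      (isGeneralizedCharacter_mul (isGeneralizedCharacter_of_isCharacter hφ) (hres E hE))
  | zero => rw [zero_mul]; exact zero_mem _
  | add x y _ _ hx hy => rw [add_mul]; exact add_mem hx hy
  | neg x _ hx => rw [neg_mul]; exact neg_mem hx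

theorem indSpan_mul_character {S : Subgroup G → Prop} {f : G → ℂ} (hf : f ∈ IndSpan S) {θ : G → ℂ}
    (hθ : IsGeneralizedCharacter G θ) : f * θ ∈ IndSpan S :=
  indSpan_mul hf (isClassFunction_of_isGeneralized hθ) fun E _ =>
    isGeneralizedCharacter_comp hθ E.subtype

/-- Induction maps spans into spans. -/
theorem indFun_indSpan {T : Subgroup G} [Fintype T] {S : Subgroup G → Prop} {S' : Subgroup T → Prop}
    (hS : ∀ E, S' E → S (E.map T.subtype)) {f : T → ℂ} (hf : f ∈ IndSpan S') :
    indFun T f ∈ IndSpan S := by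
  induction hf using AddSubgroup.closure_induction with
  | mem x hx =>
    obtain ⟨E, φ, hE, hφ, rfl⟩ := hx
    rw [indFun_map]
    exact AddSubgroup.subset_closure ⟨_, _, hS E hE,
      isCharacter_comp hφ (mapSubtypeEquiv T E).symm.toMonoidHom, rfl⟩
  | zero => rw [indFun_zero]; exact zero_mem _
  | add x y _ _ hx hy => rw [indFun_add]; exact add_mem hx hy
  | neg x _ hx => rw [indFun_neg]; exact neg_mem hx

theorem exists_list_of_mem_indSpan {S : Subgroup G → Prop} {f : G → ℂ} (hf : f ∈ IndSpan S) :
    ∃ l : List ((E : Subgroup G) × ((E → ℂ) × ℤ)), (∀ t ∈ l, S t.1 ∧ IsCharacter t.1 t.2.1) ∧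
      f = (l.map fun t => (t.2.2 : ℂ) • indFun t.1 t.2.1).sum := by
  induction hf using AddSubgroup.closure_induction with
  | mem x hx =>
    obtain ⟨E, φ, hE, hφ, rfl⟩ := hx
    exact ⟨[⟨E, φ, 1⟩], by simp [hE, hφ], by simp⟩
  | zero => exact ⟨[], by simp, by simp⟩
  | add x y _ _ hx hy =>
    obtain ⟨l, hl, rfl⟩ := hx
    obtain ⟨l', hl', rfl⟩ := hy
    refine ⟨l ++ l', fun t ht => ?_, by simp⟩
    rcases List.mem_append.mp ht with h | h
    · exact hl t h
    · exact hl' t h
  | neg x _ hx =>
    obtain ⟨l, hl, rfl⟩ := hx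
    refine ⟨l.map fun t => ⟨t.1, t.2.1, -t.2.2⟩, fun t ht => ?_, ?_⟩
    · obtain ⟨s, hs, rfl⟩ := List.mem_map.mp ht
      exact hl s hs
    · rw [List.sum_neg, List.map_map, List.map_map]
      congr 1
      refine List.map_congr_left fun t _ => ?_
      simp

end CfsgLib.Char
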