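import Cfsg.Agent.S4448
import Cfsg.Agent.S4449
import Cfsg.Agent.Lib.Char.Ramified
import Cfsg.Agent.Lib.Char.Gallagher
import Cfsg.Agent.Lib.Char.CoreInduced
import Cfsg.Agent.Lib.Char.InvariantAbove
import Cfsg.Agent.Lib.Char.ExtendChar
import Mathlib.GroupTheory.SchurZassenhaus
import Mathlib.RingTheory.RootsOfUnity.Complex

/-!
# An invariant character over an invariant one, coprime indices

An invariant character of `N` is replaced, through the projective extension, by a linear character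
of a central subgroup; splitting off the part of coprime order makes the situation coprime.
-/

set_option autoImplicit false
set_option linter.unusedSectionVars false

namespace CfsgLib.Char.InvariantRelative

open scoped ComplexConjugate
open Cfsg CfsgLib.Char

universe u

/-- Splitting off a central part of coprime order. -/
theorem exists_split {Δ : Type u} [Group Δ] [Finite Δ] (W Z' : Subgroup Δ) [W.Normal] (hle : Z' ≤ W)
    (hc : ∀ z ∈ Z', ∀ x : Δ, z * x = x * z) {m e : ℕ} (hcard : Nat.card W = m * e)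
    (he : Nat.card Z' = e) (hcop : m.Coprime e) :
    ∃ (W₀ : Subgroup Δ) (p p' : W →* W), W₀.Normal ∧ W₀ ≤ W ∧ Nat.card W₀ = m ∧
      (∀ w : W, (p w : Δ) ∈ W₀ ∧ (p' w : Δ) ∈ Z' ∧ (p w : Δ) * p' w = w) ∧
      (∀ w : W, (w : Δ) ∈ W₀ → p w = w) ∧
      ∀ (w : W) (x : Δ) (h : x * w * x⁻¹ ∈ W),
        (p ⟨_, h⟩ : Δ) = x * p w * x⁻¹ ∧ p' ⟨_, h⟩ = p' w := by
  classical
  set E := Z'.subgroupOf W with hE
  have hEc : Nat.card E = e := by rw [Nat.card_congr (Subgroup.subgroupOfEquivOfLe hle).toEquiv, he]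
  have hEn : E.Normal := ⟨fun a ha b => by
    rw [show b * a * b⁻¹ = a from Subtype.ext (by
      show (b : Δ) * a * (b : Δ)⁻¹ = a
      rw [← hc _ (Subgroup.mem_subgroupOf.mp ha) (b : Δ), mul_inv_cancel_right])]
    exact ha⟩
  have hpos : 0 < e := he ▸ Nat.card_pos
  have hidx : E.index = m := by
    have h := E.card_mul_index
    rw [hEc, hcard, mul_comm] at h
    exact Nat.eq_of_mul_eq_mul_right hpos h
  obtain ⟨H, hH⟩ := Subgroup.exists_right_complement'_of_coprime (N := E) (by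
    rw [hEc, hidx]; exact hcop.symm)
  have hHc : Nat.card H = m := by rw [← hidx, hH.symm.index_eq_card]
  obtain ⟨k, hk1, hk2⟩ := Nat.chineseRemainder hcop 1 0
  obtain ⟨k', hk1', hk2'⟩ := Nat.chineseRemainder hcop 0 1
  have hpowH : ∀ h ∈ H, h ^ k = h ∧ h ^ k' = 1 := fun h hh => by
    have hd : orderOf h ∣ m := hHc ▸ Subgroup.orderOf_dvd_natCard H hh
    exact ⟨(pow_eq_pow_iff_modEq.mpr (hk1.of_dvd hd)).trans (pow_one h),
      (pow_eq_pow_iff_modEq.mpr (hk1'.of_dvd hd)).trans (pow_zero h)⟩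
  have hpowE : ∀ z ∈ E, z ^ k = 1 ∧ z ^ k' = z := fun z hz => by
    have hd : orderOf z ∣ e := hEc ▸ Subgroup.orderOf_dvd_natCard E hz
    exact ⟨(pow_eq_pow_iff_modEq.mpr (hk2.of_dvd hd)).trans (pow_zero z),
      (pow_eq_pow_iff_modEq.mpr (hk2'.of_dvd hd)).trans (pow_one z)⟩
  have hcent : ∀ z ∈ E, ∀ x : W, Commute z x := fun z hz x =>
    Subtype.ext (hc _ (Subgroup.mem_subgroupOf.mp hz) (x : Δ))
  have hdec : ∀ w : W, ∃ z ∈ E, ∃ h ∈ H, w = z * h ∧ w ^ k = h ∧ w ^ k' = z := fun w => by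
    obtain ⟨⟨⟨z, hz⟩, ⟨h, hh⟩⟩, hzh⟩ := hH.2 w
    simp only at hzh
    refine ⟨z, hz, h, hh, hzh.symm, ?_, ?_⟩
    · rw [← hzh, (hcent z hz h).mul_pow, (hpowE z hz).1, (hpowH h hh).1, one_mul]
    · rw [← hzh, (hcent z hz h).mul_pow, (hpowE z hz).2, (hpowH h hh).2, mul_one]
  have hmul : ∀ a b : W, (a * b) ^ k = a ^ k * b ^ k ∧ (a * b) ^ k' = a ^ k' * b ^ k' := by
    intro a b
    obtain ⟨z, hz, h, hh, rfl, e1, e2⟩ := hdec a
    obtain ⟨z', hz', h', hh', rfl, e1', e2'⟩ := hdec b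
    rw [e1, e2, e1', e2', show z * h * (z' * h') = (z * z') * (h * h') by
      rw [mul_assoc z h, ← mul_assoc h z', ← (hcent z' hz' h).eq, mul_assoc z' h, ← mul_assoc z],
      (hcent _ (mul_mem hz hz') _).mul_pow, (hcent _ (mul_mem hz hz') _).mul_pow,
      (hpowE _ (mul_mem hz hz')).1, (hpowE _ (mul_mem hz hz')).2, (hpowH _ (mul_mem hh hh')).1,
      (hpowH _ (mul_mem hh hh')).2, one_mul, mul_one]
    exact ⟨rfl, rfl⟩
  let p : W →* W := MonoidHom.mk' (fun w => w ^ k) fun a b => (hmul a b).1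
  let p' : W →* W := MonoidHom.mk' (fun w => w ^ k') fun a b => (hmul a b).2
  have hpfix : ∀ w : W, w ∈ H ↔ p w = w := fun w => by
    refine ⟨fun h => (hpowH w h).1, fun h => ?_⟩
    obtain ⟨z, hz, h', hh', -, e1, -⟩ := hdec w
    rw [← h, show p w = h' from e1]
    exact hh'
  refine ⟨H.map W.subtype, p, p', ⟨?_⟩, Subgroup.map_subtype_le _, ?_, fun w => ?_, fun w hw => ?_,
    fun w x h => ?_⟩
  · rintro _ ⟨w, hw, rfl⟩ x
    have hx : x * (w : Δ) * x⁻¹ ∈ W := Subgroup.Normal.conj_mem inferInstance _ w.2 x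
    refine ⟨⟨_, hx⟩, (hpfix _).mpr (Subtype.ext ?_), rfl⟩
    show (((⟨_, hx⟩ : W) ^ k : W) : Δ) = x * (w : Δ) * x⁻¹
    rw [SubgroupClass.coe_pow, conj_pow, ← SubgroupClass.coe_pow, show w ^ k = w from (hpfix w).mp hw]
  · rw [← hHc]
    exact Nat.card_congr (H.equivMapOfInjective W.subtype Subtype.val_injective).symm.toEquiv
  · obtain ⟨z, hz, h, hh, hw, e1, e2⟩ := hdec w
    refine ⟨⟨p w, (show p w = h from e1).symm ▸ hh, rfl⟩, ?_, ?_⟩
    · rw [show p' w = z from e2]; exact Subgroup.mem_subgroupOf.mp hz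
    · rw [show p w = h from e1, show p' w = z from e2, ← Subgroup.coe_mul, ← (hcent z hz h).eq, ← hw]
  · obtain ⟨w', hw', e'⟩ := hw
    exact (hpfix w).mp (Subtype.ext e' ▸ hw')
  · refine ⟨?_, Subtype.ext ?_⟩
    · show (((⟨_, h⟩ : W) ^ k : W) : Δ) = x * ((w ^ k : W) : Δ) * x⁻¹
      rw [SubgroupClass.coe_pow, SubgroupClass.coe_pow, conj_pow]
    · obtain ⟨z, hz, h', hh', -, -, e2⟩ := hdec w
      show (((⟨_, h⟩ : W) ^ k' : W) : Δ) = ((w ^ k' : W) : Δ)
      rw [SubgroupClass.coe_pow, conj_pow, ← SubgroupClass.coe_pow, e2,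
        ← hc _ (Subgroup.mem_subgroupOf.mp hz) x, mul_inv_cancel_right]

/-- An invariant character over a central linear one. -/
theorem exists_invariant_of_central {Δ : Type u} [Group Δ] [Fintype Δ] (W Z : Subgroup Δ) [W.Normal]
    [Fintype W] [(Z.subgroupOf W).Normal] (hZW : Z ≤ W) (hc : ∀ z ∈ Z, ∀ x : Δ, z * x = x * z) (lam : Z →* ℂˣ)
    (hcop : W.index.Coprime (Z.relIndex W))
    (hsolv : Group.IsSolvable (Δ ⧸ W) ∨ Group.IsSolvable (W ⧸ Z.subgroupOf W)) :
    ∃ η : IrrCharacter W,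
      (∀ (z : Z) (h : (z : Δ) ∈ W), (η : W → ℂ) ⟨z, h⟩ = (η : W → ℂ) 1 * (lam z : ℂ)) ∧
      ∀ (x : Δ) (w : W) (h : x * w * x⁻¹ ∈ W), (η : W → ℂ) ⟨_, h⟩ = (η : W → ℂ) w := by
  classical
  set a := Z.relIndex W with ha
  set D := Nat.card Z with hD
  set e := D / D.gcd (a ^ D) with he'
  have hgd : D.gcd (a ^ D) ∣ D := Nat.gcd_dvd_left _ _
  have hDpos : 0 < D := hD ▸ Nat.card_pos
  have hge : D.gcd (a ^ D) * e = D := Nat.mul_div_cancel' hgd
  have hee : e ≠ 0 := fun h => hDpos.ne' (by rw [← hge, h, mul_zero])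
  have hea : ∀ r : ℕ, r.Prime → r ∣ e → ¬ r ∣ a := by
    intro r hr hre hra
    have hg : D.gcd (a ^ D) ≠ 0 := fun h => hDpos.ne' (by rw [← hge, h, zero_mul])
    have h1 : r ^ D.factorization r ∣ D.gcd (a ^ D) := Nat.dvd_gcd (Nat.ordProj_dvd D r)
      ((pow_dvd_pow_of_dvd hra _).trans (pow_dvd_pow a (Nat.factorization_lt r hDpos.ne').le))
    have h2 : r ^ (D.factorization r + 1) ∣ D := by
      rw [pow_succ, ← hge]
      refine Nat.mul_dvd_mul ?_ hre
      rw [hge]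
      exact h1
    exact Nat.pow_succ_factorization_not_dvd hDpos.ne' hr h2
  set m := D.gcd (a ^ D) * a with hm
  have hme : m.Coprime e := by
    refine Nat.coprime_of_dvd fun r hr h1 h2 => hea r hr h2 ?_
    rcases hr.dvd_mul.mp h1 with h | h
    · exact hr.dvd_of_dvd_pow (h.trans (Nat.gcd_dvd_right _ _))
    · exact h
  have hWcard : Nat.card W = m * e := by
    rw [hm, mul_assoc, mul_comm a e, ← mul_assoc, hge, hD, ha, ← Subgroup.relIndex_bot_left,
      ← Subgroup.relIndex_bot_left (H := Z), Subgroup.relIndex_mul_relIndex _ _ _ bot_le hZW]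
  letI : CommGroup Z :=
    { (inferInstance : Group Z) with mul_comm := fun x y => Subtype.ext (hc _ x.2 (y : Δ)) }
  obtain ⟨Z'', hZ''⟩ : ∃ Z'' : Subgroup Z, Nat.card Z'' = e := by
    set f : Z →* Z := powMonoidHom e with hf
    refine ⟨f.ker, ?_⟩
    set d := D.gcd (a ^ D) with hd
    have hco : d.Coprime e := hme.of_dvd_left (dvd_mul_right _ _)
    have hK : ∀ r : ℕ, r.Prime → r ∣ Nat.card f.ker → r ∣ e := fun r hr h1 => by
      have := Fact.mk hr
      obtain ⟨x, hx⟩ := exists_prime_orderOf_dvd_card' r h1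
      rw [← hx, ← Subgroup.orderOf_coe]
      exact orderOf_dvd_of_pow_eq_one (MonoidHom.mem_ker.mp x.2)
    have hR : ∀ r : ℕ, r.Prime → r ∣ Nat.card f.range → r ∣ d := fun r hr h1 => by
      have := Fact.mk hr
      obtain ⟨v, hv⟩ := exists_prime_orderOf_dvd_card' r h1
      obtain ⟨y, hy⟩ := v.2
      rw [← hv, ← Subgroup.orderOf_coe]
      refine orderOf_dvd_of_pow_eq_one ?_
      rw [← hy, hf, powMonoidHom_apply, ← pow_mul, mul_comm, hge, hD, pow_card_eq_one']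
    have hKe : Nat.card f.ker ∣ e := by
      have h1 : Nat.card f.ker ∣ d * e := by rw [hge, hD]; exact Subgroup.card_subgroup_dvd_card _
      refine (Nat.coprime_of_dvd fun r hr h1 h2 => ?_ : (Nat.card f.ker).Coprime d).dvd_of_dvd_mul_left h1
      exact hr.one_lt.ne' (Nat.dvd_one.mp (hco.gcd_eq_one ▸ Nat.dvd_gcd h2 (hK r hr h1)))
    have hRd : Nat.card f.range ∣ d := by
      have h1 : Nat.card f.range ∣ d * e := by rw [hge, hD]; exact Subgroup.card_subgroup_dvd_card _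
      refine (Nat.coprime_of_dvd fun r hr h1 h2 => ?_ : (Nat.card f.range).Coprime e).dvd_of_dvd_mul_right h1
      exact hr.one_lt.ne' (Nat.dvd_one.mp (hco.gcd_eq_one ▸ Nat.dvd_gcd (hR r hr h1) h2))
    have h1 : Nat.card f.ker * Nat.card f.range = d * e := by
      rw [hge, hD, ← f.ker.card_mul_index, Subgroup.index_ker]
    have hdpos : 0 < d := Nat.pos_of_ne_zero fun h => hDpos.ne' (by rw [← hge, h, zero_mul])
    refine le_antisymm (Nat.le_of_dvd (Nat.pos_of_ne_zero hee) hKe) ?_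
    refine Nat.le_of_mul_le_mul_right ?_ hdpos
    calc e * d = Nat.card f.ker * Nat.card f.range := by rw [h1, mul_comm]
      _ ≤ Nat.card f.ker * d := Nat.mul_le_mul_left _ (Nat.le_of_dvd hdpos hRd)
  have hle' : Z''.map Z.subtype ≤ W := (Subgroup.map_subtype_le _).trans hZW
  obtain ⟨W₀, pr, pr', hW₀n, hW₀W, hW₀c, hdec, hfix, hconj⟩ := exists_split W (Z''.map Z.subtype) hle'
    (fun z hz => hc z ((Subgroup.map_subtype_le _) hz)) hWcard
    (by rw [← hZ'', Nat.card_congr (Z''.equivMapOfInjective Z.subtype Subtype.val_injective).toEquiv])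
    hme
  have hpr'Z : ∀ w : W, (pr' w : Δ) ∈ Z := fun w => (Subgroup.map_subtype_le _) (hdec w).2.1
  set Z₀ := Z ⊓ W₀ with hZ₀
  have := Fintype.ofFinite Z₀
  have := Fintype.ofFinite W₀
  -- a complement of `W₀`
  have hW₀i : W₀.index = e * W.index := by
    have h1 := W₀.card_mul_index
    rw [hW₀c, ← W.card_mul_index, hWcard, mul_assoc m e] at h1
    exact Nat.eq_of_mul_eq_mul_left (hW₀c ▸ Nat.card_pos) h1
  have hW₀cop : (Nat.card W₀).Coprime W₀.index := by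
    rw [hW₀c, hW₀i, hm]
    refine Nat.Coprime.mul_right hme ?_
    refine Nat.coprime_of_dvd fun r hr h1 h2 => hr.one_lt.ne' (Nat.dvd_one.mp ?_)
    rw [← hcop.gcd_eq_one]
    refine Nat.dvd_gcd h2 ?_
    rcases hr.dvd_mul.mp h1 with h | h
    · exact hr.dvd_of_dvd_pow (h.trans (Nat.gcd_dvd_right _ _))
    · exact h
  obtain ⟨S, hS⟩ := Subgroup.exists_right_complement'_of_coprime hW₀cop
  have hcopS : (Nat.card W₀).Coprime (Nat.card S) := hS.symm.index_eq_card ▸ hW₀cop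
  have hnormS : ∀ s ∈ S, ∀ g ∈ W₀, s * g * s⁻¹ ∈ W₀ := fun s _ g hg => hW₀n.conj_mem g hg s
  have hfixZ : ∀ s ∈ S, ∀ n ∈ Z₀, s * n * s⁻¹ ∈ Z₀ := fun s _ n hn => by
    rw [← hc n hn.1 s, mul_inv_cancel_right]; exact hn
  have hNn : (Z₀.subgroupOf W₀).Normal := ⟨fun n hn g => by
    rw [Subgroup.mem_subgroupOf] at hn ⊢
    show (g : Δ) * n * (g : Δ)⁻¹ ∈ Z₀
    rw [← hc _ hn.1 (g : Δ), mul_inv_cancel_right]
    exact hn⟩
  let lam₀ : Z₀ →* ℂˣ := lam.comp (Subgroup.inclusion inf_le_left)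
  let lc : IrrCharacter Z₀ := ⟨_, isIrrCharacter_lin lam₀⟩
  have hlcinv : ∀ s ∈ S, ∀ g g' : Z₀, (g' : Δ) = s * g * s⁻¹ → (lc : Z₀ → ℂ) g' = (lc : Z₀ → ℂ) g :=
    fun s _ g g' hg => congrArg _ (Subtype.ext (by rw [hg, ← hc _ g.2.1 s, mul_inv_cancel_right]))
  obtain ⟨η₀, hη₀, hinv₀⟩ : ∃ η₀ : IrrCharacter W₀,
      classInner (fun n : Z₀ => (η₀ : W₀ → ℂ) ⟨n, n.2.2⟩) (lc : Z₀ → ℂ) ≠ 0 ∧
      ∀ s ∈ S, ∀ g g' : W₀, (g' : Δ) = s * g * s⁻¹ → (η₀ : W₀ → ℂ) g' = (η₀ : W₀ → ℂ) g := by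
    rcases hsolv with h | h
    · refine Cfsg.Agent.S4449.result W₀ S Z₀ hnormS inf_le_right
        (fun g _ n hn => by rw [← hc n hn.1 g, mul_inv_cancel_right]; exact hn) hfixZ hcopS ?_ lc hlcinv
      set q := (QuotientGroup.mk' W).comp S.subtype with hq
      have hker : Group.IsSolvable q.ker := by
        refine Group.isSolvable_of_comm fun x y => Subtype.ext (Subtype.ext ?_)
        have hxW : ((x : S) : Δ) ∈ W := (QuotientGroup.eq_one_iff _).mp x.2
        have hyW : ((y : S) : Δ) ∈ W := (QuotientGroup.eq_one_iff _).mp y.2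
        show ((x : S) : Δ) * (y : S) = (y : S) * (x : S)
        have h0 : ((x : S) : Δ) * (y : S) * (((y : S) : Δ) * (x : S))⁻¹ ∈ W₀ := by
          obtain ⟨hx1, hx2, hx3⟩ := hdec ⟨_, hxW⟩
          obtain ⟨hy1, hy2, hy3⟩ := hdec ⟨_, hyW⟩
          rw [← hx3, ← hy3]
          set u := (pr ⟨_, hxW⟩ : Δ)
          set v := (pr ⟨_, hyW⟩ : Δ)
          have hz := hc _ (hpr'Z ⟨_, hxW⟩)
          have hz' := hc _ (hpr'Z ⟨_, hyW⟩)
          set z := (pr' ⟨_, hxW⟩ : Δ)
          set z' := (pr' ⟨_, hyW⟩ : Δ)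
          have e1 : u * z * (v * z') * (v * z' * (u * z))⁻¹ = u * v * u⁻¹ * v⁻¹ := by
            have a1 : u * z * (v * z') = u * v * (z * z') := by
              rw [mul_assoc u z, ← mul_assoc z v, hz v, mul_assoc v z, ← mul_assoc u v]
            have a2 : v * z' * (u * z) = v * u * (z * z') := by
              rw [mul_assoc v z', ← mul_assoc z' u, hz' u, mul_assoc u z', ← mul_assoc v u, hz z']
            rw [a1, a2]; group
          rw [e1]
          exact W₀.mul_mem (W₀.mul_mem (W₀.mul_mem hx1 hy1) (W₀.inv_mem hx1)) (W₀.inv_mem hy1)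
        have h2 : ((x : S) : Δ) * (y : S) * (((y : S) : Δ) * (x : S))⁻¹ ∈ W₀ ⊓ S :=
          ⟨h0, S.mul_mem (S.mul_mem (x : S).2 (y : S).2) (S.inv_mem (S.mul_mem (y : S).2 (x : S).2))⟩
        rw [hS.disjoint.eq_bot, Subgroup.mem_bot, mul_inv_eq_one] at h2
        exact h2
      exact Group.isSolvable_of_ker_le_range q.ker.subtype q
        (by rw [Subgroup.range_subtype])
    · refine Cfsg.Agent.S4448.result W₀ S Z₀ hnormS inf_le_right hfixZ
        (hcopS.of_dvd_left (by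
          rw [← Subgroup.relIndex_bot_left]; exact Subgroup.relIndex_dvd_of_le_left _ bot_le)) ?_ lc hlcinv
      have hW : Group.IsSolvable W := by
        refine Group.isSolvable_of_ker_le_range (Z.subgroupOf W).subtype
          (QuotientGroup.mk' (Z.subgroupOf W)) (by rw [QuotientGroup.ker_mk', Subgroup.range_subtype])
          (hG' := ?_)
        exact Group.isSolvable_of_comm fun x y => Subtype.ext (Subtype.ext
          (hc _ (Subgroup.mem_subgroupOf.mp x.2) _))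
      have : Group.IsSolvable W₀ :=
        Group.isSolvable_of_isSolvable_injective (Subgroup.inclusion_injective hW₀W)
      exact Group.isSolvable_of_surjective (QuotientGroup.mk'_surjective _)
  obtain ⟨c, -, -, hres⟩ := restrict_eq_smul_of_invariant (Z₀.subgroupOf W₀) η₀.2
    (isIrrCharacter_comp_surjective lc.2 (Subgroup.subgroupOfEquivOfLe (inf_le_right : Z₀ ≤ W₀)).toMonoidHom
      (Subgroup.subgroupOfEquivOfLe (inf_le_right : Z₀ ≤ W₀)).surjective) (by
        rw [← classInner_equiv (Subgroup.subgroupOfEquivOfLe (inf_le_right : Z₀ ≤ W₀))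
          (fun n : Z₀ => (η₀ : W₀ → ℂ) ⟨n, n.2.2⟩) (lc : Z₀ → ℂ)] at hη₀
        exact hη₀)
    (fun g => funext fun n => congrArg (fun z => (lc : Z₀ → ℂ) z) (Subtype.ext (by
      show (g : Δ) * (n : W₀) * (g : Δ)⁻¹ = (n : W₀)
      rw [← hc _ (Subgroup.mem_subgroupOf.mp n.2).1 (g : Δ), mul_inv_cancel_right])))
  have hval : ∀ (z : Δ) (h1 : z ∈ Z) (h2 : z ∈ W₀),
      (η₀ : W₀ → ℂ) ⟨z, h2⟩ = (η₀ : W₀ → ℂ) 1 * (lam ⟨z, h1⟩ : ℂ) := by
    intro z h1 h2
    have e1 := congrFun hres ⟨⟨z, h2⟩, Subgroup.mem_subgroupOf.mpr ⟨h1, h2⟩⟩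
    have e0 := congrFun hres 1
    simp only [Pi.smul_apply, smul_eq_mul] at e1 e0
    have hl1 : (lc : Z₀ → ℂ) ((Subgroup.subgroupOfEquivOfLe (inf_le_right : Z₀ ≤ W₀)).toMonoidHom 1) = 1 := by
      rw [map_one]
      show (lam₀ 1 : ℂ) = 1
      rw [map_one, Units.val_one]
    rw [hl1, mul_one, OneMemClass.coe_one] at e0
    rw [e0, e1]
    rfl
  let p₀ : W →* W₀ := (W.subtype.comp pr).codRestrict W₀ fun w => (hdec w).1
  have hp₀ : Function.Surjective p₀ := fun w =>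
    ⟨⟨w, hW₀W w.2⟩, Subtype.ext (show (pr ⟨w, hW₀W w.2⟩ : Δ) = w from congrArg Subtype.val (hfix ⟨w, hW₀W w.2⟩ w.2))⟩
  let p₁ : W →* Z := (W.subtype.comp pr').codRestrict Z hpr'Z
  refine ⟨linMul (lam.comp p₁) ⟨_, isIrrCharacter_comp_surjective η₀.2 p₀ hp₀⟩, fun z h => ?_,
    fun x w h => ?_⟩
  · show (lam (p₁ ⟨z, h⟩) : ℂ) * (η₀ : W₀ → ℂ) (p₀ ⟨z, h⟩) =
      (lam (p₁ 1) : ℂ) * (η₀ : W₀ → ℂ) (p₀ 1) * (lam z : ℂ)
    obtain ⟨h1, h2, h3⟩ := hdec ⟨z, h⟩
    have hu : (p₀ ⟨z, h⟩ : Δ) ∈ Z := by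
      show (pr ⟨z, h⟩ : Δ) ∈ Z
      rw [show (pr ⟨z, h⟩ : Δ) = (z : Δ) * (pr' ⟨z, h⟩ : Δ)⁻¹ from eq_mul_inv_of_mul_eq h3]
      exact mul_mem z.2 (inv_mem (hpr'Z _))
    rw [map_one, map_one, map_one, Units.val_one, one_mul,
      show (η₀ : W₀ → ℂ) (p₀ ⟨z, h⟩) = _ from hval _ hu (p₀ ⟨z, h⟩).2,
      ← mul_assoc, mul_comm _ ((η₀ : W₀ → ℂ) 1), mul_assoc, ← Units.val_mul, ← map_mul]
    congr 3
    refine Subtype.ext ?_
    show (pr' ⟨z, h⟩ : Δ) * (pr ⟨z, h⟩ : Δ) = (z : Δ)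
    rw [hc _ (hpr'Z _) _]
    exact h3
  · show (lam (p₁ ⟨_, h⟩) : ℂ) * (η₀ : W₀ → ℂ) (p₀ ⟨_, h⟩) = (lam (p₁ w) : ℂ) * (η₀ : W₀ → ℂ) (p₀ w)
    obtain ⟨e1, e2⟩ := hconj w x h
    rw [show p₁ ⟨_, h⟩ = p₁ w from Subtype.ext (show (pr' ⟨_, h⟩ : Δ) = pr' w from congrArg Subtype.val e2)]
    congr 1
    obtain ⟨⟨g, s⟩, hgs⟩ := hS.2 x
    simp only at hgs
    have hm1 : (s : Δ) * (p₀ w : Δ) * (s : Δ)⁻¹ ∈ W₀ := hnormS _ s.2 _ (p₀ w).2
    rw [show (p₀ ⟨_, h⟩) = g * ⟨_, hm1⟩ * g⁻¹ from Subtype.ext (by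
      show (pr ⟨_, h⟩ : Δ) = (g : Δ) * ((s : Δ) * (pr w : Δ) * (s : Δ)⁻¹) * (g : Δ)⁻¹
      rw [e1, ← hgs]; group), isClassFunction_irr η₀]
    exact hinv₀ _ s.2 _ _ rfl


/-- A character with trivial values on the kernel of a surjection descends. -/
theorem exists_char_of_ker {A B : Type u} [Group A] [Finite A] [Group B] (f : A →* B)
    (hf : Function.Surjective f) {F : A → ℂ} (hF : IsCharacter A F) (hk : ∀ a, f a = 1 → F a = F 1) :
    ∃ χ : B → ℂ, IsCharacter B χ ∧ ∀ a, χ (f a) = F a := by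
  obtain ⟨n, σ, rfl⟩ := hF
  have hle : f.ker ≤ σ.toHomUnits.ker := fun a ha => by
    refine MonoidHom.mem_ker.mpr (Units.ext ?_)
    rw [MonoidHom.coe_toHomUnits, Units.val_one]
    refine (CfsgLib.Char.char_eq_degree_iff σ a).mp ?_
    rw [← Representation.char_one σ]
    exact hk a ha
  let σ' : Representation ℂ B (Fin n → ℂ) :=
    (Units.coeHom _).comp (f.liftOfSurjective hf ⟨σ.toHomUnits, hle⟩)
  refine ⟨σ'.character, ⟨n, σ', rfl⟩, fun a => ?_⟩
  have h : f.liftOfSurjective hf ⟨σ.toHomUnits, hle⟩ (f a) = σ.toHomUnits a :=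
    MonoidHom.liftOfRightInverse_comp_apply _ _ _ ⟨σ.toHomUnits, hle⟩ _
  refine congrArg (LinearMap.trace ℂ _) ?_
  show ((f.liftOfSurjective hf ⟨σ.toHomUnits, hle⟩ (f a) : _) : (Fin n → ℂ) →ₗ[ℂ] (Fin n → ℂ)) = σ a
  rw [h, MonoidHom.coe_toHomUnits]

/-- The product of an extension and an inflated character, descended. -/
theorem exists_irr_product {A B : Type u} [Group A] [Fintype A] [Group B] [Fintype B] (MA : Subgroup A)
    [MA.Normal] [Fintype MA] (f : A →* B) (hf : Function.Surjective f) {t b : A → ℂ}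
    (ht : IsIrrCharacter A t) (htM : IsIrrCharacter MA fun x : MA => t x) (hb : IsIrrCharacter A b)
    (hconst : ∀ (x : MA) (a : A), b ((x : A) * a) = b a)
    (hk : ∀ a, f a = 1 → t a * b a = t 1 * b 1) :
    ∃ χ : IrrCharacter B, ∀ a, (χ : B → ℂ) (f a) = t a * b a := by
  classical
  have hFc : IsCharacter A (t * b) := isCharacter_mul (isCharacter_of_isIrr ht) (isCharacter_of_isIrr hb)
  have hnorm : classInner (t * b) (t * b) = 1 := by
    have h1 : classInner (t * b) (t * b) = (Nat.card A : ℂ)⁻¹ *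
        ∑ a : A, ((fun x => t x * conj (t x)) * (fun x => b x * conj (b x))) a := by
      rw [classInner]
      congr 1
      refine Finset.sum_congr rfl fun a _ => ?_
      simp only [Pi.mul_apply, map_mul]
      ring
    rw [h1, ← sum_cosetAvg MA, cosetAvg_mul_const MA _ (fun x a => by simp only [hconst]),
      cosetAvg_self_eq_one MA ⟨t, ht⟩ htM]
    simpa [classInner] using classInner_irr_self ⟨b, hb⟩
  obtain ⟨χ, hχ, hχF⟩ := exists_char_of_ker f hf hFc fun a ha => hk a ha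
  exact ⟨⟨χ, CoreInduced.isIrr_of_comp f hχ (by
    rw [show (fun a => χ (f a)) = t * b from funext hχF]
    exact isIrr_of_isCharacter_norm_one hFc hnorm)⟩, fun a => hχF a⟩

/-- The invariant character above. -/
theorem exists_invariant_above {Γ : Type u} [Group Γ] [Fintype Γ] (G N : Subgroup Γ) [hG : G.Normal]
    [hN : N.Normal] [Fintype G] [Fintype N] (hNG : N ≤ G) (hcop : G.index.Coprime (N.relIndex G))
    (hsolv : Group.IsSolvable (Γ ⧸ G) ∨ Group.IsSolvable (G ⧸ N.subgroupOf G)) (θ : IrrCharacter N)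
    (hinv : ∀ (x : Γ) (n : N), (θ : N → ℂ) ⟨x * n * x⁻¹, hN.conj_mem n n.2 x⟩ = (θ : N → ℂ) n) :
    ∃ χ : IrrCharacter G, classInner (fun n : N => (χ : G → ℂ) ⟨n, hNG n.2⟩) (θ : N → ℂ) ≠ 0 ∧
      ∀ (x : Γ) (g : G), (χ : G → ℂ) ⟨x * g * x⁻¹, hG.conj_mem g g.2 x⟩ = (χ : G → ℂ) g := by
  classical
  obtain ⟨θ, hθ⟩ := θ
  obtain ⟨d, ρ, hρ, rfl⟩ := hθ
  have hθirr : IsIrrCharacter N ρ.character := ⟨d, ρ, hρ, rfl⟩
  have hρinv : IsInvariant N ρ := fun x n => hinv x n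
  have := nontrivial_coord N ρ
  have hd : d ≠ 0 := by
    rintro rfl
    exact not_subsingleton (Fin 0 → ℂ) inferInstance
  set m := Nat.card N with hm
  have hm0 : m ≠ 0 := Nat.card_pos.ne'
  let δ : extGroup N ρ →* ℂˣ := (Units.map LinearMap.det).comp (extOp N ρ)
  set E₁ : Subgroup (extGroup N ρ) := ((powMonoidHom m).comp δ).ker with hE₁
  have hmemE : ∀ e, e ∈ E₁ ↔ δ e ^ m = 1 := fun e => MonoidHom.mem_ker
  have hδs : ∀ c : ℂˣ, δ (extScal N ρ c) = c ^ d := fun c => Units.ext (by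
    show LinearMap.det (extOp N ρ (extScal N ρ c) : (Fin d → ℂ) →ₗ[ℂ] (Fin d → ℂ)) = _
    rw [extOp_scal, scalU_coe, Algebra.algebraMap_eq_smul_one, LinearMap.det_smul, map_one, mul_one,
      Units.val_pow_eq_pow_val]
    simp)
  have hembE : ∀ n : N, extEmb N ρ n ∈ E₁ := fun n => by
    rw [hmemE, ← map_pow, ← map_pow, hm, pow_card_eq_one', map_one, map_one]
  let i : N →* E₁ := (extEmb N ρ).codRestrict E₁ hembE
  let π : E₁ →* Γ := (extProj N ρ).comp E₁.subtype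
  have hπ : Function.Surjective π := by
    intro g
    obtain ⟨e, he⟩ := extProj_surjective N ρ hρinv g
    obtain ⟨w, hw⟩ := IsAlgClosed.exists_pow_nat_eq ((δ e)⁻¹ : ℂˣ).val (Nat.pos_of_ne_zero hd)
    have hw0 : w ≠ 0 := fun h => ((δ e)⁻¹).ne_zero (by rw [← hw, h, zero_pow hd])
    refine ⟨⟨e * extScal N ρ (Units.mk0 w hw0), ?_⟩, ?_⟩
    · rw [hmemE, map_mul, hδs, show (Units.mk0 w hw0) ^ d = (δ e)⁻¹ from Units.ext (by rw [Units.val_pow_eq_pow_val, Units.val_mk0, hw]),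
        mul_inv_cancel, one_pow]
    · exact (map_mul (extProj N ρ) _ _).trans (by rw [extProj_scal, mul_one, he])
  have hfinker : Finite π.ker := by
    have hk : ∀ x : π.ker, ∃ c : rootsOfUnity (d * m) ℂ, ((x : E₁) : extGroup N ρ) = extScal N ρ c := by
      intro x
      obtain ⟨c, hc⟩ := eq_scal_of_proj_eq_one N ρ (e := ((x : E₁) : extGroup N ρ)) x.2
      refine ⟨⟨c, ?_⟩, hc⟩
      have := (hmemE _).mp (x : E₁).2
      rw [hc, hδs, ← pow_mul] at this
      exact (mem_rootsOfUnity _ _).mpr this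
    choose c hc using hk
    have : NeZero (d * m) := ⟨Nat.mul_ne_zero hd hm0⟩
    exact Finite.of_injective c fun x y h => Subtype.ext (Subtype.ext (by rw [hc, hc, h]))
  have : Finite (E₁ ⧸ π.ker) := Finite.of_injective _ (QuotientGroup.kerLift_injective π)
  have : Finite E₁ := Finite.of_subgroup_quotient π.ker
  have := Fintype.ofFinite E₁
  set M : Subgroup E₁ := i.range with hM
  have hMn : M.Normal := ⟨by
    rintro _ ⟨n, rfl⟩ x
    exact ⟨normalConjHom N (extProj N ρ (x : extGroup N ρ)) n, Subtype.ext (extEmb_conj N ρ _ n).symm⟩⟩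
  set q := QuotientGroup.mk' M with hq
  have hMle : ∀ (P : Subgroup Γ), N ≤ P → M ≤ P.comap π := by
    rintro P hP _ ⟨n, rfl⟩
    exact hP n.2
  set W := (G.comap π).map q with hW
  set Z := (N.comap π).map q with hZ
  have hWn : W.Normal := (Subgroup.Normal.comap hG π).map q (QuotientGroup.mk'_surjective M)
  have hWc : W.comap q = G.comap π :=
    Subgroup.comap_map_eq_self (by rw [QuotientGroup.ker_mk']; exact hMle G hNG)
  have hZc : Z.comap q = N.comap π :=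
    Subgroup.comap_map_eq_self (by rw [QuotientGroup.ker_mk']; exact hMle N le_rfl)
  have hZW : Z ≤ W := Subgroup.map_mono (Subgroup.comap_mono hNG)
  have hdecN : ∀ x : E₁, π x ∈ N → ∃ (c : ℂˣ) (n : N), (x : extGroup N ρ) = extScal N ρ c * extEmb N ρ n := by
    intro x hx
    obtain ⟨c, hc⟩ := eq_scal_of_proj_eq_one N ρ
      (e := (x : extGroup N ρ) * (extEmb N ρ ⟨_, hx⟩)⁻¹) (by
        rw [map_mul, map_inv, extProj_emb]; exact mul_inv_cancel _)
    exact ⟨c, ⟨_, hx⟩, mul_inv_eq_iff_eq_mul.mp hc⟩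
  have hcen : ∀ z ∈ Z, ∀ y : E₁ ⧸ M, z * y = y * z := by
    rintro _ ⟨x, hx, rfl⟩ y
    obtain ⟨c, n, hcn⟩ := hdecN x hx
    obtain ⟨e, rfl⟩ := QuotientGroup.mk'_surjective M y
    have hk : x * (i n)⁻¹ * e = e * (x * (i n)⁻¹) := Subtype.ext (by
      show (x : extGroup N ρ) * (extEmb N ρ n)⁻¹ * (e : extGroup N ρ) =
        (e : extGroup N ρ) * ((x : extGroup N ρ) * (extEmb N ρ n)⁻¹)
      rw [hcn, mul_inv_cancel_right, extScal_comm])
    have h := congrArg q hk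
    have hi : q (i n) = 1 := (QuotientGroup.eq_one_iff _).mpr ⟨n, rfl⟩
    simpa only [map_mul, map_inv, hi, inv_one, mul_one] using h
  have := Fintype.ofFinite (E₁ ⧸ M)
  have := Fintype.ofFinite W
  have hZn : (Z.subgroupOf W).Normal := ⟨fun a ha b => by
    rw [Subgroup.mem_subgroupOf] at ha ⊢
    show (b : E₁ ⧸ M) * a * (b : E₁ ⧸ M)⁻¹ ∈ Z
    rw [← hcen _ ha (b : E₁ ⧸ M), mul_inv_cancel_right]
    exact ha⟩
  -- the linear character of the central subgroup
  obtain ⟨τ, hτs, hτe⟩ := exists_tau_of_extends N ρ N le_rfl ρ fun _ => rfl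
  let τ₁ : N.comap π →* ℂˣ := τ.comp
    ((E₁.subtype.comp (N.comap π).subtype).codRestrict (N.comap (extProj N ρ)) fun x => x.2)
  let qZ : N.comap π →* Z := q.subgroupMap (N.comap π)
  have hker : qZ.ker ≤ (τ₁⁻¹ : N.comap π →* ℂˣ).ker := fun x hx => by
    obtain ⟨n, hn⟩ := (QuotientGroup.eq_one_iff _).mp (congrArg Subtype.val (MonoidHom.mem_ker.mp hx))
    rw [MonoidHom.mem_ker, MonoidHom.inv_apply, inv_eq_one]
    have h : extEmb N ρ n ∈ N.comap (extProj N ρ) := n.2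
    rw [show τ₁ x = τ ⟨_, h⟩ from congrArg τ (Subtype.ext (congrArg Subtype.val hn).symm), hτe]
  let lam : Z →* ℂˣ := qZ.liftOfSurjective (q.subgroupMap_surjective _) ⟨τ₁⁻¹, hker⟩
  have hlam : ∀ x, lam (qZ x) = (τ₁ x)⁻¹ := fun x =>
    MonoidHom.liftOfRightInverse_comp_apply _ _ _ ⟨τ₁⁻¹, hker⟩ x
  have hidx : W.index = G.index := by
    rw [← Subgroup.index_comap_of_surjective W (QuotientGroup.mk'_surjective M), hWc,
      Subgroup.index_comap_of_surjective G hπ]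
  have hrel : Z.relIndex W = N.relIndex G := by
    rw [hW, ← Subgroup.relIndex_comap, hZc, Subgroup.relIndex_comap,
      Subgroup.map_comap_eq_self_of_surjective hπ]
  have hsolv' : Group.IsSolvable ((E₁ ⧸ M) ⧸ W) ∨ Group.IsSolvable (W ⧸ Z.subgroupOf W) := by
    refine hsolv.imp (fun h => ?_) fun h => ?_ <;> have := h
    · let f : E₁ →* Γ ⧸ G := (QuotientGroup.mk' G).comp π
      have hfM : M ≤ f.ker := fun x hx => (QuotientGroup.eq_one_iff _).mpr (hMle G hNG hx)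
      let g : E₁ ⧸ M →* Γ ⧸ G := QuotientGroup.lift M f hfM
      have hWg : g.ker = W := Subgroup.ext fun y => by
        obtain ⟨x, rfl⟩ := QuotientGroup.mk'_surjective M y
        rw [MonoidHom.mem_ker, ← Subgroup.mem_comap (f := q), hWc, Subgroup.mem_comap]
        exact QuotientGroup.eq_one_iff _
      refine Group.isSolvable_of_isSolvable_injective (f := QuotientGroup.lift W g hWg.ge) ?_
      rw [← MonoidHom.ker_eq_bot_iff, QuotientGroup.ker_lift, hWg, Subgroup.map_eq_bot_iff,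
        QuotientGroup.ker_mk']
    · let qW : G.comap π →* W := q.subgroupMap (G.comap π)
      let v : G.comap π →* G ⧸ N.subgroupOf G := (QuotientGroup.mk' _).comp
        ((π.comp (G.comap π).subtype).codRestrict G fun x => x.2)
      have hv : Function.Surjective v := fun y => by
        obtain ⟨g, rfl⟩ := QuotientGroup.mk'_surjective _ y
        obtain ⟨x, hx⟩ := hπ g
        exact ⟨⟨x, show π x ∈ G from hx ▸ g.2⟩, congrArg (QuotientGroup.mk' _) (Subtype.ext hx)⟩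
      let u : G.comap π →* W ⧸ Z.subgroupOf W := (QuotientGroup.mk' _).comp qW
      have hvu : v.ker ≤ u.ker := fun x hx => by
        have hxN : π (x : E₁) ∈ N :=
          Subgroup.mem_subgroupOf.mp ((QuotientGroup.eq_one_iff _).mp (MonoidHom.mem_ker.mp hx))
        exact MonoidHom.mem_ker.mpr ((QuotientGroup.eq_one_iff _).mpr
          (Subgroup.mem_subgroupOf.mpr ⟨_, hxN, rfl⟩))
      refine Group.isSolvable_of_surjective (f := v.liftOfSurjective hv ⟨u, hvu⟩) fun y => ?_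
      obtain ⟨y', rfl⟩ := QuotientGroup.mk'_surjective _ y
      obtain ⟨x, rfl⟩ := q.subgroupMap_surjective (G.comap π) y'
      exact ⟨v x, MonoidHom.liftOfRightInverse_comp_apply _ _ _ ⟨u, hvu⟩ x⟩
  obtain ⟨η, hηz, hηinv⟩ := exists_invariant_of_central W Z hZW hcen lam
    (by rw [hidx, hrel]; exact hcop) hsolv'
  -- the product on the preimage of `G`
  set A := G.comap π with hA
  let qW : A →* W := q.subgroupMap A
  let R : Representation ℂ E₁ (Fin d → ℂ) := (Units.coeHom _).comp ((extOp N ρ).comp E₁.subtype)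
  have hΘ : IsCharacter E₁ R.character := ⟨d, R, rfl⟩
  let jA : N →* A := i.codRestrict A fun n => hMle G hNG ⟨n, rfl⟩
  have hjA : (fun n => R.character (jA n : E₁)) = ρ.character := rfl
  have hΘA : IsIrrCharacter A (fun a : A => R.character (a : E₁)) :=
    CoreInduced.isIrr_of_comp jA (isCharacter_comp hΘ A.subtype) hθirr
  set MA := M.subgroupOf A with hMA
  have := Fintype.ofFinite MA
  have hΘM : IsIrrCharacter MA (fun x : MA => R.character ((x : A) : E₁)) :=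
    CoreInduced.isIrr_of_comp (jA.codRestrict MA fun n => Subgroup.mem_subgroupOf.mpr ⟨n, rfl⟩)
      (isCharacter_comp hΘ (A.subtype.comp MA.subtype)) hθirr
  have hηA : IsIrrCharacter A (fun a => (η : W → ℂ) (qW a)) :=
    isIrrCharacter_comp_surjective η.2 qW (q.subgroupMap_surjective A)
  have hconst : ∀ (x : MA) (a : A), (η : W → ℂ) (qW ((x : A) * a)) = (η : W → ℂ) (qW a) := fun x a => by
    rw [map_mul, show qW (x : A) = 1 from
      Subtype.ext ((QuotientGroup.eq_one_iff _).mpr (Subgroup.mem_subgroupOf.mp x.2)), one_mul]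
  let πA : A →* G := (π.comp A.subtype).codRestrict G fun a => a.2
  have hπA : Function.Surjective πA := fun g => by
    obtain ⟨x, hx⟩ := hπ g
    exact ⟨⟨x, show π x ∈ G from hx ▸ g.2⟩, Subtype.ext hx⟩
  have hFker : ∀ a : A, πA a = 1 → R.character (a : E₁) * (η : W → ℂ) (qW a) =
      R.character ((1 : A) : E₁) * (η : W → ℂ) (qW 1) := fun a ha => by
    have ha1 : π (a : E₁) = 1 := congrArg Subtype.val ha
    obtain ⟨c, hc⟩ := eq_scal_of_proj_eq_one N ρ (e := ((a : E₁) : extGroup N ρ)) ha1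
    have haN : (a : E₁) ∈ N.comap π := show π (a : E₁) ∈ N from ha1 ▸ one_mem N
    have e1 : (η : W → ℂ) (qW a) = (η : W → ℂ) 1 * ((c : ℂ))⁻¹ := by
      have h : τ₁ ⟨_, haN⟩ = c := by
        have h' : extScal N ρ c ∈ N.comap (extProj N ρ) := hc ▸ haN
        rw [show τ₁ ⟨_, haN⟩ = τ ⟨_, h'⟩ from congrArg τ (Subtype.ext hc), hτs]
      rw [← Units.val_inv_eq_inv_val, ← h, ← hlam]
      exact hηz (qZ ⟨_, haN⟩) _
    have e2 : R.character (a : E₁) = (c : ℂ) * d := by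
      show LinearMap.trace ℂ _ (extOp N ρ ((a : E₁) : extGroup N ρ) : (Fin d → ℂ) →ₗ[ℂ] (Fin d → ℂ)) = _
      rw [hc, extOp_scal, scalU_coe, Algebra.algebraMap_eq_smul_one, map_smul, smul_eq_mul,
        LinearMap.trace_one, Module.finrank_fin_fun]
    have e3 : R.character ((1 : A) : E₁) = (d : ℂ) := by
      rw [OneMemClass.coe_one, Representation.char_one, Module.finrank_fin_fun]
    rw [e1, e2, e3, map_one]
    field_simp
  obtain ⟨⟨χ, hχirr⟩, hχF⟩ := exists_irr_product MA πA hπA hΘA hΘM hηA hconst hFker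
  change ∀ a, χ (πA a) = R.character (a : E₁) * (η : W → ℂ) (qW a) at hχF
  refine ⟨⟨χ, hχirr⟩, ?_, fun x g => ?_⟩
  · have hres : (fun n : N => χ ⟨n, hNG n.2⟩) = (η : W → ℂ) 1 • ρ.character := funext fun n => by
      rw [show (⟨n, hNG n.2⟩ : G) = πA (jA n) from rfl, hχF, Pi.smul_apply, smul_eq_mul]
      rw [mul_comm ((η : W → ℂ) 1), show qW (jA n) = 1 from Subtype.ext ((QuotientGroup.eq_one_iff _).mpr ⟨n, rfl⟩)]
      rfl
    show classInner (fun n : N => χ ⟨n, hNG n.2⟩) ρ.character ≠ 0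
    rw [hres, classInner_smul_left,
      show classInner ρ.character ρ.character = 1 from classInner_irr_self ⟨_, hθirr⟩, mul_one]
    exact irr_one_ne_zero η
  · obtain ⟨a, rfl⟩ := hπA g
    obtain ⟨e, rfl⟩ := hπ x
    have hm' : e * (a : E₁) * e⁻¹ ∈ A := by
      show π (e * a * e⁻¹) ∈ G
      rw [map_mul, map_mul, map_inv]
      exact hG.conj_mem _ a.2 _
    show χ _ = χ _
    rw [show (⟨π e * (πA a : Γ) * (π e)⁻¹, hG.conj_mem _ (πA a).2 _⟩ : G) = πA ⟨_, hm'⟩ from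
      Subtype.ext (by show _ = π (e * a * e⁻¹); rw [map_mul, map_mul, map_inv]; rfl), hχF, hχF]
    rw [isClassFunction_of_isCharacter hΘ]
    congr 1
    have hw : q e * (qW a : E₁ ⧸ M) * (q e)⁻¹ ∈ W := hWn.conj_mem _ (qW a).2 _
    rw [show qW ⟨_, hm'⟩ = ⟨_, hw⟩ from Subtype.ext (by
      show q (e * a * e⁻¹) = q e * q a * (q e)⁻¹
      rw [map_mul, map_mul, map_inv])]
    exact hηinv _ _ hw

end CfsgLib.Char.InvariantRelative
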