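import Cfsg.Agent.Lib.Char.SquareRoots
import Cfsg.Agent.Lib.Char.InvariantAbove

/-!
# `2`-groups whose number of involutions is one modulo four
-/

set_option autoImplicit false
set_option linter.unusedSectionVars false
set_option linter.style.haveILetI false

namespace CfsgLib.Char.InvolutionsModFour

open scoped ComplexConjugate
open Cfsg

universe u

variable {G : Type u} [Group G] [Fintype G]

/-- A subgroup of linear characters and the intersection of the kernels of its members. -/
theorem card_common_kernel (A : Subgroup (G →* ℂˣ)) [Finite A] :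
    Nat.card A * Nat.card {g : G // ∀ lam ∈ A, lam g = 1} = Nat.card G := by
  classical
  have := Fintype.ofFinite A
  have h1 : ∀ g : G, ∑ lam : A, (((lam : G →* ℂˣ) g : ℂˣ) : ℂ) =
      if ∀ lam ∈ A, lam g = 1 then (Nat.card A : ℂ) else 0 := by
    intro g
    by_cases h : ∀ lam ∈ A, lam g = 1
    · rw [if_pos h, Finset.sum_congr rfl fun (lam : A) _ => by rw [h lam lam.2]]
      simp
    · rw [if_neg h]
      push Not at h
      obtain ⟨φ, hφA, hφ⟩ := h
      set T := ∑ lam : A, (((lam : G →* ℂˣ) g : ℂˣ) : ℂ) with hT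
      have e : (φ g : ℂ) * T = T := by
        rw [hT, Finset.mul_sum]
        exact Fintype.sum_bijective (fun f => (⟨φ, hφA⟩ : A) * f) (Group.mulLeft_bijective _) _ _
          fun f => by rw [Subgroup.coe_mul, MonoidHom.mul_apply, Units.val_mul]
      by_contra hne
      exact hφ (Units.ext ((mul_eq_right₀ hne).mp e))
  have h2 : ∀ lam : A, ∑ g : G, (((lam : G →* ℂˣ) g : ℂˣ) : ℂ) =
      if lam = 1 then (Nat.card G : ℂ) else 0 := by
    intro lam
    by_cases h : lam = 1
    · subst h; simp
    · rw [if_neg h]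
      obtain ⟨a, ha⟩ : ∃ a, (lam : G →* ℂˣ) a ≠ 1 := by
        by_contra hc
        push Not at hc
        exact h (Subtype.ext (MonoidHom.ext hc))
      set T := ∑ g : G, (((lam : G →* ℂˣ) g : ℂˣ) : ℂ) with hT
      have e : ((lam : G →* ℂˣ) a : ℂ) * T = T := by
        rw [hT, Finset.mul_sum]
        exact Fintype.sum_bijective (fun g => a * g) (Group.mulLeft_bijective _) _ _
          fun g => by rw [map_mul, Units.val_mul]
      by_contra hne
      exact ha (Units.ext ((mul_eq_right₀ hne).mp e))
  have h3 : ∑ g : G, ∑ lam : A, (((lam : G →* ℂˣ) g : ℂˣ) : ℂ) =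
      ∑ lam : A, ∑ g : G, (((lam : G →* ℂˣ) g : ℂˣ) : ℂ) := Finset.sum_comm
  simp only [h1, h2, Finset.sum_ite, Finset.sum_const, smul_zero, add_zero, nsmul_eq_mul] at h3
  rw [Finset.filter_eq' Finset.univ (1 : A), if_pos (Finset.mem_univ _), Finset.card_singleton,
    Nat.cast_one, one_mul] at h3
  rw [Nat.card_eq_fintype_card (α := {g : G // _}), Fintype.card_subtype, mul_comm]
  exact_mod_cast h3

/-- A fixed character of degree at most two bounds the group of linear characters by four. -/
theorem card_le_four (A : Subgroup (G →* ℂˣ)) [Finite A] (χ : IrrCharacter G)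
    (hd : (χ : G → ℂ) 1 = 2)
    (hfix : ∀ lam ∈ A, ∀ g : G, ((lam g : ℂˣ) : ℂ) * (χ : G → ℂ) g = (χ : G → ℂ) g) :
    Nat.card A ≤ 4 := by
  classical
  obtain ⟨χ, n, ρ, hρ, rfl⟩ := χ
  have hn : (Module.finrank ℂ (Fin n → ℂ) : ℂ) = 2 := by
    rw [← hd]; exact (Representation.char_one ρ).symm
  have hn' : Module.finrank ℂ (Fin n → ℂ) = 2 := by exact_mod_cast hn
  set K := Finset.univ.filter (fun g : G => ∀ lam ∈ A, lam g = 1) with hK
  have hsupp : ∀ g, g ∉ K → ρ.character g = 0 := by
    intro g hg
    simp only [hK, Finset.mem_filter, Finset.mem_univ, true_and, not_forall] at hg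
    obtain ⟨lam, hlam, hne⟩ := hg
    by_contra h0
    exact hne (Units.ext ((mul_eq_right₀ h0).mp (hfix lam hlam g)))
  have h := classInner_irr_self (⟨ρ.character, n, ρ, hρ, rfl⟩ : IrrCharacter G)
  rw [classInner_self, Complex.ofReal_eq_one, inv_mul_eq_one₀ (by exact_mod_cast Nat.card_pos.ne')] at h
  have hle : (Nat.card G : ℝ) ≤ 4 * K.card := by
    rw [h]
    show ∑ g : G, ‖ρ.character g‖ ^ 2 ≤ _
    rw [← Finset.sum_subset (Finset.subset_univ K) fun g _ hg => by rw [hsupp g hg]; simp]
    refine (Finset.sum_le_sum fun g _ => ?_).trans (le_of_eq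
      (by rw [Finset.sum_const, nsmul_eq_mul, mul_comm] : ∑ g ∈ K, (4 : ℝ) = 4 * K.card))
    have h2 := norm_char_le ρ g
    rw [hn'] at h2
    push_cast at h2
    nlinarith [norm_nonneg (ρ.character g)]
  have hle' : Nat.card G ≤ 4 * K.card := by exact_mod_cast hle
  have hc := card_common_kernel A
  rw [Nat.card_eq_fintype_card (α := {g : G // _}), Fintype.card_subtype, ← hK] at hc
  have hKpos : 0 < K.card := Finset.card_pos.mpr ⟨1, by simp [hK]⟩
  exact Nat.le_of_mul_le_mul_right (hc.le.trans hle') hKpos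

/-- A `2`-group with at most two linear characters of square one is cyclic. -/
theorem isCyclic_of_few (hG : IsPGroup 2 G)
    (h2 : Nat.card {lam : G →* ℂˣ // lam * lam = 1} ≤ 2) : IsCyclic G := by
  classical
  haveI : Finite (G →* ℂˣ) := Finite.of_equiv _ (linearCharEquiv (G := G)).symm
  have := Fintype.ofFinite (G →* ℂˣ)
  obtain ⟨m, hm⟩ := IsPGroup.iff_card.mp hG
  have hexp : ∀ lam : G →* ℂˣ, lam ^ (2 ^ m) = 1 := fun lam => MonoidHom.ext fun g => by
    show (lam g) ^ (2 ^ m) = 1
    rw [← map_pow, ← hm, pow_card_eq_one', map_one]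
  have hk : ∀ j : ℕ, (Finset.univ.filter fun lam : G →* ℂˣ => lam ^ (2 ^ j) = 1).card ≤ 2 ^ j := by
    intro j
    induction j with
    | zero => simp [Finset.filter_eq']
    | succ j ih =>
      have hmaps : ∀ lam ∈ Finset.univ.filter (fun lam : G →* ℂˣ => lam ^ (2 ^ (j + 1)) = 1),
          lam * lam ∈ Finset.univ.filter (fun lam : G →* ℂˣ => lam ^ (2 ^ j) = 1) := by
        intro lam hlam
        simp only [Finset.mem_filter, Finset.mem_univ, true_and] at hlam ⊢
        refine MonoidHom.ext fun g => ?_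
        have e := DFunLike.congr_fun hlam g
        show (lam g * lam g) ^ 2 ^ j = 1
        rw [← pow_two, ← pow_mul, ← pow_succ']; exact e
      rw [Finset.card_eq_sum_card_fiberwise hmaps]
      refine (Finset.sum_le_card_nsmul _ _ 2 fun μ _ => ?_).trans ?_
      · rcases (Finset.filter (fun lam => lam * lam = μ)
            (Finset.univ.filter (fun lam : G →* ℂˣ => lam ^ (2 ^ (j + 1)) = 1))).eq_empty_or_nonempty
          with he | ⟨lam₀, hl₀⟩
        · rw [he]; simp
        · refine le_trans ?_ h2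
          rw [Nat.card_eq_fintype_card, Fintype.card_subtype]
          refine Finset.card_le_card_of_injOn (fun lam => lam * lam₀⁻¹) (fun lam hlam => ?_)
            fun a _ b _ e => mul_right_cancel e
          simp only [Finset.mem_coe, Finset.mem_filter, Finset.mem_univ, true_and] at hlam hl₀ ⊢
          rw [show lam * lam₀⁻¹ * (lam * lam₀⁻¹) = lam * lam * (lam₀ * lam₀)⁻¹ from
            MonoidHom.ext fun g => by simp [mul_mul_mul_comm, mul_inv], hlam.2, hl₀.2]
          exact MonoidHom.ext fun g => mul_inv_cancel (μ g)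
      · rw [smul_eq_mul, pow_succ]
        exact Nat.mul_le_mul_right 2 ih
  have hLcyc : IsCyclic (G →* ℂˣ) := by
    refine isCyclic_of_card_pow_eq_one_le (α := G →* ℂˣ) fun n hn => ?_
    obtain ⟨j, -, hj⟩ := (Nat.dvd_prime_pow Nat.prime_two).mp (Nat.gcd_dvd_right n (2 ^ m))
    refine le_trans (Finset.card_le_card fun lam hlam => ?_)
      ((hk j).trans (hj ▸ Nat.le_of_dvd hn (Nat.gcd_dvd_left n (2 ^ m))))
    simp only [Finset.mem_filter, Finset.mem_univ, true_and] at hlam ⊢
    rw [← hj]
    exact pow_gcd_eq_one.mpr ⟨hlam, hexp lam⟩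
  have hAb : IsCyclic (Abelianization G) := by
    let f : (Abelianization G →* ℂˣ) →* (G →* ℂˣ) :=
      { toFun := fun φ => φ.comp Abelianization.of, map_one' := rfl, map_mul' := fun a b => rfl }
    have hf : Function.Injective f := fun a b e => Abelianization.hom_ext a b e
    haveI := isCyclic_of_injective f hf
    obtain ⟨e⟩ := CommGroup.monoidHom_mulEquiv_of_hasEnoughRootsOfUnity (Abelianization G) ℂ
    exact isCyclic_of_surjective e.toMonoidHom e.surjective
  obtain ⟨q, hq⟩ := hAb.exists_generator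
  obtain ⟨g, rfl⟩ : ∃ g : G, Abelianization.of g = q := QuotientGroup.mk_surjective q
  haveI : Group.IsNilpotent G := hG.isNilpotent
  refine ⟨⟨g, fun y => ?_⟩⟩
  suffices h : Subgroup.zpowers g = ⊤ by
    have := Subgroup.mem_top y
    rw [← h] at this
    exact this
  rcases eq_top_or_exists_le_coatom (Subgroup.zpowers g) with h | ⟨M, hM, hgM⟩
  · exact h
  exfalso
  haveI : M.Normal := Subgroup.NormalizerCondition.normal_of_coatom M Group.normalizerCondition_of_isNilpotent hM
  have hcomm : commutator G ≤ M := by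
    rw [commutator_def, Subgroup.commutator_le]
    intro a _ b _
    obtain ⟨x, hx⟩ : ∃ x, x ∉ M := by
      by_contra hc
      push Not at hc
      exact hM.1 (eq_top_iff.mpr fun x _ => hc x)
    have htop : M ⊔ Subgroup.zpowers x = ⊤ :=
      hM.2 _ (lt_of_le_of_ne le_sup_left fun e =>
        hx (e ▸ Subgroup.mem_sup_right (Subgroup.mem_zpowers x)))
    have hgen : ∀ c : G, ∃ i : ℤ, ((x : G) : G ⧸ M) ^ i = (c : G ⧸ M) := fun c => by
      have := Subgroup.mem_top c
      rw [← htop, Subgroup.mem_sup_of_normal_left] at this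
      obtain ⟨u, hu, v, ⟨i, rfl⟩, rfl⟩ := this
      exact ⟨i, by rw [QuotientGroup.mk_mul, (QuotientGroup.eq_one_iff u).mpr hu, one_mul,
        QuotientGroup.mk_zpow]⟩
    obtain ⟨i, hi⟩ := hgen a
    obtain ⟨j, hj⟩ := hgen b
    rw [← QuotientGroup.eq_one_iff, commutatorElement_def]
    simp only [QuotientGroup.mk_mul, QuotientGroup.mk_inv, ← hi, ← hj, ← zpow_neg, ← zpow_add]
    simp
  apply hM.1
  rw [eq_top_iff]
  intro y _
  obtain ⟨i, hi⟩ := hq (Abelianization.of y)
  have h3 : (g ^ i)⁻¹ * y ∈ commutator G := by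
    rw [← QuotientGroup.eq]
    change Abelianization.of (g ^ i) = Abelianization.of y
    rw [map_zpow]; exact hi
  have := M.mul_mem (M.zpow_mem (hgM (Subgroup.mem_zpowers g)) i) (hcomm h3)
  rwa [mul_inv_cancel_left] at this

end CfsgLib.Char.InvolutionsModFour
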