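import Mathlib

/-!
# The Jacobi–Trudi determinant and the orthonormality it gives

`margins α β` is the number of matrices of natural numbers with given row and column sums; the alternating
sums of these numbers attached to two strictly increasing exponent vectors are Kronecker deltas.
-/

set_option autoImplicit false
set_option linter.unusedSectionVars false

namespace CfsgLib.Char.JacobiTrudi

open Finset MvPolynomial

variable {n : ℕ}

/-- The complete homogeneous symmetric polynomial of degree `m`. -/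
noncomputable def hh (n m : ℕ) : MvPolynomial (Fin n) ℤ :=
  ∑ l ∈ (univ : Finset (Fin n)).finsuppAntidiag m, monomial l 1

/-- Exponent vectors. -/
noncomputable def expo (α : Fin n → ℕ) : Fin n →₀ ℕ := Finsupp.equivFunOnFinite.symm α

theorem expo_apply (α : Fin n → ℕ) (i : Fin n) : expo α i = α i := rfl

theorem prod_X_pow (α : Fin n → ℕ) :
    ∏ i, (X i : MvPolynomial (Fin n) ℤ) ^ α i = monomial (expo α) 1 := by
  rw [monomial_eq, C_1, one_mul, Finsupp.prod_fintype _ _ fun i => pow_zero _]
  rfl

/-- `∏_{l ≠ i} (1 - x_l t)`. -/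
noncomputable def skipPoly (i : Fin n) : Polynomial (MvPolynomial (Fin n) ℤ) :=
  ∏ l ∈ univ.erase i, (1 - Polynomial.C (X l) * Polynomial.X)

theorem skipPoly_coeff_eq_zero (i : Fin n) {k : ℕ} (hk : n ≤ k) : (skipPoly i).coeff k = 0 := by
  suffices h : (skipPoly i).natDegree ≤ n - 1 from
    Polynomial.coeff_eq_zero_of_natDegree_lt (by have := i.pos; omega)
  refine (Polynomial.natDegree_prod_le _ _).trans ?_
  refine (Finset.sum_le_card_nsmul _ _ 1 fun l _ => ?_).trans ?_
  · refine (Polynomial.natDegree_sub_le _ _).trans ?_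
    rw [Polynomial.natDegree_one]
    exact max_le (Nat.zero_le _) ((Polynomial.natDegree_C_mul_X_pow_le _ 1).trans' (by rw [pow_one]))
  · simp

/-- The geometric series of one variable. -/
noncomputable def geo (i : Fin n) : PowerSeries (MvPolynomial (Fin n) ℤ) :=
  PowerSeries.mk fun m => X i ^ m

theorem geo_mul (i : Fin n) :
    geo i * ((1 - Polynomial.C (X i) * Polynomial.X : Polynomial (MvPolynomial (Fin n) ℤ)) :
      PowerSeries (MvPolynomial (Fin n) ℤ)) = 1 := by
  rw [Polynomial.coe_sub, Polynomial.coe_one, Polynomial.coe_mul, Polynomial.coe_C, Polynomial.coe_X,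
    mul_sub, mul_one, ← mul_assoc]
  ext1 m
  rcases m with _ | m
  · simp [geo]
  · rw [map_sub, PowerSeries.coeff_succ_mul_X, PowerSeries.coeff_mul_C, geo, PowerSeries.coeff_mk,
      PowerSeries.coeff_mk, ← pow_succ]
    simp

theorem coeff_prod_geo (n m : ℕ) :
    PowerSeries.coeff m (∏ i : Fin n, geo i) = hh n m := by
  rw [PowerSeries.coeff_prod, hh]
  refine Finset.sum_congr rfl fun l _ => ?_
  simp only [geo, PowerSeries.coeff_mk]
  rw [prod_X_pow, show expo (⇑l) = l from Finsupp.ext fun _ => rfl]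

theorem pow_eq_sum (i : Fin n) (m : ℕ) :
    (X i : MvPolynomial (Fin n) ℤ) ^ m =
      ∑ k : Fin n, (skipPoly i).coeff k * (if k.val ≤ m then hh n (m - k) else 0) := by
  have h : (skipPoly i : PowerSeries (MvPolynomial (Fin n) ℤ)) * ∏ l, geo l = geo i := by
    rw [← Finset.mul_prod_erase univ geo (mem_univ i), mul_left_comm]
    conv_rhs => rw [← mul_one (geo i)]
    congr 1
    rw [skipPoly, ← Polynomial.coeToPowerSeries.ringHom_apply, map_prod, ← Finset.prod_mul_distrib]
    exact Finset.prod_eq_one fun l _ => by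
      rw [Polynomial.coeToPowerSeries.ringHom_apply, mul_comm]; exact geo_mul l
  have h' := congrArg (PowerSeries.coeff m) h
  rw [PowerSeries.coeff_mul, Nat.sum_antidiagonal_eq_sum_range_succ_mk] at h'
  simp only [coeff_prod_geo, Polynomial.coeff_coe] at h'
  rw [geo, PowerSeries.coeff_mk] at h'
  rw [← h', Fin.sum_univ_eq_sum_range (fun k => (skipPoly i).coeff k * (if k ≤ m then hh n (m - k) else 0)) n]
  have e : ∑ k ∈ range (m + 1), (skipPoly i).coeff k * hh n (m - k) =
      ∑ k ∈ range (m + 1), (skipPoly i).coeff k * (if k ≤ m then hh n (m - k) else 0) :=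
    Finset.sum_congr rfl fun k hk => by rw [if_pos (Nat.lt_succ_iff.1 (mem_range.1 hk))]
  rw [e]
  rcases le_total n (m + 1) with hle | hle
  · exact (Finset.sum_subset (range_mono hle) fun k _ hk => by
      rw [skipPoly_coeff_eq_zero i (not_lt.1 fun h => hk (mem_range.2 h)), zero_mul]).symm
  · refine Finset.sum_subset (range_mono hle) fun k _ hk => ?_
    rw [if_neg (fun h => hk (mem_range.2 (Nat.lt_succ_of_le h))), mul_zero]

/-- The alternant `(x_i ^ λ_j)`. -/
noncomputable def altMat (lam : Fin n → ℕ) : Matrix (Fin n) (Fin n) (MvPolynomial (Fin n) ℤ) :=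
  Matrix.of fun i j => X i ^ lam j

/-- The Jacobi–Trudi matrix. -/
noncomputable def jtMat (lam : Fin n → ℕ) : Matrix (Fin n) (Fin n) (MvPolynomial (Fin n) ℤ) :=
  Matrix.of fun k j => if k.val ≤ lam j then hh n (lam j - k) else 0

theorem hh_zero (n : ℕ) : hh n 0 = 1 := by
  rw [hh, finsuppAntidiag_zero, Finset.sum_singleton]
  rfl

/-- Jacobi–Trudi. -/
theorem det_altMat (lam : Fin n → ℕ) :
    (altMat lam).det = (altMat fun j : Fin n => j.val).det * (jtMat lam).det := by
  have key : ∀ l : Fin n → ℕ,
      altMat l = Matrix.of (fun i k : Fin n => (skipPoly i).coeff k) * jtMat l := fun l => by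
    ext1 i j
    exact pow_eq_sum i (l j)
  have hone : (jtMat fun j : Fin n => j.val).det = 1 := by
    rw [Matrix.det_of_upperTriangular]
    · exact Finset.prod_eq_one fun i _ => by simp [jtMat, hh_zero]
    · intro i j hij
      simp only [id_eq] at hij
      simp [jtMat, hij]
  rw [key lam, key fun j : Fin n => j.val, Matrix.det_mul, Matrix.det_mul, hone, mul_one]

theorem det_altMat_eq (lam : Fin n → ℕ) :
    (altMat lam).det =
      ∑ σ : Equiv.Perm (Fin n), C ((Equiv.Perm.sign σ : ℤ)) * monomial (expo fun i => lam (σ i)) 1 := by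
  rw [← Matrix.det_transpose, Matrix.det_apply']
  refine Finset.sum_congr rfl fun σ _ => ?_
  rw [← prod_X_pow]
  simp [altMat]

theorem det_jtMat_eq (lam : Fin n → ℕ) :
    (jtMat lam).det = ∑ κ : Equiv.Perm (Fin n), if ∀ i, (κ i).val ≤ lam i then
      C ((Equiv.Perm.sign κ : ℤ)) * ∏ i, hh n (lam i - (κ i).val) else 0 := by
  rw [Matrix.det_apply']
  refine Finset.sum_congr rfl fun κ _ => ?_
  split_ifs with h
  · congr 1
    exact Finset.prod_congr rfl fun i _ => by simp [jtMat, h i]
  · push Not at h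
    obtain ⟨i, hi⟩ := h
    rw [Finset.prod_eq_zero (mem_univ i) (by simp [jtMat, not_le.2 hi]), mul_zero]

/-- Matrices with given margins: column sums `β`, row sums `α`. -/
def Margins (α β : Fin n → ℕ) : Type :=
  {M : Fin n → Fin n → ℕ // (∀ b, ∑ a, M a b = β b) ∧ ∀ a, ∑ b, M a b = α a}

theorem coeff_prod_hh (α β : Fin n → ℕ) :
    coeff (expo α) (∏ j, hh n (β j)) = (Nat.card (Margins α β) : ℤ) := by
  classical
  simp only [hh]
  rw [Finset.prod_univ_sum, coeff_sum]
  simp only [← monomial_sum_one, coeff_monomial, Finset.sum_boole]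
  rw [Nat.cast_inj, ← Nat.card_eq_finsetCard]
  refine Nat.card_congr
    { toFun := fun Γ => ⟨fun a b => Γ.1 b a, fun b => ?_, fun a => ?_⟩
      invFun := fun M => ⟨fun b => expo fun a => M.1 a b, ?_⟩
      left_inv := fun Γ => Subtype.ext (funext fun b => Finsupp.ext fun _ => rfl)
      right_inv := fun M => rfl }
  · have h := (mem_filter.1 Γ.2).1
    have h' := (mem_finsuppAntidiag.1 (Fintype.mem_piFinset.1 h b)).1
    exact h'
  · have h := congrArg (fun f : Fin n →₀ ℕ => f a) (mem_filter.1 Γ.2).2
    simpa [Finsupp.finset_sum_apply, expo_apply] using h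
  · refine mem_filter.2 ⟨Fintype.mem_piFinset.2 fun b => mem_finsuppAntidiag.2 ⟨M.2.1 b, subset_univ _⟩,
      Finsupp.ext fun a => ?_⟩
    simp only [Finsupp.finset_sum_apply, expo_apply]
    exact M.2.2 a

/-- Orthonormality of the alternating sums of margin counts. -/
theorem alternating_margins (lam lam' : Fin n → ℕ) (h : StrictMono lam) (h' : StrictMono lam') :
    (∑ κ' : Equiv.Perm (Fin n), ∑ κ : Equiv.Perm (Fin n),
      if (∀ i, (κ' i).val ≤ lam' i) ∧ ∀ i, (κ i).val ≤ lam i then
        (Equiv.Perm.sign κ' : ℤ) * (Equiv.Perm.sign κ : ℤ) *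
          (Nat.card (Margins (fun i => lam' i - (κ' i).val) fun i => lam i - (κ i).val) : ℤ)
      else 0) = if lam = lam' then 1 else 0 := by
  have hc := congrArg (coeff (expo lam')) (det_altMat lam)
  rw [det_altMat_eq, det_altMat_eq, det_jtMat_eq, Finset.sum_mul_sum, coeff_sum, coeff_sum] at hc
  simp only [coeff_sum] at hc
  have hL : ∑ σ : Equiv.Perm (Fin n), coeff (expo lam')
      (C ((Equiv.Perm.sign σ : ℤ)) * monomial (expo fun i => lam (σ i)) 1) = if lam = lam' then 1 else 0 := by
    rw [Finset.sum_eq_single 1 ?_ (fun hh => absurd (mem_univ _) hh)]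
    · simp [coeff_monomial, expo]
    · intro σ _ hσ
      rw [coeff_C_mul, coeff_monomial, if_neg, mul_zero]
      intro he
      refine hσ ?_
      have e : (fun i => lam (σ i)) = lam' := Finsupp.equivFunOnFinite.symm.injective he
      have hs : StrictMono σ := fun a b hab => h.lt_iff_lt.1 (by simpa [← e] using h' hab)
      exact Equiv.ext fun i => congrFun (hs.eq_id) i
  rw [hL] at hc
  rw [hc]
  refine Finset.sum_congr rfl fun κ' _ => Finset.sum_congr rfl fun κ _ => ?_
  by_cases hκ : ∀ i, (κ i).val ≤ lam i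
  · rw [if_pos (c := ∀ i, (κ i).val ≤ lam i) hκ, show ∀ a b c d : MvPolynomial (Fin n) ℤ, a * b * (c * d) = (a * c) * (b * d) from
        fun a b c d => mul_mul_mul_comm a b c d, ← C_mul, coeff_C_mul, coeff_monomial_mul']
    simp only [one_mul]
    by_cases hκ' : ∀ i, (κ' i).val ≤ lam' i
    · rw [if_pos ⟨hκ', hκ⟩, if_pos (show expo (fun i => (κ' i).val) ≤ expo lam' from fun i => hκ' i)]
      congr 1
      rw [show expo lam' - expo (fun i => (κ' i).val) = expo fun i => lam' i - (κ' i).val from
        Finsupp.ext fun i => rfl, coeff_prod_hh]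
    · rw [if_neg (fun h => hκ' h.1), if_neg (show ¬ expo (fun i => (κ' i).val) ≤ expo lam' from fun h => hκ' fun i => h i), mul_zero]
  · rw [if_neg (fun h => hκ h.2), if_neg hκ, mul_zero, coeff_zero]

end CfsgLib.Char.JacobiTrudi
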