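/-
A quasiprimitive group with a primitive proper Jordan set is multiply transitive.
-/
import Mathlib.GroupTheory.GroupAction.Jordan

set_option autoImplicit false

open MulAction SubMulAction
open scoped Pointwise

namespace CfsgLib.Char.JordanQuasi

variable {G Ω : Type*} [Group G] [MulAction G Ω] [FaithfulSMul G Ω] [Finite Ω]

theorem preprimitive (hqp : ∀ N : Subgroup G, N.Normal → N ≠ ⊥ → IsPretransitive N Ω) (Γ : Set Ω)
    (hΓ1 : 1 < Γ.ncard) [hJ : IsPreprimitive ↥(fixingSubgroup G Γᶜ) ↥(ofFixingSubgroup G Γᶜ)] :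
    IsPreprimitive G Ω := by
  obtain ⟨u, hu, v, hv, huv⟩ := (Set.one_lt_ncard (Set.toFinite Γ)).1 hΓ1
  obtain ⟨x, hx⟩ := exists_smul_eq ↥(fixingSubgroup G Γᶜ) (⟨u, fun h => h hu⟩ : ↥(ofFixingSubgroup G Γᶜ))
    ⟨v, fun h => h hv⟩
  have hxuv : (x : G) • u = v := congrArg Subtype.val hx
  have hx1 : (x : G) ≠ 1 := fun e => huv (by rw [← hxuv, e, one_smul])
  haveI htr : IsPretransitive G Ω := by
    haveI := hqp ⊤ inferInstance fun e => hx1 ((Subgroup.eq_bot_iff_forall _).1 e _ (Subgroup.mem_top _))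
    exact ⟨fun a b => by
      obtain ⟨g, hg⟩ := exists_smul_eq (⊤ : Subgroup G) a b
      exact ⟨(g : G), hg⟩⟩
  refine { isTrivialBlock_of_isBlock := fun {B} hB => ?_ }
  by_cases hsub : B.Subsingleton
  · exact Or.inl hsub
  refine Or.inr ?_
  let N : Subgroup G := ⨅ g : G, stabilizer G (g • B)
  have hNn : N.Normal := ⟨fun n hn k => by
    rw [Subgroup.mem_iInf] at hn ⊢
    intro g
    have := hn (k⁻¹ * g)
    rw [mem_stabilizer_iff] at this ⊢
    rw [mul_smul, mul_smul, ← mul_smul k⁻¹ g, this, ← mul_smul, mul_inv_cancel_left]⟩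
  by_cases hN : N = ⊥
  · exfalso
    refine hx1 ((Subgroup.eq_bot_iff_forall _).1 hN _ ?_)
    rw [Subgroup.mem_iInf]
    intro g
    rw [mem_stabilizer_iff]
    have hgB : IsBlock G (g • B) := hB.translate g
    by_cases hC : g • B ⊆ Γ
    · let j : ↥(ofFixingSubgroup G Γᶜ) → Ω := Subtype.val
      have hjB : IsBlock ↥(fixingSubgroup G Γᶜ) (j ⁻¹' (g • B)) := by
        rw [isBlock_iff_disjoint_smul_of_ne]
        intro k hne
        have hsm : k • (j ⁻¹' (g • B)) = j ⁻¹' ((k : G) • g • B) := by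
          ext z
          simp only [Set.mem_smul_set_iff_inv_smul_mem, Set.mem_preimage]
          rfl
        rw [hsm] at hne ⊢
        exact Disjoint.preimage _ (isBlock_iff_disjoint_smul_of_ne.1 hgB fun e => hne (by rw [e]))
      rcases hJ.isTrivialBlock_of_isBlock hjB with h | h
      · refine absurd ?_ hsub
        intro a ha b hb
        have ha' : g • a ∈ g • B := Set.smul_mem_smul_set ha
        have hb' : g • b ∈ g • B := Set.smul_mem_smul_set hb
        have := h (show (⟨g • a, fun h => h (hC ha')⟩ : ↥(ofFixingSubgroup G Γᶜ)) ∈ j ⁻¹' (g • B) from ha')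
          (show (⟨g • b, fun h => h (hC hb')⟩ : ↥(ofFixingSubgroup G Γᶜ)) ∈ j ⁻¹' (g • B) from hb')
        exact MulAction.injective g (congrArg Subtype.val this)
      · have hΓC : g • B = Γ := by
          refine Set.Subset.antisymm hC fun z hz => ?_
          have : (⟨z, fun h => h hz⟩ : ↥(ofFixingSubgroup G Γᶜ)) ∈ j ⁻¹' (g • B) := h ▸ Set.mem_univ _
          exact this
        rw [hΓC]
        ext z
        rw [Set.mem_smul_set_iff_inv_smul_mem]
        by_cases hz : z ∈ Γ
        · exact iff_of_true (by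
            by_contra hc
            have := (mem_fixingSubgroup_iff G).1 x.2 _ hc
            rw [smul_inv_smul] at this
            exact hc (this ▸ hz)) hz
        · have : (x : G)⁻¹ • z = z := (mem_fixingSubgroup_iff G).1 (inv_mem x.2) z hz
          rw [this]
    · obtain ⟨z, hzB, hz⟩ := Set.not_subset.1 hC
      by_contra hne
      refine (isBlock_iff_disjoint_smul_of_ne.1 hgB hne).le_bot ⟨?_, hzB⟩
      rw [← (mem_fixingSubgroup_iff G).1 x.2 z hz]
      exact Set.smul_mem_smul_set hzB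
  · obtain ⟨b, hb⟩ : B.Nonempty := by
      rcases B.eq_empty_or_nonempty with e | e
      · exact absurd (e ▸ Set.subsingleton_empty) hsub
      · exact e
    haveI := hqp N hNn hN
    refine Set.eq_univ_of_forall fun z => ?_
    obtain ⟨n, hn⟩ := exists_smul_eq N b z
    have h1 : (n : G) • B = B := by
      have := (Subgroup.mem_iInf.1 n.2) 1
      rwa [mem_stabilizer_iff, one_smul] at this
    rw [← h1, ← hn]
    exact Set.smul_mem_smul_set hb

theorem main (hqp : ∀ N : Subgroup G, N.Normal → N ≠ ⊥ → IsPretransitive N Ω) (Γ : Set Ω) (hΓ1 : 1 < Γ.ncard)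
    (hΓ2 : Γ.ncard < Nat.card Ω)
    (hJp : IsPreprimitive ↥(fixingSubgroup G Γᶜ) ↥(ofFixingSubgroup G Γᶜ)) :
    IsMultiplyPretransitive G Ω (Nat.card Ω - Γ.ncard + 1) := by
  haveI := hJp
  have hp := preprimitive hqp Γ hΓ1
  have hc : Γᶜ.ncard = Nat.card Ω - Γ.ncard := Set.ncard_compl Γ
  obtain ⟨n, hn⟩ : ∃ n, Nat.card Ω - Γ.ncard = n + 1 := ⟨Nat.card Ω - Γ.ncard - 1, by omega⟩
  have := hp.isMultiplyPreprimitive (s := Γᶜ) (n := n) (hc.trans hn) (by omega) hJp
  rw [hn]
  exact this.isMultiplyPretransitive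

end CfsgLib.Char.JordanQuasi
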