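import Cfsg.Agent.Lib.Char.Brauer
import Cfsg.Agent.Lib.Char.Determine

/-!
# Brauer's splitting field theorem

A field `K` inside `ℂ` with enough roots of unity realizes every complex representation.
-/

set_option autoImplicit false
set_option linter.style.haveILetI false
set_option linter.unusedSectionVars false

open Cfsg Representation Module
open scoped ComplexConjugate

namespace CfsgLib.Char.Splitting

universe u v w

variable (K : Type v) [Field K] [CharZero K] [Algebra K ℂ] {G : Type u} [Group G] [Fintype G]

/-- `χ` is the character of a representation defined over `K`. -/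
def IsKChar (χ : G → ℂ) : Prop :=
  ∃ (n : ℕ) (σ : Representation K G (Fin n → K)), ∀ g, algebraMap K ℂ (σ.character g) = χ g

variable {K}

theorem isKChar_of_rep {V : Type w} [AddCommGroup V] [Module K V] [FiniteDimensional K V]
    (ρ : Representation K G V) : IsKChar K fun g => algebraMap K ℂ (ρ.character g) := by
  let e := (Module.finBasis K V).equivFun
  refine ⟨finrank K V, MonoidHom.comp (e.conjAlgEquiv K).toMonoidHom ρ, fun g => ?_⟩
  show algebraMap K ℂ (LinearMap.trace K _ (e.conj (ρ g))) = _
  rw [LinearMap.trace_conj']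
  rfl

/-- extension of scalars of a coordinate representation -/
noncomputable def baseChange {n : ℕ} (σ : Representation K G (Fin n → K)) :
    Representation ℂ G (Fin n → ℂ) :=
  (Matrix.toLinAlgEquiv' (R := ℂ) (n := Fin n)).toMonoidHom.comp
    ((algebraMap K ℂ).mapMatrix.toMonoidHom.comp
      ((LinearMap.toMatrixAlgEquiv' (R := K) (n := Fin n)).toMonoidHom.comp σ))

theorem toMatrix_baseChange {n : ℕ} (σ : Representation K G (Fin n → K)) (g : G) :
    LinearMap.toMatrix' (baseChange σ g) = (LinearMap.toMatrix' (σ g)).map (algebraMap K ℂ) :=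
  LinearMap.toMatrixAlgEquiv'_toLinAlgEquiv' _

theorem character_baseChange {n : ℕ} (σ : Representation K G (Fin n → K)) (g : G) :
    (baseChange σ).character g = algebraMap K ℂ (σ.character g) := by
  show LinearMap.trace ℂ _ (baseChange σ g) = algebraMap K ℂ (LinearMap.trace K _ (σ g))
  rw [LinearMap.trace_eq_matrix_trace ℂ (Pi.basisFun ℂ (Fin n)),
    LinearMap.trace_eq_matrix_trace K (Pi.basisFun K (Fin n))]
  rw [LinearMap.toMatrix_eq_toMatrix', LinearMap.toMatrix_eq_toMatrix', toMatrix_baseChange]
  exact (AddMonoidHom.map_trace (algebraMap K ℂ).toAddMonoidHom _).symm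

theorem isCharacter_of_isKChar {χ : G → ℂ} (h : IsKChar K χ) : IsCharacter G χ := by
  obtain ⟨n, σ, hσ⟩ := h
  exact ⟨n, baseChange σ, funext fun g => (character_baseChange σ g).trans (hσ g)⟩

theorem isKChar_zero : IsKChar K (0 : G → ℂ) := by
  refine ⟨0, 1, fun g => ?_⟩
  show algebraMap K ℂ (LinearMap.trace K (Fin 0 → K) 1) = 0
  simp

theorem isKChar_add {χ ψ : G → ℂ} (h : IsKChar K χ) (h' : IsKChar K ψ) : IsKChar K (χ + ψ) := by
  obtain ⟨n, σ, hσ⟩ := h
  obtain ⟨m, τ, hτ⟩ := h'
  obtain ⟨k, π, hπ⟩ := isKChar_of_rep (σ.prod τ)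
  refine ⟨k, π, fun g => (hπ g).trans ?_⟩
  show algebraMap K ℂ (Representation.character (σ.prod τ) g) = _
  rw [Pi.add_apply, ← hσ, ← hτ, ← map_add]
  congr 1
  exact LinearMap.trace_prodMap' (σ g) (τ g)

theorem isKChar_natSmul {χ : G → ℂ} (h : IsKChar K χ) (m : ℕ) : IsKChar K ((m : ℂ) • χ) := by
  induction m with
  | zero => rw [Nat.cast_zero, zero_smul]; exact isKChar_zero
  | succ m ih => rw [Nat.cast_succ, add_smul, one_smul]; exact isKChar_add ih h

/-- A linear character with values in `K` induces a character of a `K`-representation. -/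
theorem isKChar_indFun (E : Subgroup G) (lam : E →* ℂˣ)
    (hlam : ∀ e, ∃ a : K, algebraMap K ℂ a = lam e) :
    IsKChar K (indFun E fun e => (lam e : ℂ)) := by
  classical
  have hinj := (algebraMap K ℂ).injective
  choose l hl using hlam
  have lmul : ∀ a b, l (a * b) = l a * l b := fun a b => hinj (by
    rw [map_mul, hl, hl, hl, map_mul, Units.val_mul])
  set c : K := ((Nat.card E : ℕ) : K)⁻¹ with hc
  let X : G → K := fun x => if h : x ∈ E then l ⟨x, h⟩ else 0
  have hX : ∀ (a : G) (e : E), X (a * (e : G)) = X a * l e := by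
    intro a e
    simp only [X]
    by_cases ha : a ∈ E
    · rw [dif_pos ha, dif_pos (E.mul_mem ha e.2), ← lmul]
      rfl
    · rw [dif_neg ha, dif_neg fun h => ha ((E.mul_mem_cancel_right e.2).1 h), zero_mul]
  let M : G → Matrix G G K := fun g => Matrix.of fun x y => c * X (x⁻¹ * g * y)
  have hM : ∀ g h, M g * M h = M (g * h) := by
    intro g h
    ext x z
    simp only [M, Matrix.mul_apply, Matrix.of_apply]
    have key : ∀ y, X (x⁻¹ * g * y) * X (y⁻¹ * h * z) =
        if x⁻¹ * g * y ∈ E then X (x⁻¹ * (g * h) * z) else 0 := by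
      intro y
      by_cases hy : x⁻¹ * g * y ∈ E
      · rw [if_pos hy]
        by_cases hz : y⁻¹ * h * z ∈ E
        · have := hX (x⁻¹ * g * y) ⟨_, hz⟩
          rw [show x⁻¹ * (g * h) * z = x⁻¹ * g * y * (y⁻¹ * h * z) by group, this]
          simp [X, dif_pos hz]
        · rw [show X (y⁻¹ * h * z) = 0 from dif_neg hz, mul_zero]
          simp only [X]
          rw [dif_neg]
          intro h'
          refine hz ?_
          rw [show y⁻¹ * h * z = (x⁻¹ * g * y)⁻¹ * (x⁻¹ * (g * h) * z) by group]
          exact E.mul_mem (E.inv_mem hy) h'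
      · rw [if_neg hy, show X (x⁻¹ * g * y) = 0 from dif_neg hy, zero_mul]
    have hcard : ((Finset.univ.filter fun y => x⁻¹ * g * y ∈ E).card : K) = (Nat.card E : ℕ) := by
      rw [← Fintype.card_subtype, ← Nat.card_eq_fintype_card]
      congr 1
      exact Nat.card_congr ⟨fun y => ⟨x⁻¹ * g * y.1, y.2⟩, fun e => ⟨g⁻¹ * x * e.1, by
        rw [show x⁻¹ * g * (g⁻¹ * x * e.1) = e.1 by group]; exact e.2⟩,
        fun y => Subtype.ext (by group), fun e => Subtype.ext (by group)⟩
    simp_rw [show ∀ y, c * X (x⁻¹ * g * y) * (c * X (y⁻¹ * h * z)) =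
      c * c * (X (x⁻¹ * g * y) * X (y⁻¹ * h * z)) from fun y => by ring, key]
    rw [← Finset.mul_sum, ← Finset.sum_filter, Finset.sum_const, nsmul_eq_mul, hcard, hc]
    have : ((Nat.card E : ℕ) : K) ≠ 0 := Nat.cast_ne_zero.2 Nat.card_pos.ne'
    field_simp
  let L : G → (G → K) →ₗ[K] (G → K) := fun g => Matrix.toLin' (M g)
  have hL : ∀ g h, L g ∘ₗ L h = L (g * h) := fun g h => by
    show _ = Matrix.toLin' (M (g * h))
    rw [← hM, Matrix.toLin'_mul]
  let W := LinearMap.range (L 1)
  have hW : ∀ g v, L g v ∈ W := fun g v =>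
    ⟨L g v, by rw [← LinearMap.comp_apply, hL, one_mul]⟩
  let σ : Representation K G W :=
    { toFun := fun g => (L g).restrict fun v _ => hW g v
      map_one' := by
        ext ⟨v, w, rfl⟩
        show (L 1 (L 1 w) : G → K) _ = _
        rw [← LinearMap.comp_apply, hL, one_mul]
        rfl
      map_mul' := fun g h => by
        ext v
        show (L (g * h) v.1) _ = (L g (L h v.1)) _
        rw [← hL]
        rfl }
  obtain ⟨n, π, hπ⟩ := isKChar_of_rep σ
  refine ⟨n, π, fun g => (hπ g).trans ?_⟩
  have htr : σ.character g = ∑ x, c * X (x⁻¹ * g * x) := by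
    show LinearMap.trace K W ((L g).restrict fun v _ => hW g v) = _
    rw [LinearMap.trace_restrict_eq_of_forall_mem W (L g) (hW g), Matrix.trace_toLin'_eq]
    rfl
  show algebraMap K ℂ (σ.character g) = _
  rw [htr, map_sum, indFun, Finset.mul_sum]
  refine Finset.sum_congr rfl fun x _ => ?_
  rw [map_mul, hc, map_inv₀, map_natCast]
  congr 1
  simp only [X]
  split_ifs with h
  · rw [extendByZero_mem E _ h, hl]
  · rw [extendByZero_not_mem E _ h, map_zero]

/-- sub and quotient parts -/
theorem exists_compl_char {V : Type w} [AddCommGroup V] [Module K V] [FiniteDimensional K V]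
    (ρ : Representation K G V) (S : Subrepresentation ρ) :
    ∃ T : Subrepresentation ρ, finrank K S.toSubmodule + finrank K T.toSubmodule = finrank K V ∧
      ∀ g, ρ.character g = S.toRepresentation.character g + T.toRepresentation.character g := by
  haveI : NeZero (Nat.card G : K) := ⟨Nat.cast_ne_zero.2 Nat.card_pos.ne'⟩
  haveI : ComplementedLattice (Subrepresentation ρ) := inferInstance
  obtain ⟨T, hT⟩ := exists_isCompl S
  have hc : IsCompl S.toSubmodule T.toSubmodule :=
    ⟨disjoint_iff.mpr (congrArg Subrepresentation.toSubmodule (disjoint_iff.mp hT.1)),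
      codisjoint_iff.mpr (congrArg Subrepresentation.toSubmodule (codisjoint_iff.mp hT.2))⟩
  refine ⟨T, Submodule.finrank_add_eq_of_isCompl hc, fun g => ?_⟩
  have key : ρ g = (Submodule.prodEquivOfIsCompl _ _ hc).conj
      ((S.toRepresentation g).prodMap (T.toRepresentation g)) := by
    ext v
    obtain ⟨⟨a, b⟩, rfl⟩ := (Submodule.prodEquivOfIsCompl _ _ hc).surjective v
    rw [LinearEquiv.conj_apply_apply, LinearEquiv.symm_apply_apply]
    simp [Subrepresentation.toRepresentation]
  show LinearMap.trace K V (ρ g) = _
  rw [key, LinearMap.trace_conj', LinearMap.trace_prodMap']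
  rfl

/-- nonzero complex inner product gives a nonzero intertwiner over `K` -/
theorem exists_intertwining_ne_zero {V : Type v} [AddCommGroup V] [Module K V]
    [FiniteDimensional K V] {W : Type v} [AddCommGroup W] [Module K W] [FiniteDimensional K W]
    (ρ : Representation K G V) (σ : Representation K G W)
    (h : classInner (fun g => algebraMap K ℂ (σ.character g))
      (fun g => algebraMap K ℂ (ρ.character g)) ≠ 0) :
    ∃ f : IntertwiningMap ρ σ, f ≠ 0 := by
  haveI : Invertible (Nat.card G : K) := invertibleOfNonzero (Nat.cast_ne_zero.2 Nat.card_pos.ne')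
  have h1 := congrArg (algebraMap K ℂ) (Representation.card_inv_mul_sum_char_mul_char_eq_finrank ρ σ)
  rw [map_mul, map_inv₀, map_natCast, map_sum, map_natCast] at h1
  have h2 : classInner (fun g => algebraMap K ℂ (σ.character g))
      (fun g => algebraMap K ℂ (ρ.character g)) = (finrank K (IntertwiningMap ρ σ) : ℂ) := by
    rw [← h1, classInner]
    congr 1
    refine Finset.sum_congr rfl fun g _ => ?_
    rw [map_mul, isCharacter_inv (isCharacter_of_isKChar (isKChar_of_rep ρ)) g]
  rw [h2, Nat.cast_ne_zero] at h
  haveI := Module.nontrivial_of_finrank_pos (Nat.pos_of_ne_zero h)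
  exact exists_ne 0

theorem isKChar_cancel {χ : G → ℂ} (hχ : IsCharacter G χ) {V : Type v} [AddCommGroup V]
    [Module K V] [FiniteDimensional K V] (α : Representation K G V) {W : Type v} [AddCommGroup W]
    [Module K W] [FiniteDimensional K W] (β : Representation K G W)
    (h : ∀ g, algebraMap K ℂ (β.character g) = algebraMap K ℂ (α.character g) + χ g) :
    IsKChar K χ := by
  classical
  induction hn : finrank K V using Nat.strong_induction_on generalizing V W with
  | _ n ih =>
    subst hn
    rcases Nat.eq_zero_or_pos (finrank K V) with h0 | h0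
    · haveI : Subsingleton V := Module.finrank_zero_iff.1 h0
      obtain ⟨m, π, hπ⟩ := isKChar_of_rep β
      refine ⟨m, π, fun g => (hπ g).trans ?_⟩
      show algebraMap K ℂ (β.character g) = _
      rw [h, show α.character g = 0 by simp [Representation.character, Subsingleton.elim (α g) 0],
        map_zero, zero_add]
    obtain ⟨S, hS0, hSmin⟩ : ∃ S : Subrepresentation α, S.toSubmodule ≠ ⊥ ∧
        ∀ T : Subrepresentation α, T.toSubmodule ≠ ⊥ → finrank K S.toSubmodule ≤ finrank K T.toSubmodule := by
      have hex : ∃ d, ∃ S : Subrepresentation α, S.toSubmodule ≠ ⊥ ∧ finrank K S.toSubmodule = d := by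
        haveI : Nontrivial V := Module.nontrivial_of_finrank_pos h0
        exact ⟨_, ⊤, (top_ne_bot : (⊤ : Submodule K V) ≠ ⊥), rfl⟩
      obtain ⟨S, hS, hd⟩ := Nat.find_spec hex
      exact ⟨S, hS, fun T hT => hd ▸ Nat.find_le ⟨T, hT, rfl⟩⟩
    obtain ⟨A', hA'd, hA'c⟩ := exists_compl_char α S
    have hSpos : 0 < finrank K S.toSubmodule :=
      Nat.pos_of_ne_zero fun e => hS0 (Submodule.finrank_eq_zero.1 e)
    -- the minimal piece also occurs in `β`
    let cS := fun g => algebraMap K ℂ (S.toRepresentation.character g)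
    let cA := fun g => algebraMap K ℂ (A'.toRepresentation.character g)
    have hcS : IsCharacter G cS := isCharacter_of_isKChar (isKChar_of_rep _)
    have hne : classInner (fun g => algebraMap K ℂ (β.character g)) cS ≠ 0 := by
      have e : (fun g => algebraMap K ℂ (β.character g)) = cS + cA + χ := by
        funext g
        rw [h, hA'c, map_add]
        rfl
      obtain ⟨a, ha⟩ := classInner_isCharacter hcS hcS
      obtain ⟨b, hb⟩ := classInner_isCharacter (isCharacter_of_isKChar (isKChar_of_rep A'.toRepresentation) : IsCharacter G cA) hcS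
      obtain ⟨c, hc⟩ := classInner_isCharacter hχ hcS
      have ha0 : a ≠ 0 := fun ha0 => by
        rw [ha0, Nat.cast_zero] at ha
        have := congrFun (classInner_self_eq_zero ha) 1
        simp only [cS, Representation.char_one, Pi.zero_apply, map_natCast, Nat.cast_eq_zero] at this
        omega
      rw [e, classInner_add_left, classInner_add_left, ha, hb, hc, ← Nat.cast_add, ← Nat.cast_add,
        Nat.cast_ne_zero]
      omega
    obtain ⟨f, hf⟩ := exists_intertwining_ne_zero S.toRepresentation β hne
    have hfi : Function.Injective f := by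
      let T : Subrepresentation α :=
        ⟨(LinearMap.ker f.toLinearMap).map S.toSubmodule.subtype, by
          rintro g _ ⟨v, hv, rfl⟩
          refine ⟨S.toRepresentation g v, ?_, rfl⟩
          rw [SetLike.mem_coe, LinearMap.mem_ker] at hv ⊢
          show f (S.toRepresentation g v) = 0
          rw [f.isIntertwining]
          show β g (f.toLinearMap v) = 0
          rw [hv, map_zero]⟩
      have hk : LinearMap.ker f.toLinearMap = ⊥ := by
        by_contra hk
        have hT : T.toSubmodule ≠ ⊥ := fun e =>
          hk (Submodule.map_injective_of_injective S.toSubmodule.injective_subtype (e.trans (Submodule.map_bot _).symm))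
        have := hSmin T hT
        rw [show finrank K T.toSubmodule = finrank K (LinearMap.ker f.toLinearMap) from
          (Submodule.equivMapOfInjective _ S.toSubmodule.injective_subtype _).finrank_eq.symm] at this
        have hlt := Submodule.finrank_lt (fun e : LinearMap.ker f.toLinearMap = ⊤ => hf (by
          ext v
          exact LinearMap.mem_ker.1 (e ▸ Submodule.mem_top : v ∈ LinearMap.ker f.toLinearMap)))
        omega
      exact LinearMap.ker_eq_bot.1 hk
    let R : Subrepresentation β := ⟨LinearMap.range f.toLinearMap, by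
      rintro g _ ⟨v, rfl⟩
      exact ⟨S.toRepresentation g v, f.isIntertwining _ _ g v⟩⟩
    have hR : ∀ g, R.toRepresentation.character g = S.toRepresentation.character g := by
      intro g
      show LinearMap.trace K _ (R.toRepresentation g) = LinearMap.trace K _ (S.toRepresentation g)
      let e : S.toSubmodule ≃ₗ[K] R.toSubmodule := LinearEquiv.ofInjective f.toLinearMap hfi
      rw [show R.toRepresentation g = e.conj (S.toRepresentation g) from by
        ext v
        obtain ⟨a, rfl⟩ := e.surjective v
        rw [LinearEquiv.conj_apply_apply, LinearEquiv.symm_apply_apply]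
        exact (f.isIntertwining _ _ g a).symm, LinearMap.trace_conj']
    obtain ⟨B', -, hB'c⟩ := exists_compl_char β R
    refine ih _ (by omega) A'.toRepresentation B'.toRepresentation (fun g => ?_) rfl
    have := h g
    rw [hA'c, hB'c, hR, map_add, map_add, add_assoc] at this
    exact add_left_cancel this

/-- Brauer's theorem: with enough roots of unity every character is realizable over `K`. -/
theorem isKChar_of_isCharacter (hroot : ∀ z : ℂ, z ^ Monoid.exponent G = 1 → ∃ a : K, algebraMap K ℂ a = z)
    {χ : G → ℂ} (hχ : IsCharacter G χ) : IsKChar K χ := by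
  obtain ⟨l, -, hl⟩ := exists_monomial_list (isGeneralizedCharacter_of_isCharacter hχ)
  have key : ∀ l : List ((E : Subgroup G) × ((E →* ℂˣ) × ℤ)), ∃ a b : G → ℂ, IsKChar K a ∧
      IsKChar K b ∧ (l.map fun t => (t.2.2 : ℂ) • indFun t.1 (fun e => (t.2.1 e : ℂ))).sum = b - a := by
    intro l
    induction l with
    | nil => exact ⟨0, 0, isKChar_zero, isKChar_zero, by simp⟩
    | cons t l ih =>
      obtain ⟨a, b, ha, hb, he⟩ := ih
      have ht : IsKChar K (indFun t.1 (fun e => (t.2.1 e : ℂ))) := isKChar_indFun t.1 t.2.1 fun e => by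
        refine hroot _ ?_
        rw [← Units.val_pow_eq_pow_val, ← map_pow]
        have : e ^ Monoid.exponent G = 1 := Subtype.ext (Monoid.pow_exponent_eq_one (e : G))
        rw [this, map_one, Units.val_one]
      rcases Int.eq_nat_or_neg t.2.2 with ⟨m, hm | hm⟩
      · refine ⟨a, _, ha, isKChar_add (isKChar_natSmul ht m) hb, ?_⟩
        rw [List.map_cons, List.sum_cons, he, hm, Int.cast_natCast]
        abel
      · refine ⟨_, b, isKChar_add (isKChar_natSmul ht m) ha, hb, ?_⟩
        rw [List.map_cons, List.sum_cons, he, hm, Int.cast_neg, Int.cast_natCast, neg_smul]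
        abel
  obtain ⟨a, b, ⟨n, α, hα⟩, ⟨m, β, hβ⟩, he⟩ := key l
  refine isKChar_cancel hχ α β fun g => ?_
  rw [hα, hβ, hl, he, Pi.sub_apply]
  ring

/-- Brauer's splitting field theorem, on representations -/
theorem exists_realization (hroot : ∀ z : ℂ, z ^ Monoid.exponent G = 1 → ∃ a : K, algebraMap K ℂ a = z)
    {n : ℕ} (ρ : Representation ℂ G (Fin n → ℂ)) :
    ∃ σ : Representation ℂ G (Fin n → ℂ), Nonempty (ρ.Equiv σ) ∧
      ∀ g i j, ∃ a : K, algebraMap K ℂ a = LinearMap.toMatrix' (σ g) i j := by
  obtain ⟨m, π, hπ⟩ := isKChar_of_isCharacter hroot ⟨n, ρ, rfl⟩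
  have hnm : n = m := by
    have h1 := hπ 1
    rw [Representation.char_one, Representation.char_one, map_natCast, finrank_fin_fun,
      finrank_fin_fun, Nat.cast_inj] at h1
    exact h1.symm
  subst hnm
  refine ⟨baseChange π, nonempty_equiv_of_character_eq _ _
    (funext fun g => (hπ g).symm.trans (character_baseChange π g).symm), fun g i j => ?_⟩
  exact ⟨_, (congrFun (congrFun (toMatrix_baseChange π g) i) j).symm⟩

end CfsgLib.Char.Splitting
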