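/-
Isotypic parts of a representation over a subfield are defined over it.
-/
import Cfsg.Agent.Lib.Char.SplittingField
import Cfsg.Agent.Lib.Block.Convolution

set_option autoImplicit false
set_option linter.unusedSectionVars false

namespace CfsgLib.Char.Splitting

open Cfsg Representation Module
open scoped ComplexConjugate

universe u v

variable {K : Type v} [Field K] [CharZero K] [Algebra K ℂ] {G : Type u} [Group G] [Fintype G]

/-- Convolution of a class function with an irreducible character. -/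
theorem sum_irr_mul_apply (χ : IrrCharacter G) {ψ : G → ℂ} (hψ : IsCharacter G ψ) (h : G) :
    ∑ g : G, (χ : G → ℂ) g⁻¹ * ψ (h * g) =
      classInner ψ (χ : G → ℂ) * ((Nat.card G : ℂ) * (χ : G → ℂ) h / (χ : G → ℂ) 1) := by
  classical
  haveI := Fintype.ofFinite (IrrCharacter G)
  have hexp : ∀ k, ψ k = ∑ χ' : IrrCharacter G, classInner ψ (χ' : G → ℂ) * (χ' : G → ℂ) k := by
    intro k
    have := congrFun (classFun_expand (isClassFunction_of_isCharacter hψ)) k
    simpa using this
  simp_rw [hexp, Finset.mul_sum]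
  rw [Finset.sum_comm, Finset.sum_eq_single χ]
  · rw [← sum_irr_convolution χ h, Finset.mul_sum]
    refine Fintype.sum_bijective (fun g : G => g⁻¹) (Equiv.inv G).bijective _ _ fun g => ?_
    rw [inv_inv]
    rw [classFun_mul_comm (isClassFunction_irr χ) h g]
    ring
  · intro χ' _ hne
    have h0 := Block.sum_irr_convolution_ne (Ne.symm hne) h
    rw [show (0 : ℂ) = classInner ψ (χ' : G → ℂ) * 0 by rw [mul_zero], ← h0, Finset.mul_sum]
    refine Fintype.sum_bijective (fun g : G => g⁻¹) (Equiv.inv G).bijective _ _ fun g => ?_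
    rw [inv_inv]
    rw [classFun_mul_comm (isClassFunction_irr χ') h g]
    ring
  · exact fun hn => absurd (Finset.mem_univ _) hn

/-- A multiple of an irreducible character with values in `K` occurring in a character of a `K`-representation. -/
theorem isKChar_isotypic (χ : IrrCharacter G) (hval : ∀ g, ∃ a : K, algebraMap K ℂ a = (χ : G → ℂ) g)
    {ψ : G → ℂ} (hψ : IsKChar K ψ) {a : ℕ} (ha : classInner ψ (χ : G → ℂ) = a) :
    IsKChar K ((a : ℂ) • (χ : G → ℂ)) := by
  classical
  have hψc := isCharacter_of_isKChar hψ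
  obtain ⟨n, σ, hσ⟩ := hψ
  choose l hl using hval
  have hinj := (algebraMap K ℂ).injective
  set c : K := l 1 * ((Nat.card G : ℕ) : K)⁻¹ with hc
  have hcC : algebraMap K ℂ c = (χ : G → ℂ) 1 / (Nat.card G : ℂ) := by
    rw [hc, map_mul, hl, map_inv₀, map_natCast, div_eq_mul_inv]
  set P : Module.End K (Fin n → K) := c • ∑ g, l g⁻¹ • σ g with hP
  have h1 : (χ : G → ℂ) 1 ≠ 0 := irr_one_ne_zero χ
  have hG : (Nat.card G : ℂ) ≠ 0 := Nat.cast_ne_zero.2 Nat.card_pos.ne'
  have hcomm : ∀ h, σ h * P = P * σ h := by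
    intro h
    simp only [hP, mul_smul_comm, smul_mul_assoc, Finset.mul_sum, Finset.sum_mul, ← map_mul]
    congr 1
    refine Fintype.sum_bijective (fun g => h * g * h⁻¹) (MulAut.conj h).bijective _ _ fun g => ?_
    rw [inv_mul_cancel_right]
    congr 1
    apply hinj
    rw [hl, hl, show (h * g * h⁻¹)⁻¹ = h * g⁻¹ * h⁻¹ by group]
    exact (isClassFunction_irr χ g⁻¹ h).symm
  have hconv : ∀ m : G, ∑ g : G, l g⁻¹ * l (g⁻¹ * m)⁻¹ = c⁻¹ * l m⁻¹ := by
    intro m
    apply hinj
    rw [map_sum, map_mul, map_inv₀, hcC, hl]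
    simp only [map_mul, hl]
    rw [inv_div, div_mul_eq_mul_div, ← sum_irr_convolution χ m⁻¹]
    refine Fintype.sum_bijective (fun g : G => g⁻¹) (Equiv.inv G).bijective _ _ fun g => ?_
    rw [inv_inv]
    congr 1
    rw [show (g⁻¹ * m)⁻¹ = m⁻¹ * g by group, classFun_mul_comm (isClassFunction_irr χ) g m⁻¹]
  have hc0 : c ≠ 0 := fun h => by
    have := hcC
    rw [h, map_zero, eq_comm, div_eq_zero_iff] at this
    exact this.elim h1 hG
  have hidem : P * P = P := by
    have e : (∑ g, l g⁻¹ • σ g) * (∑ g, l g⁻¹ • σ g) = c⁻¹ • ∑ g, l g⁻¹ • σ g := by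
      rw [Finset.sum_mul, Finset.smul_sum]
      simp only [Finset.mul_sum, smul_mul_assoc, mul_smul_comm, smul_smul, ← map_mul]
      rw [Finset.sum_congr rfl fun g _ => Fintype.sum_bijective (fun k => g * k) (Equiv.mulLeft g).bijective _
        (fun m => (l g⁻¹ * l (g⁻¹ * m)⁻¹) • σ m) fun k => by rw [inv_mul_cancel_left, mul_comm],
        Finset.sum_comm]
      refine Finset.sum_congr rfl fun m _ => ?_
      rw [← Finset.sum_smul, hconv]
    rw [hP, smul_mul_smul_comm, e, smul_smul, mul_assoc, mul_inv_cancel₀ hc0, mul_one]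
  let W : Subrepresentation σ := ⟨LinearMap.range P, by
    rintro h _ ⟨v, rfl⟩
    exact ⟨σ h v, (LinearMap.congr_fun (hcomm h) v).symm⟩⟩
  obtain ⟨k, π, hπ⟩ := isKChar_of_rep (K := K) W.toRepresentation
  refine ⟨k, π, fun h => (hπ h).trans ?_⟩
  have hmem : ∀ v, (σ h * P) v ∈ W.toSubmodule := fun v => by rw [hcomm]; exact ⟨σ h v, rfl⟩
  have htr : W.toRepresentation.character h = LinearMap.trace K _ (σ h * P) := by
    rw [← LinearMap.trace_restrict_eq_of_forall_mem W.toSubmodule (σ h * P) hmem]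
    show LinearMap.trace K _ (W.toRepresentation h) = _
    congr 1
    ext ⟨v, w, rfl⟩ : 1
    apply Subtype.ext
    show σ h (P w) = σ h (P (P w))
    rw [← Module.End.mul_apply P P, hidem]
  show algebraMap K ℂ (W.toRepresentation.character h) = _
  rw [htr, hP, mul_smul_comm, map_smul, smul_eq_mul, Finset.mul_sum, map_sum, map_mul, hcC, map_sum]
  simp only [mul_smul_comm, map_smul, smul_eq_mul, ← map_mul σ]
  have hσ' : ∀ g, algebraMap K ℂ (LinearMap.trace K _ (σ (h * g))) = ψ (h * g) := fun g => hσ _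
  rw [Finset.sum_congr rfl fun g _ => by rw [map_mul (algebraMap K ℂ), hl, hσ']]
  rw [sum_irr_mul_apply χ hψc h, ha, Pi.smul_apply, smul_eq_mul]
  field_simp

end CfsgLib.Char.Splitting
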