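import Cfsg.Agent.Lib.Char.KnorrForm
import Cfsg.Agent.Lib.Char.AutExtend
import Cfsg.Agent.Lib.Char.Linear
import Cfsg.Agent.Lib.Char.Degree
import Cfsg.Agent.Lib.Char.Virtual
import Cfsg.Agent.Lib.Block.CycloTotPos

/-!
# The class number when a vector has abelian stabilizer

Let `p` not divide the index of the self-centralizing elementary normal subgroup `V` with complement
`G`.  If some `v` in `V` has abelian centralizer in `G` the class number is at most `|V|`: the values
`χ (v * h)` and their Galois conjugates, weighted through the action on a series of `V`, have norm at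
least `|H| ^ 2` each, and the column orthogonality bounds the total.
-/

open Finset
open scoped ComplexConjugate

set_option autoImplicit false
set_option linter.unusedSectionVars false

namespace CfsgLib.Char.KnorrForm

open Cfsg CfsgLib CfsgLib.Char

universe u

section chain

variable {X : Type u} [Group X] [Finite X]

open scoped Classical in
/-- The kernels of the action on an invariant series. -/
theorem exists_chain_kernels (V H : Subgroup X) (hVab : ∀ a ∈ V, ∀ b ∈ V, a * b = b * a)
    (hHab : ∀ a ∈ H, ∀ b ∈ H, a * b = b * a)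
    (hcop : (Nat.card V).Coprime (Nat.card H)) :
    ∀ W : Subgroup X, W ≤ V → (∀ h ∈ H, ∀ w ∈ W, h * w * h⁻¹ ∈ W) →
      ∃ (m : ℕ) (K : Fin m → Subgroup H),
        (∀ h : H, (∀ i, h ∈ K i) → ∀ w ∈ W, (h : X) * w = w * h) ∧
        ∀ h : H, (Nat.card (W ⊓ Subgroup.centralizer ({(h : X)} : Set X) : Subgroup X) : ℝ) *
          (∏ i, if h ∈ K i then 1 else ((K i).index : ℝ) + 1) ≤ Nat.card W := by
  intro W
  induction hn : Nat.card W using Nat.strong_induction_on generalizing W with
  | _ n ih =>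
  subst hn
  intro hWV hWH
  by_cases hW1 : W = ⊥
  · subst hW1
    refine ⟨0, Fin.elim0, fun h _ w hw => ?_, fun h => ?_⟩
    · rw [Subgroup.mem_bot.1 hw, mul_one, one_mul]
    · simp
  let S : Set (Subgroup X) := {U | U < W ∧ ∀ h ∈ H, ∀ w ∈ U, h * w * h⁻¹ ∈ U}
  have hS : S.Nonempty := ⟨⊥, bot_lt_iff_ne_bot.2 hW1, fun h _ w hw => by
    rw [Subgroup.mem_bot.1 hw]; simp⟩
  obtain ⟨U, ⟨hU, hUH⟩, hmax⟩ := S.toFinite.exists_maximal hS
  have hlt : Nat.card U < Nat.card W := by
    refine lt_of_le_of_ne (Subgroup.card_le_of_le hU.le) fun h => hU.ne ?_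
    exact Subgroup.eq_of_le_of_card_ge hU.le h.ge
  obtain ⟨m, K, hK, hKw⟩ := ih _ hlt U rfl (hU.le.trans hWV) hUH
  -- the elements acting trivially on the top factor
  have hc : ∀ (h : H) (a b : X), a ∈ W → b ∈ W →
      (a * b)⁻¹ * ((h : X) * (a * b) * (h : X)⁻¹) =
        (a⁻¹ * ((h : X) * a * (h : X)⁻¹)) * (b⁻¹ * ((h : X) * b * (h : X)⁻¹)) := by
    intro h a b ha hb
    have h1 : a⁻¹ * ((h : X) * a * (h : X)⁻¹) ∈ V :=
      V.mul_mem (V.inv_mem (hWV ha)) (hWV (hWH h h.2 a ha))
    calc _ = b⁻¹ * (a⁻¹ * ((h : X) * a * (h : X)⁻¹)) * ((h : X) * b * (h : X)⁻¹) := by group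
      _ = _ := by rw [hVab b⁻¹ (V.inv_mem (hWV hb)) _ h1, mul_assoc]
  let T : H → Subgroup X := fun h =>
    { carrier := {w | w ∈ W ∧ w⁻¹ * ((h : X) * w * (h : X)⁻¹) ∈ U}
      one_mem' := ⟨W.one_mem, by simp⟩
      mul_mem' := fun {a b} ha hb => ⟨W.mul_mem ha.1 hb.1, by
        rw [hc h a b ha.1 hb.1]; exact U.mul_mem ha.2 hb.2⟩
      inv_mem' := fun {a} ha => ⟨W.inv_mem ha.1, by
        have := hc h a⁻¹ a (W.inv_mem ha.1) ha.1
        rw [inv_mul_cancel] at this
        simp only [inv_one, mul_one, mul_inv_cancel, one_mul] at this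
        rw [← inv_eq_of_mul_eq_one_left this.symm]
        exact U.inv_mem ha.2⟩ }
  have hmem : ∀ (h : H) (w : X), w ∈ T h ↔ w ∈ W ∧ w⁻¹ * ((h : X) * w * (h : X)⁻¹) ∈ U :=
    fun h w => Iff.rfl
  have hTH : ∀ (h : H), ∀ k ∈ H, ∀ w ∈ T h, k * w * k⁻¹ ∈ T h := by
    intro h k hk w hw
    refine (hmem h _).2 ⟨hWH k hk w hw.1, ?_⟩
    have := hUH k hk _ hw.2
    convert this using 1
    have e : k * (h : X) = (h : X) * k := hHab k hk h h.2
    have e' : k⁻¹ * (h : X)⁻¹ = (h : X)⁻¹ * k⁻¹ := by rw [← mul_inv_rev, ← mul_inv_rev, e]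
    calc _ = k * w⁻¹ * k⁻¹ * ((h : X) * k) * w * (k⁻¹ * (h : X)⁻¹) := by group
      _ = k * w⁻¹ * k⁻¹ * (k * (h : X)) * w * ((h : X)⁻¹ * k⁻¹) := by rw [e, e']
      _ = _ := by group
  have hTdich : ∀ (h : H) (w : X), w ∈ T h → w ∉ U → ∀ x ∈ W, x ∈ T h := by
    intro h w hw hwU x hx
    have hUT : U ≤ T h := fun y hy => ⟨hU.le hy, U.mul_mem (U.inv_mem hy) (hUH h h.2 y hy)⟩
    by_contra hxT
    have hTW : T h < W := lt_of_le_of_ne (fun y hy => hy.1) fun e => hxT (e ▸ hx)
    exact hwU ((le_antisymm hUT (hmax ⟨hTW, hTH h⟩ hUT)) ▸ hw)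
  obtain ⟨w₀, hw₀, hw₀U⟩ := SetLike.exists_of_lt hU
  let K₀ : Subgroup H :=
    { carrier := {h | w₀ ∈ T h}
      one_mem' := (hmem 1 w₀).2 ⟨hw₀, by simp⟩
      mul_mem' := fun {a b} ha hb => (hmem (a * b) w₀).2 ⟨hw₀, by
        have h1 := hUH a a.2 _ hb.2
        have h2 := ha.2
        have e : w₀⁻¹ * ((a * b : H) * w₀ * ((a * b : H) : X)⁻¹) =
            (w₀⁻¹ * ((a : X) * w₀ * (a : X)⁻¹)) *
              ((a : X) * (w₀⁻¹ * ((b : X) * w₀ * (b : X)⁻¹)) * (a : X)⁻¹) := by
          rw [Subgroup.coe_mul]; group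
        rw [e]
        exact U.mul_mem h2 h1⟩
      inv_mem' := fun {a} ha => (hmem a⁻¹ w₀).2 ⟨hw₀, by
        have h1 := hUH (a : X)⁻¹ (H.inv_mem a.2) _ (U.inv_mem ha.2)
        convert h1 using 1
        rw [InvMemClass.coe_inv]
        group⟩ }
  have hK₀ : ∀ h : H, h ∈ K₀ ↔ w₀ ∈ T h := fun h => Iff.rfl
  refine ⟨m + 1, Fin.cons K₀ K, fun h hh w hw => ?_, fun h => ?_⟩
  · -- the common kernel acts trivially
    have h0 : w₀ ∈ T h := by simpa using (hK₀ h).1 (by simpa using hh 0)
    have hcent := hK h fun i => by simpa using hh i.succ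
    set c := w⁻¹ * ((h : X) * w * (h : X)⁻¹) with hcdef
    have hcU : c ∈ U := (hTdich h w₀ h0 hw₀U w hw).2
    have hhc : (h : X) * c = c * h := hcent c hcU
    have hpow : ∀ k : ℕ, (h : X) ^ k * w * ((h : X) ^ k)⁻¹ = w * c ^ k := by
      intro k
      induction k with
      | zero => simp
      | succ k ihk =>
        have e1 : (h : X) * c ^ k * (h : X)⁻¹ = c ^ k := by
          rw [(show Commute (h : X) c from hhc).pow_right k |>.eq, mul_inv_cancel_right]
        calc (h : X) ^ (k + 1) * w * ((h : X) ^ (k + 1))⁻¹ = (h : X) * ((h : X) ^ k * w * ((h : X) ^ k)⁻¹) * (h : X)⁻¹ := by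
              rw [pow_succ']; group
          _ = (h : X) * w * (h : X)⁻¹ * ((h : X) * c ^ k * (h : X)⁻¹) := by rw [ihk]; group
          _ = w * c ^ (k + 1) := by
                rw [e1, pow_succ', ← mul_assoc w]; congr 1; rw [hcdef, mul_inv_cancel_left]
    have hn := hpow (Nat.card H)
    rw [show (h : X) ^ Nat.card H = 1 by
      rw [← Subgroup.coe_pow, pow_card_eq_one', Subgroup.coe_one], one_mul, inv_one, mul_one,
      left_eq_mul] at hn
    have hc1 : c = 1 := by
      have h1 : orderOf c ∣ Nat.card H := orderOf_dvd_of_pow_eq_one hn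
      have h2 : orderOf c ∣ Nat.card V := by
        rw [← Subgroup.orderOf_mk c (hWV (hU.le hcU))]
        exact orderOf_dvd_natCard _
      exact orderOf_eq_one_iff.1 (Nat.dvd_one.1 (hcop.gcd_eq_one ▸ Nat.dvd_gcd h2 h1))
    rw [hcdef, inv_mul_eq_one] at hc1
    calc (h : X) * w = (h : X) * w * (h : X)⁻¹ * h := by group
      _ = w * h := by rw [← hc1]
  · rw [Fin.prod_univ_succ]
    simp only [Fin.cons_zero, Fin.cons_succ]
    set C := Subgroup.centralizer ({(h : X)} : Set X) with hC
    have hidx : (Nat.card W : ℝ) = Nat.card U * U.relIndex W := by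
      rw [← Nat.cast_mul, Nat.cast_inj, Subgroup.relIndex, ← Subgroup.card_mul_index (U.subgroupOf W),
        Nat.card_congr (Subgroup.subgroupOfEquivOfLe hU.le).toEquiv]
    have hCle : ∀ x ∈ W ⊓ C, x⁻¹ * ((h : X) * x * (h : X)⁻¹) = 1 := fun x hx => by
      rw [← Subgroup.mem_centralizer_singleton_iff.1 hx.2, mul_inv_cancel_right, inv_mul_cancel]
    by_cases hh : h ∈ K₀
    · rw [if_pos hh, one_mul, hidx]
      have h1 : (Nat.card (W ⊓ C : Subgroup X) : ℝ) ≤
          Nat.card (U ⊓ C : Subgroup X) * U.relIndex W := by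
        rw [← Nat.cast_mul, Nat.cast_le]
        have h2 : Nat.card (W ⊓ C : Subgroup X) =
            Nat.card (U ⊓ C : Subgroup X) * U.relIndex (W ⊓ C) := by
          rw [Subgroup.relIndex, ← Subgroup.card_mul_index (U.subgroupOf (W ⊓ C))]
          congr 1
          rw [← Subgroup.inf_subgroupOf_right U (W ⊓ C),
            Nat.card_congr (Subgroup.subgroupOfEquivOfLe inf_le_right).toEquiv]
          rw [← inf_assoc, inf_eq_left.2 hU.le]
        rw [h2]
        exact Nat.mul_le_mul_left _ (Subgroup.relIndex_le_of_le_right inf_le_left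
          (by rw [Subgroup.relIndex]; exact Subgroup.index_ne_zero_of_finite))
      calc _ ≤ (Nat.card (U ⊓ C : Subgroup X) * U.relIndex W : ℝ) *
            ∏ i, if h ∈ K i then 1 else ((K i).index : ℝ) + 1 :=
            mul_le_mul_of_nonneg_right h1 (Finset.prod_nonneg fun i _ => by split_ifs <;> positivity)
        _ = (Nat.card (U ⊓ C : Subgroup X) * ∏ i, if h ∈ K i then 1 else ((K i).index : ℝ) + 1) *
            U.relIndex W := by ring
        _ ≤ _ := mul_le_mul_of_nonneg_right (hKw h) (Nat.cast_nonneg _)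
    · rw [if_neg hh, hidx]
      have hWC : W ⊓ C = U ⊓ C := by
        refine le_antisymm (fun x hx => ⟨?_, hx.2⟩) (inf_le_inf_right _ hU.le)
        by_contra hxU
        exact hh ((hK₀ h).2 (hTdich h x ((hmem h x).2 ⟨hx.1, by rw [hCle x hx]; exact U.one_mem⟩) hxU w₀ hw₀))
      have hinj : (K₀.index : ℝ) + 1 ≤ U.relIndex W := by
        rw [← Nat.cast_add_one, Nat.cast_le, Subgroup.index_eq_card, Subgroup.relIndex,
          Subgroup.index_eq_card]
        let f : H → W ⧸ U.subgroupOf W := fun k => QuotientGroup.mk ⟨_, hWH k k.2 w₀ hw₀⟩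
        have hf : ∀ a b : H, f a = f b ↔ a⁻¹ * b ∈ K₀ := by
          intro a b
          rw [QuotientGroup.eq, hK₀, hmem, Subgroup.mem_subgroupOf]
          simp only [Subgroup.coe_mul, InvMemClass.coe_inv, hw₀, true_and]
          constructor
          · intro hu
            have := hUH (a : X)⁻¹ (H.inv_mem a.2) _ hu
            convert this using 1
            group
          · intro hu
            have := hUH (a : X) a.2 _ hu
            convert this using 1
            group
        have hf1 : ∀ a, f a ≠ QuotientGroup.mk 1 := fun a e => hw₀U (by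
          rw [QuotientGroup.eq, mul_one, Subgroup.mem_subgroupOf, InvMemClass.coe_inv, inv_mem_iff] at e
          have := hUH (a : X)⁻¹ (H.inv_mem a.2) _ e
          simpa [mul_assoc] using this)
        let g : Option (H ⧸ K₀) → W ⧸ U.subgroupOf W := fun o =>
          o.elim (QuotientGroup.mk 1) (Quotient.lift f fun a b hab => (hf a b).2
            (QuotientGroup.leftRel_apply.1 hab))
        have hg : Function.Injective g := by
          rintro (_ | a) (_ | b) e
          · rfl
          · induction b using QuotientGroup.induction_on with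
            | _ b => exact absurd e.symm (hf1 b)
          · induction a using QuotientGroup.induction_on with
            | _ a => exact absurd e (hf1 a)
          · induction a using QuotientGroup.induction_on with
            | _ a =>
              induction b using QuotientGroup.induction_on with
              | _ b => exact congrArg some (QuotientGroup.eq.2 ((hf a b).1 e))
        have := Nat.card_le_card_of_injective g hg
        simpa [Finite.card_option] using this
      rw [hWC]
      calc _ = ((K₀.index : ℝ) + 1) * (Nat.card (U ⊓ C : Subgroup X) *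
            ∏ i, if h ∈ K i then 1 else ((K i).index : ℝ) + 1) := by ring
        _ ≤ (U.relIndex W : ℝ) * Nat.card U :=
            mul_le_mul hinj (hKw h) (mul_nonneg (Nat.cast_nonneg _)
              (Finset.prod_nonneg fun i _ => by split_ifs <;> positivity)) (Nat.cast_nonneg _)
        _ = _ := mul_comm _ _

end chain

section galois

variable {p : ℕ} [hp : Fact p.Prime]

/-- A family of automorphisms: powers on the roots of unity of order `p`, trivial on those of order
prime to `p`. -/
theorem exists_family {n : ℕ} (hn : n ≠ 0) (hpn : n.Coprime p) :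
    ∃ σ : (ZMod p)ˣ → ℂ ≃+* ℂ, (∀ a, ∀ z : ℂ, z ^ n = 1 → σ a z = z) ∧
      ∀ a, ∀ z : ℂ, z ^ p = 1 → σ a z = z ^ (a : ZMod p).val := by
  choose σ hσ1 hσ2 using fun a : (ZMod p)ˣ =>
    exists_aut_fix_pow hn hp.out.ne_zero hpn (ZMod.val_coe_unit_coprime a)
  refine ⟨σ, fun a z hz => ?_, fun a z hz => ?_⟩
  · haveI : NeZero n := ⟨hn⟩
    obtain ⟨i, -, rfl⟩ := (Complex.isPrimitiveRoot_exp n hn).eq_pow_of_pow_eq_one hz
    rw [map_pow, hσ1]
  · haveI : NeZero p := ⟨hp.out.ne_zero⟩
    obtain ⟨i, -, rfl⟩ := (Complex.isPrimitiveRoot_exp p hp.out.ne_zero).eq_pow_of_pow_eq_one hz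
    rw [map_pow, hσ2, ← pow_mul, ← pow_mul, Nat.mul_comm]

open CfsgLib.Block in
/-- The conjugates of a non-zero cyclotomic integer have squares summing to at least their number. -/
theorem card_le_sum_conjugates {σ : (ZMod p)ˣ → ℂ ≃+* ℂ}
    (hσ : ∀ a, ∀ z : ℂ, z ^ p = 1 → σ a z = z ^ (a : ZMod p).val) {z : ℂ} (hz : z ∈ cycInt p)
    (hz0 : z ≠ 0) : (Fintype.card (ZMod p)ˣ : ℝ) ≤ ∑ a, Complex.normSq (σ a z) := by
  classical
  have hp1 : p ^ (0 + 1) = p := by simp
  let e : (ZMod (p ^ (0 + 1)))ˣ ≃ (ZMod p)ˣ :=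
    (Units.mapEquiv (ZMod.ringEquivCongr hp1).toMulEquiv).toEquiv
  have he : ∀ m : (ZMod (p ^ (0 + 1)))ˣ, ((e m : (ZMod p)ˣ) : ZMod p).val = (m : ZMod (p ^ (0 + 1))).val :=
    fun m => by
      have : ∀ {m n : ℕ} (h : m = n) (a : ZMod m), (ZMod.ringEquivCongr h a).val = a.val := by
        intro m n h a; subst h; simp [ZMod.ringEquivCongr_refl]
      exact this hp1 _
  have hzz : z * conj z ∈ cycInt (p ^ (0 + 1)) := by rw [hp1]; exact mul_mem hz (conj_mem_cycInt hz)
  have hconj : ∀ a, ∀ w ∈ cycInt p, σ a (conj w) = conj (σ a w) := by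
    intro a w hw
    induction hw using Subring.closure_induction with
    | mem x hx =>
      rw [hσ a _ hx, hσ a _ (by rw [← map_pow, hx, map_one]), map_pow]
    | zero => simp
    | one => simp
    | add x y _ _ hx hy => simp [hx, hy]
    | neg x _ hx => simp [hx]
    | mul x y _ _ hx hy => simp [hx, hy]
  have hagree : ∀ (m : (ZMod (p ^ (0 + 1)))ˣ), ∀ w ∈ cycInt p,
      pAut p 0 (m : ZMod (p ^ (0 + 1))).val w = σ (e m) w := by
    intro m w hw
    induction hw using Subring.closure_induction with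
    | mem x hx => rw [hσ _ _ hx, pAut_root (coprime_of_unit m) (by rw [hp1]; exact hx), he]
    | zero => simp
    | one => simp
    | add x y _ _ hx hy => simp [hx, hy]
    | neg x _ hx => simp [hx]
    | mul x y _ _ hx hy => simp [hx, hy]
  have h := card_le_sum_of_totally_pos hzz (fun m => Complex.normSq (σ (e m) z))
    (fun m => Complex.normSq_pos.2 ((map_ne_zero _).2 hz0)) fun m => by
      rw [hagree m _ (mul_mem hz (conj_mem_cycInt hz)), map_mul, hconj _ _ hz, Complex.mul_conj]
  rw [Fintype.card_congr e, Fintype.sum_equiv e _ (fun a => Complex.normSq (σ a z)) fun m => rfl] at h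
  exact h

end galois

open scoped Classical in
/-- The theorem of Knörr on the class number with an abelian stabilizer. -/
theorem card_conjClasses_le {X : Type u} [Group X] [Finite X] (p : ℕ) [Fact p.Prime] (V : Subgroup X)
    [V.Normal] (hVexp : ∀ v ∈ V, v ^ p = 1) (hidx : ¬ p ∣ V.index)
    (hself : Subgroup.centralizer (V : Set X) = V) (G : Subgroup X) (hGV : Subgroup.IsComplement' V G)
    (v : X) (hv : v ∈ V) (hab : ∀ a ∈ G ⊓ Subgroup.centralizer ({v} : Set X),
      ∀ b ∈ G ⊓ Subgroup.centralizer ({v} : Set X), a * b = b * a) :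
    Nat.card (ConjClasses X) ≤ Nat.card V := by
  classical
  have hp := (Fact.out : p.Prime)
  letI := Fintype.ofFinite X
  haveI := Fintype.ofFinite (IrrCharacter X)
  set H : Subgroup X := G ⊓ Subgroup.centralizer ({v} : Set X) with hH
  letI : CommGroup H := { (inferInstance : Group H) with
    mul_comm := fun a b => Subtype.ext (hab a a.2 b b.2) }
  letI := Fintype.ofFinite H
  letI := Fintype.ofFinite (H →* ℂˣ)
  have hVab : ∀ a ∈ V, ∀ b ∈ V, a * b = b * a := fun a ha b hb =>
    (Subgroup.mem_centralizer_iff.1 (hself.ge hb)) a ha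
  have hGcard : Nat.card G = V.index := by
    rw [← hGV.symm.card_left]; rfl
  have hHn : ¬ p ∣ Nat.card H := fun h => hidx (hGcard ▸ h.trans (Subgroup.card_dvd_of_le inf_le_left))
  have hVp : IsPGroup p V := fun a => ⟨1, by
    rw [pow_one]; exact Subtype.ext (by rw [Subgroup.coe_pow]; exact hVexp a a.2)⟩
  have hcop : (Nat.card V).Coprime (Nat.card H) := by
    obtain ⟨k, hk⟩ := IsPGroup.iff_card.1 hVp
    rw [hk]
    exact Nat.Coprime.pow_left k (hp.coprime_iff_not_dvd.2 hHn)
  -- kernels
  obtain ⟨m, K, hKtriv, hKw⟩ := exists_chain_kernels V H hVab hab hcop V le_rfl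
    fun h _ w hw => (inferInstance : V.Normal).conj_mem w hw h
  have hK1 : ∀ h : H, (∀ i, h ∈ K i) → h = 1 := by
    intro h hh
    have hc : (h : X) ∈ Subgroup.centralizer (V : Set X) :=
      Subgroup.mem_centralizer_iff.2 fun w hw => (hKtriv h hh w hw).symm
    rw [hself] at hc
    have := Subgroup.disjoint_def.1 hGV.disjoint hc h.2.1
    exact Subtype.ext this
  -- automorphisms
  obtain ⟨σ, hσn, hσp⟩ := exists_family (p := p) (Nat.card_pos (α := H)).ne'
    (Nat.Coprime.symm (hp.coprime_iff_not_dvd.2 hHn))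
  -- the abelian group of the pairs
  have hcomm : ∀ h : H, Commute v (h : X) := fun h =>
    (Subgroup.mem_centralizer_singleton_iff.1 h.2.2).symm
  letI : CommGroup (Subgroup.zpowers v) := IsCyclic.commGroup
  let f : (Subgroup.zpowers v) × H →* X :=
    (Subgroup.zpowers v).subtype.noncommCoprod H.subtype fun a h => by
      obtain ⟨a, ha⟩ := a
      obtain ⟨i, rfl⟩ := ha
      exact (hcomm h).zpow_left i
  letI := Fintype.ofFinite (Subgroup.zpowers v)
  haveI := Fintype.ofFinite (IrrCharacter ((Subgroup.zpowers v) × H))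
  let v' : Subgroup.zpowers v := ⟨v, Subgroup.mem_zpowers v⟩
  have hτ : ∀ τ : IrrCharacter ((Subgroup.zpowers v) × H), ∃ L : (Subgroup.zpowers v) × H →* ℂˣ,
      ∀ x, (τ : (Subgroup.zpowers v) × H → ℂ) x = ((L x : ℂˣ) : ℂ) := by
    intro τ
    obtain ⟨l, hl⟩ := linearCharEquiv.surjective ⟨τ, degree_one_of_comm (fun a b => mul_comm a b) τ⟩
    exact ⟨l, fun x => (congrFun (congrArg (fun z => ((z.1 : IrrCharacter _) :
      (Subgroup.zpowers v) × H → ℂ)) hl) x).symm⟩
  choose L hL using hτ
  have hn : ∀ χ : IrrCharacter X, ∃ k : IrrCharacter ((Subgroup.zpowers v) × H) → ℤ, ∀ x,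
      (χ : X → ℂ) (f x) = ∑ τ, (k τ : ℂ) * ((L τ x : ℂˣ) : ℂ) := by
    intro χ
    obtain ⟨k, -, hk, -⟩ := generalized_expand (isGeneralizedCharacter_comp
      (isGeneralizedCharacter_of_isCharacter (isCharacter_irr χ)) f)
    refine ⟨k, fun x => ?_⟩
    rw [show (χ : X → ℂ) (f x) = _ from congrFun hk x, Finset.sum_apply]
    exact Finset.sum_congr rfl fun τ _ => by rw [Pi.smul_apply, smul_eq_mul, hL]
  choose k hk using hn
  have hv' : ∀ τ, (((L τ (v', 1)) : ℂˣ) : ℂ) ^ p = 1 := fun τ => by
    rw [← Units.val_pow_eq_pow_val, ← map_pow, Prod.pow_mk, one_pow,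
      show v' ^ p = 1 from Subtype.ext (by rw [Subgroup.coe_pow]; exact hVexp v hv)]
    simp [Prod.mk_one_one]
  let c : IrrCharacter X → (H →* ℂˣ) → CfsgLib.Block.cycInt p := fun χ l =>
    ⟨∑ τ ∈ Finset.univ.filter (fun τ => (L τ).comp (MonoidHom.inr _ _) = l),
      (k χ τ : ℂ) * ((L τ (v', 1) : ℂˣ) : ℂ), Subring.sum_mem _ fun τ _ =>
      Subring.mul_mem _ (intCast_mem _ _) (CfsgLib.Block.mem_cycInt_of_pow (hv' τ))⟩
  let φ : (ZMod p)ˣ → CfsgLib.Block.cycInt p →+ ℂ := fun a =>
    (σ a).toRingHom.toAddMonoidHom.comp (CfsgLib.Block.cycInt p).subtype.toAddMonoidHom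
  have hφ : ∀ z : CfsgLib.Block.cycInt p, z ≠ 0 →
      (Fintype.card (ZMod p)ˣ : ℝ) ≤ ∑ a, Complex.normSq (φ a z) := fun z hz =>
    card_le_sum_conjugates hσp z.2 fun h => hz (Subtype.ext h)
  have heta : ∀ (χ : IrrCharacter X) (a : (ZMod p)ˣ) (h : H),
      charSum φ (c χ) a h = (χ : X → ℂ) (v ^ (a : ZMod p).val * h) := by
    intro χ a h
    have hf : v ^ (a : ZMod p).val * (h : X) = f (v' ^ (a : ZMod p).val, h) := by
      simp [f, v', MonoidHom.noncommCoprod_apply]
    rw [hf, hk, charSum, ← Finset.sum_fiberwise Finset.univ (fun τ => (L τ).comp (MonoidHom.inr _ _))]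
    refine Finset.sum_congr rfl fun l _ => ?_
    show σ a (∑ τ ∈ _, _) * _ = _
    rw [map_sum, Finset.sum_mul]
    refine Finset.sum_congr rfl fun τ hτ => ?_
    rw [map_mul, map_intCast, hσp a _ (hv' τ), ← (Finset.mem_filter.1 hτ).2,
      ← Units.val_pow_eq_pow_val, ← map_pow, mul_assoc, ← Units.val_mul]
    congr 2
    rw [MonoidHom.comp_apply, MonoidHom.inr_apply, ← map_mul, Prod.pow_mk, one_pow, Prod.mk_mul_mk,
      mul_one, one_mul]
  -- the value at `v` does not vanish
  have hne : ∀ χ : IrrCharacter X, c χ ≠ 0 := by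
    intro χ h0
    have hval : ∀ a : (ZMod p)ˣ, (χ : X → ℂ) (v ^ (a : ZMod p).val) = 0 := fun a => by
      have := heta χ a 1
      rw [OneMemClass.coe_one, mul_one] at this
      rw [← this, charSum, h0]
      simp
    obtain ⟨d, hd0, hd⟩ := isIrrCharacter_degree χ.2
    have hdp : ¬ p ∣ d := by
      intro hdvd
      exact hidx (hdvd.trans (degree_dvd_index_abelian X V hVab χ χ.2 d hd))
    rcases eq_or_ne v 1 with hv1 | hv1
    · have := hval 1
      rw [hv1, one_pow, hd, Nat.cast_eq_zero] at this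
      omega
    · have hord : orderOf v = p := orderOf_eq_prime (hVexp v hv) hv1
      have hT : Nat.card (Subgroup.zpowers v) = p := by rw [Nat.card_zpowers, hord]
      obtain ⟨mm, hmm⟩ := classInner_char_irr_nat
        (isCharacter_comp (isCharacter_irr χ) (Subgroup.zpowers v).subtype)
        ⟨_, isIrrCharacter_one⟩
      rw [classInner, Finset.sum_eq_single (1 : Subgroup.zpowers v)] at hmm
      · simp only [map_one, mul_one, Subgroup.coe_subtype, hd, hT] at hmm
        refine hdp ⟨mm, ?_⟩
        have hp0 : (p : ℂ) ≠ 0 := Nat.cast_ne_zero.2 hp.ne_zero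
        field_simp at hmm
        exact_mod_cast hmm
      · intro b _ hb
        obtain ⟨i, hi⟩ : ∃ i : ℕ, b.1 = v ^ i :=
          ⟨_, ((mem_powers_iff_mem_zpowers.2 b.2).choose_spec).symm⟩
        have hi0 : (i : ZMod p) ≠ 0 := fun h => hb (Subtype.ext (by
          rw [hi, OneMemClass.coe_one, ← orderOf_dvd_iff_pow_eq_one, hord]
          exact (ZMod.natCast_eq_zero_iff ..).1 h))
        have hz : (χ : X → ℂ) b.1 = 0 := by
          rw [hi, ← pow_mod_orderOf, hord, ← ZMod.val_natCast]
          exact hval (Units.mk0 _ hi0)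
        simp [Subgroup.coe_subtype, hz]
      · simp
  -- the bound
  have hlow : ∀ χ : IrrCharacter X, (Fintype.card H : ℝ) ^ 2 * Fintype.card (ZMod p)ˣ ≤
      ∑ h : H, weight K h * ∑ a : (ZMod p)ˣ, Complex.normSq ((χ : X → ℂ) (v ^ (a : ZMod p).val * h)) := by
    intro χ
    simpa only [heta] using knorr_bound φ hφ m H K hK1 (c χ) (hne χ)
  have hcent : ∀ (a : (ZMod p)ˣ) (h : H),
      Nat.card (Subgroup.centralizer ({v ^ (a : ZMod p).val * (h : X)} : Set X)) ≤
        Nat.card (V ⊓ Subgroup.centralizer ({(h : X)} : Set X) : Subgroup X) * Nat.card H := by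
    intro a h
    set j := (a : ZMod p).val with hj
    set x := v ^ j * (h : X) with hx
    -- both parts are powers of `x`
    have hvh : Commute (v ^ j) (h : X) := (hcomm h).pow_left j
    have key : ∀ y ∈ Subgroup.centralizer ({x} : Set X), Commute y v ∧ Commute y (h : X) := by
      intro y hy
      have hyx : Commute y x := Subgroup.mem_centralizer_singleton_iff.1 hy
      have hhp : Commute y ((h : X) ^ p) := by
        have := hyx.pow_right p
        rwa [hx, hvh.mul_pow, ← pow_mul, mul_comm j, pow_mul, hVexp v hv, one_pow, one_mul] at this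
      have hh : Commute y (h : X) := by
        obtain ⟨s, hs⟩ := exists_pow_eq_self_of_coprime (x := (h : X)) (n := p)
          ((hp.coprime_iff_not_dvd.2 hHn).coprime_dvd_right
            (Subgroup.orderOf_coe h ▸ orderOf_dvd_natCard h))
        have := hhp.pow_right s
        rwa [hs] at this
      have hvj : Commute y (v ^ j) := by
        have := hyx.mul_right hh.inv_right
        rwa [hx, mul_inv_cancel_right] at this
      have hv' : Commute y v := by
        obtain ⟨s, hs⟩ := exists_pow_eq_self_of_coprime (x := v) (n := j)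
          ((ZMod.val_coe_unit_coprime a).coprime_dvd_right (orderOf_dvd_of_pow_eq_one (hVexp v hv)))
        have := hvj.pow_right s
        rwa [hs] at this
      exact ⟨hv', hh⟩
    rw [← Nat.card_prod]
    have hdec : ∀ y : Subgroup.centralizer ({x} : Set X), ∃ ug : (V ⊓ Subgroup.centralizer ({(h : X)} : Set X) : Subgroup X) × H,
        (ug.1 : X) * (ug.2 : X) = y := by
      intro y
      obtain ⟨⟨u, g⟩, hug : (u : X) * g = y⟩ := hGV.existsUnique (y : X) |>.exists
      obtain ⟨hyv, hyh⟩ := key y y.2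
      have hgv : Commute (g : X) v := by
        have huv : Commute (u : X) v := hVab u u.2 v hv
        have := huv.inv_left.mul_left hyv
        rwa [← hug, inv_mul_cancel_left] at this
      have hgH : (g : X) ∈ H := Subgroup.mem_inf.2 ⟨g.2, Subgroup.mem_centralizer_singleton_iff.2 hgv⟩
      have hgh : Commute (g : X) (h : X) := hab g hgH h h.2
      have huh : Commute (u : X) (h : X) := by
        have := hyh.mul_left hgh.inv_left
        rwa [← hug, mul_inv_cancel_right] at this
      exact ⟨(⟨u, Subgroup.mem_inf.2 ⟨u.2, Subgroup.mem_centralizer_singleton_iff.2 huh⟩⟩, ⟨g, hgH⟩), hug⟩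
    choose ug hug using hdec
    refine Nat.card_le_card_of_injective ug fun y y' e => Subtype.ext ?_
    rw [← hug y, ← hug y', e]
  -- the column orthogonality
  have htot : ∀ h : H, ∑ χ : IrrCharacter X,
      weight K h * ∑ a : (ZMod p)ˣ, Complex.normSq ((χ : X → ℂ) (v ^ (a : ZMod p).val * h)) ≤
        Fintype.card (ZMod p)ˣ * Fintype.card H * (Nat.card V : ℝ) := by
    intro h
    rw [← Finset.mul_sum, Finset.sum_comm, Finset.mul_sum]
    refine (Finset.sum_le_sum (g := fun _ => (Fintype.card H : ℝ) * Nat.card V) fun a _ => ?_).trans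
      (le_of_eq (by rw [Finset.sum_const, Finset.card_univ, nsmul_eq_mul]; ring))
    set x := v ^ (a : ZMod p).val * (h : X) with hx
    have hsum : ∑ χ : IrrCharacter X, Complex.normSq ((χ : X → ℂ) x) =
        (Nat.card (Subgroup.centralizer ({x} : Set X)) : ℝ) := by
      have := sum_irr_mul_conj x x
      rw [if_pos (IsConj.refl x)] at this
      simp only [Complex.mul_conj] at this
      exact_mod_cast this
    rw [hsum]
    calc weight K h * (Nat.card (Subgroup.centralizer ({x} : Set X)) : ℝ)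
        ≤ weight K h * ((Nat.card (V ⊓ Subgroup.centralizer ({(h : X)} : Set X) : Subgroup X) : ℝ) *
            Nat.card H) := by
          refine mul_le_mul_of_nonneg_left ?_ (weight_nonneg _ _)
          exact_mod_cast hcent a h
      _ = (Nat.card (V ⊓ Subgroup.centralizer ({(h : X)} : Set X) : Subgroup X) : ℝ) * weight K h *
            Fintype.card H := by rw [Nat.card_eq_fintype_card (α := H)]; ring
      _ ≤ (Nat.card V : ℝ) * Fintype.card H :=
          mul_le_mul_of_nonneg_right (hKw h) (Nat.cast_nonneg _)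
      _ = _ := mul_comm _ _
  have hfin := Finset.sum_le_sum (s := (Finset.univ : Finset (IrrCharacter X))) fun χ _ => hlow χ
  rw [Finset.sum_comm, Finset.sum_const, Finset.card_univ, nsmul_eq_mul] at hfin
  have h2 := hfin.trans (Finset.sum_le_sum fun h _ => htot h)
  rw [Finset.sum_const, Finset.card_univ, nsmul_eq_mul] at h2
  have h3 : (Fintype.card (IrrCharacter X) : ℝ) ≤ Nat.card V := by
    have hpos : (0 : ℝ) < (Fintype.card H : ℝ) ^ 2 * Fintype.card (ZMod p)ˣ := by
      have : (0 : ℝ) < Fintype.card H := by exact_mod_cast Fintype.card_pos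
      have : (0 : ℝ) < Fintype.card (ZMod p)ˣ := by exact_mod_cast Fintype.card_pos
      positivity
    refine le_of_mul_le_mul_right ?_ hpos
    linarith
  rw [← card_irr_eq_card_conjClasses, Nat.card_eq_fintype_card]
  exact_mod_cast h3

end CfsgLib.Char.KnorrForm
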