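import Mathlib

/-!
# A lower bound for a weighted norm on a finite abelian group

`knorr_bound`: let `K i` be subgroups of a finite abelian group `H` with trivial intersection and
weigh `h` by the product of the numbers `index + 1` over the `K i` missing `h`.  A non-zero vector of
coefficients on the characters has weighted norm at least `|H| ^ 2` times the least norm of a
non-zero coefficient.  The proof is by induction on the number of subgroups.
-/

open Finset

set_option autoImplicit false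

namespace CfsgLib.Char.KnorrForm

universe u

variable {A : Type} [AddCommGroup A] {J : Type} [Fintype J] (φ : J → A →+ ℂ)

/-- The sum over the characters. -/
noncomputable def charSum {H : Type u} [CommGroup H] [Fintype (H →* ℂˣ)] (c : (H →* ℂˣ) → A) (j : J)
    (h : H) : ℂ :=
  ∑ l : H →* ℂˣ, φ j (c l) * ((l h : ℂˣ) : ℂ)

theorem sum_char_eq_zero {Q : Type u} [CommGroup Q] [Fintype Q] {l : Q →* ℂˣ} (hl : l ≠ 1) :
    ∑ a : Q, ((l a : ℂˣ) : ℂ) = 0 := by
  obtain ⟨b, hb⟩ : ∃ b, l b ≠ 1 := by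
    by_contra h
    push Not at h
    exact hl (MonoidHom.ext h)
  have e : ∑ a : Q, ((l (b * a) : ℂˣ) : ℂ) = ∑ a : Q, ((l a : ℂˣ) : ℂ) :=
    Fintype.sum_equiv (Equiv.mulLeft b) _ _ fun a => rfl
  simp only [map_mul, Units.val_mul] at e
  rw [← Finset.mul_sum] at e
  by_contra h0
  exact hb (Units.ext ((mul_eq_right₀ h0).1 e))

/-- Parseval. -/
theorem sum_normSq_char {Q : Type u} [CommGroup Q] [Fintype Q] [Fintype (Q →* ℂˣ)]
    (x : (Q →* ℂˣ) → ℂ) :
    ∑ a : Q, Complex.normSq (∑ μ : Q →* ℂˣ, x μ * ((μ a : ℂˣ) : ℂ)) =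
      Fintype.card Q * ∑ μ : Q →* ℂˣ, Complex.normSq (x μ) := by
  classical
  have key : ∀ (μ ν : Q →* ℂˣ), ∑ a : Q, ((μ a : ℂˣ) : ℂ) * (starRingEnd ℂ) ((ν a : ℂˣ) : ℂ) =
      if μ = ν then (Fintype.card Q : ℂ) else 0 := by
    intro μ ν
    have h1 : ∀ a : Q, (starRingEnd ℂ) ((ν a : ℂˣ) : ℂ) = (((ν a)⁻¹ : ℂˣ) : ℂ) := fun a => by
      have hn : ‖((ν a : ℂˣ) : ℂ)‖ = 1 := Complex.norm_eq_one_of_pow_eq_one (n := Fintype.card Q)
        (by rw [← Units.val_pow_eq_pow_val, ← map_pow, pow_card_eq_one, map_one, Units.val_one])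
        Fintype.card_ne_zero
      rw [Units.val_inv_eq_inv_val, ← Complex.inv_eq_conj hn]
    simp only [h1, ← Units.val_mul]
    have h2 : ∀ a : Q, μ a * (ν a)⁻¹ = (μ * ν⁻¹) a := fun a => by simp
    simp only [h2]
    split_ifs with h
    · simp [h]
    · exact sum_char_eq_zero (fun e => h (mul_inv_eq_one.1 e))
  apply Complex.ofReal_injective
  simp only [Complex.ofReal_sum, Complex.ofReal_mul, Complex.ofReal_natCast, Complex.normSq_eq_conj_mul_self,
    map_sum, map_mul, Finset.sum_mul, Finset.mul_sum]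
  rw [Finset.sum_comm]
  refine Finset.sum_congr rfl fun μ _ => ?_
  rw [Finset.sum_comm, Finset.sum_eq_single μ]
  · calc _ = (starRingEnd ℂ) (x μ) * x μ *
          ∑ a : Q, ((μ a : ℂˣ) : ℂ) * (starRingEnd ℂ) ((μ a : ℂˣ) : ℂ) := by
            rw [Finset.mul_sum]; exact Finset.sum_congr rfl fun a _ => by ring
      _ = _ := by rw [key, if_pos rfl]; ring
  · intro ν _ hne
    calc _ = (starRingEnd ℂ) (x ν) * x μ *
          ∑ a : Q, ((μ a : ℂˣ) : ℂ) * (starRingEnd ℂ) ((ν a : ℂˣ) : ℂ) := by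
            rw [Finset.mul_sum]; exact Finset.sum_congr rfl fun a _ => by ring
      _ = 0 := by rw [key, if_neg (Ne.symm hne), mul_zero]
  · simp

theorem normSq_sub_sum {ι : Type u} [Fintype ι] (x : ι → ℂ) :
    ∑ μ, ∑ ν, Complex.normSq (x μ - x ν) =
      2 * (Fintype.card ι : ℝ) * (∑ μ, Complex.normSq (x μ)) - 2 * Complex.normSq (∑ μ, x μ) := by
  apply Complex.ofReal_injective
  simp only [Complex.ofReal_sub, Complex.ofReal_sum, Complex.ofReal_mul, Complex.ofReal_natCast,
    Complex.ofReal_ofNat, Complex.normSq_eq_conj_mul_self, map_sum, map_sub]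
  simp only [sub_mul, mul_sub, Finset.sum_sub_distrib, Finset.sum_const, Finset.card_univ, nsmul_eq_mul,
    ← Finset.mul_sum, ← Finset.sum_mul]
  ring

/-- Enough non-zero values or differences. -/
theorem count_bound {ι : Type u} [Fintype ι] {B : Type u} [AddCommGroup B] (v : ι → B)
    (hv : ∃ μ, v μ ≠ 0) (f : B → ℝ) (hf0 : ∀ b, 0 ≤ f b) {C : ℝ} (hC : ∀ b, b ≠ 0 → C ≤ f b)
    (hC0 : 0 ≤ C) :
    2 * (Fintype.card ι : ℝ) * C ≤ 2 * (∑ μ, f (v μ)) + ∑ μ, ∑ ν, f (v μ - v ν) := by
  classical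
  set S := Finset.univ.filter (fun μ => v μ ≠ 0) with hS
  set T := Finset.univ.filter (fun μ => v μ = 0) with hT
  have hST : (S.card : ℝ) + T.card = Fintype.card ι := by
    rw [← Nat.cast_add, hS, hT, add_comm, Finset.card_filter_add_card_filter_not, Finset.card_univ]
  have h1 : (S.card : ℝ) * C ≤ ∑ μ, f (v μ) := by
    calc (S.card : ℝ) * C = ∑ μ ∈ S, C := by rw [Finset.sum_const, nsmul_eq_mul]
      _ ≤ ∑ μ ∈ S, f (v μ) := Finset.sum_le_sum fun μ hμ => hC _ (Finset.mem_filter.1 hμ).2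
      _ ≤ _ := Finset.sum_le_univ_sum_of_nonneg fun μ => hf0 _
  have h2 : (S.card : ℝ) * T.card * C + T.card * S.card * C ≤ ∑ μ, ∑ ν, f (v μ - v ν) := by
    rw [← Finset.sum_filter_add_sum_filter_not Finset.univ (fun μ => v μ ≠ 0), ← hS]
    refine add_le_add ?_ ?_
    · calc (S.card : ℝ) * T.card * C = ∑ _μ ∈ S, ∑ _ν ∈ T, C := by simp; ring
        _ ≤ ∑ μ ∈ S, ∑ ν ∈ T, f (v μ - v ν) := Finset.sum_le_sum fun μ hμ => Finset.sum_le_sum
            fun ν hν => hC _ (by rw [(Finset.mem_filter.1 hν).2, sub_zero]; exact (Finset.mem_filter.1 hμ).2)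
        _ ≤ _ := Finset.sum_le_sum fun μ _ => Finset.sum_le_univ_sum_of_nonneg fun ν => hf0 _
    · have hT' : Finset.univ.filter (fun μ => ¬ v μ ≠ 0) = T := by simp [hT]
      rw [hT']
      calc (T.card : ℝ) * S.card * C = ∑ _μ ∈ T, ∑ _ν ∈ S, C := by simp; ring
        _ ≤ ∑ μ ∈ T, ∑ ν ∈ S, f (v μ - v ν) := Finset.sum_le_sum fun μ hμ => Finset.sum_le_sum
            fun ν hν => hC _ (by rw [(Finset.mem_filter.1 hμ).2, zero_sub, neg_ne_zero]; exact (Finset.mem_filter.1 hν).2)
        _ ≤ _ := Finset.sum_le_sum fun μ _ => Finset.sum_le_univ_sum_of_nonneg fun ν => hf0 _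
  have h3 : (1 : ℝ) ≤ S.card := by
    obtain ⟨μ, hμ⟩ := hv
    exact_mod_cast Finset.card_pos.2 ⟨μ, Finset.mem_filter.2 ⟨Finset.mem_univ _, hμ⟩⟩
  have h4 : (Fintype.card ι : ℝ) ≤ S.card + S.card * T.card := by nlinarith [T.card.cast_nonneg (α := ℝ)]
  nlinarith [mul_le_mul_of_nonneg_right h4 hC0]

open scoped Classical in
/-- The weight of an element. -/
noncomputable def weight {H : Type u} [CommGroup H] {m : ℕ} (K : Fin m → Subgroup H) (h : H) : ℝ :=
  ∏ i, if h ∈ K i then 1 else ((K i).index : ℝ) + 1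

theorem weight_nonneg {H : Type u} [CommGroup H] {m : ℕ} (K : Fin m → Subgroup H) (h : H) :
    0 ≤ weight K h :=
  Finset.prod_nonneg fun i _ => by split_ifs <;> positivity

open scoped Classical in
/-- The bound. -/
theorem knorr_bound (hφ : ∀ a : A, a ≠ 0 → (Fintype.card J : ℝ) ≤ ∑ j, Complex.normSq (φ j a)) :
    ∀ (m : ℕ) (H : Type u) [CommGroup H] [Fintype H] [Fintype (H →* ℂˣ)] (K : Fin m → Subgroup H),
      (∀ h : H, (∀ i, h ∈ K i) → h = 1) → ∀ c : (H →* ℂˣ) → A, c ≠ 0 →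
      (Fintype.card H : ℝ) ^ 2 * Fintype.card J ≤
        ∑ h : H, weight K h * ∑ j, Complex.normSq (charSum φ c j h) := by
  intro m
  induction m with
  | zero =>
    intro H _ _ _ K hK c hc
    haveI : Subsingleton H := ⟨fun a b => (hK a fun i => i.elim0).trans (hK b fun i => i.elim0).symm⟩
    have hall : ∀ l : H →* ℂˣ, l = 1 := fun l => MonoidHom.ext fun a => by
      rw [Subsingleton.elim a 1, map_one, MonoidHom.one_apply]
    have hc1 : c 1 ≠ 0 := fun h => hc (funext fun l => by rw [hall l, h]; rfl)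
    rw [Fintype.card_eq_one_iff.2 ⟨1, fun a => Subsingleton.elim a 1⟩, Fintype.sum_eq_single (1 : H)
      (fun a ha => absurd (Subsingleton.elim a 1) ha)]
    simp only [weight, Finset.univ_eq_empty, Finset.prod_empty, one_mul, Nat.cast_one, one_pow]
    refine (hφ _ hc1).trans (le_of_eq (Finset.sum_congr rfl fun j _ => ?_))
    rw [charSum, Fintype.sum_eq_single (1 : H →* ℂˣ) (fun l hl => absurd (hall l) hl)]
    simp
  | succ m ih =>
    intro H _ _ _ K hK c hc
    let K₀ : Subgroup H := K 0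
    let R : Subgroup H := ⨅ i : Fin m, K i.succ
    letI := Fintype.ofFinite (H ⧸ K₀)
    letI := Fintype.ofFinite (H ⧸ R)
    letI := Fintype.ofFinite (H ⧸ K₀ →* ℂˣ)
    letI := Fintype.ofFinite (H ⧸ R →* ℂˣ)
    let ι : H →* (H ⧸ K₀) × (H ⧸ R) := (QuotientGroup.mk' K₀).prod (QuotientGroup.mk' R)
    have hRmem : ∀ h : H, h ∈ R ↔ ∀ i : Fin m, h ∈ K i.succ := fun h => Subgroup.mem_iInf
    have hι : Function.Injective ι := by
      rw [injective_iff_map_eq_one]
      intro h hh
      rw [Prod.ext_iff] at hh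
      refine hK h fun i => ?_
      refine Fin.cases ?_ (fun i => ?_) i
      · exact (QuotientGroup.eq_one_iff h).1 hh.1
      · exact (hRmem h).1 ((QuotientGroup.eq_one_iff h).1 hh.2) i
    let Ψ : (H ⧸ K₀ →* ℂˣ) × (H ⧸ R →* ℂˣ) →* (H →* ℂˣ) :=
      MonoidHom.mk' (fun x => x.1.comp (QuotientGroup.mk' K₀) * x.2.comp (QuotientGroup.mk' R))
        (fun x y => MonoidHom.ext fun h => by
          simp only [Prod.fst_mul, Prod.snd_mul, MonoidHom.mul_apply, MonoidHom.comp_apply]
          exact mul_mul_mul_comm _ _ _ _)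
    have hΨ : Function.Surjective Ψ := by
      intro l
      obtain ⟨ψ, hψ⟩ := MonoidHom.domRestrict_surjective (G := (H ⧸ K₀) × (H ⧸ R)) (M := ℂ) ι.range
        (l.comp (MonoidHom.ofInjective hι).symm.toMonoidHom)
      refine ⟨(ψ.comp (MonoidHom.inl _ _), ψ.comp (MonoidHom.inr _ _)), MonoidHom.ext fun h => ?_⟩
      have h1 := DFunLike.congr_fun hψ (MonoidHom.ofInjective hι h)
      have h2 : ψ (ι h) = l h := by simpa [MonoidHom.domRestrictHom, MonoidHom.ofInjective_apply] using h1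
      rw [← h2]
      show ψ ((QuotientGroup.mk' K₀ h), 1) * ψ (1, (QuotientGroup.mk' R h)) = ψ (ι h)
      rw [← map_mul, Prod.mk_mul_mk, mul_one, one_mul]
      rfl
    set d : ℕ := (Finset.univ.filter fun x => Ψ x = 1).card with hd
    have hfib : ∀ l : H →* ℂˣ, (Finset.univ.filter fun x => Ψ x = l).card = d := by
      intro l
      obtain ⟨x₀, hx₀⟩ := hΨ l
      refine (Finset.card_bij' (fun x _ => x₀ * x) (fun x _ => x₀⁻¹ * x) ?_ ?_ ?_ ?_).symm
      · intro x hx
        rw [Finset.mem_filter] at hx ⊢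
        exact ⟨Finset.mem_univ _, by rw [map_mul, hx₀, hx.2]; exact mul_one l⟩
      · intro x hx
        rw [Finset.mem_filter] at hx ⊢
        refine ⟨Finset.mem_univ _, mul_left_cancel (G := H →* ℂˣ) (a := Ψ x₀) ?_⟩
        rw [← map_mul, mul_inv_cancel_left (G := (H ⧸ K₀ →* ℂˣ) × (H ⧸ R →* ℂˣ)), hx.2, hx₀]
        exact (mul_one l).symm
      · intro x _; exact inv_mul_cancel_left (G := (H ⧸ K₀ →* ℂˣ) × (H ⧸ R →* ℂˣ)) _ _
      · intro x _; exact mul_inv_cancel_left (G := (H ⧸ K₀ →* ℂˣ) × (H ⧸ R →* ℂˣ)) _ _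
    have hd0' : 0 < d := Finset.card_pos.2 ⟨1, Finset.mem_filter.2 ⟨Finset.mem_univ _, map_one Ψ⟩⟩
    have hcard : Fintype.card (H ⧸ K₀) * Fintype.card (H ⧸ R) = Fintype.card H * d := by
      have h1 := Finset.card_eq_sum_card_fiberwise (f := Ψ) (s := Finset.univ) (t := Finset.univ)
        fun x _ => Finset.mem_univ _
      simp only [hfib, Finset.sum_const, smul_eq_mul, Finset.card_univ, ← Nat.card_eq_fintype_card,
        Nat.card_prod, CommGroup.card_monoidHom_of_hasEnoughRootsOfUnity] at h1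
      simpa [Nat.card_eq_fintype_card] using h1
    -- the function on the product
    let G : J → (H ⧸ K₀) × (H ⧸ R) → ℂ := fun j y =>
      ∑ x : (H ⧸ K₀ →* ℂˣ) × (H ⧸ R →* ℂˣ),
        φ j (c (Ψ x)) * (((x.1 y.1 : ℂˣ) : ℂ) * ((x.2 y.2 : ℂˣ) : ℂ))
    have hGι : ∀ j h, G j (ι h) = d * charSum φ c j h := by
      intro j h
      simp only [G, charSum, Finset.mul_sum]
      rw [← Finset.sum_fiberwise Finset.univ Ψ]
      refine Finset.sum_congr rfl fun l _ => ?_
      rw [Finset.sum_congr rfl (g := fun _ => φ j (c l) * ((l h : ℂˣ) : ℂ)) fun x hx => by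
        have hx' : Ψ x = l := (Finset.mem_filter.1 hx).2
        rw [hx', ← Units.val_mul]
        subst hx'
        rfl, Finset.sum_const, hfib, nsmul_eq_mul]
    have hGoff : ∀ j y, y ∉ ι.range → G j y = 0 := by
      intro j y hy
      obtain ⟨ψ, hψ1, hψy⟩ : ∃ ψ : (H ⧸ K₀) × (H ⧸ R) →* ℂˣ, (∀ z ∈ ι.range, ψ z = 1) ∧ ψ y ≠ 1 := by
        by_contra hno
        push Not at hno
        exact hy ((CommGroup.forall_monoidHom_apply_eq_one_iff (M := ℂ) ι.range y).1 hno)
      let z : (H ⧸ K₀ →* ℂˣ) × (H ⧸ R →* ℂˣ) :=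
        (ψ.comp (MonoidHom.inl _ _), ψ.comp (MonoidHom.inr _ _))
      have hsplit : ∀ w : (H ⧸ K₀) × (H ⧸ R), ψ w = z.1 w.1 * z.2 w.2 := fun w => by
        show ψ w = ψ (w.1, 1) * ψ (1, w.2)
        rw [← map_mul, Prod.mk_mul_mk, mul_one, one_mul]
      have hz : Ψ z = 1 := MonoidHom.ext fun h => (hsplit (ι h)).symm.trans (hψ1 _ ⟨h, rfl⟩)
      have e : ((ψ y : ℂˣ) : ℂ) * G j y = G j y := by
        simp only [G, Finset.mul_sum]
        refine Fintype.sum_equiv (Equiv.mulLeft (G := (H ⧸ K₀ →* ℂˣ) × (H ⧸ R →* ℂˣ)) z) _ _ fun x => ?_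
        rw [Equiv.coe_mulLeft, map_mul, hz, show (1 : H →* ℂˣ) * Ψ x = Ψ x from one_mul (Ψ x), hsplit y]
        simp only [Prod.fst_mul, Prod.snd_mul, MonoidHom.mul_apply, Units.val_mul]
        ring
      by_contra h0
      exact hψy (Units.ext ((mul_eq_right₀ h0).1 e))
    -- the weight on the second factor
    let K' : Fin m → Subgroup (H ⧸ R) := fun i => (K i.succ).map (QuotientGroup.mk' R)
    have hRle : ∀ i : Fin m, R ≤ K i.succ := fun i => iInf_le _ i
    have hK'mem : ∀ i (h : H), QuotientGroup.mk' R h ∈ K' i ↔ h ∈ K i.succ := by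
      intro i h
      rw [← Subgroup.mem_comap, Subgroup.comap_map_eq, QuotientGroup.ker_mk',
        sup_eq_left.2 (hRle i)]
    have hK'idx : ∀ i, (K' i).index = (K i.succ).index := fun i => by
      rw [Subgroup.index_map_eq _ (QuotientGroup.mk'_surjective R) (by
        rw [QuotientGroup.ker_mk']; exact hRle i)]
    have hK' : ∀ b : H ⧸ R, (∀ i, b ∈ K' i) → b = 1 := by
      intro b hb
      obtain ⟨h, rfl⟩ := QuotientGroup.mk'_surjective R b
      exact (QuotientGroup.eq_one_iff h).2 ((hRmem h).2 fun i => (hK'mem i h).1 (hb i))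
    set e : ℕ := Fintype.card (H ⧸ K₀) with he
    have heidx : K₀.index = e := by
      rw [Subgroup.index_eq_card, Nat.card_eq_fintype_card]
    let w₀ : H ⧸ K₀ → ℝ := fun a => if a = 1 then 1 else (e : ℝ) + 1
    have hw : ∀ h, weight K h = w₀ (QuotientGroup.mk' K₀ h) * weight K' (QuotientGroup.mk' R h) := by
      intro h
      simp only [weight, Fin.prod_univ_succ]
      congr 1
      · by_cases hh : h ∈ K₀
        · rw [if_pos hh]
          simp [w₀, (QuotientGroup.eq_one_iff h).2 hh]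
        · have hne : QuotientGroup.mk' K₀ h ≠ 1 := fun e => hh ((QuotientGroup.eq_one_iff h).1 e)
          rw [if_neg hh]
          simp only [w₀, if_neg hne]
          rw [show (K 0).index = e from heidx]
      · exact Finset.prod_congr rfl fun i _ => by simp only [hK'mem, hK'idx]
    -- the inner vectors
    let v : (H ⧸ K₀ →* ℂˣ) → (H ⧸ R →* ℂˣ) → A := fun μ ν => c (Ψ (μ, ν))
    have hv : ∃ μ, v μ ≠ 0 := by
      obtain ⟨l, hl⟩ := Function.ne_iff.1 hc
      obtain ⟨x, rfl⟩ := hΨ l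
      exact ⟨x.1, fun h => hl (congrFun h x.2)⟩
    let F : ((H ⧸ R →* ℂˣ) → A) → ℝ := fun a =>
      ∑ b : H ⧸ R, weight K' b * ∑ j, Complex.normSq (charSum φ a j b)
    have hF0 : ∀ a, 0 ≤ F a := fun a => Finset.sum_nonneg fun b _ =>
      mul_nonneg (weight_nonneg _ _) (Finset.sum_nonneg fun j _ => Complex.normSq_nonneg _)
    have hFC : ∀ a, a ≠ 0 → (Fintype.card (H ⧸ R) : ℝ) ^ 2 * Fintype.card J ≤ F a :=
      fun a ha => ih (H ⧸ R) K' hK' a ha
    have hcount := count_bound v hv F hF0 hFC (by positivity)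
    have hcardK : Fintype.card (H ⧸ K₀ →* ℂˣ) = e := by
      rw [he, ← Nat.card_eq_fintype_card, ← Nat.card_eq_fintype_card,
        CommGroup.card_monoidHom_of_hasEnoughRootsOfUnity]
    rw [hcardK] at hcount
    -- the identity
    have hGsum : ∀ j a b, G j (a, b) =
        ∑ μ : H ⧸ K₀ →* ℂˣ, charSum φ (v μ) j b * ((μ a : ℂˣ) : ℂ) := by
      intro j a b
      simp only [G, charSum, v, Fintype.sum_prod_type, Finset.sum_mul]
      exact Finset.sum_congr rfl fun μ _ => Finset.sum_congr rfl fun ν _ => by ring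
    have hone : ∀ j b, ∑ a, w₀ a * Complex.normSq (G j (a, b)) =
        (e : ℝ) / 2 * (2 * ∑ μ, Complex.normSq (charSum φ (v μ) j b) +
          ∑ μ, ∑ ν, Complex.normSq (charSum φ (v μ) j b - charSum φ (v ν) j b)) := by
      intro j b
      rw [normSq_sub_sum, hcardK]
      have h1 : ∀ a, w₀ a * Complex.normSq (G j (a, b)) = ((e : ℝ) + 1) * Complex.normSq (G j (a, b)) -
          (if a = 1 then (e : ℝ) * Complex.normSq (G j (a, b)) else 0) := fun a => by
        simp only [w₀]; split_ifs <;> ring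
      rw [Finset.sum_congr rfl fun a _ => h1 a]
      simp only [Finset.sum_sub_distrib, ← Finset.mul_sum, Finset.sum_ite_eq', Finset.mem_univ,
        if_true, hGsum, map_one, Units.val_one, mul_one, sum_normSq_char]
      rw [← he]
      ring
    have htot : ∑ y : (H ⧸ K₀) × (H ⧸ R), w₀ y.1 * weight K' y.2 * ∑ j, Complex.normSq (G j y) =
        (d : ℝ) ^ 2 * ∑ h : H, weight K h * ∑ j, Complex.normSq (charSum φ c j h) := by
      rw [← Finset.sum_subset (Finset.subset_univ (Finset.univ.image ι)) fun y _ hy => by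
        have : y ∉ ι.range := fun ⟨h, hh⟩ => hy (Finset.mem_image.2 ⟨h, Finset.mem_univ _, hh⟩)
        simp [hGoff _ _ this]]
      rw [Finset.sum_image fun a _ b _ h => hι h, Finset.mul_sum]
      refine Finset.sum_congr rfl fun h _ => ?_
      simp only [hGι, Complex.normSq_mul, Complex.normSq_natCast, ← Finset.mul_sum]
      rw [hw h]
      simp only [ι, MonoidHom.prod_apply]
      ring
    have hFsum : (e : ℝ) / 2 * (2 * (∑ μ, F (v μ)) + ∑ μ, ∑ ν, F (v μ - v ν)) =
        (d : ℝ) ^ 2 * ∑ h : H, weight K h * ∑ j, Complex.normSq (charSum φ c j h) := by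
      rw [← htot, Fintype.sum_prod_type]
      conv_rhs => rw [Finset.sum_comm]
      have hsub : ∀ μ ν j b, charSum φ (v μ - v ν) j b = charSum φ (v μ) j b - charSum φ (v ν) j b := by
        intro μ ν j b
        simp only [charSum, Pi.sub_apply, map_sub, sub_mul, Finset.sum_sub_distrib]
      calc _ = ∑ b : H ⧸ R, weight K' b * ∑ j, ((e : ℝ) / 2 * (2 * ∑ μ, Complex.normSq (charSum φ (v μ) j b) +
              ∑ μ, ∑ ν, Complex.normSq (charSum φ (v μ) j b - charSum φ (v ν) j b))) := by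
            have sw1 : ∀ g : (H ⧸ K₀ →* ℂˣ) → J → H ⧸ R → ℝ,
                ∑ μ, ∑ b, weight K' b * ∑ j, g μ j b = ∑ b, weight K' b * ∑ j, ∑ μ, g μ j b := fun g => by
              rw [Finset.sum_comm]
              exact Finset.sum_congr rfl fun b _ => by rw [← Finset.mul_sum, Finset.sum_comm]
            simp only [F, hsub]
            rw [sw1 fun μ j b => Complex.normSq (charSum φ (v μ) j b)]
            rw [Finset.sum_congr rfl fun μ _ => sw1 fun ν j b => Complex.normSq (charSum φ (v μ) j b - charSum φ (v ν) j b)]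
            rw [sw1 fun μ j b => ∑ ν, Complex.normSq (charSum φ (v μ) j b - charSum φ (v ν) j b)]
            simp only [Finset.mul_sum, ← Finset.sum_add_distrib, mul_add]
            exact Finset.sum_congr rfl fun b _ => Finset.sum_congr rfl fun j _ => by ring_nf
        _ = _ := by
            refine Finset.sum_congr rfl fun b _ => ?_
            simp only [← hone]
            rw [Finset.sum_comm, Finset.mul_sum]
            refine Finset.sum_congr rfl fun a _ => ?_
            rw [Finset.mul_sum, Finset.mul_sum]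
            exact Finset.sum_congr rfl fun j _ => by ring
    have hcard' : (e : ℝ) * Fintype.card (H ⧸ R) = Fintype.card H * d := by
      exact_mod_cast hcard
    have hd0 : (0 : ℝ) < (d : ℝ) ^ 2 := by
      have := hd0'
      positivity
    refine le_of_mul_le_mul_left ?_ hd0
    rw [← hFsum]
    calc (d : ℝ) ^ 2 * ((Fintype.card H : ℝ) ^ 2 * Fintype.card J)
        = (e : ℝ) / 2 * (2 * (e : ℝ) * ((Fintype.card (H ⧸ R) : ℝ) ^ 2 * Fintype.card J)) := by
          rw [← mul_assoc, ← mul_pow, mul_comm (d : ℝ), ← hcard']; ring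
      _ ≤ _ := mul_le_mul_of_nonneg_left hcount (by positivity)

end CfsgLib.Char.KnorrForm
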