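import Cfsg.Agent.Lib.Char.BlichfeldtSixty
import Cfsg.Agent.Lib.Char.CyclotomicCoeff
import Cfsg.Agent.Lib.Char.Clifford
import Cfsg.Agent.Lib.Char.Linear
import Cfsg.Agent.Lib.Char.ExtendChar
import Cfsg.Agent.Lib.Coprime.Core
import Cfsg.Agent.Lib.Coprime.Fitting
import Cfsg.Agent.Lib.Coprime.Solvable

/-!
# Irreducible linear groups of degree less than `2p` with a non-abelian Sylow `p`-subgroup

A central element of the Sylow subgroup inside its derived group has two eigenvalues, with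
multiplicities `p` and `n - p`; by Blichfeldt's theorem its conjugates commute, and Clifford's
theorem makes the group monomial over an abelian normal subgroup.
-/

set_option autoImplicit false
set_option linter.unusedSectionVars false

namespace CfsgLib.Char.LinearTwoP

open Cfsg CfsgLib.Char
open scoped ComplexConjugate

universe u

variable {G : Type u} [Group G] [Finite G] {p : ℕ} [hp : Fact p.Prime]

/-- An element with eigenvalue a chosen primitive root to multiplicity `p`, and one otherwise. -/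
theorem exists_element {χ : IrrCharacter G} {n : ℕ} (hn : (χ : G → ℂ) 1 = n) (hn2 : n < 2 * p)
    (hfaith : ∀ g : G, (χ : G → ℂ) g = (χ : G → ℂ) 1 → g = 1) {ζ : ℂ} (hζ : IsPrimitiveRoot ζ p)
    {P : Subgroup G} (hP : IsPGroup p P) (hnc : ¬ ∀ a b : P, a * b = b * a) :
    p ≤ n ∧ ∃ x : G, x ^ p = 1 ∧
      (χ : G → ℂ) x = ((n : ℂ) - (p : ℂ)) + (p : ℂ) * ζ := by
  classical
  have := Fintype.ofFinite G
  have := Fintype.ofFinite P
  have := Fintype.ofFinite (IrrCharacter P)
  set f : P → ℂ := fun a => (χ : G → ℂ) a with hf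
  have hfc : IsCharacter P f := isCharacter_comp (isCharacter_irr χ) P.subtype
  have hexp := classFun_expand (isClassFunction_of_isCharacter hfc)
  choose m hm using fun θ : IrrCharacter P => classInner_char_irr_nat hfc θ
  choose d hd0 hd using fun θ : IrrCharacter P => isIrrCharacter_degree θ.2
  have happ : ∀ a : P, f a = ∑ θ : IrrCharacter P, (m θ : ℂ) * (θ : P → ℂ) a := fun a => by
    conv_lhs => rw [hexp]
    simp [Finset.sum_apply, hm]
  have hsum : ∑ θ : IrrCharacter P, m θ * d θ = n := by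
    have h : f 1 = (n : ℂ) := hn
    rw [happ] at h
    simp only [hd] at h
    exact_mod_cast h
  have hlin : ∀ θ : IrrCharacter P, d θ = 1 → ∀ a ∈ commutator P, (θ : P → ℂ) a = 1 := fun θ h a ha => by
    have h1 : (θ : P → ℂ) 1 = 1 := by rw [hd, h, Nat.cast_one]
    obtain ⟨l, hl⟩ := exists_hom_of_linear (isCharacter_irr θ) h1
    rw [hl]
    show ((l a : ℂˣ) : ℂ) = 1
    rw [show l a = 1 from MonoidHom.mem_ker.1 (Abelianization.commutator_subset_ker l ha), Units.val_one]
  have hfaithP : ∀ a : P, f a = n → a = 1 := fun a h => Subtype.ext (hfaith a (h.trans hn.symm))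
  obtain ⟨θ₀, hm₀, hne₀⟩ : ∃ θ : IrrCharacter P, m θ ≠ 0 ∧ d θ ≠ 1 := by
    by_contra hall
    push Not at hall
    refine hnc fun a b => ?_
    have hc : f (a * b * a⁻¹ * b⁻¹) = n := by
      rw [happ, ← hsum, Nat.cast_sum]
      refine Finset.sum_congr rfl fun θ _ => ?_
      by_cases h : m θ = 0
      · simp [h]
      have hmem : a * b * a⁻¹ * b⁻¹ ∈ commutator P :=
        Subgroup.commutator_mem_commutator (Subgroup.mem_top a) (Subgroup.mem_top b)
      rw [hlin θ (hall θ h) _ hmem, hall θ h, mul_one, Nat.cast_mul, Nat.cast_one, mul_one]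
    have := hfaithP _ hc
    exact mul_inv_eq_iff_eq_mul.1 (mul_inv_eq_one.1 this)
  have hpow : ∀ θ : IrrCharacter P, d θ ≠ 1 → p ∣ d θ := fun θ h => by
    obtain ⟨k, hk⟩ := IsPGroup.iff_card.1 hP
    obtain ⟨i, -, hi⟩ := (Nat.dvd_prime_pow hp.out).1 (hk ▸ degree_dvd_card θ (hd θ))
    rcases Nat.eq_zero_or_pos i with rfl | hi0
    · exact absurd (by rw [hi, pow_zero]) h
    · exact hi ▸ dvd_pow_self p hi0.ne'
  have hd₀ : d θ₀ = p := by
    obtain ⟨k, hk⟩ := hpow θ₀ hne₀
    have hle : m θ₀ * d θ₀ ≤ n := hsum ▸ Finset.single_le_sum (f := fun θ => m θ * d θ)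
      (fun _ _ => Nat.zero_le _) (Finset.mem_univ θ₀)
    have h1 : 1 ≤ m θ₀ := Nat.one_le_iff_ne_zero.2 hm₀
    have h2 : d θ₀ ≤ n := le_trans (Nat.le_mul_of_pos_left _ h1) hle
    have h3 : k ≠ 0 := fun e => (hd0 θ₀).ne' (by rw [hk, e, mul_zero])
    have h4 : k < 2 := by
      by_contra h
      have : p * 2 ≤ p * k := Nat.mul_le_mul_left p (by omega)
      omega
    rw [hk, show k = 1 by omega, mul_one]
  have hothers : ∀ θ, θ ≠ θ₀ → m θ ≠ 0 → d θ = 1 := by
    intro θ hne h
    by_contra h1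
    have h2 : m θ₀ * d θ₀ + m θ * d θ ≤ n := by
      rw [← hsum, ← Finset.sum_pair (f := fun θ => m θ * d θ) hne.symm]
      exact Finset.sum_le_sum_of_subset (Finset.subset_univ _)
    have h3 := Nat.le_of_dvd (hd0 θ) (hpow θ h1)
    have h4 : d θ ≤ m θ * d θ := Nat.le_mul_of_pos_left _ (Nat.pos_of_ne_zero h)
    have h5 : d θ₀ ≤ m θ₀ * d θ₀ := Nat.le_mul_of_pos_left _ (Nat.pos_of_ne_zero hm₀)
    omega
  have hm1 : m θ₀ = 1 := by
    have hle : m θ₀ * d θ₀ ≤ n := hsum ▸ Finset.single_le_sum (f := fun θ => m θ * d θ)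
      (fun _ _ => Nat.zero_le _) (Finset.mem_univ θ₀)
    rw [hd₀] at hle
    by_contra h
    have : 2 * p ≤ m θ₀ * p := Nat.mul_le_mul_right p (by omega)
    omega
  have hpn : p ≤ n := by
    rw [← hsum, ← hd₀]
    refine le_trans ?_ (Finset.single_le_sum (f := fun θ => m θ * d θ)
      (fun _ _ => Nat.zero_le _) (Finset.mem_univ θ₀))
    exact Nat.le_mul_of_pos_left _ (Nat.pos_of_ne_zero hm₀)
  -- the central commutator element
  have hcomm : commutator P ≠ ⊥ := fun h => hnc fun a b => by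
    have := Subgroup.commutator_mem_commutator (Subgroup.mem_top a) (Subgroup.mem_top b)
    rw [← commutator_def, h, Subgroup.mem_bot] at this
    exact commutatorElement_eq_one_iff_mul_comm.1 this
  have : Group.IsNilpotent P := hP.isNilpotent
  have hinf := CfsgLib.Coprime.nilpotent_inf_center_ne_bot (commutator P) hcomm
  obtain ⟨k, hk⟩ := IsPGroup.iff_card.1 (hP.to_subgroup (commutator P ⊓ Subgroup.center P))
  have hk0 : k ≠ 0 := fun e => hinf (Subgroup.card_eq_one.1 (by rw [hk, e, pow_zero]))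
  obtain ⟨z', hz'⟩ := exists_prime_orderOf_dvd_card' p (hk ▸ dvd_pow_self p hk0)
  set z : P := (z' : P) with hz
  have hzo : orderOf z = p := by rw [hz, Subgroup.orderOf_coe, hz']
  have hzc : z ∈ commutator P := z'.2.1
  have hzZ : z ∈ Subgroup.center P := z'.2.2
  obtain ⟨D, ρ, hρ, hρc⟩ := θ₀.2
  have hD : (Module.finrank ℂ (Fin D → ℂ) : ℂ) = (p : ℂ) := by
    rw [← Representation.char_one ρ, hρc, hd, hd₀]
  obtain ⟨c, hc⟩ := exists_scalar_of_mem_center ρ hzZ
  have hcl : ∀ l : ℕ, ρ (z ^ l) = c ^ l • LinearMap.id := by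
    intro l
    induction l with
    | zero => simp [Module.End.one_eq_id]
    | succ l ih =>
      rw [pow_succ, map_mul, ih, hc, pow_succ]
      ext v
      simp [Module.End.mul_apply, smul_smul, mul_comm]
  have hθl : ∀ l : ℕ, (θ₀ : P → ℂ) (z ^ l) = c ^ l * p := fun l => by
    rw [← hρc, Representation.character, hcl, trace_smul_id, hD]
  have hfl : ∀ l : ℕ, f (z ^ l) = (p : ℂ) * c ^ l + ((n : ℂ) - p) := by
    intro l
    have hrest : ∑ θ ∈ Finset.univ.erase θ₀, (m θ : ℂ) * (θ : P → ℂ) (z ^ l) =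
        ((∑ θ ∈ Finset.univ.erase θ₀, m θ * d θ : ℕ) : ℂ) := by
      rw [Nat.cast_sum]
      refine Finset.sum_congr rfl fun θ hθ => ?_
      by_cases h : m θ = 0
      · simp [h]
      have h1 := hothers θ (Finset.ne_of_mem_erase hθ) h
      rw [hlin θ h1 _ (pow_mem hzc l), h1, mul_one, mul_one]
    have hn' : p + ∑ θ ∈ Finset.univ.erase θ₀, m θ * d θ = n := by
      rw [← hsum, ← Finset.add_sum_erase _ (fun θ => m θ * d θ) (Finset.mem_univ θ₀), hm1, hd₀, one_mul]
    rw [happ, ← Finset.add_sum_erase _ (fun θ : IrrCharacter P => (m θ : ℂ) * (θ : P → ℂ) (z ^ l))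
      (Finset.mem_univ θ₀), hrest, hm1, hθl, Nat.cast_one, one_mul]
    have hn'' : (p : ℂ) + ((∑ θ ∈ Finset.univ.erase θ₀, m θ * d θ : ℕ) : ℂ) = n := by
      exact_mod_cast hn'
    linear_combination hn''
  have hcp : c ^ p = 1 := by
    have h := hθl p
    rw [← hzo, pow_orderOf_eq_one, hzo, hd, hd₀] at h
    exact (mul_eq_right₀ (by exact_mod_cast hp.out.ne_zero)).1 h.symm
  have hc1 : c ≠ 1 := fun e => by
    have h := hfl 1
    rw [pow_one, pow_one, e, mul_one, add_sub_cancel] at h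
    have := hfaithP z h
    rw [this, orderOf_one] at hzo
    exact hp.out.ne_one hzo.symm
  have hcprim : IsPrimitiveRoot c p := by
    have hord : orderOf c = p := orderOf_eq_prime hcp hc1
    exact hord ▸ IsPrimitiveRoot.orderOf c
  obtain ⟨l, -, hl⟩ := hcprim.eq_pow_of_pow_eq_one hζ.pow_eq_one
  refine ⟨hpn, ((z ^ l : P) : G), ?_, ?_⟩
  · rw [← SubgroupClass.coe_pow, ← pow_mul, mul_comm, pow_mul, ← hzo, pow_orderOf_eq_one, one_pow,
      OneMemClass.coe_one]
  · show f (z ^ l) = _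
    rw [hfl, hl]
    ring

/-- The eigenvalue multiplicities are forced, and then Blichfeldt applies. -/
theorem comm_conj {χ : G → ℂ} (hχ : IsIrrCharacter G χ) {n : ℕ} (hn : χ 1 = n) (hpn : p ≤ n)
    (h7 : 7 ≤ p) (hfaith : ∀ g : G, χ g = χ 1 → g = 1) {x : G} (hxp : x ^ p = 1)
    (hx : χ x = ((n : ℂ) - (p : ℂ)) + (p : ℂ) * Complex.exp (2 * Real.pi * Complex.I / p))
    (g : G) : Commute x (g * x * g⁻¹) := by
  classical
  obtain ⟨D, ρ, hρ, rfl⟩ := hχ
  obtain ⟨m, R, f, hR, -, hRx, htr, hinj⟩ := BlichfeldtSixty.exists_diagonal_model ρ x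
  have hRinj : Function.Injective R := fun a b e => by
    refine inv_mul_eq_one.1 (hfaith _ ?_)
    rw [Representation.character, Representation.character, map_mul, ← hinj a b e, ← map_mul,
      inv_mul_cancel]
  set ζ : ℂ := Complex.exp (2 * Real.pi * Complex.I / p) with hζdef
  have hζ : IsPrimitiveRoot ζ p := Complex.isPrimitiveRoot_exp p hp.out.ne_zero
  have hmn : m = n := by
    have h := htr 1
    rw [map_one, Matrix.trace_one, Fintype.card_fin, hn] at h
    exact_mod_cast h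
  have hfp : ∀ i, f i ^ p = 1 := fun i => by
    have h : R (x ^ p) = Matrix.diagonal (f ^ p) := by rw [map_pow, hRx, Matrix.diagonal_pow]
    rw [hxp, map_one] at h
    have := congrFun (congrFun h i) i
    rwa [Matrix.one_apply_eq, Matrix.diagonal_apply_eq, Pi.pow_apply, eq_comm] at this
  choose e he hef using fun i => hζ.eq_pow_of_pow_eq_one (hfp i)
  let E : Fin m → Fin p := fun i => ⟨e i, he i⟩
  let μ : Fin p → ℤ := fun k => ((Finset.univ.filter fun i => E i = k).card : ℤ)
  let t : Fin p → ℤ := fun k =>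
    if (k : ℕ) = 0 then (n : ℤ) - p else if (k : ℕ) = 1 then (p : ℤ) else 0
  have hχx : ρ.character x = ∑ k, (μ k : ℂ) * ζ ^ (k : ℕ) := by
    rw [← htr, hRx, Matrix.trace_diagonal, ← Finset.sum_fiberwise Finset.univ E]
    refine Finset.sum_congr rfl fun k _ => ?_
    rw [Finset.sum_congr rfl (g := fun _ => ζ ^ (k : ℕ)) fun i hi => by
      rw [← hef i, ← (Finset.mem_filter.1 hi).2], Finset.sum_const, nsmul_eq_mul]
    simp [μ]
  set k0 : Fin p := ⟨0, hp.out.pos⟩
  set k1 : Fin p := ⟨1, hp.out.one_lt⟩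
  have ht : ∀ F : Fin p → ℂ, ∑ k, (t k : ℂ) * F k = ((n : ℂ) - p) * F k0 + (p : ℂ) * F k1 := by
    intro F
    rw [← Finset.sum_subset (Finset.subset_univ {k0, k1}) (fun k _ hk => ?_),
      Finset.sum_pair (fun h => absurd (congrArg Fin.val h) (by simp [k0, k1]))]
    · simp [t, k0, k1]
    · have h0 : (k : ℕ) ≠ 0 := fun h => hk (by simp [Fin.ext_iff, k0, h])
      have h1 : (k : ℕ) ≠ 1 := fun h => hk (by simp [Fin.ext_iff, k1, h])
      simp only [t, h0, h1, if_false, Int.cast_zero, zero_mul]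
  have hμsum : ∑ k, μ k = n := by
    have := Finset.card_eq_sum_card_fiberwise (s := (Finset.univ : Finset (Fin m)))
      (t := Finset.univ) (f := E) (fun i _ => Finset.mem_univ _)
    rw [Finset.card_univ, Fintype.card_fin] at this
    show ∑ k, ((Finset.univ.filter fun i => E i = k).card : ℤ) = n
    rw [← hmn]
    exact_mod_cast this.symm
  have htsum : ∑ k, t k = n := by
    have h := ht fun _ => 1
    simp only [mul_one, sub_add_cancel] at h
    exact_mod_cast h
  have hconst := CyclotomicCoeff.coeff_const hζ (fun k => μ k - t k) (by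
    simp only [Int.cast_sub, sub_mul, Finset.sum_sub_distrib, ← hχx, ht, hx]
    simp [k0, k1])
  have hμt : ∀ k, μ k = t k := by
    intro k
    have h : ∑ l, (μ l - t l) = 0 := by rw [Finset.sum_sub_distrib, hμsum, htsum, sub_self]
    rw [Finset.sum_congr rfl (g := fun _ => μ k - t k) fun l _ => hconst l k, Finset.sum_const,
      Finset.card_univ, Fintype.card_fin, nsmul_eq_mul, mul_eq_zero] at h
    exact sub_eq_zero.1 (h.resolve_left (by exact_mod_cast hp.out.ne_zero))
  have hval : ∀ i, f i = 1 ∨ f i = ζ := fun i => by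
    have h1 : μ (E i) ≠ 0 := by
      show ((Finset.univ.filter fun j => E j = E i).card : ℤ) ≠ 0
      exact_mod_cast Finset.card_ne_zero_of_mem (s := Finset.univ.filter fun j => E j = E i)
        (Finset.mem_filter.2 ⟨Finset.mem_univ i, rfl⟩)
    rw [hμt] at h1
    rw [← hef i]
    rcases Nat.lt_trichotomy (e i) 1 with h | h | h
    · left; rw [show e i = 0 by omega, pow_zero]
    · right; rw [h, pow_one]
    · exact absurd (by simp [t, E, show e i ≠ 0 by omega, show e i ≠ 1 by omega]) h1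
  obtain ⟨i₀, hi₀⟩ : ∃ i₀, f i₀ = ζ := by
    have h1 : μ k1 ≠ 0 := by
      rw [hμt]
      simp [t, k1, hp.out.ne_zero]
    have h2 : (Finset.univ.filter fun j => E j = k1).Nonempty := by
      rw [← Finset.card_ne_zero]
      intro h
      exact h1 (by simp [μ, h])
    obtain ⟨i, hi⟩ := h2
    refine ⟨i, ?_⟩
    have h3 : e i = 1 := congrArg Fin.val (Finset.mem_filter.1 hi).2
    rw [← hef i, h3, pow_one]
  have hζne : ζ ≠ 1 := hζ.ne_one hp.out.one_lt
  have hclose : ∀ i, ‖f i / f i₀ - 1‖ < 1 := by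
    intro i
    rcases hval i with h | h
    · have hn1 : ‖ζ‖ = 1 := Complex.norm_eq_one_of_pow_eq_one hζ.pow_eq_one hp.out.ne_zero
      have hζ0 : ζ ≠ 0 := hζ.ne_zero hp.out.ne_zero
      rw [h, hi₀, div_sub_one hζ0, norm_div, hn1, div_one, norm_sub_rev]
      set θ : ℝ := 2 * Real.pi / p with hθ
      have hpR : (7 : ℝ) ≤ p := by exact_mod_cast h7
      have hexp : ζ = Complex.exp (θ * Complex.I) := by
        rw [hζdef, hθ]; congr 1; push_cast; ring
      have hθ0 : 0 ≤ θ := by rw [hθ]; positivity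
      have hθ3 : θ < Real.pi / 3 := by
        rw [hθ, div_lt_div_iff₀ (by linarith) (by norm_num)]
        nlinarith [Real.pi_pos]
      have hcos : 1 / 2 < Real.cos θ := by
        rw [← Real.cos_pi_div_three]
        exact Real.cos_lt_cos_of_nonneg_of_le_pi hθ0 (by linarith [Real.pi_pos]) hθ3
      have hsq : ‖Complex.exp (θ * Complex.I) - 1‖ ^ 2 < 1 ^ 2 := by
        rw [Complex.sq_norm, Complex.normSq_apply, one_pow]
        simp only [Complex.sub_re, Complex.sub_im, Complex.one_re, Complex.one_im, sub_zero,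
          Complex.exp_ofReal_mul_I_re, Complex.exp_ofReal_mul_I_im]
        have := Real.sin_sq_add_cos_sq θ
        nlinarith
      rw [hexp]
      exact lt_of_pow_lt_pow_left₀ 2 zero_le_one hsq
    · rw [h, hi₀, div_self (hζ.ne_zero hp.out.ne_zero), sub_self, norm_zero]
      exact one_pos
  have hcomm := BlichfeldtSixty.conj_commute_projection R hR f hRx i₀ hclose g
  set P₀ : Matrix (Fin m) (Fin m) ℂ :=
    Matrix.diagonal (fun k => if f k = f i₀ then (1 : ℂ) else 0) with hP₀
  have hxP : R x = 1 + (ζ - 1) • P₀ := by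
    ext a b
    rw [hRx, Matrix.add_apply, Matrix.smul_apply, hP₀, Matrix.diagonal_apply, Matrix.diagonal_apply,
      Matrix.one_apply]
    split_ifs with hab h1
    · rw [h1, hi₀]; simp
    · rcases hval a with h2 | h2
      · rw [h2]; simp
      · exact absurd (h2.trans hi₀.symm) h1
    · simp
  refine hRinj ?_
  rw [map_mul R x (g * x * g⁻¹), map_mul R (g * x * g⁻¹) x, hxP, add_mul, mul_add, one_mul, mul_one,
    smul_mul_assoc, mul_smul_comm, hcomm]

/-- Clifford over the abelian normal closure: an abelian normal subgroup with small quotient. -/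
theorem exists_abelian_normal {χ : IrrCharacter G} {n : ℕ} (hn : (χ : G → ℂ) 1 = n) (hn2 : n < 2 * p)
    (hnp : n ≠ p) (hpn : p ≤ n) (h7 : 7 ≤ p)
    (hfaith : ∀ g : G, (χ : G → ℂ) g = (χ : G → ℂ) 1 → g = 1) {x : G} (hxp : x ^ p = 1)
    (hx : (χ : G → ℂ) x = ((n : ℂ) - (p : ℂ)) +
      (p : ℂ) * Complex.exp (2 * Real.pi * Complex.I / p))
    (hcomm : ∀ g : G, Commute x (g * x * g⁻¹)) :
    ∃ C : Subgroup G, C.Normal ∧ (∀ a ∈ C, ∀ b ∈ C, a * b = b * a) ∧ C.index ∣ n.factorial := by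
  classical
  have := Fintype.ofFinite G
  set N : Subgroup G := Subgroup.normalClosure ({x} : Set G) with hN
  have := Fintype.ofFinite N
  have := Fintype.ofFinite (IrrCharacter N)
  have hNgen : N ≤ Subgroup.centralizer (N : Set G) := by
    rw [hN, Subgroup.normalClosure, Subgroup.centralizer_closure, Subgroup.closure_le]
    intro a ha
    refine Subgroup.mem_centralizer_iff.2 fun b hb => ?_
    obtain ⟨a', ha', haa⟩ := Group.mem_conjugatesOfSet_iff.1 ha
    obtain ⟨b', hb', hbb⟩ := Group.mem_conjugatesOfSet_iff.1 hb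
    rw [Set.mem_singleton_iff] at ha' hb'
    rw [ha'] at haa
    rw [hb'] at hbb
    obtain ⟨u, rfl⟩ := isConj_iff.1 haa
    obtain ⟨v, rfl⟩ := isConj_iff.1 hbb
    have h := (hcomm (v⁻¹ * u)).map (MulAut.conj v).toMonoidHom
    simp only [MulEquiv.coe_toMonoidHom, MulAut.conj_apply] at h
    rw [show v * (v⁻¹ * u * x * (v⁻¹ * u)⁻¹) * v⁻¹ = u * x * u⁻¹ by group] at h
    exact h.eq
  have hNcomm : ∀ a b : N, a * b = b * a := fun a b =>
    Subtype.ext (Subgroup.mem_centralizer_iff.1 (hNgen b.2) a a.2)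
  have hxN : x ∈ N := Subgroup.subset_normalClosure rfl
  have hcl := isClassFunction_irr χ
  set r : N → ℂ := fun a => (χ : G → ℂ) a with hr
  have hrc : IsCharacter N r := isCharacter_comp (isCharacter_irr χ) N.subtype
  choose mult hmult using fun ψ : IrrCharacter N => classInner_char_irr_nat hrc ψ
  have hexp : ∀ a : N, r a = ∑ ψ : IrrCharacter N, (mult ψ : ℂ) * (ψ : N → ℂ) a := fun a => by
    conv_lhs => rw [classFun_expand (isClassFunction_of_isCharacter hrc)]
    simp [Finset.sum_apply, hmult]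
  have hlin : ∀ ψ : IrrCharacter N, (ψ : N → ℂ) 1 = 1 := degree_one_of_comm hNcomm
  obtain ⟨l₀, hl₀⟩ : ∃ ψ : IrrCharacter N, mult ψ ≠ 0 := by
    by_contra hall
    push Not at hall
    have h := hexp 1
    simp only [hall, Nat.cast_zero, zero_mul, Finset.sum_const_zero] at h
    rw [show r 1 = (n : ℂ) from hn] at h
    have := hp.out.pos
    have : n = 0 := by exact_mod_cast h
    omega
  set O : Finset (IrrCharacter N) := Finset.univ.filter fun ψ =>
    ∃ g : G, (ψ : N → ℂ) = conjFun N (l₀ : N → ℂ) g with hO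
  set e := mult l₀ with he
  have hconst : classInner r (l₀ : N → ℂ) ≠ 0 := by rw [hmult]; exact_mod_cast hl₀
  have hmO : ∀ ψ, mult ψ = if ψ ∈ O then e else 0 := by
    intro ψ
    split_ifs with h
    · obtain ⟨g, hg⟩ := (Finset.mem_filter.1 h).2
      have h1 := hmult ψ
      rw [hg, classInner_restrict_conj N hcl, hmult l₀] at h1
      exact_mod_cast h1.symm
    · have h1 := hmult ψ
      rw [classInner_restrict_zero N χ.2 l₀.2 ψ.2 hconst fun g e' =>
        h (Finset.mem_filter.2 ⟨Finset.mem_univ _, g, e'.symm⟩)] at h1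
      exact_mod_cast h1.symm
  have hexpO : ∀ a : N, r a = (e : ℂ) * ∑ ψ ∈ O, (ψ : N → ℂ) a := fun a => by
    rw [hexp, Finset.mul_sum, ← Finset.sum_filter_add_sum_filter_not Finset.univ (fun ψ => ψ ∈ O),
      Finset.sum_eq_zero (s := Finset.univ.filter fun ψ => ψ ∉ O) fun ψ hψ => by
        rw [hmO, if_neg (Finset.mem_filter.1 hψ).2, Nat.cast_zero, zero_mul], add_zero]
    refine Finset.sum_congr (by ext; simp) fun ψ hψ => ?_
    rw [hmO, if_pos hψ]
  have heO : e * O.card = n := by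
    have h := hexpO 1
    rw [show r 1 = (n : ℂ) from hn, Finset.sum_congr rfl fun ψ _ => hlin ψ, Finset.sum_const,
      nsmul_eq_mul, mul_one] at h
    exact_mod_cast h.symm
  have he1 : e = 1 := by
    set ζ : ℂ := Complex.exp (2 * Real.pi * Complex.I / p) with hζdef
    have hζ : IsPrimitiveRoot ζ p := Complex.isPrimitiveRoot_exp p hp.out.ne_zero
    have hroot : ∀ ψ : IrrCharacter N, ∃ k : Fin p, ζ ^ (k : ℕ) = (ψ : N → ℂ) ⟨x, hxN⟩ := fun ψ => by
      obtain ⟨l, hl⟩ := exists_hom_of_linear (isCharacter_irr ψ) (hlin ψ)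
      have h1 : ((ψ : N → ℂ) ⟨x, hxN⟩) ^ p = 1 := by
        rw [hl]
        show ((l ⟨x, hxN⟩ : ℂˣ) : ℂ) ^ p = 1
        rw [← Units.val_pow_eq_pow_val, ← map_pow, show (⟨x, hxN⟩ : N) ^ p = 1 from Subtype.ext hxp,
          map_one, Units.val_one]
      obtain ⟨k, hk, hk'⟩ := hζ.eq_pow_of_pow_eq_one h1
      exact ⟨⟨k, hk⟩, hk'⟩
    choose K hK using hroot
    let ν : Fin p → ℤ := fun k => ((O.filter fun ψ => K ψ = k).card : ℤ)
    let t : Fin p → ℤ := fun k =>
      if (k : ℕ) = 0 then (n : ℤ) - p else if (k : ℕ) = 1 then (p : ℤ) else 0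
    set k0 : Fin p := ⟨0, hp.out.pos⟩
    set k1 : Fin p := ⟨1, hp.out.one_lt⟩
    set k2 : Fin p := ⟨2, by omega⟩
    have hν : r ⟨x, hxN⟩ = ∑ k, ((e : ℤ) * ν k : ℤ) * ζ ^ (k : ℕ) := by
      rw [hexpO, ← Finset.sum_fiberwise O K, Finset.mul_sum]
      refine Finset.sum_congr rfl fun k _ => ?_
      rw [Finset.sum_congr rfl (g := fun _ => ζ ^ (k : ℕ)) fun ψ hψ => by
        rw [← hK ψ, (Finset.mem_filter.1 hψ).2], Finset.sum_const, nsmul_eq_mul]
      simp [ν, mul_assoc]
    have htx : r ⟨x, hxN⟩ = ∑ k, (t k : ℂ) * ζ ^ (k : ℕ) := by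
      show (χ : G → ℂ) x = _
      rw [hx, ← Finset.sum_subset (Finset.subset_univ {k0, k1}) (fun k _ hk => ?_),
        Finset.sum_pair (fun h => absurd (congrArg Fin.val h) (by simp [k0, k1]))]
      · simp [t, k0, k1, hζdef]
      · have h0 : (k : ℕ) ≠ 0 := fun h => hk (by simp [Fin.ext_iff, k0, h])
        have h1 : (k : ℕ) ≠ 1 := fun h => hk (by simp [Fin.ext_iff, k1, h])
        simp only [t, h0, h1, if_false, Int.cast_zero, zero_mul]
    have hc := CyclotomicCoeff.coeff_const hζ (fun k => t k - (e : ℤ) * ν k) (by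
      rw [Finset.sum_congr rfl (g := fun k => (t k : ℂ) * ζ ^ (k : ℕ) -
        (((e : ℤ) * ν k : ℤ) : ℂ) * ζ ^ (k : ℕ)) fun k _ => by rw [Int.cast_sub, sub_mul],
        Finset.sum_sub_distrib, ← htx, ← hν, sub_self]) k1 k2
    have h2 : (p : ℤ) = (e : ℤ) * (ν k1 - ν k2) := by
      simp [t, k1, k2] at hc
      linarith
    have hep : e ∣ p := Int.natCast_dvd_natCast.1 ⟨_, h2⟩
    rcases (Nat.dvd_prime hp.out).1 hep with h | h
    · exact h
    · exfalso
      rw [h] at heO
      rcases Nat.lt_trichotomy O.card 1 with hO' | hO' | hO'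
      · rw [show O.card = 0 by omega] at heO; omega
      · rw [hO'] at heO; omega
      · have := Nat.mul_le_mul_left p hO'
        omega
  have hOmem : ∀ g : G, ∀ ψ ∈ O, (⟨_, isIrrCharacter_conjFun N ψ.2 g⟩ : IrrCharacter N) ∈ O := by
    intro g ψ hψ
    obtain ⟨a, ha⟩ := (Finset.mem_filter.1 hψ).2
    refine Finset.mem_filter.2 ⟨Finset.mem_univ _, a * g, ?_⟩
    show conjFun N (ψ : N → ℂ) g = _
    rw [ha, conjFun_mul]
  let act : G → O → O := fun g ψ => ⟨⟨_, isIrrCharacter_conjFun N ψ.1.2 g⁻¹⟩, hOmem g⁻¹ ψ.1 ψ.2⟩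
  have hact1 : ∀ ψ, act 1 ψ = ψ := fun ψ => Subtype.ext (Subtype.ext (by
    show conjFun N _ (1 : G)⁻¹ = _
    rw [inv_one, conjFun_one]))
  have hactm : ∀ a b ψ, act (a * b) ψ = act a (act b ψ) := fun a b ψ => Subtype.ext (Subtype.ext (by
    show conjFun N _ (a * b)⁻¹ = conjFun N (conjFun N _ b⁻¹) a⁻¹
    rw [_root_.mul_inv_rev, conjFun_mul]))
  let π : G →* Equiv.Perm O :=
    { toFun := fun g => ⟨act g, act g⁻¹,
        fun ψ => by rw [← hactm, inv_mul_cancel, hact1],
        fun ψ => by rw [← hactm, mul_inv_cancel, hact1]⟩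
      map_one' := Equiv.ext hact1
      map_mul' := fun a b => Equiv.ext (hactm a b) }
  refine ⟨π.ker, MonoidHom.normal_ker π, ?_, ?_⟩
  swap
  · rw [Subgroup.index_ker]
    refine (Subgroup.card_subgroup_dvd_card π.range).trans ?_
    rw [Nat.card_perm, Nat.card_eq_fintype_card, Fintype.card_coe, ← heO, he1, one_mul]
  set C := π.ker with hC
  have hCcent : ∀ c ∈ C, ∀ a : N, c * a = a * c := by
    intro c hc a
    have hfix : ∀ ψ ∈ O, conjFun N (ψ : N → ℂ) c⁻¹ = (ψ : N → ℂ) := fun ψ hψ =>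
      congrArg (fun w : O => ((w : IrrCharacter N) : N → ℂ))
        (Equiv.Perm.ext_iff.1 (MonoidHom.mem_ker.1 hc) ⟨ψ, hψ⟩)
    set b : N := ⟨c⁻¹ * a * c⁻¹⁻¹, Subgroup.normalClosure_normal.conj_mem _ a.2 _⟩ with hb
    have h1 : r (b * a⁻¹) = r 1 := by
      rw [hexpO, hexpO]
      congr 1
      refine Finset.sum_congr rfl fun ψ hψ => ?_
      obtain ⟨l, hl⟩ := exists_hom_of_linear (isCharacter_irr ψ) (hlin ψ)
      have h2 := congrFun (hfix ψ hψ) a
      rw [hl] at h2 ⊢
      have h3 : l b = l a := Units.ext h2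
      show ((l (b * a⁻¹) : ℂˣ) : ℂ) = ((l 1 : ℂˣ) : ℂ)
      rw [map_mul, map_inv, h3, mul_inv_cancel, map_one]
    have h4 : (b : G) * (a : G)⁻¹ = 1 := hfaith _ h1
    rw [mul_inv_eq_one, hb] at h4
    simp only [inv_inv] at h4
    calc c * (a : G) = c * (c⁻¹ * a * c) := by rw [h4]
      _ = a * c := by group
  have hNC : N ≤ C := fun a ha => by
    refine MonoidHom.mem_ker.2 (Equiv.ext fun ψ => Subtype.ext (Subtype.ext ?_))
    show conjFun N ((ψ : IrrCharacter N) : N → ℂ) a⁻¹ = ((ψ : IrrCharacter N) : N → ℂ)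
    funext b
    show ((ψ : IrrCharacter N) : N → ℂ) _ = _
    refine congrArg _ (Subtype.ext ?_)
    show a⁻¹ * (b : G) * a⁻¹⁻¹ = b
    have h := congrArg Subtype.val (hNcomm ⟨a, ha⟩ b)
    simp only [Subgroup.coe_mul] at h
    rw [inv_inv, mul_assoc, ← h, inv_mul_cancel_left]
  have := Fintype.ofFinite C
  have := Fintype.ofFinite (IrrCharacter C)
  set s : C → ℂ := fun a => (χ : G → ℂ) a with hs
  have hsc : IsCharacter C s := isCharacter_comp (isCharacter_irr χ) C.subtype
  choose M hM using fun θ : IrrCharacter C => classInner_char_irr_nat hsc θ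
  have hsexp : ∀ a : C, s a = ∑ θ : IrrCharacter C, (M θ : ℂ) * (θ : C → ℂ) a := fun a => by
    conv_lhs => rw [classFun_expand (isClassFunction_of_isCharacter hsc)]
    simp [Finset.sum_apply, hM]
  let ι : N →* C := Subgroup.inclusion hNC
  have hιc : ∀ a : N, ι a ∈ Subgroup.center C := fun a =>
    Subgroup.mem_center_iff.2 fun c => Subtype.ext (hCcent c c.2 a)
  have hdeg : ∀ θ : IrrCharacter C, M θ ≠ 0 → (θ : C → ℂ) 1 = 1 := by
    intro θ hθ
    obtain ⟨D, ρ, hρ, hρc⟩ := θ.2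
    choose sc hsc' using fun a : N => exists_scalar_of_mem_center ρ (hιc a)
    have hD0 : 0 < Module.finrank ℂ (Fin D → ℂ) := finrank_pos_of_irreducible ρ
    have hval : ∀ a, (θ : C → ℂ) (ι a) = sc a * (θ : C → ℂ) 1 := fun a => by
      rw [← hρc, Representation.char_one, Representation.character, hsc', trace_smul_id]
    have hinj : ∀ u v : ℂ, u • (LinearMap.id : (Fin D → ℂ) →ₗ[ℂ] (Fin D → ℂ)) = v • LinearMap.id →
        u = v := fun u v h => by
      have h' := congrArg (LinearMap.trace ℂ _) h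
      rw [trace_smul_id, trace_smul_id] at h'
      exact mul_right_cancel₀ (by exact_mod_cast hD0.ne') h'
    let lh : N →* ℂ :=
      { toFun := sc
        map_one' := hinj _ _ (by rw [← hsc', map_one, map_one, one_smul, Module.End.one_eq_id])
        map_mul' := fun a b => hinj _ _ (by
          rw [← hsc', map_mul, map_mul, hsc', hsc']
          ext v; simp [Module.End.mul_apply, smul_smul, mul_comm]) }
    let ψ : IrrCharacter N := (linearCharEquiv lh.toHomUnits).1
    have hψ : ∀ a, (ψ : N → ℂ) a = sc a := fun a => rfl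
    choose a ha using fun φ : IrrCharacter C =>
      classInner_isCharacter (isCharacter_comp (isCharacter_irr φ) ι) (isCharacter_irr ψ)
    have hsum : classInner r (ψ : N → ℂ) = ∑ φ : IrrCharacter C, (M φ : ℂ) * (a φ : ℂ) := by
      have hre : r = ∑ φ : IrrCharacter C, (M φ : ℂ) • (fun b : N => (φ : C → ℂ) (ι b)) := by
        funext b
        rw [Finset.sum_apply]
        simp only [Pi.smul_apply, smul_eq_mul]
        exact hsexp (ι b)
      rw [hre, classInner_sum_left]
      exact Finset.sum_congr rfl fun φ _ => by rw [classInner_smul_left, ha]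
    have haθ : (a θ : ℂ) = (θ : C → ℂ) 1 := by
      have hre : (fun b : N => (θ : C → ℂ) (ι b)) = (θ : C → ℂ) 1 • (ψ : N → ℂ) := by
        funext b
        rw [hval, Pi.smul_apply, smul_eq_mul, hψ, mul_comm]
      rw [← ha θ, hre, classInner_smul_left, classInner_irr_self, mul_one]
    obtain ⟨d, hd0, hd⟩ := isIrrCharacter_degree θ.2
    have had : a θ = d := by exact_mod_cast haθ.trans hd
    rw [hmult] at hsum
    have hsum' : mult ψ = ∑ φ : IrrCharacter C, M φ * a φ := by exact_mod_cast hsum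
    have hle : M θ * a θ ≤ mult ψ := hsum' ▸ Finset.single_le_sum (f := fun φ => M φ * a φ)
      (fun _ _ => Nat.zero_le _) (Finset.mem_univ θ)
    have hle1 : mult ψ ≤ 1 := by rw [hmO, he1]; split_ifs <;> omega
    have hMpos : 1 ≤ M θ := Nat.one_le_iff_ne_zero.2 hθ
    have : d ≤ M θ * a θ := had ▸ Nat.le_mul_of_pos_left _ hMpos
    rw [hd, show d = 1 by omega, Nat.cast_one]
  intro a ha b hb
  set c : C := ⟨a, ha⟩ * ⟨b, hb⟩ * (⟨a, ha⟩ : C)⁻¹ * (⟨b, hb⟩ : C)⁻¹ with hc
  have h1 : s c = s 1 := by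
    rw [hsexp, hsexp]
    refine Finset.sum_congr rfl fun θ _ => ?_
    by_cases h : M θ = 0
    · simp [h]
    obtain ⟨l, hl⟩ := exists_hom_of_linear (isCharacter_irr θ) (hdeg θ h)
    have hl1 : l c = l 1 := by
      rw [hc, map_mul, map_mul, map_mul, map_inv, map_inv, map_one, mul_right_comm (l _) (l _),
        mul_inv_cancel, one_mul, mul_inv_cancel]
    rw [hl]
    show _ * ((l c : ℂˣ) : ℂ) = _ * ((l 1 : ℂˣ) : ℂ)
    rw [hl1]
  have h2 : (c : G) = 1 := hfaith _ h1
  rw [hc] at h2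
  simp only [Subgroup.coe_mul, Subgroup.coe_inv] at h2
  exact mul_inv_eq_iff_eq_mul.1 (mul_inv_eq_one.1 h2)

/-- The theorem for a non-abelian Sylow subgroup. -/
theorem not_sq_dvd_index_pCore {χ : IrrCharacter G} {n : ℕ} (hn : (χ : G → ℂ) 1 = n) (h7 : 7 ≤ p)
    (hn2 : n < 2 * p) (hnp : n ≠ p)
    (hfaith : ∀ g : G, (χ : G → ℂ) g = (χ : G → ℂ) 1 → g = 1)
    {P : Subgroup G} (hP : IsPGroup p P) (hnc : ¬ ∀ a b : P, a * b = b * a) :
    ¬ p ^ 2 ∣ (Cfsg.pCore p G).index := by
  classical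
  obtain ⟨hpn, x, hxp, hx⟩ := exists_element hn hn2 hfaith
    (Complex.isPrimitiveRoot_exp p hp.out.ne_zero) hP hnc
  obtain ⟨C, hCn, hCc, hCi⟩ := exists_abelian_normal hn hn2 hnp hpn h7 hfaith hxp hx
    fun g => comm_conj χ.2 hn hpn h7 hfaith hxp hx g
  let : CommGroup C :=
    { (inferInstance : Group C) with mul_comm := fun a b => Subtype.ext (hCc a a.2 b b.2) }
  let Q : Sylow p C := default
  have hQn : (Q : Subgroup C).Normal := Subgroup.normal_of_isMulCommutative _
  have hQc := Sylow.characteristic_of_normal Q hQn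
  set S : Subgroup G := (Q : Subgroup C).map C.subtype with hS
  have hSn : S.Normal := inferInstance
  have hle : S ≤ Cfsg.pCore p G := le_sSup ⟨hSn, Q.2.map _⟩
  intro hdvd
  have h1 : p ^ 2 ∣ S.index := hdvd.trans (Subgroup.index_dvd_of_le hle)
  rw [hS, Subgroup.index_map_subtype] at h1
  have h2 : p ^ 2 ∣ C.index :=
    ((hp.out.coprime_iff_not_dvd.2 Q.not_dvd_index).pow_left 2).dvd_of_dvd_mul_left h1
  have h3 : p ^ 2 ∣ n.factorial := h2.trans hCi
  have hfac := (hp.out.pow_dvd_iff_le_factorization (Nat.factorial_ne_zero n)).1 h3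
  rw [Nat.factorization_factorial hp.out (b := 2) (by
      refine Nat.log_lt_of_lt_pow (by omega) ?_
      nlinarith), Finset.sum_Ico_succ_top le_rfl] at hfac
  simp only [Finset.Ico_self, Finset.sum_empty, zero_add, pow_one] at hfac
  have : n / p < 2 := Nat.div_lt_of_lt_mul (by omega)
  omega

end CfsgLib.Char.LinearTwoP
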