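import Cfsg.Agent.Lib.Char.Product
import Cfsg.Agent.Lib.Char.Gallagher
import Cfsg.Agent.Lib.Char.Correspondence
import Cfsg.Agent.Lib.Char.Linear
import Cfsg.Agent.Lib.Block.CentralDefect
import Cfsg.Agent.Lib.Coprime.MinimalNonNilpotent
import Mathlib.GroupTheory.RegularWreathProduct

/-!
# Solvable groups embed into monomial groups (Dade)

Monomial groups are closed under finite powers and under wreathing with a group of prime order.
-/

set_option autoImplicit false
set_option linter.unusedSectionVars false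
set_option linter.style.haveILetI false

namespace CfsgLib.Char.MGroupEmb

open Cfsg CfsgLib CfsgLib.Char
open scoped ComplexConjugate

universe u

/-- Every irreducible character is monomial. -/
def Monomial (M : Type u) [Group M] [Fintype M] : Prop :=
  ∀ χ : M → ℂ, IsIrrCharacter M χ →
    ∃ (H : Subgroup M) (lam : H →* ℂˣ), χ = indFun H fun h => (lam h : ℂ)

section Power

variable {ι : Type u} [Fintype ι] {M : Type u} [Group M] [Fintype M]

theorem classInner_pi [DecidableEq ι] (f g : ι → M → ℂ) :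
    classInner (fun x : ι → M => ∏ i, f i (x i)) (fun x => ∏ i, g i (x i)) =
      ∏ i, classInner (f i) (g i) := by
  simp only [classInner]
  rw [Finset.prod_mul_distrib, Finset.prod_const, Finset.card_univ, Nat.card_fun, Nat.card_eq_fintype_card (α := ι),
    Nat.cast_pow, inv_pow, Fintype.prod_sum]
  simp only [map_prod, Finset.prod_mul_distrib]

theorem isCharacter_finset_prod {J : Type*} (s : Finset J) (f : J → M → ℂ)
    (h : ∀ j ∈ s, IsCharacter M (f j)) : IsCharacter M (fun x => ∏ j ∈ s, f j x) := by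
  classical
  induction s using Finset.induction with
  | empty => simpa using isCharacter_of_isIrr (isIrrCharacter_one (G := M))
  | @insert a s ha ih =>
    simp only [Finset.prod_insert ha]
    exact isCharacter_mul (h a (Finset.mem_insert_self _ _)) (ih fun j hj => h j (Finset.mem_insert_of_mem hj))

theorem isIrr_pi [DecidableEq ι] (φ : ι → IrrCharacter M) :
    IsIrrCharacter (ι → M) (fun x => ∏ i, (φ i : M → ℂ) (x i)) := by
  refine isIrr_of_isCharacter_norm_one
    (isCharacter_finset_prod Finset.univ (fun i (x : ι → M) => (φ i : M → ℂ) (x i))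
      fun i _ => isCharacter_comp (isCharacter_irr (φ i)) (Pi.evalMonoidHom (fun _ => M) i)) ?_
  rw [classInner_pi]
  exact Finset.prod_eq_one fun i _ => classInner_irr_self (φ i)

theorem pi_surjective [DecidableEq ι] {θ : (ι → M) → ℂ} (hθ : IsIrrCharacter (ι → M) θ) :
    ∃ φ : ι → IrrCharacter M, θ = fun x => ∏ i, (φ i : M → ℂ) (x i) := by
  classical
  let F : (ι → IrrCharacter M) → IrrCharacter (ι → M) := fun φ => ⟨_, isIrr_pi φ⟩
  have hF : Function.Injective F := by
    intro φ ψ e
    have h := classInner_pi (fun i => (φ i : M → ℂ)) (fun i => (ψ i : M → ℂ))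
    have e' : (fun x : ι → M => ∏ i, (φ i : M → ℂ) (x i)) = fun x => ∏ i, (ψ i : M → ℂ) (x i) :=
      congrArg Subtype.val e
    rw [← e', classInner_irr_self (⟨_, isIrr_pi φ⟩ : IrrCharacter (ι → M))] at h
    funext i
    by_contra hne
    rw [Finset.prod_eq_zero (Finset.mem_univ i) (classInner_irr_ne hne)] at h
    exact one_ne_zero h
  have hcls : Nat.card (ConjClasses (ι → M)) = Nat.card (ι → ConjClasses M) := by
    refine Nat.card_congr (Equiv.ofBijective
      (fun c i => ConjClasses.map (Pi.evalMonoidHom (fun _ => M) i) c) ⟨fun a b h => ?_, fun y => ?_⟩)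
    · obtain ⟨a, rfl⟩ := ConjClasses.exists_rep a
      obtain ⟨b, rfl⟩ := ConjClasses.exists_rep b
      choose c hc using fun i => isConj_iff.1 (ConjClasses.mk_eq_mk_iff_isConj.1 (congrFun h i))
      exact ConjClasses.mk_eq_mk_iff_isConj.2 (isConj_iff.2 ⟨c, funext hc⟩)
    · choose a ha using fun i => ConjClasses.exists_rep (y i)
      exact ⟨ConjClasses.mk a, funext ha⟩
  have hcard : Nat.card (ι → IrrCharacter M) = Nat.card (IrrCharacter (ι → M)) := by
    rw [card_irr_eq_card_conjClasses, hcls, Nat.card_fun, Nat.card_fun, card_irr_eq_card_conjClasses]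
  obtain ⟨φ, e⟩ := ((Nat.bijective_iff_injective_and_card F).2 ⟨hF, hcard⟩).2 ⟨θ, hθ⟩
  exact ⟨φ, (congrArg Subtype.val e).symm⟩

theorem indFun_apply_eq (H : Subgroup M) (θ : H → ℂ) (m : M) :
    ∑ x : M, extendByZero H θ (x⁻¹ * m * x) = (Nat.card H : ℂ) * indFun H θ m := by
  rw [indFun, mul_inv_cancel_left₀ (by exact_mod_cast Nat.card_pos.ne')]

theorem monomial_pi [DecidableEq ι] (hM : Monomial M) [Fintype (ι → M)] : Monomial (ι → M) := by
  classical
  intro θ hθ
  obtain ⟨φ, rfl⟩ := pi_surjective hθ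
  choose H lam hlam using fun i => hM _ (φ i).2
  refine ⟨Subgroup.pi Set.univ H,
    ∏ i, (lam i).comp (((Pi.evalMonoidHom (fun _ => M) i).comp (Subgroup.pi Set.univ H).subtype).codRestrict
      (H i) fun h => h.2 i (Set.mem_univ i)), ?_⟩
  funext x
  have hext : ∀ y : ι → M, extendByZero (Subgroup.pi Set.univ H) (fun h => (((∏ i,
      (lam i).comp (((Pi.evalMonoidHom (fun _ => M) i).comp (Subgroup.pi Set.univ H).subtype).codRestrict
        (H i) fun h => h.2 i (Set.mem_univ i))) h : ℂˣ) : ℂ)) y =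
      ∏ i, extendByZero (H i) (fun h => (lam i h : ℂ)) (y i) := by
    intro y
    by_cases hy : y ∈ Subgroup.pi Set.univ H
    · rw [extendByZero_mem _ _ hy, MonoidHom.finset_prod_apply, Units.coe_prod]
      refine Finset.prod_congr rfl fun i _ => ?_
      rw [extendByZero_mem _ _ (hy i (Set.mem_univ i))]
      rfl
    · rw [extendByZero_not_mem _ _ hy]
      obtain ⟨i, hi⟩ : ∃ i, y i ∉ H i := by
        by_contra hall
        push Not at hall
        exact hy fun i _ => hall i
      symm
      exact Finset.prod_eq_zero (Finset.mem_univ i) (extendByZero_not_mem _ _ hi)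
  rw [indFun]
  simp only [hext, Pi.mul_apply, Pi.inv_apply]
  have hcK : (Nat.card (Subgroup.pi Set.univ H) : ℂ) = ∏ i, (Nat.card (H i) : ℂ) := by
    rw [← Nat.cast_prod, Nat.cast_inj, ← Nat.card_pi]
    exact Nat.card_congr
      { toFun := fun y i => ⟨(y : ι → M) i, y.2 i (Set.mem_univ i)⟩
        invFun := fun y => ⟨fun i => (y i : M), fun i _ => (y i).2⟩
        left_inv := fun y => rfl
        right_inv := fun y => rfl }
  rw [hcK]
  calc ∏ i, (φ i : M → ℂ) (x i)
      = ∏ i, ((Nat.card (H i) : ℂ)⁻¹ *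
          ∑ z : M, extendByZero (H i) (fun h => (lam i h : ℂ)) (z⁻¹ * x i * z)) :=
        Finset.prod_congr rfl fun i _ => by rw [hlam i]; rfl
    _ = _ := by
      rw [Finset.prod_mul_distrib, Finset.prod_inv_distrib, Fintype.prod_sum]
      congr!

end Power

section Wreath

variable {M Q : Type u} [Group M] [Fintype M] [Group Q] [Fintype Q]

/-- The base group inside the wreath product. -/
def baseHom : (Q → M) →* M ≀ᵣ Q where
  toFun x := ⟨x, 1⟩
  map_one' := rfl
  map_mul' a b := by ext <;> simp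

theorem baseHom_injective : Function.Injective (baseHom (M := M) (Q := Q)) := fun _ _ h =>
  congrArg RegularWreathProduct.left h

theorem monomial_wreath (hp : (Nat.card Q).Prime) (hM : Monomial M) [Fintype (M ≀ᵣ Q)] :
    Monomial (M ≀ᵣ Q) := by
  classical
  intro χ hχ
  set B : Subgroup (M ≀ᵣ Q) := (RegularWreathProduct.rightHom (D := M) (Q := Q)).ker with hBdef
  have hBm : ∀ w : (M ≀ᵣ Q), w ∈ B ↔ w.right = 1 := fun w => MonoidHom.mem_ker
  let e : (Q → M) ≃* B := MulEquiv.ofBijective
    (baseHom.codRestrict B fun x => (hBm _).2 rfl)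
    ⟨fun a b h => baseHom_injective (congrArg Subtype.val h), fun b =>
      ⟨(b : (M ≀ᵣ Q)).left, Subtype.ext (RegularWreathProduct.ext rfl ((hBm _).1 b.2).symm)⟩⟩
  have := Fintype.ofFinite B
  have hBi : B.index = Nat.card Q := by
    rw [Subgroup.index_ker]
    exact Nat.card_congr ((Equiv.setCongr (MonoidHom.coe_range _)).trans
      ((Equiv.setCongr (Set.range_eq_univ.2 fun q => ⟨RegularWreathProduct.inl q, rfl⟩)).trans (Equiv.Set.univ Q)))
  have hres : IsCharacter B fun b : B => χ b := isCharacter_comp (isCharacter_of_isIrr hχ) B.subtype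
  have hres0 : (fun b : B => χ b) ≠ 0 := fun h => irr_one_ne_zero (⟨χ, hχ⟩ : IrrCharacter (M ≀ᵣ Q)) (congrFun h 1)
  obtain ⟨θ, hθ⟩ := exists_irr_inner_ne_zero hres hres0
  have hBT : B ≤ inertia B (θ : B → ℂ) := le_inertia B (isClassFunction_irr θ)
  rcases eq_or_ne (inertia B (θ : B → ℂ)) B with hT | hT
  · -- induced from the base group
    obtain ⟨ψ, hψ, hind⟩ := exists_inertia_correspondent B hχ θ.2 hθ
    have hmono : ∀ (T : Subgroup (M ≀ᵣ Q)), T = B → ∀ [Fintype T] (ψ : T → ℂ), IsIrrCharacter T ψ →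
        ∃ (H : Subgroup (M ≀ᵣ Q)) (lam : H →* ℂˣ), indFun T ψ = indFun H fun h => (lam h : ℂ) := by
      intro T hTB _ ψ hψ
      subst hTB
      obtain ⟨H, lam, hH⟩ := monomial_pi (ι := Q) hM _
        (isIrrCharacter_comp_surjective hψ e.toMonoidHom e.surjective)
      let H' : Subgroup (M ≀ᵣ Q) := H.map baseHom
      have hH'B : H' ≤ B := by
        rintro _ ⟨x, -, rfl⟩
        exact (hBm _).2 rfl
      let eH : H ≃* H' := H.equivMapOfInjective baseHom baseHom_injective
      refine ⟨H', lam.comp eH.symm.toMonoidHom, ?_⟩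
      rw [← indFun_trans H' B hH'B]
      congr 1
      funext b
      obtain ⟨x, rfl⟩ := e.surjective b
      have h1 : ψ (e x) = indFun H (fun h => (lam h : ℂ)) x := congrFun hH x
      rw [h1, indFun, indFun]
      have hc : Nat.card (H'.subgroupOf B) = Nat.card H := by
        rw [Nat.card_congr (Subgroup.subgroupOfEquivOfLe hH'B).toEquiv]
        exact (Nat.card_congr eH.toEquiv).symm
      rw [hc]
      refine congrArg _ (Fintype.sum_equiv e.toEquiv _ _ fun y => ?_)
      show _ = extendByZero (H'.subgroupOf B) _ ((e y)⁻¹ * e x * e y)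
      rw [← map_inv, ← map_mul, ← map_mul]
      set z := y⁻¹ * x * y
      by_cases hz : z ∈ H
      · have hz' : e z ∈ H'.subgroupOf B := Subgroup.mem_subgroupOf.2 (Subgroup.mem_map_of_mem baseHom hz)
        rw [extendByZero_mem _ _ hz, extendByZero_mem _ _ hz']
        simp only [MonoidHom.coe_comp, Function.comp_apply]
        refine congrArg (fun t => ((lam t : ℂˣ) : ℂ)) ?_
        exact (eH.symm_apply_eq.2 (Subtype.ext rfl)).symm
      · rw [extendByZero_not_mem _ _ hz, extendByZero_not_mem _ _ fun hm => hz ?_]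
        obtain ⟨z', hz', he⟩ := Subgroup.mem_subgroupOf.1 hm
        rwa [← baseHom_injective (he : baseHom z' = baseHom z)]
    obtain ⟨H, lam, hH⟩ := hmono _ hT ψ hψ
    exact ⟨H, lam, hind.trans hH⟩
  -- the invariant case
  have hinv : ∀ w : (M ≀ᵣ Q), conjFun B (θ : B → ℂ) w = (θ : B → ℂ) := by
    have hd : (inertia B (θ : B → ℂ)).index ∣ Nat.card Q := hBi ▸ Subgroup.index_dvd_of_le hBT
    rcases (Nat.dvd_prime hp).1 hd with h1 | h1
    · intro w
      rw [← mem_inertia, Subgroup.index_eq_one.1 h1]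
      exact Subgroup.mem_top w
    · exfalso
      refine hT (le_antisymm ?_ hBT)
      rw [← Subgroup.relIndex_eq_one]
      have h2 := Subgroup.relIndex_mul_index hBT
      rw [hBi, h1] at h2
      exact (Nat.eq_of_mul_eq_mul_right hp.pos (h2.trans (one_mul _).symm))
  obtain ⟨φ, hφ⟩ := pi_surjective (ι := Q) (isIrrCharacter_comp_surjective θ.2 e.toMonoidHom e.surjective)
  have hφ' : ∀ x : Q → M, (θ : B → ℂ) (e x) = ∏ q, (φ q : M → ℂ) (x q) := fun x => congrFun hφ x
  -- all factors agree
  have hsame : ∀ q, φ q = φ 1 := by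
    intro q
    have hfull : ∀ x : Q → M, ∏ r, (φ r : M → ℂ) (x r) = ∏ r, (φ (q * r) : M → ℂ) (x r) := by
      intro x
      have h1 := congrFun (hinv (RegularWreathProduct.inl q)) (e x)
      have he : (⟨RegularWreathProduct.inl q * ((e x : B) : (M ≀ᵣ Q)) * (RegularWreathProduct.inl q)⁻¹,
          (inferInstance : B.Normal).conj_mem _ (e x).2 _⟩ : B) = e (fun r => x (q⁻¹ * r)) := by
        apply Subtype.ext
        show RegularWreathProduct.inl q * baseHom x * (RegularWreathProduct.inl q)⁻¹ =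
          baseHom fun r => x (q⁻¹ * r)
        apply RegularWreathProduct.ext
        · funext r
          simp [baseHom, RegularWreathProduct.mul_left]
        · show q * 1 * q⁻¹ = 1
          group
      rw [conjFun, he, hφ', hφ'] at h1
      rw [← h1]
      exact Fintype.prod_equiv (Equiv.mulLeft q⁻¹) _ _ fun r => by simp
    have hpi : (⟨_, isIrr_pi φ⟩ : IrrCharacter (Q → M)) = ⟨_, isIrr_pi fun r => φ (q * r)⟩ :=
      Subtype.ext (funext hfull)
    by_contra hne
    have h2 := classInner_pi (fun r => (φ r : M → ℂ)) (fun r => (φ (q * r) : M → ℂ))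
    rw [show (fun x : Q → M => ∏ r, (φ (q * r) : M → ℂ) (x r)) = fun x => ∏ r, (φ r : M → ℂ) (x r)
      from funext fun x => (hfull x).symm, classInner_irr_self (⟨_, isIrr_pi φ⟩ : IrrCharacter (Q → M)),
      Finset.prod_eq_zero (Finset.mem_univ (1 : Q))] at h2
    · exact one_ne_zero h2
    · rw [mul_one]
      exact classInner_irr_ne (Ne.symm hne)
  obtain ⟨H, lam, hH⟩ := hM _ (φ 1).2
  let K : Subgroup (M ≀ᵣ Q) :=
    { carrier := {w | ∀ q, w.left q ∈ H}
      one_mem' := fun q => H.one_mem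
      mul_mem' := fun {a b} ha hb q => H.mul_mem (ha q) (hb _)
      inv_mem' := fun {a} ha q => H.inv_mem (ha _) }
  let Lam : K →* ℂˣ :=
    { toFun := fun w => ∏ q, lam ⟨(w : (M ≀ᵣ Q)).left q, w.2 q⟩
      map_one' := Finset.prod_eq_one fun q _ => map_one lam
      map_mul' := fun a b => by
        show ∏ q, lam ⟨((a : (M ≀ᵣ Q)) * (b : (M ≀ᵣ Q))).left q, _⟩ = _
        have hsplit : ∀ q, lam ⟨((a : (M ≀ᵣ Q)) * (b : (M ≀ᵣ Q))).left q, (a * b).2 q⟩ =
            lam ⟨(a : (M ≀ᵣ Q)).left q, a.2 q⟩ * lam ⟨(b : (M ≀ᵣ Q)).left ((a : (M ≀ᵣ Q)).right⁻¹ * q), b.2 _⟩ := fun q => by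
          rw [← map_mul]
          exact congrArg lam (Subtype.ext rfl)
        simp only [hsplit, Finset.prod_mul_distrib]
        congr 1
        exact Fintype.prod_equiv (Equiv.mulLeft (a : (M ≀ᵣ Q)).right⁻¹) _ _ fun q => rfl }
  have := Fintype.ofFinite K
  set F := indFun K fun k => (Lam k : ℂ) with hFdef
  have hFc : IsCharacter (M ≀ᵣ Q) F := isCharacter_indFun K (isCharacter_of_isIrr (isIrrCharacter_lin Lam))
  have hFB : ∀ x : Q → M, F (baseHom x) = ∏ q, (φ 1 : M → ℂ) (x q) := by
    intro x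
    have hext : ∀ y : Q → M, extendByZero K (fun k => (Lam k : ℂ)) (baseHom y) =
        ∏ q, extendByZero H (fun h => (lam h : ℂ)) (y q) := by
      intro y
      by_cases hy : baseHom y ∈ K
      · rw [extendByZero_mem _ _ hy]
        show ((∏ q, lam ⟨y q, hy q⟩ : ℂˣ) : ℂ) = _
        rw [Units.coe_prod]
        exact Finset.prod_congr rfl fun q _ => (extendByZero_mem H (fun h => (lam h : ℂ)) (show y q ∈ H from hy q)).symm
      · rw [extendByZero_not_mem _ _ hy]
        obtain ⟨i, hi⟩ : ∃ i, y i ∉ H := by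
          by_contra hall
          push Not at hall
          exact hy hall
        symm
        exact Finset.prod_eq_zero (Finset.mem_univ i) (extendByZero_not_mem _ _ hi)
    rw [hFdef, indFun, ← (RegularWreathProduct.equivProd M Q).symm.sum_comp, Fintype.sum_prod_type_right]
    have hin : ∀ (r : Q) (z : Q → M), ((RegularWreathProduct.equivProd M Q).symm (z, r))⁻¹ * baseHom x *
        (RegularWreathProduct.equivProd M Q).symm (z, r) =
        baseHom (fun q => (z (r * q))⁻¹ * x (r * q) * z (r * q)) := by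
      intro r z
      ext q <;> simp [baseHom, RegularWreathProduct.equivProd, mul_assoc]
    simp only [hin, hext]
    have hone : ∀ r : Q, ∑ z : Q → M, ∏ q, extendByZero H (fun h => (lam h : ℂ))
        ((z (r * q))⁻¹ * x (r * q) * z (r * q)) = ∏ q, ((Nat.card H : ℂ) * (φ 1 : M → ℂ) (x q)) := by
      intro r
      rw [hH]
      simp only [← indFun_apply_eq]
      rw [Fintype.prod_sum]
      refine Finset.sum_congr rfl fun z _ => ?_
      exact Fintype.prod_equiv (Equiv.mulLeft r) _ _ fun q => rfl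
    have hcK : Nat.card K = Nat.card H ^ Fintype.card Q * Fintype.card Q := by
      rw [← Nat.card_eq_fintype_card (α := Q), ← Nat.card_fun, ← Nat.card_prod]
      exact Nat.card_congr
        { toFun := fun w => (fun q => ⟨(w : (M ≀ᵣ Q)).left q, w.2 q⟩, (w : (M ≀ᵣ Q)).right)
          invFun := fun w => ⟨⟨fun q => (w.1 q : M), w.2⟩, fun q => (w.1 q).2⟩
          left_inv := fun w => rfl
          right_inv := fun w => rfl }
    simp only [hone, Finset.sum_const, nsmul_eq_mul, Finset.prod_mul_distrib, Finset.prod_const,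
      Finset.card_univ, hcK]
    push_cast
    have h1 : (Nat.card H : ℂ) ≠ 0 := by exact_mod_cast Nat.card_pos.ne'
    have h2 : (Fintype.card Q : ℂ) ≠ 0 := by exact_mod_cast Fintype.card_ne_zero
    field_simp
  have hFθ : (fun b : B => F b) = (θ : B → ℂ) := funext fun b => by
    obtain ⟨x, rfl⟩ := e.surjective b
    show F (baseHom x) = _
    rw [hFB, hφ']
    exact Finset.prod_congr rfl fun q _ => by rw [hsame q]
  have hFirr : IsIrrCharacter (M ≀ᵣ Q) F := by
    have hF0 : F ≠ 0 := fun h => irr_one_ne_zero θ (by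
      rw [← hFθ]; exact congrFun h 1)
    obtain ⟨ξ, hξ⟩ := exists_irr_inner_ne_zero hFc hF0
    obtain ⟨a, ha⟩ := isCharacter_degree hFc
    obtain ⟨b, -, hb⟩ := isIrrCharacter_degree ξ.2
    obtain ⟨hle, heq⟩ := degree_le_of_constituent hFc ξ hξ ha hb
    have hξB : IsCharacter B fun n : B => (ξ : (M ≀ᵣ Q) → ℂ) n := isCharacter_comp (isCharacter_irr ξ) B.subtype
    obtain ⟨β, hβ⟩ := exists_irr_inner_ne_zero hξB fun h => irr_one_ne_zero ξ (congrFun h 1)
    have hsub : IsCharacter B fun n : B => (F - (ξ : (M ≀ᵣ Q) → ℂ)) n :=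
      isCharacter_comp (isCharacter_sub_constituent hFc ξ hξ) B.subtype
    have hβθ : β = θ := by
      by_contra hne
      obtain ⟨m1, hm1⟩ := classInner_char_irr_nat hξB β
      obtain ⟨m2, hm2⟩ := classInner_char_irr_nat hsub β
      have h3 : classInner (θ : B → ℂ) (β : B → ℂ) = (m1 : ℂ) + (m2 : ℂ) := by
        rw [← hm1, ← hm2, ← hFθ]
        simp only [classInner, Pi.sub_apply]
        rw [← mul_add, ← Finset.sum_add_distrib]
        exact congrArg _ (Finset.sum_congr rfl fun n _ => by ring)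
      rw [classInner_irr_ne (Ne.symm hne), ← Nat.cast_add] at h3
      have h4 : m1 + m2 = 0 := by exact_mod_cast h3.symm
      exact hβ (by rw [hm1, (by omega : m1 = 0), Nat.cast_zero])
    subst hβθ
    have hθ1 : (β : B → ℂ) 1 = (a : ℂ) := by rw [← ha, ← hFθ]; rfl
    have hge := (degree_le_of_constituent hξB β hβ (a := b) (b := a) hb hθ1).1
    exact heq (le_antisymm hge hle) ▸ ξ.2
  obtain ⟨hη, hmul⟩ := gallagher B ⟨F, hFirr⟩ (by simpa only [hFθ] using θ.2) ⟨χ, hχ⟩ (by
    simpa only [hFθ] using hθ)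
  set η := cosetAvg B (fun x => χ x * conj (F x))
  have hηc : ∀ n ∈ B, η n = η 1 := fun n hn => by
    have := cosetAvg_mul_left B (fun x => χ x * conj (F x)) ⟨n, hn⟩ 1
    rwa [mul_one] at this
  obtain ⟨θ', hθ'⟩ := CfsgLib.Block.exists_deflate (N := B) ⟨η, hη⟩ hηc
  haveI : IsCyclic ((M ≀ᵣ Q) ⧸ B) := by
    haveI := Fact.mk hp
    exact isCyclic_of_prime_card (p := Nat.card Q) (by rw [← Subgroup.index_eq_card, hBi])
  letI : CommGroup ((M ≀ᵣ Q) ⧸ B) := IsCyclic.commGroup
  have h4 := degree_one_of_comm (fun a b : (M ≀ᵣ Q) ⧸ B => mul_comm a b) θ'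
  have h5 : η 1 = 1 := by
    have := hθ' 1
    rw [QuotientGroup.mk_one, h4] at this
    exact this.symm
  obtain ⟨μ, hμ⟩ := linearCharEquiv.surjective (⟨⟨η, hη⟩, h5⟩ : {χ : IrrCharacter (M ≀ᵣ Q) // (χ : (M ≀ᵣ Q) → ℂ) 1 = 1})
  have hμ' : ∀ w, η w = (μ w : ℂ) := fun w =>
    (congrFun (congrArg (fun z => ((z.1 : IrrCharacter (M ≀ᵣ Q)) : (M ≀ᵣ Q) → ℂ)) hμ) w).symm
  refine ⟨K, Lam * μ.comp K.subtype, ?_⟩
  funext w
  have hw := congrFun hmul w
  simp only [Pi.mul_apply] at hw
  rw [hw]
  show F w * η w = _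
  rw [hFdef, indFun, indFun, mul_assoc, Finset.sum_mul]
  refine congrArg _ (Finset.sum_congr rfl fun y _ => ?_)
  by_cases hy : y⁻¹ * w * y ∈ K
  · rw [extendByZero_mem _ _ hy, extendByZero_mem _ _ hy, MonoidHom.mul_apply, Units.val_mul]
    congr 1
    show η w = ((μ (y⁻¹ * w * y) : ℂˣ) : ℂ)
    rw [← hμ']
    have := isClassFunction_of_isCharacter (isCharacter_of_isIrr hη) w y⁻¹
    rw [inv_inv] at this
    exact this.symm
  · rw [extendByZero_not_mem _ _ hy, extendByZero_not_mem _ _ hy, zero_mul]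

end Wreath

theorem exists_embedding : ∀ (G : Type u) [Group G] [Finite G], Group.IsSolvable G →
    ∃ (M : Type u) (_ : Group M) (_ : Fintype M), Monomial M ∧ ∃ f : G →* M, Function.Injective f := by
  intro G _ _ hsolv
  induction hn : Nat.card G using Nat.strong_induction_on generalizing G with
  | _ n ih =>
  subst hn
  classical
  rcases subsingleton_or_nontrivial G with hs | hnt
  · letI := Fintype.ofFinite G
    refine ⟨G, inferInstance, inferInstance, ?_, MonoidHom.id G, Function.injective_id⟩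
    intro χ hχ
    refine ⟨⊤, 1, funext fun g => ?_⟩
    have h1 := degree_one_of_comm (fun a b : G => Subsingleton.elim _ _) ⟨χ, hχ⟩
    rw [Subsingleton.elim g 1]
    rw [show χ 1 = 1 from h1, indFun_one, Subgroup.index_top, Nat.cast_one, one_mul]
    simp
  haveI := hsolv
  obtain ⟨N, hNn, hp⟩ := Coprime.exists_normal_prime_index (G := G)
  haveI := hNn
  have hlt : Nat.card N < Nat.card G := by
    rw [← N.card_mul_index]
    exact lt_mul_of_one_lt_right Nat.card_pos hp.one_lt
  obtain ⟨M, _, _, hM, f, hf⟩ := ih _ hlt N inferInstance rfl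
  let Q := G ⧸ N
  haveI := Fintype.ofFinite Q
  letI := Fintype.ofFinite (M ≀ᵣ Q)
  have hQ : (Nat.card Q).Prime := by rwa [← Subgroup.index_eq_card]
  refine ⟨M ≀ᵣ Q, inferInstance, inferInstance, monomial_wreath hQ hM, ?_⟩
  let s : Q → G := Quotient.out
  have hs : ∀ q : Q, (s q : Q) = q := fun q => Quotient.out_eq q
  have hmem : ∀ (g : G) (q : Q), (s q)⁻¹ * g * s ((g : Q)⁻¹ * q) ∈ N := fun g q => by
    rw [← QuotientGroup.eq_one_iff, QuotientGroup.mk_mul, QuotientGroup.mk_mul, QuotientGroup.mk_inv, hs, hs]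
    group
  let F : G →* M ≀ᵣ Q :=
    { toFun := fun g => ⟨fun q => f ⟨_, hmem g q⟩, (g : Q)⟩
      map_one' := by
        ext q
        · show f _ = 1
          rw [← map_one f]
          exact congrArg f (Subtype.ext (by simp))
        · rfl
      map_mul' := fun a b => by
        ext q
        · show f _ = f _ * f _
          rw [← map_mul]
          refine congrArg f (Subtype.ext ?_)
          show (s q)⁻¹ * (a * b) * s (((a * b : G) : Q)⁻¹ * q) =
            (s q)⁻¹ * a * s ((a : Q)⁻¹ * q) * ((s ((a : Q)⁻¹ * q))⁻¹ * b * s ((b : Q)⁻¹ * ((a : Q)⁻¹ * q)))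
          rw [QuotientGroup.mk_mul, mul_inv_rev, mul_assoc (b : Q)⁻¹]
          group
        · rfl }
  refine ⟨F, (injective_iff_map_eq_one F).2 fun g hg => ?_⟩
  have h1 : (g : Q) = 1 := congrArg RegularWreathProduct.right hg
  have h2 : f ⟨_, hmem g 1⟩ = 1 := congrFun (congrArg RegularWreathProduct.left hg) 1
  have h3 := congrArg Subtype.val ((injective_iff_map_eq_one f).1 hf _ h2)
  simp only [h1, inv_one, mul_one, OneMemClass.coe_one] at h3
  calc g = s 1 * ((s 1)⁻¹ * g * s 1) * (s 1)⁻¹ := by group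
    _ = 1 := by rw [h3]; group

end CfsgLib.Char.MGroupEmb
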