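import Mathlib.Data.Fintype.Basic
import Mathlib.Data.Fin.VecNotation

/-!
# Tables for the stabilizer chain of M12

Generators `s t u v w x₁ x₂ x₃` as tables; for each level the transversal words and, for each generator and
transversal element, the index of the image and the word of the correction term one level down.
-/

set_option autoImplicit false

namespace CfsgLib.Char.MTwelve

/-- the eight generators -/
def tab : Fin 8 → Fin 12 → Fin 12 :=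
  ![![0, 1, 2, 4, 5, 3, 7, 8, 6, 10, 11, 9],
    ![0, 1, 2, 6, 7, 8, 9, 10, 11, 3, 4, 5],
    ![0, 1, 2, 3, 6, 9, 5, 8, 11, 4, 7, 10],
    ![0, 1, 2, 3, 7, 11, 10, 5, 6, 8, 9, 4],
    ![0, 1, 2, 3, 10, 8, 11, 6, 4, 7, 5, 9],
    ![3, 1, 2, 0, 4, 5, 7, 6, 10, 11, 8, 9],
    ![1, 0, 2, 3, 4, 5, 9, 10, 11, 6, 7, 8],
    ![0, 2, 1, 3, 4, 5, 11, 9, 10, 7, 8, 6]]

/-- transversal, level 0 -/
def trans0 : Fin 8 → List (Fin 8) :=
  ![[], [2, 2], [2], [3], [2, 3], [3, 4], [4], [4, 2]]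

/-- corrections, level 0 -/
def corr0 : Fin 3 → Fin 8 → Fin 8 × List (Fin 8) :=
  ![
    ![(2, []), (5, []), (1, []), (4, []), (7, []), (0, []), (3, []), (6, [])],
    ![(3, []), (7, []), (6, []), (1, []), (2, []), (4, []), (5, []), (0, [])],
    ![(6, []), (4, []), (7, []), (2, []), (0, []), (3, []), (1, []), (5, [])]]

/-- transversal, level 1 -/
def trans1 : Fin 9 → List (Fin 8) :=
  ![[], [0], [0, 0], [1], [1, 0], [1, 0, 0], [1, 1], [4, 0], [4, 1]]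

/-- corrections, level 1 -/
def corr1 : Fin 5 → Fin 9 → Fin 9 × List (Fin 8) :=
  ![
    ![(1, []), (2, []), (0, []), (4, []), (5, []), (3, []), (7, [2, 3]), (8, []), (6, [4])],
    ![(3, []), (4, []), (5, []), (6, []), (7, [2, 3]), (8, [2, 3]), (0, []), (1, [4]), (2, [4])],
    ![(0, [2]), (3, [2]), (6, [2]), (2, [2]), (5, [2]), (8, [3]), (1, [2]), (4, [3]), (7, [3, 4])],
    ![(0, [3]), (4, [3]), (8, [3, 4]), (7, [3, 4]), (2, [3]), (3, [3]), (5, [3]), (6, [3, 4]), (1, [3, 4])],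
    ![(0, [4]), (7, []), (5, [4]), (8, []), (3, [4]), (1, [4]), (4, [4]), (2, [2, 2]), (6, [2, 2])]]

/-- transversal, level 2 -/
def trans2 : Fin 10 → List (Fin 8) :=
  ![[], [5], [0, 5], [0, 0, 5], [1, 5], [1, 0, 5], [1, 0, 0, 5], [1, 1, 5], [4, 0, 5], [4, 1, 5]]

/-- corrections, level 2 -/
def corr2 : Fin 6 → Fin 10 → Fin 10 × List (Fin 8) :=
  ![
    ![(0, [0]), (2, []), (3, []), (1, []), (5, []), (6, []), (4, []), (8, [4]), (9, []), (7, [2, 3])],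
    ![(0, [1]), (4, []), (5, []), (6, []), (7, []), (8, [4]), (9, [4]), (1, []), (2, [2, 3]), (3, [2, 3])],
    ![(0, [2]), (1, [3]), (4, [3]), (7, [3]), (3, [3]), (6, [3]), (9, [2]), (2, [3]), (5, [2]), (8, [4, 2])],
    ![(0, [3]), (1, [2]), (5, [2]), (9, [4, 2]), (8, [4, 2]), (3, [2]), (4, [2]), (6, [2]), (7, [4, 2]), (2, [4, 2])],
    ![(0, [4]), (1, [2, 3]), (8, []), (6, [2, 3]), (9, []), (4, [2, 3]), (2, [2, 3]), (5, [2, 3]), (3, [2, 2]), (7, [2, 2])],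
    ![(1, []), (0, []), (2, [0, 0, 2, 2]), (3, [0, 2, 2]), (5, [1, 1, 2, 3]), (4, [4, 1]), (8, [0, 0, 4]), (9, [4, 1, 2, 3]), (6, [1, 0, 0, 2, 3]), (7, [1, 0])]]

/-- transversal, level 3 -/
def trans3 : Fin 11 → List (Fin 8) :=
  ![[], [6], [5, 6], [0, 5, 6], [0, 0, 5, 6], [1, 5, 6], [1, 0, 5, 6], [1, 0, 0, 5, 6], [1, 1, 5, 6], [4, 0, 5, 6], [4, 1, 5, 6]]

/-- corrections, level 3 -/
def corr3 : Fin 7 → Fin 11 → Fin 11 × List (Fin 8) :=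
  ![
    ![(0, [0]), (1, [0]), (3, []), (4, []), (2, []), (6, []), (7, []), (5, []), (9, [3]), (10, []), (8, [4, 2])],
    ![(0, [1]), (1, [1, 1]), (5, []), (6, []), (7, []), (8, []), (9, [3]), (10, [3]), (2, []), (3, [4, 2]), (4, [4, 2])],
    ![(0, [2]), (1, [3, 4]), (2, [4]), (5, [4]), (8, [4]), (4, [4]), (7, [4]), (10, [3, 4]), (3, [4]), (6, [3, 4]), (9, [2, 3])],
    ![(0, [3]), (1, [4]), (2, [3, 4]), (6, [3, 4]), (10, [2, 3]), (9, [2, 3]), (4, [3, 4]), (5, [3, 4]), (7, [3, 4]), (8, [2, 3]), (3, [2, 3])],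
    ![(0, [4]), (1, [3]), (2, [4, 2]), (9, []), (7, [4, 2]), (10, []), (5, [4, 2]), (3, [4, 2]), (6, [4, 2]), (4, [2, 2]), (8, [2, 2])],
    ![(0, [5]), (2, []), (1, []), (3, [0, 0, 2, 2]), (4, [0, 2, 2]), (6, [1, 4, 2]), (5, [1, 0, 0, 3]), (9, [0, 0, 3]), (10, [1, 0, 0]), (7, [4, 1, 2]), (8, [4, 0, 2, 3])],
    ![(1, []), (0, []), (2, [5]), (3, [5]), (4, [5]), (8, [5]), (9, [5, 2]), (10, [5, 2]), (5, [5]), (6, [5, 4, 2]), (7, [5, 4, 2])]]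

/-- transversal, level 4 -/
def trans4 : Fin 12 → List (Fin 8) :=
  ![[], [6, 7], [7], [5, 6, 7], [0, 5, 6, 7], [0, 0, 5, 6, 7], [1, 5, 6, 7], [1, 0, 5, 6, 7], [1, 0, 0, 5, 6, 7], [1, 1, 5, 6, 7], [4, 0, 5, 6, 7], [4, 1, 5, 6, 7]]

/-- corrections, level 4 -/
def corr4 : Fin 8 → Fin 12 → Fin 12 × List (Fin 8) :=
  ![
    ![(0, [0]), (1, [0]), (2, [0]), (4, []), (5, []), (3, []), (7, []), (8, []), (6, []), (10, [3, 4]), (11, []), (9, [2])],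
    ![(0, [1]), (1, [1, 0]), (2, [4, 1, 2, 3]), (6, []), (7, []), (8, []), (9, []), (10, [3, 4]), (11, [3, 4]), (3, []), (4, [2]), (5, [2])],
    ![(0, [2]), (1, [3]), (2, [4, 2]), (3, [2, 3]), (6, [2, 3]), (9, [2, 3]), (5, [2, 3]), (8, [2, 3]), (11, [3]), (4, [2, 3]), (7, [3]), (10, [4])],
    ![(0, [3]), (1, [2, 3]), (2, [3, 4]), (3, [3]), (7, [3]), (11, [4]), (10, [4]), (5, [3]), (6, [3]), (8, [3]), (9, [4]), (4, [4])],
    ![(0, [4]), (1, [3, 4]), (2, [2, 3]), (3, [2]), (10, []), (8, [2]), (11, []), (6, [2]), (4, [2]), (7, [2]), (5, [2, 2]), (9, [2, 2])],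
    ![(0, [5]), (3, []), (2, [5]), (1, []), (4, [0, 0, 2, 2]), (5, [0, 2, 2]), (7, [4, 1, 3]), (6, [4, 0, 4, 2]), (10, [0, 0, 3, 4]), (11, [4, 0, 2, 3]), (8, [1, 2]), (9, [1, 0, 0])],
    ![(0, [6]), (2, []), (1, []), (3, [5]), (4, [5]), (5, [5]), (9, [5]), (10, [5, 4, 2]), (11, [5, 4, 2]), (6, [5]), (7, [5, 2]), (8, [5, 2])],
    ![(2, []), (1, [6]), (0, []), (3, [6]), (4, [6]), (5, [6]), (11, [6, 2]), (9, [6]), (10, [6, 2]), (7, [6]), (8, [6, 2]), (6, [6, 2])]]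

end CfsgLib.Char.MTwelve
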