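import Mathlib
import Cfsg.Agent.Lib.Char.MTwelveTable

/-!
# A stabilizer chain for M12
-/

set_option autoImplicit false
set_option linter.style.haveILetI false

namespace CfsgLib.Char.MTwelve

open Subgroup

/-- evaluation of a word -/
def ev (l : List (Fin 8)) (x : Fin 12) : Fin 12 := l.foldr (fun i y => tab i y) x

/-- One level: a transversal closed up to the lower group. -/
theorem step {Ω : Type*} (H K : Subgroup (Equiv.Perm Ω)) (T : Set (Equiv.Perm Ω)) (hK : K = closure T)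
    (hT : T.Finite) (n : ℕ) [NeZero n] (p : Ω) (R : Fin n → Equiv.Perm Ω) (hR0 : R 0 = 1)
    (hRK : ∀ i, R i ∈ K) (hinj : Function.Injective fun i => R i p) (hHK : H ≤ K)
    (hHp : ∀ h ∈ H, h p = p) [Finite H]
    (hcl : ∀ g ∈ T, ∀ i, ∃ j, ∃ e ∈ H, g * R i = R j * e) :
    Finite K ∧ Nat.card K = n * Nat.card H ∧ (∀ g ∈ K, g p = p → g ∈ H) ∧
      ∀ g ∈ K, ∃ i, g p = R i p := by
  classical
  have hfin : {g : Equiv.Perm Ω | ∃ i, ∃ h ∈ H, g = R i * h}.Finite := by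
    refine (Set.finite_range fun q : Fin n × H => R q.1 * (q.2 : Equiv.Perm Ω)).subset ?_
    rintro _ ⟨i, h, hh, rfl⟩
    exact ⟨(i, ⟨h, hh⟩), rfl⟩
  set U := {g : Equiv.Perm Ω | ∃ i, ∃ h ∈ H, g = R i * h} with hU
  have hmulT : ∀ g ∈ T, ∀ z ∈ U, g * z ∈ U := by
    rintro g hg _ ⟨i, h, hh, rfl⟩
    obtain ⟨j, e, he, hj⟩ := hcl g hg i
    exact ⟨j, e * h, H.mul_mem he hh, by rw [← mul_assoc, hj, mul_assoc]⟩
  have hall : ∀ g ∈ K, ∀ z ∈ U, g * z ∈ U := by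
    intro g hg
    rw [hK] at hg
    induction hg using Subgroup.closure_induction with
    | mem t ht => exact hmulT t ht
    | one => exact fun z hz => by rwa [one_mul]
    | mul a b _ _ ha hb => exact fun z hz => by rw [mul_assoc]; exact ha _ (hb z hz)
    | inv a _ ha =>
      intro z hz
      have hsub : (fun y => a * y) '' U ⊆ U := by
        rintro _ ⟨y, hy, rfl⟩
        exact ha y hy
      have himg : (fun y => a * y) '' U = U :=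
        Set.eq_of_subset_of_ncard_le hsub (by rw [Set.ncard_image_of_injective _ (mul_right_injective a)]) hfin
      obtain ⟨y, hy, e⟩ := himg.symm ▸ hz
      rw [← e]
      show a⁻¹ * (a * y) ∈ U
      rwa [inv_mul_cancel_left]
  have hmem : ∀ g, g ∈ K ↔ g ∈ U := fun g => by
    refine ⟨fun hg => ?_, ?_⟩
    · have := hall g hg 1 ⟨0, 1, H.one_mem, by rw [hR0, one_mul]⟩
      rwa [mul_one] at this
    · rintro ⟨i, h, hh, rfl⟩
      exact K.mul_mem (hRK i) (hHK hh)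
  let f : Fin n × H → K := fun q => ⟨R q.1 * (q.2 : Equiv.Perm Ω), (hmem _).2 ⟨q.1, _, q.2.2, rfl⟩⟩
  have hf : Function.Bijective f := by
    refine ⟨fun q q' e => ?_, fun g => ?_⟩
    · have e' : R q.1 * (q.2 : Equiv.Perm Ω) = R q'.1 * (q'.2 : Equiv.Perm Ω) := congrArg Subtype.val e
      have h1 : q.1 = q'.1 := hinj (by
        have := congrArg (fun g : Equiv.Perm Ω => g p) e'
        simpa [Equiv.Perm.mul_apply, hHp _ q.2.2, hHp _ q'.2.2] using this)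
      rw [h1] at e'
      exact Prod.ext h1 (Subtype.ext (mul_left_cancel e'))
    · obtain ⟨i, h, hh, e⟩ := (hmem _).1 g.2
      exact ⟨(i, ⟨h, hh⟩), Subtype.ext e.symm⟩
  refine ⟨Finite.of_surjective f hf.2, ?_, fun g hg hgp => ?_, fun g hg => ?_⟩
  · rw [← Nat.card_congr (Equiv.ofBijective f hf), Nat.card_prod, Nat.card_fin]
  · obtain ⟨i, h, hh, rfl⟩ := (hmem _).1 hg
    have h1 : i = 0 := hinj (by
      show R i p = R 0 p
      rw [Equiv.Perm.mul_apply, hHp h hh] at hgp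
      rw [hgp, hR0]; rfl)
    rw [h1, hR0, one_mul]
    exact hh
  · obtain ⟨i, h, hh, rfl⟩ := (hmem _).1 hg
    exact ⟨i, by rw [Equiv.Perm.mul_apply, hHp h hh]⟩

/-- The tables check. -/
theorem corr0_ok : ∀ g : Fin 3, ∀ a : Fin 8, ∀ x : Fin 12, ev ((![2, 3, 4] g : Fin 8) :: trans0 a) x =
    ev (trans0 (corr0 g a).1 ++ (corr0 g a).2) x ∧ (corr0 g a).2 = [] := by decide +kernel

theorem corr1_ok : ∀ g : Fin 5, ∀ a : Fin 9, ∀ x : Fin 12, ev ((![0, 1, 2, 3, 4] g : Fin 8) :: trans1 a) x =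
    ev (trans1 (corr1 g a).1 ++ (corr1 g a).2) x ∧ ∀ i ∈ (corr1 g a).2, i ∈ [2, 3, 4] := by decide +kernel

theorem corr2_ok : ∀ g : Fin 6, ∀ a : Fin 10, ∀ x : Fin 12, ev ((![0, 1, 2, 3, 4, 5] g : Fin 8) :: trans2 a) x =
    ev (trans2 (corr2 g a).1 ++ (corr2 g a).2) x ∧ ∀ i ∈ (corr2 g a).2, i ∈ [0, 1, 2, 3, 4] := by decide +kernel

theorem corr3_ok : ∀ g : Fin 7, ∀ a : Fin 11, ∀ x : Fin 12, ev ((![0, 1, 2, 3, 4, 5, 6] g : Fin 8) :: trans3 a) x =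
    ev (trans3 (corr3 g a).1 ++ (corr3 g a).2) x ∧ ∀ i ∈ (corr3 g a).2, i ∈ [0, 1, 2, 3, 4, 5] := by decide +kernel

theorem corr4_ok : ∀ g : Fin 8, ∀ a : Fin 12, ∀ x : Fin 12, ev (g :: trans4 a) x =
    ev (trans4 (corr4 g a).1 ++ (corr4 g a).2) x ∧ ∀ i ∈ (corr4 g a).2, i ∈ [0, 1, 2, 3, 4, 5, 6] := by decide +kernel

theorem trans_ok :
    (∀ a, ∀ i ∈ trans0 a, i ∈ [2, 3, 4]) ∧ (∀ a, ∀ i ∈ trans1 a, i ∈ [0, 1, 2, 3, 4]) ∧
    (∀ a, ∀ i ∈ trans2 a, i ∈ [0, 1, 2, 3, 4, 5]) ∧ (∀ a, ∀ i ∈ trans3 a, i ∈ [0, 1, 2, 3, 4, 5, 6]) ∧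
    (∀ a, ∀ i ∈ trans4 a, i ∈ [0, 1, 2, 3, 4, 5, 6, 7]) := by
  refine ⟨?_, ?_, ?_, ?_, ?_⟩ <;> decide +kernel

theorem orbit_ok :
    (∀ a b, ev (trans0 a) 4 = ev (trans0 b) 4 → a = b) ∧ (∀ a b, ev (trans1 a) 3 = ev (trans1 b) 3 → a = b) ∧
    (∀ a b, ev (trans2 a) 0 = ev (trans2 b) 0 → a = b) ∧ (∀ a b, ev (trans3 a) 1 = ev (trans3 b) 1 → a = b) ∧
    (∀ a b, ev (trans4 a) 2 = ev (trans4 b) 2 → a = b) := by
  refine ⟨?_, ?_, ?_, ?_, ?_⟩ <;> decide +kernel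

theorem cover_ok :
    (∀ x : Fin 12, ∃ a, ev (trans4 a) 2 = x) ∧ (∀ x : Fin 12, x ≠ 2 → ∃ a, ev (trans3 a) 1 = x) ∧
    (∀ x : Fin 12, x ≠ 2 → x ≠ 1 → ∃ a, ev (trans2 a) 0 = x) ∧
    (∀ x : Fin 12, x ≠ 2 → x ≠ 1 → x ≠ 0 → ∃ a, ev (trans1 a) 3 = x) ∧
    (∀ x : Fin 12, x ≠ 2 → x ≠ 1 → x ≠ 0 → x ≠ 3 → ∃ a, ev (trans0 a) 4 = x) := by
  refine ⟨?_, ?_, ?_, ?_, ?_⟩ <;> decide +kernel

theorem fix_ok :
    (∀ i ∈ [(0 : Fin 8), 1, 2, 3, 4, 5, 6], tab i 2 = 2) ∧ (∀ i ∈ [(0 : Fin 8), 1, 2, 3, 4, 5], tab i 1 = 1) ∧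
    (∀ i ∈ [(0 : Fin 8), 1, 2, 3, 4], tab i 0 = 0) ∧ (∀ i ∈ [(2 : Fin 8), 3, 4], tab i 3 = 3) := by
  refine ⟨?_, ?_, ?_, ?_⟩ <;> decide +kernel

section

variable (π : Fin 8 → Equiv.Perm (Fin 12))

/-- the group generated by the listed generators -/
def grp (l : List (Fin 8)) : Subgroup (Equiv.Perm (Fin 12)) := closure (π '' {i | i ∈ l})

theorem grp_mono {l l' : List (Fin 8)} (h : ∀ i ∈ l, i ∈ l') : grp π l ≤ grp π l' :=
  closure_mono (Set.image_mono h)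

theorem word_mem {l w : List (Fin 8)} (h : ∀ i ∈ w, i ∈ l) : (w.map π).prod ∈ grp π l := by
  refine list_prod_mem fun g hg => ?_
  obtain ⟨i, hi, rfl⟩ := List.mem_map.1 hg
  exact subset_closure ⟨i, h i hi, rfl⟩

variable (hπ : ∀ i x, π i x = tab i x)
include hπ

theorem ev_eq (w : List (Fin 8)) (x : Fin 12) : (w.map π).prod x = ev w x := by
  induction w with
  | nil => rfl
  | cons i w ih => rw [List.map_cons, List.prod_cons, Equiv.Perm.mul_apply, ih, hπ]; rfl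

theorem grp_fix {l : List (Fin 8)} {p : Fin 12} (h : ∀ i ∈ l, tab i p = p) :
    ∀ g ∈ grp π l, g p = p := by
  intro g hg
  have hle : grp π l ≤ MulAction.stabilizer (Equiv.Perm (Fin 12)) p :=
    (closure_le _).2 (by rintro _ ⟨i, hi, rfl⟩; exact (hπ i p).trans (h i hi))
  exact hle hg

theorem level {n : ℕ} [NeZero n] {k : ℕ} (gs : Fin k → Fin 8) (lo hi : List (Fin 8)) (hlohi : ∀ i ∈ lo, i ∈ hi)
    (hgs : ∀ i ∈ hi, ∃ g, gs g = i) (p : Fin 12) (hp : ∀ h ∈ grp π lo, h p = p)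
    (tr : Fin n → List (Fin 8)) (h0 : tr 0 = []) (htr : ∀ a, ∀ i ∈ tr a, i ∈ hi)
    (hinj : ∀ a b, ev (tr a) p = ev (tr b) p → a = b)
    (co : Fin k → Fin n → Fin n × List (Fin 8))
    (hco : ∀ g a x, ev (gs g :: tr a) x = ev (tr (co g a).1 ++ (co g a).2) x ∧ ∀ i ∈ (co g a).2, i ∈ lo) :
    Nat.card (grp π hi) = n * Nat.card (grp π lo) ∧ (∀ g ∈ grp π hi, g p = p → g ∈ grp π lo) ∧
      ∀ a, ∃ g ∈ grp π hi, g (ev (tr a) p) = p := by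
  obtain ⟨-, h1, h2, h3⟩ := step (grp π lo) (grp π hi) (π '' {i | i ∈ hi}) rfl (Set.toFinite _) n p
    (fun a => ((tr a).map π).prod) (by simp [h0]) (fun a => word_mem π (htr a))
    (fun a b e => hinj a b (by simpa [ev_eq π hπ] using e)) (grp_mono π hlohi) hp (by
      rintro _ ⟨i, hi', rfl⟩ a
      obtain ⟨g, rfl⟩ := hgs i hi'
      refine ⟨(co g a).1, ((co g a).2.map π).prod, word_mem π (hco g a 0).2, Equiv.ext fun x => ?_⟩
      have := (hco g a x).1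
      rw [← ev_eq π hπ, ← ev_eq π hπ, List.map_cons, List.prod_cons, List.map_append, List.prod_append] at this
      exact this)
  refine ⟨h1, h2, fun a => ⟨_, inv_mem (word_mem π (htr a)), ?_⟩⟩
  rw [← ev_eq π hπ]
  exact Equiv.symm_apply_apply _ _

/-- The chain. -/
theorem chain :
    let G5 := grp π [0, 1, 2, 3, 4, 5, 6, 7]
    let G4 := grp π [0, 1, 2, 3, 4, 5, 6]
    Nat.card G5 = 95040 ∧ Nat.card G4 = 7920 ∧ G4 = G5 ⊓ MulAction.stabilizer (Equiv.Perm (Fin 12)) (2 : Fin 12) ∧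
    (∀ y : Fin 5 → Fin 12, Function.Injective y → ∃ g ∈ G5, g (y 0) = 2 ∧ g (y 1) = 1 ∧ g (y 2) = 0 ∧
      g (y 3) = 3 ∧ g (y 4) = 4) ∧
    (∀ g ∈ G5, g 2 = 2 → g 1 = 1 → g 0 = 0 → g 3 = 3 → g 4 = 4 → g = 1) := by
  obtain ⟨t0, t1, t2, t3, t4⟩ := trans_ok
  obtain ⟨o0, o1, o2, o3, o4⟩ := orbit_ok
  obtain ⟨c4, c3, c2, c1, c0⟩ := cover_ok
  obtain ⟨f2, f1, f0, f3⟩ := fix_ok
  have hbot : grp π [] = ⊥ := by rw [grp, show {i : Fin 8 | i ∈ ([] : List (Fin 8))} = ∅ by simp, Set.image_empty, Subgroup.closure_empty]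
  obtain ⟨a1, b1, e1⟩ := level π hπ ![2, 3, 4] [] [2, 3, 4] (by simp) (by decide) 4
    (by rw [hbot]; simp) trans0 rfl t0 o0 corr0 fun g a x => ⟨(corr0_ok g a x).1, by simp [(corr0_ok g a x).2]⟩
  obtain ⟨a2, b2, e2⟩ := level π hπ ![0, 1, 2, 3, 4] [2, 3, 4] [0, 1, 2, 3, 4] (by decide) (by decide) 3
    (grp_fix π hπ f3) trans1 rfl t1 o1 corr1 corr1_ok
  obtain ⟨a3, b3, e3⟩ := level π hπ ![0, 1, 2, 3, 4, 5] [0, 1, 2, 3, 4] [0, 1, 2, 3, 4, 5] (by decide) (by decide) 0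
    (grp_fix π hπ f0) trans2 rfl t2 o2 corr2 corr2_ok
  obtain ⟨a4, b4, e4⟩ := level π hπ ![0, 1, 2, 3, 4, 5, 6] [0, 1, 2, 3, 4, 5] [0, 1, 2, 3, 4, 5, 6] (by decide) (by decide) 1
    (grp_fix π hπ f1) trans3 rfl t3 o3 corr3 corr3_ok
  obtain ⟨a5, b5, e5⟩ := level π hπ (fun i : Fin 8 => i) [0, 1, 2, 3, 4, 5, 6] [0, 1, 2, 3, 4, 5, 6, 7] (by decide) (fun i _ => ⟨i, rfl⟩) 2
    (grp_fix π hπ f2) trans4 rfl t4 o4 corr4 corr4_ok
  rw [hbot, card_bot] at a1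
  have m34 : grp π [0, 1, 2, 3, 4, 5, 6] ≤ grp π [0, 1, 2, 3, 4, 5, 6, 7] := grp_mono π (by decide)
  have m24 : grp π [0, 1, 2, 3, 4, 5] ≤ grp π [0, 1, 2, 3, 4, 5, 6] := grp_mono π (by decide)
  have m12 : grp π [0, 1, 2, 3, 4] ≤ grp π [0, 1, 2, 3, 4, 5] := grp_mono π (by decide)
  have m01 : grp π [2, 3, 4] ≤ grp π [0, 1, 2, 3, 4] := grp_mono π (by decide)
  refine ⟨by rw [a5, a4, a3, a2, a1], by rw [a4, a3, a2, a1], ?_, ?_, ?_⟩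
  · exact le_antisymm (le_inf m34 fun g hg => MulAction.mem_stabilizer_iff.2 (grp_fix π hπ f2 g hg)) fun g hg => b5 g hg.1 (MulAction.mem_stabilizer_iff.1 hg.2)
  · intro y hy
    obtain ⟨a, ha⟩ := c4 (y 0)
    obtain ⟨g5, hg5, q5⟩ := e5 a
    rw [ha] at q5
    have inj5 : ∀ i, i ≠ 0 → g5 (y i) ≠ 2 := fun i hi e => hi (hy (g5.injective (e.trans q5.symm)))
    obtain ⟨a, ha⟩ := c3 (g5 (y 1)) (inj5 1 (by decide))
    obtain ⟨g4, hg4, q4⟩ := e4 a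
    rw [ha] at q4
    have k4 : g4 2 = 2 := grp_fix π hπ f2 g4 hg4
    have inj4 : ∀ i, i ≠ 0 → i ≠ 1 → g4 (g5 (y i)) ≠ 2 ∧ g4 (g5 (y i)) ≠ 1 := fun i h0 h1 =>
      ⟨fun e => inj5 i h0 (g4.injective (e.trans k4.symm)),
        fun e => h1 (hy (g5.injective (g4.injective (e.trans q4.symm))))⟩
    obtain ⟨a, ha⟩ := c2 (g4 (g5 (y 2))) (inj4 2 (by decide) (by decide)).1 (inj4 2 (by decide) (by decide)).2
    obtain ⟨g3, hg3, q3⟩ := e3 a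
    rw [ha] at q3
    have k3 : g3 2 = 2 ∧ g3 1 = 1 := ⟨grp_fix π hπ f2 g3 (m24 hg3), grp_fix π hπ f1 g3 hg3⟩
    have inj3 : ∀ i, i ≠ 0 → i ≠ 1 → i ≠ 2 →
        g3 (g4 (g5 (y i))) ≠ 2 ∧ g3 (g4 (g5 (y i))) ≠ 1 ∧ g3 (g4 (g5 (y i))) ≠ 0 := fun i h0 h1 h2 =>
      ⟨fun e => (inj4 i h0 h1).1 (g3.injective (e.trans k3.1.symm)),
        fun e => (inj4 i h0 h1).2 (g3.injective (e.trans k3.2.symm)),
        fun e => h2 (hy (g5.injective (g4.injective (g3.injective (e.trans q3.symm)))))⟩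
    obtain ⟨j1, j2, j3⟩ := inj3 3 (by decide) (by decide) (by decide)
    obtain ⟨a, ha⟩ := c1 _ j1 j2 j3
    obtain ⟨g2, hg2, q2⟩ := e2 a
    rw [ha] at q2
    have k2 : g2 2 = 2 ∧ g2 1 = 1 ∧ g2 0 = 0 :=
      ⟨grp_fix π hπ f2 g2 (m24 (m12 hg2)), grp_fix π hπ f1 g2 (m12 hg2), grp_fix π hπ f0 g2 hg2⟩
    obtain ⟨i1, i2, i3⟩ := inj3 4 (by decide) (by decide) (by decide)
    obtain ⟨a, ha⟩ := c0 (g2 (g3 (g4 (g5 (y 4))))) (fun e => i1 (g2.injective (e.trans k2.1.symm)))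
      (fun e => i2 (g2.injective (e.trans k2.2.1.symm))) (fun e => i3 (g2.injective (e.trans k2.2.2.symm)))
      (fun e => absurd (hy (g5.injective (g4.injective (g3.injective (g2.injective (e.trans q2.symm)))))) (by decide))
    obtain ⟨g1, hg1, q1⟩ := e1 a
    rw [ha] at q1
    have hg1' := m01 hg1
    refine ⟨g1 * g2 * g3 * g4 * g5, mul_mem (mul_mem (mul_mem (mul_mem (m34 (m24 (m12 hg1'))) (m34 (m24 (m12 hg2)))) (m34 (m24 hg3))) (m34 hg4)) hg5, ?_, ?_, ?_, ?_, ?_⟩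
    · simp only [Equiv.Perm.mul_apply]
      rw [q5, k4, k3.1, k2.1, grp_fix π hπ f2 g1 (m24 (m12 hg1'))]
    · simp only [Equiv.Perm.mul_apply]
      rw [q4, k3.2, k2.2.1, grp_fix π hπ f1 g1 (m12 hg1')]
    · simp only [Equiv.Perm.mul_apply]
      rw [q3, k2.2.2, grp_fix π hπ f0 g1 hg1']
    · simp only [Equiv.Perm.mul_apply]
      rw [q2, grp_fix π hπ f3 g1 hg1]
    · simp only [Equiv.Perm.mul_apply]
      rw [q1]
  · intro g hg h2 h1 h0 h3 h4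
    have := b1 g (b2 g (b3 g (b4 g (b5 g hg h2) h1) h0) h3) h4
    rwa [hbot, mem_bot] at this

end

end CfsgLib.Char.MTwelve
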