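import Cfsg.Agent.Lib.Char.TwoDegreesMain

/-!
# Degrees `1` and `p`

If every degree is `1` or `p`, then there is an abelian normal subgroup of index `p` or the centre
has index `p ^ 3`.
-/

set_option autoImplicit false
set_option linter.unusedSectionVars false
set_option linter.style.haveILetI false

namespace CfsgLib.Char.TwoDegrees

open Cfsg CfsgLib
open scoped ComplexConjugate commutatorElement IsMulCommutative

universe u

variable {G : Type u} [Group G] [Finite G] {p : ℕ}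

/-- In an abelian group, an element killed by every character killing `K` lies in `K`. -/
theorem mem_of_forall_hom {N : Subgroup G} (hab : ∀ a ∈ N, ∀ b ∈ N, a * b = b * a) (K : Subgroup G)
    {c : N} (h : ∀ lam : N →* ℂˣ, (∀ k : N, (k : G) ∈ K → lam k = 1) → lam c = 1) : (c : G) ∈ K := by
  letI : CommGroup N := { (inferInstance : Group N) with
    mul_comm := fun a b => Subtype.ext (hab a a.2 b b.2) }
  by_contra hne
  obtain ⟨lam, hl⟩ := CommGroup.exists_apply_ne_one_of_hasEnoughRootsOfUnity (N ⧸ K.subgroupOf N) ℂ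
    (a := (c : N ⧸ K.subgroupOf N)) (fun e => hne (Subgroup.mem_subgroupOf.1 ((QuotientGroup.eq_one_iff c).1 e)))
  refine hl (h (lam.comp (QuotientGroup.mk' _)) fun k hk => ?_)
  rw [MonoidHom.comp_apply, QuotientGroup.mk'_apply,
    (QuotientGroup.eq_one_iff k).2 (Subgroup.mem_subgroupOf.2 hk), map_one]

theorem mem_of_zpow_mem {E : Type*} [Group E] {K : Subgroup E} {p : ℕ} (hp : p.Prime) {a : E}
    (ha : a ^ p = 1) {i : ℤ} (hi : ¬ (p : ℤ) ∣ i) (h : a ^ i ∈ K) : a ∈ K := by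
  have hc : IsCoprime (p : ℤ) i :=
    (Nat.prime_iff_prime_int.1 hp).coprime_iff_not_dvd.2 hi
  obtain ⟨u, v, huv⟩ := hc
  have h1 : a = (a ^ i) ^ v := by
    conv_lhs => rw [← zpow_one a, ← huv, zpow_add, mul_comm u, zpow_mul, zpow_natCast, ha, one_zpow,
      one_mul, mul_comm v, zpow_mul]
  rw [h1]
  exact K.zpow_mem h v

theorem mem_sup_zpowers {E : Type*} [Group E] [hE : IsMulCommutative E] {a b c : E} :
    c ∈ Subgroup.zpowers a ⊔ Subgroup.zpowers b ↔ ∃ i j : ℤ, a ^ i * b ^ j = c := by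
  haveI : (Subgroup.zpowers a).Normal := ⟨fun n hn g => by
    rwa [hE.is_comm.comm g n, mul_inv_cancel_right]⟩
  rw [Subgroup.mem_sup_of_normal_left]
  constructor
  · rintro ⟨_, ⟨i, rfl⟩, _, ⟨j, rfl⟩, h⟩; exact ⟨i, j, h⟩
  · rintro ⟨i, j, rfl⟩; exact ⟨_, ⟨i, rfl⟩, _, ⟨j, rfl⟩, rfl⟩

/-- Independent elements of an elementary abelian group. -/
theorem dvd_of_indep {E : Type*} [Group E] [IsMulCommutative E] {p : ℕ} (hp : p.Prime)
    {a b c : E} (hexp : a ^ p = 1) (ha : a ∉ Subgroup.zpowers b ⊔ Subgroup.zpowers c) {i j k : ℤ}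
    (h : a ^ i * b ^ j * c ^ k = 1) : (p : ℤ) ∣ i := by
  by_contra hi
  refine ha (mem_of_zpow_mem hp hexp hi ?_)
  have h1 : a ^ i = (b ^ j * c ^ k)⁻¹ := eq_inv_of_mul_eq_one_left (by rw [← mul_assoc]; exact h)
  rw [h1]
  exact Subgroup.inv_mem _ (mem_sup_zpowers.2 ⟨j, k, rfl⟩)

theorem rel_aux {E : Type*} [CommGroup E] {a b c : E} {i' j' i0 t i j : ℤ}
    (h : a ^ i' * b ^ i' * c ^ j' = a ^ i0 * c ^ t * (b ^ i * c ^ j)) :
    a ^ (i' - i0) * b ^ (i' - i) * c ^ (j' - t - j) = 1 := by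
  apply Additive.ofMul.injective
  have h' := congrArg Additive.ofMul h
  simp only [ofMul_mul, ofMul_zpow, ofMul_one, sub_zsmul] at h' ⊢
  rw [← sub_eq_zero.2 h']
  abel

theorem stab_prime (hp : p.Prime) (h : TwoDeg p G) (A : Subgroup G) [A.Normal] (u : A →* ℂˣ)
    (hu : inertia A (lf u) ≠ ⊤) : (inertia A (lf u)).index = p :=
  ((Nat.dvd_prime hp).1 (stab_index_dvd h A u hu)).resolve_left fun e => hu (Subgroup.index_eq_one.1 e)

/-- A character with stabilizer of index `p` extends linearly to it. -/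
theorem apply_commutator_eq_one (hp : p.Prime) (h : TwoDeg p G) (A : Subgroup G) [A.Normal]
    (u : A →* ℂˣ) (hu : inertia A (lf u) ≠ ⊤) {g k : G} (hg : g ∈ inertia A (lf u))
    (hk : k ∈ inertia A (lf u)) (hmem : ⁅g, k⁆ ∈ A) : u ⟨⁅g, k⁆, hmem⟩ = 1 := by
  classical
  have := Fintype.ofFinite G
  have := Fintype.ofFinite A
  set T := inertia A (lf u) with hT
  have := Fintype.ofFinite T
  have hlu : IsIrrCharacter A (lf u) := isIrrCharacter_lin u
  obtain ⟨χ, hχ⟩ := Block.ItoMichler.exists_irr_over A ⟨lf u, hlu⟩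
  obtain ⟨ψ, hψ, hind, hinner⟩ := exists_inertia_correspondent_inner A χ.2 hlu hχ
  have hAT : A ≤ T := le_inertia A (isClassFunction_irr ⟨lf u, hlu⟩)
  obtain ⟨d, hd0, hd⟩ := isIrrCharacter_degree hψ
  have hdeg : T.index * d = 1 ∨ T.index * d = p := by
    refine degree_eq_one_or h χ.2 ?_
    rw [congrFun hind 1, indFun_one, hd, Nat.cast_mul]
  rw [stab_prime hp h A u hu] at hdeg
  have hd1 : d = 1 := by
    rcases hdeg with e | e
    · exact Nat.eq_one_of_mul_eq_one_left e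
    · exact Nat.eq_of_mul_eq_mul_left hp.pos (e.trans (mul_one p).symm)
  rw [hd1, Nat.cast_one] at hd
  obtain ⟨f, hf⟩ := linearCharEquiv.surjective
    (⟨⟨ψ, hψ⟩, hd⟩ : {χ : IrrCharacter T // (χ : T → ℂ) 1 = 1})
  have e : ∀ t, ψ t = (f t : ℂ) := fun t =>
    (congrFun (congrArg (fun z => ((z.1 : IrrCharacter T) : T → ℂ)) hf) t).symm
  have heq : (fun n : A => ψ (Subgroup.inclusion hAT n)) = lf u := by
    have hres : IsIrrCharacter A (fun n : A => ψ (Subgroup.inclusion hAT n)) := by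
      simp only [e]
      exact isIrrCharacter_lin (f.comp (Subgroup.inclusion hAT))
    by_contra hne
    refine hχ ?_
    rw [← hinner hAT]
    have h1 := classInner_irr (⟨_, hres⟩ : IrrCharacter A) ⟨lf u, hlu⟩
    rw [if_neg fun e' => hne (congrArg Subtype.val e')] at h1
    exact h1
  refine Units.ext ?_
  have h2 := congrFun heq ⟨_, hmem⟩
  simp only [lf] at h2
  rw [← h2, e, show Subgroup.inclusion hAT ⟨⁅g, k⁆, hmem⟩ = ⁅(⟨g, hg⟩ : T), (⟨k, hk⟩ : T)⁆ from
    Subtype.ext (by simp [commutatorElement_def]), map_commutatorElement,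
    commutatorElement_eq_one_iff_mul_comm.2 (mul_comm _ _)]

/-- The key theorem. -/
theorem index_or_center (hp : p.Prime) (h : TwoDeg p G) (hna : ∃ a b : G, a * b ≠ b * a) :
    (∃ A : Subgroup G, A.Normal ∧ (∀ a ∈ A, ∀ b ∈ A, a * b = b * a) ∧ A.index = p) ∨
      (Subgroup.center G).index = p ^ 3 := by
  classical
  -- a maximal abelian subgroup containing the commutator subgroup
  obtain ⟨A, ⟨hGA, hab⟩, hmax⟩ := Set.Finite.exists_maximal
    (Set.toFinite {B : Subgroup G | commutator G ≤ B ∧ ∀ a ∈ B, ∀ b ∈ B, a * b = b * a})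
    ⟨commutator G, le_rfl, (structure_theorem h hna).2⟩
  haveI hAn : A.Normal := normal_of_commutator_le hGA
  have hCA : ∀ g : G, (∀ a ∈ A, g * a = a * g) → g ∈ A := by
    intro g hg
    let B := Subgroup.closure ((A : Set G) ∪ {g})
    have hle : A ≤ B := fun a ha => Subgroup.subset_closure (Or.inl ha)
    have hBab : ∀ a ∈ B, ∀ b ∈ B, a * b = b * a := by
      have hs : ∀ x ∈ (A : Set G) ∪ {g}, ∀ y ∈ (A : Set G) ∪ {g}, x * y = y * x := by
        rintro x (hx | rfl) y (hy | rfl)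
        · exact hab x hx y hy
        · exact (hg x hx).symm
        · exact hg y hy
        · rfl
      haveI := Subgroup.isMulCommutative_closure hs
      exact fun a ha b hb => congrArg Subtype.val
        (mul_comm' (⟨a, ha⟩ : B) ⟨b, hb⟩)
    exact hmax ⟨hGA.trans hle, hBab⟩ hle (Subgroup.subset_closure (Or.inr rfl))
  have hAtop : A ≠ ⊤ := by
    intro e
    obtain ⟨a, b, hab'⟩ := hna
    exact hab' (hab a (e ▸ Subgroup.mem_top a) b (e ▸ Subgroup.mem_top b))
  letI hW : CommGroup (A →* ℂˣ) := inferInstance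
  set cj : G → (A →* ℂˣ) → (A →* ℂˣ) := fun g μ =>
    μ.comp (MulAut.conjNormal g : A ≃* A).toMonoidHom with hcj
  have cj_one : ∀ μ, cj 1 μ = μ := fun μ => MonoidHom.ext fun n => by simp [cj]
  have cj_mul : ∀ (a b : G) (μ : A →* ℂˣ), cj (a * b) μ = cj b (cj a μ) := fun a b μ =>
    MonoidHom.ext fun n => by simp [cj, map_mul]
  have cj_prod : ∀ (g : G) (μ ν : A →* ℂˣ), cj g (μ * ν) = cj g μ * cj g ν := fun g μ ν =>
    MonoidHom.mul_comp μ ν _
  have cj_zpow : ∀ (g : G) (μ : A →* ℂˣ) (i : ℤ), cj g (μ ^ i) = cj g μ ^ i := fun g μ i =>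
    MonoidHom.ext fun n => by simp [cj]
  have cj_A : ∀ a ∈ A, ∀ μ : A →* ℂˣ, cj a μ = μ := fun a ha μ => MonoidHom.ext fun x => by
    refine congrArg μ (Subtype.ext ?_)
    rw [MulEquiv.coe_toMonoidHom, MulAut.conjNormal_apply, hab a ha x x.2, mul_inv_cancel_right]
  have cj_comm : ∀ (a b : G) (μ : A →* ℂˣ), cj a (cj b μ) = cj b (cj a μ) := fun a b μ => by
    rw [← cj_mul, ← cj_mul]
    have e : b * a = ⁅b, a⁆ * (a * b) := by rw [commutatorElement_def]; group
    rw [e, cj_mul ⁅b, a⁆, cj_A ⁅b, a⁆ (hGA (by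
        rw [commutator_def]
        exact Subgroup.commutator_mem_commutator (Subgroup.mem_top b) (Subgroup.mem_top a)))]
  set St : (A →* ℂˣ) → Subgroup G := fun μ => inertia A (lf μ) with hSt
  have mem_St : ∀ μ g, g ∈ St μ ↔ cj g μ = μ := fun μ g => mem_stab_iff μ g
  have hA_St : ∀ μ, A ≤ St μ := fun μ a ha => (mem_St μ a).2 (cj_A a ha μ)
  have St_n : ∀ μ, (St μ).Normal := fun μ => normal_of_commutator_le (hGA.trans (hA_St μ))
  have St_idx : ∀ μ, St μ ≠ ⊤ → (St μ).index = p := fun μ hμ => stab_prime hp h A μ hμ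
  have St_le : ∀ μ ν, St μ ≠ ⊤ → St ν ≠ ⊤ → St μ ≤ St ν → St μ = St ν := by
    intro μ ν hμ hν hle
    refine le_antisymm hle (Subgroup.relIndex_eq_one.1 ?_)
    have h2 := Subgroup.relIndex_mul_index hle
    rw [St_idx μ hμ, St_idx ν hν] at h2
    exact Nat.eq_of_mul_eq_mul_right hp.pos (h2.trans (one_mul p).symm)
  have hsep : ∀ g : G, (∀ μ, g ∈ St μ) → g ∈ A := fun g hg => hCA g fun a ha => by
    have h1 : (MulAut.conjNormal g : A ≃* A) ⟨a, ha⟩ = ⟨a, ha⟩ := eq_of_forall_hom hab fun μ =>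
      DFunLike.congr_fun ((mem_St μ g).1 (hg μ)) _
    have h2 := congrArg Subtype.val h1
    rw [MulAut.conjNormal_apply] at h2
    exact mul_inv_eq_iff_eq_mul.1 h2
  obtain ⟨w, hw⟩ : ∃ w, St w ≠ ⊤ := by
    by_contra hc
    push Not at hc
    exact hAtop (eq_top_iff.2 fun g _ => hsep g fun μ => hc μ ▸ Subgroup.mem_top g)
  by_cases hone : ∀ μ, St μ ≠ ⊤ → St μ = St w
  · refine Or.inl ⟨A, hAn, hab, ?_⟩
    have e : St w = A := le_antisymm (fun g hg => hsep g fun μ => ?_) (hA_St w)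
    · rw [← e]; exact St_idx w hw
    · by_cases hμ : St μ = ⊤
      · exact hμ ▸ Subgroup.mem_top g
      · exact (hone μ hμ).ge hg
  push Not at hone
  obtain ⟨v, hv, hvw⟩ := hone
  -- two different stabilizers force a common fixed line of values
  have pair : ∀ μ ν, St μ ≠ ⊤ → St ν ≠ ⊤ → St μ ≠ St ν →
      ∃ z : A →* ℂˣ, z ^ p = 1 ∧ z ≠ 1 ∧ (∀ g, cj g z = z) ∧
        ∀ g, cj g μ * μ⁻¹ ∈ Subgroup.zpowers z ∧ cj g ν * ν⁻¹ ∈ Subgroup.zpowers z := by
    intro μ ν hμ hν hne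
    have hprod : St (μ * ν) ≠ ⊤ := fun e => hne (St_le μ ν hμ hν fun g hg => by
      have h1 := (mem_St _ g).1 (e ▸ Subgroup.mem_top g)
      rw [cj_prod, (mem_St μ g).1 hg] at h1
      exact (mem_St ν g).2 (mul_left_cancel h1))
    obtain ⟨u0, hu0, hu0μ⟩ : ∃ u0 ∈ St (μ * ν), u0 ∉ St μ := by
      by_contra hc
      push Not at hc
      have e := St_le _ _ hprod hμ hc
      refine hne (St_le μ ν hμ hν fun g hg => ?_)
      have h1 := (mem_St _ g).1 (e.ge hg)
      rw [cj_prod, (mem_St μ g).1 hg] at h1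
      exact (mem_St ν g).2 (mul_left_cancel h1)
    have heq := (mem_St _ u0).1 hu0
    rw [cj_prod] at heq
    have hu0ν : u0 ∉ St ν := fun hg => hu0μ ((mem_St μ u0).2 (by
      rw [(mem_St ν u0).1 hg] at heq
      exact mul_right_cancel heq))
    set z := cj u0 ν * ν⁻¹ with hz
    have hzμ : cj u0 μ * μ⁻¹ = z⁻¹ := by
      rw [hz, eq_inv_iff_mul_eq_one, mul_mul_mul_comm, heq, ← mul_inv, mul_inv_cancel]
    have cj_invh : ∀ (g : G) (η : A →* ℂˣ), cj g η⁻¹ = (cj g η)⁻¹ := fun g η =>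
      MonoidHom.ext fun n => by simp [cj]
    have hzfix : ∀ g, cj g z = z := by
      have h1 : ∀ g ∈ St ν, cj g z = z := fun g hg => by
        rw [hz, cj_prod, cj_invh, cj_comm, (mem_St ν g).1 hg]
      have h2 : ∀ g ∈ St μ, cj g z = z := fun g hg => by
        have hz' : cj g z⁻¹ = z⁻¹ := by
          rw [← hzμ, cj_prod, cj_invh, cj_comm, (mem_St μ g).1 hg]
        rw [cj_invh] at hz'
        exact inv_injective hz'
      have htop : St μ ⊔ St ν = ⊤ := by
        rw [← Subgroup.index_eq_one]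
        have h3 := Subgroup.relIndex_mul_index (le_sup_left : St μ ≤ St μ ⊔ St ν)
        rw [St_idx μ hμ] at h3
        rcases (Nat.dvd_prime hp).1 (Dvd.intro_left _ h3) with e | e
        · exact e
        · exfalso
          rw [e] at h3
          have h4 : St μ ⊔ St ν ≤ St μ := Subgroup.relIndex_eq_one.1
            (Nat.eq_of_mul_eq_mul_right hp.pos (h3.trans (one_mul p).symm))
          exact hne (St_le ν μ hν hμ (le_sup_right.trans h4)).symm
      intro g
      haveI := St_n μ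
      obtain ⟨a, ha, b, hb, rfl⟩ := Subgroup.mem_sup_of_normal_left.1 (htop ▸ Subgroup.mem_top g : g ∈ St μ ⊔ St ν)
      rw [cj_mul, h2 a ha, h1 b hb]
    have hpow : ∀ i : ℕ, cj (u0 ^ i) ν = ν * z ^ i := by
      intro i
      induction i with
      | zero => rw [pow_zero, pow_zero, cj_one, mul_one]
      | succ i ih =>
        have : cj u0 (z ^ i) = z ^ i := by rw [← zpow_natCast, cj_zpow, hzfix]
        rw [pow_succ u0, cj_mul, ih, cj_prod, this, show cj u0 ν = ν * z by
          rw [hz, mul_comm, inv_mul_cancel_right], mul_assoc, ← pow_succ']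
    have hzp : z ^ p = 1 := by
      have h3 := hpow (St ν).index
      haveI := St_n ν
      rw [(mem_St ν _).1 (Subgroup.pow_index_mem (St ν) u0), St_idx ν hν] at h3
      exact mul_eq_left.1 h3.symm
    have hz1 : z ≠ 1 := fun e => hu0ν ((mem_St ν u0).2 (mul_inv_eq_one.1 e))
    have gen : ∀ η : A →* ℂˣ, St η ≠ ⊤ → u0 ∉ St η → cj u0 η * η⁻¹ ∈ Subgroup.zpowers z →
        ∀ g, cj g η * η⁻¹ ∈ Subgroup.zpowers z := by
      intro η hη hu hmem g
      let K : Subgroup G :=
        { carrier := {g | cj g η * η⁻¹ ∈ Subgroup.zpowers z}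
          one_mem' := by simp [cj_one]
          mul_mem' := fun {a b} ha hb => by
            obtain ⟨i, hi⟩ := ha
            simp only [Set.mem_setOf_eq] at *
            have e1 : cj a η = η * z ^ i := by rw [show z ^ i = _ from hi]; rw [mul_comm, inv_mul_cancel_right]
            rw [cj_mul, e1, cj_prod, cj_zpow, hzfix, mul_right_comm]
            exact Subgroup.mul_mem _ hb (Subgroup.zpow_mem_zpowers z i)
          inv_mem' := fun {a} ha => by
            obtain ⟨i, hi⟩ := ha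
            simp only [Set.mem_setOf_eq] at *
            have e1 : cj a η = η * z ^ i := by rw [show z ^ i = _ from hi]; rw [mul_comm, inv_mul_cancel_right]
            have e2 : cj a⁻¹ (cj a η) = η := by rw [← cj_mul, mul_inv_cancel, cj_one]
            rw [e1, cj_prod, cj_zpow, hzfix] at e2
            refine ⟨-i, ?_⟩
            show z ^ (-i) = cj a⁻¹ η * η⁻¹
            rw [eq_comm, mul_inv_eq_iff_eq_mul, zpow_neg, eq_inv_mul_iff_mul_eq, mul_comm]
            exact e2 }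
      have hK : St η ≤ K := fun g hg => by
        show cj g η * η⁻¹ ∈ Subgroup.zpowers z
        rw [(mem_St η g).1 hg, mul_inv_cancel]
        exact Subgroup.one_mem _
      have : K = ⊤ := by
        rw [← Subgroup.index_eq_one]
        have h3 := Subgroup.relIndex_mul_index hK
        rw [St_idx η hη] at h3
        rcases (Nat.dvd_prime hp).1 (Dvd.intro_left _ h3) with e | e
        · exact e
        · exfalso
          rw [e] at h3
          exact hu (Subgroup.relIndex_eq_one.1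
            (Nat.eq_of_mul_eq_mul_right hp.pos (h3.trans (one_mul p).symm)) hmem)
      exact (this ▸ Subgroup.mem_top g : g ∈ K)
    exact ⟨z, hzp, hz1, hzfix, fun g => ⟨gen μ hμ hu0μ (hzμ ▸ Subgroup.inv_mem _ (Subgroup.mem_zpowers z)) g,
      gen ν hν hu0ν (Subgroup.mem_zpowers z) g⟩⟩
  obtain ⟨z, hzp, hz1, hzfix, hzwv⟩ := pair w v hw hv (Ne.symm hvw)
  have hD : ∀ (μ : A →* ℂˣ) (g : G), cj g μ * μ⁻¹ ∈ Subgroup.zpowers z := by
    intro μ g
    by_cases hμ : St μ = ⊤
    · rw [(mem_St μ g).1 (hμ ▸ Subgroup.mem_top g), mul_inv_cancel]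
      exact Subgroup.one_mem _
    have use : ∀ η, St η ≠ ⊤ → St μ ≠ St η → (∀ g, cj g η * η⁻¹ ∈ Subgroup.zpowers z) →
        cj g μ * μ⁻¹ ∈ Subgroup.zpowers z := by
      intro η hη hne hηz
      obtain ⟨z', hz'p, -, -, hz'⟩ := pair μ η hμ hη hne
      obtain ⟨g1, -, hg1⟩ := SetLike.exists_of_lt (lt_top_iff_ne_top.2 hη)
      obtain ⟨i, hi⟩ := (hz' g1).2
      obtain ⟨j, hj⟩ := hηz g1
      have hi' : ¬ (p : ℤ) ∣ i := fun ⟨k, hk⟩ => hg1 ((mem_St η g1).2 (mul_inv_eq_one.1 (by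
        rw [← show z' ^ i = _ from hi, hk, zpow_mul, zpow_natCast, hz'p, one_zpow])))
      have hz'mem : z' ∈ Subgroup.zpowers z := mem_of_zpow_mem hp hz'p hi' (by
        rw [show z' ^ i = _ from hi]
        exact ⟨j, hj⟩)
      exact (Subgroup.zpowers_le.2 hz'mem) (hz' g).1
    by_cases e : St μ = St w
    · exact use v hv (e ▸ Ne.symm hvw) fun g => (hzwv g).2
    · exact use w hw e fun g => (hzwv g).1
  -- the centre
  have hval : ∀ (μ : A →* ℂˣ) (g : G) (a : A), z a = 1 → μ ((MulAut.conjNormal g : A ≃* A) a) = μ a := by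
    intro μ g a ha
    obtain ⟨i, hi⟩ := hD μ g
    have h1 := DFunLike.congr_fun (show z ^ i = cj g μ * μ⁻¹ from hi) a
    have h3 : (cj g μ * μ⁻¹) a = μ ((MulAut.conjNormal g : A ≃* A) a) * (μ a)⁻¹ := rfl
    have h4 : (z ^ i) a = z a ^ i := rfl
    rw [h3, h4, ha, one_zpow] at h1
    exact mul_inv_eq_one.1 h1.symm
  have hker : ∀ a : A, z a = 1 → (a : G) ∈ Subgroup.center G := fun a ha => by
    refine Subgroup.mem_center_iff.2 fun g => ?_
    have h1 := eq_of_forall_hom hab fun μ => hval μ g a ha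
    have h2 := congrArg Subtype.val h1
    rw [MulAut.conjNormal_apply] at h2
    exact mul_inv_eq_iff_eq_mul.1 h2
  have hZA : Subgroup.center G ≤ A := fun x hx => hCA x fun a _ => (Subgroup.mem_center_iff.1 hx a).symm
  obtain ⟨a0, ha0⟩ : ∃ a0 : A, z a0 ≠ 1 := by
    by_contra hc
    push Not at hc
    exact hz1 (MonoidHom.ext hc)
  have hzpA : ∀ a : A, z a ^ p = 1 := fun a => by
    have := DFunLike.congr_fun hzp a
    rwa [MonoidHom.pow_apply, MonoidHom.one_apply] at this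
  have hdecomp : ∀ a : A, ∃ i : ℤ, ((a0 ^ i)⁻¹ * a : A) ∈ z.ker := by
    intro a
    have hu : IsPrimitiveRoot (((z a0 : ℂˣ)) : ℂ) p := by
      have ho : orderOf (z a0) = p := haveI := Fact.mk hp; orderOf_eq_prime (hzpA a0) ha0
      rw [← ho, ← orderOf_units]
      exact IsPrimitiveRoot.orderOf _
    haveI := NeZero.mk hp.ne_zero
    obtain ⟨i, -, hi⟩ := hu.eq_pow_of_pow_eq_one (ξ := ((z a : ℂˣ) : ℂ))
      (by rw [← Units.val_pow_eq_pow_val, hzpA, Units.val_one])
    refine ⟨i, ?_⟩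
    rw [MonoidHom.mem_ker, zpow_natCast, map_mul, map_inv, map_pow, inv_mul_eq_one]
    exact Units.ext (by rw [Units.val_pow_eq_pow_val]; exact hi)
  have hcentral : ∀ g : G, ⁅g, (a0 : G)⁆ ∈ Subgroup.center G := fun g => by
    have hm : ⁅g, (a0 : G)⁆ = (((MulAut.conjNormal g : A ≃* A) a0 * a0⁻¹ : A) : G) := by
      rw [Subgroup.coe_mul, Subgroup.coe_inv, MulAut.conjNormal_apply, commutatorElement_def]
    rw [hm]
    refine hker _ ?_
    have h5 : z ((MulAut.conjNormal g : A ≃* A) a0) = z a0 := DFunLike.congr_fun (hzfix g) a0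
    rw [map_mul, map_inv, h5, mul_inv_cancel]
  let φ : G →* Subgroup.center G :=
    { toFun := fun g => ⟨⁅g, (a0 : G)⁆, hcentral g⟩
      map_one' := Subtype.ext (by simp [commutatorElement_def])
      map_mul' := fun g k => Subtype.ext (by
        show ⁅g * k, (a0 : G)⁆ = ⁅g, (a0 : G)⁆ * ⁅k, (a0 : G)⁆
        rw [show ⁅g * k, (a0 : G)⁆ = g * ⁅k, (a0 : G)⁆ * g⁻¹ * ⁅g, (a0 : G)⁆ by
          simp only [commutatorElement_def]; group, Subgroup.mem_center_iff.1 (hcentral k) g,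
          mul_inv_cancel_right]
        exact ((Subgroup.mem_center_iff.1 (hcentral g)) _) ) }
  have hφmem : ∀ g, ((φ g : Subgroup.center G) : G) ∈ A := fun g => hZA (φ g).2
  have hφval : ∀ (μ : A →* ℂˣ) (g : G), μ ⟨(φ g : G), hφmem g⟩ = (cj g μ * μ⁻¹) a0 := fun μ g => by
    have e : (⟨(φ g : G), hφmem g⟩ : A) = (MulAut.conjNormal g : A ≃* A) a0 * a0⁻¹ := Subtype.ext (by
      rw [Subgroup.coe_mul, Subgroup.coe_inv, MulAut.conjNormal_apply]
      exact commutatorElement_def g (a0 : G))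
    rw [e, map_mul, map_inv]
    rfl
  have hφp : ∀ g, φ g ^ p = 1 := fun g => by
    refine Subtype.ext ?_
    show ((φ g : Subgroup.center G) : G) ^ p = 1
    have h1 : (⟨(φ g : G), hφmem g⟩ : A) ^ p = 1 := eq_of_forall_hom hab fun μ => by
      rw [map_pow, map_one, hφval]
      obtain ⟨i, hi⟩ := hD μ g
      rw [← show z ^ i = _ from hi, show (z ^ i) a0 = z a0 ^ i from rfl, ← zpow_natCast, ← zpow_mul,
        mul_comm, zpow_mul, zpow_natCast, hzpA, one_zpow]
    exact congrArg Subtype.val h1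
  have hφker : ∀ g, φ g = 1 → g ∈ A := fun g hg => hCA g fun a ha => by
    have hc : g * (a0 : G) = a0 * g := commutatorElement_eq_one_iff_mul_comm.1 (congrArg Subtype.val hg)
    obtain ⟨i, hi⟩ := hdecomp ⟨a, ha⟩
    have h1 := Subgroup.mem_center_iff.1 (hker _ (MonoidHom.mem_ker.1 hi)) g
    have h2 : a = (a0 : G) ^ i * (((a0 ^ i)⁻¹ * ⟨a, ha⟩ : A) : G) := by
      rw [Subgroup.coe_mul, Subgroup.coe_inv, Subgroup.coe_zpow, mul_inv_cancel_left]
    rw [h2, ← mul_assoc, ((show Commute g (a0 : G) from hc).zpow_right i).eq, mul_assoc, h1, ← mul_assoc]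
  have hφA : ∀ a ∈ A, φ a = 1 := fun a ha => Subtype.ext
    (commutatorElement_eq_one_iff_mul_comm.2 (hab a ha _ a0.2))
  have hφker' : φ.ker = A := le_antisymm (fun g hg => hφker g hg) fun a ha => hφA a ha
  have hcenter : (Subgroup.center G).index = A.index * p := by
    have h1 : (Subgroup.center G).relIndex A = p := by
      have e : (Subgroup.center G).subgroupOf A = z.ker := by
        refine le_antisymm (fun a ha => ?_) fun a ha => Subgroup.mem_subgroupOf.2 (hker a ha)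
        obtain ⟨i, hi⟩ := hdecomp a
        rw [MonoidHom.mem_ker]
        by_contra hne
        have hpi : ¬ (p : ℤ) ∣ i := fun ⟨k, hk⟩ => hne (by
          rw [MonoidHom.mem_ker, map_mul, map_inv, map_zpow, hk, zpow_mul, zpow_natCast, hzpA, one_zpow,
            inv_one, one_mul] at hi
          exact hi)
        have hai : (a0 : G) ^ i ∈ Subgroup.center G := by
          have h2 := Subgroup.mul_mem _ (Subgroup.mem_subgroupOf.1 ha)
            (Subgroup.inv_mem _ (hker _ (MonoidHom.mem_ker.1 hi)))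
          rwa [← Subgroup.coe_inv, ← Subgroup.coe_mul, mul_inv_rev, inv_inv, mul_inv_cancel_left,
            Subgroup.coe_zpow] at h2
        have h3 : ((a0 ^ p : A) : G) ∈ Subgroup.center G :=
          hker _ (by rw [map_pow, hzpA])
        obtain ⟨u, v, huv⟩ := (Nat.prime_iff_prime_int.1 hp).coprime_iff_not_dvd.2 hpi
        have h4 : (a0 : G) ∈ Subgroup.center G := by
          rw [← zpow_one (a0 : G), ← huv, zpow_add, mul_comm u, mul_comm v, zpow_mul, zpow_mul,
            zpow_natCast, ← Subgroup.coe_pow]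
          exact Subgroup.mul_mem _ (Subgroup.zpow_mem _ h3 u) (Subgroup.zpow_mem _ hai v)
        refine hAtop (eq_top_iff.2 fun g _ => hφker g (Subtype.ext ?_))
        exact commutatorElement_eq_one_iff_mul_comm.2 (Subgroup.mem_center_iff.1 h4 g)
      rw [Subgroup.relIndex, e, Subgroup.index_ker]
      have hle : z.range ≤ Subgroup.zpowers (z a0) := by
        rintro _ ⟨a, rfl⟩
        obtain ⟨i, hi⟩ := hdecomp a
        rw [MonoidHom.mem_ker, map_mul, map_inv, map_zpow, inv_mul_eq_one] at hi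
        exact ⟨i, hi⟩
      rw [le_antisymm hle (Subgroup.zpowers_le.2 ⟨a0, rfl⟩), Nat.card_zpowers]
      haveI := Fact.mk hp
      exact orderOf_eq_prime (hzpA a0) ha0
    rw [← Subgroup.relIndex_mul_index hZA, h1, mul_comm]
  by_cases hbig : ∀ g k : G, ∃ x, φ x ∉ Subgroup.zpowers (φ g) ⊔ Subgroup.zpowers (φ k)
  swap
  · right
    push Not at hbig
    obtain ⟨g, k, hgk⟩ := hbig
    have hidx : A.index = Nat.card φ.range := by rw [← hφker', Subgroup.index_ker]
    haveI := Fact.mk hp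
    have hrp : IsPGroup p φ.range := by
      rintro ⟨_, x, rfl⟩
      exact ⟨1, Subtype.ext (by rw [pow_one]; exact hφp x)⟩
    obtain ⟨j, hj⟩ := IsPGroup.iff_card.1 hrp
    have hle : Nat.card φ.range ≤ p ^ 2 := by
      have hs : ∀ (e : Subgroup.center G), e ^ p = 1 → Nat.card (Subgroup.zpowers e) ≤ p := fun e he => by
        rw [Nat.card_zpowers]
        exact Nat.le_of_dvd hp.pos (orderOf_dvd_of_pow_eq_one he)
      let f : Subgroup.zpowers (φ g) × Subgroup.zpowers (φ k) → φ.range := fun e =>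
        ⟨(e.1 : Subgroup.center G) * e.2, φ.range.mul_mem
          (Subgroup.zpowers_le.2 (⟨g, rfl⟩ : φ g ∈ φ.range) e.1.2)
          (Subgroup.zpowers_le.2 (⟨k, rfl⟩ : φ k ∈ φ.range) e.2.2)⟩
      have hf : Function.Surjective f := by
        rintro ⟨_, x, rfl⟩
        obtain ⟨i, j, hij⟩ := mem_sup_zpowers.1 (hgk x)
        exact ⟨⟨⟨_, Subgroup.zpow_mem_zpowers _ i⟩, ⟨_, Subgroup.zpow_mem_zpowers _ j⟩⟩, Subtype.ext hij⟩
      refine (Nat.card_le_card_of_surjective f hf).trans ?_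
      rw [Nat.card_prod, pow_two]
      exact Nat.mul_le_mul (hs _ (hφp g)) (hs _ (hφp k))
    have hlt : p < A.index := by
      refine lt_of_le_of_ne ?_ ?_
      · rw [← St_idx w hw]
        exact Nat.le_of_dvd (Nat.pos_of_ne_zero Subgroup.index_ne_zero_of_finite)
          (Subgroup.index_dvd_of_le (hA_St w))
      · intro e
        have heq : ∀ η, St η ≠ ⊤ → St η = A := fun η hη => by
          refine le_antisymm (Subgroup.relIndex_eq_one.1 ?_) (hA_St η)
          have h2 := Subgroup.relIndex_mul_index (hA_St η)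
          rw [St_idx η hη, ← e] at h2
          exact Nat.eq_of_mul_eq_mul_right hp.pos (h2.trans (one_mul p).symm)
        exact hvw ((heq v hv).trans (heq w hw).symm)
    rw [hcenter, hidx, hj, ← pow_succ]
    congr 1
    rw [hidx, hj] at hlt
    rw [hj] at hle
    have h1 : 1 < j := (Nat.pow_lt_pow_iff_right hp.one_lt).1 (by rwa [pow_one])
    have h2 : j ≤ 2 := (Nat.pow_le_pow_iff_right hp.one_lt).1 hle
    omega
  -- at least three independent cosets: an abelian subgroup of index `p`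
  left
  have key : ∀ g k : G, ∃ hc : ⁅g, k⁆ ∈ Subgroup.center G,
      (⟨⁅g, k⁆, hc⟩ : Subgroup.center G) ∈ Subgroup.zpowers (φ g) ⊔ Subgroup.zpowers (φ k) := by
    intro g k
    set K := (Subgroup.zpowers (φ g) ⊔ Subgroup.zpowers (φ k)).map (Subgroup.center G).subtype
    have hcA : ⁅g, k⁆ ∈ A := hGA (by
      rw [commutator_def]
      exact Subgroup.commutator_mem_commutator (Subgroup.mem_top g) (Subgroup.mem_top k))
    have hfix : ∀ μ : A →* ℂˣ, (∀ e : A, (e : G) ∈ K → μ e = 1) → g ∈ St μ ∧ k ∈ St μ := by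
      intro μ hμ
      have aux : ∀ x : G, φ x ∈ Subgroup.zpowers (φ g) ⊔ Subgroup.zpowers (φ k) → x ∈ St μ := by
        intro x hx
        refine (mem_St μ x).2 (mul_inv_eq_one.1 (MonoidHom.ext fun a => ?_))
        obtain ⟨i, hi⟩ := hD μ x
        have h1 := hμ ⟨(φ x : G), hφmem x⟩ ⟨φ x, hx, rfl⟩
        rw [hφval, ← show z ^ i = _ from hi, show (z ^ i) a0 = z a0 ^ i from rfl] at h1
        rw [← show z ^ i = _ from hi, show (z ^ i) a = z a ^ i from rfl, MonoidHom.one_apply]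
        haveI := Fact.mk hp
        have h2 := orderOf_dvd_iff_zpow_eq_one.2 h1
        rw [orderOf_eq_prime (hzpA a0) ha0] at h2
        obtain ⟨c, rfl⟩ := h2
        rw [zpow_mul, zpow_natCast, hzpA, one_zpow]
      exact ⟨aux g (Subgroup.mem_sup_left (Subgroup.mem_zpowers _)),
        aux k (Subgroup.mem_sup_right (Subgroup.mem_zpowers _))⟩
    obtain ⟨x, hx⟩ := hbig g k
    obtain ⟨lam, hlam, hlamx⟩ : ∃ lam : A →* ℂˣ, (∀ e : A, (e : G) ∈ K → lam e = 1) ∧ St lam ≠ ⊤ := by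
      by_contra hc
      push Not at hc
      refine hx ?_
      obtain ⟨e, he, he'⟩ := mem_of_forall_hom hab K (c := ⟨(φ x : G), hφmem x⟩) fun μ hμ => by
        rw [hφval, (mem_St μ x).1 (hc μ hμ ▸ Subgroup.mem_top x), mul_inv_cancel, MonoidHom.one_apply]
      rwa [Subtype.ext he' (a1 := e) (a2 := φ x)] at he
    have hc : ⁅g, k⁆ ∈ K := by
      refine mem_of_forall_hom hab K (c := ⟨_, hcA⟩) fun μ hμ => ?_
      have hne : ∀ η : A →* ℂˣ, (∀ e : A, (e : G) ∈ K → η e = 1) → St η ≠ ⊤ →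
          η ⟨_, hcA⟩ = 1 := fun η hη hne =>
        apply_commutator_eq_one hp h A η hne (hfix η hη).1 (hfix η hη).2 hcA
      by_cases hμt : St μ = ⊤
      · have h1 : ∀ e : A, (e : G) ∈ K → (μ * lam) e = 1 := fun e he => by
          rw [MonoidHom.mul_apply, hμ e he, hlam e he, one_mul]
        have h2 : St (μ * lam) ≠ ⊤ := fun e => hlamx (eq_top_iff.2 fun y _ => (mem_St lam y).2 (by
          have h4 := (mem_St _ y).1 (e ▸ Subgroup.mem_top y)
          rw [cj_prod, (mem_St μ y).1 (hμt ▸ Subgroup.mem_top y)] at h4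
          exact mul_left_cancel h4))
        have h3 := hne _ h1 h2
        rwa [MonoidHom.mul_apply, hne lam hlam hlamx, mul_one] at h3
      · exact hne μ hμ hμt
    obtain ⟨e, he, he'⟩ := hc
    exact ⟨he' ▸ e.2, by rwa [show (⟨⁅g, k⁆, he' ▸ e.2⟩ : Subgroup.center G) = e from Subtype.ext he'.symm]⟩
  let br : G → G → Subgroup.center G := fun g k => ⟨⁅g, k⁆, (key g k).1⟩
  have br_mem : ∀ g k, br g k ∈ Subgroup.zpowers (φ g) ⊔ Subgroup.zpowers (φ k) := fun g k => (key g k).2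
  have br_mul : ∀ g g' k, br (g * g') k = br g k * br g' k := fun g g' k => Subtype.ext (by
    show ⁅g * g', k⁆ = ⁅g, k⁆ * ⁅g', k⁆
    rw [show ⁅g * g', k⁆ = g * ⁅g', k⁆ * g⁻¹ * ⁅g, k⁆ by simp only [commutatorElement_def]; group,
      Subgroup.mem_center_iff.1 (key g' k).1 g, mul_inv_cancel_right]
    exact Subgroup.mem_center_iff.1 (key g k).1 _)
  have br_mul' : ∀ g k k', br g (k * k') = br g k * br g k' := fun g k k' => Subtype.ext (by
    show ⁅g, k * k'⁆ = ⁅g, k⁆ * ⁅g, k'⁆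
    rw [show ⁅g, k * k'⁆ = ⁅g, k⁆ * (k * ⁅g, k'⁆ * k⁻¹) by simp only [commutatorElement_def]; group,
      Subgroup.mem_center_iff.1 (key g k').1 k, mul_inv_cancel_right])
  have indep : ∀ a b c : G, φ a ∉ Subgroup.zpowers (φ b) ⊔ Subgroup.zpowers (φ c) → ∀ i j k : ℤ,
      φ a ^ i * φ b ^ j * φ c ^ k = 1 → (p : ℤ) ∣ i :=
    fun a b c ha i j k hr => dvd_of_indep hp (hφp a) ha hr
  obtain ⟨x, hx⟩ : ∃ x, φ x ≠ 1 := by
    by_contra hc
    push Not at hc
    exact hAtop (eq_top_iff.2 fun g _ => hφker g (hc g))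
  obtain ⟨g0, hg0⟩ : ∃ g0, φ g0 ∉ Subgroup.zpowers (φ x) := by
    obtain ⟨g0, hg0⟩ := hbig x x
    exact ⟨g0, fun e => hg0 (Subgroup.mem_sup_left e)⟩
  have swap_indep : ∀ g k : G, φ g ∉ Subgroup.zpowers (φ x) →
      φ k ∉ Subgroup.zpowers (φ g) ⊔ Subgroup.zpowers (φ x) →
      φ g ∉ Subgroup.zpowers (φ k) ⊔ Subgroup.zpowers (φ x) := by
    intro g k hg hk hm
    obtain ⟨i, j, hij⟩ := mem_sup_zpowers.1 hm
    by_cases hi : (p : ℤ) ∣ i
    · obtain ⟨c, rfl⟩ := hi
      refine hg ⟨j, ?_⟩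
      rw [zpow_mul, zpow_natCast, hφp, one_zpow, one_mul] at hij
      exact hij
    · refine hk (mem_of_zpow_mem hp (hφp k) hi (mem_sup_zpowers.2 ⟨1, -j, ?_⟩))
      rw [zpow_one, ← hij, zpow_neg, mul_inv_cancel_right]
  obtain ⟨i0, j0, h0⟩ := mem_sup_zpowers.1 (br_mem g0 x)
  have step : ∀ g k : G, φ g ∉ Subgroup.zpowers (φ x) →
      φ k ∉ Subgroup.zpowers (φ g) ⊔ Subgroup.zpowers (φ x) →
      (∃ t : ℤ, φ g ^ i0 * φ x ^ t = br g x) → ∃ t : ℤ, φ k ^ i0 * φ x ^ t = br k x := by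
    rintro g k hg hk ⟨t, ht⟩
    obtain ⟨i, j, hij⟩ := mem_sup_zpowers.1 (br_mem k x)
    obtain ⟨i', j', hij'⟩ := mem_sup_zpowers.1 (br_mem (g * k) x)
    rw [br_mul, ← ht, ← hij, map_mul, mul_zpow] at hij'
    have hrel : φ g ^ (i' - i0) * φ k ^ (i' - i) * φ x ^ (j' - t - j) = 1 := rel_aux hij'
    have h1 : (p : ℤ) ∣ i' - i0 := indep g k x (swap_indep g k hg hk) _ _ _ hrel
    have h2 : (p : ℤ) ∣ i' - i :=
      indep k g x hk (i' - i) (i' - i0) (j' - t - j) (by rw [mul_comm (φ k ^ _)]; exact hrel)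
    refine ⟨j, ?_⟩
    obtain ⟨c, hc⟩ := dvd_sub h1 h2
    rw [← hij, show i = i0 + p * c by rw [← hc]; ring, zpow_add, zpow_mul, zpow_natCast, hφp, one_zpow,
      mul_one]
  have hscal : ∀ g, φ g ∉ Subgroup.zpowers (φ x) → ∃ t : ℤ, φ g ^ i0 * φ x ^ t = br g x := by
    intro g hg
    by_cases hg' : φ g ∈ Subgroup.zpowers (φ g0) ⊔ Subgroup.zpowers (φ x)
    · obtain ⟨u, hu⟩ := hbig g0 x
      refine step u g (fun e => hu (Subgroup.mem_sup_right e)) ?_ (step g0 u hg0 hu ⟨j0, h0⟩)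
      refine swap_indep g u hg fun hm => hu ?_
      exact (sup_le (Subgroup.zpowers_le.2 hg') le_sup_right :
        Subgroup.zpowers (φ g) ⊔ Subgroup.zpowers (φ x) ≤ _) hm
    · exact step g0 g hg0 hg' ⟨j0, h0⟩
  set x' := x * ((a0 : G) ^ i0)⁻¹ with hx'
  have hφx' : φ x' = φ x := by
    rw [hx', map_mul, map_inv, map_zpow, hφA _ a0.2, one_zpow, inv_one, mul_one]
  let ψ : G →* Subgroup.center G :=
    { toFun := fun g => br g x'
      map_one' := Subtype.ext (by simp [br, commutatorElement_def])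
      map_mul' := fun a b => br_mul a b x' }
  have hψ : ∀ g, ψ g ∈ Subgroup.zpowers (φ x) := by
    have h1 : ∀ g, φ g ∉ Subgroup.zpowers (φ x) → ψ g ∈ Subgroup.zpowers (φ x) := by
      intro g hg
      obtain ⟨t, ht⟩ := hscal g hg
      show br g x' ∈ _
      let βg : G →* Subgroup.center G :=
        { toFun := br g
          map_one' := Subtype.ext (by simp [br, commutatorElement_def])
          map_mul' := br_mul' g }
      have e : βg (a0 : G) = φ g := rfl
      show βg x' ∈ _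
      rw [hx', map_mul, map_inv, map_zpow, e, show βg x = φ g ^ i0 * φ x ^ t from ht.symm, mul_right_comm,
        mul_inv_cancel, one_mul]
      exact Subgroup.zpow_mem_zpowers _ t
    intro g
    by_cases hg : φ g ∈ Subgroup.zpowers (φ x)
    · have hgg : φ (g * g0) ∉ Subgroup.zpowers (φ x) := fun e => hg0 (by
        have := Subgroup.mul_mem _ (Subgroup.inv_mem _ hg) e
        rwa [map_mul, inv_mul_cancel_left] at this)
      have := Subgroup.mul_mem _ (h1 _ hgg) (Subgroup.inv_mem _ (h1 _ hg0))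
      rwa [map_mul, mul_inv_cancel_right] at this
    · exact h1 g hg
  set C0 := ψ.ker with hC0
  have hC0mem : ∀ g, g ∈ C0 ↔ g * x' = x' * g := fun g => by
    rw [hC0, MonoidHom.mem_ker]
    exact ⟨fun e => commutatorElement_eq_one_iff_mul_comm.1 (congrArg Subtype.val e),
      fun e => Subtype.ext (commutatorElement_eq_one_iff_mul_comm.2 e)⟩
  have hidx : C0.index = p := by
    rw [hC0, Subgroup.index_ker]
    haveI := Fact.mk hp
    have hord : orderOf (φ x) = p := orderOf_eq_prime (hφp x) hx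
    have hle : ψ.range ≤ Subgroup.zpowers (φ x) := by rintro _ ⟨g, rfl⟩; exact hψ g
    have h2 := Subgroup.card_dvd_of_le hle
    rw [Nat.card_zpowers, hord] at h2
    refine ((Nat.dvd_prime hp).1 h2).resolve_left fun e => hx ?_
    have h3 : ψ (a0 : G) = 1 := Subgroup.mem_bot.1 (Subgroup.card_eq_one.1 e ▸ ⟨(a0 : G), rfl⟩)
    rw [← hφx']
    exact Subtype.ext (commutatorElement_eq_one_iff_mul_comm.2
      (commutatorElement_eq_one_iff_mul_comm.1 (congrArg Subtype.val h3)).symm)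
  have hC0A : ∀ a ∈ C0, a ∈ A → a ∈ Subgroup.center G := by
    intro a ha haA
    obtain ⟨i, hi⟩ := hdecomp ⟨a, haA⟩
    have hz' := hker _ (MonoidHom.mem_ker.1 hi)
    have ha' : a = (a0 : G) ^ i * (((a0 ^ i)⁻¹ * ⟨a, haA⟩ : A) : G) := by
      rw [Subgroup.coe_mul, Subgroup.coe_inv, Subgroup.coe_zpow, mul_inv_cancel_left]
    by_cases hpi : (p : ℤ) ∣ i
    · obtain ⟨c, rfl⟩ := hpi
      rw [ha']
      refine Subgroup.mul_mem _ ?_ hz'
      rw [zpow_mul, zpow_natCast, ← Subgroup.coe_pow]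
      exact Subgroup.zpow_mem _ (hker _ (by rw [map_pow, hzpA])) c
    · exfalso
      refine hx (hφx' ▸ ?_)
      have hcm : Commute x' ((a0 : G) ^ i) := by
        have h1 : Commute x' a := ((hC0mem a).1 ha).symm
        have h2 : Commute x' (((a0 ^ i)⁻¹ * ⟨a, haA⟩ : A) : G) := Subgroup.mem_center_iff.1 hz' x'
        have e : (a0 : G) ^ i = a * ((((a0 ^ i)⁻¹ * ⟨a, haA⟩ : A) : G))⁻¹ :=
          eq_mul_inv_of_mul_eq ha'.symm
        rw [e]
        exact h1.mul_right h2.inv_right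
      have hp' : Commute x' ((a0 : G) ^ p) := by
        rw [← Subgroup.coe_pow]
        exact Subgroup.mem_center_iff.1 (hker (a0 ^ p) (by rw [map_pow, hzpA])) x'
      obtain ⟨u, v, huv⟩ := (Nat.prime_iff_prime_int.1 hp).coprime_iff_not_dvd.2 hpi
      have h5 : Commute x' (a0 : G) := by
        rw [← zpow_one (a0 : G), ← huv, zpow_add, mul_comm u, mul_comm v, zpow_mul, zpow_mul, zpow_natCast]
        exact (hp'.zpow_right u).mul_right (hcm.zpow_right v)
      exact Subtype.ext (commutatorElement_eq_one_iff_mul_comm.2 h5.eq)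
  refine ⟨C0, MonoidHom.normal_ker ψ, fun y hy k hk => ?_, hidx⟩
  have hx'C : x' ∈ C0 := (hC0mem x').2 rfl
  have dep : ∀ (y k : G), y ∈ C0 → k ∈ C0 → ∀ i j : ℤ, φ x ^ i * φ y ^ j = φ k → Commute y k := by
    intro y k hy hk i j hij
    have hmem : (x' ^ i * y ^ j)⁻¹ * k ∈ C0 :=
      C0.mul_mem (C0.inv_mem (C0.mul_mem (C0.zpow_mem hx'C i) (C0.zpow_mem hy j))) hk
    have hA' : (x' ^ i * y ^ j)⁻¹ * k ∈ A := hφker _ (by
      rw [map_mul, map_inv, map_mul, map_zpow, map_zpow, hφx', hij, inv_mul_cancel])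
    have hc : Commute y ((x' ^ i * y ^ j)⁻¹ * k) := Subgroup.mem_center_iff.1 (hC0A _ hmem hA') y
    have hyk : Commute y (x' ^ i * y ^ j) :=
      ((show Commute y x' from (hC0mem y).1 hy).zpow_right i).mul_right (Commute.self_zpow y j)
    have := hyk.mul_right hc
    rwa [mul_inv_cancel_left] at this
  show Commute y k
  by_cases hy1 : φ y ∈ Subgroup.zpowers (φ x)
  · obtain ⟨i, hi⟩ := hy1
    exact (dep k y hk hy i 0 (by rw [zpow_zero, mul_one]; exact hi)).symm
  by_cases hk1 : φ k ∈ Subgroup.zpowers (φ x) ⊔ Subgroup.zpowers (φ y)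
  · obtain ⟨i, j, hij⟩ := mem_sup_zpowers.1 hk1
    exact dep y k hy hk i j hij
  obtain ⟨i, j, hij⟩ := mem_sup_zpowers.1 (br_mem y k)
  have hcyx : br y x' = 1 := Subtype.ext (commutatorElement_eq_one_iff_mul_comm.2 ((hC0mem y).1 hy))
  have hcxk : br x' k = 1 := Subtype.ext (commutatorElement_eq_one_iff_mul_comm.2 ((hC0mem k).1 hk).symm)
  have hk2 : φ k ∉ Subgroup.zpowers (φ y) ⊔ Subgroup.zpowers (φ x) := by rwa [sup_comm]
  have hy2 : φ x ∉ Subgroup.zpowers (φ y) ⊔ Subgroup.zpowers (φ k) := by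
    intro hm
    obtain ⟨a, b, hab'⟩ := mem_sup_zpowers.1 hm
    by_cases hb : (p : ℤ) ∣ b
    · obtain ⟨c, rfl⟩ := hb
      rw [zpow_mul (φ k), zpow_natCast, hφp, one_zpow, mul_one] at hab'
      refine hy1 (mem_of_zpow_mem hp (hφp y) (i := a) (fun ⟨c', hc'⟩ => hx ?_) ⟨1, ?_⟩)
      · rw [← hab', hc', zpow_mul, zpow_natCast, hφp, one_zpow]
      · simp [hab']
    · refine hk1 (mem_of_zpow_mem hp (hφp k) hb (mem_sup_zpowers.2 ⟨1, -a, ?_⟩))
      rw [zpow_one, ← hab', zpow_neg, mul_comm (φ y ^ a), mul_inv_cancel_right]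
  have hy' : φ y ∉ Subgroup.zpowers (φ k) ⊔ Subgroup.zpowers (φ x) := swap_indep y k hy1 hk2
  have hi : (p : ℤ) ∣ i := by
    obtain ⟨i', j', hij'⟩ := mem_sup_zpowers.1 (br_mem (y * x') k)
    rw [br_mul, hcxk, mul_one, ← hij, map_mul, hφx', mul_zpow] at hij'
    have hrel : φ y ^ (i' - i) * φ x ^ i' * φ k ^ (j' - j) = 1 := by
      have := rel_aux (a := φ y) (b := φ x) (c := φ k) (i' := i') (j' := j') (i0 := i) (t := j) (i := 0)
        (j := 0) (by rw [zpow_zero, zpow_zero, mul_one, mul_one]; exact hij')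
      rwa [sub_zero, sub_zero] at this
    have h1 : (p : ℤ) ∣ i' - i := indep y x k (by rwa [sup_comm]) _ _ _ hrel
    have h2 : (p : ℤ) ∣ i' :=
      indep x y k hy2 i' (i' - i) (j' - j) (by rw [mul_comm (φ x ^ _)]; exact hrel)
    have := dvd_sub h2 h1
    rwa [sub_sub_cancel] at this
  have hj : (p : ℤ) ∣ j := by
    obtain ⟨i', j', hij'⟩ := mem_sup_zpowers.1 (br_mem y (k * x'))
    rw [br_mul', hcyx, mul_one, ← hij, map_mul, hφx', mul_zpow] at hij'
    have hrel : φ k ^ (j' - j) * φ x ^ j' * φ y ^ (i' - i) = 1 := by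
      have := rel_aux (a := φ k) (b := φ x) (c := φ y) (i' := j') (j' := i') (i0 := j) (t := i) (i := 0)
        (j := 0) (by rw [zpow_zero, zpow_zero, mul_one, mul_one, mul_comm, mul_comm (φ k ^ j)]; exact hij')
      rwa [sub_zero, sub_zero] at this
    have h1 : (p : ℤ) ∣ j' - j := indep k x y hk1 _ _ _ hrel
    have h2 : (p : ℤ) ∣ j' :=
      indep x k y (by rwa [sup_comm] at hy2) j' (j' - j) (i' - i) (by rw [mul_comm (φ x ^ _)]; exact hrel)
    have := dvd_sub h2 h1
    rwa [sub_sub_cancel] at this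
  obtain ⟨c, rfl⟩ := hi
  obtain ⟨d, rfl⟩ := hj
  rw [zpow_mul, zpow_mul, zpow_natCast, zpow_natCast, hφp, hφp, one_zpow, one_zpow, one_mul] at hij
  exact commutatorElement_eq_one_iff_mul_comm.1 (congrArg Subtype.val hij.symm)

/-- The square of a degree is at most the index of the centre. -/
theorem degree_sq_le_center (χ : IrrCharacter G) :
    charDegree (χ : G → ℂ) ^ 2 ≤ (Subgroup.center G).index := by
  classical
  have := Fintype.ofFinite G
  obtain ⟨χ, n, ρ, hρ, rfl⟩ := χ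
  set χ' : IrrCharacter G := ⟨ρ.character, n, ρ, hρ, rfl⟩
  have hd : ρ.character 1 = (n : ℂ) := by rw [Representation.char_one, Module.finrank_fin_fun]
  rw [charDegree_of_eq hd]
  have hsum : ∑ g : G, Complex.normSq (ρ.character g) = (Nat.card G : ℝ) := by
    have h1 := classInner_irr_self χ'
    rw [classInner, inv_mul_eq_one₀ card_ne_zero'] at h1
    simp only [χ', Complex.mul_conj, ← Complex.ofReal_sum] at h1
    exact_mod_cast h1.symm
  have hz : ∀ g ∈ Subgroup.center G, Complex.normSq (ρ.character g) = (n : ℝ) ^ 2 := by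
    intro g hg
    have h1 := (norm_char_eq_iff ρ g).2 (exists_scalar_of_mem_center ρ hg)
    rw [Complex.normSq_eq_norm_sq, h1, Module.finrank_fin_fun]
  have hle : (Nat.card (Subgroup.center G) : ℝ) * (n : ℝ) ^ 2 ≤ (Nat.card G : ℝ) := by
    rw [← hsum, ← Finset.sum_filter_add_sum_filter_not Finset.univ (· ∈ Subgroup.center G),
      Finset.sum_congr rfl fun g hg => hz g (Finset.mem_filter.1 hg).2, Finset.sum_const, nsmul_eq_mul,
      ← Fintype.card_subtype, ← Nat.card_eq_fintype_card]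
    exact le_add_of_nonneg_right (Finset.sum_nonneg fun g _ => Complex.normSq_nonneg _)
  rw [← (Subgroup.center G).card_mul_index, Nat.cast_mul] at hle
  exact_mod_cast le_of_mul_le_mul_left hle (by exact_mod_cast Nat.card_pos)

/-- The converse. -/
theorem degrees_of_index_or_center (hp : p.Prime)
    (h : (∃ A : Subgroup G, A.Normal ∧ (∀ a ∈ A, ∀ b ∈ A, a * b = b * a) ∧ A.index = p) ∨
      (Subgroup.center G).index = p ^ 3) : TwoDeg p G := by
  intro χ
  rcases h with ⟨A, hAn, hA, hidx⟩ | hz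
  · haveI := hAn
    exact (Nat.dvd_prime hp).1 (hidx ▸ degree_dvd_index_abelian G A hA _ χ.2 _ (Block.ItoMichler.one_eq_cast χ))
  · have h1 : charDegree (χ : G → ℂ) ^ 2 ≤ p ^ 3 := hz ▸ degree_sq_le_center χ
    have h2 : charDegree (χ : G → ℂ) ∣ p ^ 3 := hz ▸ degree_dvd_index_abelian G (Subgroup.center G)
      (fun a ha b _ => ((Subgroup.mem_center_iff.1 ha) b).symm) _ χ.2 _ (Block.ItoMichler.one_eq_cast χ)
    obtain ⟨k, -, hk⟩ := (Nat.dvd_prime_pow hp).1 h2
    rw [hk, ← pow_mul] at h1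
    have := (Nat.pow_le_pow_iff_right hp.one_lt).1 h1
    rcases (show k = 0 ∨ k = 1 by omega) with rfl | rfl
    · exact Or.inl hk
    · exact Or.inr (hk.trans (pow_one p))

end CfsgLib.Char.TwoDegrees
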