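import Cfsg.Agent.Lib.Char.MTwelveOrder.Eleven
import Cfsg.Agent.Lib.Char.MEleven.Order.Nse

/-!
# A group with the order and the numbers of elements of each order of `M₁₂` is simple
-/

set_option autoImplicit false
set_option linter.all false

open Subgroup

namespace CfsgLib.Char.MTwelveNse

universe u

variable {G : Type u} [Group G] [Finite G]

open CfsgLib.Char.MEleven.Order (card_order_prime dvd_card_stable free_mod)

theorem fac_eleven : (95040 : ℕ).factorization 11 = 1 := by
  rw [show (95040 : ℕ) = 11 ^ 1 * 8640 by norm_num, Nat.factorization_mul (by norm_num) (by norm_num),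
    Nat.Prime.factorization_pow (by norm_num)]
  simp [Nat.factorization_eq_zero_of_not_dvd (show ¬ 11 ∣ 8640 by norm_num)]

theorem sylow_card (h : Nat.card G = 95040) [Fact (Nat.Prime 11)] (S : Sylow 11 G) :
    Nat.card (S : Subgroup G) = 11 := by
  rw [S.card_eq_multiplicity, h, fac_eleven, pow_one]

/-- The facts about elements of order eleven of a simple group of this order. -/
theorem simple_facts [IsSimpleGroup G] [Fact (Nat.Prime 11)] (h : Nat.card G = 95040) :
    Nat.card (Sylow 11 G) = 1728 ∧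
      ∀ y : G, orderOf y = 11 → Nat.card (centralizer ({y} : Set G)) = 11 := by
  classical
  haveI := Fintype.ofFinite G
  obtain ⟨P, hP, hC, hN, -⟩ := CfsgLib.Char.MTwelveOrder.eleven_data (G := G) h
  constructor
  · have e := card_mul_index (normalizer ((P : Subgroup G) : Set G))
    rw [hN, h, show (normalizer ((P : Subgroup G) : Set G)).index = Nat.card (Sylow 11 G) from
      P.card_eq_index_normalizer.symm] at e
    omega
  · intro y hy
    obtain ⟨S, hS⟩ := (IsPGroup.of_card (p := 11) (n := 1) (G := zpowers y)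
      (by rw [Nat.card_zpowers, hy, pow_one])).exists_le_sylow
    have hSe : zpowers y = (S : Subgroup G) :=
      eq_of_le_of_card_ge hS (by rw [sylow_card h S, Nat.card_zpowers, hy])
    obtain ⟨g, rfl⟩ := MulAction.exists_smul_eq G P S
    rw [← hC]
    have e : centralizer ({y} : Set G) = (centralizer ((P : Subgroup G) : Set G)).map (MulAut.conj g).toMonoidHom := by
      ext a
      rw [mem_centralizer_singleton_iff, Subgroup.mem_map]
      constructor
      · intro ha
        refine ⟨g⁻¹ * a * g, mem_centralizer_iff.2 fun b hb => ?_, by simp [MulAut.conj_apply]; group⟩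
        obtain ⟨k, hk⟩ : g * b * g⁻¹ ∈ zpowers y := hSe ▸ ⟨b, hb, rfl⟩
        have hc : Commute (g * b * g⁻¹) a := hk ▸ ((show Commute y a from ha.symm).zpow_left k)
        calc b * (g⁻¹ * a * g) = g⁻¹ * ((g * b * g⁻¹) * a) * g := by group
          _ = g⁻¹ * (a * (g * b * g⁻¹)) * g := by rw [hc.eq]
          _ = g⁻¹ * a * g * b := by group
      · rintro ⟨c, hc, rfl⟩
        have hy' : y ∈ ((g • P : Sylow 11 G) : Subgroup G) := hS (mem_zpowers y)
        obtain ⟨b, hb, rfl⟩ := hy'
        have := mem_centralizer_iff.1 hc b hb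
        show (MulAut.conj g) c * (MulAut.conj g) b = (MulAut.conj g) b * (MulAut.conj g) c
        rw [← map_mul, ← map_mul, this]
    rw [e, card_map_of_injective (MulAut.conj g).injective]

/-- In a simple group of this order every count other than that of order eleven is one or divisible
by eleven. -/
theorem counts [IsSimpleGroup G] (h : Nat.card G = 95040) (n : ℕ) :
    Nat.card {g : G // orderOf g = n} ≤ 1 ∨ 11 ∣ Nat.card {g : G // orderOf g = n} ∨
      Nat.card {g : G // orderOf g = n} = 17280 := by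
  haveI : Fact (Nat.Prime 11) := ⟨by norm_num⟩
  obtain ⟨hn, hc⟩ := simple_facts h
  by_cases h1 : n = 1
  · refine Or.inl (Finite.card_le_one_iff_subsingleton.2 ⟨fun a b => Subtype.ext ?_⟩)
    rw [orderOf_eq_one_iff.1 (a.2.trans h1), orderOf_eq_one_iff.1 (b.2.trans h1)]
  by_cases h11 : n = 11
  · refine Or.inr (Or.inr ?_)
    rw [h11, card_order_prime (sylow_card h), hn]
  refine Or.inr (Or.inl (dvd_card_stable (fun g x hx => ((MulAut.conj g).orderOf_eq x).trans hx) fun x hx => ?_))
  have e := card_mul_index (centralizer ({x} : Set G))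
  rw [h] at e
  by_contra hd
  have hd' : 11 ∣ Nat.card (centralizer ({x} : Set G)) :=
    ((by norm_num : Nat.Prime 11).dvd_mul.1 (Dvd.intro 8640 (by rw [e]; norm_num))).resolve_right hd
  obtain ⟨y, hy⟩ := exists_prime_orderOf_dvd_card' (G := centralizer ({x} : Set G)) 11 hd'
  have hxy : x ∈ centralizer ({(y : G)} : Set G) :=
    mem_centralizer_singleton_iff.2 (mem_centralizer_singleton_iff.1 y.2).symm
  have hord := Subgroup.orderOf_dvd_natCard _ hxy
  rw [hc _ ((Subgroup.orderOf_coe y).trans hy), hx] at hord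
  rcases (Nat.dvd_prime (by norm_num : Nat.Prime 11)).1 hord with e1 | e1
  · exact h1 e1
  · exact h11 e1

/-- A Sylow subgroup invariant under a coprime group of order eleven. -/
theorem exists_invariant {M P : Subgroup G} (hP : Nat.card P = 11) (hn : P ≤ normalizer (M : Set G))
    (h11 : ¬ 11 ∣ Nat.card M) (q : ℕ) [Fact q.Prime] :
    ∃ R : Subgroup G, R ≤ M ∧ P ≤ normalizer (R : Set G) ∧
      Nat.card R = q ^ (Nat.card M).factorization q := by
  classical
  haveI : Fact (Nat.Prime 11) := ⟨by norm_num⟩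
  have hPp : IsPGroup 11 P := IsPGroup.of_card (n := 1) (by rw [hP, pow_one])
  let φ : P →* MulAut M := (normalizerMonoidHom M).comp (Subgroup.inclusion hn)
  have hφ : ∀ (p : P) (m : M), ((φ p m : M) : G) = (p : G) * m * (p : G)⁻¹ := fun p m => rfl
  letI : MulAction P (Sylow q M) := MulAction.compHom _ φ
  have hnd : ¬ 11 ∣ Nat.card (Sylow q M) := by
    intro hd
    obtain ⟨R⟩ : Nonempty (Sylow q M) := inferInstance
    exact h11 ((hd.trans R.card_dvd_index).trans (Subgroup.index_dvd_card _))
  obtain ⟨R, hR⟩ := hPp.nonempty_fixed_point_of_prime_not_dvd_card (Sylow q M) hnd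
  have hstab : ∀ (p : P), ∀ r ∈ (R : Subgroup M), φ p r ∈ (R : Subgroup M) := by
    intro p r hr
    have e' : φ p • R = R := hR p
    rw [← e']
    exact ⟨r, hr, rfl⟩
  refine ⟨(R : Subgroup M).map M.subtype, map_subtype_le _, fun p hp => ?_,
    by rw [card_map_of_injective M.subtype_injective, R.card_eq_multiplicity]⟩
  refine mem_normalizer_iff.2 fun x => ⟨?_, ?_⟩
  · rintro ⟨r, hr, rfl⟩
    exact ⟨_, hstab ⟨p, hp⟩ r hr, hφ _ _⟩
  · rintro ⟨r, hr, e⟩
    refine ⟨_, hstab ⟨p, hp⟩⁻¹ r hr, ?_⟩
    show ((φ ⟨p, hp⟩⁻¹ r : M) : G) = x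
    rw [hφ]
    show p⁻¹ * (r : G) * p⁻¹⁻¹ = x
    rw [show (r : G) = p * x * p⁻¹ from e]
    group

/-- A subgroup of order prime to eleven normalised by a Sylow subgroup with normaliser of order 55. -/
theorem invariant_dvd_five (P : Subgroup G) (hP : Nat.card P = 11)
    (hN : Nat.card (normalizer (P : Set G)) = 55) (M : Subgroup G) (hn : P ≤ normalizer (M : Set G))
    (hM : Nat.card M ∣ 8640) : Nat.card M ∣ 5 := by
  have h11 : ¬ 11 ∣ Nat.card M := fun hd => by have := hd.trans hM; norm_num at this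
  have hpart : ∀ (q b : ℕ), q.Prime → q ≠ 5 → (∀ k ≤ b, q ^ k % 11 = 1 → k = 0) →
      (8640 : ℕ).factorization q ≤ b → (Nat.card M).factorization q = 0 := by
    intro q b hq hq5 hb hb'
    haveI : Fact q.Prime := ⟨hq⟩
    obtain ⟨R, hRM, hRn, hRc⟩ := exists_invariant hP hn h11 q
    refine hb _ (le_trans ((Nat.factorization_le_iff_dvd (Nat.card_pos).ne' (by norm_num)).2 hM q) hb') ?_
    rw [← hRc]
    refine free_mod hP hRn fun m hm hc => ?_
    have h55 := Subgroup.orderOf_dvd_natCard _
      (centralizer_le_normalizer _ (mem_centralizer_iff.2 hc) : m ∈ normalizer (P : Set G))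
    rw [hN] at h55
    have hqp := Subgroup.orderOf_dvd_natCard _ hm
    rw [hRc] at hqp
    obtain ⟨j, -, hj⟩ := (Nat.dvd_prime_pow hq).1 hqp
    rcases Nat.eq_zero_or_pos j with rfl | hj0
    · rwa [pow_zero, orderOf_eq_one_iff] at hj
    exfalso
    have hd : q ∣ 55 := (dvd_pow_self q hj0.ne').trans (hj ▸ h55)
    have hq' : q ∣ Nat.card M := (dvd_pow_self q hj0.ne').trans (hj ▸ Subgroup.orderOf_dvd_natCard _ (hRM hm))
    rcases hq.dvd_mul.1 (show q ∣ 5 * 11 from hd) with e | e
    · exact hq5 ((Nat.prime_dvd_prime_iff_eq hq (by norm_num)).1 e)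
    · exact h11 (((Nat.prime_dvd_prime_iff_eq hq (by norm_num)).1 e) ▸ hq')
  have h2 := hpart 2 6 Nat.prime_two (by norm_num) (by decide) (by decide +kernel)
  have h3 := hpart 3 3 Nat.prime_three (by norm_num) (by decide) (by decide +kernel)
  have n2 : ¬ 2 ∣ Nat.card M := fun hd =>
    absurd h2 (Nat.prime_two.factorization_pos_of_dvd Nat.card_pos.ne' hd).ne'
  have n3 : ¬ 3 ∣ Nat.card M := fun hd =>
    absurd h3 (Nat.prime_three.factorization_pos_of_dvd Nat.card_pos.ne' hd).ne'
  exact (Nat.Coprime.mul_right ((Nat.prime_two.coprime_iff_not_dvd.2 n2).symm.pow_right 6)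
    ((Nat.prime_three.coprime_iff_not_dvd.2 n3).symm.pow_right 3)).dvd_of_dvd_mul_left
      (show Nat.card M ∣ (2 ^ 6 * 3 ^ 3) * 5 from hM)

/-- No normal complement to a self-centralizing Sylow subgroup. -/
theorem not_complement (P : Subgroup G) (hP : Nat.card P = 11)
    (hN : Nat.card (normalizer (P : Set G)) = 55) (H : Subgroup G) [Fact (Nat.Prime 11)]
    (S : Sylow 11 H) (hS : (S : Subgroup H).map H.subtype = P)
    (hle : normalizer ((S : Subgroup H) : Set H) ≤ centralizer ((S : Subgroup H) : Set H))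
    {k : ℕ} (hk : k ∣ 8640) (hk5 : 5 < k) (hH : Nat.card H = 11 * k) : False := by
  obtain ⟨K, hKn, hKc'⟩ : ∃ K : Subgroup H, K.Normal ∧ Nat.card K = k := by
    refine ⟨(MonoidHom.transferSylow S hle).ker, MonoidHom.normal_ker _, ?_⟩
    have h1 := (MonoidHom.ker_transferSylow_isComplement' S hle).card_mul
    have hSc := hP
    rw [← hS, card_map_of_injective H.subtype_injective] at hSc
    rw [hSc, hH] at h1
    omega
  haveI := hKn
  have hKc : Nat.card (K.map H.subtype) = k := by
    rw [card_map_of_injective H.subtype_injective, hKc']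
  have hPH : P ≤ H := hS ▸ map_subtype_le _
  have hn : P ≤ normalizer ((K.map H.subtype : Subgroup G) : Set G) := by
    intro p hp
    refine mem_normalizer_iff.2 fun x => ⟨?_, ?_⟩
    · rintro ⟨c, hc, rfl⟩
      exact ⟨⟨p, hPH hp⟩ * c * ⟨p, hPH hp⟩⁻¹, Subgroup.Normal.conj_mem inferInstance c hc _, rfl⟩
    · rintro ⟨c, hc, e⟩
      refine ⟨⟨p, hPH hp⟩⁻¹ * c * ⟨p, hPH hp⟩⁻¹⁻¹, Subgroup.Normal.conj_mem inferInstance c hc _, ?_⟩
      show p⁻¹ * (c : G) * p⁻¹⁻¹ = x
      rw [show (c : G) = p * x * p⁻¹ from e]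
      group
  have h5 := Nat.le_of_dvd (by norm_num) (invariant_dvd_five P hP hN _ hn (hKc ▸ hk))
  omega

/-- Simplicity. -/
theorem simple_of_eleven (h : Nat.card G = 95040) [Fact (Nat.Prime 11)]
    (h11 : Nat.card (Sylow 11 G) = 1728) : IsSimpleGroup G := by
  classical
  haveI : Nontrivial G := Finite.one_lt_card_iff_nontrivial.1 (by rw [h]; norm_num)
  obtain ⟨P⟩ : Nonempty (Sylow 11 G) := inferInstance
  have hP := sylow_card h P
  have hN : Nat.card (normalizer ((P : Subgroup G) : Set G)) = 55 := by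
    have e := card_mul_index (normalizer ((P : Subgroup G) : Set G))
    rw [show (normalizer ((P : Subgroup G) : Set G)).index = Nat.card (Sylow 11 G) from
      P.card_eq_index_normalizer.symm, h11, h] at e
    omega
  refine ⟨fun N hNn => or_iff_not_imp_left.2 fun hbot => ?_⟩
  haveI := hNn
  have hN1 : 1 < Nat.card N := (Subgroup.one_lt_card_iff_ne_bot N).2 hbot
  have hNd : Nat.card N ∣ 95040 := h ▸ card_subgroup_dvd_card N
  by_cases h11N : 11 ∣ Nat.card N
  · have hPN : (P : Subgroup G) ≤ N := by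
      obtain ⟨y, hy⟩ := exists_prime_orderOf_dvd_card' (G := N) 11 h11N
      obtain ⟨S, hS⟩ := (IsPGroup.of_card (p := 11) (n := 1) (G := zpowers (y : G))
        (by rw [Nat.card_zpowers, Subgroup.orderOf_coe, hy, pow_one])).exists_le_sylow
      have hSe : zpowers (y : G) = (S : Subgroup G) :=
        eq_of_le_of_card_ge hS (by rw [sylow_card h, Nat.card_zpowers, Subgroup.orderOf_coe, hy])
      obtain ⟨g, rfl⟩ := MulAction.exists_smul_eq G S P
      rintro _ ⟨s, hs, rfl⟩
      exact hNn.conj_mem _ ((hSe ▸ zpowers_le.2 y.2 : (S : Subgroup G) ≤ N) hs) g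
    by_contra htop
    have hidx : N.index ∣ 55 := by
      have hsup : normalizer ((P : Sylow 11 G) : Set G) ⊔ N = ⊤ := by
        have h1 := Sylow.normalizer_sup_eq_top (P.subtype hPN)
        rw [Sylow.coe_subtype, Subgroup.map_subgroupOf_eq_of_le hPN] at h1
        exact h1
      rw [← relIndex_top_right N, ← hsup, sup_comm, Subgroup.relIndex_sup_left]
      exact (relIndex_dvd_card N (normalizer ((P : Sylow 11 G) : Set G))).trans hN.dvd
    have hNc : Nat.card N = 19008 := by
      have e := N.card_mul_index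
      rw [h] at e
      obtain ⟨a, ha⟩ := h11N
      have h55 : ∀ i < 56, i ∣ 55 → i = 1 ∨ i = 5 ∨ i = 11 ∨ i = 55 := by decide
      rcases h55 _ (Nat.lt_succ_of_le (Nat.le_of_dvd (by norm_num) hidx)) hidx with d | d | d | d
      · exact absurd (index_eq_one.1 d) htop
      · rw [d] at e; omega
      · rw [ha, d] at e; omega
      · rw [ha, d] at e; omega
    have hmap : ((P.subtype hPN : Sylow 11 N) : Subgroup N).map N.subtype = (P : Subgroup G) := by
      rw [Sylow.coe_subtype, Subgroup.map_subgroupOf_eq_of_le hPN]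
    set PN : Sylow 11 N := P.subtype hPN
    have hPNc : Nat.card (PN : Subgroup N) = 11 := by
      rw [← card_map_of_injective (f := N.subtype) N.subtype_injective, hmap, hP]
    refine not_complement _ hP hN N PN hmap ?_ (k := 1728) (by norm_num) (by norm_num) (by omega)
    have hd : Nat.card (normalizer ((PN : Subgroup N) : Set N)) ∣ 55 := by
      rw [← hN, ← card_map_of_injective (f := N.subtype) N.subtype_injective]
      refine card_dvd_of_le ?_
      rintro _ ⟨n, hn, rfl⟩
      refine mem_normalizer_iff.2 fun x => ⟨fun hx => ?_, fun hx => ?_⟩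
      · exact ((mem_normalizer_iff.1 hn ⟨x, hPN hx⟩).1 hx :)
      · have hxN : x ∈ N := by
          have h1 := N.mul_mem (N.mul_mem (N.inv_mem n.2) (hPN hx)) n.2
          simpa [mul_assoc] using h1
        exact ((mem_normalizer_iff.1 hn ⟨x, hxN⟩).2 hx :)
    have hd2 : Nat.card (normalizer ((PN : Subgroup N) : Set N)) ∣ 11 := by
      have h1 : Nat.card (normalizer ((PN : Subgroup N) : Set N)) ∣ 19008 := hNc ▸ card_subgroup_dvd_card _
      have h2 := Nat.dvd_gcd hd h1
      simpa using h2
    have he : normalizer ((PN : Subgroup N) : Set N) = (PN : Subgroup N) :=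
      (eq_of_le_of_card_ge le_normalizer (by rw [hPNc]; exact Nat.le_of_dvd (by norm_num) hd2)).symm
    rw [he]
    haveI : IsMulCommutative (PN : Subgroup N) := (isCyclic_of_prime_card hPNc).isMulCommutative
    exact le_centralizer _
  · exfalso
    have hN8 : Nat.card N ∣ 8640 :=
      ((by norm_num : Nat.Prime 11).coprime_iff_not_dvd.2 h11N).symm.dvd_of_dvd_mul_left
        (show Nat.card N ∣ 11 * 8640 from hNd)
    have hnorm : (P : Subgroup G) ≤ normalizer (N : Set G) := normalizer_eq_top (H := N) ▸ le_top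
    have h5 : Nat.card N = 5 := by
      rcases (Nat.dvd_prime (by norm_num : Nat.Prime 5)).1 (invariant_dvd_five _ hP hN N hnorm hN8) with e | e
      · omega
      · exact e
    obtain ⟨m, hmN, hmc, hm1⟩ : ∃ m ∈ N, (∀ p ∈ (P : Subgroup G), p * m = m * p) ∧ m ≠ 1 := by
      by_contra hno
      push Not at hno
      have := free_mod hP hnorm hno
      rw [h5] at this
      norm_num at this
    haveI : Fact (Nat.Prime 5) := ⟨by norm_num⟩
    have hm5 : orderOf m = 5 := by
      rcases (Nat.dvd_prime (by norm_num : Nat.Prime 5)).1 (h5 ▸ Subgroup.orderOf_dvd_natCard N hmN) with e | e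
      · exact absurd (orderOf_eq_one_iff.1 e) hm1
      · exact e
    set C := centralizer ((P : Subgroup G) : Set G)
    haveI : IsMulCommutative (P : Subgroup G) := (isCyclic_of_prime_card hP).isMulCommutative
    have hC55 : Nat.card C = 55 := by
      refine Nat.dvd_antisymm (hN ▸ card_dvd_of_le (centralizer_le_normalizer _)) ?_
      refine Nat.Coprime.mul_dvd_of_dvd_of_dvd (m := 11) (n := 5) (by norm_num) ?_ ?_
      · exact hP ▸ card_dvd_of_le (le_centralizer _)
      · exact hm5 ▸ Subgroup.orderOf_dvd_natCard C (mem_centralizer_iff.2 hmc)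
    have hle : normalizer ((P : Subgroup G) : Set G) ≤ C :=
      (eq_of_le_of_card_ge (centralizer_le_normalizer _) (by rw [hN, hC55])).ge
    obtain ⟨K, hKn, hK⟩ : ∃ K : Subgroup G, K.Normal ∧ Nat.card K = 8640 := by
      refine ⟨(MonoidHom.transferSylow P hle).ker, MonoidHom.normal_ker _, ?_⟩
      have h1 := (MonoidHom.ker_transferSylow_isComplement' P hle).card_mul
      rw [hP, h] at h1
      omega
    haveI := hKn
    have := invariant_dvd_five _ hP hN K (normalizer_eq_top (H := K) ▸ le_top) (hK ▸ dvd_rfl)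
    rw [hK] at this
    norm_num at this

/-- A group with the same counts as a simple group of this order is simple. -/
theorem simple_of_nse {H : Type*} [Group H] [Finite H] [IsSimpleGroup H] (hH : Nat.card H = 95040)
    (h : Nat.card G = 95040)
    (hnse : {c : ℕ | 0 < c ∧ ∃ n : ℕ, c = Nat.card {g : G // orderOf g = n}} =
      {c : ℕ | 0 < c ∧ ∃ n : ℕ, c = Nat.card {g : H // orderOf g = n}}) :
    IsSimpleGroup G := by
  haveI : Fact (Nat.Prime 11) := ⟨by norm_num⟩
  refine simple_of_eleven h ?_
  obtain ⟨S⟩ : Nonempty (Sylow 11 G) := inferInstance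
  have hmem : Nat.card (Sylow 11 G) * (11 - 1) ∈ {c : ℕ | 0 < c ∧ ∃ n : ℕ, c = Nat.card {g : G // orderOf g = n}} :=
    ⟨Nat.mul_pos Nat.card_pos (by norm_num), 11, (card_order_prime (sylow_card h)).symm⟩
  rw [hnse] at hmem
  obtain ⟨-, n, hn⟩ := hmem
  have hmod := card_sylow_modEq_one 11 G
  have hmod' : Nat.card (Sylow 11 G) % 11 = 1 := hmod
  rcases counts hH n with e | ⟨k, hk⟩ | e
  · rw [← hn] at e; omega
  · rw [← hn] at hk; omega
  · rw [← hn] at e; omega

end CfsgLib.Char.MTwelveNse
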