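import Cfsg.Agent.Lib.Char.MTwentyTwoNse
import Cfsg.Agent.Lib.Spor.OuterAut
import Cfsg.Agent.Lib.Spor.JFourType.Facts22

/-!
# `M₂₂` by its order and element counts, from its recognition by order
-/

set_option autoImplicit false
set_option linter.all false

namespace CfsgLib.Char.MTwentyTwoNse

universe u

/-- The reduction to the recognition of the simple group by its order. -/
theorem iso_of_nse
    (hiso : ∀ (X : Type u) [Group X] [Finite X] [IsSimpleGroup X], Nat.card X = 443520 → Cfsg.Spor.IsoM22 X)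
    {G : Type u} [Group G] [Finite G] (hcard : Nat.card G = Nat.card ↥Cfsg.Spor.M22)
    (hnse : {c : ℕ | 0 < c ∧ ∃ n : ℕ, c = Nat.card {g : G // orderOf g = n}} =
      {c : ℕ | 0 < c ∧ ∃ n : ℕ, c = Nat.card {g : ↥Cfsg.Spor.M22 // orderOf g = n}}) :
    Nonempty (G ≃* ↥Cfsg.Spor.M22) := by
  haveI := CfsgLib.Spor.JFourType.isSimpleGroup_M22'
  have hM : Nat.card ↥Cfsg.Spor.M22 = 443520 := CfsgLib.Spor.OuterAut.card_M22
  haveI : IsSimpleGroup G := simple_of_nse (H := ↥Cfsg.Spor.M22) hM (hcard.trans hM) hnse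
  exact hiso G (hcard.trans hM)

end CfsgLib.Char.MTwentyTwoNse
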