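/-
Primitive groups with a Jordan set of at most half the points are triply transitive, and contain
the alternating group if the set has less than half the points (Marggraff).  The transitivity is
raised one step at a time by counting the translates of the Jordan set by their trace on a set
of `j + 1` points: if none met it in exactly one point some count would be negative.
-/
import Mathlib.GroupTheory.GroupAction.Jordan
import Mathlib.GroupTheory.SpecificGroups.Alternating
import Mathlib.Tactic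

set_option autoImplicit false

open MulAction Equiv
open scoped Pointwise

namespace CfsgLib.Char.Marggraff

theorem descFactorial_strict {a b k : ℕ} (hab : a < b) (hk : 1 ≤ k) (hkb : k ≤ b) :
    a.descFactorial k < b.descFactorial k := by
  induction k with
  | zero => omega
  | succ k ih =>
    rcases Nat.eq_zero_or_pos k with rfl | hk'
    · simpa using hab
    rw [Nat.descFactorial_succ, Nat.descFactorial_succ]
    exact Nat.mul_lt_mul_of_le_of_lt (by omega) (ih hk' (by omega)) (by omega)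

theorem cast_descFactorial_succ (a k : ℕ) :
    ((a.descFactorial (k + 1) : ℕ) : ℤ) = ((a : ℤ) - k) * (a.descFactorial k : ℕ) := by
  rw [Nat.descFactorial_succ]
  rcases Nat.lt_or_ge a k with h | h
  · simp [Nat.descFactorial_eq_zero_iff_lt.2 h]
  · push_cast [Nat.cast_sub h]
    ring

variable {G Ω : Type*} [Group G] [Fintype G] [MulAction G Ω] [Fintype Ω] [DecidableEq Ω]

/-- The elements with trace `A` of the preimage of `Γ` on `S`. -/
def Cn (Γ S A : Finset Ω) : Finset G := Finset.univ.filter fun g => ∀ s ∈ S, (g • s ∈ Γ ↔ s ∈ A)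

theorem mem_Cn {Γ S A : Finset Ω} {g : G} :
    g ∈ (Cn Γ S A : Finset G) ↔ ∀ s ∈ S, (g • s ∈ Γ ↔ s ∈ A) := by
  simp [Cn]

theorem cn_split (Γ S A : Finset Ω) {x : Ω} (hx : x ∉ S) (hA : A ⊆ S) :
    (Cn Γ (insert x S) (insert x A) : Finset G).card + (Cn Γ (insert x S) A : Finset G).card =
      (Cn Γ S A : Finset G).card := by
  classical
  have hxA : x ∉ A := fun h => hx (hA h)
  rw [← Finset.card_filter_add_card_filter_not (s := (Cn Γ S A : Finset G)) fun g => g • x ∈ Γ]
  congr 2 <;>
  · ext g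
    rw [mem_Cn, Finset.mem_filter, mem_Cn, Finset.forall_mem_insert]
    simp only [Finset.mem_insert, true_or, iff_true, hxA, iff_false]
    constructor
    · rintro ⟨h1, h2⟩
      refine ⟨fun s hs => ?_, h1⟩
      have : s ≠ x := fun e => hx (e ▸ hs)
      simpa [this] using h2 s hs
    · rintro ⟨h1, h2⟩
      refine ⟨h2, fun s hs => ?_⟩
      have : s ≠ x := fun e => hx (e ▸ hs)
      simpa [this] using h1 s hs

omit [Fintype G] in
theorem exists_fixing {j : ℕ} [IsMultiplyPretransitive G Ω j] {S : Finset Ω} (hS : S.card + 1 ≤ j)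
    (hj : j ≤ Fintype.card Ω) {x w : Ω} (hx : x ∉ S) (hw : w ∉ S) :
    ∃ g : G, (∀ s ∈ S, g • s = s) ∧ g • x = w := by
  classical
  haveI : IsMultiplyPretransitive G Ω (S.card + 1) :=
    isMultiplyPretransitive_of_le' hS (by simpa using hj)
  let e : Fin S.card → Ω := fun i => (S.equivFin.symm i : Ω)
  have he : Function.Injective e := fun a b h => S.equivFin.symm.injective (Subtype.ext h)
  have hsn : ∀ z, z ∉ S → Function.Injective (Fin.snoc e z : Fin (S.card + 1) → Ω) := fun z hz =>
    Fin.snoc_injective_iff.2 ⟨he, fun ⟨i, hi⟩ => hz (hi ▸ (S.equivFin.symm i).2)⟩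
  obtain ⟨g, hg⟩ := MulAction.exists_smul_eq G (⟨_, hsn x hx⟩ : Fin (S.card + 1) ↪ Ω) ⟨_, hsn w hw⟩
  have hg' : ∀ i, g • (Fin.snoc e x : Fin (S.card + 1) → Ω) i = (Fin.snoc e w : Fin (S.card + 1) → Ω) i :=
    fun i => congrArg (fun f : Fin (S.card + 1) ↪ Ω => f i) hg
  refine ⟨g, fun s hs => ?_, by simpa using hg' (Fin.last _)⟩
  simpa [e] using hg' (S.equivFin ⟨s, hs⟩).castSucc

theorem cn_insert {j : ℕ} [IsMultiplyPretransitive G Ω j] (Γ : Finset Ω) {S A : Finset Ω}
    (hS : S.card + 1 ≤ j) (hj : j ≤ Fintype.card Ω) {x : Ω} (hx : x ∉ S) (hA : A ⊆ S) :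
    (((Fintype.card Ω : ℤ)) - S.card) * (Cn Γ (insert x S) (insert x A) : Finset G).card =
      ((Γ.card : ℤ) - A.card) * (Cn Γ S A : Finset G).card := by
  classical
  have hxA : x ∉ A := fun h => hx (hA h)
  have hconst : ∀ w ∈ Sᶜ, ((Cn Γ S A : Finset G).filter fun g => g • w ∈ Γ).card =
      (Cn Γ (insert x S) (insert x A) : Finset G).card := by
    intro w hw
    obtain ⟨h, hh, hxw⟩ := exists_fixing (G := G) hS hj hx (Finset.mem_compl.1 hw)
    refine Finset.card_equiv (Equiv.mulRight h) fun g => ?_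
    rw [Finset.mem_filter, mem_Cn, mem_Cn, Finset.forall_mem_insert]
    simp only [Equiv.coe_mulRight, mul_smul, hxw, Finset.mem_insert, true_or, iff_true]
    constructor
    · rintro ⟨h1, h2⟩
      refine ⟨h2, fun s hs => ?_⟩
      have : s ≠ x := fun e => hx (e ▸ hs)
      rw [hh s hs]
      simpa [this] using h1 s hs
    · rintro ⟨h1, h2⟩
      refine ⟨fun s hs => ?_, h1⟩
      have : s ≠ x := fun e => hx (e ▸ hs)
      have h3 := h2 s hs
      rw [hh s hs] at h3
      simpa [this] using h3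
  have hrow : ∀ g ∈ (Cn Γ S A : Finset G),
      ((Sᶜ.filter fun w => g • w ∈ Γ).card : ℤ) = (Γ.card : ℤ) - A.card := by
    intro g hg
    rw [mem_Cn] at hg
    have h1 : (Finset.univ.filter fun w => g • w ∈ Γ).card = Γ.card :=
      Finset.card_equiv (MulAction.toPerm g) fun w => by simp
    have h2 : S.filter (fun w => g • w ∈ Γ) = A := by
      ext w
      simp only [Finset.mem_filter]
      exact ⟨fun h => (hg w h.1).1 h.2, fun h => ⟨hA h, (hg w (hA h)).2 h⟩⟩
    have h3 : (Finset.univ.filter fun w => g • w ∈ Γ).card =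
        (S.filter fun w => g • w ∈ Γ).card + (Sᶜ.filter fun w => g • w ∈ Γ).card := by
      rw [← Finset.card_union_of_disjoint, ← Finset.filter_union, Finset.union_compl]
      exact Finset.disjoint_filter_filter disjoint_compl_right
    rw [h1, h2] at h3
    omega
  have key : ∑ w ∈ Sᶜ, (((Cn Γ S A : Finset G).filter fun g => g • w ∈ Γ).card : ℤ) =
      ∑ g ∈ (Cn Γ S A : Finset G), ((Sᶜ.filter fun w => g • w ∈ Γ).card : ℤ) := by
    simp only [Finset.card_filter, Nat.cast_sum]
    exact Finset.sum_comm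
  rw [Finset.sum_congr rfl fun w hw => by rw [hconst w hw], Finset.sum_congr rfl hrow,
    Finset.sum_const, Finset.sum_const, Finset.card_compl, nsmul_eq_mul, nsmul_eq_mul,
    Nat.cast_sub (Finset.card_le_univ S)] at key
  rw [key]
  ring

theorem cn_formula {j : ℕ} [IsMultiplyPretransitive G Ω j] (Γ : Finset Ω) (hj : j ≤ Fintype.card Ω)
    {N : ℕ} (hN : Γ.card + N = Fintype.card Ω) (S : Finset Ω) :
    ∀ A ⊆ S, S.card ≤ j → ((Cn Γ S A : Finset G).card : ℤ) * ((Fintype.card Ω).descFactorial S.card : ℕ)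
      = (Fintype.card G : ℤ) * (Γ.card.descFactorial A.card : ℕ) *
        (N.descFactorial (S.card - A.card) : ℕ) := by
  classical
  induction S using Finset.induction_on with
  | empty =>
    intro A hA _
    obtain rfl : A = ∅ := Finset.subset_empty.1 hA
    simp [Cn]
  | @insert x S hx ih =>
    intro A hA hcard
    rw [Finset.card_insert_of_notMem hx] at hcard ⊢
    have hA' : A.erase x ⊆ S := fun z hz =>
      (Finset.mem_insert.1 (hA (Finset.mem_of_mem_erase hz))).resolve_left (Finset.ne_of_mem_erase hz)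
    have hle := Finset.card_le_card hA'
    have h1 := ih (A.erase x) hA' (by omega)
    have h2 := cn_insert (G := G) Γ hcard hj hx hA'
    have hN' : (Γ.card : ℤ) + N = Fintype.card Ω := by exact_mod_cast hN
    by_cases hxA : x ∈ A
    · rw [← Finset.card_erase_add_one hxA, cast_descFactorial_succ, cast_descFactorial_succ,
        show S.card + 1 - ((A.erase x).card + 1) = S.card - (A.erase x).card by omega]
      rw [Finset.insert_erase hxA] at h2
      linear_combination ((Γ.card : ℤ) - (A.erase x).card) * h1 +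
        ((Fintype.card Ω).descFactorial S.card : ℤ) * h2
    · rw [Finset.erase_eq_of_notMem hxA] at hA' h1 h2 hle
      have h3 : ((Cn Γ (insert x S) (insert x A) : Finset G).card : ℤ) +
          (Cn Γ (insert x S) A : Finset G).card = (Cn Γ S A : Finset G).card := by
        exact_mod_cast cn_split (G := G) Γ S A hx hA'
      rw [cast_descFactorial_succ, show S.card + 1 - A.card = (S.card - A.card) + 1 by omega,
        cast_descFactorial_succ, Nat.cast_sub hle]
      linear_combination ((N : ℤ) - (S.card - A.card)) * h1 +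
        ((Fintype.card Ω).descFactorial S.card : ℤ) * ((Fintype.card Ω : ℤ) - S.card) * h3 -
        ((Fintype.card Ω).descFactorial S.card : ℤ) * h2 -
        ((Cn Γ S A : Finset G).card : ℤ) * ((Fintype.card Ω).descFactorial S.card : ℤ) * hN'

/-- Some translate of `Γ` meets a given set of `j + 1` points in a single point. -/
theorem exists_single {j : ℕ} [IsMultiplyPretransitive G Ω j] (Γ : Finset Ω) (hj2 : 2 ≤ j)
    (hjm : j ≤ Γ.card) {N : ℕ} (hN : Γ.card + N = Fintype.card Ω) (hmN : Γ.card ≤ N)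
    (hodd : Odd j → Γ.card < N) {S : Finset Ω} (hS : S.card = j + 1) :
    ∃ x ∈ S, ∃ g : G, g • x ∈ Γ ∧ ∀ y ∈ S, y ≠ x → g • y ∉ Γ := by
  classical
  by_contra hno
  have hj : j ≤ Fintype.card Ω := by omega
  set n := Fintype.card Ω with hn
  set m := Γ.card with hm
  let h : ℕ → ℤ := fun i => (m.descFactorial i : ℕ) * (N.descFactorial (j + 1 - i) : ℕ)
  have key : ∀ i, 1 ≤ i → ∀ A ⊆ S, A.card = i →
      ((Cn Γ S A : Finset G).card : ℤ) * (n.descFactorial (j + 1) : ℕ) =
        (Fintype.card G : ℤ) * (h i + (-1) ^ i * h 1) := by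
    intro i
    induction i with
    | zero => omega
    | succ i ih =>
      intro _ A hA hcard
      rcases Nat.eq_zero_or_pos i with rfl | hi
      · obtain ⟨x, rfl⟩ := Finset.card_eq_one.1 hcard
        have hz : (Cn Γ S {x} : Finset G) = ∅ := by
          refine Finset.eq_empty_of_forall_notMem fun g hg => hno ⟨x, by simpa using hA, g, ?_, ?_⟩
          · exact ((mem_Cn.1 hg) x (by simpa using hA)).2 (by simp)
          · intro y hy hne hy'
            exact hne (by simpa using ((mem_Cn.1 hg) y hy).1 hy')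
        rw [hz]
        simp
      obtain ⟨x, hx⟩ : A.Nonempty := Finset.card_pos.1 (by omega)
      have hxS := hA hx
      have hA' : A.erase x ⊆ S.erase x := Finset.erase_subset_erase x hA
      have hAe : (A.erase x).card = i := by rw [Finset.card_erase_of_mem hx]; omega
      have hSe : (S.erase x).card = j := by rw [Finset.card_erase_of_mem hxS]; omega
      have h1 := ih hi (A.erase x) ((Finset.erase_subset x A).trans hA) hAe
      have h2 := cn_split (G := G) Γ (S.erase x) (A.erase x) (Finset.notMem_erase x S) hA'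
      rw [Finset.insert_erase hxS, Finset.insert_erase hx] at h2
      have h2' : ((Cn Γ S A : Finset G).card : ℤ) + (Cn Γ S (A.erase x) : Finset G).card =
          (Cn Γ (S.erase x) (A.erase x) : Finset G).card := by exact_mod_cast h2
      have h3 := cn_formula (G := G) (j := j) Γ hj hN (S.erase x) (A.erase x) hA' hSe.le
      rw [hSe, hAe] at h3
      have hij : i + 1 ≤ j + 1 := hcard ▸ hS ▸ Finset.card_le_card hA
      have hN' : (m : ℤ) + N = n := by exact_mod_cast hN
      have hrec : h i + h (i + 1) =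
          ((n : ℤ) - j) * ((m.descFactorial i : ℕ) * (N.descFactorial (j - i) : ℕ)) := by
        simp only [h]
        rw [show j + 1 - i = (j - i) + 1 by omega, show j + 1 - (i + 1) = j - i by omega,
          cast_descFactorial_succ, cast_descFactorial_succ, Nat.cast_sub (by omega : i ≤ j)]
        linear_combination ((m.descFactorial i : ℤ) * (N.descFactorial (j - i) : ℤ)) * hN'
      rw [cast_descFactorial_succ] at h1 ⊢
      rw [pow_succ]
      linear_combination ((n : ℤ) - j) * (n.descFactorial j : ℤ) * h2' + ((n : ℤ) - j) * h3 - h1 -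
        (Fintype.card G : ℤ) * hrec
  have hG : (0 : ℤ) < Fintype.card G := by exact_mod_cast Fintype.card_pos
  have bad : ∀ i, 1 ≤ i → i ≤ j + 1 → Odd i → h i < h 1 → False := by
    intro i hi1 hi2 hio hlt
    obtain ⟨A, hA, hAc⟩ := Finset.exists_subset_card_eq (s := S) (n := i) (by omega)
    have h1 := key i hi1 A hA hAc
    rw [hio.neg_one_pow, neg_one_mul] at h1
    have h2 : (0 : ℤ) ≤ ((Cn Γ S A : Finset G).card : ℤ) * (n.descFactorial (j + 1) : ℕ) := by
      positivity
    rw [h1] at h2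
    nlinarith
  rcases Nat.even_or_odd j with he | ho
  · refine bad (j + 1) (by omega) le_rfl he.add_one ?_
    simp only [h, Nat.sub_self, Nat.descFactorial_zero, Nat.cast_one, mul_one,
      show j + 1 - 1 = j by omega, Nat.descFactorial_one]
    have h1 : (m - 1).descFactorial j < N.descFactorial j :=
      descFactorial_strict (by omega) (by omega) (by omega)
    have h2 : m.descFactorial (j + 1) < m * N.descFactorial j := by
      obtain ⟨m', hm'⟩ := Nat.exists_eq_add_of_le (show 1 ≤ m by omega)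
      rw [hm', add_comm 1 m', Nat.succ_descFactorial_succ]
      rw [hm', Nat.add_sub_cancel_left] at h1
      exact Nat.mul_lt_mul_of_pos_left h1 (by omega)
    exact_mod_cast h2
  · refine bad j (by omega) (by omega) ho ?_
    have hlt := hodd ho
    simp only [h, show j + 1 - j = 1 by omega, show j + 1 - 1 = j by omega, Nat.descFactorial_one]
    have h1 : (m - 1).descFactorial (j - 1) < (N - 1).descFactorial (j - 1) :=
      descFactorial_strict (by omega) (by omega) (by omega)
    have e : ∀ a, 1 ≤ a → a.descFactorial j = a * (a - 1).descFactorial (j - 1) := by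
      intro a ha
      obtain ⟨a', rfl⟩ := Nat.exists_eq_add_of_le ha
      obtain ⟨j', rfl⟩ := Nat.exists_eq_add_of_le (show 1 ≤ j by omega)
      rw [add_comm 1 a', add_comm 1 j', Nat.succ_descFactorial_succ]
      simp
    have h2 : m.descFactorial j * N < m * N.descFactorial j := by
      rw [e m (by omega), e N (by omega)]
      calc m * (m - 1).descFactorial (j - 1) * N = (m * N) * (m - 1).descFactorial (j - 1) := by ring
        _ < (m * N) * (N - 1).descFactorial (j - 1) :=
          Nat.mul_lt_mul_of_pos_left h1 (Nat.mul_pos (by omega) (by omega))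
        _ = m * (N * (N - 1).descFactorial (j - 1)) := by ring
    exact_mod_cast h2

omit [Fintype G] [DecidableEq Ω] [Fintype Ω] in
/-- `U` is a Jordan set. -/
def IsJ (G : Type*) [Group G] [MulAction G Ω] (U : Finset Ω) : Prop :=
  ∀ x ∈ U, ∀ y ∈ U, ∃ g : G, (∀ z, z ∉ U → g • z = z) ∧ g • x = y

omit [Fintype G] [Fintype Ω] in
theorem IsJ.union {U T : Finset Ω} (hU : IsJ G U) (hT : IsJ G T) {c : Ω} (hc : c ∈ U) (hc' : c ∈ T) :
    IsJ G (U ∪ T) := by
  have to_c : ∀ x ∈ U ∪ T, ∃ g : G, (∀ z, z ∉ U ∪ T → g • z = z) ∧ g • x = c := by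
    intro x hx
    rcases Finset.mem_union.1 hx with h | h
    · obtain ⟨g, hg, e⟩ := hU x h c hc
      exact ⟨g, fun z hz => hg z fun h' => hz (Finset.mem_union_left _ h'), e⟩
    · obtain ⟨g, hg, e⟩ := hT x h c hc'
      exact ⟨g, fun z hz => hg z fun h' => hz (Finset.mem_union_right _ h'), e⟩
  intro x hx y hy
  obtain ⟨g, hg, e⟩ := to_c x hx
  obtain ⟨g', hg', e'⟩ := to_c y hy
  refine ⟨g'⁻¹ * g, fun z hz => ?_, ?_⟩
  · rw [mul_smul, hg z hz, inv_smul_eq_iff, hg' z hz]
  · rw [mul_smul, e, inv_smul_eq_iff, e']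

omit [Fintype G] in
theorem IsJ.preimage {Γ : Finset Ω} (h : IsJ G Γ) (k : G) :
    IsJ G (Finset.univ.filter fun w => k • w ∈ Γ) := by
  intro x hx y hy
  simp only [Finset.mem_filter, Finset.mem_univ, true_and] at hx hy
  obtain ⟨g, hg, e⟩ := h _ hx _ hy
  refine ⟨k⁻¹ * g * k, fun z hz => ?_, ?_⟩
  · simp only [Finset.mem_filter, Finset.mem_univ, true_and] at hz
    rw [mul_smul, mul_smul, hg _ hz, inv_smul_smul]
  · rw [mul_smul, mul_smul, e, inv_smul_smul]

omit [Fintype G] [Fintype Ω] [DecidableEq Ω] in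
theorem smul_mem_of_fixes {Γ : Finset Ω} {h : G} (hh : ∀ z, z ∉ Γ → h • z = z) {z : Ω} (hz : z ∈ Γ) :
    h • z ∈ Γ := by
  by_contra hn
  have e : h • z = z := MulAction.injective h (hh _ hn)
  rw [e] at hn
  exact hn hz

omit [Fintype G] in
/-- In a primitive group some translate of `Γ` crosses any given proper superset. -/
theorem exists_crossing [hp : IsPreprimitive G Ω] {Γ U : Finset Ω} (hΓ : 1 < Γ.card) (hΓU : Γ ⊆ U)
    (hU : U ≠ Finset.univ) :
    ∃ g : G, (∃ w, g • w ∈ Γ ∧ w ∈ U) ∧ ∃ w, g • w ∈ Γ ∧ w ∉ U := by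
  classical
  by_contra hno
  let Sep : Set Ω → Prop := fun V => ∀ g : G, ∀ v w, g • v ∈ Γ → g • w ∈ Γ → v ∈ V → w ∈ V
  have hSU : Sep (U : Set Ω) := by
    intro g v w hv hw hvU
    by_contra hwU
    exact hno ⟨g, ⟨v, hv, hvU⟩, ⟨w, hw, hwU⟩⟩
  have hSg : ∀ {V : Set Ω}, Sep V → ∀ k : G, Sep (k • V) := by
    intro V hV k g v w hv hw hvV
    rw [Set.mem_smul_set_iff_inv_smul_mem] at hvV ⊢
    exact hV (g * k) _ _ (by rwa [mul_smul, smul_inv_smul]) (by rwa [mul_smul, smul_inv_smul]) hvV
  obtain ⟨a, ha, b, hb, hab⟩ := Finset.one_lt_card.1 hΓ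
  let B : Set Ω := {y | ∀ V, Sep V → (y ∈ V ↔ a ∈ V)}
  have haB : a ∈ B := fun _ _ => Iff.rfl
  have hmem : ∀ (k : G) (y : Ω), y ∈ k • B ↔ ∀ V, Sep V → (y ∈ V ↔ k • a ∈ V) := by
    intro k y
    rw [Set.mem_smul_set_iff_inv_smul_mem]
    constructor
    · intro h V hV
      have := h (k⁻¹ • V) (hSg hV k⁻¹)
      rwa [Set.smul_mem_smul_set_iff, Set.mem_inv_smul_set_iff] at this
    · intro h V hV
      have := h (k • V) (hSg hV k)
      rwa [Set.smul_mem_smul_set_iff, Set.mem_smul_set_iff_inv_smul_mem] at this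
  have hB : IsBlock G B := by
    rw [isBlock_iff_smul_eq_of_nonempty]
    rintro k ⟨y, hy1, hy2⟩
    ext z
    rw [hmem]
    constructor
    · intro h V hV
      rw [h V hV, ← (hmem k y).1 hy1 V hV, hy2 V hV]
    · intro h V hV
      rw [h V hV, ← hy2 V hV, (hmem k y).1 hy1 V hV]
  rcases hp.isTrivialBlock_of_isBlock hB with h | h
  · refine hab (h haB ?_)
    intro V hV
    exact ⟨fun h => hV 1 b a (by simpa) (by simpa) h, fun h => hV 1 a b (by simpa) (by simpa) h⟩
  · obtain ⟨z, hz⟩ : ∃ z, z ∉ U := by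
      by_contra hh
      exact hU (Finset.eq_univ_of_forall fun z => by_contra fun e => hh ⟨z, e⟩)
    exact hz (((h ▸ Set.mem_univ z : z ∈ B) (U : Set Ω) hSU).2 (hΓU ha))

omit [Fintype G] in
theorem succ_transitive_of_jordan {j : ℕ} [IsMultiplyPretransitive G Ω j] {U : Finset Ω}
    (hU : IsJ G U) (hc : Uᶜ.card = j) : IsMultiplyPretransitive G Ω (j + 1) := by
  classical
  let e : Fin j ↪ Ω := ⟨fun i => ((Uᶜ).equivFin.symm (i.cast hc.symm) : Ω), fun a b h => by
    simpa using (Uᶜ).equivFin.symm.injective (Subtype.ext h)⟩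
  have he : ∀ z, z ∉ U → ∃ i, e i = z := fun z hz =>
    ⟨((Uᶜ).equivFin ⟨z, Finset.mem_compl.2 hz⟩).cast hc, by
      show (((Uᶜ).equivFin.symm ((((Uᶜ).equivFin ⟨z, Finset.mem_compl.2 hz⟩).cast hc).cast hc.symm)) : Ω) = z
      simp⟩
  have heU : ∀ i, e i ∉ U := fun i => Finset.mem_compl.1 ((Uᶜ).equivFin.symm (i.cast hc.symm)).2
  have hred : ∀ a : Fin (j + 1) ↪ Ω, ∃ g : G, (∀ i : Fin j, g • a i.castSucc = e i) ∧
      g • a (Fin.last j) ∈ U := by
    intro a
    obtain ⟨g, hg⟩ := MulAction.exists_smul_eq G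
      (⟨fun i => a i.castSucc, fun p q h => Fin.castSucc_injective _ (a.injective h)⟩ : Fin j ↪ Ω) e
    have hg' : ∀ i : Fin j, g • a i.castSucc = e i :=
      fun i => congrArg (fun f : Fin j ↪ Ω => f i) hg
    refine ⟨g, hg', by_contra fun h => ?_⟩
    obtain ⟨i, hi⟩ := he _ h
    exact (Fin.castSucc_lt_last i).ne (a.injective (MulAction.injective g ((hg' i).trans hi)))
  refine ⟨fun a b => ?_⟩
  obtain ⟨g₁, h1, h1'⟩ := hred a
  obtain ⟨g₂, h2, h2'⟩ := hred b
  obtain ⟨u, hu, hu'⟩ := hU _ h1' _ h2'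
  refine ⟨g₂⁻¹ * u * g₁, ?_⟩
  ext i
  show (g₂⁻¹ * u * g₁) • a i = b i
  rw [mul_smul, mul_smul, inv_smul_eq_iff]
  refine Fin.lastCases ?_ (fun i => ?_) i
  · exact hu'
  · rw [h1, hu _ (heU i), h2]

/-- Transitivity increases by one. -/
theorem succ_transitive [IsPreprimitive G Ω] {Γ : Finset Ω} (hJ : IsJ G Γ) {j : ℕ} (hj2 : 2 ≤ j)
    (hjm : j ≤ Γ.card) (hmN : 2 * Γ.card ≤ Fintype.card Ω)
    (hodd : Odd j → 2 * Γ.card < Fintype.card Ω) [IsMultiplyPretransitive G Ω j] :
    IsMultiplyPretransitive G Ω (j + 1) := by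
  classical
  obtain ⟨N, hN⟩ : ∃ N, Γ.card + N = Fintype.card Ω := ⟨Fintype.card Ω - Γ.card, by omega⟩
  have hex : ∃ k, ∃ U : Finset Ω, IsJ G U ∧ Γ ⊆ U ∧ Uᶜ.card = k ∧ j ≤ k :=
    ⟨N, Γ, hJ, subset_rfl, by rw [Finset.card_compl]; omega, by omega⟩
  obtain ⟨U, hU, hΓU, hk, hjk⟩ := Nat.find_spec hex
  rcases hjk.eq_or_lt with e | hlt
  · exact succ_transitive_of_jordan hU (hk.trans e.symm)
  exfalso
  have step : ∀ (g : G) (T : Finset Ω), T = (Finset.univ.filter fun w => g • w ∈ Γ) →
      (∃ c, c ∈ U ∧ c ∈ T) → (∃ c, c ∈ T ∧ c ∉ U) → j ≤ (Uᶜ \ T).card → False := by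
    rintro g T rfl ⟨c, hcU, hcT⟩ ⟨d, hdT, hdU⟩ hle
    set T := Finset.univ.filter fun w => g • w ∈ Γ
    have hc : (U ∪ T)ᶜ = Uᶜ \ T := by ext z; simp [not_or]
    refine Nat.find_min hex (m := (Uᶜ \ T).card) ?_
      ⟨U ∪ T, hU.union (hJ.preimage g) hcU hcT, hΓU.trans Finset.subset_union_left, by rw [hc], hle⟩
    rw [← hk]
    refine Finset.card_lt_card ⟨Finset.sdiff_subset, fun h => ?_⟩
    exact (Finset.mem_sdiff.1 (h (Finset.mem_compl.2 hdU))).2 hdT
  have hTcard : ∀ g : G, (Finset.univ.filter fun w => g • w ∈ Γ).card = Γ.card := fun g =>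
    Finset.card_equiv (MulAction.toPerm g) fun w => by simp
  by_cases hbig : Γ.card + j ≤ Uᶜ.card + 1
  · have hne : U ≠ Finset.univ := by
      intro e
      rw [e, Finset.compl_univ, Finset.card_empty] at hk
      omega
    obtain ⟨g, ⟨c, hc, hcU⟩, ⟨d, hd, hdU⟩⟩ := exists_crossing (G := G) (by omega) hΓU hne
    refine step g _ rfl ⟨c, hcU, by simp [hc]⟩ ⟨d, by simp [hd], hdU⟩ ?_
    have h1 : (Uᶜ ∩ Finset.univ.filter fun w => g • w ∈ Γ) ⊂
        Finset.univ.filter fun w => g • w ∈ Γ := by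
      refine ⟨Finset.inter_subset_right, fun h => ?_⟩
      exact Finset.mem_compl.1 (Finset.mem_inter.1 (h (by simp [hc] : c ∈ _))).1 hcU
    have h2 := Finset.card_lt_card h1
    rw [hTcard] at h2
    have h3 := Finset.card_sdiff_add_card_inter Uᶜ (Finset.univ.filter fun w => g • w ∈ Γ)
    omega
  · obtain ⟨S, hSU, hScard⟩ := Finset.exists_subset_card_eq (s := Uᶜ) (n := j + 1) (by omega)
    obtain ⟨x, hxS, g, hgx, hgy⟩ :=
      exists_single (G := G) Γ hj2 hjm hN (by omega) (fun h => by have := hodd h; omega) hScard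
    set T := Finset.univ.filter fun w => g • w ∈ Γ with hT
    have hsub : S.erase x ⊆ Uᶜ \ T := by
      intro y hy
      rw [Finset.mem_erase] at hy
      simp only [hT, Finset.mem_sdiff, Finset.mem_filter, Finset.mem_univ, true_and]
      exact ⟨hSU hy.2, hgy y hy.2 hy.1⟩
    have hc' : j ≤ (Uᶜ \ T).card := by
      refine le_trans ?_ (Finset.card_le_card hsub)
      rw [Finset.card_erase_of_mem hxS]
      omega
    refine step g T hT ?_ ⟨x, by simp [hT, hgx], Finset.mem_compl.1 (hSU hxS)⟩ hc'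
    by_contra hnone
    have h1 : T ⊆ Uᶜ := fun z hz => Finset.mem_compl.2 fun h => hnone ⟨z, h, hz⟩
    have h2 := Finset.card_sdiff_add_card_inter Uᶜ T
    rw [Finset.inter_eq_right.2 h1, hT, hTcard, ← hT] at h2
    omega

omit [Fintype G] in
theorem two_transitive [hp : IsPreprimitive G Ω] {Γ : Finset Ω} (hJ : IsJ G Γ) (h1 : 1 < Γ.card)
    (h2 : 2 * Γ.card ≤ Fintype.card Ω) : IsMultiplyPretransitive G Ω 2 := by
  classical
  refine hp.is_two_pretransitive (s := ((Γ : Set Ω))ᶜ) (n := Fintype.card Ω - Γ.card - 1) ?_ ?_ ⟨?_⟩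
  · rw [Set.ncard_compl, Set.ncard_coe_finset, Nat.card_eq_fintype_card]
    omega
  · rw [Nat.card_eq_fintype_card]
    omega
  · rintro ⟨x, hx⟩ ⟨y, hy⟩
    have hx' : x ∈ Γ := by simpa [SubMulAction.mem_ofFixingSubgroup_iff] using hx
    have hy' : y ∈ Γ := by simpa [SubMulAction.mem_ofFixingSubgroup_iff] using hy
    obtain ⟨g, hg, e⟩ := hJ x hx' y hy'
    exact ⟨⟨g, (mem_fixingSubgroup_iff G).2 fun z hz => hg z (by simpa using hz)⟩, Subtype.ext e⟩

theorem three_transitive [IsPreprimitive G Ω] {Γ : Finset Ω} (hJ : IsJ G Γ) (h1 : 1 < Γ.card)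
    (h2 : 2 * Γ.card ≤ Fintype.card Ω) : IsMultiplyPretransitive G Ω 3 := by
  haveI := two_transitive hJ h1 h2
  exact succ_transitive hJ le_rfl h1 h2 fun h => absurd h (by decide)

/-- An element inducing a three-cycle: a commutator of an element of the Jordan group with one
fixing some point off the Jordan set. -/
theorem exists_three_cycle [IsPreprimitive G Ω] {Γ : Finset Ω} (hJ : IsJ G Γ) (h1 : 1 < Γ.card)
    (h2 : 2 * Γ.card < Fintype.card Ω) {h : G} (hh : ∀ z, z ∉ Γ → h • z = z) {a b : Ω}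
    (ha : a ∈ Γ) (hb : b ∈ Γ) (hab : a ≠ b) (hhab : h • a = b) :
    ∃ g : G, (Equiv.Perm.IsThreeCycle
        (MulAction.toPerm (h⁻¹ * (g * h * g⁻¹)) : Equiv.Perm Ω)) ∧
      ∃ w, w ∉ Γ ∧ g • w = w := by
  classical
  have htr : ∀ j, 2 ≤ j → j ≤ Γ.card + 1 → IsMultiplyPretransitive G Ω j := by
    intro j hj
    induction j, hj using Nat.le_induction with
    | base => exact fun _ => two_transitive hJ h1 h2.le
    | succ j hj ih =>
      intro hle
      haveI := ih (by omega)
      exact succ_transitive hJ hj (by omega) h2.le fun _ => h2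
  obtain ⟨e, he⟩ : ∃ e, e ∉ Γ := by
    by_contra hh
    have h' : Γ = Finset.univ := Finset.eq_univ_of_forall fun z => by_contra fun h => hh ⟨z, h⟩
    rw [h', Finset.card_univ] at h2
    omega
  obtain ⟨w, hw, hwe⟩ : ∃ w, w ∉ Γ ∧ w ≠ e := by
    by_contra hh
    have h' : Finset.univ ⊆ insert e Γ := fun z _ => by
      by_contra h
      rw [Finset.mem_insert, not_or] at h
      exact hh ⟨z, h.2, h.1⟩
    have h'' := (Finset.card_le_card h').trans (Finset.card_insert_le e Γ)
    rw [Finset.card_univ] at h''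
    omega
  -- an element swapping `b` and `e`, fixing `w` and the rest of `Γ`
  let D : Finset Ω := insert w (Γ.erase b)
  have hD : D.card = Γ.card := by
    rw [Finset.card_insert_of_notMem fun h => hw (Finset.mem_of_mem_erase h),
      Finset.card_erase_of_mem hb]
    omega
  have hbD : b ∉ D := by simp [D]; exact fun e' => hw (e' ▸ hb)
  have heD : e ∉ D := by simp [D, Ne.symm hwe, he]
  haveI := htr (Γ.card + 1) (by omega) le_rfl
  obtain ⟨g, hgD, hgb⟩ := exists_fixing (G := G) (j := Γ.card + 1) (S := D) (by omega) (by omega)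
    hbD heD
  refine ⟨g, ?_, w, hw, hgD w (by simp [D])⟩
  have hga : g • a = a := hgD a (by simp [D, ha, hab])
  have hea : e ≠ a := fun h => he (h ▸ ha)
  have heb : e ≠ b := fun h => he (h ▸ hb)
  have hΓ : ∀ z, z ∈ Γ → h • z ∈ Γ := fun z hz => smul_mem_of_fixes hh hz
  have hgfix : ∀ z, z ∈ Γ → z ≠ b → g • z = z := fun z hz hzb => hgD z (by simp [D, hz, hzb])
  have key : ∀ z, (h⁻¹ * (g * h * g⁻¹)) • z = (Equiv.swap a e * Equiv.swap b e) z := by
    intro z
    simp only [mul_smul, Equiv.Perm.mul_apply]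
    rw [inv_smul_eq_iff]
    by_cases hzb : z = b
    · subst hzb
      rw [Equiv.swap_apply_left, Equiv.swap_apply_right, hhab]
      -- the preimage of `b` under `g` lies outside `Γ`
      have hout : g⁻¹ • z ∉ Γ := by
        intro hin
        by_cases hq : g⁻¹ • z = z
        · have := inv_smul_eq_iff.1 hq
          exact heb (hgb ▸ this.symm)
        · have := hgfix _ hin hq
          rw [smul_inv_smul] at this
          exact hq this.symm
      rw [hh _ hout, smul_inv_smul]
    by_cases hze : z = e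
    · subst hze
      rw [Equiv.swap_apply_right, Equiv.swap_apply_of_ne_of_ne hab.symm (Ne.symm hzb),
        show g⁻¹ • z = b from inv_smul_eq_iff.2 hgb.symm]
      exact hgfix _ (hΓ b hb) fun e' => hab (MulAction.injective h (hhab.trans e'.symm))
    rw [Equiv.swap_apply_of_ne_of_ne hzb hze]
    by_cases hzΓ : z ∈ Γ
    · rw [show g⁻¹ • z = z from inv_smul_eq_iff.2 (hgfix z hzΓ hzb).symm]
      by_cases hza : z = a
      · subst hza
        rw [Equiv.swap_apply_left, hhab, hgb, hh e he]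
      · rw [Equiv.swap_apply_of_ne_of_ne hza hze]
        exact hgfix _ (hΓ z hzΓ) fun e' => hza (MulAction.injective h (e'.trans hhab.symm))
    · have hza : z ≠ a := fun e' => hzΓ (e' ▸ ha)
      rw [Equiv.swap_apply_of_ne_of_ne hza hze, hh z hzΓ]
      have hout : g⁻¹ • z ∉ Γ := by
        intro hin
        by_cases hq : g⁻¹ • z = b
        · exact hze ((inv_smul_eq_iff.1 hq).trans hgb)
        · have := hgfix _ hin hq
          rw [smul_inv_smul] at this
          exact hzΓ (this ▸ hin)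
      rw [hh _ hout, smul_inv_smul]
  rw [show (MulAction.toPerm (h⁻¹ * (g * h * g⁻¹)) : Equiv.Perm Ω) =
    Equiv.swap a e * Equiv.swap b e from Equiv.ext key, Equiv.swap_comm a e, Equiv.swap_comm b e]
  exact Equiv.Perm.isThreeCycle_swap_mul_swap_same hea heb hab

/-- **Marggraff.** -/
theorem contains_alternating [IsPreprimitive G Ω] {Γ : Finset Ω} (hJ : IsJ G Γ) (h1 : 1 < Γ.card)
    (h2 : 2 * Γ.card < Fintype.card Ω) :
    alternatingGroup Ω ≤ (MulAction.toPermHom G Ω).range := by
  obtain ⟨a, ha, b, hb, hab⟩ := Finset.one_lt_card.1 h1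
  obtain ⟨h, hh, hhab⟩ := hJ a ha b hb
  obtain ⟨g, hc, -⟩ := exists_three_cycle hJ h1 h2 hh ha hb hab hhab
  haveI : IsPreprimitive (MulAction.toPermHom G Ω).range Ω := by
    let f : Ω →ₑ[(MulAction.toPermHom G Ω).rangeRestrict] Ω :=
      { toFun := id, map_smul' := fun _ _ => rfl }
    exact IsPreprimitive.of_surjective (f := f) Function.surjective_id
  exact Equiv.Perm.alternatingGroup_le_of_isPreprimitive_of_isThreeCycle_mem inferInstance hc
    ⟨_, rfl⟩

/-- Quasiprimitive version. -/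
theorem quasiprimitive_contains_alternating [FaithfulSMul G Ω]
    (hqp : ∀ N : Subgroup G, N.Normal → N ≠ ⊥ → IsPretransitive N Ω) {Γ : Finset Ω}
    (hJ : IsJ G Γ) (h1 : 1 < Γ.card) (h2 : 2 * Γ.card < Fintype.card Ω) :
    alternatingGroup Ω ≤ (MulAction.toPermHom G Ω).range := by
  classical
  obtain ⟨a, ha, b, hb, hab⟩ := Finset.one_lt_card.1 h1
  obtain ⟨h, hh, hhab⟩ := hJ a ha b hb
  have hne : h ≠ 1 := fun e => hab (by rw [← hhab, e, one_smul])
  haveI : Nonempty Ω := ⟨a⟩
  haveI : IsPretransitive G Ω := by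
    haveI := hqp ⊤ inferInstance fun e =>
      hne ((Subgroup.eq_bot_iff_forall _).1 e _ (Subgroup.mem_top _))
    exact ⟨fun p q => by
      obtain ⟨g, hg⟩ := exists_smul_eq (⊤ : Subgroup G) p q
      exact ⟨(g : G), hg⟩⟩
  -- a maximal proper block through `a`
  obtain ⟨B, hBblock, haB, hBne, hBmax⟩ : ∃ B : Set Ω, IsBlock G B ∧ a ∈ B ∧ B ≠ Set.univ ∧
      ∀ C : Set Ω, IsBlock G C → B ⊆ C → C = B ∨ C = Set.univ := by
    obtain ⟨B, ⟨hB1, hB2, hB3⟩, hBmax⟩ :=
      Set.Finite.exists_maximalFor (fun B : Set Ω => B.ncard)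
        {B : Set Ω | IsBlock G B ∧ a ∈ B ∧ B ≠ Set.univ} (Set.toFinite _)
        ⟨{a}, IsBlock.of_subsingleton Set.subsingleton_singleton, rfl, fun e =>
          hab (Set.mem_singleton_iff.1 (e ▸ Set.mem_univ b)).symm⟩
    refine ⟨B, hB1, hB2, hB3, fun C hC hBC => ?_⟩
    by_cases hCu : C = Set.univ
    · exact Or.inr hCu
    refine Or.inl (Set.eq_of_subset_of_ncard_le hBC ?_ (Set.toFinite C)).symm
    exact hBmax (j := C) ⟨hC, hBC hB2, hCu⟩ (Set.ncard_le_ncard hBC (Set.toFinite C))
  by_cases hBsub : B.Subsingleton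
  · haveI : IsPreprimitive G Ω := by
      refine IsPreprimitive.of_isTrivialBlock_base a fun {C} haC hC => ?_
      rcases hBmax C hC fun z hz => (hBsub hz haB) ▸ haC with e | e
      · exact Or.inl (e ▸ hBsub)
      · exact Or.inr e
    exact contains_alternating hJ h1 h2
  exfalso
  -- the action on the translates of `B`
  haveI : Fintype (MulAction.orbit G B) := Fintype.ofFinite _
  let π : Ω → MulAction.orbit G B := fun z =>
    ⟨(MulAction.exists_smul_eq G a z).choose • B, MulAction.mem_orbit _ _⟩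
  have hπmem : ∀ z, z ∈ (π z : Set Ω) := by
    intro z
    rw [Set.mem_smul_set_iff_inv_smul_mem]
    rw [inv_smul_eq_iff.2 (MulAction.exists_smul_eq G a z).choose_spec.symm]
    exact haB
  have huniq : ∀ (P : MulAction.orbit G B) (z : Ω), z ∈ (P : Set Ω) → π z = P := by
    rintro ⟨_, k, rfl⟩ z hz
    refine Subtype.ext ?_
    by_contra hne2
    exact Set.disjoint_left.1 (hBblock hne2) (hπmem z) hz
  have hπ : ∀ (g : G) (z : Ω), π (g • z) = g • π z := by
    intro g z
    refine huniq _ _ ?_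
    show g • z ∈ g • (π z : Set Ω)
    exact Set.smul_mem_smul_set (hπmem z)
  have hrep : ∀ P : MulAction.orbit G B, ∃ z, π z = P := by
    rintro ⟨_, k, rfl⟩
    exact ⟨k • a, huniq _ _ (Set.smul_mem_smul_set haB)⟩
  have hfaith : ∀ g : G, (∀ P : MulAction.orbit G B, g • P = P) → g = 1 := by
    let K : Subgroup G := (MulAction.toPermHom G (MulAction.orbit G B)).ker
    intro g hg
    by_contra hg1
    have hKne : K ≠ ⊥ := fun e => hg1 ((Subgroup.eq_bot_iff_forall _).1 e g (Equiv.ext hg))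
    haveI := hqp K inferInstance hKne
    refine hBne (Set.eq_univ_of_forall fun z => ?_)
    obtain ⟨k, hk⟩ := MulAction.exists_smul_eq K a z
    have h1 : (k : G) • π a = π a := Equiv.ext_iff.1 k.2 (π a)
    have e : π a = ⟨B, MulAction.mem_orbit_self B⟩ := huniq _ _ haB
    rw [e] at h1
    have h2 : (k : G) • B = B := congrArg Subtype.val h1
    rw [← hk, ← h2]
    exact Set.smul_mem_smul_set haB
  have hclosed : ∀ z ∈ Γ, ∀ w, π w = π z → w ∈ Γ := by
    intro z hz w hw
    by_contra hwΓ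
    refine hne (hfaith h fun P => ?_)
    obtain ⟨u, rfl⟩ := hrep P
    rw [← hπ]
    by_cases hu : u ∈ Γ
    · obtain ⟨k, hk, hk'⟩ := hJ z hz (h • u) (smul_mem_of_fixes hh hu)
      obtain ⟨k₀, hk₀, hk₀'⟩ := hJ z hz u hu
      have e1 : π (h • u) = π z := by rw [← hk', hπ, ← hw, ← hπ, hk w hwΓ]
      have e2 : π u = π z := by rw [← hk₀', hπ, ← hw, ← hπ, hk₀ w hwΓ]
      rw [e1, e2]
    · rw [hh u hu]
  let Γ' : Finset (MulAction.orbit G B) := Γ.image π
  have hnotin : ∀ z, π z ∉ Γ' → z ∉ Γ := fun z hz hzΓ => hz (Finset.mem_image_of_mem π hzΓ)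
  have hJ' : IsJ G Γ' := by
    intro P hP Q hQ
    obtain ⟨p, hp, rfl⟩ := Finset.mem_image.1 hP
    obtain ⟨q, hq, rfl⟩ := Finset.mem_image.1 hQ
    obtain ⟨k, hk, hk'⟩ := hJ p hp q hq
    refine ⟨k, fun R hR => ?_, by rw [← hπ, hk']⟩
    obtain ⟨r, rfl⟩ := hrep R
    rw [← hπ, hk r (hnotin r hR)]
  have hmemΓ : ∀ z, π z ∈ Γ' → z ∈ Γ := by
    intro z hz
    obtain ⟨y, hy, e⟩ := Finset.mem_image.1 hz
    exact hclosed y hy z e.symm
  have hsize : ∀ P : MulAction.orbit G B,
      (Finset.univ.filter fun z => π z = P).card = B.ncard := by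
    intro P
    obtain ⟨_, k, rfl⟩ := P
    rw [← Set.ncard_coe_finset, ← Set.ncard_smul_set k B]
    congr 1
    ext z
    simp only [Finset.coe_filter, Finset.mem_univ, true_and, Set.mem_setOf_eq]
    exact ⟨fun e => by have := hπmem z; rwa [e] at this, fun hz => huniq _ _ hz⟩
  have hcardΓ : Γ.card = Γ'.card * B.ncard := by
    have h3 := Finset.card_eq_sum_card_image π Γ
    rw [h3, Finset.sum_congr rfl fun P hP => ?_, Finset.sum_const, smul_eq_mul]
    rw [← hsize P]
    congr 1
    ext z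
    simp only [Finset.mem_filter, Finset.mem_univ, true_and, and_iff_right_iff_imp]
    exact fun e => hmemΓ z (e ▸ hP)
  have hcardΩ : Fintype.card Ω = Fintype.card (MulAction.orbit G B) * B.ncard := by
    have h3 := Finset.card_eq_sum_card_fiberwise (f := π) (s := Finset.univ)
      (t := Finset.univ) fun _ _ => Finset.mem_univ _
    rw [Finset.sum_congr rfl fun P _ => hsize P, Finset.sum_const, smul_eq_mul] at h3
    simpa using h3
  have h2' : 2 * Γ'.card < Fintype.card (MulAction.orbit G B) := by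
    by_contra hle
    have := Nat.mul_le_mul_right B.ncard (not_lt.1 hle)
    rw [hcardΩ, hcardΓ, ← mul_assoc] at h2
    omega
  have h1' : 1 < Γ'.card := by
    by_contra hle
    refine hne (hfaith h fun P => ?_)
    obtain ⟨u, rfl⟩ := hrep P
    rw [← hπ]
    by_cases hu : u ∈ Γ
    · exact Finset.card_le_one.1 (not_lt.1 hle) _
        (Finset.mem_image_of_mem π (smul_mem_of_fixes hh hu)) _ (Finset.mem_image_of_mem π hu)
    · rw [hh u hu]
  -- the action on the blocks is primitive
  haveI : IsPreprimitive G (MulAction.orbit G B) := by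
    refine IsPreprimitive.of_isTrivialBlock_base ⟨B, MulAction.mem_orbit_self B⟩ fun {C} hC hCb => ?_
    have hpre : IsBlock G (π ⁻¹' C) := by
      rw [isBlock_iff_smul_eq_of_nonempty]
      rintro k ⟨y, hy1, hy2⟩
      rw [Set.mem_smul_set_iff_inv_smul_mem, Set.mem_preimage, hπ] at hy1
      have hk : k • C = C := isBlock_iff_smul_eq_of_nonempty.1 hCb
        ⟨π y, Set.mem_smul_set_iff_inv_smul_mem.2 hy1, hy2⟩
      ext z
      rw [Set.mem_smul_set_iff_inv_smul_mem, Set.mem_preimage, hπ, Set.mem_preimage]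
      conv_rhs => rw [← hk]
      exact Set.mem_smul_set_iff_inv_smul_mem.symm
    rcases hBmax _ hpre fun z hz => by
      rw [Set.mem_preimage, huniq ⟨B, MulAction.mem_orbit_self B⟩ z hz]; exact hC with e | e
    · refine Or.inl fun P hP Q hQ => ?_
      obtain ⟨p, rfl⟩ := hrep P
      obtain ⟨q, rfl⟩ := hrep Q
      have hp : p ∈ B := e ▸ hP
      have hq : q ∈ B := e ▸ hQ
      rw [huniq ⟨B, MulAction.mem_orbit_self B⟩ p hp, huniq ⟨B, MulAction.mem_orbit_self B⟩ q hq]
    · refine Or.inr (Set.eq_univ_of_forall fun P => ?_)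
      obtain ⟨p, rfl⟩ := hrep P
      exact Set.eq_univ_iff_forall.1 e p
  have halt := contains_alternating hJ' h1' h2'
  have hinj : Function.Injective (MulAction.toPermHom G (MulAction.orbit G B)) :=
    (injective_iff_map_eq_one _).2 fun g hg => hfaith g fun P => Equiv.ext_iff.1 hg P
  obtain ⟨_, hP₁, _, hP₂, hne'⟩ := Finset.one_lt_card.1 h1'
  obtain ⟨p, hp, rfl⟩ := Finset.mem_image.1 hP₁
  obtain ⟨q, hq, rfl⟩ := Finset.mem_image.1 hP₂
  obtain ⟨h₀, hh₀, hpq⟩ := hJ p hp q hq
  have hh₀' : ∀ R, R ∉ Γ' → h₀ • R = R := fun R hR => by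
    obtain ⟨r, rfl⟩ := hrep R
    rw [← hπ, hh₀ r (hnotin r hR)]
  obtain ⟨g₀, hc₀, W, hW, hgW⟩ := exists_three_cycle hJ' h1' h2' hh₀'
    (Finset.mem_image_of_mem π hp) (Finset.mem_image_of_mem π hq) hne' (by rw [← hπ, hpq])
  set t : G := h₀⁻¹ * (g₀ * h₀ * g₀⁻¹)
  let φ := MulAction.toPermHom G (MulAction.orbit G B)
  have htW : ∀ z, π z = W → t • z = z := by
    intro z hz
    have h3 : g₀⁻¹ • z ∉ Γ := hnotin _ (by rw [hπ, hz, inv_smul_eq_iff.2 hgW.symm]; exact hW)
    simp only [t, mul_smul]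
    rw [hh₀ _ h3, smul_inv_smul, inv_smul_eq_iff]
    exact (hh₀ z (hnotin z (hz ▸ hW))).symm
  have htW' : φ t W = W := by
    obtain ⟨z, rfl⟩ := hrep W
    show t • π z = π z
    rw [← hπ, htW z rfl]
  -- three-cycles fix pointwise every block that they fix
  have hcyc : ∀ (y : G) (W' : MulAction.orbit G B), (φ y).IsThreeCycle → φ y W' = W' →
      ∀ z, π z = W' → y • z = z := by
    intro y W' hy hyW z hz
    obtain ⟨σ, hσ⟩ := isConj_iff.1 (Equiv.Perm.isConj_iff_cycleType_eq.2
      ((Equiv.Perm.IsThreeCycle.cycleType hc₀).trans hy.cycleType.symm) : IsConj (φ t) (φ y))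
    obtain ⟨σ₁, hσ₁, hσ₁W⟩ : ∃ σ₁, σ₁ * φ t * σ₁⁻¹ = φ y ∧ σ₁ W = W' := by
      refine ⟨Equiv.swap (σ W) W' * σ, ?_, by simp⟩
      have e1 : φ y (σ W) = σ W := by
        rw [← hσ]
        simp [htW']
      have e2 : φ y * Equiv.swap (σ W) W' = Equiv.swap (σ W) W' * φ y := by
        rw [Equiv.mul_swap_eq_swap_mul, e1, hyW]
      rw [show Equiv.swap (σ W) W' * σ * φ t * (Equiv.swap (σ W) W' * σ)⁻¹ =
        Equiv.swap (σ W) W' * (σ * φ t * σ⁻¹) * (Equiv.swap (σ W) W')⁻¹ by group, hσ,
        ← e2, mul_inv_cancel_right]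
    have hend : ∀ (x : G) (y' : G), φ x W = W' → φ y' = φ x * φ t * (φ x)⁻¹ → y' • z = z := by
      intro x y' hx hxy
      have e : y' = x * t * x⁻¹ := hinj (by
        rw [map_mul, map_mul, map_inv]
        exact hxy)
      rw [e, mul_smul, mul_smul, htW, smul_inv_smul]
      rw [hπ, hz, ← hx]
      exact inv_smul_smul x W
    rcases Int.units_eq_one_or (Equiv.Perm.sign σ₁) with hs | hs
    · obtain ⟨x, hx⟩ := halt (Equiv.Perm.mem_alternatingGroup.2 hs)
      exact hend x y (by show (φ x) W = W'; rw [hx]; exact hσ₁W) (by rw [hx, hσ₁])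
    · obtain ⟨P, hP⟩ : ∃ P, φ y P ≠ P := by
        by_contra hh'
        have : φ y = 1 := Equiv.ext fun P => by_contra fun e => hh' ⟨P, e⟩
        rw [this] at hy
        simpa using hy.orderOf
      have h3 : ∀ Q, φ y (φ y (φ y Q)) = Q := fun Q => by
        have := congrArg (fun f : Equiv.Perm (MulAction.orbit G B) => f Q)
          (hy.orderOf ▸ pow_orderOf_eq_one (φ y))
        simpa [pow_succ] using this
      -- a transposition in the support inverts the three-cycle
      have hrev : Equiv.swap P (φ y P) * φ y * Equiv.swap P (φ y P) = (φ y)⁻¹ := by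
        ext Q : 1
        rw [eq_comm, Equiv.Perm.inv_eq_iff_eq]
        simp only [Equiv.Perm.mul_apply]
        have hP1 : φ y (φ y P) ≠ P := fun e => hP (by
          have := congrArg (φ y) e
          rw [h3] at this
          exact this.symm)
        have hP2 : φ y (φ y P) ≠ φ y P := fun e => hP ((φ y).injective e)
        by_cases hQ1 : Q = P
        · subst hQ1
          rw [Equiv.swap_apply_left, Equiv.swap_apply_of_ne_of_ne hP1 hP2, h3]
        by_cases hQ2 : Q = φ y P
        · subst hQ2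
          rw [Equiv.swap_apply_right, Equiv.swap_apply_right]
        rw [Equiv.swap_apply_of_ne_of_ne hQ1 hQ2]
        have hQ3 : φ y Q ≠ φ y P := fun e => hQ1 ((φ y).injective e)
        by_cases hQ4 : φ y Q = P
        · rw [hQ4, Equiv.swap_apply_left, ← hQ4, h3]
        rw [Equiv.swap_apply_of_ne_of_ne hQ4 hQ3]
        by_contra hne3
        -- otherwise `Q` is fixed
        have hsupp : Q ∉ (φ y).support := by
          intro hQs
          have h4 : (φ y).support = {P, φ y P, φ y (φ y P)} := by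
            symm
            refine Finset.eq_of_subset_of_card_le (fun R hR => ?_) ?_
            · simp only [Finset.mem_insert, Finset.mem_singleton] at hR
              rcases hR with rfl | rfl | rfl <;> simp [Equiv.Perm.mem_support, hP]
            · rw [hy.card_support, Finset.card_insert_of_notMem (by simp [Ne.symm hP, Ne.symm hP1]),
                Finset.card_pair (Ne.symm hP2)]
          rw [h4] at hQs
          simp only [Finset.mem_insert, Finset.mem_singleton] at hQs
          rcases hQs with e | e | e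
          · exact hQ1 e
          · exact hQ2 e
          · exact hQ4 (by rw [e, h3])
        have := Equiv.Perm.notMem_support.1 hsupp
        exact hne3 (by rw [this, this])
      have hs2 : Equiv.Perm.sign (Equiv.swap P (φ y P) * σ₁) = 1 := by
        rw [map_mul, Equiv.Perm.sign_swap (Ne.symm hP), hs]; rfl
      obtain ⟨x, hx⟩ := halt (Equiv.Perm.mem_alternatingGroup.2 hs2)
      have hWP : W' ≠ P := fun e => hP (by rw [← e]; exact hyW)
      have hfixW : Equiv.swap P (φ y P) W' = W' :=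
        Equiv.swap_apply_of_ne_of_ne hWP fun e => hWP ((φ y).injective (hyW.trans e))
      have h4 := hend x y⁻¹ (by show (φ x) W = W'; rw [hx, Equiv.Perm.mul_apply, hσ₁W, hfixW]) (by
        rw [hx, map_inv, ← hrev, ← hσ₁, mul_inv_rev, Equiv.swap_inv]
        group)
      rw [inv_smul_eq_iff] at h4
      exact h4.symm
  have heven : ∀ (y : G) (W' : MulAction.orbit G B), Equiv.Perm.sign (φ y) = 1 → φ y W' = W' →
      ∀ z, π z = W' → y • z = z := by
    intro y W' hy hyW z hz
    let S : Subgroup (Equiv.Perm {Q // Q ≠ W'}) :=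
      { carrier := {σ | ∃ x : G, φ x = Equiv.Perm.ofSubtype σ ∧ x • z = z}
        one_mem' := ⟨1, by simp, one_smul G z⟩
        mul_mem' := by
          rintro σ τ ⟨x, hx, hx'⟩ ⟨x', hy, hy'⟩
          exact ⟨x * x', by rw [map_mul, map_mul, hx, hy], by rw [mul_smul, hy', hx']⟩
        inv_mem' := by
          rintro σ ⟨x, hx, hx'⟩
          exact ⟨x⁻¹, by rw [map_inv, map_inv, hx], inv_smul_eq_iff.2 hx'.symm⟩ }
    have hS : alternatingGroup {Q // Q ≠ W'} ≤ S := by
      rw [← Equiv.Perm.closure_three_cycles_eq_alternating, Subgroup.closure_le]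
      intro σ hσ
      have hσ' : (Equiv.Perm.ofSubtype σ).IsThreeCycle := by
        show (Equiv.Perm.ofSubtype σ).cycleType = _
        rw [Equiv.Perm.cycleType_ofSubtype]
        exact hσ
      obtain ⟨x, hx⟩ := halt (Equiv.Perm.mem_alternatingGroup.2 hσ'.sign)
      exact ⟨x, hx, hcyc x W' (by show (φ x).IsThreeCycle; rw [hx]; exact hσ')
        (by show φ x W' = W'; rw [hx, Equiv.Perm.ofSubtype_apply_of_not_mem σ (by simp)]) z hz⟩
    have hpres : ∀ Q, φ y Q ≠ W' ↔ Q ≠ W' := fun Q => by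
      constructor
      · intro h' e; exact h' (by rw [e, hyW])
      · intro h' e; exact h' ((φ y).injective (e.trans hyW.symm))
    have hof : Equiv.Perm.ofSubtype ((φ y).subtypePerm hpres) = φ y :=
      Equiv.Perm.ofSubtype_subtypePerm (p := fun Q => Q ≠ W') hpres
        fun Q hQ (e : Q = W') => hQ (by rw [e, hyW])
    obtain ⟨x, hx, hx'⟩ := hS (Equiv.Perm.mem_alternatingGroup.2 (show
      Equiv.Perm.sign ((φ y).subtypePerm hpres) = 1 by
        rw [← Equiv.Perm.sign_ofSubtype, hof, hy]))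
    rw [hof] at hx
    rwa [hinj hx] at hx'
  -- two points in a block inside `Γ`
  obtain ⟨a', ha'B, ha'⟩ : ∃ c ∈ B, c ≠ a := by
    by_contra hh'
    exact hBsub fun u hu v hv => by
      rw [by_contra fun e => hh' ⟨u, hu, e⟩, by_contra fun e => hh' ⟨v, hv, e⟩]
  have hπa : π a' = π a := by
    rw [huniq ⟨B, MulAction.mem_orbit_self B⟩ a' ha'B, huniq ⟨B, MulAction.mem_orbit_self B⟩ a haB]
  obtain ⟨x, hx, hxa⟩ := hJ a ha a' (hclosed a ha a' hπa)
  rcases Int.units_eq_one_or (Equiv.Perm.sign (φ x)) with hs | hs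
  · refine ha' ?_
    rw [← hxa]
    exact heven x (π a) hs (show x • π a = π a by rw [← hπ, hxa, hπa]) a rfl
  obtain ⟨W₀, hW₀⟩ : ∃ W₀, W₀ ∉ Γ' := ⟨W, hW⟩
  obtain ⟨u, rfl⟩ := hrep W₀
  obtain ⟨g₁, hg₁⟩ := MulAction.exists_smul_eq G a u
  have hu' : π (g₁ • a') = π u := by rw [hπ, hπa, ← hπ, hg₁]
  obtain ⟨k, hk⟩ := MulAction.exists_smul_eq G u (g₁ • a')
  have hkW : φ k (π u) = π u := show k • π u = π u by rw [← hπ, hk, hu']
  refine ha' (MulAction.injective g₁ ?_)
  show g₁ • a' = g₁ • a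
  rw [← hk, hg₁]
  rcases Int.units_eq_one_or (Equiv.Perm.sign (φ k)) with hs' | hs'
  · exact heven k _ hs' hkW u rfl
  · have hxu : x • u = u := hx u (hnotin u hW₀)
    have hxW : φ x (π u) = π u := show x • π u = π u by rw [← hπ, hxu]
    have h5 := heven (k * x) (π u) (by rw [map_mul, map_mul, hs, hs']; rfl)
      (by rw [map_mul, Equiv.Perm.mul_apply, hxW, hkW]) u rfl
    rwa [mul_smul, hxu] at h5

end CfsgLib.Char.Marggraff
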