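import Cfsg.Agent.Lib.Char.TwoEllTorus
import Cfsg.Agent.Lib.Char.SemiSpectrum
import Cfsg.Agent.Lib.Char.FibrePower

/-!
# The natural module of `SL(2, 2^n)`
-/

set_option autoImplicit false
set_option linter.unusedSectionVars false
set_option linter.style.haveILetI false

namespace CfsgLib.Char.TwoChars

open Matrix CfsgLib.Char

/-- Copies of the natural module. -/
def Vec2 (ι : Type*) (F : Type*) := ι → Fin 2 → F

variable {ι : Type*} {F : Type*} [Field F]

instance instAddCommGroupVec2 : AddCommGroup (Vec2 ι F) := inferInstanceAs (AddCommGroup (ι → Fin 2 → F))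
instance instFiniteVec2 [Finite ι] [Finite F] : Finite (Vec2 ι F) := inferInstanceAs (Finite (ι → Fin 2 → F))

instance instActVec2 : DistribMulAction (Matrix.SpecialLinearGroup (Fin 2) F) (Vec2 ι F) where
  smul g v := fun i => g.1 *ᵥ v i
  one_smul v := funext fun i => by
    show (1 : Matrix.SpecialLinearGroup (Fin 2) F).1 *ᵥ v i = v i
    rw [Matrix.SpecialLinearGroup.coe_one, Matrix.one_mulVec]
  mul_smul a b v := funext fun i => by
    show (a * b).1 *ᵥ v i = a.1 *ᵥ (b.1 *ᵥ v i)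
    rw [Matrix.SpecialLinearGroup.coe_mul, Matrix.mulVec_mulVec]
  smul_zero a := funext fun i => Matrix.mulVec_zero a.1
  smul_add a v w := funext fun i => Matrix.mulVec_add a.1 (v i) (w i)

theorem Vec2.smul_apply (g : Matrix.SpecialLinearGroup (Fin 2) F) (v : Vec2 ι F) (i : ι) :
    (g • v) i = g.1 *ᵥ v i := rfl

variable [Fintype F] [DecidableEq F] [CharP F 2]

local notation "S2" => Matrix.SpecialLinearGroup (Fin 2) F
local notation "qF" => Fintype.card F

theorem vec2_two_nsmul (w : Vec2 ι F) : 2 • w = 0 := by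
  rw [two_nsmul]
  exact funext fun i => funext fun j => CharTwo.add_self_eq_zero (w i j)

theorem mul_self_of_fixed_vec {c : S2} {v : Fin 2 → F} (hv : v ≠ 0) (h : c.1 *ᵥ v = v) : c * c = 1 := by
  have hd : (c.1 - 1).det = 0 := Matrix.exists_mulVec_eq_zero_iff.1
    ⟨v, hv, by rw [Matrix.sub_mulVec, Matrix.one_mulVec, h, sub_self]⟩
  have hc := c.det_coe
  have h2 : (2 : F) = 0 := CharTwo.two_eq_zero
  rw [Matrix.det_fin_two] at hd hc
  simp at hd
  have ht : c.1.trace = 0 := by
    rw [Matrix.trace_fin_two]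
    linear_combination hc - hd + h2
  refine Subtype.ext ?_
  rw [Matrix.SpecialLinearGroup.coe_mul, sl_cayley, ht, zero_smul, zero_sub, Matrix.SpecialLinearGroup.coe_one]
  ext i j
  exact CharTwo.neg_eq _

theorem orderOf_semi_natural [Finite ι] (x : Semi S2 (Vec2 ι F)) :
    orderOf x = orderOf x.right ∨ orderOf x = orderOf x.right * 2 ∧ orderOf x.right ∣ 2 := by
  conv => arg 1; rw [semiPair_eta x, orderOf_semiPair]
  rw [semiPair_eta x, orderOf_semiPair]
  set w := ∑ i ∈ Finset.range (orderOf x.right), x.right ^ i • x.left.toAdd with hw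
  by_cases h0 : w = 0
  · left; simp [semiPair, ← hw, h0]
  · right
    haveI : Fact (Nat.Prime 2) := ⟨Nat.prime_two⟩
    have h2 : addOrderOf w = 2 := addOrderOf_eq_prime (vec2_two_nsmul w) h0
    obtain ⟨i, hi⟩ := Function.ne_iff.1 h0
    have hfix := congrFun (smul_geom_sum_smul x.left.toAdd x.right) i
    rw [← hw, Vec2.smul_apply] at hfix
    have hcc := mul_self_of_fixed_vec hi hfix
    refine ⟨?_, orderOf_dvd_of_pow_eq_one (by rw [pow_two]; exact hcc)⟩
    simp [semiPair, ← hw, h2]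

theorem pq_semi_natural [Finite ι] {p q : ℕ} (hp : p.Prime) (hq : q.Prime) (hpq : p ≠ q) :
    (∃ g : Semi S2 (Vec2 ι F), orderOf g = p * q) ↔ ∃ g : S2, orderOf g = p * q := by
  refine ⟨?_, fun ⟨g, hg⟩ => ⟨SemidirectProduct.inr g, by
    rw [orderOf_injective _ SemidirectProduct.inr_injective, hg]⟩⟩
  rintro ⟨x, hx⟩
  rcases orderOf_semi_natural x with h | ⟨h, hd⟩
  · exact ⟨x.right, h ▸ hx⟩
  · exfalso
    have h4 : p * q ∣ 2 ^ 2 := by rw [← hx, h, pow_two]; exact Nat.mul_dvd_mul_right hd 2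
    have e1 := (Nat.prime_dvd_prime_iff_eq hp Nat.prime_two).1 (hp.dvd_of_dvd_pow (dvd_trans (dvd_mul_right p q) h4))
    have e2 := (Nat.prime_dvd_prime_iff_eq hq Nat.prime_two).1 (hq.dvd_of_dvd_pow (dvd_trans (dvd_mul_left q p) h4))
    exact hpq (e1.trans e2.symm)

theorem card_semi_natural (n : ℕ) :
    Nat.card (Semi S2 (Vec2 (Fin n) F)) = qF ^ (2 * n) * Nat.card S2 := by
  rw [SemidirectProduct.card]
  congr 1
  rw [Nat.card_congr Multiplicative.toAdd]
  show Nat.card (Fin n → Fin 2 → F) = _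
  rw [Nat.card_fun, Nat.card_fun, Nat.card_fin, Nat.card_fin, Nat.card_eq_fintype_card (α := F), ← pow_mul]

theorem two_dvd_card : 2 ∣ qF := by
  obtain ⟨n, hp, hn⟩ := FiniteField.card F 2
  exact hn ▸ dvd_pow_self 2 n.pos.ne'

theorem two_dvd_card_sl : 2 ∣ Nat.card S2 := by
  rw [card_sl_two]
  exact Dvd.dvd.mul_left (Dvd.dvd.mul_left two_dvd_card _) _

theorem prime_dvd_semi_natural (n : ℕ) {p : ℕ} (hp : p.Prime) :
    p ∣ Nat.card S2 ↔ p ∣ Nat.card (Semi S2 (Vec2 (Fin n) F)) := by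
  rw [card_semi_natural]
  refine ⟨fun h => h.mul_left _, fun h => ((hp.dvd_mul).1 h).elim (fun h' => ?_) id⟩
  obtain ⟨m, -, hm⟩ := FiniteField.card F 2
  rw [hm, ← pow_mul] at h'
  rw [(Nat.prime_dvd_prime_iff_eq hp Nat.prime_two).1 (hp.dvd_of_dvd_pow h')]
  exact two_dvd_card_sl

theorem sl_pow_cases_two (x : S2) : x ^ 2 = 1 ∨ x ^ (qF - 1) = 1 ∨ x ^ (qF + 1) = 1 := by
  have h2 : (2 : F) = 0 := CharTwo.two_eq_zero
  have hring : ringChar F = 2 := ringChar.eq F 2
  by_cases hns : TwoClasses.IsScalar2 x.1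
  · left
    obtain ⟨ε, hε, hx⟩ := (TwoClasses.sl_scalar_iff x).1 hns
    have : x = 1 := Subtype.ext (by rw [hx, TwoClasses.sq_eq_one_char_two hε, one_smul]; rfl)
    rw [this, one_pow]
  by_cases hell : TwoClasses.IsEll x.1
  · refine Or.inr (Or.inr ?_)
    have hfib := TwoClasses.card_trace_fibre_ell hell
    have e : Nat.card {y : S2 // IsConj x y} = Nat.card {y : S2 // y.1.trace = x.1.trace} :=
      Nat.card_congr (Equiv.subtypeEquivRight fun y => ⟨fun hc => (TwoClasses.sl_conj_spec hc).1.symm, fun ht =>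
        TwoClasses.sl_isConj_of_trace hns (ell_not_scalar hell ht) ht.symm (Or.inr hring)⟩)
    rw [card_isConj] at e
    have hidx := (Subgroup.centralizer ({x} : Set S2)).index_mul_card
    rw [e, card_sl_two] at hidx
    set N := Nat.card {y : S2 // y.1.trace = x.1.trace}
    set k := Nat.card (Subgroup.centralizer ({x} : Set S2)) with hk
    obtain ⟨m, hm⟩ : ∃ m, qF = m + 1 := ⟨qF - 1, (Nat.sub_add_cancel Fintype.card_pos).symm⟩
    have hm1 : 1 ≤ m := by have : 2 ≤ qF := Fintype.one_lt_card; omega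
    rw [hm] at hfib hidx ⊢
    simp only [Nat.add_sub_cancel] at hidx
    have hN : N = m * (m + 1) := by nlinarith
    rw [hN] at hidx
    have hk' : k = m + 1 + 1 := Nat.eq_of_mul_eq_mul_left (show 0 < m * (m + 1) by positivity) (hidx.trans (by ring))
    have := congrArg Subtype.val (pow_card_eq_one'
      (x := (⟨x, Subgroup.mem_centralizer_singleton_iff.2 rfl⟩ : Subgroup.centralizer ({x} : Set S2))))
    rw [← hk, hk'] at this
    simpa using this
  · have hroot : ∃ a : F, a ^ 2 - x.1.trace * a + 1 = 0 := by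
      by_contra hcon
      push Not at hcon
      exact hell (TwoClasses.isEll_of_no_root fun a => by rw [x.det_coe]; exact hcon a)
    obtain ⟨a, h0⟩ := hroot
    have ha : a ≠ 0 := by rintro rfl; simp at h0
    by_cases ht : x.1.trace = 0
    · left
      refine Subtype.ext ?_
      rw [pow_two, Matrix.SpecialLinearGroup.coe_mul, sl_cayley, ht, zero_smul, zero_sub,
        Matrix.SpecialLinearGroup.coe_one]
      ext i j
      exact CharTwo.neg_eq _
    · refine Or.inr (Or.inl ?_)
      let u : Fˣ := Units.mk0 a ha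
      have htu : x.1.trace = (u : F) + ((u⁻¹ : Fˣ) : F) := by
        simp [u]; field_simp; linear_combination -h0
      have hne : (u : F) ≠ ((u⁻¹ : Fˣ) : F) := fun e => ht (by rw [htu, ← e]; exact CharTwo.add_self_eq_zero _)
      have hns' : ¬ TwoClasses.IsScalar2 (elS u 0).1 := fun hs => hne (by simpa [elS_val] using hs.2.2)
      have htr : x.1.trace = (elS u 0).1.trace := by rw [htu]; simp [elS_val, Matrix.trace_fin_two]
      obtain ⟨c, hc⟩ := isConj_iff.1 (TwoClasses.sl_isConj_of_trace hns hns' htr (Or.inr hring))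
      have hpow : ∀ k : ℕ, elS u 0 ^ k = elS (u ^ k) 0 := fun k => by
        induction k with
        | zero => simp [elS_one_zero]
        | succ k ih => rw [pow_succ, ih, elS_mul, pow_succ]; simp
      have hu : u ^ (qF - 1) = 1 := by rw [← Fintype.card_units]; exact pow_card_eq_one
      have := hpow (qF - 1)
      rw [hu, elS_one_zero, ← hc, conj_pow] at this
      have h' := congrArg (fun y => c⁻¹ * y * c) this
      simpa [mul_assoc] using h'

theorem psl_equiv_two : Nonempty (S2 ≃* Matrix.ProjectiveSpecialLinearGroup (Fin 2) F) := by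
  refine ⟨MulEquiv.ofBijective (QuotientGroup.mk' (Subgroup.center S2)) ⟨?_, QuotientGroup.mk'_surjective _⟩⟩
  rw [← MonoidHom.ker_eq_bot_iff, QuotientGroup.ker_mk', Subgroup.eq_bot_iff_forall]
  intro x hx
  obtain ⟨ε, hε, hx'⟩ := (TwoClasses.sl_scalar_iff x).1 ((sl_mem_center_iff x).1 hx)
  exact Subtype.ext (by rw [hx', TwoClasses.sq_eq_one_char_two hε, one_smul]; rfl)

/-- Unboundedly many groups with the prime graph of `SL(2, 2^n)`. -/
theorem exists_large_graph_natural (N : ℕ) :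
    ∃ (H : Type) (_ : Group H) (_ : Finite H), N < Nat.card H ∧
      (∀ p : ℕ, p.Prime → (p ∣ Nat.card S2 ↔ p ∣ Nat.card H)) ∧
      (∀ p q : ℕ, p.Prime → q.Prime → p ≠ q → ((∃ g : S2, orderOf g = p * q) ↔ ∃ g : H, orderOf g = p * q)) := by
  haveI : Finite (Semi S2 (Vec2 (Fin N) F)) := Finite.of_injective (fun x => (x.left.toAdd, x.right)) fun a b h => by
    rw [semiPair_eta a, semiPair_eta b, (Prod.mk.inj h).1, (Prod.mk.inj h).2]
  obtain ⟨H, i, j, ⟨e⟩⟩ := exists_type_zero (Semi S2 (Vec2 (Fin N) F))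
  refine ⟨H, i, inferInstance, ?_, fun p hp => ?_, fun p q hp hq hpq => ?_⟩
  · rw [Nat.card_congr e.toEquiv, card_semi_natural]
    refine lt_of_lt_of_le ?_ (Nat.le_mul_of_pos_right _ Nat.card_pos)
    exact lt_of_lt_of_le Nat.lt_two_pow_self
      ((Nat.pow_le_pow_left Fintype.one_lt_card N).trans (Nat.pow_le_pow_right Fintype.card_pos (by omega)))
  · rw [Nat.card_congr e.toEquiv]; exact prime_dvd_semi_natural N hp
  · rw [← pq_semi_natural (ι := Fin N) hp hq hpq]
    exact ⟨fun ⟨g, hg⟩ => ⟨e.symm g, by rw [MulEquiv.orderOf_eq]; exact hg⟩,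
      fun ⟨g, hg⟩ => ⟨e g, by rw [MulEquiv.orderOf_eq]; exact hg⟩⟩

end CfsgLib.Char.TwoChars
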