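import Mathlib

/-!
# Minimal covers with nilpotent members

Two members of a minimal cover never lie in a common proper subgroup. Together with elements
whose nilpotent overgroups all lie in one proper subgroup this rules out nilpotent minimal covers
of the alternating and symmetric groups.
-/

set_option autoImplicit false

namespace CfsgLib.Char.NilpotentCover

open Equiv Equiv.Perm

/-- `g` and `g'` lie in no common nilpotent subgroup and all their nilpotent overgroups lie in `M`:
then a minimal cover has a member which is not nilpotent. -/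
theorem no_cover {G : Type*} [Group G] (M : Subgroup G) (hM : M ≠ ⊤) (g g' : G) (hg : g ≠ 1)
    (hN : ∀ N : Subgroup G, Group.IsNilpotent N → (g ∈ N ∨ g' ∈ N) → N ≤ M)
    (hcap : ∀ z : G, z * g = g * z → z * g' = g' * z → z = 1) :
    ¬ ∃ 𝓐 : Finset (Subgroup G), ((∀ A ∈ 𝓐, A ≠ ⊤) ∧ (∀ g : G, ∃ A ∈ 𝓐, g ∈ A)) ∧
      (∀ 𝓑 : Finset (Subgroup G), (∀ A ∈ 𝓑, A ≠ ⊤) ∧ (∀ g : G, ∃ A ∈ 𝓑, g ∈ A) →
        𝓐.card ≤ 𝓑.card) ∧ (∀ A ∈ 𝓐, Group.IsNilpotent ↥A) := by
  classical
  rintro ⟨𝓐, ⟨hproper, hcov⟩, hmin, hnil⟩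
  obtain ⟨A, hA, hgA⟩ := hcov g
  obtain ⟨B, hB, hgB⟩ := hcov g'
  have hAB : A ≠ B := by
    rintro rfl
    haveI := hnil A hA
    haveI : Nontrivial A := ⟨⟨⟨g, hgA⟩, 1, fun h => hg (congrArg Subtype.val h)⟩⟩
    obtain ⟨z, hz1⟩ := (Subgroup.ne_bot_iff_exists_ne_one).mp
      (Group.IsNilpotent.center_ne_bot (G := A))
    have hc := Subgroup.mem_center_iff.mp z.2
    exact hz1 (Subtype.ext (Subtype.ext (hcap ((z : A) : G)
      (congrArg Subtype.val (hc ⟨g, hgA⟩)).symm (congrArg Subtype.val (hc ⟨g', hgB⟩)).symm)))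
  have h := hmin (insert M ((𝓐.erase A).erase B)) ⟨?_, ?_⟩
  · have h1 := Finset.card_insert_le M ((𝓐.erase A).erase B)
    have h2 := Finset.card_erase_add_one (Finset.mem_erase.mpr ⟨hAB.symm, hB⟩)
    have h3 := Finset.card_erase_add_one hA
    omega
  · intro C hC
    rcases Finset.mem_insert.mp hC with rfl | hC
    · exact hM
    · exact hproper C (Finset.mem_of_mem_erase (Finset.mem_of_mem_erase hC))
  · intro x
    obtain ⟨C, hC, hxC⟩ := hcov x
    by_cases hCA : C = A
    · exact ⟨M, Finset.mem_insert_self _ _, hN A (hnil A hA) (Or.inl hgA) (hCA ▸ hxC)⟩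
    by_cases hCB : C = B
    · exact ⟨M, Finset.mem_insert_self _ _, hN B (hnil B hB) (Or.inr hgB) (hCB ▸ hxC)⟩
    exact ⟨C, Finset.mem_insert_of_mem
      (Finset.mem_erase.mpr ⟨hCB, Finset.mem_erase.mpr ⟨hCA, hC⟩⟩), hxC⟩

/-- If the centraliser of `g` is inside `⟨g⟩`, a nilpotent subgroup through `g` centralises some
non-trivial power of `g`. -/
theorem exists_power {G : Type*} [Group G] (N : Subgroup G) (hN : Group.IsNilpotent N)
    {g : G} (hg : g ≠ 1) (hgN : g ∈ N) {p : G → Prop} (hC : ∀ z : G, z * g = g * z → p z) :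
    ∃ z : G, z ≠ 1 ∧ p z ∧ ∀ x ∈ N, x * z = z * x := by
  haveI : Nontrivial N := ⟨⟨⟨g, hgN⟩, 1, fun h => hg (congrArg Subtype.val h)⟩⟩
  obtain ⟨z, hz1⟩ := (Subgroup.ne_bot_iff_exists_ne_one).mp
    (Group.IsNilpotent.center_ne_bot (G := N))
  have hc := Subgroup.mem_center_iff.mp z.2
  exact ⟨((z : N) : G), fun h => hz1 (Subtype.ext (Subtype.ext h)),
    hC _ (congrArg Subtype.val (hc ⟨g, hgN⟩)).symm, fun x hx => congrArg Subtype.val (hc ⟨x, hx⟩)⟩

variable {n : ℕ}

/-- A permutation commuting with a cycle is a power of it up to something off its support. -/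
theorem commute_cycle {g x : Perm (Fin n)} (hg : g.IsCycle) (hx : x * g = g * x)
    (hoff : g.supportᶜ.card ≤ 1 ∨
      (g.supportᶜ.card ≤ 2 ∧ Equiv.Perm.sign g = 1 ∧ Equiv.Perm.sign x = 1)) :
    x ∈ Subgroup.zpowers g := by
  obtain ⟨a, ha⟩ := hg.nonempty_support
  have hga : g a ≠ a := mem_support.mp ha
  have hxa : g (x a) ≠ x a := by
    intro h
    apply hga
    apply x.injective
    rw [show x (g a) = g (x a) from congrArg (fun f : Perm (Fin n) => f a) hx, h]
  obtain ⟨i, hi⟩ := hg.exists_zpow_eq hga hxa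
  set y : Perm (Fin n) := (g ^ i)⁻¹ * x with hy
  have hyg : Commute y g :=
    ((Commute.refl g).zpow_left i).inv_left.mul_left hx
  have hya : y a = a := by
    rw [hy, mul_apply, ← hi, inv_eq_iff_eq]
  have hysub : y.support ⊆ g.supportᶜ := by
    intro b hb
    rw [Finset.mem_compl]
    intro hbg
    obtain ⟨j, hj⟩ := hg.exists_zpow_eq hga (mem_support.mp hbg)
    apply mem_support.mp hb
    rw [← hj]
    have h := congrArg (fun f : Perm (Fin n) => f a) (hyg.zpow_right j).eq
    simp only [mul_apply, hya] at h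
    exact h
  have hcard := Finset.card_le_card hysub
  have hy1 : y = 1 := by
    by_contra hne
    have h2 := two_le_card_support_of_ne_one hne
    rcases hoff with h | ⟨h, hsg, hsx⟩
    · omega
    · have hsw := IsSwap.sign_eq (card_support_eq_two.mp (show y.support.card = 2 by omega))
      rw [hy, map_mul, map_inv, map_zpow, hsg, hsx] at hsw
      simp at hsw
  exact ⟨i, by
    have : x = g ^ i * y := by rw [hy]; group
    rw [this, hy1, mul_one]⟩

/-- A non-trivial power of a cycle has the same support. -/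
theorem support_eq {g z : Perm (Fin n)} (hg : g.IsCycle) (hz : z ∈ Subgroup.zpowers g)
    (hz1 : z ≠ 1) : z.support = g.support := by
  obtain ⟨i, rfl⟩ := hz
  refine Finset.Subset.antisymm (support_zpow_le g i) fun b hb => ?_
  rw [mem_support]
  intro h
  apply hz1
  ext c
  by_cases hc : g c = c
  · rw [one_apply, zpow_apply_eq_self_of_apply_eq_self hc]
  · obtain ⟨j, hj⟩ := hg.exists_zpow_eq (mem_support.mp hb) hc
    rw [one_apply, ← hj, ← mul_apply, ((Commute.refl g).zpow_zpow i j).eq, mul_apply, h]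

/-- A permutation commuting with `z` preserves the support of `z`. -/
theorem maps_support {x z : Perm (Fin n)} (h : x * z = z * x) (b : Fin n) :
    x b ∈ z.support ↔ b ∈ z.support := by
  rw [mem_support, mem_support, show z (x b) = x (z b) from
    (congrArg (fun f : Perm (Fin n) => f b) h).symm]
  exact x.injective.eq_iff.not

/-- The conjugate of a long cycle by a transposition of neighbours. -/
theorem cap_trivial {g z : Perm (Fin n)} {a : Fin n} (hg : g.IsCycle) (ha : g a ≠ a)
    (h4 : 4 ≤ g.support.card) (hz : z ∈ Subgroup.zpowers g)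
    (hz' : z * (swap a (g a) * g * swap a (g a)) = (swap a (g a) * g * swap a (g a)) * z) :
    z = 1 := by
  by_contra hz1
  have hne : ∀ k : ℕ, 0 < k → k < 4 → (g ^ k) a ≠ a := by
    intro k hk hk4 h
    have h1 : g ^ k = 1 := (hg.pow_eq_one_iff' ha).mpr h
    have h2 := Nat.le_of_dvd hk (orderOf_dvd_of_pow_eq_one h1)
    rw [hg.orderOf] at h2
    omega
  have h1 : g a ≠ a := ha
  have h2 : g (g a) ≠ a := by simpa [pow_succ', mul_apply] using hne 2 (by norm_num) (by norm_num)
  have h3 : g (g (g a)) ≠ a := by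
    simpa [pow_succ', mul_apply] using hne 3 (by norm_num) (by norm_num)
  set b := g a with hb
  set u := g⁻¹ a with hu
  have hgu : g u = a := Equiv.apply_symm_apply g a
  have hua : u ≠ a := fun h => h1 (by rw [hb]; rw [h] at hgu; exact hgu)
  have hub : u ≠ b := fun h => h2 (by rw [← h, hgu])
  have hgb : g b ≠ b := fun h => h1 (g.injective h)
  have hzg : Commute z g := by
    obtain ⟨i, rfl⟩ := hz
    exact (Commute.refl g).zpow_left i
  set e : Perm (Fin n) := g⁻¹ * (swap a b * g * swap a b) with he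
  have hze : Commute z e := (hzg.inv_right).mul_right hz'
  have hea : e a = b := by
    simp only [he, mul_apply, swap_apply_left]
    rw [swap_apply_of_ne_of_ne h2 hgb, inv_eq_iff_eq]
  have heu : e u = a := by
    simp only [he, mul_apply]
    rw [swap_apply_of_ne_of_ne hua hub, hgu, swap_apply_left, inv_eq_iff_eq]
  have heb : e b = u := by
    simp only [he, mul_apply, swap_apply_right]
    rw [← hb, swap_apply_right]
  have heo : ∀ c, c ≠ a → c ≠ b → c ≠ u → e c = c := by
    intro c hca hcb hcu
    simp only [he, mul_apply]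
    rw [swap_apply_of_ne_of_ne hca hcb, swap_apply_of_ne_of_ne ?_ ?_, show g⁻¹ (g c) = c from Equiv.symm_apply_apply g c]
    · exact fun h => hcu (g.injective (h.trans hgu.symm))
    · exact fun h => hca (g.injective h)
  have hez : ∀ c, e (z c) = z (e c) := fun c =>
    (congrArg (fun f : Perm (Fin n) => f c) hze.eq).symm
  have hgz : ∀ c, g (z c) = z (g c) := fun c =>
    (congrArg (fun f : Perm (Fin n) => f c) hzg.eq).symm
  have hza : z a ≠ a := by
    have h := support_eq hg hz hz1
    exact mem_support.mp (h ▸ mem_support.mpr ha)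
  by_cases hzb : z a = b
  · have h5 : z b = u := by
      rw [← hea, ← hez, hzb, heb]
    have h6 : g b = u := by
      rw [← h5, hb, ← hgz, hzb]
    exact h3 (by rw [h6, hgu])
  by_cases hzu : z a = u
  · have h5 : z b = a := by
      rw [← hea, ← hez, hzu, heu]
    have h6 : z u = b := by
      rw [← heb, ← hez, h5, hea]
    have h7 : g b = u := by
      have h8 := hgz u
      rw [h6, hgu, hzu] at h8
      exact h8
    exact h3 (by rw [h7, hgu])
  · have h5 : z (e a) = z a := by rw [← hez, heo (z a) hza hzb hzu]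
    rw [hea] at h5
    exact h1 (z.injective h5)

/-- A three-cycle's nilpotent overgroups are in any `M` containing it, when it is self-centralising. -/
theorem le_of_prime {G : Type*} [Group G] (M N : Subgroup G) (hN : Group.IsNilpotent N)
    {c : G} (hc : c ≠ 1) (hc3 : c ^ 3 = 1) (hcN : c ∈ N) (hcM : c ∈ M)
    (hC : ∀ z : G, z * c = c * z → z = 1 ∨ z = c ∨ z = c * c) : N ≤ M := by
  obtain ⟨z, hz1, hz, hcomm⟩ := exists_power N hN hc hcN hC
  intro x hx
  have h := hcomm x hx
  have hxc : x * c = c * x := by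
    rcases hz with rfl | rfl | rfl
    · exact absurd rfl hz1
    · exact h
    · have h4 : c = c * c * (c * c) := by
        rw [show c * c * (c * c) = c ^ 4 by simp [pow_succ, mul_assoc], pow_succ, hc3, one_mul]
      rw [h4]
      exact Commute.mul_right h h
  rcases hC x hxc with rfl | rfl | rfl
  · exact M.one_mem
  · exact hcM
  · exact M.mul_mem hcM hcM

end CfsgLib.Char.NilpotentCover
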