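import Cfsg.Agent.Lib.Char.ThreeDegrees
import Cfsg.Agent.Lib.Coprime.Primitive

/-!
# A minimal nonabelian quotient of a solvable group

Either it is a group of prime power order or it is a Frobenius group with kernel its commutator
subgroup; a character of the inverse image of the kernel of degree prime to the kernel's prime then
induces irreducibly after a suitable twist.
-/

set_option autoImplicit false
set_option linter.unusedSectionVars false

namespace CfsgLib.Char.ThreeDegrees

open Cfsg CfsgLib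
open scoped ComplexConjugate commutatorElement

universe u

variable {G : Type u} [Group G]

/-- The Frobenius case for a group all of whose nontrivial normal subgroups contain the commutator
subgroup. -/
theorem frobenius_facts {Q : Type u} [Group Q] [Finite Q] [Group.IsSolvable Q]
    (hna : commutator Q ≠ ⊥)
    (huniq : ∀ N : Subgroup Q, N.Normal → N ≠ ⊥ → commutator Q ≤ N)
    (hnp : ∀ p : ℕ, p.Prime → ¬ IsPGroup p Q) :
    ∃ p d : ℕ, p.Prime ∧ Nat.card (commutator Q) = p ^ d ∧ ¬ p ∣ (commutator Q).index ∧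
      (∀ a ∈ commutator Q, ∀ b ∈ commutator Q, a * b = b * a) ∧
      (∀ y ∉ commutator Q, ∀ v ∈ commutator Q, v * y = y * v → v = 1) ∧
      (commutator Q).index ≤ Nat.card (commutator Q) := by
  classical
  set D := commutator Q with hD
  have hmin : ∀ K : Subgroup Q, K.Normal → K ≤ D → K = ⊥ ∨ K = D := fun K hK hle =>
    (em (K = ⊥)).imp_right fun hne => le_antisymm hle (huniq K hK hne)
  obtain ⟨p, d, hp, -, hcard, hDp, hDab'⟩ := Coprime.exists_minimal_abelian D hna hmin
  have := Fact.mk hp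
  have hab : ∀ a ∈ D, ∀ b ∈ D, a * b = b * a := fun a ha b hb =>
    Subgroup.mem_centralizer_iff.1 (hDab' hb) a ha
  -- the commutator subgroup is not central
  have hnc : ¬ D ≤ Subgroup.center Q := by
    intro hc
    haveI hQn : Group.IsNilpotent Q := by
      letI : CommGroup (Q ⧸ Subgroup.center Q) :=
        { (inferInstance : Group (Q ⧸ Subgroup.center Q)) with
          mul_comm := fun x y => by
            obtain ⟨x, rfl⟩ := QuotientGroup.mk_surjective x
            obtain ⟨y, rfl⟩ := QuotientGroup.mk_surjective y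
            rw [← QuotientGroup.mk_mul, ← QuotientGroup.mk_mul, eq_comm, QuotientGroup.eq]
            have := hc (Subgroup.commutator_mem_commutator (Subgroup.mem_top x⁻¹) (Subgroup.mem_top y⁻¹) :
              ⁅x⁻¹, y⁻¹⁆ ∈ commutator Q)
            rw [commutatorElement_def] at this
            convert this using 1
            group }
      exact Group.of_quotient_center_nilpotent inferInstance
    refine hnp p hp ?_
    obtain ⟨n, hn⟩ : ∃ n, Nat.card Q = p ^ n := by
      refine ⟨_, Nat.eq_prime_pow_of_unique_prime_dvd Nat.card_pos.ne' fun {r} hr hrQ => ?_⟩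
      have := Fact.mk hr
      obtain ⟨R⟩ : Nonempty (Sylow r Q) := inferInstance
      haveI : (R : Subgroup Q).Normal :=
        (Group.isNilpotent_of_finite_tfae (G := Q) |>.out 0 3 rfl rfl).mp hQn r inferInstance R
      by_contra hrp
      refine hna (le_bot_iff.1 ((le_inf (huniq (R : Subgroup Q) inferInstance
        (R.ne_bot_of_dvd_card hrQ)) le_rfl).trans ?_))
      rw [le_bot_iff]
      refine Subgroup.inf_eq_bot_of_coprime ?_
      obtain ⟨i, hi⟩ := IsPGroup.iff_card.1 R.2
      rw [hi, hcard]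
      exact ((Nat.coprime_primes hr hp).2 hrp).pow _ _
    exact IsPGroup.of_card hn
  haveI hDn : D.Normal := inferInstance
  -- fixed points of an element are all or nothing
  have hfix : ∀ y : Q, ∀ v ∈ D, v ≠ 1 → v * y = y * v → ∀ w ∈ D, w * y = y * w := by
    intro y v hv hv1 hvy w hw
    have hn : (D ⊓ Subgroup.centralizer ({y} : Set Q)).Normal := by
      refine ⟨fun a ha g => ⟨hDn.conj_mem a ha.1 g, ?_⟩⟩
      have hay := Subgroup.mem_centralizer_singleton_iff.1 ha.2
      -- `g⁻¹ * y * g` differs from `y` by an element of `D`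
      have hc : ⁅g⁻¹, y⁆ ∈ D := Subgroup.commutator_mem_commutator (Subgroup.mem_top _) (Subgroup.mem_top _)
      have hac := hab a ha.1 _ hc
      rw [commutatorElement_def, inv_inv] at hac
      refine Subgroup.mem_centralizer_singleton_iff.2 ?_
      calc g * a * g⁻¹ * y = g * (a * (g⁻¹ * y * g * y⁻¹)) * y * g⁻¹ := by group
        _ = g * (g⁻¹ * y * g * y⁻¹ * a) * y * g⁻¹ := by rw [hac]
        _ = y * g * y⁻¹ * (a * y) * g⁻¹ := by group
        _ = y * (g * a * g⁻¹) := by rw [hay]; group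
    rcases hmin _ hn inf_le_left with h | h
    · exact absurd (Subgroup.mem_bot.1 (h ▸ (⟨hv, Subgroup.mem_centralizer_singleton_iff.2 hvy⟩ :
        v ∈ D ⊓ Subgroup.centralizer ({y} : Set Q)))) hv1
    · exact Subgroup.mem_centralizer_singleton_iff.1 ((h.symm ▸ hw :
        w ∈ D ⊓ Subgroup.centralizer ({y} : Set Q)).2)
  set C := Subgroup.centralizer (D : Set Q) with hC
  haveI : C.Normal := Subgroup.normal_centralizer
  -- an element moving everything
  obtain ⟨y₀, hy₀⟩ : ∃ y₀ : Q, ∀ v ∈ D, v * y₀ = y₀ * v → v = 1 := by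
    by_contra hc
    push Not at hc
    refine hnc fun w hw => Subgroup.mem_center_iff.2 fun y => ?_
    obtain ⟨v, hv, hvy, hv1⟩ := hc y
    exact (hfix y v hv hv1 hvy w hw).symm
  -- the centralizer of `D` is `D`
  have hCD : C ≤ D := by
    intro c hc
    let φ : D → D := fun v => ⟨⁅(v : Q), y₀⁆, Subgroup.commutator_mem_commutator (Subgroup.mem_top _)
      (Subgroup.mem_top _)⟩
    have hφ : Function.Injective φ := by
      intro v w e
      have e' : ⁅(v : Q), y₀⁆ = ⁅(w : Q), y₀⁆ := congrArg Subtype.val e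
      rw [commutatorElement_def, commutatorElement_def, mul_left_inj] at e'
      have h1 : ((w⁻¹ * v : D) : Q) * y₀ = y₀ * ((w⁻¹ * v : D) : Q) := by
        calc ((w⁻¹ * v : D) : Q) * y₀ = (w : Q)⁻¹ * ((v : Q) * y₀ * (v : Q)⁻¹) * v := by push_cast; group
          _ = (w : Q)⁻¹ * ((w : Q) * y₀ * (w : Q)⁻¹) * v := by rw [e']
          _ = y₀ * ((w⁻¹ * v : D) : Q) := by push_cast; group
      exact (inv_mul_eq_one.1 (Subtype.ext (hy₀ _ (w⁻¹ * v).2 h1) : w⁻¹ * v = 1)).symm
    obtain ⟨v, hv⟩ := (Finite.injective_iff_surjective.1 hφ) ⟨⁅c, y₀⁆,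
      Subgroup.commutator_mem_commutator (Subgroup.mem_top _) (Subgroup.mem_top _)⟩
    have hv' : ⁅(v : Q), y₀⁆ = ⁅c, y₀⁆ := congrArg Subtype.val hv
    rw [commutatorElement_def, commutatorElement_def, mul_left_inj] at hv'
    set e := (v : Q)⁻¹ * c with he
    have hey : e * y₀ = y₀ * e := by
      calc e * y₀ = (v : Q)⁻¹ * (c * y₀ * c⁻¹) * c := by rw [he]; group
        _ = (v : Q)⁻¹ * ((v : Q) * y₀ * (v : Q)⁻¹) * c := by rw [hv']
        _ = y₀ * e := by rw [he]; group
    have heD : ∀ w ∈ D, w * e = e * w := fun w hw => by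
      have h1 := Subgroup.mem_centralizer_iff.1 hc w hw
      have h2 := hab w hw _ (inv_mem v.2)
      rw [he, ← mul_assoc, h2, mul_assoc, h1, mul_assoc]
    -- `e` is central
    have hecent : e ∈ Subgroup.center Q := by
      refine Subgroup.mem_center_iff.2 fun x => ?_
      set w := ⁅e, x⁆ with hw
      have hwD : w ∈ D := Subgroup.commutator_mem_commutator (Subgroup.mem_top _) (Subgroup.mem_top _)
      set u : Q := ⁅y₀, x⁆ with hu
      have huD : u ∈ D := Subgroup.commutator_mem_commutator (Subgroup.mem_top _) (Subgroup.mem_top _)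
      have hwy : w * y₀ = y₀ * w := by
        have h3 : y₀ * w * y₀⁻¹ = w := by
          have hxy : y₀ * x * y₀⁻¹ = u * x := by rw [hu, commutatorElement_def]; group
          have hey' : y₀ * e * y₀⁻¹ = e := by rw [← hey, mul_inv_cancel_right]
          calc y₀ * w * y₀⁻¹ = (y₀ * e * y₀⁻¹) * (y₀ * x * y₀⁻¹) * (y₀ * e * y₀⁻¹)⁻¹ * (y₀ * x * y₀⁻¹)⁻¹ := by
                rw [hw, commutatorElement_def]; group
            _ = e * (u * x) * e⁻¹ * (u * x)⁻¹ := by rw [hey', hxy]
            _ = e * u * (e⁻¹ * e) * x * e⁻¹ * (x⁻¹ * u⁻¹) := by group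
            _ = u * e * (e⁻¹ * e) * x * e⁻¹ * (x⁻¹ * u⁻¹) := by rw [heD u huD]
            _ = u * w * u⁻¹ := by rw [hw, commutatorElement_def]; group
            _ = w := by rw [hab u huD w hwD, mul_inv_cancel_right]
        calc w * y₀ = y₀ * w * y₀⁻¹ * y₀ := by rw [h3]
          _ = y₀ * w := inv_mul_cancel_right _ _
      exact (commutatorElement_eq_one_iff_mul_comm.1 (hy₀ w hwD hwy)).symm
    by_cases he1 : e = 1
    · rw [he, inv_mul_eq_one] at he1
      exact he1 ▸ v.2
    have hne : Subgroup.zpowers e ≠ ⊥ := by rwa [ne_eq, Subgroup.zpowers_eq_bot]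
    have hle : Subgroup.zpowers e ≤ Subgroup.center Q := Subgroup.zpowers_le.2 hecent
    have hn : (Subgroup.zpowers e).Normal := ⟨fun a ha g => by
      rw [(Subgroup.mem_center_iff.1 (hle ha) g), mul_inv_cancel_right]; exact ha⟩
    exact absurd ((huniq _ hn hne).trans hle) hnc
  have hfree : ∀ y ∉ D, ∀ v ∈ D, v * y = y * v → v = 1 := by
    intro y hy v hv hvy
    by_contra hv1
    exact hy (hCD (Subgroup.mem_centralizer_iff.2 (hfix y v hv hv1 hvy)))
  obtain ⟨v₀, hv₀, hv₀1⟩ : ∃ v ∈ D, v ≠ 1 := by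
    obtain ⟨v, hv⟩ := (Subgroup.ne_bot_iff_exists_ne_one).1 hna
    exact ⟨v, v.2, fun e => hv (Subtype.ext e)⟩
  refine ⟨p, d, hp, hcard, fun hd => ?_, hab, hfree, ?_⟩
  · obtain ⟨P, hDP⟩ := hDp.exists_le_sylow
    have hne : ¬ (P : Subgroup Q) ≤ D := fun hle => P.not_dvd_index (le_antisymm hle hDP ▸ hd)
    obtain ⟨y, hyP, hyD⟩ := SetLike.not_le_iff_exists.1 hne
    haveI := P.2.isNilpotent
    have h1 := Coprime.nilpotent_inf_center_ne_bot' (M := D) (N := (P : Subgroup Q)) hDP hna
    obtain ⟨w, hw⟩ := (Subgroup.ne_bot_iff_exists_ne_one).1 h1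
    exact hw (Subtype.ext (hfree y hyD w w.2.1 (Subgroup.mem_centralizer_iff.1 w.2.2 y hyP).symm))
  · rw [Subgroup.index_eq_card]
    refine Nat.card_le_card_of_injective
      (fun q : Q ⧸ D => (⟨q.out * v₀ * q.out⁻¹, hDn.conj_mem v₀ hv₀ _⟩ : D)) fun q r e => ?_
    have e' : q.out * v₀ * q.out⁻¹ = r.out * v₀ * r.out⁻¹ := congrArg Subtype.val e
    by_contra hqr
    refine hv₀1 (hfree (r.out⁻¹ * q.out) (fun hm => hqr ?_) v₀ hv₀ ?_)
    · rw [← QuotientGroup.out_eq' q, ← QuotientGroup.out_eq' r]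
      exact (QuotientGroup.eq.2 hm).symm
    · calc v₀ * (r.out⁻¹ * q.out) = r.out⁻¹ * (r.out * v₀ * r.out⁻¹) * q.out := by group
        _ = r.out⁻¹ * (q.out * v₀ * q.out⁻¹) * q.out := by rw [e']
        _ = r.out⁻¹ * q.out * v₀ := by group

/-- A twist of an invariant-free character induces irreducibly: its full induced degree occurs. -/
theorem exists_degree_mul_index [Fintype G] (L : Subgroup G) [L.Normal] (K : Subgroup L) [K.Normal]
    (hab : ∀ a b : L, a * b * a⁻¹ * b⁻¹ ∈ K)
    (hfree : ∀ y : G, y ∉ L → ∀ f : L →* ℂˣ, (∀ k ∈ K, f k = 1) →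
      f.comp (MulAut.conjNormal y : L ≃* L).toMonoidHom = f → f = 1)
    (hKinv : ∀ (y : G) (k : L), k ∈ K → (MulAut.conjNormal y : L ≃* L) k ∈ K)
    (hle : L.index ≤ K.index) (ψ : IrrCharacter L)
    (hcop : (charDegree (ψ : L → ℂ)).Coprime K.index) :
    ∃ χ : IrrCharacter G, charDegree (χ : G → ℂ) = L.index * charDegree (ψ : L → ℂ) := by
  classical
  have := Fintype.ofFinite L
  have := Fintype.ofFinite (linearOver K)
  -- a linear character fixing `ψ` is trivial
  have hinj : ∀ f : linearOver K, linMul (f : L →* ℂˣ) ψ = ψ → (f : L →* ℂˣ) = 1 := by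
    intro f hf
    obtain ⟨d, ρ, hρ, hρψ⟩ := id ψ.2
    have := hρ
    have hd : charDegree (ψ : L → ℂ) = d := by
      refine charDegree_of_eq ?_
      rw [← hρψ, Representation.char_one, Module.finrank_fin_fun]
    have hchar : (twistRep ρ (f : L →* ℂˣ)).character = ρ.character := by
      funext x
      have h1 := congrFun (congrArg Subtype.val hf) x
      simp only [linMul] at h1
      rw [hρψ, ← h1, ← hρψ]
      show LinearMap.trace ℂ _ (((f : L →* ℂˣ) x : ℂ) • ρ x) = _
      rw [map_smul, smul_eq_mul]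
      rfl
    obtain ⟨e⟩ := nonempty_equiv_of_character_eq (twistRep ρ (f : L →* ℂˣ)) ρ hchar
    have hdet : detHom (twistRep ρ (f : L →* ℂˣ)) = detHom ρ :=
      MonoidHom.ext fun g => Units.ext (det_eq_of_equiv e g).symm
    rw [detHom_twistRep, Module.finrank_fin_fun] at hdet
    have hfd : (f : L →* ℂˣ) ^ d = 1 := MonoidHom.ext fun g => by
      have hg := DFunLike.congr_fun hdet g
      rw [MonoidHom.mul_apply, mul_eq_left] at hg
      exact hg
    exact eq_one_of_pow_coprime (A := L →* ℂˣ) (x := (f : L →* ℂˣ))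
      (pow_index_eq_one_of_trivial K _ fun n => f.2 n n.2) hfd (hd ▸ hcop.symm)
  let cj : G → (L →* ℂˣ) → (L →* ℂˣ) := fun y f => f.comp (MulAut.conjNormal y : L ≃* L).toMonoidHom
  let T : linearOver K → Subgroup G := fun f => inertia L (linMul (f : L →* ℂˣ) ψ : L → ℂ)
  -- at most one twist is bad for a given coset
  have huniq : ∀ (y : G) (f g : linearOver K), y ∉ L → y ∈ T f → y ∈ T g → f = g := by
    intro y f g hy hf hg
    have hfne : ∀ x, ((f : L →* ℂˣ) x : ℂ) ≠ 0 := fun x => Units.ne_zero _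
    set κ : L →* ℂˣ := ((g : L →* ℂˣ) * (f : L →* ℂˣ)⁻¹) * (cj y ((g : L →* ℂˣ) * (f : L →* ℂˣ)⁻¹))⁻¹
      with hκ
    have hκK : κ ∈ linearOver K := by
      have h1 : (g : L →* ℂˣ) * (f : L →* ℂˣ)⁻¹ ∈ linearOver K := mul_mem g.2 (inv_mem f.2)
      refine mul_mem h1 (inv_mem ((mem_linearOver K).2 fun k hk => ?_))
      -- conjugation preserves `K` up to linear characters over it
      show ((g : L →* ℂˣ) * (f : L →* ℂˣ)⁻¹) ((MulAut.conjNormal y : L ≃* L) k) = 1
      exact (mem_linearOver K).1 h1 _ (hKinv y k hk)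
    have hκ1 : κ = 1 := by
      refine hinj ⟨κ, hκK⟩ (Subtype.ext (funext fun x => ?_))
      have ef := congrFun ((mem_inertia L _ y).1 hf) x
      have eg := congrFun ((mem_inertia L _ y).1 hg) x
      have hx : (⟨y * (x : G) * y⁻¹, (inferInstance : L.Normal).conj_mem x x.2 y⟩ : L) =
          (MulAut.conjNormal y : L ≃* L) x := Subtype.ext (MulAut.conjNormal_apply y x).symm
      simp only [conjFun, linMul, hx] at ef eg
      simp only [linMul, hκ, cj, MonoidHom.mul_apply, MonoidHom.inv_apply, MonoidHom.comp_apply,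
        MulEquiv.coe_toMonoidHom, Units.val_mul, Units.val_inv_eq_inv_val]
      have n1 := hfne x
      have n2 := hfne ((MulAut.conjNormal y : L ≃* L) x)
      have n3 : (((g : L →* ℂˣ) ((MulAut.conjNormal y : L ≃* L) x)) : ℂ) ≠ 0 := Units.ne_zero _
      field_simp
      linear_combination (((g : L →* ℂˣ) ((MulAut.conjNormal y : L ≃* L) x)) : ℂ) * ef -
        (((f : L →* ℂˣ) ((MulAut.conjNormal y : L ≃* L) x)) : ℂ) * eg
    have h2 := hfree y hy ((g : L →* ℂˣ) * (f : L →* ℂˣ)⁻¹)
      (fun k hk => (mem_linearOver K).1 (mul_mem g.2 (inv_mem f.2)) k hk)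
      (mul_inv_eq_one.1 (hκ.symm.trans hκ1)).symm
    exact Subtype.ext (mul_inv_eq_one.1 h2).symm
  -- some twist has inertia group `L`
  obtain ⟨f, hf⟩ : ∃ f : linearOver K, T f ≤ L := by
    by_contra hall
    push Not at hall
    choose y hyT hyL using fun f => SetLike.not_le_iff_exists.1 (hall f)
    let φ : linearOver K → {q : G ⧸ L // q ≠ 1} := fun f =>
      ⟨(y f : G ⧸ L), fun e => hyL f ((QuotientGroup.eq_one_iff _).1 e)⟩
    have hφ : Function.Injective φ := by
      intro f g e
      have e' : (y f : G ⧸ L) = (y g : G ⧸ L) := congrArg Subtype.val e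
      have hle' : L ≤ T f := le_inertia L (isClassFunction_irr (linMul (f : L →* ℂˣ) ψ))
      refine huniq (y g) f g (hyL g) ?_ (hyT g)
      have h1 : (y f)⁻¹ * y g ∈ L := QuotientGroup.eq.1 e'
      have := (T f).mul_mem (hyT f) (hle' h1)
      rwa [mul_inv_cancel_left] at this
    have h1 := Nat.card_le_card_of_injective φ hφ
    rw [card_linearOver K hab] at h1
    have h2 : Nat.card {q : G ⧸ L // q ≠ 1} < Nat.card (G ⧸ L) :=
      Finite.card_subtype_lt (x := (1 : G ⧸ L)) (by simp)
    rw [← Subgroup.index_eq_card] at h2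
    omega
  have hT : T f = L := le_antisymm hf (le_inertia L (isClassFunction_irr (linMul (f : L →* ℂˣ) ψ)))
  set ψ' := linMul (f : L →* ℂˣ) ψ with hψ'
  have hd' : charDegree (ψ' : L → ℂ) = charDegree (ψ : L → ℂ) := by
    refine charDegree_of_eq ?_
    show (((f : L →* ℂˣ) 1 : ℂˣ) : ℂ) * (ψ : L → ℂ) 1 = _
    rw [map_one, Units.val_one, one_mul, Block.ItoMichler.one_eq_cast]
  obtain ⟨χ, hχ⟩ := Block.ItoMichler.exists_irr_over L ψ'
  refine ⟨χ, ?_⟩
  obtain ⟨e, he⟩ := classInner_isCharacter (isCharacter_comp (isCharacter_irr χ) L.subtype)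
    (isCharacter_irr ψ')
  have he' : classInner (fun x : L => (χ : G → ℂ) x) (ψ' : L → ℂ) = (e : ℂ) := he
  have h1 := clifford_degree L χ.2 ψ'.2 hχ
  rw [he', show inertia L (ψ' : L → ℂ) = L from hT, Block.ItoMichler.one_eq_cast,
    Block.ItoMichler.one_eq_cast, hd'] at h1
  have h2 : charDegree (χ : G → ℂ) = e * L.index * charDegree (ψ : L → ℂ) := by exact_mod_cast h1
  have h3 : classInner (indFun L (ψ' : L → ℂ)) (χ : G → ℂ) ≠ 0 := by
    rw [classInner_indFun L _ _ (isClassFunction_irr χ), ← classInner_conj, he', map_natCast]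
    exact he' ▸ hχ
  have h4 := (degree_le_of_constituent (isCharacter_indFun L (isCharacter_irr ψ')) χ h3
    (a := L.index * charDegree (ψ : L → ℂ)) (b := charDegree (χ : G → ℂ))
    (by rw [indFun_one, Block.ItoMichler.one_eq_cast, hd', Nat.cast_mul])
    (Block.ItoMichler.one_eq_cast χ)).1
  have he0 : e ≠ 0 := fun e0 => hχ (by rw [he', e0, Nat.cast_zero])
  refine le_antisymm h4 ?_
  rw [h2, mul_assoc]
  exact Nat.le_mul_of_pos_left _ (Nat.pos_of_ne_zero he0)

end CfsgLib.Char.ThreeDegrees
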