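import Cfsg.Agent.Lib.Char.Zeros
import Cfsg.Agent.Lib.Char.Gallagher

/-!
# Nonnegative characters with average one

A character with nonnegative values, average one and degree above one vanishes somewhere; so a
restriction to a normal subgroup is reducible exactly when the character vanishes on a coset.
-/

set_option autoImplicit false
set_option linter.unusedSectionVars false

namespace CfsgLib.Char

open scoped ComplexConjugate
open Representation Module Cfsg

universe u

variable {G : Type u} [Group G] [Fintype G]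

theorem exists_zero_of_nonneg_char {η : G → ℂ} (hη : IsCharacter G η) {a : G → ℝ}
    (ha : ∀ g, η g = (a g : ℂ)) (hnn : ∀ g, 0 ≤ a g) (hsum : ∑ g, a g = Fintype.card G)
    (h1 : 1 < a 1) : ∃ g : G, η g = 0 := by
  classical
  by_contra hc
  push Not at hc
  have hpos : ∀ g, 0 < a g := fun g => (hnn g).lt_of_ne fun e => hc g (by rw [ha, ← e, Complex.ofReal_zero])
  set s : Finset G := Finset.univ.erase 1 with hs
  have hPint : IsIntegral ℤ (∏ g ∈ s, η g) :=
    IsIntegral.prod _ fun g _ => isCharacter_isIntegral hη g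
  have hfix : ∀ φ : Alg →ₐ[ℚ] ℂ, φ ⟨_, mem_alg_of_isIntegral hPint⟩ = ∏ g ∈ s, η g := by
    intro φ
    obtain ⟨m, hm, htw⟩ := exists_char_twist (G := G) φ
    let v : G → Alg := fun g => ⟨η g, mem_alg_of_isIntegral (isCharacter_isIntegral hη g)⟩
    have e : (⟨_, mem_alg_of_isIntegral hPint⟩ : Alg) = ∏ g ∈ s, v g :=
      Subtype.ext (by simp [v])
    rw [e, map_prod]
    have hb : Function.Bijective (fun g : G => g ^ m) := (powCoprime hm.symm).bijective
    refine Finset.prod_bij (fun g _ => g ^ m) (fun g hg => ?_) (fun a _ b _ h => hb.1 h)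
      (fun g hg => ?_) fun g _ => htw _ hη g (v g) rfl
    · rw [hs, Finset.mem_erase] at hg ⊢
      exact ⟨fun h => hg.1 (hb.1 (by simpa using h)), Finset.mem_univ _⟩
    · obtain ⟨k, rfl⟩ := hb.2 g
      refine ⟨k, ?_, rfl⟩
      rw [hs, Finset.mem_erase] at hg ⊢
      exact ⟨fun h => hg.1 (by simp [h]), Finset.mem_univ _⟩
  obtain ⟨z, hz⟩ := exists_int_of_fixed hPint hfix
  have hzr : (∏ g ∈ s, a g) = (z : ℝ) := by
    rw [Finset.prod_congr rfl fun g _ => ha g, ← Complex.ofReal_prod] at hz
    exact_mod_cast hz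
  have h2 : (1 : ℝ) ≤ ∏ g ∈ s, a g := by
    have hp := Finset.prod_pos fun g (_ : g ∈ s) => hpos g
    rw [hzr] at hp ⊢
    exact_mod_cast (by exact_mod_cast hp : (0 : ℤ) < z)
  have h3 := card_le_sum_of_one_le_prod s a (fun g _ => hpos g) h2
  rw [← Finset.add_sum_erase _ _ (Finset.mem_univ (1 : G)), ← hs] at hsum
  have h4 : (s.card : ℝ) + 1 = Fintype.card G := by
    rw [hs, Finset.card_erase_of_mem (Finset.mem_univ _), Finset.card_univ]
    exact_mod_cast Nat.sub_add_cancel Fintype.card_pos
  linarith

/-- A restriction is reducible exactly when the character vanishes on a coset. -/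
theorem not_isIrr_restrict_iff_coset_zero (N : Subgroup G) [N.Normal] [Fintype N] (χ : IrrCharacter G) :
    ¬ IsIrrCharacter N (fun n : N => (χ : G → ℂ) n) ↔
      ∃ x : G, ∀ n : N, (χ : G → ℂ) ((n : G) * x) = 0 := by
  classical
  set η := cosetAvg N (fun x => (χ : G → ℂ) x * conj ((χ : G → ℂ) x)) with hη
  let a : G → ℝ := fun g => (Nat.card N : ℝ)⁻¹ * ∑ n : N, Complex.normSq ((χ : G → ℂ) ((n : G) * g))
  have ha : ∀ g, η g = (a g : ℂ) := fun g => by
    simp only [hη, cosetAvg, a]
    push_cast
    congr 1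
    exact Finset.sum_congr rfl fun n _ => Complex.mul_conj _
  constructor
  · intro hred
    have hchar : IsCharacter G η := isCharacter_cosetAvg N
      (isCharacter_mul (isCharacter_irr χ) (isCharacter_conj (isCharacter_irr χ)))
    have hres : IsCharacter N (fun n : N => (χ : G → ℂ) n) :=
      isCharacter_comp (isCharacter_irr χ) N.subtype
    obtain ⟨m, hm⟩ := classInner_isCharacter hres hres
    have hm1 : a 1 = m := by
      have h := (ha 1).symm.trans ((cosetAvg_one_eq N _ _).trans hm)
      exact_mod_cast h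
    have hne1 : m ≠ 1 := fun e => hred (isIrr_of_isCharacter_norm_one hres (by rw [hm, e, Nat.cast_one]))
    have hne0 : m ≠ 0 := fun e => by
      have h : ∑ n : N, Complex.normSq ((χ : G → ℂ) ((n : G) * 1)) = 0 := by
        rw [e, Nat.cast_zero] at hm1
        exact (mul_eq_zero.mp hm1).resolve_left (inv_ne_zero (Nat.cast_ne_zero.mpr Nat.card_pos.ne'))
      have h1 := (Finset.sum_eq_zero_iff_of_nonneg fun n _ => Complex.normSq_nonneg _).mp h 1
        (Finset.mem_univ _)
      rw [Complex.normSq_eq_zero, OneMemClass.coe_one, one_mul] at h1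
      exact irr_one_ne_zero χ h1
    have hsum : ∑ g, a g = (Fintype.card G : ℝ) := by
      have h : ∑ g, η g = (Fintype.card G : ℂ) := by
        rw [hη, sum_cosetAvg]
        have h1 := classInner_irr_self χ
        rw [classInner, inv_mul_eq_iff_eq_mul₀ (Nat.cast_ne_zero.mpr Nat.card_pos.ne'), mul_one] at h1
        rw [h1, Nat.card_eq_fintype_card]
      rw [Finset.sum_congr rfl fun g _ => ha g, ← Complex.ofReal_sum] at h
      exact_mod_cast h
    obtain ⟨g, hg⟩ := exists_zero_of_nonneg_char hchar ha
      (fun g => mul_nonneg (inv_nonneg.mpr (Nat.cast_nonneg _))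
        (Finset.sum_nonneg fun n _ => Complex.normSq_nonneg _)) hsum
      (by rw [hm1]; exact_mod_cast (show 1 < m by omega))
    refine ⟨g, fun n => ?_⟩
    rw [ha, Complex.ofReal_eq_zero] at hg
    exact Complex.normSq_eq_zero.mp ((Finset.sum_eq_zero_iff_of_nonneg fun n _ =>
      Complex.normSq_nonneg _).mp ((mul_eq_zero.mp hg).resolve_left
        (inv_ne_zero (Nat.cast_ne_zero.mpr Nat.card_pos.ne'))) n (Finset.mem_univ _))
  · rintro ⟨x, hx⟩ hirr
    have h := congrFun (cosetAvg_self_eq_one N χ hirr) x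
    simp [cosetAvg, hx] at h

end CfsgLib.Char
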