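import Cfsg.Agent.Lib.Char.TwoNonzero
import Cfsg.Agent.Lib.Char.Counting
import Cfsg.Agent.Lib.Char.SquareRoots
import Cfsg.Agent.Lib.Char.Clifford

/-!
# Real characters and real classes over a normal subgroup of odd index
-/

set_option autoImplicit false
set_option linter.unusedSectionVars false
set_option linter.style.haveILetI false

namespace CfsgLib.Char.RealOddIndex

open scoped ComplexConjugate
open Cfsg

universe u

variable {G : Type u} [Group G] [Finite G] (N : Subgroup G) [hNn : N.Normal]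

theorem pow_odd_inv {g x : G} (h : g * x * g⁻¹ = x⁻¹) (j : ℕ) :
    g ^ (2 * j + 1) * x * (g ^ (2 * j + 1))⁻¹ = x⁻¹ := by
  induction j with
  | zero => simpa using h
  | succ j ih =>
    have h' : g * x⁻¹ * g⁻¹ = x := by
      rw [show g * x⁻¹ * g⁻¹ = (g * x * g⁻¹)⁻¹ by group, h, inv_inv]
    calc g ^ (2 * (j + 1) + 1) * x * (g ^ (2 * (j + 1) + 1))⁻¹
        = g * (g * (g ^ (2 * j + 1) * x * (g ^ (2 * j + 1))⁻¹) * g⁻¹) * g⁻¹ := by
          rw [show 2 * (j + 1) + 1 = 1 + 1 + (2 * j + 1) by omega, pow_add (g) (1 + 1), pow_two g]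
          group
      _ = x⁻¹ := by rw [ih, h', h]

/-- An element with square fixing a point fixes it, modulo a subgroup of odd index acting trivially. -/
theorem odd_fix {X : Type*} [MulAction G X] (hodd : Odd N.index)
    (hN : ∀ n ∈ N, ∀ x : X, n • x = x) {g : G} {x : X} (h : g • g • x = x) : g • x = x := by
  obtain ⟨j, hj⟩ := hodd
  have h2 : ∀ i : ℕ, g ^ (2 * i) • x = x := by
    intro i
    induction i with
    | zero => simp
    | succ i ih =>
      rw [show 2 * (i + 1) = 1 + 1 + 2 * i by omega, pow_add, mul_smul, ih, pow_add, pow_one,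
        mul_smul, h]
  have h1 := hN _ (N.pow_index_mem g) x
  rw [hj, show 2 * j + 1 = 1 + 2 * j by omega, pow_add, mul_smul, h2, pow_one] at h1
  exact h1

/-- A class of `G` that is real lies in `N` and is real there. -/
theorem real_mem (hodd : Odd N.index) {x : G} (h : IsConj x x⁻¹) :
    ∃ hx : x ∈ N, IsConj (⟨x, hx⟩ : N) (⟨x, hx⟩ : N)⁻¹ := by
  obtain ⟨g, hg⟩ := isConj_iff.mp h
  obtain ⟨j, hj⟩ := hodd
  have hgn := pow_odd_inv hg j
  rw [← hj] at hgn
  have hu := N.pow_index_mem g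
  have hx : x ∈ N := by
    have e := congrArg (QuotientGroup.mk : G → G ⧸ N) hgn
    rw [QuotientGroup.mk_mul, QuotientGroup.mk_mul, QuotientGroup.mk_inv, QuotientGroup.mk_inv,
      (QuotientGroup.eq_one_iff _).mpr hu, one_mul, inv_one, mul_one] at e
    by_contra hx
    refine hx ((QuotientGroup.eq_one_iff x).mp ?_)
    have h2 : orderOf (x : G ⧸ N) ∣ 2 :=
      orderOf_dvd_of_pow_eq_one (by rw [pow_two]; exact mul_eq_one_iff_eq_inv.mpr e)
    have h3 : orderOf (x : G ⧸ N) ∣ 2 * j + 1 := by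
      rw [← hj, Subgroup.index_eq_card]; exact orderOf_dvd_natCard _
    refine orderOf_eq_one_iff.mp (Nat.dvd_one.mp ?_)
    have := Nat.dvd_sub h3 (h2.mul_right j)
    rwa [Nat.add_sub_cancel_left] at this
  exact ⟨hx, isConj_iff.mpr ⟨⟨_, hu⟩, Subtype.ext hgn⟩⟩

/-- Conjugation on the characters of a normal subgroup. -/
@[reducible] noncomputable def irrAction : MulAction G (IrrCharacter N) where
  smul g ν := TwoNonzero.twist g ν
  one_smul ν := Subtype.ext (funext fun n => by
    show (ν : N → ℂ) _ = _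
    refine congrArg (ν : N → ℂ) (Subtype.ext ?_)
    simp)
  mul_smul g h ν := Subtype.ext (funext fun n => by
    show (ν : N → ℂ) _ = (ν : N → ℂ) _
    refine congrArg (ν : N → ℂ) (Subtype.ext ?_)
    simp [mul_assoc])

/-- Conjugation on the classes of a normal subgroup. -/
@[reducible] noncomputable def classAction : MulAction G (ConjClasses N) where
  smul g c := ConjClasses.map (MulAut.conjNormal g : MulAut N).toMonoidHom c
  one_smul c := by
    obtain ⟨k, rfl⟩ := ConjClasses.exists_rep c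
    show ConjClasses.mk _ = _
    refine congrArg ConjClasses.mk (Subtype.ext ?_)
    simp
  mul_smul g h c := by
    obtain ⟨k, rfl⟩ := ConjClasses.exists_rep c
    show ConjClasses.mk _ = ConjClasses.mk _
    refine congrArg ConjClasses.mk (Subtype.ext ?_)
    simp [mul_assoc]

/-- The orbit relation on real characters. -/
def irrRel (θ η : {θ : IrrCharacter N // ∀ k : N, ((θ : N → ℂ) k).im = 0}) : Prop :=
  ∃ g : G, ∀ k k' : N, (k' : G) = g * (k : G) * g⁻¹ → (η.1 : N → ℂ) k' = (θ.1 : N → ℂ) k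

/-- The orbit relation on real elements. -/
def eltRel (x y : {x : N // IsConj x x⁻¹}) : Prop := ∃ g : G, (y.1 : G) = g * x.1 * g⁻¹

theorem irrRel_iff (θ η : {θ : IrrCharacter N // ∀ k : N, ((θ : N → ℂ) k).im = 0}) :
    irrRel N θ η ↔ ∃ g : G, TwoNonzero.twist g θ.1 = η.1 := by
  refine ⟨fun ⟨g, h⟩ => ⟨g, Subtype.ext (funext fun n => ?_)⟩, fun ⟨g, h⟩ => ⟨g, fun k k' e => ?_⟩⟩
  · exact (h _ n (by simp [mul_assoc])).symm
  · rw [← h]
    show (θ.1 : N → ℂ) _ = _
    refine congrArg _ (Subtype.ext ?_)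
    simp [e, mul_assoc]

/-- Real orbits of characters and of classes are equinumerous. -/
theorem card_orbits (hodd : Odd N.index) :
    Nat.card (Quot (irrRel N)) = Nat.card (Quot (eltRel N)) := by
  classical
  have := Fintype.ofFinite G
  have := Fintype.ofFinite N
  letI := irrAction N
  letI := classAction N
  let Θ : SubMulAction G (IrrCharacter N) :=
    { carrier := {θ | ∀ k : N, ((θ : N → ℂ) k).im = 0}
      smul_mem' := fun g θ hθ k => hθ _ }
  let Q : SubMulAction G (ConjClasses N) :=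
    { carrier := {c | ∀ k : N, ConjClasses.mk k = c → IsConj k k⁻¹}
      smul_mem' := fun g c hc => by
        obtain ⟨k₀, rfl⟩ := ConjClasses.exists_rep c
        intro k hk
        let α : N →* N := (MulAut.conjNormal g : MulAut N).toMonoidHom
        have h1 : IsConj k (α k₀) := ConjClasses.mk_eq_mk_iff_isConj.mp hk
        obtain ⟨z, hz⟩ := isConj_iff.mp h1
        have h2 : IsConj k⁻¹ (α k₀)⁻¹ := isConj_iff.mpr ⟨z, by rw [← hz]; group⟩
        refine h1.trans (IsConj.trans ?_ h2.symm)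
        rw [← map_inv]
        exact α.map_isConj (hc k₀ rfl) }
  have hquot1 : Nat.card (Quot (irrRel N)) = Nat.card (MulAction.orbitRel.Quotient G Θ) := by
    refine Nat.card_congr (Quot.congr (Equiv.refl _) fun θ η => ?_)
    rw [irrRel_iff]
    show _ ↔ (MulAction.orbitRel G Θ) θ η
    rw [MulAction.orbitRel_apply, MulAction.mem_orbit_iff]
    constructor
    · rintro ⟨g, hg⟩
      exact ⟨g⁻¹, inv_smul_eq_iff.mpr (Subtype.ext hg.symm)⟩
    · rintro ⟨g, hg⟩
      have hg' : g • η.1 = θ.1 := congrArg Subtype.val hg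
      exact ⟨g⁻¹, inv_smul_eq_iff.mpr hg'.symm⟩
  have hquot2 : Nat.card (Quot (eltRel N)) = Nat.card (MulAction.orbitRel.Quotient G Q) := by
    let F : Quot (eltRel N) → MulAction.orbitRel.Quotient G Q := Quot.lift
      (fun x => Quotient.mk (MulAction.orbitRel G Q) ⟨ConjClasses.mk x.1, fun k hk => by
        have h1 := ConjClasses.mk_eq_mk_iff_isConj.mp hk
        obtain ⟨z, hz⟩ := isConj_iff.mp h1
        exact (h1.trans x.2).trans (isConj_iff.mpr ⟨z, by rw [← hz]; group⟩ : IsConj k⁻¹ x.1⁻¹).symm⟩)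
      (fun x y ⟨g, hg⟩ => by
        refine Quotient.sound ?_
        show (MulAction.orbitRel G Q) _ _
        rw [MulAction.orbitRel_apply, MulAction.mem_orbit_iff]
        refine ⟨g⁻¹, Subtype.ext ?_⟩
        show ConjClasses.mk _ = ConjClasses.mk _
        refine congrArg ConjClasses.mk (Subtype.ext ?_)
        simp [hg, mul_assoc])
    refine Nat.card_eq_of_bijective F ⟨?_, ?_⟩
    · rintro ⟨x⟩ ⟨y⟩ e
      refine Quot.sound ?_
      have e' := Quotient.exact e
      change (MulAction.orbitRel G Q) _ _ at e'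
      rw [MulAction.orbitRel_apply, MulAction.mem_orbit_iff] at e'
      obtain ⟨g, hg⟩ := e'
      have h1 : IsConj ((MulAut.conjNormal g : MulAut N) y.1) x.1 :=
        ConjClasses.mk_eq_mk_iff_isConj.mp (congrArg Subtype.val hg)
      obtain ⟨z, hz⟩ := isConj_iff.mp h1
      refine ⟨((z : G) * g)⁻¹, ?_⟩
      have := congrArg Subtype.val hz
      simp only [Subgroup.coe_mul, InvMemClass.coe_inv, MulAut.conjNormal_apply] at this
      rw [← this]
      group
    · intro q
      obtain ⟨⟨c, hc⟩, rfl⟩ := Quotient.exists_rep q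
      obtain ⟨k, rfl⟩ := ConjClasses.exists_rep c
      exact ⟨Quot.mk _ ⟨k, hc k rfl⟩, rfl⟩
  -- fixed points
  have hNΘ : ∀ n ∈ N, ∀ x : IrrCharacter N, n • x = x := fun n hn x => Subtype.ext (funext fun k => by
    show (x : N → ℂ) _ = _
    refine classFun_isConj (isClassFunction_irr x) (isConj_iff.mpr ⟨⟨n, hn⟩, Subtype.ext ?_⟩)
    simp [mul_assoc])
  have hNQ : ∀ n ∈ N, ∀ c : ConjClasses N, n • c = c := fun n hn c => by
    obtain ⟨k, rfl⟩ := ConjClasses.exists_rep c
    show ConjClasses.mk _ = _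
    refine ConjClasses.mk_eq_mk_iff_isConj.mpr (isConj_iff.mpr ⟨⟨n, hn⟩⁻¹, Subtype.ext ?_⟩)
    simp [mul_assoc]
  have hfixed : ∀ g : G, Nat.card (MulAction.fixedBy Θ g) = Nat.card (MulAction.fixedBy Q g) := by
    intro g
    let α : MulAut N := MulAut.conjNormal g⁻¹
    have hinv : ∀ a b : N, IsConj a b → IsConj a⁻¹ b⁻¹ := fun a b hab => by
      obtain ⟨z, hz⟩ := isConj_iff.mp hab
      exact isConj_iff.mpr ⟨z, by rw [← hz]; group⟩
    have hα : ∀ a b : N, IsConj a b → IsConj (α a) (α b) := fun a b hab =>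
      α.toMonoidHom.map_isConj hab
    have hsm : ∀ k : N, g⁻¹ • ConjClasses.mk k = ConjClasses.mk (α k) := fun k => rfl
    have hclass : ∀ k : N, IsConj k (α k)⁻¹ ↔
        IsConj k k⁻¹ ∧ g • ConjClasses.mk k = ConjClasses.mk k := by
      intro k
      constructor
      · intro h
        have h2 : IsConj k (α (α k)) := by
          have h3 := hinv _ _ (hα _ _ h)
          rw [map_inv, inv_inv] at h3
          exact h.trans h3
        have hfix : g⁻¹ • g⁻¹ • ConjClasses.mk k = ConjClasses.mk k := by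
          rw [hsm, hsm]
          exact ConjClasses.mk_eq_mk_iff_isConj.mpr h2.symm
        have h4 := odd_fix N hodd hNQ hfix
        have h5 : IsConj (α k) k := ConjClasses.mk_eq_mk_iff_isConj.mp ((hsm k).symm.trans h4)
        exact ⟨h.trans (hinv _ _ h5), (inv_smul_eq_iff.mp h4).symm⟩
      · rintro ⟨hr, hf⟩
        have h5 : IsConj (α k) k := ConjClasses.mk_eq_mk_iff_isConj.mp
          ((hsm k).symm.trans (inv_smul_eq_iff.mpr hf.symm))
        exact hr.trans (hinv _ _ h5).symm
    have hirr : ∀ χ : IrrCharacter N, IsIrrCharacter N (fun k => (χ : N → ℂ) ((α k)⁻¹)) := fun χ =>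
      isIrrCharacter_comp_surjective (irr_inv_isIrr χ) α.toMonoidHom α.surjective
    have h := card_fixed_irr_eq (G := N) (fun k => (α k)⁻¹)
      (fun c => ∀ k, ConjClasses.mk k = c → IsConj k (α k)⁻¹) (fun k => ⟨fun h => h k rfl, fun h k' hk' => by
        have h1 := ConjClasses.mk_eq_mk_iff_isConj.mp hk'
        exact (h1.trans h).trans (hinv _ _ (hα _ _ h1)).symm⟩) hirr
    have htw : ∀ (θ : IrrCharacter N) (k : N), ((g • θ : IrrCharacter N) : N → ℂ) k = (θ : N → ℂ) (α k) :=
      fun θ k => rfl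
    have hθfix : ∀ θ : IrrCharacter N, (fun k => (θ : N → ℂ) (α k)⁻¹) = (θ : N → ℂ) →
        g • θ = θ ∧ ∀ k : N, ((θ : N → ℂ) k).im = 0 := by
      intro θ hθ
      have e : ∀ k, conj ((θ : N → ℂ) (α k)) = (θ : N → ℂ) k := fun k => by
        rw [← irr_inv]; exact congrFun hθ k
      have hgg : g • g • θ = θ := Subtype.ext (funext fun k => by
        rw [htw, htw, ← e k, ← e (α k), Complex.conj_conj])
      have hg1 := odd_fix N hodd hNΘ hgg
      refine ⟨hg1, fun k => Complex.conj_eq_iff_im.mp ?_⟩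
      conv_lhs => rw [← hg1, htw]
      exact e k
    refine Eq.trans ?_ (h.trans ?_)
    · refine Nat.card_congr
        { toFun := fun θ => ⟨θ.1.1, funext fun k => ?_⟩
          invFun := fun θ => ⟨⟨θ.1, (hθfix θ.1 θ.2).2⟩, Subtype.ext (hθfix θ.1 θ.2).1⟩
          left_inv := fun θ => rfl
          right_inv := fun θ => rfl }
      have e := congrFun (congrArg Subtype.val (congrArg Subtype.val (θ.2 : g • θ.1 = θ.1))) k
      rw [irr_inv, Complex.conj_eq_iff_im.mpr (θ.1.2 _)]
      exact e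
    · refine Nat.card_congr
        { toFun := fun c => ⟨⟨c.1, fun k hk => ((hclass k).mp (c.2 k hk)).1⟩, ?_⟩
          invFun := fun c => ⟨c.1.1, fun k hk => ?_⟩
          left_inv := fun c => rfl
          right_inv := fun c => rfl }
      · obtain ⟨k, hk⟩ := ConjClasses.exists_rep c.1
        refine Subtype.ext ?_
        show g • c.1 = c.1
        rw [← hk]
        exact ((hclass k).mp (c.2 k hk)).2
      · refine (hclass k).mpr ⟨c.1.2 k hk, ?_⟩
        rw [hk]
        exact congrArg Subtype.val (c.2 : g • c.1 = c.1)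
  have := Fintype.ofFinite (IrrCharacter N)
  have := Fintype.ofFinite (ConjClasses N)
  have e1 := MulAction.sum_card_fixedBy_eq_card_orbits_mul_card_group G Θ
  have e2 := MulAction.sum_card_fixedBy_eq_card_orbits_mul_card_group G Q
  rw [hquot1, hquot2]
  simp only [← Nat.card_eq_fintype_card] at e1 e2
  rw [Finset.sum_congr rfl fun g _ => hfixed g, e2] at e1
  exact (Nat.eq_of_mul_eq_mul_right Nat.card_pos e1).symm

/-- Real elements of `G` are the real orbits of `N`. -/
theorem card_real_eq (hodd : Odd N.index) :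
    Nat.card {χ : IrrCharacter G // ∀ g : G, ((χ : G → ℂ) g).im = 0} = Nat.card (Quot (eltRel N)) := by
  classical
  rw [card_real_irr]
  symm
  let F : Quot (eltRel N) → {C : ConjClasses G // ∀ g : G, ConjClasses.mk g = C → IsConj g g⁻¹} :=
    Quot.lift (fun x => ⟨ConjClasses.mk (x.1 : G), fun g hg => by
        have h1 := ConjClasses.mk_eq_mk_iff_isConj.mp hg
        obtain ⟨z, hz⟩ := isConj_iff.mp h1
        have h2 : IsConj (x.1 : G) (x.1 : G)⁻¹ := N.subtype.map_isConj x.2
        exact (h1.trans h2).trans (isConj_iff.mpr ⟨z, by rw [← hz]; group⟩ : IsConj g⁻¹ (x.1 : G)⁻¹).symm⟩)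
      (fun x y ⟨g, hg⟩ => Subtype.ext
        (ConjClasses.mk_eq_mk_iff_isConj.mpr (isConj_iff.mpr ⟨g, hg.symm⟩)))
  refine Nat.card_eq_of_bijective F ⟨?_, ?_⟩
  · rintro ⟨x⟩ ⟨y⟩ e
    obtain ⟨g, hg⟩ := isConj_iff.mp (ConjClasses.mk_eq_mk_iff_isConj.mp (congrArg Subtype.val e))
    exact Quot.sound ⟨g, hg.symm⟩
  · rintro ⟨C, hC⟩
    obtain ⟨x, rfl⟩ := ConjClasses.exists_rep C
    obtain ⟨hx, hreal⟩ := real_mem N hodd (hC x rfl)
    exact ⟨Quot.mk _ ⟨⟨x, hx⟩, hreal⟩, rfl⟩

/-- The weighted count of real characters over a character of `N`. -/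
theorem sum_sqInd_mult [Fintype G] [Fintype N] [Fintype (IrrCharacter G)] (hodd : Odd N.index)
    (φ : IrrCharacter N) :
    ∑ χ : IrrCharacter G, sqInd (χ : G → ℂ) * classInner (fun n : N => (χ : G → ℂ) n) (φ : N → ℂ) =
      sqInd (φ : N → ℂ) := by
  classical
  have := Fintype.ofFinite (IrrCharacter N)
  have hfun : (∑ χ : IrrCharacter G, sqInd (χ : G → ℂ) • fun n : N => (χ : G → ℂ) n) =
      ∑ ψ : IrrCharacter N, sqInd (ψ : N → ℂ) • (ψ : N → ℂ) := by
    funext n
    simp only [Finset.sum_apply, Pi.smul_apply, smul_eq_mul, ← card_square_roots]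
    refine congrArg Nat.cast (Nat.card_congr
      { toFun := fun s => ⟨⟨s.1, ?_⟩, Subtype.ext s.2⟩
        invFun := fun s => ⟨s.1, congrArg Subtype.val s.2⟩
        left_inv := fun s => rfl
        right_inv := fun s => rfl })
    obtain ⟨j, hj⟩ := hodd
    have h1 := N.pow_index_mem s.1
    rw [hj, pow_succ, pow_mul, pow_two, s.2] at h1
    exact (N.mul_mem_cancel_left (N.pow_mem n.2 j)).mp h1
  have h := congrArg (fun f => classInner f (φ : N → ℂ)) hfun
  simp only [classInner_sum_left, classInner_smul_left, classInner_irr, mul_ite, mul_one, mul_zero,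
    Finset.sum_ite_eq', Finset.mem_univ, if_true] at h
  exact h

/-- Over a real character of a normal subgroup of odd index lies exactly one real character. -/
theorem existsUnique_real_over [Fintype G] [Fintype N] (hodd : Odd N.index) (φ : IrrCharacter N)
    (hφ : ∀ k : N, ((φ : N → ℂ) k).im = 0) :
    ∃ χ : IrrCharacter G, (∀ g : G, ((χ : G → ℂ) g).im = 0) ∧
      classInner (fun n : N => (χ : G → ℂ) n) (φ : N → ℂ) ≠ 0 ∧
      sqInd (χ : G → ℂ) = sqInd (φ : N → ℂ) ∧
      ∀ χ' : IrrCharacter G, (∀ g : G, ((χ' : G → ℂ) g).im = 0) →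
        classInner (fun n : N => (χ' : G → ℂ) n) (φ : N → ℂ) ≠ 0 → χ' = χ := by
  classical
  have := Fintype.ofFinite (IrrCharacter G)
  let R := {χ : IrrCharacter G // ∀ g : G, ((χ : G → ℂ) g).im = 0}
  have hex : ∀ θ : {θ : IrrCharacter N // ∀ k : N, ((θ : N → ℂ) k).im = 0}, ∃ χ : R,
      classInner (fun n : N => (χ.1 : G → ℂ) n) (θ.1 : N → ℂ) ≠ 0 := by
    intro θ
    by_contra hc
    push Not at hc
    have h := sum_sqInd_mult N hodd θ.1
    rw [Finset.sum_eq_zero fun χ _ => ?_] at h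
    · obtain ⟨s, hs⟩ := (sqInd_cases θ.1).2.mp h.symm
      exact hs (θ.2 s)
    · by_cases h0 : sqInd (χ : G → ℂ) = 0
      · rw [h0, zero_mul]
      · rw [hc ⟨χ, real_of_sqInd_ne_zero χ h0⟩, mul_zero]
  have hsame : ∀ (χ : IrrCharacter G) (θ η : {θ : IrrCharacter N // ∀ k : N, ((θ : N → ℂ) k).im = 0}),
      classInner (fun n : N => (χ : G → ℂ) n) (θ.1 : N → ℂ) ≠ 0 →
      classInner (fun n : N => (χ : G → ℂ) n) (η.1 : N → ℂ) ≠ 0 → irrRel N θ η := by
    intro χ θ η h1 h2
    by_contra hc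
    refine h2 (classInner_restrict_zero N χ.2 θ.1.2 η.1.2 h1 fun g e => hc ?_)
    refine (irrRel_iff N θ η).mpr ⟨g⁻¹, Subtype.ext (funext fun n => ?_)⟩
    rw [← e]
    show (θ.1 : N → ℂ) _ = conjFun N (θ.1 : N → ℂ) g n
    refine congrArg _ (Subtype.ext ?_)
    simp
  let f : Quot (irrRel N) → R := fun q => (hex q.out).choose
  have hf : ∀ q, classInner (fun n : N => ((f q).1 : G → ℂ) n) (q.out.1 : N → ℂ) ≠ 0 :=
    fun q => (hex q.out).choose_spec
  have hinj : Function.Injective f := fun q q' e => by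
    rw [← q.out_eq, ← q'.out_eq]
    exact Quot.sound (hsame (f q).1 _ _ (hf q) (e ▸ hf q'))
  have hbij := (Nat.bijective_iff_injective_and_card f).mpr
    ⟨hinj, (card_orbits N hodd).trans (card_real_eq N hodd).symm⟩
  have huniq : ∀ a b : R, classInner (fun n : N => (a.1 : G → ℂ) n) (φ : N → ℂ) ≠ 0 →
      classInner (fun n : N => (b.1 : G → ℂ) n) (φ : N → ℂ) ≠ 0 → a = b := by
    intro a b ha hb
    obtain ⟨qa, rfl⟩ := hbij.2 a
    obtain ⟨qb, rfl⟩ := hbij.2 b
    refine congrArg f ?_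
    rw [← qa.out_eq, ← qb.out_eq]
    exact (Quot.sound (hsame _ _ ⟨φ, hφ⟩ (hf qa) ha)).trans (Quot.sound (hsame _ _ ⟨φ, hφ⟩ (hf qb) hb)).symm
  obtain ⟨a, ha⟩ := hex ⟨φ, hφ⟩
  refine ⟨a.1, a.2, ha, ?_, fun χ' hre hne => congrArg Subtype.val (huniq ⟨χ', hre⟩ a hne ha)⟩
  have h := sum_sqInd_mult N hodd φ
  rw [Finset.sum_eq_single_of_mem a.1 (Finset.mem_univ _) fun χ _ hχ => ?_] at h
  · obtain ⟨m, hm⟩ := classInner_char_irr_nat
      (isCharacter_comp (isCharacter_irr a.1) N.subtype) φ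
    change classInner (fun n : N => (a.1 : G → ℂ) n) (φ : N → ℂ) = (m : ℂ) at hm
    rw [hm] at h
    have hφ0 : sqInd (φ : N → ℂ) ≠ 0 := fun e => by
      obtain ⟨s, hs⟩ := (sqInd_cases φ).2.mp e
      exact hs (hφ s)
    have hm0 : m ≠ 0 := fun e => ha (by rw [hm, e, Nat.cast_zero])
    have ha0 : sqInd (a.1 : G → ℂ) ≠ 0 := fun e => hφ0 (by rw [← h, e, zero_mul])
    have hsq : ∀ z : ℂ, z = 1 ∨ z = -1 → z * z = 1 := by rintro z (rfl | rfl) <;> norm_num
    have hA := hsq _ ((sqInd_cases a.1).1.resolve_left ha0)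
    have hB := hsq _ ((sqInd_cases φ).1.resolve_left hφ0)
    have hm2 : (m : ℂ) * m = 1 := by linear_combination (congrArg (fun z => z * z) h) + hB - (m : ℂ) * m * hA
    have hm1 : m = 1 := Nat.eq_one_of_mul_eq_one_right (m := m) (by exact_mod_cast hm2)
    rw [hm1, Nat.cast_one, mul_one] at h
    exact h
  · by_cases h0 : sqInd (χ : G → ℂ) = 0
    · rw [h0, zero_mul]
    · by_cases hne : classInner (fun n : N => (χ : G → ℂ) n) (φ : N → ℂ) = 0
      · rw [hne, mul_zero]
      · exact absurd (congrArg Subtype.val (huniq ⟨χ, real_of_sqInd_ne_zero χ h0⟩ a hne ha)) hχ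

end CfsgLib.Char.RealOddIndex
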