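import Cfsg.Agent.Lib.Char.RealOddIndex
import Cfsg.Agent.Lib.Char.PowTwist
import Cfsg.Agent.Lib.Char.ExtendCriteria
import Cfsg.Agent.Lib.Char.Gallagher
import Cfsg.Agent.Lib.Coprime.MinimalNonNilpotent

/-!
# Characters fixed by an inverting Galois twist over a normal subgroup of odd index

For `k` with `k ^ (2 ^ e) ≡ 1` modulo the order of `G` and `g ^ k = g⁻¹` on elements of odd order,
over a fixed character of a normal subgroup of odd index lies exactly one fixed character; if
moreover the character below is invariant, the fixed one extends it.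
-/

set_option autoImplicit false
set_option linter.unusedSectionVars false
set_option linter.style.haveILetI false

namespace CfsgLib.Char.OddIndexFixed

open Cfsg CfsgLib CfsgLib.Char
open scoped ComplexConjugate

universe u

/-- The conditions on the exponent. -/
structure Twist (G : Type u) [Group G] (k e : ℕ) : Prop where
  cop : Nat.Coprime (Nat.card G) k
  pow_two_pow : k ^ (2 ^ e) ≡ 1 [MOD Nat.card G]
  odd_inv : ∀ g : G, Odd (orderOf g) → g ^ k = g⁻¹

/-- Fixed by the twist. -/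
def IsFixed {G : Type u} [Group G] (k : ℕ) (χ : G → ℂ) : Prop := ∀ g : G, χ (g ^ k) = χ g

theorem exists_fixed_of_odd {X : Type*} [Finite X] (f : X → X) {e : ℕ} (hf : f^[2 ^ e] = id)
    (S : Set X) (hS : ∀ x ∈ S, f x ∈ S) (hodd : Odd (Nat.card S)) : ∃ x ∈ S, f x = x := by
  classical
  let f' : S → S := fun x => ⟨f x.1, hS x.1 x.2⟩
  have hf' : ∀ i : ℕ, ∀ x : S, ((f'^[i] x : S) : X) = f^[i] x.1 := by
    intro i
    induction i with
    | zero => exact fun x => rfl
    | succ i ih => exact fun x => by rw [Function.iterate_succ_apply, ih, Function.iterate_succ_apply]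
  have hinv : f'^[2 ^ e] = id := funext fun x => Subtype.ext (by rw [hf', hf]; rfl)
  have h1 : 2 ^ e = (2 ^ e - 1) + 1 := (Nat.sub_add_cancel Nat.one_le_two_pow).symm
  let π : Equiv.Perm S :=
    { toFun := f'
      invFun := f'^[2 ^ e - 1]
      left_inv := fun x => by
        have := congrFun hinv x
        rw [h1, Function.iterate_succ_apply] at this
        exact this
      right_inv := fun x => by
        have := congrFun hinv x
        rw [h1, Function.iterate_succ_apply'] at this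
        exact this }
  have hπ : π ^ 2 ^ e = 1 := Equiv.ext fun x => by
    rw [Equiv.Perm.coe_pow]
    exact congrFun hinv x
  haveI : Fact (Nat.Prime 2) := ⟨Nat.prime_two⟩
  have hp : IsPGroup 2 (Subgroup.zpowers π) := by
    obtain ⟨i, -, hi⟩ := (Nat.dvd_prime_pow Nat.prime_two).1 (orderOf_dvd_of_pow_eq_one hπ)
    exact IsPGroup.of_card (n := i) (by rw [Nat.card_zpowers, hi])
  obtain ⟨x, hx⟩ := hp.nonempty_fixed_point_of_prime_not_dvd_card S (by
    rw [← even_iff_two_dvd, Nat.not_even_iff_odd]; exact hodd)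
  exact ⟨x.1, x.2, congrArg Subtype.val (hx ⟨π, Subgroup.mem_zpowers π⟩)⟩

variable {G : Type u} [Group G] [Finite G] (N : Subgroup G) [hNn : N.Normal] {k e : ℕ}

theorem Twist.restrict (h : Twist G k e) (H : Subgroup G) : Twist H k e where
  cop := h.cop.coprime_dvd_left (Subgroup.card_subgroup_dvd_card H)
  pow_two_pow := h.pow_two_pow.of_dvd (Subgroup.card_subgroup_dvd_card H)
  odd_inv := fun g hg => Subtype.ext (by
    rw [SubmonoidClass.coe_pow, InvMemClass.coe_inv]
    exact h.odd_inv _ (by rwa [Subgroup.orderOf_coe]))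

/-- The twist on characters. -/
noncomputable def tw (h : Twist G k e) (χ : IrrCharacter G) : IrrCharacter G :=
  ⟨fun g => (χ : G → ℂ) (g ^ k), by
    letI := Fintype.ofFinite G
    exact isIrrCharacter_powMap h.cop χ⟩

theorem tw_apply (h : Twist G k e) (χ : IrrCharacter G) (g : G) :
    (tw h χ : G → ℂ) g = (χ : G → ℂ) (g ^ k) := rfl

theorem tw_iterate (h : Twist G k e) (j : ℕ) (χ : IrrCharacter G) (g : G) :
    ((tw h)^[j] χ : G → ℂ) g = (χ : G → ℂ) (g ^ k ^ j) := by
  induction j generalizing g with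
  | zero => simp
  | succ j ih => rw [Function.iterate_succ_apply', tw_apply, ih, ← pow_mul, pow_succ' k j]

theorem pow_pow_eq (h : Twist G k e) {j : ℕ} (hj : j ≡ 1 [MOD 2 ^ e]) (g : G) : g ^ k ^ j = g ^ k := by
  have hkm : k ^ j ≡ k [MOD Nat.card G] := by
    by_cases he : e = 0
    · subst he
      have h1 : k ≡ 1 [MOD Nat.card G] := by simpa using h.pow_two_pow
      exact ((h1.pow j).trans (by rw [one_pow])).trans h1.symm
    have h2 : 1 < 2 ^ e := Nat.one_lt_two_pow he
    have hj' : j % 2 ^ e = 1 := by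
      have := hj
      rwa [Nat.ModEq, Nat.mod_eq_of_lt h2] at this
    have e1 : j = 2 ^ e * (j / 2 ^ e) + 1 := by
      conv_lhs => rw [← Nat.div_add_mod j (2 ^ e), hj']
    rw [e1, pow_succ, pow_mul]
    have := (h.pow_two_pow.pow (j / 2 ^ e)).mul_right k
    rwa [one_pow, one_mul] at this
  exact pow_eq_pow_iff_modEq.2 (hkm.of_dvd (orderOf_dvd_natCard g))

theorem tw_iterate_period (h : Twist G k e) : (tw h)^[2 ^ e] = id := funext fun χ => Subtype.ext (funext fun g => by
  rw [tw_iterate, show g ^ k ^ (2 ^ e) = g from ?_]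
  · rfl
  · exact (pow_eq_pow_iff_modEq.2 (h.pow_two_pow.of_dvd (orderOf_dvd_natCard g))).trans (pow_one g))

theorem exists_exponent (hodd : Odd N.index) :
    ∃ j : ℕ, j ≡ 1 [MOD 2 ^ e] ∧ N.index ∣ j := by
  obtain ⟨j, h1, h2⟩ := Nat.chineseRemainder
    (Nat.Coprime.pow_left e (Nat.coprime_two_left.2 hodd)) 1 0
  exact ⟨j, h1, Nat.modEq_zero_iff_dvd.1 h2⟩

theorem quot_pow (hodd : Odd N.index) (h : Twist G k e) (x : G ⧸ N) : x ^ k = x⁻¹ := by
  obtain ⟨x, rfl⟩ := QuotientGroup.mk_surjective x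
  set v := (Nat.card G).factorization 2
  obtain ⟨j, h1, h2⟩ := Nat.chineseRemainder
    (Nat.Coprime.pow_left v (Nat.coprime_two_left.2 hodd) : Nat.Coprime (2 ^ v) N.index) 0 1
  have hy : Odd (orderOf (x ^ j)) := by
    obtain ⟨c, hc⟩ := Nat.modEq_zero_iff_dvd.1 h1
    have hco : orderOf (x ^ j) ∣ Nat.card G / 2 ^ v := by
      refine orderOf_dvd_of_pow_eq_one ?_
      rw [← pow_mul, hc, show 2 ^ v * c * (Nat.card G / 2 ^ v) = c * (2 ^ v * (Nat.card G / 2 ^ v)) by ring,
        Nat.ordProj_mul_ordCompl_eq_self, mul_comm, pow_mul, pow_card_eq_one', one_pow]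
    have hodd' : Odd (Nat.card G / 2 ^ v) := Nat.not_even_iff_odd.1 fun he =>
      Nat.not_dvd_ordCompl Nat.prime_two Nat.card_pos.ne' (even_iff_two_dvd.1 he)
    exact hodd'.of_dvd_nat hco
  have he : ((x ^ j : G) : G ⧸ N) = (x : G ⧸ N) := by
    rw [QuotientGroup.mk_pow]
    refine (pow_eq_pow_iff_modEq.2 (h2.of_dvd ?_)).trans (pow_one _)
    rw [Subgroup.index_eq_card]
    exact orderOf_dvd_natCard _
  rw [← he, ← QuotientGroup.mk_pow, h.odd_inv _ hy, QuotientGroup.mk_inv]

theorem quot_inv_mem (hodd : Odd N.index) {g x : G} {y : G} (hy : g * x * g⁻¹ = y)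
    (hq : (y : G ⧸ N) = (x : G ⧸ N)⁻¹) : x ∈ N := by
  have h0 : (g : G ⧸ N) * (x : G ⧸ N) * (g : G ⧸ N)⁻¹ = (x : G ⧸ N)⁻¹ := by
    rw [← hq, ← hy, QuotientGroup.mk_mul, QuotientGroup.mk_mul, QuotientGroup.mk_inv]
  obtain ⟨i, hi⟩ := hodd
  have h1 := RealOddIndex.pow_odd_inv h0 i
  rw [← hi, Subgroup.index_eq_card, pow_card_eq_one', one_mul, inv_one, mul_one] at h1
  refine (QuotientGroup.eq_one_iff x).1 (orderOf_eq_one_iff.1 (Nat.dvd_one.1 ?_))
  have h2 : orderOf (x : G ⧸ N) ∣ 2 :=
    orderOf_dvd_of_pow_eq_one (by rw [pow_two]; exact mul_eq_one_iff_eq_inv.mpr h1)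
  have h3 : orderOf (x : G ⧸ N) ∣ N.index := by rw [Subgroup.index_eq_card]; exact orderOf_dvd_natCard _
  have h4 := Nat.dvd_gcd h2 h3
  rwa [show Nat.gcd 2 N.index = 1 from Nat.coprime_two_left.2 ⟨i, hi⟩] at h4

theorem commute_fixed {X : Type*} (a b : X → X) (hcomm : Function.Commute a b) {j : ℕ} (ha : a^[j] = id)
    (hb : b^[j] = b) (hinj : Function.Injective b) {x : X} (hx : a (b x) = x) : b x = x ∧ a x = x := by
  have h1 : (a ∘ b)^[j] x = x := Function.iterate_fixed hx j
  rw [hcomm.comp_iterate, ha, hb] at h1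
  have h2 : b x = x := h1
  exact ⟨h2, by rwa [h2] at hx⟩

theorem pow_conj_iterate (g x : G) (h : g * x * g⁻¹ = x ^ k) :
    ∀ i : ℕ, g ^ i * x * (g ^ i)⁻¹ = x ^ k ^ i := by
  intro i
  induction i with
  | zero => simp
  | succ i ih =>
    calc g ^ (i + 1) * x * (g ^ (i + 1))⁻¹ = g ^ i * (g * x * g⁻¹) * (g ^ i)⁻¹ := by
          rw [pow_succ]; group
      _ = (g ^ i * x * (g ^ i)⁻¹) ^ k := by rw [h, conj_pow]
      _ = x ^ k ^ (i + 1) := by rw [ih, ← pow_mul, pow_succ]

theorem fixed_count (hodd : Odd N.index) (h : Twist G k e) :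
    ∀ [MulAction G (IrrCharacter N)],
    (∀ (g : G) (θ : IrrCharacter N) (n : N), ((g • θ : IrrCharacter N) : N → ℂ) n =
      (θ : N → ℂ) ((MulAut.conjNormal g⁻¹ : MulAut N) n)) →
    ∀ (Θ : SubMulAction G (IrrCharacter N)), (∀ θ : IrrCharacter N, θ ∈ Θ ↔ IsFixed k (θ : N → ℂ)) →
    Nat.card (MulAction.orbitRel.Quotient G Θ) =
      Nat.card {χ : IrrCharacter G // IsFixed k (χ : G → ℂ)} := by
  intro inst hact Θ hΘ
  classical
  have := Fintype.ofFinite G
  have := Fintype.ofFinite N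
  letI := RealOddIndex.classAction N
  obtain ⟨j, hj, hjN⟩ := exists_exponent (e := e) N hodd
  have hN := h.restrict N
  have hinv : ∀ a b : N, IsConj a b → IsConj (a ^ k) (b ^ k) := fun a b hab => by
    obtain ⟨z, hz⟩ := isConj_iff.mp hab
    exact isConj_iff.mpr ⟨z, by rw [← hz, conj_pow]⟩
  let β : ConjClasses N → ConjClasses N := Quotient.lift (fun a => ConjClasses.mk (a ^ k))
    fun a b hab => ConjClasses.mk_eq_mk_iff_isConj.mpr (hinv a b hab)
  have hβ : ∀ a : N, β (ConjClasses.mk a) = ConjClasses.mk (a ^ k) := fun a => rfl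
  have hgm : ∀ (g : G) (a : N), g • ConjClasses.mk a =
      ConjClasses.mk ((MulAut.conjNormal g : MulAut N) a) := fun g a => rfl
  let Q : SubMulAction G (ConjClasses N) :=
    { carrier := {c | β c = c}
      smul_mem' := fun g c hc => by
        obtain ⟨a, rfl⟩ := ConjClasses.exists_rep c
        show β (g • ConjClasses.mk a) = g • ConjClasses.mk a
        have hc' : β (ConjClasses.mk a) = ConjClasses.mk a := hc
        rw [hβ] at hc'
        conv_rhs => rw [← hc']
        rw [hgm, hgm, hβ, map_pow] }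
  have hbiter : ∀ (i : ℕ) (a : N), β^[i] (ConjClasses.mk a) = ConjClasses.mk (a ^ k ^ i) := by
    intro i
    induction i with
    | zero => simp
    | succ i ih =>
      intro a
      rw [Function.iterate_succ_apply', ih, hβ, ← pow_mul, pow_succ]
  have hNΘ : ∀ n ∈ N, ∀ x : IrrCharacter N, n • x = x := fun n hn x => Subtype.ext (funext fun m => by
    rw [hact]
    refine classFun_isConj (isClassFunction_irr x) (isConj_iff.mpr ⟨⟨n, hn⟩, Subtype.ext ?_⟩)
    simp [mul_assoc])
  have hNQ : ∀ n ∈ N, ∀ c : ConjClasses N, n • c = c := fun n hn c => by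
    obtain ⟨a, rfl⟩ := ConjClasses.exists_rep c
    rw [hgm]
    refine ConjClasses.mk_eq_mk_iff_isConj.mpr (isConj_iff.mpr ⟨⟨n, hn⟩⁻¹, Subtype.ext ?_⟩)
    simp [mul_assoc]
  have hgj : ∀ g : G, g ^ j ∈ N := fun g => by
    obtain ⟨c, rfl⟩ := hjN
    rw [pow_mul]
    exact N.pow_mem (N.pow_index_mem g) c
  have hiterΘ : ∀ (g : G) (i : ℕ), (fun θ : IrrCharacter N => g • θ)^[i] = fun θ => g ^ i • θ := by
    intro g i
    induction i with
    | zero => funext θ; simp
    | succ i ih =>
      funext θ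
      rw [Function.iterate_succ_apply', ih, pow_succ', mul_smul]
  have hiterQ : ∀ (g : G) (i : ℕ), (fun c : ConjClasses N => g • c)^[i] = fun c => g ^ i • c := by
    intro g i
    induction i with
    | zero => funext c; simp
    | succ i ih =>
      funext c
      rw [Function.iterate_succ_apply', ih, pow_succ', mul_smul]
  have hfixed : ∀ g : G, Nat.card (MulAction.fixedBy Θ g) = Nat.card (MulAction.fixedBy Q g) := by
    intro g
    let α : MulAut N := MulAut.conjNormal g⁻¹
    have hirr : ∀ χ : IrrCharacter N, IsIrrCharacter N (fun a => (χ : N → ℂ) ((α a) ^ k)) := fun χ =>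
      isIrrCharacter_comp_surjective (isIrrCharacter_powMap hN.cop χ) α.toMonoidHom α.surjective
    have hcount := card_fixed_irr_eq (G := N) (fun a => (α a) ^ k)
      (fun c => g⁻¹ • β c = c) (fun a => by
        rw [hβ, hgm, map_pow]
        exact ConjClasses.mk_eq_mk_iff_isConj.trans ⟨fun h => h.symm, fun h => h.symm⟩) hirr
    have hcl : ∀ c : ConjClasses N, g⁻¹ • β c = c ↔ β c = c ∧ g • c = c := by
      intro c
      constructor
      · intro hx
        obtain ⟨h2, h3⟩ := commute_fixed (fun d : ConjClasses N => g⁻¹ • d) β (fun d => by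
            obtain ⟨a, rfl⟩ := ConjClasses.exists_rep d
            show g⁻¹ • β (ConjClasses.mk a) = β (g⁻¹ • ConjClasses.mk a)
            rw [hβ, hgm, hgm, hβ, map_pow])
          (j := j) (by funext d; rw [hiterQ]; exact hNQ _ (hgj _) d)
          (funext fun d => by
            obtain ⟨a, rfl⟩ := ConjClasses.exists_rep d
            rw [hbiter, hβ, pow_pow_eq hN hj])
          (fun d d' hdd => by
            obtain ⟨a, rfl⟩ := ConjClasses.exists_rep d
            obtain ⟨b, rfl⟩ := ConjClasses.exists_rep d'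
            rw [hβ, hβ] at hdd
            obtain ⟨z, hz⟩ := isConj_iff.1 (ConjClasses.mk_eq_mk_iff_isConj.1 hdd)
            rw [← conj_pow] at hz
            exact ConjClasses.mk_eq_mk_iff_isConj.2 (isConj_iff.2 ⟨z, (powCoprime hN.cop).injective hz⟩)) hx
        exact ⟨h2, (inv_smul_eq_iff.1 h3).symm⟩
      · rintro ⟨h2, h3⟩
        rw [h2, inv_smul_eq_iff]
        exact h3.symm
    refine Eq.trans ?_ (hcount.trans ?_)
    · refine Nat.card_congr
        { toFun := fun θ => ⟨θ.1.1, funext fun a => ?_⟩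
          invFun := fun θ => ⟨⟨θ.1, ?_⟩, Subtype.ext ?_⟩
          left_inv := fun θ => rfl
          right_inv := fun θ => rfl }
      · rw [(hΘ _).1 θ.1.2 (α a), ← hact]
        exact congrFun (congrArg Subtype.val (congrArg Subtype.val (θ.2 : g • θ.1 = θ.1))) a
      all_goals
        have hx : g • tw hN θ.1 = θ.1 := Subtype.ext (funext fun a => by
          rw [hact, tw_apply]
          exact congrFun θ.2 a)
        obtain ⟨h2, h3⟩ := commute_fixed (fun x : IrrCharacter N => g • x) (tw hN) (fun x =>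
            Subtype.ext (funext fun a => by
              show ((g • tw hN x : IrrCharacter N) : N → ℂ) a = ((tw hN (g • x)) : N → ℂ) a
              rw [hact, tw_apply, tw_apply, hact, map_pow]))
          (j := j) (by funext x; rw [hiterΘ]; exact hNΘ _ (hgj _) x)
          (funext fun x => Subtype.ext (funext fun a => by rw [tw_iterate, tw_apply, pow_pow_eq hN hj]))
          (fun x x' hxx => Subtype.ext (funext fun a => by
            obtain ⟨b, rfl⟩ := (powCoprime hN.cop).surjective a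
            exact congrFun (congrArg Subtype.val hxx) b)) hx
      · exact (hΘ _).2 fun a => congrFun (congrArg Subtype.val h2) a
      · exact h3
    · refine Nat.card_congr
        { toFun := fun c => ⟨⟨c.1, ((hcl c.1).1 c.2).1⟩, Subtype.ext ((hcl c.1).1 c.2).2⟩
          invFun := fun c => ⟨c.1.1, (hcl c.1.1).2 ⟨c.1.2, congrArg Subtype.val (c.2 : g • c.1 = c.1)⟩⟩
          left_inv := fun c => rfl
          right_inv := fun c => rfl }
  -- the fixed classes of the group
  have hclG : ∀ a b : G, IsConj a b → IsConj (a ^ k) (b ^ k) := fun a b hab => by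
    obtain ⟨z, hz⟩ := isConj_iff.mp hab
    exact isConj_iff.mpr ⟨z, by rw [← hz, conj_pow]⟩
  have hG : Nat.card {χ : IrrCharacter G // IsFixed k (χ : G → ℂ)} =
      Nat.card {C : ConjClasses G // ∀ x, ConjClasses.mk x = C → IsConj x (x ^ k)} := by
    have hcount := card_fixed_irr_eq (G := G) (fun x => x ^ k)
      (fun C => ∀ x, ConjClasses.mk x = C → IsConj x (x ^ k)) (fun x => ⟨fun hx => hx x rfl,
        fun hx y hy => by
          have h1 := ConjClasses.mk_eq_mk_iff_isConj.mp hy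
          exact (h1.trans hx).trans (hclG _ _ h1).symm⟩) (fun χ => isIrrCharacter_powMap h.cop χ)
    rw [← hcount]
    exact Nat.card_congr (Equiv.subtypeEquivRight fun χ => ⟨funext, fun hx => congrFun hx⟩)
  rw [hG]
  have horb : Nat.card (MulAction.orbitRel.Quotient G Q) =
      Nat.card {C : ConjClasses G // ∀ x, ConjClasses.mk x = C → IsConj x (x ^ k)} := by
    let up : ConjClasses N → ConjClasses G := ConjClasses.map N.subtype
    have hup : ∀ c : Q, ∀ x, ConjClasses.mk x = up c.1 → IsConj x (x ^ k) := by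
      rintro ⟨c, hc⟩ x hx
      obtain ⟨a, rfl⟩ := ConjClasses.exists_rep c
      have h1 : IsConj x (a : G) := ConjClasses.mk_eq_mk_iff_isConj.mp hx
      have h2 : IsConj a (a ^ k) := (ConjClasses.mk_eq_mk_iff_isConj.mp (hc : ConjClasses.mk (a ^ k) = _)).symm
      exact (h1.trans (N.subtype.map_isConj h2)).trans (hclG _ _ h1).symm
    let F : MulAction.orbitRel.Quotient G Q →
        {C : ConjClasses G // ∀ x, ConjClasses.mk x = C → IsConj x (x ^ k)} :=
      Quotient.lift (fun c => ⟨up c.1, hup c⟩) (fun c d hcd => by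
        refine Subtype.ext ?_
        change (MulAction.orbitRel G Q) _ _ at hcd
        rw [MulAction.orbitRel_apply, MulAction.mem_orbit_iff] at hcd
        obtain ⟨g, rfl⟩ := hcd
        obtain ⟨a, ha⟩ := ConjClasses.exists_rep d.1
        show up (g • d.1) = up d.1
        rw [← ha, hgm]
        exact ConjClasses.mk_eq_mk_iff_isConj.mpr (isConj_iff.mpr ⟨g⁻¹, by simp [mul_assoc]⟩))
    refine Nat.card_eq_of_bijective F ⟨?_, ?_⟩
    · intro q q'
      refine Quotient.inductionOn₂ q q' fun c d e' => Quotient.sound ?_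
      show (MulAction.orbitRel G Q) c d
      rw [MulAction.orbitRel_apply, MulAction.mem_orbit_iff]
      obtain ⟨a, ha⟩ := ConjClasses.exists_rep c.1
      obtain ⟨b, hb⟩ := ConjClasses.exists_rep d.1
      have he : up c.1 = up d.1 := congrArg Subtype.val e'
      rw [← ha, ← hb] at he
      obtain ⟨z, hz⟩ := isConj_iff.mp (ConjClasses.mk_eq_mk_iff_isConj.mp he)
      have hz' : z * (a : G) * z⁻¹ = b := hz
      refine ⟨z⁻¹, Subtype.ext ?_⟩
      show z⁻¹ • d.1 = c.1
      rw [← ha, ← hb, hgm]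
      refine congrArg ConjClasses.mk (Subtype.ext ?_)
      rw [MulAut.conjNormal_apply, ← hz']
      group
    · rintro ⟨C, hC⟩
      obtain ⟨x, rfl⟩ := ConjClasses.exists_rep C
      obtain ⟨g, hg⟩ := isConj_iff.mp (hC x rfl)
      have hxN : x ∈ N := quot_inv_mem N hodd hg (by rw [QuotientGroup.mk_pow]; exact quot_pow N hodd h _)
      refine ⟨Quotient.mk _ ⟨ConjClasses.mk ⟨x, hxN⟩, ?_⟩, rfl⟩
      show β (ConjClasses.mk _) = _
      rw [hβ]
      refine ConjClasses.mk_eq_mk_iff_isConj.mpr (isConj_iff.mpr ⟨⟨_, hgj g⟩, Subtype.ext ?_⟩).symm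
      show g ^ j * x * (g ^ j)⁻¹ = ((⟨x, hxN⟩ ^ k : N) : G)
      rw [pow_conj_iterate g x hg, pow_pow_eq h hj, SubmonoidClass.coe_pow]
  rw [← horb]
  have := Fintype.ofFinite (IrrCharacter N)
  have := Fintype.ofFinite (ConjClasses N)
  have e1 := MulAction.sum_card_fixedBy_eq_card_orbits_mul_card_group G Θ
  have e2 := MulAction.sum_card_fixedBy_eq_card_orbits_mul_card_group G Q
  simp only [← Nat.card_eq_fintype_card] at e1 e2
  rw [Finset.sum_congr rfl fun g _ => hfixed g, e2] at e1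
  exact (Nat.eq_of_mul_eq_mul_right Nat.card_pos e1).symm

/-- Some fixed character lies over a fixed one. -/
theorem exists_fixed_over [Fintype G] [Fintype N] (hodd : Odd N.index) (h : Twist G k e)
    (θ : IrrCharacter N) (hθ : IsFixed k (θ : N → ℂ)) :
    ∃ χ : IrrCharacter G, IsFixed k (χ : G → ℂ) ∧
      classInner (fun n : N => (χ : G → ℂ) n) (θ : N → ℂ) ≠ 0 := by
  classical
  have := Fintype.ofFinite (IrrCharacter G)
  choose m hm using fun χ : IrrCharacter G =>
    classInner_char_irr_nat (isCharacter_comp (isCharacter_irr χ) N.subtype) θ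
  have hm' : ∀ χ : IrrCharacter G, classInner (fun n : N => (χ : G → ℂ) n) (θ : N → ℂ) = m χ := hm
  have hcf := isClassFunction_indFun N (θ : N → ℂ)
  have hc : ∀ χ : IrrCharacter G, classInner (indFun N (θ : N → ℂ)) (χ : G → ℂ) = m χ := fun χ => by
    rw [classInner_indFun N (θ : N → ℂ) _ (isClassFunction_irr χ), ← classInner_conj, hm' χ, map_natCast]
  have hsum : classInner (indFun N (θ : N → ℂ)) (indFun N (θ : N → ℂ)) =
      ((∑ χ : IrrCharacter G, m χ ^ 2 : ℕ) : ℂ) := by
    conv_lhs => arg 1; rw [classFun_expand hcf]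
    rw [classInner_sum_left, Nat.cast_sum]
    refine Finset.sum_congr rfl fun χ _ => ?_
    rw [classInner_smul_left, hc, ← classInner_conj, hc, map_natCast, pow_two, Nat.cast_mul]
  have hT := card_smul_classInner_indFun_self N θ.2
  rw [hsum, ← Nat.cast_mul, Nat.cast_inj] at hT
  have hoddS : Odd (∑ χ : IrrCharacter G, m χ ^ 2) := by
    have hNT : N ≤ inertia N (θ : N → ℂ) := le_inertia N (isClassFunction_irr θ)
    have h1 := (N.subgroupOf (inertia N (θ : N → ℂ))).card_mul_index
    rw [Nat.card_congr (Subgroup.subgroupOfEquivOfLe hNT).toEquiv, ← hT] at h1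
    have h2 := Nat.eq_of_mul_eq_mul_left Nat.card_pos h1
    rw [← h2]
    refine hodd.of_dvd_nat ?_
    exact ⟨(inertia N (θ : N → ℂ)).index, (Subgroup.relIndex_mul_index hNT).symm⟩
  rw [Finset.odd_sum_iff_odd_card_odd] at hoddS
  have hstab : ∀ χ : IrrCharacter G, m (tw h χ) = m χ := fun χ => by
    have e1 := hm' (tw h χ)
    rw [show (θ : N → ℂ) = fun n => (θ : N → ℂ) (n ^ k) from funext fun n => (hθ n).symm] at e1
    have e2 := classInner_powMap (h.restrict N).cop (fun n : N => (χ : G → ℂ) n) (θ : N → ℂ)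
    have e3 : ((m (tw h χ) : ℕ) : ℂ) = (m χ : ℂ) := by
      rw [← e1, ← hm' χ, ← e2]
      rfl
    exact_mod_cast e3
  obtain ⟨χ, hχ, hfix⟩ := exists_fixed_of_odd (tw h) (tw_iterate_period h) {χ | Odd (m χ ^ 2)}
    (fun χ hχ => by show Odd (m (tw h χ) ^ 2); rwa [hstab])
    (by rwa [Nat.card_eq_fintype_card, ← Set.toFinset_card, Set.toFinset_setOf])
  refine ⟨χ, fun g => congrFun (congrArg Subtype.val hfix) g, ?_⟩
  rw [hm' χ, Nat.cast_ne_zero]
  intro h0
  have : Odd (m χ ^ 2) := hχ
  rw [h0] at this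
  simp at this

/-- Exactly one fixed character lies over a fixed one. -/
theorem fixed_unique [Fintype G] [Fintype N] (hodd : Odd N.index) (h : Twist G k e)
    (θ : IrrCharacter N) (hθ : IsFixed k (θ : N → ℂ)) {χ χ' : IrrCharacter G}
    (hχ : IsFixed k (χ : G → ℂ)) (hχ' : IsFixed k (χ' : G → ℂ))
    (h1 : classInner (fun n : N => (χ : G → ℂ) n) (θ : N → ℂ) ≠ 0)
    (h2 : classInner (fun n : N => (χ' : G → ℂ) n) (θ : N → ℂ) ≠ 0) : χ = χ' := by
  classical
  letI := RealOddIndex.irrAction N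
  let Θ : SubMulAction G (IrrCharacter N) :=
    { carrier := {θ | IsFixed k (θ : N → ℂ)}
      smul_mem' := fun g x hx n => by
        show (x : N → ℂ) ((MulAut.conjNormal g⁻¹ : MulAut N) (n ^ k)) = _
        rw [map_pow]
        exact hx _ }
  have hcard := fixed_count N hodd h (fun g x n => rfl) Θ fun x => Iff.rfl
  let R := {χ : IrrCharacter G // IsFixed k (χ : G → ℂ)}
  choose up hup1 hup2 using fun x : Θ => exists_fixed_over N hodd h x.1 x.2
  have hsame : ∀ (χ : IrrCharacter G) (x y : Θ), classInner (fun n : N => (χ : G → ℂ) n) (x.1 : N → ℂ) ≠ 0 →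
      classInner (fun n : N => (χ : G → ℂ) n) (y.1 : N → ℂ) ≠ 0 → (MulAction.orbitRel G Θ) y x := by
    intro χ x y hx hy
    rw [MulAction.orbitRel_apply, MulAction.mem_orbit_iff]
    by_contra hc
    push Not at hc
    refine hy (classInner_restrict_zero N χ.2 x.1.2 y.1.2 hx fun g he => hc g⁻¹ (Subtype.ext (Subtype.ext
      (funext fun n => ?_))))
    rw [← he]
    show (x.1 : N → ℂ) _ = conjFun N (x.1 : N → ℂ) g n
    refine congrArg _ (Subtype.ext ?_)
    simp
  let f : MulAction.orbitRel.Quotient G Θ → R := fun q => ⟨up q.out, hup1 q.out⟩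
  have hinj : Function.Injective f := fun q q' e' => by
    rw [← q.out_eq, ← q'.out_eq]
    refine Quotient.sound ?_
    have e'' : up q.out = up q'.out := congrArg Subtype.val e'
    exact hsame (up q'.out) _ _ (hup2 q'.out) (e'' ▸ hup2 q.out)
  have hbij := (Nat.bijective_iff_injective_and_card f).mpr ⟨hinj, hcard⟩
  have huniq : ∀ a : R, classInner (fun n : N => (a.1 : G → ℂ) n) (θ : N → ℂ) ≠ 0 →
      a = f (Quotient.mk _ ⟨θ, hθ⟩) := by
    intro a ha
    obtain ⟨q, rfl⟩ := hbij.2 a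
    refine congrArg f ?_
    rw [← q.out_eq]
    exact Quotient.sound (hsame _ ⟨θ, hθ⟩ _ ha (hup2 q.out))
  exact congrArg Subtype.val ((huniq ⟨χ, hχ⟩ h1).trans (huniq ⟨χ', hχ'⟩ h2).symm)

/-- An extension can be corrected to a fixed one. -/
theorem exists_fixed_extension [Fintype G] [Fintype N] (hodd : Odd N.index) (h : Twist G k e)
    (θ : IrrCharacter N) (hθ : IsFixed k (θ : N → ℂ)) (χ₀ : IrrCharacter G)
    (hres : ∀ n : N, (χ₀ : G → ℂ) n = (θ : N → ℂ) n) :
    ∃ χ : IrrCharacter G, IsFixed k (χ : G → ℂ) ∧ ∀ n : N, (χ : G → ℂ) n = (θ : N → ℂ) n := by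
  classical
  have hrN : IsIrrCharacter N (fun n : N => (χ₀ : G → ℂ) n) := by
    rw [show (fun n : N => (χ₀ : G → ℂ) n) = (θ : N → ℂ) from funext hres]
    exact θ.2
  have htres : (fun n : N => (tw h χ₀ : G → ℂ) n) = (θ : N → ℂ) := funext fun n => by
    rw [tw_apply, ← SubmonoidClass.coe_pow, hres, hθ]
  obtain ⟨hη, hmul⟩ := gallagher N χ₀ hrN (tw h χ₀) (by
    rw [htres, show (fun n : N => (χ₀ : G → ℂ) n) = (θ : N → ℂ) from funext hres, classInner_irr_self]
    exact one_ne_zero)
  set η := cosetAvg N (fun x => (tw h χ₀ : G → ℂ) x * conj ((χ₀ : G → ℂ) x))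
  have h1 : η 1 = 1 := by
    refine (cosetAvg_one_eq N _ _).trans ?_
    rw [htres, show (fun n : N => (χ₀ : G → ℂ) n) = (θ : N → ℂ) from funext hres, classInner_irr_self]
  obtain ⟨f, hf⟩ := exists_hom_of_linear (isCharacter_of_isIrr hη) h1
  have hfN : ∀ n : N, f n = 1 := fun n => by
    refine Units.ext ?_
    have h2 := cosetAvg_mul_left N (fun x => (tw h χ₀ : G → ℂ) x * conj ((χ₀ : G → ℂ) x)) n 1
    rw [mul_one] at h2
    have h3 : η (n : G) = 1 := h2.trans h1
    rw [hf] at h3
    exact h3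
  obtain ⟨i, hi⟩ := hodd
  set μ := f ^ (i + 1) with hμdef
  have hμN : ∀ n : N, μ n = 1 := fun n => by rw [hμdef, MonoidHom.pow_apply, hfN, one_pow]
  have hμsq : ∀ g, μ g * μ g = f g := fun g => by
    have h2 : f g ^ N.index = 1 := by rw [← map_pow]; exact hfN ⟨_, N.pow_index_mem g⟩
    rw [hμdef, MonoidHom.pow_apply, ← pow_add, show i + 1 + (i + 1) = N.index + 1 by omega, pow_succ, h2, one_mul]
  have hμk : ∀ g, μ (g ^ k) = (μ g)⁻¹ := fun g => by
    have h2 : ((g ^ k : G) : G ⧸ N) = ((g⁻¹ : G) : G ⧸ N) := by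
      rw [QuotientGroup.mk_pow, quot_pow N ⟨i, hi⟩ h, QuotientGroup.mk_inv]
    rw [QuotientGroup.eq] at h2
    have h3 := hμN ⟨_, h2⟩
    rw [map_mul, map_inv, inv_mul_eq_one] at h3
    rw [h3, map_inv]
  have hirr : IsIrrCharacter G (fun g => (μ g : ℂ) * (χ₀ : G → ℂ) g) := by
    refine isIrr_of_isCharacter_norm_one (isCharacter_mul (isCharacter_of_isIrr (isIrrCharacter_lin μ))
      (isCharacter_irr χ₀)) ?_
    rw [← classInner_irr_self χ₀, classInner, classInner]
    congr 1
    refine Finset.sum_congr rfl fun g _ => ?_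
    have hn : (μ g : ℂ) * conj (μ g : ℂ) = 1 := by
      rw [Complex.mul_conj', Complex.norm_eq_one_of_pow_eq_one (n := Nat.card G) ?_ Nat.card_pos.ne']
      · simp
      · rw [← Units.val_pow_eq_pow_val, ← map_pow, pow_card_eq_one', map_one, Units.val_one]
    rw [map_mul, mul_mul_mul_comm, hn, one_mul]
  refine ⟨⟨_, hirr⟩, fun g => ?_, fun n => ?_⟩
  · show (μ (g ^ k) : ℂ) * (χ₀ : G → ℂ) (g ^ k) = (μ g : ℂ) * (χ₀ : G → ℂ) g
    have h4 : (χ₀ : G → ℂ) (g ^ k) = (χ₀ : G → ℂ) g * (f g : ℂ) := by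
      have := congrFun hmul g
      rw [Pi.mul_apply, hf] at this
      exact this
    rw [h4, hμk, ← hμsq g, Units.val_mul, Units.val_inv_eq_inv_val]
    field_simp
  · show (μ n : ℂ) * (χ₀ : G → ℂ) n = _
    rw [hμN, Units.val_one, one_mul, hres]

/-- Over a prime power index the invariant fixed character extends to a fixed one. -/
theorem extends_ppower {p : ℕ} [hp : Fact p.Prime] : ∀ (a : ℕ) (G : Type u) [Group G] [Fintype G]
    (N : Subgroup G) [N.Normal] [Fintype N] (k e : ℕ), Twist G k e → Odd N.index → N.index = p ^ a →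
    ∀ (θ : IrrCharacter N), IsFixed k (θ : N → ℂ) →
      (∀ g : G, conjFun N (θ : N → ℂ) g = (θ : N → ℂ)) →
      ∃ χ : IrrCharacter G, IsFixed k (χ : G → ℂ) ∧ ∀ n : N, (χ : G → ℂ) n = (θ : N → ℂ) n := by
  intro a
  induction a with
  | zero =>
    intro G _ _ N _ _ k e h hodd hidx θ hθ hinv
    obtain rfl : N = ⊤ := Subgroup.index_eq_one.1 (by rw [hidx, pow_zero])
    refine ⟨⟨fun g => (θ : (⊤ : Subgroup G) → ℂ) ⟨g, Subgroup.mem_top g⟩,
      isIrrCharacter_comp_surjective θ.2 (Subgroup.topEquiv (G := G)).symm.toMonoidHom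
        (Subgroup.topEquiv (G := G)).symm.surjective⟩, fun g => hθ ⟨g, Subgroup.mem_top g⟩, fun n => rfl⟩
  | succ a ih =>
    intro G _ _ N hNn _ k e h hodd hidx θ hθ hinv
    classical
    have hcard : Nat.card (G ⧸ N) = p ^ (a + 1) := by rw [← Subgroup.index_eq_card, hidx]
    haveI : Group.IsNilpotent (G ⧸ N) := (IsPGroup.of_card hcard).isNilpotent
    haveI : Nontrivial (G ⧸ N) := Finite.one_lt_card_iff_nontrivial.1 (by
      rw [hcard]; exact Nat.one_lt_pow (by omega) hp.out.one_lt)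
    obtain ⟨Kb, hKbn, hKbi⟩ := Coprime.exists_normal_prime_index (G := G ⧸ N)
    let K := Kb.comap (QuotientGroup.mk' N)
    haveI : K.Normal := hKbn.comap _
    have hKi : K.index = Kb.index := Subgroup.index_comap_of_surjective _ (QuotientGroup.mk'_surjective N)
    have hNK : N ≤ K := fun x hx => by
      show (x : G ⧸ N) ∈ Kb
      rw [(QuotientGroup.eq_one_iff x).2 hx]
      exact Kb.one_mem
    have hKp : K.index = p := by
      have h1 : Kb.index ∣ p ^ (a + 1) := hcard ▸ Subgroup.index_dvd_card Kb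
      rw [hKi]
      exact (Nat.prime_dvd_prime_iff_eq hKbi hp.out).1 (hKbi.dvd_of_dvd_pow h1)
    have hN'idx : (N.subgroupOf K).index = p ^ a := by
      have h1 := Subgroup.relIndex_mul_index hNK
      rw [hidx, hKp, pow_succ] at h1
      exact Nat.eq_of_mul_eq_mul_right hp.out.pos h1
    have hodd' : Odd (N.subgroupOf K).index := by
      rw [hN'idx]
      rw [hidx] at hodd
      exact hodd.of_dvd_nat (pow_dvd_pow p (by omega))
    have := Fintype.ofFinite K
    have := Fintype.ofFinite (N.subgroupOf K)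
    let eN := Subgroup.subgroupOfEquivOfLe hNK
    let θ' : IrrCharacter (N.subgroupOf K) :=
      ⟨fun x => (θ : N → ℂ) (eN x), isIrrCharacter_comp_surjective θ.2 eN.toMonoidHom eN.surjective⟩
    have hθ' : IsFixed k (θ' : N.subgroupOf K → ℂ) := fun x => by
      show (θ : N → ℂ) (eN (x ^ k)) = _
      rw [map_pow]
      exact hθ _
    obtain ⟨ψ, hψ, hψres⟩ := ih K (N.subgroupOf K) k e (h.restrict K) hodd' hN'idx θ' hθ' fun x =>
      funext fun n => congrFun (hinv (x : G)) (eN n)
    have hψinv : ∀ g : G, conjFun K (ψ : K → ℂ) g = (ψ : K → ℂ) := by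
      intro g
      have hfix : IsFixed k (conjFun K (ψ : K → ℂ) g) := fun x => by
        show (ψ : K → ℂ) _ = (ψ : K → ℂ) _
        rw [show (⟨g * ((x ^ k : K) : G) * g⁻¹, _⟩ : K) = (⟨g * (x : G) * g⁻¹,
          Subgroup.Normal.conj_mem ‹_› _ x.2 g⟩ : K) ^ k from Subtype.ext (by
            simp [SubmonoidClass.coe_pow, conj_pow])]
        exact hψ _
      have e1 : (fun x : N.subgroupOf K => conjFun K (ψ : K → ℂ) g x) = (θ' : N.subgroupOf K → ℂ) :=
        funext fun x => by
          have h1 := hψres ⟨⟨g * (x : K) * g⁻¹, Subgroup.Normal.conj_mem ‹_› _ (x : K).2 g⟩,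
            Subgroup.mem_subgroupOf.2 (hNn.conj_mem _ (Subgroup.mem_subgroupOf.1 x.2) g)⟩
          exact h1.trans (congrFun (hinv g) (eN x))
      have e2 : (fun x : N.subgroupOf K => (ψ : K → ℂ) x) = (θ' : N.subgroupOf K → ℂ) := funext hψres
      exact congrArg Subtype.val (fixed_unique (N.subgroupOf K) hodd' (h.restrict K) θ' hθ'
        (χ := ⟨_, isIrrCharacter_conjFun K ψ.2 g⟩) (χ' := ψ) hfix hψ
        (by show classInner (fun x : N.subgroupOf K => conjFun K (ψ : K → ℂ) g x) _ ≠ 0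
            rw [e1, classInner_irr_self]; exact one_ne_zero)
        (by rw [e2, classInner_irr_self]; exact one_ne_zero))
    obtain ⟨d, ρ, hρ, hρψ⟩ := ψ.2
    haveI := hρ
    have hcyc : IsCyclic (G ⧸ K) := isCyclic_of_prime_card (p := p) (by rw [← Subgroup.index_eq_card, hKp])
    obtain ⟨σ, hσ⟩ := extends_of_cyclic K ρ (fun g x => by
      have := congrFun (hψinv g) x
      rw [← hρψ] at this
      exact this) hcyc
    haveI := isIrreducible_of_restrict σ ρ hσ
    refine exists_fixed_extension N hodd h θ hθ ⟨σ.character, isIrrCharacter_character σ⟩ fun n => ?_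
    show σ.character n = _
    have h1 : σ.character ((⟨(n : G), hNK n.2⟩ : K) : G) = ρ.character ⟨(n : G), hNK n.2⟩ := by
      exact congrArg (LinearMap.trace ℂ (Fin d → ℂ)) (hσ _)
    rw [h1, hρψ]
    exact hψres ⟨⟨(n : G), hNK n.2⟩, Subgroup.mem_subgroupOf.2 n.2⟩

theorem main [Fintype G] [Fintype N] (hodd : Odd N.index) (h : Twist G k e) (θ : IrrCharacter N)
    (hθ : IsFixed k (θ : N → ℂ)) :
    ∃ χ : IrrCharacter G, (classInner (fun n : N => (χ : G → ℂ) n) (θ : N → ℂ) ≠ 0 ∧
      IsFixed k (χ : G → ℂ) ∧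
      ((∀ g : G, conjFun N (θ : N → ℂ) g = (θ : N → ℂ)) → ∀ n : N, (χ : G → ℂ) n = (θ : N → ℂ) n)) ∧
      ∀ χ' : IrrCharacter G, classInner (fun n : N => (χ' : G → ℂ) n) (θ : N → ℂ) ≠ 0 →
        IsFixed k (χ' : G → ℂ) → χ' = χ := by
  classical
  obtain ⟨χ, hχ, hover⟩ := exists_fixed_over N hodd h θ hθ
  refine ⟨χ, ⟨hover, hχ, fun hinv => ?_⟩, fun χ' h1 h2 => fixed_unique N hodd h θ hθ h2 hχ h1 hover⟩
  obtain ⟨d, ρ, hρ, hρθ⟩ := θ.2
  haveI := hρ
  obtain ⟨σ, hσ⟩ := extends_of_sylow N ρ (fun g x => by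
    have := congrFun (hinv g) x
    rw [← hρθ] at this
    exact this) fun p hp hpN _ => by
    haveI := Fact.mk hp
    obtain ⟨S⟩ : Nonempty (Sylow p (G ⧸ N)) := inferInstance
    let P := (S : Subgroup (G ⧸ N)).comap (QuotientGroup.mk' N)
    have hNP : N ≤ P := fun x hx => by
      show (x : G ⧸ N) ∈ (S : Subgroup (G ⧸ N))
      rw [(QuotientGroup.eq_one_iff x).2 hx]
      exact (S : Subgroup (G ⧸ N)).one_mem
    have hPi : P.index = (S : Subgroup (G ⧸ N)).index :=
      Subgroup.index_comap_of_surjective _ (QuotientGroup.mk'_surjective N)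
    obtain ⟨a, ha⟩ := IsPGroup.iff_card.1 S.isPGroup'
    have hN'idx : (N.subgroupOf P).index = p ^ a := by
      have h1 := Subgroup.relIndex_mul_index hNP
      rw [hPi, Subgroup.index_eq_card (H := N), ← (S : Subgroup (G ⧸ N)).card_mul_index, ha] at h1
      exact Nat.eq_of_mul_eq_mul_right (Nat.pos_of_ne_zero Subgroup.index_ne_zero_of_finite) h1
    have hodd' : Odd (N.subgroupOf P).index :=
      hodd.of_dvd_nat ⟨P.index, (Subgroup.relIndex_mul_index hNP).symm⟩
    have := Fintype.ofFinite P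
    have := Fintype.ofFinite (N.subgroupOf P)
    let eN := Subgroup.subgroupOfEquivOfLe hNP
    obtain ⟨ψ, -, hψres⟩ := extends_ppower a P (N.subgroupOf P) k e (h.restrict P) hodd' hN'idx
      ⟨fun x => (θ : N → ℂ) (eN x), isIrrCharacter_comp_surjective θ.2 eN.toMonoidHom eN.surjective⟩
      (fun x => by
        show (θ : N → ℂ) (eN (x ^ k)) = _
        rw [map_pow]
        exact hθ _)
      fun x => funext fun n => congrFun (hinv (x : G)) (eN n)
    obtain ⟨σ, hσ, -⟩ := exists_rep_extension N ρ P hNP (η := (ψ : P → ℂ)) (isCharacter_irr ψ) fun n => by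
      rw [hρθ]
      exact hψres ⟨⟨(n : G), hNP n.2⟩, Subgroup.mem_subgroupOf.2 n.2⟩
    exact ⟨P, hNP, σ, hPi ▸ S.not_dvd_index, hσ⟩
  haveI := isIrreducible_of_restrict σ ρ hσ
  obtain ⟨χ₁, hχ₁, hres₁⟩ := exists_fixed_extension N hodd h θ hθ ⟨σ.character, isIrrCharacter_character σ⟩
    fun n => by
      show σ.character n = _
      rw [← hρθ]
      simp only [Representation.character, hσ]
  have he : χ = χ₁ := fixed_unique N hodd h θ hθ hχ hχ₁ hover (by
    rw [show (fun n : N => (χ₁ : G → ℂ) n) = (θ : N → ℂ) from funext hres₁, classInner_irr_self]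
    exact one_ne_zero)
  rw [he]
  exact hres₁

end CfsgLib.Char.OddIndexFixed
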