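import Cfsg.Agent.Lib.Char.CuspidalModule

/-!
# Arbitrarily large groups with the element orders of `PGL(2,q)`, `q` prime or `q = 9`
-/

set_option autoImplicit false
set_option linter.unusedSectionVars false
set_option linter.style.haveILetI false

namespace CfsgLib.Char.TwoByTwo

open Matrix CfsgLib.PSL2Two

/-- There are arbitrarily large finite groups with the given set of element orders. -/
def Unbounded (S : Finset ℕ) : Prop :=
  ∀ N : ℕ, ∃ (H : Type) (_ : Group H) (_ : Fintype H),
    N < Fintype.card H ∧ Set.range (orderOf : H → ℕ) = ↑S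

theorem unbounded_of_semi {C : Type} [Group C] [Finite C] (V : Type) [AddCommGroup V]
    [DistribMulAction C V] [Finite V] [Nontrivial V] (S : Finset ℕ)
    (h : ∀ k, Set.range (orderOf : Semi C (Fin (k + 1) → V) → ℕ) = ↑S) : Unbounded S := by
  intro N
  haveI : Finite (Semi C (Fin (N + 1) → V)) :=
    Finite.of_injective (fun x => (x.left.toAdd, x.right)) fun a b hab => by
      rw [semiPair_eta a, semiPair_eta b, (Prod.mk.inj hab).1, (Prod.mk.inj hab).2]
  letI : Fintype (Semi C (Fin (N + 1) → V)) := Fintype.ofFinite _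
  refine ⟨Semi C (Fin (N + 1) → V), inferInstance, inferInstance, ?_, h N⟩
  rw [← Nat.card_eq_fintype_card, SemidirectProduct.card, Nat.card_congr Multiplicative.toAdd, Nat.card_fun,
    Nat.card_fin]
  have h2 : 2 ≤ Nat.card V := Finite.one_lt_card
  calc N < N + 1 := Nat.lt_succ_self N
    _ < 2 ^ (N + 1) := Nat.lt_pow_self (by norm_num)
    _ ≤ Nat.card V ^ (N + 1) := Nat.pow_le_pow_left h2 _
    _ ≤ _ := Nat.le_mul_of_pos_right _ Nat.card_pos

theorem cusp_range_orderOf (p : ℕ) [Fact p.Prime] (h5 : 5 ≤ p) (k : ℕ) :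
    Set.range (orderOf : Semi (PSL2 (ZMod p)) (Fin (k + 1) → Cusp (ZMod p)) → ℕ) =
      ↑(p.divisors ∪ (p - 1).divisors ∪ (p + 1).divisors) := by
  have hp := (Fact.out : p.Prime)
  have hcard : Fintype.card (ZMod p) = p := ZMod.card p
  have hodd : Fintype.card (ZMod p) % 2 = 1 := by rw [hcard]; exact hp.eq_two_or_odd.resolve_left (by omega)
  have hodd' : p % 2 = 1 := by rwa [hcard] at hodd
  have hqp : (Fintype.card (ZMod p)).Prime := by rw [hcard]; exact hp
  haveI : Finite (Semi (PSL2 (ZMod p)) (Fin (k + 1) → Cusp (ZMod p))) :=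
    Finite.of_injective (fun x => (x.left.toAdd, x.right)) fun a b hab => by
      rw [semiPair_eta a, semiPair_eta b, (Prod.mk.inj hab).1, (Prod.mk.inj hab).2]
  have h2v : ∀ v : Fin (k + 1) → Cusp (ZMod p), (2 : ℕ) • v = 0 := fun v => funext fun i => Cusp.two_nsmul _
  ext m
  simp only [Set.mem_range, Finset.coe_union, Set.mem_union, Finset.mem_coe, Nat.mem_divisors]
  constructor
  · rintro ⟨x, rfl⟩
    rw [semiPair_eta x]
    generalize x.left.toAdd = v
    generalize x.right = c
    have hS : ∀ S : Fin (k + 1) → Cusp (ZMod p), addOrderOf S ∣ 2 := fun S =>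
      addOrderOf_dvd_of_nsmul_eq_zero (h2v S)
    rw [orderOf_semiPair]
    rcases psl_pow_cases hodd (p := p) c with h | h | h
    · rcases (Nat.dvd_prime hp).mp (orderOf_dvd_of_pow_eq_one h) with e | e
      · refine Or.inl (Or.inr ⟨?_, by omega⟩)
        rw [e, one_mul]
        exact (hS _).trans (by omega)
      · refine Or.inl (Or.inl ⟨?_, hp.ne_zero⟩)
        have h0 : ∑ i ∈ Finset.range (orderOf c), c ^ i • v = 0 := by
          refine funext fun j => ?_
          rw [Finset.sum_apply, e]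
          have := Cusp.geom_sum_eq_zero (F := ZMod p) (h := c) (by rw [hcard, e]) (v j)
          rw [hcard] at this
          exact this
        rw [h0, addOrderOf_zero, mul_one, e]
    · refine Or.inl (Or.inr ⟨?_, by omega⟩)
      rw [hcard] at h
      exact (Nat.mul_dvd_mul (orderOf_dvd_of_pow_eq_one h) (hS _)).trans (dvd_of_eq (by omega))
    · refine Or.inr ⟨?_, by omega⟩
      rw [hcard] at h
      exact (Nat.mul_dvd_mul (orderOf_dvd_of_pow_eq_one h) (hS _)).trans (dvd_of_eq (by omega))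
  · have key : ∀ N, (∃ g : Semi (PSL2 (ZMod p)) (Fin (k + 1) → Cusp (ZMod p)), orderOf g = N) → m ∣ N →
        ∃ g : Semi (PSL2 (ZMod p)) (Fin (k + 1) → Cusp (ZMod p)), orderOf g = m := by
      rintro N ⟨g, rfl⟩ hm
      exact ⟨g ^ (orderOf g / m), by rw [orderOf_pow_orderOf_div (orderOf_pos g).ne' hm]⟩
    obtain ⟨τ, hτ, hns⟩ := exists_trace (F := ZMod p) hodd (by rw [hcard]; exact h5)
    have mk : ∀ (t : PSL2 (ZMod p)) (f : Cusp (ZMod p)),
        ∑ i ∈ Finset.range (orderOf t), t ^ i • f ≠ 0 →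
        ∃ g : Semi (PSL2 (ZMod p)) (Fin (k + 1) → Cusp (ZMod p)), orderOf g = orderOf t * 2 := by
      intro t f hf
      refine ⟨semiPair (fun _ => f) t, ?_⟩
      rw [orderOf_semiPair, addOrderOf_eq_prime (h2v _)]
      intro h0
      refine hf ?_
      have := congrFun h0 0
      rw [Finset.sum_apply] at this
      exact this
    rintro ((⟨h, -⟩ | ⟨h, -⟩) | ⟨h, -⟩)
    · refine key p ?_ h
      let T : SL2 (ZMod p) := ⟨!![1, 1; 0, 1], by simp [Matrix.det_fin_two]⟩
      have hT : ∀ j : ℕ, (T ^ j).1 = !![1, (j : ZMod p); 0, 1] := by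
        intro j
        induction j with
        | zero => ext a b; fin_cases a <;> fin_cases b <;> simp
        | succ j ih =>
          rw [pow_succ, val_mul, ih]
          show !![1, (j : ZMod p); 0, 1] * !![1, 1; 0, 1] = _
          ext a b; fin_cases a <;> fin_cases b <;> simp [Matrix.mul_apply, Fin.sum_univ_two] <;> ring
      refine ⟨semiPair 0 (π T), ?_⟩
      have ho : orderOf (π T) = p := by
        refine orderOf_eq_prime ?_ ?_
        · rw [← map_pow, π_eq_one_iff, hT, ZMod.natCast_self]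
          exact Or.inl (by ext a b; fin_cases a <;> fin_cases b <;> simp)
        · intro h1
          rcases π_eq_one_iff.mp h1 with e | e <;>
            · have := congrFun (congrFun e 0) 1
              simp [T] at this
      rw [orderOf_semiPair, ho]
      simp
    · obtain ⟨u, hdet, hord⟩ := exists_psl_split_torus (F := ZMod p) hodd (by rw [hcard]; exact h5)
      obtain ⟨f, hf⟩ := exists_geom_sum_ne_zero hqp hodd hτ hns one_ne_zero hdet
      obtain ⟨g, hg⟩ := mk _ f hf
      exact key _ ⟨g, hg⟩ (h.trans (dvd_of_eq (by rw [hord, hcard]; omega)))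
    · obtain ⟨ε, hε0, hε⟩ := exists_nonsquare (F := ZMod p) hodd
      obtain ⟨u, hdet, hord⟩ := exists_psl_torus ε hodd (by rw [hcard]; exact h5)
      obtain ⟨f, hf⟩ := exists_geom_sum_ne_zero hqp hodd hτ hns hε0 hdet
      obtain ⟨g, hg⟩ := mk _ f hf
      exact key _ ⟨g, hg⟩ (h.trans (dvd_of_eq (by rw [hord, hcard]; omega)))

theorem unbounded_prime (p : ℕ) [Fact p.Prime] (h5 : 5 ≤ p) :
    Unbounded (p.divisors ∪ (p - 1).divisors ∪ (p + 1).divisors) := by
  have hcard : Fintype.card (ZMod p) = p := ZMod.card p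
  have hodd : Fintype.card (ZMod p) % 2 = 1 := by
    rw [hcard]; exact (Fact.out : p.Prime).eq_two_or_odd.resolve_left (by omega)
  haveI : Nontrivial (Cusp (ZMod p)) := by
    obtain ⟨τ, hτ, hns⟩ := exists_trace (F := ZMod p) hodd (by rw [hcard]; exact h5)
    obtain ⟨u, hdet, -⟩ := exists_psl_split_torus (F := ZMod p) hodd (by rw [hcard]; exact h5)
    obtain ⟨f, hf⟩ := exists_geom_sum_ne_zero (by rw [hcard]; exact Fact.out) hodd hτ hns one_ne_zero hdet
    exact ⟨⟨f, 0, fun h0 => hf (by simp [h0])⟩⟩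
  exact unbounded_of_semi (Cusp (ZMod p)) _ (cusp_range_orderOf p h5)

/-! ### `q = 2` -/

theorem range_orderOf_pgl_two {F : Type*} [Field F] [Fintype F] (hF : Fintype.card F = 2) :
    Set.range (orderOf : PGL2 F → ℕ) = ↑({1, 2, 3} : Finset ℕ) := by
  have h01 : ∀ x : F, x = 0 ∨ x = 1 := fun x => by
    have := FiniteField.pow_card x
    rw [hF, pow_two] at this
    by_cases h : x = 0
    · exact Or.inl h
    · exact Or.inr (mul_left_cancel₀ h (this.trans (mul_one x).symm))
  have h2 : (1 : F) + 1 = 0 := (h01 (1 + 1)).resolve_right (fun h => one_ne_zero (add_eq_right.mp h))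
  ext m
  simp only [Set.mem_range, Finset.coe_insert, Finset.coe_singleton, Set.mem_insert_iff, Set.mem_singleton_iff]
  constructor
  · rintro ⟨g, rfl⟩
    obtain ⟨M, rfl⟩ := QuotientGroup.mk_surjective g
    have hd : (M : Matrix (Fin 2) (Fin 2) F).det = 1 :=
      (h01 _).resolve_left (Matrix.GeneralLinearGroup.det_ne_zero M)
    have key : (QuotientGroup.mk M : PGL2 F) ^ 2 = 1 ∨ (QuotientGroup.mk M : PGL2 F) ^ 3 = 1 := by
      simp only [pgl_mk_pow_eq_one_iff]
      generalize hX : (M : Matrix (Fin 2) (Fin 2) F) = X at hd ⊢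
      have hall : ∀ a b c d : F, a * d - b * c = 1 → (!![a, b; c, d] ^ 2 = 1 ∨ !![a, b; c, d] ^ 3 = 1) := by
        intro a b c d h
        rcases h01 a with rfl | rfl <;> rcases h01 b with rfl | rfl <;> rcases h01 c with rfl | rfl <;>
          rcases h01 d with rfl | rfl <;>
          first
          | (exfalso; simp at h; done)
          | (left; ext i j; fin_cases i <;> fin_cases j <;>
              simp [pow_succ, Matrix.mul_apply, Fin.sum_univ_two, h2]; done)
          | (right; ext i j; fin_cases i <;> fin_cases j <;>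
              simp [pow_succ, Matrix.mul_apply, Fin.sum_univ_two, h2]; done)
      rw [Matrix.det_fin_two] at hd
      rw [Matrix.eta_fin_two X]
      rcases hall _ _ _ _ hd with e | e
      · exact Or.inl ⟨1, by rw [e, one_smul]⟩
      · exact Or.inr ⟨1, by rw [e, one_smul]⟩
    rcases key with h | h
    · rcases (Nat.dvd_prime Nat.prime_two).mp (orderOf_dvd_of_pow_eq_one h) with e | e <;> omega
    · rcases (Nat.dvd_prime Nat.prime_three).mp (orderOf_dvd_of_pow_eq_one h) with e | e <;> omega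
  · rintro (rfl | rfl | rfl)
    · exact ⟨1, orderOf_one⟩
    · refine ⟨QuotientGroup.mk (Matrix.GeneralLinearGroup.mkOfDetNeZero !![(1 : F), 1; 0, 1]
        (by simp [Matrix.det_fin_two])), orderOf_eq_prime ?_ ?_⟩
      · rw [pgl_mk_pow_eq_one_iff]
        refine ⟨1, ?_⟩
        show !![(1 : F), 1; 0, 1] ^ 2 = _
        ext i j; fin_cases i <;> fin_cases j <;> simp [pow_two, Matrix.mul_apply, Fin.sum_univ_two, h2]
      · intro h1
        obtain ⟨c, hc⟩ := (pgl_mk_pow_eq_one_iff _ 1).mp (by rw [pow_one]; exact h1)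
        have := congrFun (congrFun hc 0) 1
        simp [Matrix.GeneralLinearGroup.mkOfDetNeZero] at this
    · refine ⟨QuotientGroup.mk (Matrix.GeneralLinearGroup.mkOfDetNeZero !![(0 : F), 1; 1, 1]
        (by simp [Matrix.det_fin_two])), orderOf_eq_prime ?_ ?_⟩
      · rw [pgl_mk_pow_eq_one_iff]
        refine ⟨1, ?_⟩
        show !![(0 : F), 1; 1, 1] ^ 3 = _
        ext i j; fin_cases i <;> fin_cases j <;> simp [pow_succ, Matrix.mul_apply, Fin.sum_univ_two, h2]
      · intro h1
        obtain ⟨c, hc⟩ := (pgl_mk_pow_eq_one_iff _ 1).mp (by rw [pow_one]; exact h1)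
        have := congrFun (congrFun hc 0) 1
        simp [Matrix.GeneralLinearGroup.mkOfDetNeZero] at this

/-- The sign action of `ℤˣ`. -/
theorem unbounded_two : Unbounded {1, 2, 3} := by
  refine unbounded_of_semi (C := ℤˣ) (ZMod 3) _ fun k => ?_
  haveI : Finite (Semi ℤˣ (Fin (k + 1) → ZMod 3)) :=
    Finite.of_injective (fun x => (x.left.toAdd, x.right)) fun a b hab => by
      rw [semiPair_eta a, semiPair_eta b, (Prod.mk.inj hab).1, (Prod.mk.inj hab).2]
  have h3 : ∀ v : Fin (k + 1) → ZMod 3, (3 : ℕ) • v = 0 := fun v => funext fun i => by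
    rw [Pi.smul_apply, nsmul_eq_mul, ZMod.natCast_self, zero_mul, Pi.zero_apply]
  have hneg : orderOf (-1 : ℤˣ) = 2 := orderOf_eq_prime (by decide) (by decide)
  ext m
  simp only [Set.mem_range, Finset.coe_insert, Finset.coe_singleton, Set.mem_insert_iff, Set.mem_singleton_iff]
  constructor
  · rintro ⟨x, rfl⟩
    rw [semiPair_eta x, orderOf_semiPair]
    rcases Int.units_eq_one_or x.right with e | e <;> rw [e]
    · rw [orderOf_one, one_mul]
      rcases (Nat.dvd_prime Nat.prime_three).mp (addOrderOf_dvd_of_nsmul_eq_zero (h3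
        (∑ i ∈ Finset.range 1, (1 : ℤˣ) ^ i • x.left.toAdd))) with h | h <;> omega
    · rw [hneg]
      simp [Finset.sum_range_succ, Units.neg_smul]
  · rintro (rfl | rfl | rfl)
    · exact ⟨1, orderOf_one⟩
    · exact ⟨semiPair 0 (-1), by rw [orderOf_semiPair, hneg]; simp⟩
    · refine ⟨semiPair (fun _ => 1) 1, ?_⟩
      rw [orderOf_semiPair_one]
      exact addOrderOf_eq_prime (h3 _) fun h => by
        have := congrFun h 0
        simp at this

/-! ### `q = 3` -/

/-- The natural module of `GL(2,2)`. -/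
def Nat2 : Type := Fin 2 → ZMod 2

instance instAddCommGroupNat2 : AddCommGroup Nat2 := inferInstanceAs (AddCommGroup (Fin 2 → ZMod 2))
instance instFiniteNat2 : Finite Nat2 := inferInstanceAs (Finite (Fin 2 → ZMod 2))
instance instNontrivialNat2 : Nontrivial Nat2 := inferInstanceAs (Nontrivial (Fin 2 → ZMod 2))

instance instActNat2 : DistribMulAction (GL (Fin 2) (ZMod 2)) Nat2 where
  smul c v := Matrix.mulVec (c : Matrix (Fin 2) (Fin 2) (ZMod 2)) v
  one_smul v := Matrix.one_mulVec v
  mul_smul a b v := (Matrix.mulVec_mulVec v _ _).symm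
  smul_zero c := Matrix.mulVec_zero _
  smul_add c v w := Matrix.mulVec_add _ v w

theorem gl22_facts : ∀ M : Matrix (Fin 2) (Fin 2) (ZMod 2), M.det ≠ 0 →
    M = 1 ∨ (M * M = 1 ∧ M ≠ 1) ∨ (M * M * M = 1 ∧ M ≠ 1 ∧ 1 + M + M * M = 0) := by
  decide +kernel

theorem unbounded_three : Unbounded {1, 2, 3, 4} := by
  refine unbounded_of_semi (C := GL (Fin 2) (ZMod 2)) Nat2 _ fun k => ?_
  haveI : Finite (Semi (GL (Fin 2) (ZMod 2)) (Fin (k + 1) → Nat2)) :=
    Finite.of_injective (fun x => (x.left.toAdd, x.right)) fun a b hab => by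
      rw [semiPair_eta a, semiPair_eta b, (Prod.mk.inj hab).1, (Prod.mk.inj hab).2]
  have h2 : ∀ v : Fin (k + 1) → Nat2, (2 : ℕ) • v = 0 := fun v => funext fun i => by
    rw [Pi.smul_apply, two_nsmul, Pi.zero_apply]
    exact funext fun j => CharTwo.add_self_eq_zero _
  have hdvd : ∀ v : Fin (k + 1) → Nat2, addOrderOf v = 1 ∨ addOrderOf v = 2 := fun v =>
    (Nat.dvd_prime Nat.prime_two).mp (addOrderOf_dvd_of_nsmul_eq_zero (h2 v))
  ext m
  simp only [Set.mem_range, Finset.coe_insert, Finset.coe_singleton, Set.mem_insert_iff, Set.mem_singleton_iff]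
  constructor
  · rintro ⟨x, rfl⟩
    rw [semiPair_eta x, orderOf_semiPair]
    generalize x.left.toAdd = v
    generalize x.right = c
    rcases gl22_facts c.1 (Matrix.GeneralLinearGroup.det_ne_zero c) with e | ⟨e, e1⟩ | ⟨e, e1, e2⟩
    · rw [show c = 1 from Units.ext e, orderOf_one, one_mul]
      rcases hdvd (∑ i ∈ Finset.range 1, (1 : GL (Fin 2) (ZMod 2)) ^ i • v) with h | h <;> omega
    · have ho : orderOf c = 2 := orderOf_eq_prime (Units.ext (by rw [pow_two, Units.val_mul, e]; rfl))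
        fun h => e1 (by rw [h]; rfl)
      rw [ho]
      rcases hdvd (∑ i ∈ Finset.range 2, c ^ i • v) with h | h <;> omega
    · have ho : orderOf c = 3 := orderOf_eq_prime
        (Units.ext (by rw [pow_succ, pow_two, Units.val_mul, Units.val_mul, e]; rfl))
        fun h => e1 (by rw [h]; rfl)
      rw [ho]
      have h0 : ∑ i ∈ Finset.range 3, c ^ i • v = 0 := by
        refine funext fun j => ?_
        simp only [Finset.sum_range_succ, Finset.sum_range_zero, zero_add, pow_zero, one_smul, pow_one,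
          Pi.add_apply, Pi.smul_apply, Pi.zero_apply]
        have hh : ∀ w : Fin 2 → ZMod 2, w + Matrix.mulVec c.1 w + Matrix.mulVec (c ^ 2).1 w = 0 := fun w => by
          rw [Units.val_pow_eq_pow_val, pow_two]
          conv_lhs => arg 1; arg 1; rw [← Matrix.one_mulVec w]
          rw [← Matrix.add_mulVec, ← Matrix.add_mulVec, e2, Matrix.zero_mulVec]
        exact hh (v j)
      rw [h0, addOrderOf_zero]
      omega
  · let T : GL (Fin 2) (ZMod 2) := Matrix.GeneralLinearGroup.mkOfDetNeZero !![1, 1; 0, 1] (by decide)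
    let R : GL (Fin 2) (ZMod 2) := Matrix.GeneralLinearGroup.mkOfDetNeZero !![0, 1; 1, 1] (by decide)
    have hT : orderOf T = 2 := orderOf_eq_prime (Units.ext (by
      rw [pow_two, Units.val_mul]; show !![(1 : ZMod 2), 1; 0, 1] * !![1, 1; 0, 1] = 1; decide))
      fun h => absurd (congrArg Units.val h : !![(1 : ZMod 2), 1; 0, 1] = 1) (by decide)
    have hR : orderOf R = 3 := orderOf_eq_prime (Units.ext (by
      rw [pow_succ, pow_two, Units.val_mul, Units.val_mul]
      show !![(0 : ZMod 2), 1; 1, 1] * !![0, 1; 1, 1] * !![0, 1; 1, 1] = 1; decide))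
      fun h => absurd (congrArg Units.val h : !![(0 : ZMod 2), 1; 1, 1] = 1) (by decide)
    rintro (rfl | rfl | rfl | rfl)
    · exact ⟨1, orderOf_one⟩
    · exact ⟨semiPair 0 T, by rw [orderOf_semiPair, hT]; simp⟩
    · exact ⟨semiPair 0 R, by rw [orderOf_semiPair, hR]; simp⟩
    · let w : Nat2 := (![0, 1] : Fin 2 → ZMod 2)
      refine ⟨semiPair (fun _ => w) T, ?_⟩
      rw [orderOf_semiPair, hT, addOrderOf_eq_prime (h2 _)]
      intro h0
      have h1 := congrFun h0 0
      simp only [Finset.sum_range_succ, Finset.sum_range_zero, zero_add, pow_zero, one_smul, pow_one,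
        Pi.add_apply, Pi.smul_apply, Pi.zero_apply] at h1
      have h1' : (![0, 1] : Fin 2 → ZMod 2) + Matrix.mulVec !![1, 1; 0, 1] ![0, 1] = 0 := h1
      exact absurd h1' (by decide)

/-! ### `q = 9` -/

/-- The group `5 : 8`, the kernel of the action having order 2. -/
@[ext] structure FiveEight where
  /-- the part of order 5 -/
  a : ZMod 5
  /-- the part of order 8 -/
  i : ZMod 8
deriving DecidableEq

/-- The action exponent. -/
def feAct (i : ZMod 8) : ZMod 5 := 2 ^ i.val

theorem feAct_add : ∀ i j : ZMod 8, feAct (i + j) = feAct i * feAct j := by decide +kernel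
theorem feAct_zero : feAct 0 = 1 := by decide

instance instGroupFiveEight : Group FiveEight where
  mul x y := ⟨x.a + feAct x.i * y.a, x.i + y.i⟩
  one := ⟨0, 0⟩
  inv x := ⟨-(feAct (-x.i) * x.a), -x.i⟩
  mul_assoc x y z := FiveEight.ext (by
    show x.a + feAct x.i * y.a + feAct (x.i + y.i) * z.a = x.a + feAct x.i * (y.a + feAct y.i * z.a)
    rw [feAct_add]; ring) (add_assoc _ _ _)
  one_mul x := FiveEight.ext (by
    show 0 + feAct 0 * x.a = x.a
    rw [feAct_zero]; ring) (zero_add _)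
  mul_one x := FiveEight.ext (by
    show x.a + feAct x.i * 0 = x.a
    ring) (add_zero _)
  inv_mul_cancel x := FiveEight.ext (by
    show -(feAct (-x.i) * x.a) + feAct (-x.i) * x.a = 0
    ring) (neg_add_cancel _)

/-- The central involution. -/
def feNeg : FiveEight := ⟨0, 4⟩

/-- Powers, computed. -/
def fePow (x : FiveEight) : ℕ → FiveEight
  | 0 => 1
  | n + 1 => fePow x n * x

theorem fePow_eq (x : FiveEight) (n : ℕ) : fePow x n = x ^ n := by
  induction n with
  | zero => rw [pow_zero]; rfl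
  | succ n ih => rw [pow_succ, ← ih]; rfl

/-- The possible orders. -/
def feOrders : List ℕ := [1, 2, 4, 5, 8, 10]

/-- The order, computed. -/
def feOrd (x : FiveEight) : ℕ := (((List.range 11).filter fun n => n != 0 && fePow x n == 1).headD 0)

theorem fe_check : ∀ a : ZMod 5, ∀ i : ZMod 8,
    let x : FiveEight := ⟨a, i⟩
    feOrd x ∈ feOrders ∧ fePow x (feOrd x) = 1 ∧ (∀ n : Fin 11, 0 < n.val → n.val < feOrd x → fePow x n.val ≠ 1) ∧
      (feOrd x % 2 = 0 → fePow x (feOrd x / 2) = feNeg) ∧ (feOrd x = 5 → i = 0 ∧ a ≠ 0) ∧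
      x * feNeg = feNeg * x := by
  decide +kernel

theorem fe_facts (x : FiveEight) :
    orderOf x ∈ feOrders ∧ (orderOf x % 2 = 0 → x ^ (orderOf x / 2) = feNeg) ∧
      (orderOf x = 5 → x.i = 0 ∧ x.a ≠ 0) ∧ x * feNeg = feNeg * x := by
  obtain ⟨h1, h2, h3, h4, h5, h6⟩ := fe_check x.a x.i
  have hpos : 0 < feOrd x ∧ feOrd x < 11 := by
    have h1' : feOrd x ∈ feOrders := h1
    simp only [feOrders, List.mem_cons, List.not_mem_nil, or_false] at h1'
    omega
  have ho : orderOf x = feOrd x := (orderOf_eq_iff hpos.1).mpr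
    ⟨(fePow_eq x _).symm.trans h2, fun n hn hn0 => by
      rw [← fePow_eq]
      exact h3 ⟨n, by omega⟩ hn0 hn⟩
  rw [ho]
  exact ⟨h1, fun he => (fePow_eq x _).symm.trans (h4 he), h5, h6⟩

instance instFiniteFiveEight : Finite FiveEight :=
  Finite.of_injective (fun x => (x.a, x.i)) fun _ _ h =>
    FiveEight.ext (congrArg Prod.fst h) (congrArg Prod.snd h)

/-- Odd functions with vanishing sums over the cosets of the normal subgroup of order 5. -/
def feFuns : AddSubgroup (FiveEight → ZMod 3) where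
  carrier := {f | (∀ x, f (x * feNeg) = -f x) ∧
    ∀ x, f x + f (x * ⟨1, 0⟩) + f (x * ⟨2, 0⟩) + f (x * ⟨3, 0⟩) + f (x * ⟨4, 0⟩) = 0}
  add_mem' := fun {f g} hf hg => ⟨fun x => by
    show f (x * feNeg) + g (x * feNeg) = -(f x + g x)
    rw [hf.1, hg.1]; ring, fun x => by
    show f x + g x + (f (x * _) + g (x * _)) + (f (x * _) + g (x * _)) + (f (x * _) + g (x * _)) +
      (f (x * _) + g (x * _)) = 0
    linear_combination hf.2 x + hg.2 x⟩
  zero_mem' := ⟨fun x => by simp, fun x => by simp⟩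
  neg_mem' := fun {f} hf => ⟨fun x => by
    show -f (x * feNeg) = - -f x
    rw [hf.1], fun x => by
    show -f x + -f (x * _) + -f (x * _) + -f (x * _) + -f (x * _) = 0
    linear_combination -(hf.2 x)⟩

/-- The module for `5 : 8`. -/
def FEMod : Type := feFuns

instance instAddCommGroupFEMod : AddCommGroup FEMod := inferInstanceAs (AddCommGroup feFuns)
instance instFiniteFEMod : Finite FEMod := inferInstanceAs (Finite feFuns)

theorem fe_translate {f : FiveEight → ZMod 3} (hf : f ∈ feFuns) (c : FiveEight) :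
    (fun x => f (x * c)) ∈ feFuns := by
  obtain ⟨h1, h2⟩ := hf
  refine ⟨fun x => ?_, fun x => ?_⟩
  · show f (x * feNeg * c) = -f (x * c)
    rw [mul_assoc, ← (fe_facts c).2.2.2, ← mul_assoc, h1]
  · have hc : ∀ b : ZMod 5, x * ⟨b, 0⟩ * c = x * c * ⟨feAct (-c.i) * b, 0⟩ := fun b => by
      rw [mul_assoc, mul_assoc]
      congr 1
      refine FiveEight.ext ?_ ?_
      · show b + feAct 0 * c.a = c.a + feAct c.i * (feAct (-c.i) * b)
        rw [← mul_assoc, ← feAct_add, add_neg_cancel, feAct_zero]; ring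
      · show 0 + c.i = c.i + 0
        rw [add_comm]
    show f (x * c) + f (x * _ * c) + f (x * _ * c) + f (x * _ * c) + f (x * _ * c) = 0
    rw [hc, hc, hc, hc]
    have hk : feAct (-c.i) = 1 ∨ feAct (-c.i) = 2 ∨ feAct (-c.i) = 3 ∨ feAct (-c.i) = 4 := by
      generalize -c.i = j
      revert j
      decide
    have h := h2 (x * c)
    rcases hk with e | e | e | e <;> rw [e] <;>
      norm_num1 <;> (try simp only [mul_one, one_mul]) <;>
      (try simp only [show (2 : ZMod 5) * 2 = 4 from rfl, show (2 : ZMod 5) * 3 = 1 from rfl,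
        show (2 : ZMod 5) * 4 = 3 from rfl, show (3 : ZMod 5) * 2 = 1 from rfl,
        show (3 : ZMod 5) * 3 = 4 from rfl, show (3 : ZMod 5) * 4 = 2 from rfl,
        show (4 : ZMod 5) * 2 = 3 from rfl, show (4 : ZMod 5) * 3 = 2 from rfl,
        show (4 : ZMod 5) * 4 = 1 from rfl, show (8 : ZMod 5) = 3 from rfl,
        show (6 : ZMod 5) = 1 from rfl, show (9 : ZMod 5) = 4 from rfl, show (12 : ZMod 5) = 2 from rfl,
        show (16 : ZMod 5) = 1 from rfl]) <;>
      linear_combination h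

instance instActFEMod : DistribMulAction FiveEight FEMod where
  smul c f := (⟨fun x => f.1 (x * c), fe_translate f.2 c⟩ : feFuns)
  one_smul f := Subtype.ext (funext fun x => congrArg f.1 (mul_one x))
  mul_smul a b f := Subtype.ext (funext fun x => congrArg f.1 (mul_assoc x a b).symm)
  smul_zero _ := rfl
  smul_add _ _ _ := rfl

/-- The value. -/
def FEMod.val (f : FEMod) : FiveEight → ZMod 3 := f.1

theorem FEMod.ext {f g : FEMod} (h : f.val = g.val) : f = g := Subtype.ext h
theorem FEMod.val_add (f g : FEMod) : (f + g).val = f.val + g.val := rfl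
theorem FEMod.smul_val (c : FiveEight) (f : FEMod) (x : FiveEight) : (c • f).val x = f.val (x * c) := rfl

/-- A nonzero element. -/
def feWitness : FEMod :=
  (⟨fun x => if x = 1 ∨ x = ⟨1, 4⟩ then 1 else if x = ⟨0, 4⟩ ∨ x = ⟨1, 0⟩ then -1 else 0, by
    have h : ∀ a : ZMod 5, ∀ i : ZMod 8,
        let f : FiveEight → ZMod 3 :=
          fun x => if x = 1 ∨ x = ⟨1, 4⟩ then 1 else if x = ⟨0, 4⟩ ∨ x = ⟨1, 0⟩ then -1 else 0
        let x : FiveEight := ⟨a, i⟩
        f (x * feNeg) = -f x ∧
          f x + f (x * ⟨1, 0⟩) + f (x * ⟨2, 0⟩) + f (x * ⟨3, 0⟩) + f (x * ⟨4, 0⟩) = 0 := by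
      decide +kernel
    exact ⟨fun x => (h x.a x.i).1, fun x => (h x.a x.i).2⟩⟩ : feFuns)

theorem unbounded_nine : Unbounded {1, 2, 3, 4, 5, 8, 10} := by
  haveI : Nontrivial FEMod := ⟨⟨feWitness, 0, fun h =>
    absurd (congrArg (fun f : FEMod => f.val 1) h) (by decide)⟩⟩
  refine unbounded_of_semi (C := FiveEight) FEMod _ fun k => ?_
  haveI : Finite (Semi FiveEight (Fin (k + 1) → FEMod)) :=
    Finite.of_injective (fun x => (x.left.toAdd, x.right)) fun a b hab => by
      rw [semiPair_eta a, semiPair_eta b, (Prod.mk.inj hab).1, (Prod.mk.inj hab).2]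
  have h3 : ∀ v : Fin (k + 1) → FEMod, (3 : ℕ) • v = 0 := fun v => funext fun j => by
    rw [Pi.smul_apply, show (3 : ℕ) • v j = v j + v j + v j by abel]
    refine FEMod.ext (funext fun x => ?_)
    show (v j).val x + (v j).val x + (v j).val x = 0
    generalize (v j).val x = e
    revert e
    decide
  have hneg : ∀ v : Fin (k + 1) → FEMod, feNeg • v = -v := fun v => funext fun j =>
    FEMod.ext (funext fun x => (v j).2.1 x)
  ext m
  simp only [Set.mem_range, Finset.coe_insert, Finset.coe_singleton, Set.mem_insert_iff, Set.mem_singleton_iff]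
  constructor
  · rintro ⟨x, rfl⟩
    rw [semiPair_eta x, orderOf_semiPair]
    generalize x.left.toAdd = v
    generalize x.right = c
    obtain ⟨f1, f2, f3, f4⟩ := fe_facts c
    simp only [feOrders, List.mem_cons, List.not_mem_nil, or_false] at f1
    set S := ∑ i ∈ Finset.range (orderOf c), c ^ i • v with hS
    have heven : orderOf c % 2 = 0 → addOrderOf S = 1 := fun he => by
      rw [AddMonoid.addOrderOf_eq_one_iff]
      have h1 := pow_smul_geom_sum_smul v c (orderOf c / 2)
      rw [f2 he, hneg, ← hS, neg_eq_iff_add_eq_zero] at h1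
      calc S = (S + S) + (S + S) - (3 : ℕ) • S := by abel
        _ = 0 := by rw [h1, h3, add_zero, sub_zero]
    have hS3 := (Nat.dvd_prime Nat.prime_three).mp (addOrderOf_dvd_of_nsmul_eq_zero (h3 S))
    have h5 : orderOf c = 5 → addOrderOf S = 1 := fun he => by
      rw [AddMonoid.addOrderOf_eq_one_iff]
      refine funext fun j => FEMod.ext (funext fun y => ?_)
      obtain ⟨hi, ha⟩ := f3 he
      rw [hS, he]
      simp only [Finset.sum_range_succ, Finset.sum_range_zero, zero_add, Pi.add_apply, Pi.smul_apply]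
      show ((v j).val (y * c ^ 0) + (v j).val (y * c ^ 1) + (v j).val (y * c ^ 2) + (v j).val (y * c ^ 3) +
        (v j).val (y * c ^ 4)) = 0
      have hc : c = ⟨c.a, 0⟩ := FiveEight.ext rfl hi
      have hpw : ∀ a : ZMod 5, a ≠ 0 →
          ((fePow ⟨a, 0⟩ 1 = ⟨1, 0⟩ ∧ fePow ⟨a, 0⟩ 2 = ⟨2, 0⟩ ∧ fePow ⟨a, 0⟩ 3 = ⟨3, 0⟩ ∧ fePow ⟨a, 0⟩ 4 = ⟨4, 0⟩) ∨
          (fePow ⟨a, 0⟩ 1 = ⟨2, 0⟩ ∧ fePow ⟨a, 0⟩ 2 = ⟨4, 0⟩ ∧ fePow ⟨a, 0⟩ 3 = ⟨1, 0⟩ ∧ fePow ⟨a, 0⟩ 4 = ⟨3, 0⟩) ∨
          (fePow ⟨a, 0⟩ 1 = ⟨3, 0⟩ ∧ fePow ⟨a, 0⟩ 2 = ⟨1, 0⟩ ∧ fePow ⟨a, 0⟩ 3 = ⟨4, 0⟩ ∧ fePow ⟨a, 0⟩ 4 = ⟨2, 0⟩) ∨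
          (fePow ⟨a, 0⟩ 1 = ⟨4, 0⟩ ∧ fePow ⟨a, 0⟩ 2 = ⟨3, 0⟩ ∧ fePow ⟨a, 0⟩ 3 = ⟨2, 0⟩ ∧ fePow ⟨a, 0⟩ 4 = ⟨1, 0⟩)) := by
        decide +kernel
      have hv := (v j).2.2 y
      change (v j).val y + _ + _ + _ + _ = 0 at hv
      rw [pow_zero, mul_one, ← fePow_eq c 1, ← fePow_eq c 2, ← fePow_eq c 3, ← fePow_eq c 4]
      rcases hpw c.a ha with h | h | h | h <;> obtain ⟨e1, e2, e3, e4⟩ := h <;>
        rw [← hc] at e1 e2 e3 e4 <;> rw [e1, e2, e3, e4] <;>
        exact (Eq.trans (by first | (simp only [FEMod.val]; done) | (simp only [FEMod.val]; ring)) hv)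
    rcases f1 with h | h | h | h | h | h
    · rcases hS3 with e | e <;> rw [h, e] <;> omega
    · rw [h, heven (by omega)]; omega
    · rw [h, heven (by omega)]; omega
    · rw [h, h5 h]; omega
    · rw [h, heven (by omega)]; omega
    · rw [h, heven (by omega)]; omega
  · have mk : ∀ (a : ZMod 5) (i : ZMod 8),
        ∃ g : Semi FiveEight (Fin (k + 1) → FEMod), orderOf g = orderOf (⟨a, i⟩ : FiveEight) := fun a i =>
      ⟨semiPair 0 ⟨a, i⟩, by simp [orderOf_semiPair]⟩
    have hord : ∀ (a : ZMod 5) (i : ZMod 8) (n : ℕ), 0 < n → fePow ⟨a, i⟩ n = 1 →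
        (∀ j : Fin n, 0 < j.val → fePow ⟨a, i⟩ j.val ≠ 1) →
        ∃ g : Semi FiveEight (Fin (k + 1) → FEMod), orderOf g = n := fun a i n hn h1 h2 => by
      obtain ⟨g, hg⟩ := mk a i
      exact ⟨g, hg.trans ((orderOf_eq_iff hn).mpr ⟨(fePow_eq _ _).symm.trans h1, fun j hj hj0 => by
        rw [← fePow_eq]; exact h2 ⟨j, hj⟩ hj0⟩)⟩
    rintro (rfl | rfl | rfl | rfl | rfl | rfl | rfl)
    · exact hord 0 0 1 (by omega) (by decide +kernel) (by decide +kernel)
    · exact hord 0 4 2 (by omega) (by decide +kernel) (by decide +kernel)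
    · refine ⟨semiPair (fun _ => feWitness) 1, ?_⟩
      rw [orderOf_semiPair_one]
      refine addOrderOf_eq_prime (h3 _) fun h => ?_
      have h1 := congrArg (fun w : Fin (k + 1) → FEMod => (w 0).val 1) h
      change feWitness.val 1 = (0 : ZMod 3) at h1
      exact absurd h1 (by decide)
    · exact hord 0 2 4 (by omega) (by decide +kernel) (by decide +kernel)
    · exact hord 1 0 5 (by omega) (by decide +kernel) (by decide +kernel)
    · exact hord 0 1 8 (by omega) (by decide +kernel) (by decide +kernel)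
    · exact hord 1 4 10 (by omega) (by decide +kernel) (by decide +kernel)

/-- Groups with the element orders of `PGL(2,q)` are unboundedly many for `q` prime or `9`. -/
theorem pgl_unbounded {F : Type*} [Field F] [Fintype F]
    (hF : (Fintype.card F).Prime ∨ Fintype.card F = 9) (N : ℕ) :
    ∃ (H : Type) (_ : Group H) (_ : Fintype H), N < Fintype.card H ∧
      Set.range (orderOf : H → ℕ) = Set.range (orderOf : PGL2 F → ℕ) := by
  rcases hF with hq | h9
  · haveI := prime_charP hq
    haveI : Fact (Fintype.card F).Prime := ⟨hq⟩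
    rcases Nat.lt_or_ge (Fintype.card F) 5 with h | h
    · have : Fintype.card F = 2 ∨ Fintype.card F = 3 := by
        have := hq.two_le
        rcases (show Fintype.card F = 2 ∨ Fintype.card F = 3 ∨ Fintype.card F = 4 by omega) with e | e | e
        · exact Or.inl e
        · exact Or.inr e
        · rw [e] at hq; norm_num at hq
      rcases this with e | e
      · obtain ⟨H, i1, i2, h1, h2⟩ := unbounded_two N
        exact ⟨H, i1, i2, h1, by rw [h2, range_orderOf_pgl_two e]⟩
      · obtain ⟨H, i1, i2, h1, h2⟩ := unbounded_three N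
        refine ⟨H, i1, i2, h1, ?_⟩
        rw [h2, range_orderOf_pgl (F := F) (by omega) (p := Fintype.card F), e]
        exact congrArg _ (by decide)
    · obtain ⟨H, i1, i2, h1, h2⟩ := unbounded_prime (Fintype.card F) h N
      exact ⟨H, i1, i2, h1, by
        rw [h2, range_orderOf_pgl (F := F) (hq.eq_two_or_odd.resolve_left (by omega)) (p := Fintype.card F)]⟩
  · obtain ⟨p, hc⟩ := CharP.exists F
    obtain ⟨n, hp, hn⟩ := FiniteField.card F p
    have h3 : p = 3 := by
      have : p ∣ 3 ^ 2 := by rw [show (3 : ℕ) ^ 2 = p ^ (n : ℕ) by rw [← hn, h9]; rfl]; exact dvd_pow_self p n.ne_zero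
      exact (Nat.prime_dvd_prime_iff_eq hp Nat.prime_three).mp (hp.dvd_of_dvd_pow this)
    subst h3
    haveI : Fact (Nat.Prime 3) := ⟨hp⟩
    obtain ⟨H, i1, i2, h1, h2⟩ := unbounded_nine N
    refine ⟨H, i1, i2, h1, ?_⟩
    rw [h2, range_orderOf_pgl (F := F) (by rw [h9]) (p := 3), h9]
    exact congrArg _ (by decide)

end CfsgLib.Char.TwoByTwo
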