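import Cfsg.Agent.Lib.Char.Linear
import Cfsg.Agent.Lib.Char.Burnside

/-!
# Faithful irreducible characters of `p`-groups; abelian Sylow subgroups
-/

set_option autoImplicit false
set_option linter.unusedSectionVars false

namespace CfsgLib.Char

open scoped ComplexConjugate commutatorElement
open Representation Module Cfsg

universe u

variable {G : Type u} [Group G] [Finite G] {p : ℕ} [hp : Fact p.Prime]

theorem exists_central_prime_order (hG : IsPGroup p G) (N : Subgroup G) [N.Normal] (hN : N ≠ ⊥) :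
    ∃ z ∈ N, z ∈ Subgroup.center G ∧ orderOf z = p := by
  have hC : IsPGroup p (ConjAct G) := hG.of_equiv ConjAct.toConjAct
  obtain ⟨k, hk⟩ := IsPGroup.iff_card.mp (hG.to_subgroup N)
  have hk0 : k ≠ 0 := fun e => hN (Subgroup.eq_bot_of_card_eq _ (by rw [hk, e, pow_zero]))
  have h1 : (1 : N) ∈ MulAction.fixedPoints (ConjAct G) N := fun g => smul_one g
  obtain ⟨b, hb, hne⟩ :=
    hC.exists_fixed_point_of_prime_dvd_card_of_fixed_point N (hk ▸ dvd_pow_self p hk0) h1
  have hbc : (b : G) ∈ Subgroup.center G := by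
    refine Subgroup.mem_center_iff.mpr fun g => ?_
    have h : g * (b : G) * g⁻¹ = b := by
      have h2 := congrArg Subtype.val (hb (ConjAct.toConjAct g))
      change ConjAct.toConjAct g • (b : G) = b at h2
      rw [ConjAct.toConjAct_smul] at h2
      exact h2
    exact mul_inv_eq_iff_eq_mul.mp h
  have hb1 : (b : G) ≠ 1 := fun e => hne (Subtype.ext e.symm)
  obtain ⟨j, hj⟩ := IsPGroup.iff_orderOf.mp hG (b : G)
  have hj0 : j ≠ 0 := fun e => hb1 (orderOf_eq_one_iff.mp (by rw [hj, e, pow_zero]))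
  refine ⟨(b : G) ^ p ^ (j - 1), N.pow_mem b.2 _, (Subgroup.center G).pow_mem hbc _, ?_⟩
  rw [orderOf_pow' _ (pow_ne_zero _ hp.out.ne_zero), hj,
    Nat.gcd_eq_right (Nat.pow_dvd_pow p (Nat.sub_le j 1)), Nat.pow_div (Nat.sub_le j 1) hp.out.pos,
    show j - (j - 1) = 1 by omega, pow_one]

theorem faithful_irr_iff_cyclic_center (hG : IsPGroup p G) :
    (∃ (n : ℕ) (ρ : Representation ℂ G (Fin n → ℂ)), ρ.IsIrreducible ∧ Function.Injective ρ) ↔
      IsCyclic (Subgroup.center G) := by
  classical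
  constructor
  · rintro ⟨n, ρ, hρ, hinj⟩
    obtain ⟨lam, hlam⟩ := exists_central_hom ρ
    refine isCyclic_of_subgroup_isDomain ((Units.coeHom ℂ).comp lam) fun a b h => Subtype.ext (hinj ?_)
    rw [hlam a, hlam b, show (lam a : ℂ) = lam b from h]
  · intro hcyc
    rcases subsingleton_or_nontrivial G with hs | hnt
    · obtain ⟨n, ρ, hρ, -⟩ := isIrrCharacter_one (G := G)
      exact ⟨n, ρ, hρ, fun a b _ => Subsingleton.elim a b⟩
    obtain ⟨z, -, hzc, hz⟩ := exists_central_prime_order hG ⊤ (fun e => top_ne_bot e)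
    have hz1 : z ≠ 1 := fun e => by rw [e, orderOf_one] at hz; exact hp.out.one_lt.ne hz
    obtain ⟨χ, hχ⟩ : ∃ χ : IrrCharacter G, (χ : G → ℂ) z ≠ (χ : G → ℂ) 1 := by
      by_contra hc
      push Not at hc
      exact hz1 (isConj_one_left.mp (isConj_of_irr_agree hc))
    obtain ⟨χ, n, ρ, hρ, rfl⟩ := χ
    refine ⟨n, ρ, hρ, (MonoidHom.ker_eq_bot_iff ρ).mp ?_⟩
    by_contra hker
    obtain ⟨w, hwk, hwc, hw⟩ := exists_central_prime_order hG (MonoidHom.ker ρ) hker
    have hzw : z ∈ Subgroup.zpowers w := by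
      let z' : Subgroup.center G := ⟨z, hzc⟩
      let w' : Subgroup.center G := ⟨w, hwc⟩
      have := Fintype.ofFinite (Subgroup.center G)
      have hsub : (Subgroup.zpowers w' : Set (Subgroup.center G)).toFinset ⊆
          Finset.univ.filter fun x => x ^ p = 1 := by
        intro x hx
        rw [Set.mem_toFinset] at hx
        obtain ⟨i, rfl⟩ := hx
        refine Finset.mem_filter.mpr ⟨Finset.mem_univ _, ?_⟩
        have e : w' ^ p = 1 := Subtype.ext (show w ^ p = 1 by rw [← hw]; exact pow_orderOf_eq_one w)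
        rw [← zpow_natCast, ← zpow_mul, mul_comm, zpow_mul, zpow_natCast, e, one_zpow]
      have hcard : (Finset.univ.filter fun x : Subgroup.center G => x ^ p = 1).card ≤
          (Subgroup.zpowers w' : Set (Subgroup.center G)).toFinset.card := by
        refine (IsCyclic.card_pow_eq_one_le hp.out.pos).trans ?_
        rw [Set.toFinset_card, ← Nat.card_eq_fintype_card]
        exact le_of_eq (by rw [SetLike.coe_sort_coe, Nat.card_zpowers, ← Subgroup.orderOf_coe]; exact hw.symm)
      have he := Finset.eq_of_subset_of_card_le hsub hcard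
      have : z' ∈ (Subgroup.zpowers w' : Set (Subgroup.center G)).toFinset := by
        rw [he]
        exact Finset.mem_filter.mpr ⟨Finset.mem_univ _,
          Subtype.ext (show z ^ p = 1 by rw [← hz]; exact pow_orderOf_eq_one z)⟩
      obtain ⟨i, hi⟩ := Set.mem_toFinset.mp this
      exact ⟨i, by simpa [z', w'] using congrArg Subtype.val hi⟩
    have hzk : ρ z = 1 := MonoidHom.mem_ker.mp (Subgroup.zpowers_le.mpr hwk hzw)
    exact hχ (show LinearMap.trace ℂ _ (ρ z) = LinearMap.trace ℂ _ (ρ 1) by rw [hzk, ρ.map_one])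

/-- Degrees and class number forced by a nonabelian `p`-subgroup of a simple group. -/
theorem degree_bound_of_nonabelian [IsSimpleGroup G] (P : Subgroup G) (hP : IsPGroup p P)
    (hnc : ¬ ∀ a b : P, a * b = b * a) (χ : IrrCharacter G) (hχ1 : (χ : G → ℂ) ≠ fun _ => 1)
    {n : ℕ} (hn : (χ : G → ℂ) 1 = n) :
    p < n ∧ (n < 2 * p → p ≤ Nat.card (ConjClasses G)) := by
  classical
  obtain ⟨χ, N, ρ, hρ, rfl⟩ := χ
  have hnN : n = finrank ℂ (Fin N → ℂ) := by
    have h1 : (n : ℂ) = (finrank ℂ (Fin N → ℂ) : ℂ) := hn.symm.trans (Representation.char_one ρ)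
    exact_mod_cast h1
  have hinj : Function.Injective ρ := by
    refine (MonoidHom.ker_eq_bot_iff ρ).mp ?_
    rcases (MonoidHom.normal_ker ρ).eq_bot_or_eq_top with e | e
    · exact e
    · exact absurd (irr_eq_one_of_trivial ρ fun x => MonoidHom.mem_ker.mp (e ▸ Subgroup.mem_top x)) hχ1
  have hGnc : ∀ z : G, z ∈ Subgroup.center G → z = 1 := by
    intro z hz
    rcases (Subgroup.center G).normal_of_characteristic.eq_bot_or_eq_top with e | e
    · rwa [e, Subgroup.mem_bot] at hz
    · exact absurd (fun a b : P => Subtype.ext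
        (Subgroup.mem_center_iff.mp
          (show (b : G) ∈ Subgroup.center G by rw [e]; exact Subgroup.mem_top _) (a : G))) hnc
  have := Fintype.ofFinite P
  have := Fintype.ofFinite (IrrCharacter P)
  choose d hd0 hd using fun ψ : IrrCharacter P => isIrrCharacter_degree ψ.2
  have hres : IsCharacter P (fun x : P => ρ.character x) :=
    isCharacter_comp (isCharacter_character ρ) P.subtype
  choose m hm using classInner_char_irr_nat hres
  have hexp : ∀ g : P, ρ.character g = ∑ ψ : IrrCharacter P, (m ψ : ℂ) * (ψ : P → ℂ) g := fun g => by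
    have h := congrFun (classFun_expand (isClassFunction_of_isCharacter hres)) g
    simp only [Finset.sum_apply, Pi.smul_apply, smul_eq_mul, hm] at h
    exact h
  have hsum : n = ∑ ψ : IrrCharacter P, m ψ * d ψ := by
    have h1 := hexp 1
    rw [OneMemClass.coe_one, Representation.char_one, ← hnN] at h1
    simp only [hd] at h1
    exact_mod_cast h1
  obtain ⟨z, hzcomm, hzc, hz⟩ := exists_central_prime_order hP (commutator P) fun e =>
    hnc fun a b => commutatorElement_eq_one_iff_commute.mp (by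
      have h : ⁅a, b⁆ ∈ commutator P :=
        Subgroup.commutator_mem_commutator (Subgroup.mem_top a) (Subgroup.mem_top b)
      rwa [e, Subgroup.mem_bot] at h)
  have hz1 : (z : G) ≠ 1 := fun e => by
    rw [← Subgroup.orderOf_coe, e, orderOf_one] at hz; exact hp.out.one_lt.ne hz
  have hlin : ∀ ψ : IrrCharacter P, d ψ = 1 → ∀ i : ℕ, (ψ : P → ℂ) (z ^ i) = 1 := by
    intro ψ hψ i
    obtain ⟨lam, hlam⟩ := linearCharEquiv.surjective
      (⟨ψ, by rw [hd, hψ, Nat.cast_one]⟩ : {χ : IrrCharacter P // (χ : P → ℂ) 1 = 1})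
    have e : (ψ : P → ℂ) (z ^ i) = (lam (z ^ i) : ℂ) :=
      (congrFun (congrArg (fun t => ((t.1 : IrrCharacter P) : P → ℂ)) hlam) _).symm
    have hl : lam z = 1 := MonoidHom.mem_ker.mp (Abelianization.commutator_subset_ker lam hzcomm)
    rw [e, map_pow, hl, one_pow, Units.val_one]
  have hne : (ρ.character (z : G)) ≠ (n : ℂ) := fun e => hz1 (hinj (by
    rw [map_one]; exact (char_eq_degree_iff ρ _).mp (by rw [e, hnN])))
  obtain ⟨ψ, hψm, hψd⟩ : ∃ ψ : IrrCharacter P, m ψ ≠ 0 ∧ d ψ ≠ 1 := by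
    by_contra hc
    push Not at hc
    refine hne ?_
    rw [hexp, hsum, Nat.cast_sum]
    refine Finset.sum_congr rfl fun ψ _ => ?_
    by_cases h : m ψ = 0
    · simp [h]
    · have h2 := hlin ψ (hc ψ h) 1
      rw [pow_one] at h2
      rw [h2, hc ψ h, mul_one, mul_one]
  obtain ⟨k, hk⟩ := IsPGroup.iff_card.mp hP
  have hdp : ∀ φ : IrrCharacter P, d φ = 1 ∨ p ≤ d φ := fun φ => by
    obtain ⟨j, -, hj⟩ := (Nat.dvd_prime_pow hp.out).mp (hk ▸ degree_dvd_card φ (hd φ))
    rcases Nat.eq_zero_or_pos j with rfl | hj0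
    · exact Or.inl (by rw [hj, pow_zero])
    · exact Or.inr (hj ▸ Nat.le_self_pow hj0.ne' p)
  have hψp : p ≤ d ψ := (hdp ψ).resolve_left hψd
  have hsplit := Finset.add_sum_erase _ (fun φ => m φ * d φ) (Finset.mem_univ ψ)
  rw [← hsum] at hsplit
  set R := ∑ φ ∈ (Finset.univ : Finset (IrrCharacter P)).erase ψ, m φ * d φ with hR
  have hmd : d ψ ≤ m ψ * d ψ := Nat.le_mul_of_pos_left _ (Nat.pos_of_ne_zero hψm)
  have small : n < 2 * p → m ψ = 1 ∧ d ψ = p ∧
      (∀ φ ∈ (Finset.univ : Finset (IrrCharacter P)).erase ψ, m φ = 0 ∨ d φ = 1) ∧ R + p = n := by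
    intro hlt
    have hm1 : m ψ = 1 := by
      by_contra h
      have h2 : 2 * d ψ ≤ m ψ * d ψ := Nat.mul_le_mul_right _ (by omega)
      omega
    have hdd : d ψ = p := by
      obtain ⟨j, -, hj⟩ := (Nat.dvd_prime_pow hp.out).mp (hk ▸ degree_dvd_card ψ (hd ψ))
      rcases Nat.lt_or_ge j 2 with hj2 | hj2
      · have : j = 1 := by
          rcases j with _ | _ | _
          · simp [hj] at hψd
          · rfl
          · omega
        rw [hj, this, pow_one]
      · exfalso
        have h4 : p * 2 ≤ p ^ j := (Nat.mul_le_mul_left p hp.out.two_le).trans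
          ((pow_two p).symm.le.trans (Nat.pow_le_pow_right hp.out.pos hj2))
        rw [← hj] at h4
        omega
    refine ⟨hm1, hdd, fun φ hφ => ?_, ?_⟩
    · by_contra hc
      push Not at hc
      have h2 : m φ * d φ ≤ R := Finset.single_le_sum (f := fun φ => m φ * d φ)
        (fun x _ => Nat.zero_le _) hφ
      have h3 : d φ ≤ m φ * d φ := Nat.le_mul_of_pos_left _ (Nat.pos_of_ne_zero hc.1)
      have h5 := (hdp φ).resolve_left hc.2
      omega
    · rw [hm1, hdd, one_mul] at hsplit
      omega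
  obtain ⟨M, σ, hσ, hσψ⟩ : ∃ (M : ℕ) (σ : Representation ℂ P (Fin M → ℂ)),
      σ.IsIrreducible ∧ σ.character = (ψ : P → ℂ) := ψ.2
  obtain ⟨lam, hlam⟩ := exists_central_hom σ
  set ζ : ℂ := (lam ⟨z, hzc⟩ : ℂ) with hζ
  have hψz : ∀ i : ℕ, (ψ : P → ℂ) (z ^ i) = ζ ^ i * (d ψ : ℂ) := by
    intro i
    have e : σ (z ^ i) = (ζ ^ i) • LinearMap.id := by
      rw [hζ, ← Units.val_pow_eq_pow_val, ← map_pow]
      exact hlam (⟨z, hzc⟩ ^ i)
    rw [← hσψ, Representation.character, e, trace_smul_id, ← hd, ← hσψ, Representation.char_one]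
  have hval : n < 2 * p → ∀ i : ℕ, ρ.character ((z : G) ^ i) = (p : ℂ) * ζ ^ i + (R : ℂ) := by
    intro hlt i
    obtain ⟨hm1, hdd, hothers, -⟩ := small hlt
    rw [← SubgroupClass.coe_pow, hexp, ← Finset.add_sum_erase _ _ (Finset.mem_univ ψ), hψz, hm1, hdd,
      hR, Nat.cast_sum, Nat.cast_one, one_mul, mul_comm (ζ ^ i)]
    congr 1
    refine Finset.sum_congr rfl fun φ hφ => ?_
    rcases hothers φ hφ with h | h
    · simp [h]
    · rw [hlin φ h i, h, mul_one, mul_one]
  have hle : p ≤ n := by omega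
  have hζp : ζ ^ p = 1 := by
    rw [hζ, ← Units.val_pow_eq_pow_val, ← map_pow]
    have : (⟨z, hzc⟩ : Subgroup.center P) ^ p = 1 :=
      Subtype.ext (show z ^ p = 1 by rw [← hz]; exact pow_orderOf_eq_one z)
    rw [this, map_one, Units.val_one]
  refine ⟨lt_of_le_of_ne hle fun e => ?_, fun hlt => ?_⟩
  · have hlt : n < 2 * p := by have := hp.out.pos; omega
    obtain ⟨hm1, hdd, -, hRn⟩ := small hlt
    have hR0 : R = 0 := by omega
    have h1 := hval hlt 1
    rw [pow_one, pow_one, hR0, Nat.cast_zero, add_zero] at h1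
    have hnorm : ‖ρ.character (z : G)‖ = (finrank ℂ (Fin N → ℂ) : ℝ) := by
      rw [h1, norm_mul, Complex.norm_eq_one_of_pow_eq_one hζp hp.out.ne_zero, mul_one,
        RCLike.norm_natCast, ← hnN, e]
    obtain ⟨ω, hω⟩ := (norm_char_eq_iff ρ _).mp hnorm
    refine hz1 (hGnc _ (Subgroup.mem_center_iff.mpr fun x => hinj ?_))
    rw [map_mul, map_mul, hω]
    ext v
    simp [Module.End.mul_apply]
  · obtain ⟨-, -, -, hRn⟩ := small hlt
    have hζ1 : ζ ≠ 1 := fun e => hne (by
      have h1 := hval hlt 1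
      rw [pow_one, pow_one, e, mul_one] at h1
      rw [h1, ← hRn, Nat.cast_add, add_comm])
    have hprim : orderOf ζ = p := orderOf_eq_prime hζp hζ1
    have hinjC : Function.Injective (fun i : Fin p => ConjClasses.mk ((z : G) ^ (i : ℕ))) := by
      intro i j h
      have h1 := classFun_isConj (fun a b => Representation.char_conj ρ a b)
        (ConjClasses.mk_eq_mk_iff_isConj.mp h)
      rw [hval hlt, hval hlt] at h1
      have h2 : ζ ^ (i : ℕ) = ζ ^ (j : ℕ) :=
        mul_left_cancel₀ (by exact_mod_cast hp.out.ne_zero) (add_right_cancel h1)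
      exact Fin.ext (pow_injOn_Iio_orderOf (by simpa [hprim] using i.2) (by simpa [hprim] using j.2) h2)
    simpa using Nat.card_le_card_of_injective _ hinjC

theorem comm_sylow_of_many_classes [IsSimpleGroup G] (hpd : p ∣ Nat.card G)
    (hmany : Nat.card G < p ^ 2 * Nat.card (ConjClasses G)) (P : Sylow p G) (a b : G) (ha : a ∈ P)
    (hb : b ∈ P) : a * b = b * a := by
  classical
  by_contra hab
  have hnc : ¬ ∀ x y : (P : Subgroup G), x * y = y * x := fun h =>
    hab (congrArg Subtype.val (h ⟨a, ha⟩ ⟨b, hb⟩))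
  have := Fintype.ofFinite (IrrCharacter G)
  choose d hd0 hd using fun χ : IrrCharacter G => isIrrCharacter_degree χ.2
  have hsum : ∑ χ : IrrCharacter G, d χ ^ 2 = Nat.card G := by
    have h := sum_degree_sq (G := G)
    simp only [hd] at h
    exact_mod_cast h
  let one : IrrCharacter G := ⟨fun _ => 1, isIrrCharacter_one⟩
  have hd1 : d one = 1 := by
    have := hd one
    simp only [one] at this
    exact_mod_cast this.symm
  have hb' := fun χ (hχ : χ ∈ (Finset.univ : Finset (IrrCharacter G)).erase one) =>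
    degree_bound_of_nonabelian (P : Subgroup G) P.isPGroup' hnc χ
      (fun e => (Finset.mem_erase.mp hχ).1 (Subtype.ext e)) (hd χ)
  set k := Nat.card (ConjClasses G) with hk
  have hcard : ((Finset.univ : Finset (IrrCharacter G)).erase one).card + 1 = k := by
    rw [Finset.card_erase_add_one (Finset.mem_univ _), Finset.card_univ, ← Nat.card_eq_fintype_card,
      card_irr_eq_card_conjClasses]
  rw [← Finset.add_sum_erase _ _ (Finset.mem_univ one), hd1] at hsum
  set e := ((Finset.univ : Finset (IrrCharacter G)).erase one).card with he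
  by_cases hsmall : ∃ χ ∈ (Finset.univ : Finset (IrrCharacter G)).erase one, d χ < 2 * p
  · obtain ⟨χ, hχ, hlt⟩ := hsmall
    have hkp : p ≤ k := (hb' χ hχ).2 hlt
    have h1 : e * (p + 1) ^ 2 ≤ ∑ χ ∈ (Finset.univ : Finset (IrrCharacter G)).erase one, d χ ^ 2 := by
      rw [← smul_eq_mul, he, ← Finset.sum_const]
      exact Finset.sum_le_sum fun χ hχ => Nat.pow_le_pow_left (hb' χ hχ).1 2
    rw [← hsum, ← hcard] at hmany
    nlinarith [Nat.mul_le_mul_right (p + 1) hkp]
  · push Not at hsmall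
    have h1 : e * (2 * p) ^ 2 ≤ ∑ χ ∈ (Finset.univ : Finset (IrrCharacter G)).erase one, d χ ^ 2 := by
      rw [← smul_eq_mul, he, ← Finset.sum_const]
      exact Finset.sum_le_sum fun χ hχ => Nat.pow_le_pow_left (hsmall χ hχ) 2
    rw [← hsum, ← hcard] at hmany
    rcases Nat.eq_zero_or_pos e with h0 | h0
    · have : Nontrivial (ConjClasses G) := by
        refine ⟨⟨ConjClasses.mk a, ConjClasses.mk 1, fun h => hab ?_⟩⟩
        rw [isConj_one_left.mp (ConjClasses.mk_eq_mk_iff_isConj.mp h), one_mul, mul_one]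
      have := Finite.one_lt_card (α := ConjClasses G)
      omega
    · nlinarith [Nat.mul_le_mul_right (p * p) h0]

end CfsgLib.Char
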