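import Cfsg.Agent.Lib.Char.DegreeRatio
import Cfsg.Agent.Lib.Char.Degree
import Cfsg.Agent.Lib.Char.Linear
import Cfsg.Agent.Lib.Char.Induction
import Cfsg.Agent.Lib.Char.TwoNonzero
import Cfsg.Agent.Lib.Char.InvariantRelative
import Cfsg.Agent.Lib.Char.CoreInduced
import Cfsg.Agent.Lib.Block.Local
import Cfsg.Agent.Lib.Block.GroupAlg
import Cfsg.Agent.Lib.Fusion.Tate
import Cfsg.Agent.Lib.Coprime.PGroupFrattini

/-!
# Squares of the degrees prime to `p` against the Sylow normalizer

`|N_G(P) : P'|` is at most the sum of the squares of the degrees prime to `p`, with equality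
exactly when `N_G(P)` has a normal complement.
-/

set_option autoImplicit false
set_option linter.unusedSectionVars false

namespace CfsgLib.Char.PPrimeSquares

open scoped ComplexConjugate commutatorElement
open Cfsg

universe u

variable {G : Type u} [Group G] {p : ℕ} [hp : Fact p.Prime]

/-- The sum of the squares of the degrees prime to `p`. -/
noncomputable def pSum (p : ℕ) (G : Type u) [Group G] : ℕ :=
  ∑ᶠ χ : {χ : IrrCharacter G // ¬ p ∣ charDegree (χ : G → ℂ)}, charDegree (χ.1 : G → ℂ) ^ 2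

theorem deg_spec [Finite G] (χ : IrrCharacter G) : (χ : G → ℂ) 1 = (charDegree (χ : G → ℂ) : ℂ) := by
  obtain ⟨d, -, hd⟩ := isIrrCharacter_degree χ.2
  rw [hd, charDegree, hd, Complex.natCast_re, Nat.floor_natCast]

theorem deg_ne_zero [Finite G] (χ : IrrCharacter G) : charDegree (χ : G → ℂ) ≠ 0 := fun h =>
  irr_one_ne_zero χ (by rw [deg_spec, h, Nat.cast_zero])

theorem pSum_eq [Finite G] [Fintype (IrrCharacter G)]
    [DecidablePred fun χ : IrrCharacter G => ¬ p ∣ charDegree (χ : G → ℂ)] :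
    pSum p G = ∑ χ ∈ Finset.univ.filter (fun χ : IrrCharacter G => ¬ p ∣ charDegree (χ : G → ℂ)),
      charDegree (χ : G → ℂ) ^ 2 := by
  rw [pSum, finsum_eq_sum_of_fintype]
  exact (Finset.sum_subtype _ (fun x => by simp) fun χ : IrrCharacter G => charDegree (χ : G → ℂ) ^ 2).symm

/-- The multiplicities in a restriction to a subgroup, and the degrees they add up to. -/
theorem exists_mult [Finite G] (H : Subgroup G) [Fintype H] [Fintype (IrrCharacter H)]
    (χ : IrrCharacter G) :
    ∃ c : IrrCharacter H → ℕ, (∀ θ : IrrCharacter H, classInner (fun h : H => (χ : G → ℂ) h) (θ : H → ℂ) = c θ) ∧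
      (∀ h : H, (χ : G → ℂ) h = ∑ θ, (c θ : ℂ) * (θ : H → ℂ) h) ∧
      ∑ θ, c θ * charDegree (θ : H → ℂ) = charDegree (χ : G → ℂ) := by
  have hres : IsCharacter H (fun h : H => (χ : G → ℂ) h) := isCharacter_comp (isCharacter_irr χ) H.subtype
  choose c hc using fun θ : IrrCharacter H => classInner_char_irr_nat hres θ
  have hexp : ∀ h : H, (χ : G → ℂ) h = ∑ θ, (c θ : ℂ) * (θ : H → ℂ) h := fun h => by
    have e := congrFun (classFun_expand (isClassFunction_of_isCharacter hres)) h
    simp only [Finset.sum_apply, Pi.smul_apply, smul_eq_mul, hc] at e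
    exact e
  refine ⟨c, hc, hexp, ?_⟩
  have e := hexp 1
  rw [OneMemClass.coe_one, deg_spec χ, Finset.sum_congr rfl fun θ _ => by rw [deg_spec θ]] at e
  exact_mod_cast e.symm

/-- Degrees of an induced character, through the multiplicities of restriction. -/
theorem sum_mult_deg [Fintype G] [Fintype (IrrCharacter G)] (H : Subgroup G) [Fintype H]
    (θ : IrrCharacter H) (c : IrrCharacter G → ℕ)
    (hc : ∀ χ : IrrCharacter G, classInner (fun h : H => (χ : G → ℂ) h) (θ : H → ℂ) = c χ) :
    ∑ χ, c χ * charDegree (χ : G → ℂ) = H.index * charDegree (θ : H → ℂ) := by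
  have hind := isCharacter_indFun H (isCharacter_irr θ)
  have h1 : ∀ χ : IrrCharacter G, classInner (indFun H (θ : H → ℂ)) (χ : G → ℂ) = c χ := fun χ => by
    rw [← classInner_conj, classInner_indFun_right H _ _ (isClassFunction_irr χ), hc, map_natCast]
  have e := congrFun (classFun_expand (isClassFunction_of_isCharacter hind)) 1
  simp only [Finset.sum_apply, Pi.smul_apply, smul_eq_mul, h1, indFun_one, deg_spec] at e
  exact_mod_cast e.symm

/-- The squares of the degrees of the characters trivial on a normal subgroup. -/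
theorem sum_sq_trivial_on [Finite G] [Fintype (IrrCharacter G)] (D : Subgroup G) [D.Normal]
    [DecidablePred fun χ : IrrCharacter G => ∀ d ∈ D, (χ : G → ℂ) d = (χ : G → ℂ) 1] :
    (∑ χ ∈ Finset.univ.filter (fun χ : IrrCharacter G => ∀ d ∈ D, (χ : G → ℂ) d = (χ : G → ℂ) 1),
      charDegree (χ : G → ℂ) ^ 2) * Nat.card D = Nat.card G := by
  classical
  have := Fintype.ofFinite G
  have := Fintype.ofFinite D
  have h1 : ∀ χ : IrrCharacter G, ∑ d : D, (χ : G → ℂ) d * conj ((χ : G → ℂ) 1) =
      if ∀ d ∈ D, (χ : G → ℂ) d = (χ : G → ℂ) 1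
        then ((charDegree (χ : G → ℂ) ^ 2 * Nat.card D : ℕ) : ℂ) else 0 := by
    intro χ
    rw [← Finset.sum_mul]
    split_ifs with h
    · rw [Finset.sum_congr rfl fun (d : D) _ => h d d.2, Finset.sum_const, Finset.card_univ,
        nsmul_eq_mul, conj_irr_one, deg_spec, ← Nat.card_eq_fintype_card]
      push_cast
      ring
    · push Not at h
      rw [TwoNonzero.sum_subgroup_eq_zero D χ h, zero_mul]
  have h2 : ∑ d : D, ∑ χ : IrrCharacter G, (χ : G → ℂ) d * conj ((χ : G → ℂ) 1) = (Nat.card G : ℂ) := by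
    rw [Finset.sum_eq_single (1 : D)]
    · rw [OneMemClass.coe_one, sum_irr_mul_conj, if_pos (IsConj.refl 1)]
      congr 1
      exact Nat.card_congr (Equiv.subtypeUnivEquiv fun g => by simp [Subgroup.mem_centralizer_iff])
    · intro d _ hd
      rw [sum_irr_mul_conj, if_neg]
      intro h
      exact hd (Subtype.ext (isConj_one_left.mp h))
    · exact fun h => (h (Finset.mem_univ _)).elim
  rw [Finset.sum_comm, Finset.sum_congr rfl fun χ _ => h1 χ, Finset.sum_ite, Finset.sum_const_zero,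
    add_zero, ← Nat.cast_sum, Nat.cast_inj, ← Finset.sum_mul] at h2
  exact h2

/-- A character trivial on `D` has degree dividing the index of a normal subgroup abelian mod `D`. -/
theorem deg_dvd_index [Finite G] (A D : Subgroup G) [A.Normal] [D.Normal] (χ : IrrCharacter G)
    (hA : ∀ a ∈ A, ∀ b ∈ A, a * b * a⁻¹ * b⁻¹ ∈ D)
    (hD : ∀ d ∈ D, (χ : G → ℂ) d = (χ : G → ℂ) 1) :
    charDegree (χ : G → ℂ) ∣ A.index := by
  classical
  have := Fintype.ofFinite G
  have := Fintype.ofFinite (G ⧸ D)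
  obtain ⟨ψ, hψ, hψe⟩ := InvariantRelative.exists_char_of_ker (QuotientGroup.mk' D)
    (QuotientGroup.mk'_surjective D) (isCharacter_irr χ)
    (fun a ha => hD a ((QuotientGroup.eq_one_iff a).mp ha))
  have hirr : IsIrrCharacter (G ⧸ D) ψ := CoreInduced.isIrr_of_comp (QuotientGroup.mk' D) hψ
    (by rw [show (fun a => ψ (QuotientGroup.mk' D a)) = (χ : G → ℂ) from funext hψe]; exact χ.2)
  have hN : (A.map (QuotientGroup.mk' D)).Normal :=
    Subgroup.Normal.map inferInstance _ (QuotientGroup.mk'_surjective D)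
  have hd : ψ 1 = (charDegree (χ : G → ℂ) : ℂ) := by
    rw [← deg_spec, ← hψe 1, map_one]
  refine (degree_dvd_index_abelian _ (A.map (QuotientGroup.mk' D)) ?_ ψ hirr _ hd).trans
    (A.index_map_dvd (QuotientGroup.mk'_surjective D))
  rintro _ ⟨a, ha, rfl⟩ _ ⟨b, hb, rfl⟩
  rw [← map_mul, ← map_mul, QuotientGroup.mk'_eq_mk']
  exact ⟨b⁻¹ * a⁻¹ * b * a, by
    simpa [mul_assoc] using hA b⁻¹ (inv_mem hb) a⁻¹ (inv_mem ha), by group⟩

/-- Squares add up to at most the square of the sum, with equality only for one term. -/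
theorem sum_sq_le {ι : Type*} (s : Finset ι) (x : ι → ℕ) (hx : ∀ i ∈ s, x i ≠ 0) {n : ℕ}
    (hn : ∑ i ∈ s, x i ≤ n) :
    ∑ i ∈ s, x i ^ 2 ≤ n ^ 2 ∧ (n ≠ 0 → ∑ i ∈ s, x i ^ 2 = n ^ 2 → ∃ i, s = {i} ∧ x i = n) := by
  have hle : ∀ i ∈ s, x i ≤ n := fun i hi =>
    (Finset.single_le_sum (fun j _ => Nat.zero_le (x j)) hi).trans hn
  have h1 : ∀ i ∈ s, x i ^ 2 ≤ x i * n := fun i hi => by
    rw [sq]; exact Nat.mul_le_mul_left _ (hle i hi)
  have h2 : ∑ i ∈ s, x i * n ≤ n ^ 2 := by
    rw [← Finset.sum_mul, sq]; exact Nat.mul_le_mul_right _ hn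
  refine ⟨(Finset.sum_le_sum h1).trans h2, fun hn0 he => ?_⟩
  have h3 : ∑ i ∈ s, x i ^ 2 = ∑ i ∈ s, x i * n :=
    le_antisymm (Finset.sum_le_sum h1) (he ▸ h2)
  have h4 : ∀ i ∈ s, x i = n := fun i hi => by
    have e := (Finset.sum_eq_sum_iff_of_le h1).mp h3 i hi
    rw [sq] at e
    exact Nat.eq_of_mul_eq_mul_left (Nat.pos_of_ne_zero (hx i hi)) e
  obtain ⟨i, hi⟩ : s.Nonempty := by
    rcases s.eq_empty_or_nonempty with rfl | h
    · exact absurd (by simpa using he.symm) hn0
    · exact h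
  refine ⟨i, Finset.eq_singleton_iff_unique_mem.mpr ⟨hi, fun j hj => ?_⟩, h4 i hi⟩
  by_contra hji
  classical
  have h5 : x j + x i ≤ n := by
    rw [← Finset.sum_pair hji]
    exact (Finset.sum_le_sum_of_subset (Finset.insert_subset_iff.mpr
      ⟨hj, Finset.singleton_subset_iff.mpr hi⟩)).trans hn
  have := h4 i hi; have := h4 j hj
  omega

/-- The inequality, and what equality says about restrictions to the normalizer. -/
theorem key [Fintype G] (P : Sylow p G) :
    Nat.card (Subgroup.normalizer ((P : Subgroup G) : Set G)) ≤ Nat.card (commutator P) * pSum p G ∧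
    (Nat.card (Subgroup.normalizer ((P : Subgroup G) : Set G)) = Nat.card (commutator P) * pSum p G →
      (∀ χ : IrrCharacter G, ¬ p ∣ charDegree (χ : G → ℂ) →
        ∃ ψ : IrrCharacter (Subgroup.normalizer ((P : Subgroup G) : Set G)),
          charDegree (ψ : Subgroup.normalizer ((P : Subgroup G) : Set G) → ℂ) ∣
            ((P : Subgroup G).subgroupOf (Subgroup.normalizer ((P : Subgroup G) : Set G))).index ∧
          ∀ n : Subgroup.normalizer ((P : Subgroup G) : Set G), (χ : G → ℂ) (n : G) = (ψ : Subgroup.normalizer ((P : Subgroup G) : Set G) → ℂ) n) ∧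
      ∀ ψ : IrrCharacter (Subgroup.normalizer ((P : Subgroup G) : Set G)),
        (∀ d : Subgroup.normalizer ((P : Subgroup G) : Set G), (d : G) ∈ ⁅(P : Subgroup G), (P : Subgroup G)⁆ →
          (ψ : Subgroup.normalizer ((P : Subgroup G) : Set G) → ℂ) d =
            (ψ : Subgroup.normalizer ((P : Subgroup G) : Set G) → ℂ) 1) →
        ∃ χ : IrrCharacter G, ¬ p ∣ charDegree (χ : G → ℂ) ∧
          ∀ n : Subgroup.normalizer ((P : Subgroup G) : Set G), (χ : G → ℂ) (n : G) = (ψ : Subgroup.normalizer ((P : Subgroup G) : Set G) → ℂ) n) := by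
  classical
  set N : Subgroup G := Subgroup.normalizer ((P : Subgroup G) : Set G) with hN
  have hPN : (P : Subgroup G) ≤ N := Subgroup.le_normalizer
  set D : Subgroup N := (⁅(P : Subgroup G), (P : Subgroup G)⁆).subgroupOf N with hD
  have hDP : ⁅(P : Subgroup G), (P : Subgroup G)⁆ ≤ (P : Subgroup G) :=
    Subgroup.commutator_le_self _
  have hDn : D.Normal := by
    refine ⟨fun d hd n => ?_⟩
    rw [hD, Subgroup.mem_subgroupOf] at hd ⊢
    have h1 : (P : Subgroup G).map (MulAut.conj (n : G)).toMonoidHom = P := by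
      ext y
      rw [Subgroup.mem_map]
      constructor
      · rintro ⟨x, hx, rfl⟩; exact (Subgroup.mem_normalizer_iff.mp n.2 x).mp hx
      · intro hy
        refine ⟨(n : G)⁻¹ * y * n, (Subgroup.mem_normalizer_iff.mp n.2 _).mpr ?_, by simp [mul_assoc]⟩
        simpa [mul_assoc] using hy
    have h2 := Subgroup.mem_map_of_mem (MulAut.conj (n : G)).toMonoidHom hd
    rw [Subgroup.map_commutator, h1] at h2
    simpa [mul_assoc] using h2
  have hA : ((P : Subgroup G).subgroupOf N).Normal := Subgroup.normal_in_normalizer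
  have hDcard : Nat.card D = Nat.card (commutator P) := by
    rw [hD, Nat.card_congr (Subgroup.subgroupOfEquivOfLe (hDP.trans hPN)).toEquiv,
      ← Subgroup.map_subtype_commutator, Subgroup.card_map_of_injective (Subgroup.subtype_injective _)]
  have hidx : ¬ p ∣ N.index := fun h =>
    P.not_dvd_index (h.trans (Subgroup.index_dvd_of_le hPN))
  have hidx' : ¬ p ∣ ((P : Subgroup G).subgroupOf N).index := fun h =>
    P.not_dvd_index (h.trans (Subgroup.relIndex_mul_index hPN ▸ dvd_mul_right _ _))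
  have := Fintype.ofFinite N
  have := Fintype.ofFinite (IrrCharacter G)
  have := Fintype.ofFinite (IrrCharacter N)
  let T := Finset.univ.filter fun ψ : IrrCharacter N => ∀ d ∈ D, (ψ : N → ℂ) d = (ψ : N → ℂ) 1
  let S := Finset.univ.filter fun χ : IrrCharacter G => ¬ p ∣ charDegree (χ : G → ℂ)
  have hdvd : ∀ ψ ∈ T, charDegree (ψ : N → ℂ) ∣ ((P : Subgroup G).subgroupOf N).index := fun ψ hψ =>
    deg_dvd_index _ D ψ (fun a ha b hb => by
      rw [hD, Subgroup.mem_subgroupOf]
      exact Subgroup.commutator_mem_commutator ha hb) (Finset.mem_filter.mp hψ).2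
  choose c hc hexp hsum using exists_mult (G := G) N
  have hf : ∀ ψ ∈ T, ∃ χ ∈ S, c χ ψ ≠ 0 := by
    intro ψ hψ
    by_contra hno
    push Not at hno
    have h1 := sum_mult_deg N ψ (fun χ => c χ ψ) fun χ => hc χ ψ
    have h2 : p ∣ N.index * charDegree (ψ : N → ℂ) := by
      rw [← h1]
      refine Finset.dvd_sum fun χ _ => ?_
      by_cases hχ : p ∣ charDegree (χ : G → ℂ)
      · exact Dvd.dvd.mul_left hχ _
      · rw [hno χ (Finset.mem_filter.mpr ⟨Finset.mem_univ _, hχ⟩), zero_mul]
        exact dvd_zero p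
    rcases hp.out.dvd_mul.mp h2 with h | h
    · exact hidx h
    · exact hidx' (h.trans (hdvd ψ hψ))
  have : Inhabited (IrrCharacter G) := ⟨⟨_, isIrrCharacter_one⟩⟩
  choose! f hfS hfc using hf
  have hfib : ∀ χ : IrrCharacter G,
      ∑ ψ ∈ T.filter (fun ψ => f ψ = χ), charDegree (ψ : N → ℂ) ≤ charDegree (χ : G → ℂ) := by
    intro χ
    rw [← hsum χ]
    refine (Finset.sum_le_sum fun ψ hψ => ?_).trans
      (Finset.sum_le_sum_of_subset (Finset.subset_univ _))
    obtain ⟨hψT, rfl⟩ := Finset.mem_filter.mp hψ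
    exact Nat.le_mul_of_pos_left _ (Nat.pos_of_ne_zero (hfc ψ hψT))
  have hle : ∀ χ ∈ S, ∑ ψ ∈ T.filter (fun ψ => f ψ = χ), charDegree (ψ : N → ℂ) ^ 2 ≤
      charDegree (χ : G → ℂ) ^ 2 := fun χ _ =>
    (sum_sq_le _ _ (fun ψ _ => deg_ne_zero ψ) (hfib χ)).1
  have hT : (∑ ψ ∈ T, charDegree (ψ : N → ℂ) ^ 2) * Nat.card (commutator P) = Nat.card N := by
    rw [← hDcard]
    exact sum_sq_trivial_on D
  have hsplit := Finset.sum_fiberwise_of_maps_to hfS fun ψ => charDegree (ψ : N → ℂ) ^ 2
  have hS : pSum p G = ∑ χ ∈ S, charDegree (χ : G → ℂ) ^ 2 := pSum_eq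
  refine ⟨?_, fun he => ?_⟩
  · rw [← hT, mul_comm, hS, ← hsplit]
    exact Nat.mul_le_mul_left _ (Finset.sum_le_sum hle)
  · rw [← hT, mul_comm, hS, ← hsplit] at he
    have he' := (Finset.sum_eq_sum_iff_of_le hle).mp (Nat.eq_of_mul_eq_mul_left Nat.card_pos he)
    have hone : ∀ χ ∈ S, ∃ ψ, T.filter (fun ψ => f ψ = χ) = {ψ} ∧
        ∀ n : N, (χ : G → ℂ) n = (ψ : N → ℂ) n := by
      intro χ hχ
      obtain ⟨ψ, hψ, hd⟩ := (sum_sq_le _ _ (fun ψ _ => deg_ne_zero ψ) (hfib χ)).2 (deg_ne_zero χ)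
        (he' χ hχ)
      refine ⟨ψ, hψ, fun n => ?_⟩
      obtain ⟨hψT, hψχ⟩ := Finset.mem_filter.mp (hψ ▸ Finset.mem_singleton_self ψ)
      have h0 : c χ ψ ≠ 0 := hψχ ▸ hfc ψ hψT
      have h1 := hsum χ
      rw [← Finset.add_sum_erase _ _ (Finset.mem_univ ψ), hd] at h1
      have h3 : c χ ψ * charDegree (χ : G → ℂ) ≤ 1 * charDegree (χ : G → ℂ) := by omega
      have h4 : c χ ψ = 1 := by
        have := Nat.le_of_mul_le_mul_right h3 (Nat.pos_of_ne_zero (deg_ne_zero χ))
        omega
      rw [h4, one_mul, add_eq_left, Finset.sum_eq_zero_iff] at h1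
      rw [hexp χ n, Finset.sum_eq_single ψ, h4, Nat.cast_one, one_mul]
      · intro θ _ hθ
        have := Nat.mul_eq_zero.mp (h1 θ (Finset.mem_erase.mpr ⟨hθ, Finset.mem_univ _⟩))
        rw [this.resolve_right (deg_ne_zero θ), Nat.cast_zero, zero_mul]
      · exact fun h => (h (Finset.mem_univ _)).elim
    refine ⟨fun χ hχ => ?_, fun ψ hψ => ?_⟩
    · obtain ⟨ψ, hψ, hn⟩ := hone χ (Finset.mem_filter.mpr ⟨Finset.mem_univ _, hχ⟩)
      exact ⟨ψ, hdvd ψ (Finset.mem_filter.mp (hψ ▸ Finset.mem_singleton_self ψ)).1, hn⟩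
    · have hψT : ψ ∈ T := Finset.mem_filter.mpr ⟨Finset.mem_univ _, hψ⟩
      obtain ⟨ψ', hψ', hn⟩ := hone (f ψ) (hfS ψ hψT)
      have hmem : ψ ∈ T.filter (fun θ => f θ = f ψ) := Finset.mem_filter.mpr ⟨hψT, rfl⟩
      rw [hψ', Finset.mem_singleton] at hmem
      subst hmem
      exact ⟨f ψ, (Finset.mem_filter.mp (hfS ψ hψT)).2, hn⟩

/-- Passing to a normal subgroup of index prime to `p`. -/
theorem pSum_normal [Fintype G] (M : Subgroup G) [M.Normal] (hM : ¬ p ∣ M.index) :
    pSum p G = M.index * pSum p M := by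
  classical
  have := Fintype.ofFinite M
  have := Fintype.ofFinite (IrrCharacter G)
  have := Fintype.ofFinite (IrrCharacter M)
  choose c hc hexp hsum using exists_mult (G := G) M
  have hiff : ∀ χ θ, c χ θ ≠ 0 →
      (p ∣ charDegree (χ : G → ℂ) ↔ p ∣ charDegree (θ : M → ℂ)) := by
    intro χ θ h
    obtain ⟨h1, h2⟩ := ratio_dvd_index M χ.2 θ.2 (by rw [hc]; exact_mod_cast h) (deg_spec χ) (deg_spec θ)
    refine ⟨fun hχ => ?_, fun hθ => hθ.trans h1⟩
    rw [← Nat.mul_div_cancel' h1] at hχ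
    exact (hp.out.dvd_mul.mp hχ).resolve_right fun h => hM (h.trans h2)
  rw [pSum_eq, pSum_eq, Finset.mul_sum, Finset.sum_filter, Finset.sum_filter]
  calc ∑ χ : IrrCharacter G, (if ¬ p ∣ charDegree (χ : G → ℂ) then charDegree (χ : G → ℂ) ^ 2 else 0)
      = ∑ χ : IrrCharacter G, ∑ θ : IrrCharacter M, (if ¬ p ∣ charDegree (θ : M → ℂ) then
          c χ θ * charDegree (χ : G → ℂ) * charDegree (θ : M → ℂ) else 0) := by
        refine Finset.sum_congr rfl fun χ _ => ?_
        by_cases h : p ∣ charDegree (χ : G → ℂ)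
        swap
        · rw [if_pos h, sq]
          conv_lhs => rw [← hsum χ, Finset.sum_mul, hsum χ]
          refine Finset.sum_congr rfl fun θ _ => ?_
          by_cases hz : c χ θ = 0
          · simp [hz]
          · rw [if_pos (fun hθ => h ((hiff χ θ hz).mpr hθ))]
            ring
        · rw [if_neg (not_not.mpr h)]
          refine (Finset.sum_eq_zero fun θ _ => ?_).symm
          by_cases hz : c χ θ = 0
          · simp [hz]
          · rw [if_neg (not_not.mpr ((hiff χ θ hz).mp h))]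
    _ = _ := by
        rw [Finset.sum_comm]
        refine Finset.sum_congr rfl fun θ _ => ?_
        by_cases h : p ∣ charDegree (θ : M → ℂ)
        swap
        · simp only [if_pos h]
          rw [← Finset.sum_mul, sum_mult_deg M θ (fun χ => c χ θ) fun χ => hc χ θ, sq]
          ring
        · simp only [if_neg (not_not.mpr h), mul_zero]
          exact Finset.sum_const_zero

/-- A character is constant on the normal closure of elements where it takes its degree. -/
theorem eq_one_of_gen [Finite G] (P : Subgroup G) (hgen : ∀ L : Subgroup G, L.Normal → P ≤ L → L = ⊤)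
    (χ : IrrCharacter G) (hP : ∀ x ∈ P, (χ : G → ℂ) x = (χ : G → ℂ) 1) :
    ∀ g, (χ : G → ℂ) g = (χ : G → ℂ) 1 := by
  obtain ⟨L, hLn, hL⟩ := TwoNonzero.exists_kernel χ
  intro g
  have h := hgen L hLn fun x hx => (hL x).mpr (hP x hx)
  exact (hL g).mp (h ▸ Subgroup.mem_top g)

/-- Equality, for a group generated by the conjugates of its Sylow subgroup. -/
theorem gen_case [Fintype G] (P : Sylow p G)
    (hgen : ∀ L : Subgroup G, L.Normal → (P : Subgroup G) ≤ L → L = ⊤)
    (he : Nat.card (Subgroup.normalizer ((P : Subgroup G) : Set G)) = Nat.card (commutator P) * pSum p G) :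
    Subgroup.normalizer ((P : Subgroup G) : Set G) = P ∧
      commutator G ⊓ (P : Subgroup G) ≤ ⁅(P : Subgroup G), (P : Subgroup G)⁆ := by
  classical
  obtain ⟨hall, hext⟩ := (key P).2 he
  set N : Subgroup G := Subgroup.normalizer ((P : Subgroup G) : Set G) with hN
  have := Fintype.ofFinite N
  have := Fintype.ofFinite (IrrCharacter N)
  have hPN : (P : Subgroup G) ≤ N := Subgroup.le_normalizer
  have hA : ((P : Subgroup G).subgroupOf N).Normal := Subgroup.normal_in_normalizer
  have hNP : N = P := by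
    refine le_antisymm ?_ hPN
    have h1 := sum_sq_trivial_on (G := N) ((P : Subgroup G).subgroupOf N)
    rw [Finset.sum_eq_single ⟨_, isIrrCharacter_one⟩] at h1
    · rw [show charDegree (fun _ : N => (1 : ℂ)) = 1 by simp [charDegree], one_pow, one_mul] at h1
      exact Subgroup.subgroupOf_eq_top.mp (Subgroup.eq_top_of_card_eq _ h1)
    · intro ψ hψ hne
      have hψ' := (Finset.mem_filter.mp hψ).2
      obtain ⟨χ, -, hn⟩ := hext ψ fun d hd => hψ' d (Subgroup.commutator_le_self (P : Subgroup G) hd)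
      have h3 := eq_one_of_gen (P : Subgroup G) hgen χ fun x hx => by
        rw [show (χ : G → ℂ) x = (ψ : N → ℂ) ⟨x, hPN hx⟩ from hn ⟨x, hPN hx⟩, hψ' ⟨x, hPN hx⟩ hx, ← hn 1,
          OneMemClass.coe_one]
      refine absurd (Subtype.ext (funext fun n => ?_)) hne
      have h4 : (χ : G → ℂ) 1 = 1 := by
        have h5 := classInner_irr_self χ
        simp only [classInner, h3, conj_irr_one, Finset.sum_const, Finset.card_univ, nsmul_eq_mul] at h5
        rw [deg_spec, ← Nat.card_eq_fintype_card, inv_mul_cancel_left₀ card_ne_zero'] at h5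
        rw [deg_spec]
        have h6 : charDegree (χ : G → ℂ) * charDegree (χ : G → ℂ) = 1 := by exact_mod_cast h5
        rw [(mul_eq_one.mp h6).1, Nat.cast_one]
      rw [← hn n, h3, h4]
    · intro h
      exact (h (Finset.mem_filter.mpr ⟨Finset.mem_univ _, fun _ _ => rfl⟩)).elim
  refine ⟨hNP, fun x hx => ?_⟩
  have hlin : ∀ χ : IrrCharacter G, ¬ p ∣ charDegree (χ : G → ℂ) → (χ : G → ℂ) 1 = 1 := fun χ hχ => by
    obtain ⟨ψ, hd, hn⟩ := hall χ hχ
    rw [Subgroup.subgroupOf_eq_top.mpr hNP.le, Subgroup.index_top, Nat.dvd_one] at hd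
    rw [← OneMemClass.coe_one N, hn 1, deg_spec, hd, Nat.cast_one]
  by_contra hxD
  let π : N →* (P : Subgroup G) := Subgroup.inclusion hNP.le
  obtain ⟨φ, hφ⟩ := CommGroup.exists_apply_ne_one_of_hasEnoughRootsOfUnity (Abelianization P) ℂ
    (a := Abelianization.of (⟨x, hx.2⟩ : P)) fun h => hxD (by
      rw [← Subgroup.map_subtype_commutator]
      exact ⟨⟨x, hx.2⟩, (QuotientGroup.eq_one_iff _).mp h, rfl⟩)
  let lam : N →* ℂˣ := φ.comp (Abelianization.of.comp π)
  obtain ⟨χ, hχ, hn⟩ := hext ⟨_, isIrrCharacter_lin lam⟩ fun d hd => by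
    show (lam d : ℂ) = (lam 1 : ℂ)
    rw [map_one]
    congr 1
    rw [← Subgroup.map_subtype_commutator] at hd
    obtain ⟨y, hy, hyd⟩ := hd
    show φ (Abelianization.of (π d)) = 1
    rw [show π d = y from Subtype.ext hyd.symm,
      show Abelianization.of y = 1 from (QuotientGroup.eq_one_iff _).mpr hy, map_one]
  obtain ⟨μ, hμ⟩ := linearCharEquiv.surjective ⟨χ, hlin χ hχ⟩
  have e : ∀ g, (μ g : ℂ) = (χ : G → ℂ) g := fun g =>
    congrFun (congrArg Subtype.val (congrArg Subtype.val hμ)) g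
  apply hφ
  have h1 := hn ⟨x, hPN hx.2⟩
  rw [← e] at h1
  rw [Abelianization.commutator_subset_ker μ hx.1, Units.val_one] at h1
  exact Units.ext h1.symm

/-- The normal complement of the whole normalizer coming from a self-normalizing case. -/
theorem exists_complement [Finite G] (P : Sylow p G) (M : Subgroup G) [M.Normal] (hPM : (P : Subgroup G) ≤ M)
    (hgen : ∀ L : Subgroup M, L.Normal → (P.subtype hPM : Subgroup M) ≤ L → L = ⊤)
    (hN : Subgroup.normalizer (((P.subtype hPM : Sylow p M) : Subgroup M) : Set M) = P.subtype hPM)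
    (hfoc : commutator M ⊓ (P.subtype hPM : Subgroup M) ≤
      ⁅(P.subtype hPM : Subgroup M), (P.subtype hPM : Subgroup M)⁆) :
    ∃ K : Subgroup G, K.Normal ∧ K ⊓ Subgroup.normalizer ((P : Subgroup G) : Set G) = ⊥ ∧
      K ⊔ Subgroup.normalizer ((P : Subgroup G) : Set G) = ⊤ := by
  classical
  set Q : Subgroup M := ((P.subtype hPM : Sylow p M) : Subgroup M) with hQ
  have hfr : commutator M ⊓ Q ≤ (frattini Q).map Q.subtype := by
    refine hfoc.trans ?_
    rw [← Subgroup.map_subtype_commutator]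
    exact Subgroup.map_mono (Coprime.commutator_le_frattini (P.subtype hPM).2)
  obtain ⟨P₁, K₀, hK₀n, hK₀c⟩ :=
    Fusion.hasNormalPComplement_of_inf_le_frattini (P.subtype hPM) (commutator M) hfr
  have hcop : ¬ p ∣ Nat.card K₀ := by
    rw [← hK₀c.index_eq_card]
    exact P₁.not_dvd_index
  -- the complement consists of the elements of order prime to `p` of the commutator subgroup
  have hmem : ∀ x : commutator M, x ∈ K₀ ↔ ¬ p ∣ orderOf x := by
    intro x
    refine ⟨fun hx h => hcop (h.trans ((Subgroup.orderOf_mk x hx).symm ▸ orderOf_dvd_natCard (⟨x, hx⟩ : K₀))),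
      fun hx => ?_⟩
    rw [← QuotientGroup.eq_one_iff (N := K₀), ← orderOf_eq_one_iff]
    have h1 : orderOf (x : commutator M ⧸ K₀) ∣ Nat.card P₁ := by
      rw [← hK₀c.symm.index_eq_card]
      exact orderOf_dvd_natCard _
    obtain ⟨k, hk⟩ := P₁.2.exists_card_eq
    refine Nat.eq_one_of_dvd_coprimes (a := orderOf x) ?_ (orderOf_map_dvd (QuotientGroup.mk' K₀) x) (hk ▸ h1)
    exact (hp.out.coprime_iff_not_dvd.mpr hx).symm.pow_right k
  let j : commutator M →* G := M.subtype.comp (commutator M).subtype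
  have hj : Function.Injective j := fun a b h => Subtype.ext (Subtype.ext h)
  let K : Subgroup G := K₀.map j
  have hKmem : ∀ x : G, x ∈ K ↔ x ∈ ⁅M, M⁆ ∧ ¬ p ∣ orderOf x := by
    intro x
    rw [← Subgroup.map_subtype_commutator]
    constructor
    · rintro ⟨y, hy, rfl⟩
      exact ⟨⟨y, y.2, rfl⟩, by rw [orderOf_injective j hj]; exact (hmem y).mp hy⟩
    · rintro ⟨⟨y, hy, rfl⟩, h⟩
      refine ⟨⟨y, hy⟩, (hmem _).mpr ?_, rfl⟩
      rw [← orderOf_injective j hj]
      exact h
  have hKn : K.Normal := ⟨fun x hx g => by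
    rw [hKmem] at hx ⊢
    refine ⟨Subgroup.Normal.conj_mem inferInstance x hx.1 g, ?_⟩
    rw [show g * x * g⁻¹ = MulAut.conj g x from rfl, MulEquiv.orderOf_eq]
    exact hx.2⟩
  have hKM : K ≤ M := by
    rintro _ ⟨y, -, rfl⟩
    exact y.1.2
  refine ⟨K, hKn, ?_, ?_⟩
  · rw [eq_bot_iff]
    rintro x ⟨hxK, hxN⟩
    have hxQ : (⟨x, hKM hxK⟩ : M) ∈ Q := by
      rw [← hN, hQ, Sylow.coe_subtype, ← Subgroup.subgroupOf_normalizer_eq hPM]
      exact hxN
    obtain ⟨k, hk⟩ := (P.subtype hPM).2 ⟨_, hxQ⟩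
    rw [Subgroup.mem_bot, ← orderOf_eq_one_iff]
    refine Nat.eq_one_of_dvd_coprimes (a := orderOf x) ?_ dvd_rfl
      (orderOf_dvd_of_pow_eq_one (n := p ^ k) (congrArg (fun z : Q => ((z : M) : G)) hk))
    exact (hp.out.coprime_iff_not_dvd.mpr ((hKmem x).mp hxK).2).symm.pow_right k
  · -- `M = K P`, and `G = M N`
    let K' : Subgroup M := K₀.map (commutator M).subtype
    have hK'n : K'.Normal := ⟨fun z hz g => by
      have h := hKn.conj_mem (j ⟨z, Subgroup.map_subtype_le _ hz⟩) (by
        obtain ⟨y, hy, rfl⟩ := hz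
        exact ⟨y, hy, rfl⟩) g
      obtain ⟨y, hy, hyz⟩ := h
      exact ⟨y, hy, Subtype.ext hyz⟩⟩
    have hMQ : commutator M ⊔ Q = ⊤ :=
      hgen _ ⟨fun x hx g => by
        rw [show g * x * g⁻¹ = ⁅g, x⁆ * x by rw [commutatorElement_def]; group]
        exact mul_mem (Subgroup.mem_sup_left (Subgroup.commutator_mem_commutator (Subgroup.mem_top g)
          (Subgroup.mem_top x))) hx⟩ le_sup_right
    have hsup : K' ⊔ Q = ⊤ := by
      rw [← Subgroup.index_eq_one]
      have h1 : (K' ⊔ Q).index ∣ Q.index := Subgroup.index_dvd_of_le le_sup_right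
      have h2 : (K' ⊔ Q).index ∣ K'.index := Subgroup.index_dvd_of_le le_sup_left
      have h3 : K'.index = Nat.card P₁ * (commutator M).index := by
        rw [← hK₀c.symm.index_eq_card]
        exact (Subgroup.index_map_subtype K₀)
      have h4 : (commutator M).index ∣ Nat.card Q := by
        rw [← (commutator M).relIndex_top_right, ← hMQ, sup_comm, Subgroup.relIndex_sup_right]
        exact Subgroup.relIndex_dvd_card _ _
      obtain ⟨a, ha⟩ := P₁.2.exists_card_eq
      obtain ⟨b, hb⟩ := (P.subtype hPM).2.exists_card_eq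
      rw [h3, ha] at h2
      have h5 : (K' ⊔ Q).index ∣ p ^ (a + b) := by
        rw [pow_add]
        exact h2.trans (Nat.mul_dvd_mul_left _ (hb ▸ h4))
      exact Nat.eq_one_of_dvd_coprimes
        ((hp.out.coprime_iff_not_dvd.mpr (P.subtype hPM).not_dvd_index).symm.pow_right (a + b)) h1 h5
    have hM : M ≤ K ⊔ (P : Subgroup G) := by
      have h := congrArg (Subgroup.map M.subtype) hsup
      rw [Subgroup.map_sup, ← MonoidHom.range_eq_map, Subgroup.range_subtype] at h
      refine h.ge.trans (sup_le_sup ?_ ?_)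
      · rw [Subgroup.map_map]
      · rintro _ ⟨z, hz, rfl⟩
        exact hz
    rw [eq_top_iff, ← Sylow.normalizer_sup_eq_top' P hPM]
    exact sup_le le_sup_right (hM.trans (sup_le_sup_left Subgroup.le_normalizer K))

/-- Equality when a normal subgroup `K` of order prime to `p` complements the Sylow subgroup
and contains no nontrivial fixed point. -/
theorem complement_case [Fintype G] (P : Sylow p G) (K : Subgroup G) [K.Normal]
    (hKP : K ⊔ (P : Subgroup G) = ⊤) (hK : ¬ p ∣ Nat.card K)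
    (hfix : ∀ k ∈ K, (∀ u ∈ (P : Subgroup G), u * k * u⁻¹ = k) → k = 1) :
    Nat.card (commutator P) * pSum p G ≤ Nat.card P := by
  classical
  obtain ⟨M, hM⟩ := Block.exists_pModular hp.out
  have := hM.2.1
  have := Block.charP_resField hM
  have := Fintype.ofFinite K
  have hpi : K.index ∣ Nat.card P := by
    rw [← K.relIndex_top_right, ← hKP, sup_comm, Subgroup.relIndex_sup_right]
    exact Subgroup.relIndex_dvd_card _ _
  have htriv : ∀ χ : IrrCharacter G, ¬ p ∣ charDegree (χ : G → ℂ) →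
      ∀ k ∈ K, (χ : G → ℂ) k = (χ : G → ℂ) 1 := by
    intro χ hχ
    by_contra hc
    push Not at hc
    have h0 := TwoNonzero.sum_subgroup_eq_zero K χ hc
    letI : MulAction (P : Subgroup G) K :=
      { smul := fun u k => ⟨u * k * (u : G)⁻¹, Subgroup.Normal.conj_mem inferInstance _ k.2 _⟩
        one_smul := fun k => Subtype.ext (by show (1 : G) * k * (1 : G)⁻¹ = k; group)
        mul_smul := fun u v k => Subtype.ext (by
          show (u * v : G) * k * (u * v : G)⁻¹ = u * (v * k * (v : G)⁻¹) * (u : G)⁻¹; group) }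
    let val : K → AlgInt := fun k => Block.toAlgInt (isCharacter_isIntegral (isCharacter_irr χ) (k : G))
    have hsum : ∑ k, val k = 0 := Subtype.ext (by push_cast; exact h0)
    have h1 : ∑ k, (Ideal.Quotient.mk M (val k) : Block.ResField M) = 0 := by
      rw [← map_sum, hsum, map_zero]
    rw [Block.sum_eq_sum_fixedPoints (p := p) P.2 _ (fun u k => by
      congr 1
      apply Subtype.ext
      exact isClassFunction_irr χ (k : G) (u : G))] at h1
    rw [Finset.sum_eq_single (1 : K)] at h1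
    · rw [Ideal.Quotient.eq_zero_iff_mem,
        show val 1 = ((charDegree (χ : G → ℂ) : ℕ) : AlgInt) from Subtype.ext (by
          show (χ : G → ℂ) ((1 : K) : G) = _
          rw [OneMemClass.coe_one, deg_spec]; norm_cast),
        Block.natCast_mem_iff hM] at h1
      exact hχ h1
    · intro k hk hne
      refine absurd (Subtype.ext (hfix k k.2 fun u hu => ?_)) hne
      exact congrArg Subtype.val ((Finset.mem_filter.mp hk).2 ⟨u, hu⟩)
    · intro h
      exact (h (Finset.mem_filter.mpr ⟨Finset.mem_univ _, fun u => Subtype.ext (by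
        show (u : G) * 1 * (u : G)⁻¹ = 1; group)⟩)).elim
  have hlin : ∀ χ : IrrCharacter G, ¬ p ∣ charDegree (χ : G → ℂ) → (χ : G → ℂ) 1 = 1 := by
    intro χ hχ
    have h1 := deg_dvd_index K K χ (fun a ha b hb => mul_mem (mul_mem (mul_mem ha hb) (inv_mem ha)) (inv_mem hb))
      (htriv χ hχ)
    obtain ⟨b, hb⟩ := P.2.exists_card_eq
    have h2 : charDegree (χ : G → ℂ) = 1 := Nat.eq_one_of_dvd_coprimes
      ((hp.out.coprime_iff_not_dvd.mpr hχ).symm.pow_right b) dvd_rfl (hb ▸ h1.trans hpi)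
    rw [deg_spec, h2, Nat.cast_one]
  have hcard : pSum p G = Nat.card {χ : IrrCharacter G // ¬ p ∣ charDegree (χ : G → ℂ)} := by
    have := Fintype.ofFinite (IrrCharacter G)
    rw [pSum, finsum_eq_sum_of_fintype, Finset.sum_congr rfl fun χ _ => by
      rw [show charDegree (χ.1 : G → ℂ) = 1 from by
        have h := hlin χ.1 χ.2; rw [deg_spec] at h; exact_mod_cast h, one_pow],
      Finset.sum_const, smul_eq_mul, mul_one, Finset.card_univ, Nat.card_eq_fintype_card]
  let r : {χ : IrrCharacter G // ¬ p ∣ charDegree (χ : G → ℂ)} →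
      {θ : IrrCharacter ↥(P : Subgroup G) // (θ : ↥(P : Subgroup G) → ℂ) 1 = 1} := fun χ =>
    linearCharEquiv ((linearCharEquiv.symm ⟨χ.1, hlin χ.1 χ.2⟩).comp (P : Subgroup G).subtype)
  have hr : Function.Injective r := by
    intro χ χ' h
    have h1 := linearCharEquiv.injective h
    refine Subtype.ext ?_
    have key : ∀ χ : {χ : IrrCharacter G // ¬ p ∣ charDegree (χ : G → ℂ)}, ∀ g,
        ((linearCharEquiv.symm ⟨χ.1, hlin χ.1 χ.2⟩) g : ℂ) = (χ.1 : G → ℂ) g := fun χ g => by
      conv_rhs => rw [show χ.1 = (linearCharEquiv (linearCharEquiv.symm ⟨χ.1, hlin χ.1 χ.2⟩)).1 by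
        rw [Equiv.apply_symm_apply]]
      rfl
    refine Subtype.ext (funext fun g => ?_)
    rw [← key χ, ← key χ']
    obtain ⟨k, hk, u, hu, rfl⟩ := Subgroup.mem_sup_of_normal_left.mp (hKP ▸ Subgroup.mem_top g)
    rw [map_mul, map_mul, show (linearCharEquiv.symm ⟨χ.1, hlin χ.1 χ.2⟩) u =
      (linearCharEquiv.symm ⟨χ'.1, hlin χ'.1 χ'.2⟩) u from DFunLike.congr_fun h1 ⟨u, hu⟩,
      Units.val_mul, Units.val_mul]
    simp only [key, htriv χ.1 χ.2 k hk, htriv χ'.1 χ'.2 k hk, hlin χ.1 χ.2, hlin χ'.1 χ'.2]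
  have h1 := Nat.card_le_card_of_injective r hr
  rw [← hcard, card_linear] at h1
  calc Nat.card (commutator P) * pSum p G ≤ Nat.card (commutator P) * (commutator P).index :=
        Nat.mul_le_mul_left _ h1
    _ = Nat.card P := Subgroup.card_mul_index _

/-- The order of the normalizer through a normal subgroup covering the quotient. -/
theorem card_normalizer_eq (M N : Subgroup G) [M.Normal] (h : N ⊔ M = ⊤) :
    M.index * Nat.card (N.subgroupOf M) = Nat.card N := by
  rw [show Nat.card (N.subgroupOf M) = Nat.card (M.subgroupOf N) from Nat.card_congr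
      { toFun := fun x => ⟨⟨x.1.1, x.2⟩, x.1.2⟩
        invFun := fun x => ⟨⟨x.1.1, x.2⟩, x.1.2⟩
        left_inv := fun _ => rfl
        right_inv := fun _ => rfl },
    ← (M.subgroupOf N).card_mul_index, ← M.relIndex_top_right, ← h, Subgroup.relIndex_sup_right, mul_comm]
  rfl

/-- The statement: inequality, and equality exactly for a normal complement of the normalizer. -/
theorem le_and_eq_iff [Finite G] (P : Sylow p G) :
    Nat.card (Subgroup.normalizer ((P : Subgroup G) : Set G)) ≤ Nat.card (commutator P) * pSum p G ∧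
    (Nat.card (Subgroup.normalizer ((P : Subgroup G) : Set G)) = Nat.card (commutator P) * pSum p G ↔
      ∃ K : Subgroup G, K.Normal ∧ K ⊓ Subgroup.normalizer ((P : Subgroup G) : Set G) = ⊥ ∧
        K ⊔ Subgroup.normalizer ((P : Subgroup G) : Set G) = ⊤) := by
  classical
  have := Fintype.ofFinite G
  set N : Subgroup G := Subgroup.normalizer ((P : Subgroup G) : Set G) with hN
  have hPN : (P : Subgroup G) ≤ N := Subgroup.le_normalizer
  refine ⟨(key P).1, ?_⟩
  have hsub : ∀ (M : Subgroup G) (hPM : (P : Subgroup G) ≤ M) [M.Normal],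
      (pSum p G = M.index * pSum p M) ∧
      Nat.card (commutator (P.subtype hPM)) = Nat.card (commutator P) ∧
      M.index * Nat.card (Subgroup.normalizer (((P.subtype hPM : Sylow p M) : Subgroup M) : Set M)) =
        Nat.card N := by
    intro M hPM _
    refine ⟨pSum_normal M fun h => P.not_dvd_index (h.trans (Subgroup.index_dvd_of_le hPM)), ?_, ?_⟩
    · let e : (P.subtype hPM : Subgroup M) ≃* (P : Subgroup G) := Subgroup.subgroupOfEquivOfLe hPM
      have h : (commutator (P.subtype hPM)).map e.toMonoidHom = commutator P := by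
        rw [commutator_def, commutator_def, Subgroup.map_commutator,
          Subgroup.map_top_of_surjective _ e.surjective]
      rw [← h, Subgroup.card_map_of_injective e.injective]
    · rw [Sylow.coe_subtype, ← Subgroup.subgroupOf_normalizer_eq hPM]
      exact card_normalizer_eq M N (P.normalizer_sup_eq_top' hPM)
  constructor
  · intro he
    let M : Subgroup G := Subgroup.normalClosure ((P : Subgroup G) : Set G)
    have hPM : (P : Subgroup G) ≤ M := Subgroup.le_normalClosure
    obtain ⟨h1, h2, h3⟩ := hsub M hPM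
    have hM0 : 0 < M.index := Nat.pos_of_ne_zero Subgroup.index_ne_zero_of_finite
    have he' : Nat.card (Subgroup.normalizer (((P.subtype hPM : Sylow p M) : Subgroup M) : Set M)) =
        Nat.card (commutator (P.subtype hPM)) * pSum p M := by
      apply Nat.eq_of_mul_eq_mul_left hM0
      rw [h3, he, h1, h2]; ring
    have hgen : ∀ L : Subgroup M, L.Normal → (P.subtype hPM : Subgroup M) ≤ L → L = ⊤ := by
      intro L hL hle
      rw [eq_top_iff]
      have hclo : M ≤ L.map M.subtype := by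
        refine Subgroup.closure_le _ |>.mpr ?_
        intro y hy
        obtain ⟨x, hx, hxy⟩ := Group.mem_conjugatesOfSet_iff.mp hy
        obtain ⟨g, rfl⟩ := isConj_iff.mp hxy
        obtain ⟨m, hm, n, hn, rfl⟩ := Subgroup.mem_sup_of_normal_left.mp
          ((sup_comm N M).symm.trans (P.normalizer_sup_eq_top' hPM) ▸ Subgroup.mem_top g)
        have hx' : n * x * n⁻¹ ∈ (P : Subgroup G) := (Subgroup.mem_normalizer_iff.mp hn x).mp hx
        refine ⟨⟨m, hm⟩ * ⟨n * x * n⁻¹, hPM hx'⟩ * ⟨m, hm⟩⁻¹, hL.conj_mem _ (hle hx') _, ?_⟩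
        simp [mul_assoc]
      rintro ⟨z, hz⟩ -
      obtain ⟨w, hw, hwz⟩ := hclo hz
      rwa [show (⟨z, hz⟩ : M) = w from Subtype.ext hwz.symm]
    obtain ⟨hNM, hfoc⟩ := gen_case (P.subtype hPM) hgen he'
    exact exists_complement P M hPM hgen hNM hfoc
  · rintro ⟨K, hKn, hKN, hKtop⟩
    refine le_antisymm (key P).1 ?_
    let L : Subgroup G := K ⊔ (P : Subgroup G)
    have hPL : (P : Subgroup G) ≤ L := le_sup_right
    have hLn : L.Normal := by
      rw [← Subgroup.normalizer_eq_top_iff, eq_top_iff, ← hKtop]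
      refine sup_le (le_trans le_sup_left Subgroup.le_normalizer) fun n hn => ?_
      rw [Subgroup.mem_normalizer_iff_map_conj_eq, Subgroup.map_sup]
      congr 1
      · exact Subgroup.Normal.map_conj_eq K n
      · exact (Subgroup.mem_normalizer_iff_map_conj_eq.mp hn)
    obtain ⟨h1, h2, h3⟩ := hsub L hPL
    have hLN : Subgroup.normalizer (((P.subtype hPL : Sylow p L) : Subgroup L) : Set L) = P.subtype hPL := by
      refine le_antisymm ?_ Subgroup.le_normalizer
      rw [Sylow.coe_subtype, ← Subgroup.subgroupOf_normalizer_eq hPL]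
      intro z hz
      rw [Subgroup.mem_subgroupOf] at hz ⊢
      obtain ⟨k, hk, u, hu, e⟩ := Subgroup.mem_sup_of_normal_left.mp z.2
      have hkN : k ∈ N := by
        rw [show k = (z : G) * u⁻¹ by rw [← e]; group]
        exact mul_mem hz (inv_mem (hPN hu))
      have hk1 : k ∈ K ⊓ N := ⟨hk, hkN⟩
      rw [hKN, Subgroup.mem_bot] at hk1
      rw [← e, hk1, one_mul]
      exact hu
    rw [hLN] at h3
    rw [← h3, h1, ← h2, mul_left_comm]
    refine Nat.mul_le_mul_left _ ?_
    have hK0 : ¬ p ∣ Nat.card K := by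
      rw [show Nat.card K = N.index from
        ((Subgroup.isComplement'_of_disjoint_and_mul_eq_univ
          (disjoint_iff.mpr hKN) (by rw [← Subgroup.normal_mul, hKtop, Subgroup.coe_top]))).index_eq_card.symm]
      exact fun h => P.not_dvd_index (h.trans (Subgroup.index_dvd_of_le hPN))
    refine complement_case (P.subtype hPL) (K.subgroupOf L) ?_ ?_ ?_
    · rw [Sylow.coe_subtype, ← Subgroup.subgroupOf_sup le_sup_left hPL, Subgroup.subgroupOf_self]
    · rwa [Nat.card_congr (Subgroup.subgroupOfEquivOfLe (show K ≤ L from le_sup_left)).toEquiv]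
    · intro k hk hfx
      apply Subtype.ext
      refine Subgroup.mem_bot.mp (hKN ▸ Subgroup.mem_inf.mpr ⟨hk, ?_⟩)
      refine Subgroup.centralizer_le_normalizer _ (Subgroup.mem_centralizer_iff.mpr fun u hu => ?_)
      exact mul_inv_eq_iff_eq_mul.mp (congrArg Subtype.val (hfx ⟨u, hPL hu⟩ hu))

end CfsgLib.Char.PPrimeSquares
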