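import Mathlib

/-!
# Coset enumerations for the (2,3,5) presentations

The edges are deductions from the relators, found by a Felsch enumeration.
-/

set_option autoImplicit false

namespace CfsgLib.Char.Presentation

theorem closed_alt5 {P X : Type*} [Group P] [MulAction P X] (A B : P)
    (hA : ∀ x : X, A • A • A • x = x) (hB : ∀ x : X, B • B • B • B • B • x = x)
    (hAB : ∀ x : X, A • B • A • B • x = x) (x0 : X) (h0 : B • x0 = x0) :
    ∃ s : Finset X, s.card ≤ 12 ∧ x0 ∈ s ∧ ∀ x ∈ s, A • x ∈ s ∧ B • x ∈ s := by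
  classical
  have e1_0 : B • x0 = x0 := h0
  obtain ⟨x1, e0_0⟩ : ∃ y, A • x0 = y := ⟨_, rfl⟩
  obtain ⟨x2, e0_1⟩ : ∃ y, A • x1 = y := ⟨_, rfl⟩
  have e0_2 : A • x2 = x0 := (show A • x2 = x0 by have h := hA x0; rw [e0_0, e0_1] at h; exact h)
  have e1_1 : B • x1 = x2 := smul_left_cancel A ((show A • B • x1 = x0 by have h := hAB x0; rw [e1_0, e0_0] at h; exact h).trans (show A • x2 = x0 by rw [e0_2]).symm)
  obtain ⟨x3, e1_2⟩ : ∃ y, B • x2 = y := ⟨_, rfl⟩
  obtain ⟨x4, e0_3⟩ : ∃ y, A • x3 = y := ⟨_, rfl⟩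
  have e1_4 : B • x4 = x1 := smul_left_cancel A ((show A • B • x4 = x2 by have h := hAB x2; rw [e1_2, e0_3] at h; exact h).trans (show A • x1 = x2 by rw [e0_1]).symm)
  obtain ⟨x5, e1_3⟩ : ∃ y, B • x3 = y := ⟨_, rfl⟩
  have e1_5 : B • x5 = x4 := smul_left_cancel B ((show B • B • x5 = x1 by have h := hB x1; rw [e1_1, e1_2, e1_3] at h; exact h).trans (show B • x4 = x1 by rw [e1_4]).symm)
  obtain ⟨x6, e0_4⟩ : ∃ y, A • x4 = y := ⟨_, rfl⟩
  have e0_6 : A • x6 = x3 := (show A • x6 = x3 by have h := hA x3; rw [e0_3, e0_4] at h; exact h)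
  obtain ⟨x7, e0_5⟩ : ∃ y, A • x5 = y := ⟨_, rfl⟩
  have e1_7 : B • x7 = x6 := smul_left_cancel A ((show A • B • x7 = x3 by have h := hAB x3; rw [e1_3, e0_5] at h; exact h).trans (show A • x6 = x3 by rw [e0_6]).symm)
  obtain ⟨x8, e1_6⟩ : ∃ y, B • x6 = y := ⟨_, rfl⟩
  have e0_8 : A • x8 = x5 := (show A • x8 = x5 by have h := hAB x5; rw [e1_5, e0_4, e1_6] at h; exact h)
  have e0_7 : A • x7 = x8 := smul_left_cancel A (smul_left_cancel A ((hA x7).trans (show A • A • x8 = x7 by rw [e0_8, e0_5]).symm))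
  obtain ⟨x9, e1_8⟩ : ∃ y, B • x8 = y := ⟨_, rfl⟩
  obtain ⟨x10, e0_9⟩ : ∃ y, A • x9 = y := ⟨_, rfl⟩
  have e1_10 : B • x10 = x7 := smul_left_cancel A ((show A • B • x10 = x8 by have h := hAB x8; rw [e1_8, e0_9] at h; exact h).trans (show A • x7 = x8 by rw [e0_7]).symm)
  have e1_9 : B • x9 = x10 := smul_left_cancel B (smul_left_cancel B (smul_left_cancel B (smul_left_cancel B ((hB x9).trans (show B • B • B • B • x10 = x9 by rw [e1_10, e1_7, e1_6, e1_8]).symm))))
  obtain ⟨x11, e0_10⟩ : ∃ y, A • x10 = y := ⟨_, rfl⟩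
  have e0_11 : A • x11 = x9 := (show A • x11 = x9 by have h := hA x9; rw [e0_9, e0_10] at h; exact h)
  have e1_11 : B • x11 = x11 := smul_left_cancel A ((show A • B • x11 = x9 by have h := hAB x9; rw [e1_9, e0_10] at h; exact h).trans (show A • x11 = x9 by rw [e0_11]).symm)
  refine ⟨[x0, x1, x2, x3, x4, x5, x6, x7, x8, x9, x10, x11].toFinset, (List.toFinset_card_le _).trans (le_of_eq rfl), by simp, ?_⟩
  intro x hx
  simp only [List.mem_toFinset, List.mem_cons, List.not_mem_nil, or_false] at hx ⊢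
  rcases hx with rfl | rfl | rfl | rfl | rfl | rfl | rfl | rfl | rfl | rfl | rfl | rfl
  · exact ⟨(by simp [e0_0]), (by simp [e1_0])⟩
  · exact ⟨(by simp [e0_1]), (by simp [e1_1])⟩
  · exact ⟨(by simp [e0_2]), (by simp [e1_2])⟩
  · exact ⟨(by simp [e0_3]), (by simp [e1_3])⟩
  · exact ⟨(by simp [e0_4]), (by simp [e1_4])⟩
  · exact ⟨(by simp [e0_5]), (by simp [e1_5])⟩
  · exact ⟨(by simp [e0_6]), (by simp [e1_6])⟩
  · exact ⟨(by simp [e0_7]), (by simp [e1_7])⟩
  · exact ⟨(by simp [e0_8]), (by simp [e1_8])⟩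
  · exact ⟨(by simp [e0_9]), (by simp [e1_9])⟩
  · exact ⟨(by simp [e0_10]), (by simp [e1_10])⟩
  · exact ⟨(by simp [e0_11]), (by simp [e1_11])⟩

theorem closed_sl25 {P X : Type*} [Group P] [MulAction P X] (A B C : P)
    (hA : ∀ x : X, A • A • A • x = x) (hB : ∀ x : X, B • B • B • B • B • x = x)
    (hC : ∀ x : X, C • C • x = x) (hCA : ∀ x : X, C • A • C • A • A • x = x)
    (hCB : ∀ x : X, C • B • C • B • B • B • B • x = x)
    (hAB : ∀ x : X, A • B • A • B • C • x = x) (x0 : X) (h0 : B • x0 = x0) :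
    ∃ s : Finset X, s.card ≤ 24 ∧ x0 ∈ s ∧ ∀ x ∈ s, A • x ∈ s ∧ B • x ∈ s ∧ C • x ∈ s := by
  classical
  have e1_0 : B • x0 = x0 := h0
  obtain ⟨x1, e0_0⟩ : ∃ y, A • x0 = y := ⟨_, rfl⟩
  obtain ⟨x2, e2_0⟩ : ∃ y, C • x0 = y := ⟨_, rfl⟩
  have e2_2 : C • x2 = x0 := (show C • x2 = x0 by have h := hC x0; rw [e2_0] at h; exact h)
  have e1_2 : B • x2 = x2 := smul_left_cancel C ((show C • B • x2 = x0 by have h := hCB x0; rw [e1_0, e1_0, e1_0, e1_0, e2_0] at h; exact h).trans (show C • x2 = x0 by rw [e2_2]).symm)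
  obtain ⟨x3, e0_1⟩ : ∃ y, A • x1 = y := ⟨_, rfl⟩
  have e0_3 : A • x3 = x0 := (show A • x3 = x0 by have h := hA x0; rw [e0_0, e0_1] at h; exact h)
  obtain ⟨x4, e1_1⟩ : ∃ y, B • x1 = y := ⟨_, rfl⟩
  have e0_4 : A • x4 = x2 := (show A • x4 = x2 by have h := hAB x2; rw [e2_2, e1_0, e0_0, e1_1] at h; exact h)
  have e2_3 : C • x3 = x4 := smul_left_cancel A (smul_left_cancel C ((show C • A • C • x3 = x0 by have h := hCA x0; rw [e0_0, e0_1] at h; exact h).trans (show C • A • x4 = x0 by rw [e0_4, e2_2]).symm))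
  have e2_4 : C • x4 = x3 := (show C • x4 = x3 by have h := hC x3; rw [e2_3] at h; exact h)
  obtain ⟨x5, e2_1⟩ : ∃ y, C • x1 = y := ⟨_, rfl⟩
  have e2_5 : C • x5 = x1 := (show C • x5 = x1 by have h := hC x1; rw [e2_1] at h; exact h)
  have e0_2 : A • x2 = x5 := smul_left_cancel C ((show C • A • x2 = x1 by have h := hCA x1; rw [e0_1, e0_3, e2_0] at h; exact h).trans (show C • x5 = x1 by rw [e2_5]).symm)
  have e1_5 : B • x5 = x3 := smul_left_cancel A (smul_left_cancel B (smul_left_cancel A ((show A • B • A • B • x5 = x1 by have h := hAB x1; rw [e2_1] at h; exact h).trans (show A • B • A • x3 = x1 by rw [e0_3, e1_0, e0_0]).symm)))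
  have e0_5 : A • x5 = x4 := smul_left_cancel A ((show A • A • x5 = x2 by have h := hA x2; rw [e0_2] at h; exact h).trans (show A • x4 = x2 by rw [e0_4]).symm)
  obtain ⟨x6, e1_3⟩ : ∃ y, B • x3 = y := ⟨_, rfl⟩
  obtain ⟨x7, e1_4⟩ : ∃ y, B • x4 = y := ⟨_, rfl⟩
  obtain ⟨x8, e0_6⟩ : ∃ y, A • x6 = y := ⟨_, rfl⟩
  have e1_8 : B • x8 = x5 := smul_left_cancel A ((show A • B • x8 = x4 by have h := hAB x4; rw [e2_4, e1_3, e0_6] at h; exact h).trans (show A • x5 = x4 by rw [e0_5]).symm)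
  obtain ⟨x9, e1_6⟩ : ∃ y, B • x6 = y := ⟨_, rfl⟩
  have e1_9 : B • x9 = x8 := smul_left_cancel B (smul_left_cancel B ((show B • B • B • x9 = x3 by have h := hB x3; rw [e1_3, e1_6] at h; exact h).trans (show B • B • x8 = x3 by rw [e1_8, e1_5]).symm))
  have e2_7 : C • x7 = x6 := (show C • x7 = x6 by have h := hCB x6; rw [e1_6, e1_9, e1_8, e1_5, e2_3, e1_4] at h; exact h)
  have e2_6 : C • x6 = x7 := (show C • x6 = x7 by have h := hC x7; rw [e2_7] at h; exact h)
  obtain ⟨x10, e0_7⟩ : ∃ y, A • x7 = y := ⟨_, rfl⟩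
  have e1_10 : B • x10 = x1 := smul_left_cancel A ((show A • B • x10 = x3 by have h := hAB x3; rw [e2_3, e1_4, e0_7] at h; exact h).trans (show A • x1 = x3 by rw [e0_1]).symm)
  have e2_8 : C • x8 = x10 := smul_left_cancel B (smul_left_cancel C ((show C • B • C • x8 = x5 by have h := hCB x5; rw [e1_5, e1_3, e1_6, e1_9] at h; exact h).trans (show C • B • x10 = x5 by rw [e1_10, e2_1]).symm))
  have e2_10 : C • x10 = x8 := (show C • x10 = x8 by have h := hC x8; rw [e2_8] at h; exact h)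
  obtain ⟨x11, e1_7⟩ : ∃ y, B • x7 = y := ⟨_, rfl⟩
  have e1_11 : B • x11 = x10 := smul_left_cancel B ((show B • B • x11 = x1 by have h := hB x1; rw [e1_1, e1_4, e1_7] at h; exact h).trans (show B • x10 = x1 by rw [e1_10]).symm)
  have e2_9 : C • x9 = x11 := smul_left_cancel B (smul_left_cancel C ((show C • B • C • x9 = x8 by have h := hCB x8; rw [e1_8, e1_5, e1_3, e1_6] at h; exact h).trans (show C • B • x11 = x8 by rw [e1_11, e2_10]).symm))
  have e2_11 : C • x11 = x9 := (show C • x11 = x9 by have h := hC x9; rw [e2_9] at h; exact h)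
  obtain ⟨x12, e0_8⟩ : ∃ y, A • x8 = y := ⟨_, rfl⟩
  have e0_12 : A • x12 = x6 := (show A • x12 = x6 by have h := hA x6; rw [e0_6, e0_8] at h; exact h)
  obtain ⟨x13, e0_9⟩ : ∃ y, A • x9 = y := ⟨_, rfl⟩
  obtain ⟨x14, e0_10⟩ : ∃ y, A • x10 = y := ⟨_, rfl⟩
  have e0_14 : A • x14 = x7 := (show A • x14 = x7 by have h := hA x7; rw [e0_7, e0_10] at h; exact h)
  have e2_14 : C • x14 = x12 := smul_left_cancel A (smul_left_cancel C ((show C • A • C • x14 = x7 by have h := hCA x7; rw [e0_7, e0_10] at h; exact h).trans (show C • A • x12 = x7 by rw [e0_12, e2_6]).symm))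
  have e1_13 : B • x13 = x14 := smul_left_cancel A ((show A • B • x13 = x7 by have h := hAB x7; rw [e2_7, e1_6, e0_9] at h; exact h).trans (show A • x14 = x7 by rw [e0_14]).symm)
  have e2_12 : C • x12 = x14 := smul_left_cancel C ((hC x12).trans (show C • x14 = x12 by rw [e2_14]).symm)
  obtain ⟨x15, e0_11⟩ : ∃ y, A • x11 = y := ⟨_, rfl⟩
  have e1_15 : B • x15 = x12 := smul_left_cancel A ((show A • B • x15 = x6 by have h := hAB x6; rw [e2_6, e1_7, e0_11] at h; exact h).trans (show A • x12 = x6 by rw [e0_12]).symm)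
  have e2_13 : C • x13 = x15 := smul_left_cancel B (smul_left_cancel A (smul_left_cancel B (smul_left_cancel A ((hAB x13).trans (show A • B • A • B • x15 = x13 by rw [e1_15, e0_12, e1_6, e0_9]).symm))))
  have e2_15 : C • x15 = x13 := smul_left_cancel C ((hC x15).trans (show C • x13 = x15 by rw [e2_13]).symm)
  obtain ⟨x16, e1_12⟩ : ∃ y, B • x12 = y := ⟨_, rfl⟩
  have e0_16 : A • x16 = x11 := (show A • x16 = x11 by have h := hAB x11; rw [e2_11, e1_9, e0_8, e1_12] at h; exact h)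
  have e0_15 : A • x15 = x16 := smul_left_cancel A (smul_left_cancel A ((hA x15).trans (show A • A • x16 = x15 by rw [e0_16, e0_11]).symm))
  obtain ⟨x17, e0_13⟩ : ∃ y, A • x13 = y := ⟨_, rfl⟩
  have e0_17 : A • x17 = x9 := (show A • x17 = x9 by have h := hA x9; rw [e0_9, e0_13] at h; exact h)
  have e2_17 : C • x17 = x16 := smul_left_cancel A (smul_left_cancel C ((show C • A • C • x17 = x9 by have h := hCA x9; rw [e0_9, e0_13] at h; exact h).trans (show C • A • x16 = x9 by rw [e0_16, e2_11]).symm))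
  have e1_14 : B • x14 = x17 := smul_left_cancel A ((show A • B • x14 = x9 by have h := hAB x9; rw [e2_9, e1_11, e0_10] at h; exact h).trans (show A • x17 = x9 by rw [e0_17]).symm)
  have e2_16 : C • x16 = x17 := smul_left_cancel A (smul_left_cancel C ((show C • A • C • x16 = x11 by have h := hCA x11; rw [e0_11, e0_15] at h; exact h).trans (show C • A • x17 = x11 by rw [e0_17, e2_9]).symm))
  obtain ⟨x18, e1_16⟩ : ∃ y, B • x16 = y := ⟨_, rfl⟩
  obtain ⟨x19, e1_17⟩ : ∃ y, B • x17 = y := ⟨_, rfl⟩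
  obtain ⟨x20, e0_18⟩ : ∃ y, A • x18 = y := ⟨_, rfl⟩
  have e1_20 : B • x20 = x13 := smul_left_cancel A ((show A • B • x20 = x17 by have h := hAB x17; rw [e2_17, e1_16, e0_18] at h; exact h).trans (show A • x13 = x17 by rw [e0_13]).symm)
  have e1_19 : B • x19 = x20 := smul_left_cancel B (smul_left_cancel B (smul_left_cancel B (smul_left_cancel B ((hB x19).trans (show B • B • B • B • x20 = x19 by rw [e1_20, e1_13, e1_14, e1_17]).symm))))
  have e2_18 : C • x18 = x19 := (show C • x18 = x19 by have h := hCB x19; rw [e1_19, e1_20, e1_13, e1_14, e2_17, e1_16] at h; exact h)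
  have e2_19 : C • x19 = x18 := (show C • x19 = x18 by have h := hC x18; rw [e2_18] at h; exact h)
  obtain ⟨x21, e1_18⟩ : ∃ y, B • x18 = y := ⟨_, rfl⟩
  have e1_21 : B • x21 = x15 := smul_left_cancel B ((show B • B • x21 = x12 by have h := hB x12; rw [e1_12, e1_16, e1_18] at h; exact h).trans (show B • x15 = x12 by rw [e1_15]).symm)
  have e2_20 : C • x20 = x21 := smul_left_cancel B (smul_left_cancel C ((show C • B • C • x20 = x13 by have h := hCB x13; rw [e1_13, e1_14, e1_17, e1_19] at h; exact h).trans (show C • B • x21 = x13 by rw [e1_21, e2_15]).symm))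
  have e2_21 : C • x21 = x20 := smul_left_cancel B (smul_left_cancel C ((show C • B • C • x21 = x15 by have h := hCB x15; rw [e1_15, e1_12, e1_16, e1_18] at h; exact h).trans (show C • B • x20 = x15 by rw [e1_20, e2_13]).symm))
  have e0_19 : A • x19 = x21 := smul_left_cancel B (smul_left_cancel A ((show A • B • A • x19 = x16 by have h := hAB x16; rw [e2_16, e1_17] at h; exact h).trans (show A • B • x21 = x16 by rw [e1_21, e0_15]).symm))
  obtain ⟨x22, e0_20⟩ : ∃ y, A • x20 = y := ⟨_, rfl⟩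
  have e0_22 : A • x22 = x18 := (show A • x22 = x18 by have h := hA x18; rw [e0_18, e0_20] at h; exact h)
  have e1_22 : B • x22 = x22 := smul_left_cancel A ((show A • B • x22 = x18 by have h := hAB x18; rw [e2_18, e1_19, e0_20] at h; exact h).trans (show A • x22 = x18 by rw [e0_22]).symm)
  obtain ⟨x23, e0_21⟩ : ∃ y, A • x21 = y := ⟨_, rfl⟩
  have e0_23 : A • x23 = x19 := (show A • x23 = x19 by have h := hA x19; rw [e0_19, e0_21] at h; exact h)
  have e2_23 : C • x23 = x22 := smul_left_cancel A (smul_left_cancel C ((show C • A • C • x23 = x19 by have h := hCA x19; rw [e0_19, e0_21] at h; exact h).trans (show C • A • x22 = x19 by rw [e0_22, e2_18]).symm))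
  have e1_23 : B • x23 = x23 := smul_left_cancel A ((show A • B • x23 = x19 by have h := hAB x19; rw [e2_19, e1_18, e0_21] at h; exact h).trans (show A • x23 = x19 by rw [e0_23]).symm)
  have e2_22 : C • x22 = x23 := smul_left_cancel C ((hC x22).trans (show C • x23 = x22 by rw [e2_23]).symm)
  refine ⟨[x0, x1, x2, x3, x4, x5, x6, x7, x8, x9, x10, x11, x12, x13, x14, x15, x16, x17, x18, x19, x20, x21, x22, x23].toFinset, (List.toFinset_card_le _).trans (le_of_eq rfl), by simp, ?_⟩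
  intro x hx
  simp only [List.mem_toFinset, List.mem_cons, List.not_mem_nil, or_false] at hx ⊢
  rcases hx with rfl | rfl | rfl | rfl | rfl | rfl | rfl | rfl | rfl | rfl | rfl | rfl | rfl | rfl | rfl | rfl | rfl | rfl | rfl | rfl | rfl | rfl | rfl | rfl
  · exact ⟨(by simp [e0_0]), (by simp [e1_0]), (by simp [e2_0])⟩
  · exact ⟨(by simp [e0_1]), (by simp [e1_1]), (by simp [e2_1])⟩
  · exact ⟨(by simp [e0_2]), (by simp [e1_2]), (by simp [e2_2])⟩
  · exact ⟨(by simp [e0_3]), (by simp [e1_3]), (by simp [e2_3])⟩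
  · exact ⟨(by simp [e0_4]), (by simp [e1_4]), (by simp [e2_4])⟩
  · exact ⟨(by simp [e0_5]), (by simp [e1_5]), (by simp [e2_5])⟩
  · exact ⟨(by simp [e0_6]), (by simp [e1_6]), (by simp [e2_6])⟩
  · exact ⟨(by simp [e0_7]), (by simp [e1_7]), (by simp [e2_7])⟩
  · exact ⟨(by simp [e0_8]), (by simp [e1_8]), (by simp [e2_8])⟩
  · exact ⟨(by simp [e0_9]), (by simp [e1_9]), (by simp [e2_9])⟩
  · exact ⟨(by simp [e0_10]), (by simp [e1_10]), (by simp [e2_10])⟩
  · exact ⟨(by simp [e0_11]), (by simp [e1_11]), (by simp [e2_11])⟩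
  · exact ⟨(by simp [e0_12]), (by simp [e1_12]), (by simp [e2_12])⟩
  · exact ⟨(by simp [e0_13]), (by simp [e1_13]), (by simp [e2_13])⟩
  · exact ⟨(by simp [e0_14]), (by simp [e1_14]), (by simp [e2_14])⟩
  · exact ⟨(by simp [e0_15]), (by simp [e1_15]), (by simp [e2_15])⟩
  · exact ⟨(by simp [e0_16]), (by simp [e1_16]), (by simp [e2_16])⟩
  · exact ⟨(by simp [e0_17]), (by simp [e1_17]), (by simp [e2_17])⟩
  · exact ⟨(by simp [e0_18]), (by simp [e1_18]), (by simp [e2_18])⟩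
  · exact ⟨(by simp [e0_19]), (by simp [e1_19]), (by simp [e2_19])⟩
  · exact ⟨(by simp [e0_20]), (by simp [e1_20]), (by simp [e2_20])⟩
  · exact ⟨(by simp [e0_21]), (by simp [e1_21]), (by simp [e2_21])⟩
  · exact ⟨(by simp [e0_22]), (by simp [e1_22]), (by simp [e2_22])⟩
  · exact ⟨(by simp [e0_23]), (by simp [e1_23]), (by simp [e2_23])⟩

end CfsgLib.Char.Presentation
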