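import Cfsg.Agent.Lib.Char.BlichfeldtSixty
import Cfsg.Agent.Lib.Char.CyclotomicCoeff
import Cfsg.Agent.Lib.Block.Orthogonality
import Cfsg.Agent.Lib.Block.Principal

/-!
# A refinement of Burnside's two prime theorem

In a simple group of order `pᵃ qᵇ g₀` the element `x` central in a Sylow `p`-subgroup has, in a
suitable character of the principal `p`-block, at most `g₀` distinct eigenvalues, so a power of
it contradicts Blichfeldt's sixty degree theorem unless `p` is bounded in terms of `g₀`.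
-/

set_option autoImplicit false
set_option linter.unusedSectionVars false

namespace CfsgLib.Char.PrimeBoundSimple

open Cfsg CfsgLib.Char CfsgLib.Block
open scoped ComplexConjugate

universe u

/-- Coefficients of the value divided by the degree: at most `d` of the multiplicities are
nonzero. -/
theorem multiplicity_shape {p n d : ℕ} (hn : 0 < n) (hdp : d < p) (m a : Fin p → ℤ)
    (hm : ∀ k, 0 ≤ m k) (hsum : ∑ k, m k = n)
    (hconst : ∀ k l, (d : ℤ) * m k - n * a k = d * m l - n * a l)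
    (hcong : (p : ℤ) ∣ ∑ k, a k - d) :
    ∃ A : Finset (Fin p), A.card ≤ d ∧ ∀ k, m k ≠ 0 → d ≠ 0 → k ∈ A := by
  have hp : 0 < p := by omega
  set t₀ : ℤ := d * m ⟨0, hp⟩ - n * a ⟨0, hp⟩ with ht₀
  have hn' : (0 : ℤ) < n := by exact_mod_cast hn
  set a' : Fin p → ℤ := fun k => a k + t₀ / n with ha'
  set t : ℤ := t₀ % n with ht
  have ht0 : 0 ≤ t := Int.emod_nonneg _ hn'.ne'
  have htn : t < n := Int.emod_lt_of_pos _ hn'
  have heq : ∀ k, (d : ℤ) * m k = n * a' k + t := fun k => by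
    have h1 := hconst k ⟨0, hp⟩
    rw [← ht₀] at h1
    have h2 := Int.mul_ediv_add_emod t₀ n
    rw [ha']
    simp only [mul_add]
    rw [ht]
    linarith
  have ha0 : ∀ k, 0 ≤ a' k := fun k => by
    by_contra h
    have h1 : a' k ≤ -1 := by omega
    have h2 : (0 : ℤ) ≤ d * m k := mul_nonneg (Int.natCast_nonneg d) (hm k)
    have := heq k
    nlinarith
  have hs : (d : ℤ) * n = n * (∑ k, a' k) + p * t := by
    rw [← hsum, Finset.mul_sum, Finset.sum_congr rfl fun k _ => heq k, Finset.sum_add_distrib,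
      ← Finset.mul_sum, Finset.sum_const, Finset.card_univ, Fintype.card_fin, hsum, nsmul_eq_mul]
  have hcong' : (p : ℤ) ∣ ∑ k, a' k - d := by
    rw [ha', Finset.sum_add_distrib, Finset.sum_const, Finset.card_univ, Fintype.card_fin,
      nsmul_eq_mul, add_sub_right_comm]
    exact dvd_add hcong (dvd_mul_right _ _)
  have hle : ∑ k, a' k ≤ (d : ℤ) := by
    have : (0 : ℤ) ≤ p * t := mul_nonneg (Int.natCast_nonneg p) ht0
    by_contra h
    have h1 : (d : ℤ) + 1 ≤ ∑ k, a' k := by omega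
    nlinarith
  have hnn : (0 : ℤ) ≤ ∑ k, a' k := Finset.sum_nonneg fun k _ => ha0 k
  have hsd : ∑ k, a' k = (d : ℤ) := by
    obtain ⟨c, hc⟩ := hcong'
    rcases lt_trichotomy c 0 with h | h | h
    · have : (p : ℤ) * c ≤ p * (-1) := mul_le_mul_of_nonneg_left (by omega) (Int.natCast_nonneg p)
      omega
    · rw [h, mul_zero] at hc; omega
    · have : (p : ℤ) * 1 ≤ p * c := mul_le_mul_of_nonneg_left (by omega) (Int.natCast_nonneg p)
      omega
  have ht' : t = 0 := by
    rw [hsd, mul_comm] at hs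
    have : (p : ℤ) * t = 0 := by linarith
    exact (mul_eq_zero.1 this).resolve_left (by exact_mod_cast hp.ne')
  refine ⟨Finset.univ.filter fun k => a' k ≠ 0, ?_, fun k hk hd => ?_⟩
  · have h1 : ((Finset.univ.filter fun k => a' k ≠ 0).card : ℤ) ≤ ∑ k, a' k := by
      rw [Finset.card_eq_sum_ones, Nat.cast_sum]
      refine le_trans (Finset.sum_le_sum fun k hk => ?_)
        (Finset.sum_le_univ_sum_of_nonneg fun k => ha0 k)
      have := (Finset.mem_filter.1 hk).2
      have := ha0 k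
      push_cast
      omega
    rw [hsd] at h1
    exact_mod_cast h1
  · simp only [Finset.mem_filter, Finset.mem_univ, true_and]
    intro h
    have := heq k
    rw [h, ht', mul_zero, add_zero, mul_eq_zero] at this
    rcases this with h1 | h1
    · exact hd (by exact_mod_cast h1)
    · exact hk h1

/-- Dirichlet: some multiple puts all the residues within a sixth of a turn of the base one. -/
theorem exists_close {p : ℕ} (hp : p.Prime) (A : Finset (Fin p)) {k₀ : Fin p} (hk₀ : k₀ ∈ A)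
    (hsize : 6 ^ (A.card - 1) < p) {ζ : ℂ}
    (hζ : ζ = Complex.exp (2 * Real.pi * Complex.I / p)) :
    ∃ l : ℕ, 0 < l ∧ l < p ∧ ∀ k ∈ A, ‖(ζ ^ (k : ℕ)) ^ l / (ζ ^ (k₀ : ℕ)) ^ l - 1‖ < 1 := by
  classical
  have hp0 := hp.pos
  let D : Fin p → ℕ := fun k => (k : ℕ) + (p - k₀)
  let box : Fin p → (↥(A.erase k₀) → Fin 6) := fun j k =>
    ⟨6 * (((j : ℕ) * D k.1) % p) / p, by
      rw [Nat.div_lt_iff_lt_mul hp0]
      have := Nat.mod_lt ((j : ℕ) * D k.1) hp0
      omega⟩
  obtain ⟨i, j, hne, hbox⟩ := Fintype.exists_ne_map_eq_of_card_lt box (by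
    rw [Fintype.card_fun, Fintype.card_fin, Fintype.card_coe, Finset.card_erase_of_mem hk₀,
      Fintype.card_fin]
    exact hsize)
  wlog hij : (i : ℕ) < j generalizing i j
  · exact this j i hne.symm hbox.symm (by
      rcases Nat.lt_trichotomy (i : ℕ) j with h | h | h
      · exact absurd h hij
      · exact absurd (Fin.ext h) hne
      · exact h)
  refine ⟨(j : ℕ) - i, Nat.sub_pos_of_lt hij, lt_of_le_of_lt (Nat.sub_le _ _) j.2, fun k hk => ?_⟩
  have hprim : IsPrimitiveRoot ζ p := hζ ▸ Complex.isPrimitiveRoot_exp p hp.ne_zero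
  have hζ0 : ζ ≠ 0 := hprim.ne_zero hp.ne_zero
  by_cases hk0 : k = k₀
  · subst hk0
    rw [div_self (pow_ne_zero _ (pow_ne_zero _ hζ0)), sub_self, norm_zero]
    exact one_pos
  have hb := congrArg Fin.val (congrFun hbox ⟨k, Finset.mem_erase.2 ⟨hk0, hk⟩⟩)
  simp only [box] at hb
  set r := ((i : ℕ) * D k) % p with hr
  set r' := ((j : ℕ) * D k) % p with hr'
  have hpow : ∀ s : ℕ, (ζ ^ (k : ℕ)) ^ s / (ζ ^ (k₀ : ℕ)) ^ s = ζ ^ ((s * D k) % p) := fun s => by
    rw [← pow_eq_pow_mod _ hprim.pow_eq_one, div_eq_iff (pow_ne_zero _ (pow_ne_zero _ hζ0)),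
      ← pow_mul, ← pow_mul, ← pow_add]
    have : s * D k + (k₀ : ℕ) * s = (k : ℕ) * s + p * s := by
      show s * ((k : ℕ) + (p - k₀)) + (k₀ : ℕ) * s = _
      have hle : (k₀ : ℕ) ≤ p := k₀.2.le
      calc s * ((k : ℕ) + (p - k₀)) + (k₀ : ℕ) * s
          = s * (k : ℕ) + s * ((p - k₀) + k₀) := by ring
        _ = _ := by rw [Nat.sub_add_cancel hle]; ring
    rw [this, pow_add, pow_mul (ζ) p, hprim.pow_eq_one, one_pow, mul_one]
  have hquot : (ζ ^ (k : ℕ)) ^ ((j : ℕ) - i) / (ζ ^ (k₀ : ℕ)) ^ ((j : ℕ) - i) = ζ ^ r' / ζ ^ r := by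
    rw [hr', hr, ← hpow, ← hpow, div_div_div_eq, pow_sub₀ _ (pow_ne_zero _ hζ0) hij.le,
      pow_sub₀ _ (pow_ne_zero _ hζ0) hij.le]
    have h1 := pow_ne_zero (i : ℕ) (pow_ne_zero (k : ℕ) hζ0)
    have h2 := pow_ne_zero (i : ℕ) (pow_ne_zero (k₀ : ℕ) hζ0)
    have h3 := pow_ne_zero (j : ℕ) (pow_ne_zero (k₀ : ℕ) hζ0)
    field_simp
  have h6a : 6 * r < 6 * r' + p := by
    have h1 := Nat.div_add_mod (6 * r) p
    have h2 := Nat.div_add_mod (6 * r') p
    have h3 := Nat.mod_lt (6 * r) hp0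
    rw [hb] at h1
    omega
  have h6b : 6 * r' < 6 * r + p := by
    have h1 := Nat.div_add_mod (6 * r) p
    have h2 := Nat.div_add_mod (6 * r') p
    have h3 := Nat.mod_lt (6 * r') hp0
    rw [hb] at h1
    omega
  have hpR : (0 : ℝ) < p := by exact_mod_cast hp0
  set θ : ℝ := 2 * Real.pi * ((r' : ℝ) - r) / p with hθ
  have hθb : |θ| < Real.pi / 3 := by
    have h1 : (6 : ℝ) * r < 6 * r' + p := by exact_mod_cast h6a
    have h2 : (6 : ℝ) * r' < 6 * r + p := by exact_mod_cast h6b
    have hpi := Real.pi_pos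
    rw [abs_lt, hθ]
    constructor
    · rw [lt_div_iff₀ hpR]; nlinarith
    · rw [div_lt_iff₀ hpR]; nlinarith
  have hexp : ζ ^ r' / ζ ^ r = Complex.exp (θ * Complex.I) := by
    rw [hζ, ← Complex.exp_nat_mul, ← Complex.exp_nat_mul, ← Complex.exp_sub, hθ]
    congr 1
    push_cast
    ring
  rw [hquot, hexp]
  have hcos : 1 / 2 < Real.cos θ := by
    rw [← Real.cos_pi_div_three, ← Real.cos_abs θ]
    exact Real.cos_lt_cos_of_nonneg_of_le_pi (abs_nonneg _) (by linarith [Real.pi_pos]) hθb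
  have hsq : ‖Complex.exp (θ * Complex.I) - 1‖ ^ 2 < 1 ^ 2 := by
    rw [Complex.sq_norm, Complex.normSq_apply, one_pow]
    simp only [Complex.sub_re, Complex.sub_im, Complex.one_re, Complex.one_im, sub_zero,
      Complex.exp_ofReal_mul_I_re, Complex.exp_ofReal_mul_I_im]
    have := Real.sin_sq_add_cos_sq θ
    nlinarith
  exact lt_of_pow_lt_pow_left₀ 2 zero_le_one hsq

variable {G : Type u} [Group G] [Finite G]

/-- A character of the principal `p`-block not vanishing at a `p`-singular element, of degree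
prime to `q`. -/
theorem exists_char [Fintype G] {p q : ℕ} {M : Ideal AlgInt} [M.IsMaximal] (hM : IsPModular p M)
    (hq : q.Prime) {x : G} (hx : p ∣ orderOf x) :
    ∃ χ : IrrCharacter G, (χ : G → ℂ) ≠ (fun _ => 1) ∧ χ ∈ principalBlock M G ∧
      (χ : G → ℂ) x ≠ 0 ∧ ∀ n : ℕ, (χ : G → ℂ) 1 = n → ¬ q ∣ n := by
  classical
  have hB : IsBlockUnion M (principalBlock M G) := IsBlockUnion.of_isPBlock isPBlock_principalBlock
  have horth := blockUnion_orthogonal_regular_singular hM hB (g := (1 : G)) (h := x)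
    (by rw [orderOf_one, Nat.dvd_one]; exact hM.1.ne_one) hx
  by_contra hc
  push Not at hc
  have := Fintype.ofFinite (IrrCharacter G)
  rw [finsum_mem_eq_sum_of_inter_support_eq (t := Finset.univ.filter (· ∈ principalBlock M G)) _
      (by simp)] at horth
  have hone : oneChar G ∈ Finset.univ.filter (· ∈ principalBlock M G) :=
    Finset.mem_filter.2 ⟨Finset.mem_univ _, one_mem_principalBlock⟩
  rw [← Finset.add_sum_erase _ _ hone] at horth
  have h1 : (oneChar G : G → ℂ) 1 * conj ((oneChar G : G → ℂ) x) = 1 := by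
    show (1 : ℂ) * conj (1 : ℂ) = 1
    simp
  rw [h1] at horth
  have hterm : ∀ χ ∈ (Finset.univ.filter (· ∈ principalBlock M G)).erase (oneChar G),
      ∃ t : ℂ, IsIntegral ℤ t ∧ (χ : G → ℂ) 1 * conj ((χ : G → ℂ) x) = q * t := by
    intro χ hχ
    obtain ⟨hne, hmem⟩ := Finset.mem_erase.1 hχ
    by_cases h0 : (χ : G → ℂ) x = 0
    · exact ⟨0, isIntegral_zero, by rw [h0]; simp⟩
    obtain ⟨n, hn, ⟨c, hc'⟩⟩ := hc χ (fun e => hne (Subtype.ext e)) (Finset.mem_filter.1 hmem).2 h0
    refine ⟨(c : ℂ) * conj ((χ : G → ℂ) x), ?_, ?_⟩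
    · refine (isIntegral_algebraMap (R := ℤ) (x := (c : ℤ))).mul ?_
      rw [← irr_inv]
      exact isCharacter_isIntegral (isCharacter_irr χ) _
    · rw [hn, hc', Nat.cast_mul, mul_assoc]
  choose t ht hte using hterm
  rw [← Finset.sum_attach _ (fun χ : IrrCharacter G => (χ : G → ℂ) 1 * conj ((χ : G → ℂ) x)),
    Finset.sum_congr rfl (fun χ _ => hte χ.1 χ.2), ← Finset.mul_sum] at horth
  set T := ∑ χ ∈ ((Finset.univ.filter (· ∈ principalBlock M G)).erase (oneChar G)).attach,
    t χ.1 χ.2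
  have hTint : IsIntegral ℤ T := IsIntegral.sum _ fun χ _ => ht _ _
  have hTq : T = algebraMap ℚ ℂ (-1 / q) := by
    have hq0 : (q : ℂ) ≠ 0 := by exact_mod_cast hq.ne_zero
    rw [map_div₀, map_neg, map_one, map_natCast, eq_div_iff hq0]
    linear_combination horth
  rw [hTq, isIntegral_algebraMap_iff (algebraMap ℚ ℂ).injective,
    IsIntegrallyClosed.isIntegral_iff] at hTint
  obtain ⟨z, hz⟩ := hTint
  rw [eq_intCast, eq_div_iff (by exact_mod_cast hq.ne_zero)] at hz
  have hz' : z * (q : ℤ) = -1 := by exact_mod_cast hz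
  have hdvd : (q : ℤ) ∣ 1 := ⟨-z, by linear_combination hz'⟩
  exact hq.one_lt.ne' (Nat.dvd_one.mp (by exact_mod_cast hdvd))

open Matrix in
/-- The main bound. -/
theorem main [IsSimpleGroup G] (hnab : ¬ ∀ a b : G, a * b = b * a) {p q a b g₀ : ℕ}
    [hp : Fact p.Prime] (hq : q.Prime) (hpq : p ≠ q) (ha : 0 < a)
    (hg : Nat.card G = p ^ a * q ^ b * g₀) (hcop : ¬ p ∣ g₀) (h2 : 2 ≤ g₀) :
    p < 6 ^ (g₀ - 1) := by
  classical
  have := Fintype.ofFinite G
  by_contra hbig
  rw [not_lt] at hbig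
  have hg0lt : g₀ < p := by
    have h1 := Nat.lt_pow_self (show 1 < 6 by norm_num) (n := g₀ - 1)
    have h3 : g₀ - 1 + 1 < 6 ^ (g₀ - 1) := by
      obtain ⟨k, rfl⟩ : ∃ k, g₀ = k + 2 := ⟨g₀ - 2, by omega⟩
      rw [show k + 2 - 1 = k + 1 from rfl, pow_succ]
      have := Nat.lt_pow_self (show 1 < 6 by norm_num) (n := k)
      omega
    omega
  have hsix : 6 ^ (g₀ - 1) < p := by
    refine lt_of_le_of_ne hbig fun e => ?_
    have h6 : 2 ∣ p ∧ 3 ∣ p := e ▸ ⟨dvd_pow (by norm_num) (by omega), dvd_pow (by norm_num) (by omega)⟩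
    have e2 := (Nat.prime_dvd_prime_iff_eq Nat.prime_two hp.out).1 h6.1
    have e3 := (Nat.prime_dvd_prime_iff_eq Nat.prime_three hp.out).1 h6.2
    omega
  -- an element of order `p` central in a Sylow `p`-subgroup
  obtain ⟨P⟩ := (inferInstance : Nonempty (Sylow p G))
  have hpG : p ∣ Nat.card G := hg ▸ dvd_mul_of_dvd_left (dvd_mul_of_dvd_left (dvd_pow_self p ha.ne') _) _
  have hPnt : Nontrivial (P : Subgroup G) := by
    rw [← Finite.one_lt_card_iff_nontrivial, P.card_eq_multiplicity]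
    exact Nat.one_lt_pow (hp.out.factorization_pos_of_dvd Nat.card_pos.ne' hpG).ne' hp.out.one_lt
  have hZnt := IsPGroup.center_nontrivial P.isPGroup'
  have hZp : p ∣ Nat.card (Subgroup.center (P : Subgroup G)) := by
    obtain ⟨k, hk⟩ := IsPGroup.iff_card.1
      ((P.isPGroup'.to_subgroup (Subgroup.center (P : Subgroup G))))
    rcases Nat.eq_zero_or_pos k with rfl | hk0
    · rw [pow_zero] at hk
      have := Finite.one_lt_card (α := Subgroup.center (P : Subgroup G))
      omega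
    · exact hk ▸ dvd_pow_self p hk0.ne'
  obtain ⟨z, hz⟩ := exists_prime_orderOf_dvd_card' p hZp
  set x : G := ((z : (P : Subgroup G)) : G) with hx
  have hxo : orderOf x = p := by rw [hx, Subgroup.orderOf_coe, Subgroup.orderOf_coe, hz]
  have hcp : ¬ p ∣ (Subgroup.centralizer ({x} : Set G)).index := fun h => P.not_dvd_index (h.trans
    (Subgroup.index_dvd_of_le fun y hy => Subgroup.mem_centralizer_singleton_iff.2
      (congrArg Subtype.val (Subgroup.mem_center_iff.1 z.2 ⟨y, hy⟩))))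
  set c := (Subgroup.centralizer ({x} : Set G)).index with hc
  have hc0 : c ≠ 0 := Subgroup.index_ne_zero_of_finite
  obtain ⟨j, d, hqd, hcd⟩ := Nat.exists_eq_pow_mul_and_not_dvd hc0 q hq.ne_one
  have hdg : d ∣ g₀ := by
    have h1 : c ∣ p ^ a * (q ^ b * g₀) := by
      rw [← mul_assoc, ← hg]; exact Subgroup.index_dvd_card _
    have h2 : c ∣ q ^ b * g₀ :=
      (Nat.Coprime.pow_right a ((hp.out.coprime_iff_not_dvd.2 hcp).symm)).dvd_of_dvd_mul_left h1
    exact (Nat.Coprime.pow_right b ((hq.coprime_iff_not_dvd.2 hqd).symm)).dvd_of_dvd_mul_left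
      ((dvd_mul_left d _).trans (hcd ▸ h2))
  have hd0 : d ≠ 0 := fun e => hc0 (by rw [hcd, e, mul_zero])
  have hdle : d ≤ g₀ := Nat.le_of_dvd (by omega) hdg
  -- the character
  obtain ⟨M, hM⟩ := exists_pModular hp.out
  have := hM.2.1
  obtain ⟨⟨χv, D, ρ, hρ, rfl⟩, hne, hB, hx0, hdeg⟩ :=
    exists_char hM hq (G := G) (x := x) (hxo ▸ dvd_rfl)
  set n := Module.finrank ℂ (Fin D → ℂ) with hn
  have hn0 : 0 < n := finrank_pos_of_irreducible ρ
  have hqn : ¬ q ∣ n := hdeg n (Representation.char_one ρ)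
  have hker : MonoidHom.ker ρ = ⊥ := by
    rcases (MonoidHom.normal_ker ρ).eq_bot_or_eq_top with e | e
    · exact e
    · exact absurd (irr_eq_one_of_trivial ρ fun y => MonoidHom.mem_ker.1 (e ▸ Subgroup.mem_top y)) hne
  obtain ⟨m, R, f, hR, hirr, hRx, htr, hinj⟩ := BlichfeldtSixty.exists_diagonal_model ρ x
  have hRinj : Function.Injective R := fun g h e => (MonoidHom.ker_eq_bot_iff ρ).1 hker (hinj g h e)
  have hmn : m = n := by
    have h := htr 1
    rw [map_one, Matrix.trace_one, Fintype.card_fin, Representation.char_one] at h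
    exact_mod_cast h
  -- eigenvalues
  set ζ : ℂ := Complex.exp (2 * Real.pi * Complex.I / p) with hζ
  have hprim : IsPrimitiveRoot ζ p := Complex.isPrimitiveRoot_exp p hp.out.ne_zero
  have hfp : ∀ i, f i ^ p = 1 := fun i => by
    have h : R (x ^ p) = Matrix.diagonal (f ^ p) := by rw [map_pow, hRx, Matrix.diagonal_pow]
    rw [← hxo, pow_orderOf_eq_one, map_one, hxo] at h
    have := congrFun (congrFun h i) i
    rwa [one_apply_eq, Matrix.diagonal_apply_eq, Pi.pow_apply, eq_comm] at this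
  choose e he hef using fun i => hprim.eq_pow_of_pow_eq_one (hfp i)
  let E : Fin m → Fin p := fun i => ⟨e i, he i⟩
  let μ : Fin p → ℤ := fun k => ((Finset.univ.filter fun i => E i = k).card : ℤ)
  have hχx : ρ.character x = ∑ k, (μ k : ℂ) * ζ ^ (k : ℕ) := by
    rw [← htr, hRx, Matrix.trace_diagonal, ← Finset.sum_fiberwise Finset.univ E]
    refine Finset.sum_congr rfl fun k _ => ?_
    rw [Finset.sum_congr rfl (g := fun _ => ζ ^ (k : ℕ)) fun i hi => by
      rw [← hef i, ← (Finset.mem_filter.1 hi).2], Finset.sum_const, nsmul_eq_mul]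
    simp [μ]
  have hμsum : ∑ k, μ k = n := by
    have := Finset.card_eq_sum_card_fiberwise (s := (Finset.univ : Finset (Fin m)))
      (t := Finset.univ) (f := E) (fun i _ => Finset.mem_univ _)
    rw [Finset.card_univ, Fintype.card_fin] at this
    show ∑ k, ((Finset.univ.filter fun i => E i = k).card : ℤ) = n
    rw [← hmn]
    exact_mod_cast this.symm
  -- the algebraic integer `d χ(x) / n`
  have hnC : (n : ℂ) ≠ 0 := by exact_mod_cast hn0.ne'
  set α : ℂ := (d : ℂ) * ρ.character x / n with hα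
  have hω : centralChar ρ.character x = (q : ℂ) ^ j * α := by
    rw [centralChar, Representation.char_one, ← hc, hcd, hα, ← hn]
    push_cast
    ring
  have hαint : IsIntegral ℤ α := by
    have h1 := isIntegral_omega_rep ρ x
    rw [omega, card_isConj, Representation.char_one, ← hc, hcd, ← hn] at h1
    obtain ⟨u, v, huv⟩ := Nat.isCoprime_iff_coprime.mpr
      ((hq.coprime_iff_not_dvd.2 hqn).pow_left j)
    have : α = (u : ℂ) * ((((q ^ j * d : ℕ)) : ℂ) * ρ.character x / n) +
        (v : ℂ) * ((d : ℂ) * ρ.character x) := by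
      have hC : (u : ℂ) * (q : ℂ) ^ j + (v : ℂ) * (n : ℂ) = 1 := by exact_mod_cast huv
      rw [hα]
      push_cast
      field_simp
      linear_combination -hC
    rw [this]
    exact (isIntegral_algebraMap.mul h1).add (isIntegral_algebraMap.mul
      ((isIntegral_algebraMap (R := ℤ) (x := (d : ℤ))).mul (char_pow_eq_sum_isIntegral ρ x)))
  have hαmem : α ∈ Algebra.adjoin ℚ ({ζ} : Set ℂ) := by
    have : α = algebraMap ℚ ℂ ((d : ℚ) / n) * ∑ k, (μ k : ℂ) * ζ ^ (k : ℕ) := by
      rw [hα, hχx, map_div₀, map_natCast, map_natCast]; ring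
    rw [this]
    exact mul_mem (Subalgebra.algebraMap_mem _ _) (sum_mem fun k _ => mul_mem
      (intCast_mem _ (μ k)) (pow_mem (Algebra.self_mem_adjoin_singleton ℚ ζ) _))
  obtain ⟨A₀, hA₀⟩ := CyclotomicCoeff.exists_coeff hprim hαmem hαint
  have hrel : ∀ k l, (d : ℤ) * μ k - n * A₀ k = d * μ l - n * A₀ l := by
    refine CyclotomicCoeff.coeff_const hprim (fun k => (d : ℤ) * μ k - n * A₀ k) ?_
    have h1 : (n : ℂ) * α = d * ρ.character x := by rw [hα]; field_simp
    simp only [Int.cast_sub, Int.cast_mul, Int.cast_natCast, sub_mul, mul_assoc,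
      Finset.sum_sub_distrib, ← Finset.mul_sum, ← hχx, ← hA₀, h1, sub_self]
  -- congruence from the principal block
  have hcong : (p : ℤ) ∣ ∑ k, A₀ k - d := by
    have hζloc : ζ ∈ locRing M :=
      integral_mem M (Block.isIntegral_of_pow_eq_one hp.out.pos hprim.pow_eq_one)
    set zl : locRing M := ⟨ζ, hζloc⟩ with hzl
    have hres : res M zl = 1 := res_rootOfUnity_p hM (n := 1) (Subtype.ext (by
      simp [hzl, hprim.pow_eq_one]))
    set w : locRing M := (q : locRing M) ^ j * ∑ k, (A₀ k : locRing M) * zl ^ (k : ℕ) with hw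
    have hwv : (w : ℂ) = centralChar ρ.character x := by
      rw [hω, hA₀, hw]
      simp [hzl]
    have hsame := hB x
    have h1v : centralChar (oneChar G : G → ℂ) x = ((c : locRing M) : ℂ) := by
      show ((Subgroup.centralizer ({x} : Set G)).index : ℂ) * 1 / 1 = _
      rw [← hc]
      simp
    have hsame' : MemLocalIdeal M (((c : locRing M) : ℂ) - (w : ℂ)) := by
      rw [hwv, ← h1v]
      exact hsame
    rw [memLocalIdeal_sub_iff, hw, map_mul, map_pow, map_sum] at hsame'
    simp only [map_mul, map_pow, hres, one_pow, mul_one, map_intCast, map_natCast] at hsame'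
    have := charP_resField hM
    have hdiff : (((q : ℤ) ^ j * (∑ k, A₀ k - d) : ℤ) : ResField M) = 0 := by
      push_cast
      rw [mul_sub, ← hsame', hcd]
      push_cast
      ring
    rw [CharP.intCast_eq_zero_iff (ResField M) p] at hdiff
    refine Int.dvd_of_dvd_mul_right_of_gcd_one hdiff ?_
    rw [show ((q : ℤ) ^ j) = ((q ^ j : ℕ) : ℤ) by push_cast; rfl, Int.gcd_natCast_natCast]
    exact Nat.Coprime.pow_right j ((Nat.coprime_primes hp.out hq).2 hpq)
  obtain ⟨A, hAcard, hA⟩ := multiplicity_shape hn0 (by omega) μ A₀ (fun k => Int.natCast_nonneg _)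
    hμsum hrel hcong
  have hEA : ∀ i, E i ∈ A := fun i => hA _ (by
    show ((Finset.univ.filter fun i' => E i' = E i).card : ℤ) ≠ 0
    simpa using (Finset.card_ne_zero_of_mem (Finset.mem_filter.2 ⟨Finset.mem_univ i, rfl⟩) :
      (Finset.univ.filter fun i' => E i' = E i).card ≠ 0)) hd0
  have hm0 : 0 < m := hmn ▸ hn0
  set i₀ : Fin m := ⟨0, hm0⟩
  obtain ⟨l, hl0, hlp, hclose⟩ := exists_close hp.out A (hEA i₀)
    (lt_of_le_of_lt (Nat.pow_le_pow_right (by norm_num) (by omega)) hsix) hζ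
  have hxl1 : x ^ l ≠ 1 := pow_ne_one_of_lt_orderOf hl0.ne' (hxo ▸ hlp)
  have hgen : Subgroup.normalClosure ({x ^ l} : Set G) = ⊤ :=
    (Subgroup.normalClosure_normal.eq_bot_or_eq_top).resolve_left fun h => hxl1 (by
      have := Subgroup.subset_normalClosure (s := ({x ^ l} : Set G)) rfl
      rwa [SetLike.mem_coe, h, Subgroup.mem_bot] at this)
  have hscal := BlichfeldtSixty.scalar_of_sixty R hR hirr hgen (f ^ l)
    (by rw [map_pow, hRx, Matrix.diagonal_pow]) i₀ fun i => by
      have := hclose _ (hEA i)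
      simpa [E, Pi.pow_apply, hef] using this
  refine hnab fun u v => ?_
  have hcentral : x ^ l ∈ Subgroup.center G := Subgroup.mem_center_iff.2 fun g => hRinj (by
    have hscalar : R (x ^ l) = ((f ^ l) i₀) • 1 := by
      rw [map_pow, hRx, Matrix.diagonal_pow, Matrix.smul_one_eq_diagonal]
      exact congrArg _ (funext fun i => hscal i)
    rw [map_mul, map_mul, hscalar, smul_one_mul, mul_smul_one])
  have htop : Subgroup.center G = ⊤ :=
    ((Subgroup.center G).normal_of_characteristic.eq_bot_or_eq_top).resolve_left fun h =>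
      hxl1 (by rwa [h, Subgroup.mem_bot] at hcentral)
  exact (Subgroup.mem_center_iff.1 (htop ▸ Subgroup.mem_top v) u)

end CfsgLib.Char.PrimeBoundSimple
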