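import Cfsg.Agent.Lib.Char.Degree
import Cfsg.Agent.Lib.Char.Linear
import Cfsg.Agent.Lib.Char.Integrality

/-!
# Faithful irreducible characters of prime codegree
-/

set_option autoImplicit false
set_option linter.unusedSectionVars false
set_option linter.style.haveILetI false

namespace CfsgLib.Char.PrimeCodegree

open Cfsg

universe u

variable {G : Type u} [Group G] [Finite G]

/-- A faithful character of prime codegree `p`: the group is of order `p`, or it has a normal
subgroup of order `p` that contains every centralizer of its nontrivial elements. -/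
theorem structure_of_faithful (χ : IrrCharacter G)
    (hfaith : ∀ g : G, (χ : G → ℂ) g = (χ : G → ℂ) 1 → g = 1) {p d : ℕ} (hp : p.Prime)
    (hd : (χ : G → ℂ) 1 = d) (hcard : Nat.card G = p * d) :
    (IsCyclic G ∧ Nat.card G = p) ∨
      ∃ P : Subgroup G, P.Normal ∧ Nat.card P = p ∧ P ≠ ⊤ ∧ (Nat.card P).Coprime P.index ∧
        ∀ x ∈ P, x ≠ 1 → ∀ g : G, g * x = x * g → g ∈ P := by
  haveI := Fact.mk hp
  classical
  by_cases hd1 : d = 1
  · left
    rw [hd1, mul_one] at hcard
    exact ⟨isCyclic_of_prime_card hcard, hcard⟩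
  right
  have := Fintype.ofFinite (IrrCharacter G)
  have hd0 : 0 < d := Nat.pos_of_ne_zero fun h => by
    rw [h, mul_zero] at hcard; exact Nat.card_pos.ne' hcard
  have hdp : d < p := by
    obtain ⟨deg, hdeg⟩ : ∃ deg : IrrCharacter G → ℕ,
        ∀ ψ : IrrCharacter G, (ψ : G → ℂ) 1 = deg ψ :=
      ⟨fun ψ => (isIrrCharacter_degree ψ.2).choose,
        fun ψ => (isIrrCharacter_degree ψ.2).choose_spec.2⟩
    have hs := sum_degree_sq (G := G)
    simp only [hdeg] at hs
    have hs' : ∑ ψ : IrrCharacter G, deg ψ ^ 2 = Nat.card G := by exact_mod_cast hs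
    let triv : IrrCharacter G := ⟨fun _ => 1, isIrrCharacter_one⟩
    have hne : χ ≠ triv := fun e => hd1 (by
      have : (χ : G → ℂ) 1 = 1 := by rw [e]
      rw [hd] at this
      exact_mod_cast this)
    have h1 : deg χ = d := Nat.cast_injective (R := ℂ) (by rw [← hdeg, hd])
    have h2 : deg triv = 1 := Nat.cast_injective (R := ℂ) (by rw [← hdeg]; simp [triv])
    have hle : deg χ ^ 2 + deg triv ^ 2 ≤ ∑ ψ : IrrCharacter G, deg ψ ^ 2 := by
      rw [← Finset.sum_pair hne (f := fun ψ => deg ψ ^ 2)]
      exact Finset.sum_le_sum_of_subset (Finset.subset_univ _)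
    rw [hs', hcard, h1, h2] at hle
    nlinarith
  have habel : ∀ A : Subgroup G, (∀ a ∈ A, ∀ b ∈ A, a * b = b * a) → Nat.card A ≤ p := by
    intro A hA
    have h := degree_le_index χ.2 A hA hd
    have h2 : Nat.card A * d ≤ p * d :=
      (Nat.mul_le_mul_left _ h).trans (by rw [A.card_mul_index, hcard])
    exact Nat.le_of_mul_le_mul_right h2 hd0
  obtain ⟨P⟩ : Nonempty (Sylow p G) := inferInstance
  have hPcard : Nat.card (P : Subgroup G) = p := by
    rw [P.card_eq_multiplicity, hcard, Nat.factorization_mul hp.ne_zero hd0.ne', Finsupp.add_apply,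
      hp.factorization_self,
      Nat.factorization_eq_zero_of_not_dvd fun h => absurd (Nat.le_of_dvd hd0 h) (by omega),
      add_zero, pow_one]
  have hPidx : (P : Subgroup G).index = d := by
    have h := (P : Subgroup G).card_mul_index
    rw [hPcard, hcard] at h
    exact Nat.eq_of_mul_eq_mul_left hp.pos h
  have hPn : (P : Subgroup G).Normal := by
    have h1 : Nat.card (Sylow p G) ≡ 1 [MOD p] := card_sylow_modEq_one p G
    have h2 : Nat.card (Sylow p G) ∣ d := hPidx ▸ P.card_dvd_index
    have h3 : Nat.card (Sylow p G) = 1 := by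
      have := Nat.le_of_dvd hd0 h2
      rw [Nat.ModEq, Nat.mod_eq_of_lt (by omega), Nat.mod_eq_of_lt hp.one_lt] at h1
      exact h1
    haveI : Subsingleton (Sylow p G) := (Nat.card_eq_one_iff_unique.mp h3).1
    exact P.normal_of_subsingleton
  refine ⟨P, hPn, hPcard, fun e => hd1 ?_, ?_, fun x hx hx1 g hgx => ?_⟩
  · rw [← hPidx, e, Subgroup.index_top]
  · rw [hPcard, hPidx]
    exact hp.coprime_iff_not_dvd.mpr fun h => absurd (Nat.le_of_dvd hd0 h) (by omega)
  · set A := Subgroup.closure ({g, x} : Set G) with hA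
    have hAab : ∀ a ∈ A, ∀ b ∈ A, a * b = b * a := by
      haveI := Subgroup.isMulCommutative_closure (k := ({g, x} : Set G)) (by
        rintro a (rfl | rfl) b (rfl | rfl)
        · rfl
        · exact hgx
        · exact hgx.symm
        · rfl)
      exact fun a ha b hb => congrArg Subtype.val
        ((IsMulCommutative.is_comm (M := A)).comm ⟨a, ha⟩ ⟨b, hb⟩)
    have hzx : Subgroup.zpowers x = (P : Subgroup G) := by
      refine Subgroup.eq_of_le_of_card_ge (Subgroup.zpowers_le.mpr hx) ?_
      rw [Nat.card_zpowers, hPcard]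
      have : orderOf x ∣ p := by
        have h := Subgroup.card_dvd_of_le (Subgroup.zpowers_le.mpr hx)
        rwa [Nat.card_zpowers, hPcard] at h
      exact ((hp.eq_one_or_self_of_dvd _ this).resolve_left fun e =>
        hx1 (orderOf_eq_one_iff.mp e)).ge
    have hPA : (P : Subgroup G) ≤ A := by
      rw [← hzx]
      exact Subgroup.zpowers_le.mpr (Subgroup.subset_closure (by simp))
    have hAeq := Subgroup.eq_of_le_of_card_ge hPA (by rw [hPcard]; exact habel A hAab)
    rw [hAeq]
    exact Subgroup.subset_closure (by simp)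

/-- In that situation the derived subgroup lies in the normal subgroup of order `p`. -/
theorem commutator_le {p : ℕ} (hp : p.Prime) {P : Subgroup G} (hPn : P.Normal)
    (hPcard : Nat.card P = p) (hcent : ∀ x ∈ P, x ≠ 1 → ∀ g : G, g * x = x * g → g ∈ P) :
    commutator G ≤ P := by
  haveI := Fact.mk hp
  haveI : Nontrivial P := Finite.one_lt_card_iff_nontrivial.mp (hPcard ▸ hp.one_lt)
  obtain ⟨x, hx⟩ := exists_ne (1 : P)
  have hgen : ∀ y : P, ∃ i : ℤ, x ^ i = y := fun y =>
    Subgroup.mem_zpowers_iff.mp (mem_zpowers_of_prime_card hPcard hx)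
  rw [commutator_def, Subgroup.commutator_le]
  intro a _ b _
  refine hcent x x.2 (fun e => hx (Subtype.ext e)) _ ?_
  let α : MulAut P := MulAut.conjNormal a
  let β : MulAut P := MulAut.conjNormal b
  obtain ⟨i, hi⟩ := hgen (α x)
  obtain ⟨j, hj⟩ := hgen (β x)
  have hcomm : α * β = β * α := by
    refine MulEquiv.ext fun y => ?_
    obtain ⟨k, rfl⟩ := hgen y
    show α (β (x ^ k)) = β (α (x ^ k))
    simp only [map_zpow, ← hi, ← hj, ← zpow_mul]
    ring_nf
  have h := MulEquiv.congr_fun (show MulAut.conjNormal (a * b * a⁻¹ * b⁻¹) = (1 : MulAut P) by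
    rw [map_mul, map_mul, map_mul, map_inv, map_inv]
    show α * β * α⁻¹ * β⁻¹ = 1
    rw [hcomm]; group) x
  have h' := congrArg Subtype.val h
  rw [MulAut.conjNormal_apply] at h'
  simp only [MulAut.one_apply] at h'
  rw [commutatorElement_def]
  exact mul_inv_eq_iff_eq_mul.mp h'

end CfsgLib.Char.PrimeCodegree
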