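import Cfsg.Agent.Lib.Block.CyclicDefect.Bridge
import Cfsg.Agent.Lib.Block.PrincipalPairs
import Cfsg.Agent.Lib.Block.FirstMain
import Cfsg.Agent.Lib.Block.Induced
import Cfsg.Agent.Lib.Char.Linear
import Cfsg.Agent.Lib.Char.Inertia
import Cfsg.Agent.Lib.Char.InvariantAbove
import Cfsg.Agent.Lib.Char.ExtendChar
import Cfsg.Agent.Lib.Char.SteinbergDescend
import Cfsg.Agent.Lib.Coprime.MinimalNonNilpotent
import Cfsg.Agent.S4696

/-!
# Groups whose non-linear character degrees are primes

Such a group is soluble: in a simple one the largest degree `p` has Sylow subgroup of order `p` and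
the principal `p`-block leaves no room for the other degrees.  A soluble one has at most two primes as
degrees.
-/

open scoped ComplexConjugate

set_option autoImplicit false
set_option linter.unusedSectionVars false

namespace CfsgLib.Char.PrimeDegrees

open Cfsg CfsgLib CfsgLib.Char CfsgLib.Block Representation Module

universe u

/-- The non-linear degrees are primes. -/
def PrimeDeg (G : Type u) [Group G] : Prop :=
  ∀ χ : IrrCharacter G, charDegree (χ : G → ℂ) ≠ 1 → (charDegree (χ : G → ℂ)).Prime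

variable {G : Type u} [Group G] [Finite G]

theorem charDegree_of_eq {f : G → ℂ} {d : ℕ} (h : f 1 = (d : ℂ)) : charDegree f = d := by
  simp [charDegree, h]

theorem primeDeg_quotient (h : PrimeDeg G) (N : Subgroup G) [N.Normal] : PrimeDeg (G ⧸ N) := by
  intro θ hθ
  have := h ⟨_, isIrrCharacter_comp_surjective θ.2 (QuotientGroup.mk' N) (QuotientGroup.mk'_surjective N)⟩
  have e : charDegree (fun x : G => (θ : G ⧸ N → ℂ) (QuotientGroup.mk' N x)) =
      charDegree (θ : G ⧸ N → ℂ) := by simp [charDegree]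
  rw [e] at this
  exact this hθ

/-- A character of a normal subgroup lies below one of the group, with the divisibility. -/
theorem exists_above (N : Subgroup G) [N.Normal] [Fintype G] [Fintype N] (θ : IrrCharacter N) :
    ∃ χ : IrrCharacter G, classInner (fun n : N => (χ : G → ℂ) n) (θ : N → ℂ) ≠ 0 ∧
      ∃ e : ℕ, charDegree (χ : G → ℂ) =
        e * (inertia N (θ : N → ℂ)).index * charDegree (θ : N → ℂ) := by
  obtain ⟨χ, hχ⟩ := exists_irr_inner_ne_zero (isCharacter_indFun N (isCharacter_of_isIrr θ.2))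
    (fun h => by
      have h1 := congrFun h 1
      rw [indFun_one, Pi.zero_apply, mul_eq_zero, Nat.cast_eq_zero] at h1
      exact h1.elim Subgroup.index_ne_zero_of_finite (irr_one_ne_zero θ))
  rw [classInner_indFun _ _ _ (isClassFunction_irr χ)] at hχ
  have hχ' : classInner (fun n : N => (χ : G → ℂ) n) (θ : N → ℂ) ≠ 0 := fun h => hχ (by
    rw [← classInner_conj, h, map_zero])
  obtain ⟨e, he⟩ := classInner_isCharacter (isCharacter_comp (isCharacter_irr χ) N.subtype)
    (isCharacter_of_isIrr θ.2)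
  have h := clifford_degree N χ.2 θ.2 hχ'
  rw [(charDegree_eq χ).1, (charDegree_eq θ).1,
    show classInner (fun n : N => (χ : G → ℂ) n) (θ : N → ℂ) = e from he] at h
  exact ⟨χ, hχ', e, by exact_mod_cast h⟩

theorem primeDeg_normal (h : PrimeDeg G) (N : Subgroup G) [N.Normal] : PrimeDeg N := by
  classical
  letI := Fintype.ofFinite G
  letI := Fintype.ofFinite N
  intro θ hθ
  obtain ⟨χ, -, e, he⟩ := exists_above N θ
  have hd : charDegree (θ : N → ℂ) ∣ charDegree (χ : G → ℂ) := Dvd.intro_left _ he.symm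
  have h1 : charDegree (χ : G → ℂ) ≠ 1 := fun h1 => hθ (Nat.dvd_one.1 (h1 ▸ hd))
  rcases (Nat.dvd_prime (h χ h1)).1 hd with h2 | h2
  · exact absurd h2 hθ
  · exact h2 ▸ h χ h1

section simple

variable [IsSimpleGroup G]

theorem linear_eq_one (hperf : commutator G = ⊤) {χ : IrrCharacter G}
    (h : charDegree (χ : G → ℂ) = 1) : (χ : G → ℂ) = fun _ => 1 := by
  have h1 : (χ : G → ℂ) 1 = 1 := by rw [(charDegree_eq χ).1, h, Nat.cast_one]
  obtain ⟨f, hf⟩ := exists_hom_of_linear (isCharacter_irr χ) h1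
  have hker : commutator G ≤ f.ker := Abelianization.commutator_subset_ker f
  rw [hperf, top_le_iff] at hker
  funext g
  have hg : g ∈ f.ker := hker ▸ Subgroup.mem_top g
  rw [hf]
  show ((f g : ℂˣ) : ℂ) = 1
  rw [MonoidHom.mem_ker.1 hg, Units.val_one]

theorem scalar_eq_one (hna : ¬ ∀ a b : G, a * b = b * a) {n : ℕ}
    (ρ : Representation ℂ G (Fin n → ℂ)) (hρ : ρ.IsIrreducible) (hn : 2 ≤ n) {x : G} {ω : ℂ}
    (h : ρ x = ω • (LinearMap.id : (Fin n → ℂ) →ₗ[ℂ] (Fin n → ℂ))) : x = 1 := by
  classical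
  letI := Fintype.ofFinite G
  let f : G →* (Module.End ℂ (Fin n → ℂ))ˣ := ρ.toHomUnits
  have hker : f.ker = ⊥ := by
    refine (Subgroup.Normal.eq_bot_or_eq_top inferInstance).resolve_right fun htop => ?_
    have h1 : ∀ g : G, ρ g = 1 := fun g => by
      have hg : g ∈ f.ker := htop ▸ Subgroup.mem_top g
      exact congrArg Units.val (MonoidHom.mem_ker.1 hg)
    have : ρ.character = fun _ => (n : ℂ) := funext fun g => by
      rw [Representation.character, h1, Module.End.one_eq_id, LinearMap.trace_id,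
        Module.finrank_fin_fun]
    have hirr : IsIrrCharacter G ρ.character := ⟨n, ρ, hρ, rfl⟩
    have h2 := classInner_irr_self (G := G) ⟨_, hirr⟩
    simp only [this, classInner, map_natCast, Finset.sum_const, Finset.card_univ, nsmul_eq_mul] at h2
    rw [Nat.card_eq_fintype_card, ← mul_assoc, inv_mul_cancel₀ (Nat.cast_ne_zero.2 Fintype.card_ne_zero),
      one_mul, ← Nat.cast_mul] at h2
    have h3 : n * n = 1 := by exact_mod_cast h2
    nlinarith
  have hcent : x ∈ Subgroup.center G := by
    rw [Subgroup.mem_center_iff]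
    intro g
    apply (MonoidHom.ker_eq_bot_iff f).1 hker
    ext1
    show ρ (g * x) = ρ (x * g)
    rw [map_mul, map_mul, h, ← Module.End.one_eq_id]
    simp
  have hc : Subgroup.center G = ⊥ :=
    (Subgroup.Normal.eq_bot_or_eq_top inferInstance).resolve_right fun htop =>
      hna fun a b => (Subgroup.mem_center_iff.1 (htop ▸ Subgroup.mem_top b : b ∈ Subgroup.center G) a)
  exact Subgroup.mem_bot.1 (hc ▸ hcent)

/-- No irreducible character of degree two. -/
theorem degree_ne_two (hperf : commutator G = ⊤) (hna : ¬ ∀ a b : G, a * b = b * a)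
    (χ : IrrCharacter G) : charDegree (χ : G → ℂ) ≠ 2 := by
  intro h2
  classical
  letI := Fintype.ofFinite G
  haveI := Fintype.ofFinite (IrrCharacter G)
  haveI : Fact (Nat.Prime 2) := ⟨Nat.prime_two⟩
  obtain ⟨t, ht⟩ := exists_prime_orderOf_dvd_card' (G := G) 2 (h2 ▸ charDegree_dvd χ)
  obtain ⟨n, ρ, hρ, hχ⟩ := χ.2
  obtain rfl : n = 2 := by
    have h1 : (χ : G → ℂ) 1 = (n : ℂ) := by rw [← hχ, Representation.char_one, Module.finrank_fin_fun]
    rw [← h2, charDegree_of_eq h1]
  have hdet : LinearMap.det (ρ t) = 1 := by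
    have hker : commutator G ≤ (detHom ρ).ker := Abelianization.commutator_subset_ker _
    have ht' : t ∈ (detHom ρ).ker := hker (hperf ▸ Subgroup.mem_top t)
    rw [← detHom_coe, MonoidHom.mem_ker.1 ht', Units.val_one]
  set A := LinearMap.toMatrix' (ρ t) with hA
  have hA2 : A * A = 1 := by
    rw [hA, ← LinearMap.toMatrix'_mul, ← map_mul, show t * t = 1 by rw [← pow_two, ← ht, pow_orderOf_eq_one],
      map_one, LinearMap.toMatrix'_one]
  have hd : A.det = 1 := by rw [hA, LinearMap.det_toMatrix', hdet]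
  rw [Matrix.det_fin_two] at hd
  have e00 := congrFun (congrFun hA2 0) 0
  have e01 := congrFun (congrFun hA2 0) 1
  have e10 := congrFun (congrFun hA2 1) 0
  have e11 := congrFun (congrFun hA2 1) 1
  simp [Matrix.mul_apply, Fin.sum_univ_two] at e00 e01 e10 e11
  have htr : A 0 0 + A 1 1 ≠ 0 := fun h0 => by
    have : (2 : ℂ) = 0 := by linear_combination -hd - e00 + (A 0 0) * h0
    norm_num at this
  have h01 : A 0 1 = 0 := mul_left_cancel₀ htr (by linear_combination e01)
  have h10 : A 1 0 = 0 := mul_left_cancel₀ htr (by linear_combination e10)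
  have h11 : A 1 1 = A 0 0 := by
    have hsub : (A 0 0 + A 1 1) * (A 1 1 - A 0 0) = 0 := by linear_combination e11 - e00
    exact sub_eq_zero.1 ((mul_eq_zero.1 hsub).resolve_left htr)
  have hsc : ρ t = A 0 0 • (LinearMap.id : (Fin 2 → ℂ) →ₗ[ℂ] (Fin 2 → ℂ)) := by
    apply LinearMap.toMatrix'.injective
    rw [map_smul, LinearMap.toMatrix'_id, ← hA]
    ext i j
    fin_cases i <;> fin_cases j <;> simp [h01, h10, h11]
  have := scalar_eq_one hna ρ hρ le_rfl hsc
  rw [this, orderOf_one] at ht
  omega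

/-- The largest degree is the order of its Sylow subgroup. -/
theorem card_sylow (hperf : commutator G = ⊤) (hna : ¬ ∀ a b : G, a * b = b * a) {p : ℕ}
    [hp : Fact p.Prime] (χ : IrrCharacter G) (hd : charDegree (χ : G → ℂ) = p) (P : Sylow p G) :
    Nat.card P = p := by
  classical
  letI := Fintype.ofFinite G
  haveI := Fintype.ofFinite (IrrCharacter G)
  letI := Fintype.ofFinite (P : Subgroup G)
  obtain ⟨n, ρ, hρ, hχ⟩ := χ.2
  have hρ' := hρ
  have hn : p = n := by
    have h1 : (χ : G → ℂ) 1 = (n : ℂ) := by rw [← hχ, Representation.char_one, Module.finrank_fin_fun]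
    rw [← hd, charDegree_of_eq h1]
  subst hn
  have h2 : 2 ≤ p := hp.out.two_le
  let res : ↥(P : Subgroup G) → ℂ := fun a => (χ : G → ℂ) a
  have hres : IsCharacter (P : Subgroup G) res := isCharacter_comp (isCharacter_irr χ) (P : Subgroup G).subtype
  have hfaith : ∀ g : G, (χ : G → ℂ) g = (p : ℂ) → g = 1 := fun g hg => by
    refine scalar_eq_one hna ρ hρ' h2 (ω := 1) ?_
    rw [one_smul, ← char_eq_degree_iff ρ g, Module.finrank_fin_fun]
    rw [show ρ.character g = (χ : G → ℂ) g from congrFun hχ g]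
    exact hg
  have hab : ∀ a ∈ (P : Subgroup G), ∀ b ∈ (P : Subgroup G), a * b = b * a := by
    haveI := Fintype.ofFinite (IrrCharacter (P : Subgroup G))
    by_cases hbig : ∃ θ : IrrCharacter (P : Subgroup G),
        classInner res (θ : ↥(P : Subgroup G) → ℂ) ≠ 0 ∧ charDegree (θ : ↥(P : Subgroup G) → ℂ) ≠ 1
    · obtain ⟨θ, hθ, hθ1⟩ := hbig
      have hb := degree_le_of_constituent hres θ hθ (a := p)
        (b := charDegree (θ : ↥(P : Subgroup G) → ℂ))
        (by show (χ : G → ℂ) ((1 : (P : Subgroup G)) : G) = _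
            rw [OneMemClass.coe_one, (charDegree_eq χ).1, hd]) (charDegree_eq θ).1
      obtain ⟨j, hj⟩ := IsPGroup.iff_card.1 P.isPGroup'
      obtain ⟨i, -, hi⟩ := (Nat.dvd_prime_pow hp.out).1 (hj ▸ charDegree_dvd θ)
      rcases i with _ | i
      · exact absurd (by rw [hi, pow_zero]) hθ1
      · have hle : p ≤ charDegree (θ : ↥(P : Subgroup G) → ℂ) := by
          rw [hi]; exact Nat.le_self_pow (Nat.succ_ne_zero i) p
        have heq := hb.2 (le_antisymm hle hb.1)
        -- the centre of `P` is scalar, hence trivial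
        obtain ⟨z, hz, hz1⟩ : ∃ z : (P : Subgroup G), z ∈ Subgroup.center (P : Subgroup G) ∧ z ≠ 1 := by
          haveI : Nontrivial (P : Subgroup G) := by
            rw [← Finite.one_lt_card_iff_nontrivial]
            refine lt_of_lt_of_le hp.out.one_lt (Nat.le_of_dvd Nat.card_pos ?_)
            exact P.dvd_card_of_dvd_card (hd ▸ charDegree_dvd χ)
          have := P.isPGroup'.center_nontrivial
          obtain ⟨⟨z, hz⟩, hz1⟩ := exists_ne (1 : Subgroup.center (P : Subgroup G))
          exact ⟨z, hz, fun h => hz1 (Subtype.ext h)⟩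
        exfalso
        obtain ⟨l, hl, hlt⟩ := Block.exists_central_scalar θ (z := z)
          (fun t => (Subgroup.mem_center_iff.1 hz t).symm) (pow_card_eq_one' (x := z))
        have hlt' := hlt 1
        have hn1 : ‖ρ.character (z : G)‖ = (finrank ℂ (Fin p → ℂ) : ℝ) := by
          rw [Module.finrank_fin_fun, show ρ.character (z : G) = res z from congrFun hχ (z : G), heq]
          rw [mul_one] at hlt'
          rw [hlt', norm_mul, Complex.norm_eq_one_of_pow_eq_one hl Nat.card_pos.ne', one_mul,
            ← heq]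
          show ‖(χ : G → ℂ) ((1 : (P : Subgroup G)) : G)‖ = _
          rw [OneMemClass.coe_one, (charDegree_eq χ).1, hd]
          simp
        obtain ⟨ω, hω⟩ := (norm_char_eq_iff ρ _).1 hn1
        exact hz1 (Subtype.ext (scalar_eq_one hna ρ hρ' h2 hω))
    · push Not at hbig
      intro a ha b hb
      let a' : (P : Subgroup G) := ⟨a, ha⟩
      let b' : (P : Subgroup G) := ⟨b, hb⟩
      have hexp := classFun_expand (isClassFunction_of_isCharacter hres)
      have hval : res (a' * b' * a'⁻¹ * b'⁻¹) = res 1 := by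
        rw [hexp]
        simp only [Finset.sum_apply, Pi.smul_apply, smul_eq_mul]
        refine Finset.sum_congr rfl fun θ _ => ?_
        by_cases h0 : classInner res (θ : ↥(P : Subgroup G) → ℂ) = 0
        · simp [h0]
        · have h1 : (θ : ↥(P : Subgroup G) → ℂ) 1 = 1 := by
            rw [(charDegree_eq θ).1, hbig θ h0, Nat.cast_one]
          obtain ⟨f, hf⟩ := exists_hom_of_linear (isCharacter_irr θ) h1
          rw [hf]
          simp only [map_mul, map_inv]
          congr 1
          rw [mul_comm (f a') (f b'), mul_inv_cancel_right, mul_inv_cancel, map_one]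
      have hc : a * b * a⁻¹ * b⁻¹ = 1 := hfaith _ (by
        have h3 : (χ : G → ℂ) (a * b * a⁻¹ * b⁻¹) = res 1 := hval
        rw [h3]
        show (χ : G → ℂ) ((1 : (P : Subgroup G)) : G) = _
        rw [OneMemClass.coe_one, (charDegree_eq χ).1, hd])
      calc a * b = a * b * a⁻¹ * b⁻¹ * (b * a) := by group
        _ = b * a := by rw [hc, one_mul]
  have hvan : ∀ x : (P : Subgroup G), x ≠ 1 → res x = 0 := by
    intro x hx
    have hcop : Nat.Coprime (finrank ℂ (Fin p → ℂ)) (Subgroup.centralizer ({(x : G)} : Set G)).index := by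
      rw [Module.finrank_fin_fun, hp.out.coprime_iff_not_dvd]
      intro hdvd
      refine P.not_dvd_index (hdvd.trans (Subgroup.index_dvd_of_le ?_))
      intro y hy
      rw [Subgroup.mem_centralizer_singleton_iff]
      exact hab y hy x x.2
    haveI := hρ'
    rcases char_zero_or_norm_eq_degree ρ (x : G) hcop with h | h
    · exact (congrFun hχ (x : G)).symm.trans h
    · obtain ⟨ω, hω⟩ := (norm_char_eq_iff ρ _).1 h
      exact absurd (Subtype.ext (scalar_eq_one hna ρ hρ' h2 hω)) hx
  obtain ⟨m, hm⟩ := classInner_char_irr_nat hres ⟨_, isIrrCharacter_one⟩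
  rw [classInner, Finset.sum_eq_single (1 : (P : Subgroup G))] at hm
  · have h1 : res 1 = (p : ℂ) := by
      show (χ : G → ℂ) ((1 : (P : Subgroup G)) : G) = _
      rw [OneMemClass.coe_one, (charDegree_eq χ).1, hd]
    simp only [map_one, mul_one, h1] at hm
    have hc0 : (Nat.card (P : Subgroup G) : ℂ) ≠ 0 := Nat.cast_ne_zero.2 Nat.card_pos.ne'
    field_simp at hm
    have hm' : p = Nat.card (P : Subgroup G) * m := by exact_mod_cast hm
    rcases (Nat.dvd_prime hp.out).1 (Dvd.intro _ hm'.symm) with h | h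
    · exfalso
      have := P.dvd_card_of_dvd_card (hd ▸ charDegree_dvd χ)
      rw [h] at this
      exact hp.out.not_dvd_one this
    · exact h
  · intro x _ hx
    simp [hvan x hx]
  · simp

theorem false_of_simple (hna : ¬ ∀ a b : G, a * b = b * a) (h : PrimeDeg G) : False := by
  classical
  letI := Fintype.ofFinite G
  haveI := Fintype.ofFinite (IrrCharacter G)
  haveI := Fintype.ofFinite (ConjClasses G)
  have hperf : commutator G = ⊤ :=
    (Subgroup.Normal.eq_bot_or_eq_top inferInstance).resolve_left fun hbot => hna fun a b => by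
      have : a * b * a⁻¹ * b⁻¹ ∈ commutator G := Subgroup.commutator_mem_commutator (Subgroup.mem_top a) (Subgroup.mem_top b)
      rw [hbot, Subgroup.mem_bot] at this
      calc a * b = a * b * a⁻¹ * b⁻¹ * (b * a) := by group
        _ = b * a := by rw [this, one_mul]
  set D := (Finset.univ.image fun χ : IrrCharacter G => charDegree (χ : G → ℂ)).filter (· ≠ 1) with hD
  have hDne : D.Nonempty := by
    obtain ⟨χ, hχ⟩ : ∃ χ : IrrCharacter G, charDegree (χ : G → ℂ) ≠ 1 := by
      by_contra hall
      push Not at hall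
      exact hna fun a b => comm_of_degree_one (fun χ => by rw [(charDegree_eq χ).1, hall χ, Nat.cast_one]) a b
    exact ⟨_, Finset.mem_filter.2 ⟨Finset.mem_image.2 ⟨χ, Finset.mem_univ _, rfl⟩, hχ⟩⟩
  set p := D.max' hDne with hpdef
  obtain ⟨χp, -, hχp⟩ := Finset.mem_image.1 (Finset.mem_filter.1 (D.max'_mem hDne)).1
  have hp1 : p ≠ 1 := (Finset.mem_filter.1 (D.max'_mem hDne)).2
  rw [← hpdef] at hχp
  have hpp : p.Prime := hχp ▸ h χp (by rw [hχp]; exact hp1)
  haveI : Fact p.Prime := ⟨hpp⟩
  have hmax : ∀ χ : IrrCharacter G, charDegree (χ : G → ℂ) ≤ p := fun χ => by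
    by_cases h1 : charDegree (χ : G → ℂ) = 1
    · rw [h1]; exact hpp.one_lt.le
    · exact D.le_max' _ (Finset.mem_filter.2 ⟨Finset.mem_image.2 ⟨χ, Finset.mem_univ _, rfl⟩, h1⟩)
  let P : Sylow p G := default
  have hPc : Nat.card P = p := card_sylow hperf hna χp hχp P
  obtain ⟨M, hM⟩ := exists_pModular hpp
  haveI := hM.2.1
  set C := Subgroup.centralizer ((P : Subgroup G) : Set G) with hC
  haveI : IsCyclic (P : Subgroup G) := isCyclic_of_prime_card hPc
  have hPC : (P : Subgroup G) ≤ C := fun a ha => Subgroup.mem_centralizer_iff.2 fun b hb => by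
    letI : CommGroup (P : Subgroup G) := IsCyclic.commGroup
    exact congrArg Subtype.val (mul_comm (⟨b, hb⟩ : (P : Subgroup G)) ⟨a, ha⟩)
  letI := Fintype.ofFinite C
  obtain ⟨B, hB⟩ := exists_inducedBlock (H := C) P.isPGroup' le_rfl
    (centralizer_le_normalizer' _) hM hPC (isPBlock_principalBlock (M := M) (G := C))
  obtain rfl : B = principalBlock M G := (isInducedBlock_principal_iff hM hB).2 rfl
  set N := Subgroup.normalizer ((P : Subgroup G) : Set G) with hN
  obtain ⟨hediv, hheight, X, Y, hXY, hdis, hXc, hYc, hYreg, δ, δ₀, hδ, hδ₀, -, hcX, hcY⟩ :=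
    Cfsg.Agent.S4696.result p M hM (P : Subgroup G) inferInstance 1 le_rfl (by rw [pow_one]; exact hPc)
      (principalBlock M G) isPBlock_principalBlock ((isDefectGroup_principal_iff hM _).2 ⟨P, rfl⟩)
      (principalBlock M C) hB N (fun g => by
        refine ⟨fun hg => ⟨hg, ?_⟩, fun hg => hg.1⟩
        exact (CyclicDefect.stabilizesBlock_of_forall_iff hg).2
          (stabilizesBlock_principal hM P.isPGroup' hg)) _ rfl
  set e := C.relIndex N with he
  have h1X : oneChar G ∈ X ∪ Y := hXY ▸ one_mem_principalBlock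
  have hone : (charDegree ((oneChar G : IrrCharacter G) : G → ℂ) : ℤ) = 1 := by
    simp [charDegree, oneChar]
  have hlin : ∀ χ : IrrCharacter G, χ ≠ oneChar G → charDegree (χ : G → ℂ) ≠ 1 := fun χ hne h1 =>
    hne (Subtype.ext (linear_eq_one hperf h1))
  -- no member may be congruent to a unit
  have key : ∀ χ ∈ principalBlock M G, χ ≠ oneChar G → ∀ s : ℤ, (s = 1 ∨ s = -1) →
      (charDegree (χ : G → ℂ) : ℤ) ≡ s [ZMOD (p : ℤ) ^ 1] → False := by
    intro χ hχB hne s hs hcong
    rw [pow_one] at hcong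
    have hd1 := hlin χ hne
    have hdp : (charDegree (χ : G → ℂ)).Prime := h χ hd1
    have hnp : charDegree (χ : G → ℂ) ≠ p := by
      intro hdp'
      have h0 := hheight χ hχB
      have hm : minDeg p (principalBlock M G) ≤ degVal p (oneChar G) :=
        minDeg_le one_mem_principalBlock
      have h1 : degVal p (oneChar G) = 0 := by simp [degVal, charDegree, oneChar]
      rw [blockHeight_eq, degVal, hdp', hpp.factorization_self] at h0
      omega
    have hlt : charDegree (χ : G → ℂ) < p := lt_of_le_of_ne (hmax χ) hnp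
    have h2 := degree_ne_two hperf hna χ
    have hodd := hdp.eq_two_or_odd.resolve_left h2
    rcases hs with rfl | rfl
    · have hdvd : (p : ℤ) ∣ (charDegree (χ : G → ℂ) : ℤ) - 1 := Int.ModEq.dvd hcong.symm
      have hpos : (0 : ℤ) < (charDegree (χ : G → ℂ) : ℤ) - 1 := by have := hdp.two_le; omega
      have := Int.le_of_dvd hpos hdvd
      omega
    · have hdvd : (p : ℤ) ∣ (charDegree (χ : G → ℂ) : ℤ) - (-1) := Int.ModEq.dvd hcong.symm
      have hpos : (0 : ℤ) < (charDegree (χ : G → ℂ) : ℤ) - (-1) := by omega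
      have := Int.le_of_dvd hpos hdvd
      have hp2 : p = charDegree (χ : G → ℂ) + 1 := by omega
      rcases hpp.eq_two_or_odd with h2' | h2' <;> omega
  have sq : ∀ s : ℤ, (s = 1 ∨ s = -1) → s * s = 1 := by rintro s (rfl | rfl) <;> rfl
  have mulsign : ∀ s t : ℤ, (s = 1 ∨ s = -1) → (t = 1 ∨ t = -1) → (s * t = 1 ∨ s * t = -1) := by
    rintro s t (rfl | rfl) (rfl | rfl) <;> simp
  rcases h1X with h1 | h1
  · -- the trivial character is not exceptional
    rcases subsingleton_or_nontrivial X with hs | hnt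
    · have he1 : e = 1 := by
        rw [← hXc]
        haveI : Nonempty X := ⟨⟨_, h1⟩⟩
        exact Nat.card_eq_one_iff_unique.2 ⟨hs, inferInstance⟩
      have hNC : N ≤ C := Subgroup.relIndex_eq_one.1 he1
      have hK := MonoidHom.ker_transferSylow_isComplement' P hNC
      rcases Subgroup.Normal.eq_bot_or_eq_top
        (inferInstance : (MonoidHom.transferSylow P hNC).ker.Normal) with hb | ht
      · rw [hb, Subgroup.isComplement'_bot_left] at hK
        refine hna fun a b => ?_
        have hbC : b ∈ C := hPC (hK ▸ Subgroup.mem_top b)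
        exact Subgroup.mem_centralizer_iff.1 hbC a (hK ▸ Subgroup.mem_top a)
      · rw [ht, Subgroup.isComplement'_top_left] at hK
        rw [hK, Subgroup.card_bot] at hPc
        exact hp1 hPc.symm
    · obtain ⟨⟨χ, hχX⟩, hχ⟩ := exists_ne (⟨_, h1⟩ : X)
      have hne : χ ≠ oneChar G := fun e => hχ (Subtype.ext e)
      refine key χ (hXY ▸ Or.inl hχX) hne (δ χ * δ (oneChar G)) (mulsign _ _ (hδ χ hχX) (hδ _ h1)) ?_
      have := (hcX χ hχX _ h1).mul_left (δ χ)
      rwa [hone, mul_one, ← mul_assoc, sq _ (hδ χ hχX), one_mul] at this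
  · -- the trivial character is exceptional
    have hY1 : ∀ ψ ∈ Y, ψ = oneChar G := fun ψ hψ => by
      have h2 := hYreg ψ hψ _ h1 1 (by simp [hpp.ne_one])
      rw [(charDegree_eq ψ).1, (charDegree_eq (oneChar G)).1, Nat.cast_inj] at h2
      exact Subtype.ext (linear_eq_one hperf (by rw [h2]; exact_mod_cast hone))
    have hYcard : Nat.card Y = 1 := Nat.card_eq_one_iff_unique.2
      ⟨⟨fun a b => Subtype.ext ((hY1 a a.2).trans (hY1 b b.2).symm)⟩, ⟨⟨_, h1⟩⟩⟩
    rw [hYcard, pow_one] at hYc
    have hepos : 0 < e := Nat.pos_of_ne_zero fun h0 => by rw [h0, Nat.div_zero] at hYc; omega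
    have heq : e = p - 1 := by
      obtain ⟨k, hk⟩ := hediv
      rw [hk, Nat.mul_div_cancel_left _ hepos] at hYc
      rw [← hYc, mul_one] at hk
      exact hk.symm
    haveI : Nonempty X := (Nat.card_pos_iff.1 (hXc ▸ hepos)).1
    obtain ⟨χ, hχX⟩ := Classical.arbitrary X
    have hne : χ ≠ oneChar G := fun e => Set.disjoint_left.1 hdis hχX (e ▸ h1)
    refine key χ (hXY ▸ Or.inl hχX) hne (δ₀ * δ χ) (mulsign _ _ hδ₀ (hδ χ hχX)) ?_
    have h3 := hcY _ h1 χ hχX
    rw [hone, pow_one] at h3
    rw [pow_one]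
    have he' : (e : ℤ) ≡ -1 [ZMOD (p : ℤ)] := by
      rw [Int.modEq_iff_dvd, heq, Nat.cast_sub hpp.one_le]
      exact ⟨-1, by push_cast; ring⟩
    have h4 : (1 : ℤ) ≡ δ₀ * δ χ * (charDegree (χ : G → ℂ) : ℤ) [ZMOD (p : ℤ)] := by
      refine h3.trans ?_
      have := ((he'.mul_right δ₀).mul_right (δ χ)).mul_right (charDegree (χ : G → ℂ) : ℤ) |>.neg
      refine this.trans ?_
      rw [Int.modEq_iff_dvd]
      exact ⟨0, by ring⟩
    have h5 := h4.mul_left (δ₀ * δ χ)
    rw [mul_one, ← mul_assoc, sq _ (mulsign _ _ hδ₀ (hδ χ hχX)), one_mul] at h5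
    exact h5.symm

end simple

/-- Groups with prime non-linear degrees are soluble. -/
theorem isSolvable : ∀ (G : Type u) [Group G] [Finite G], PrimeDeg G → Group.IsSolvable G := by
  intro G _ _ h
  induction hn : Nat.card G using Nat.strong_induction_on generalizing G with
  | _ n ih =>
  subst hn
  by_cases hN : ∃ N : Subgroup G, N.Normal ∧ N ≠ ⊥ ∧ N ≠ ⊤
  · obtain ⟨N, hNn, hNb, hNt⟩ := hN
    haveI := hNn
    have h1 : Nat.card N < Nat.card G := lt_of_le_of_ne (Subgroup.card_le_card_group N)
      fun e => hNt (Subgroup.eq_top_of_card_eq N e)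
    have h2 : Nat.card (G ⧸ N) < Nat.card G := by
      rw [N.card_eq_card_quotient_mul_card_subgroup]
      exact lt_mul_of_one_lt_right Nat.card_pos (Subgroup.one_lt_card_iff_ne_bot N |>.2 hNb)
    haveI := ih _ h1 N (primeDeg_normal h N) rfl
    haveI := ih _ h2 (G ⧸ N) (primeDeg_quotient h N) rfl
    exact Group.isSolvable_of_ker_le_range N.subtype (QuotientGroup.mk' N) (by simp)
  · push Not at hN
    by_cases hab : ∀ a b : G, a * b = b * a
    · exact Group.isSolvable_of_comm hab
    exfalso
    haveI : Nontrivial G := by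
      by_contra hnt
      rw [not_nontrivial_iff_subsingleton] at hnt
      exact hab fun a b => Subsingleton.elim _ _
    haveI : IsSimpleGroup G := ⟨fun H hH => or_iff_not_imp_left.2 (hN H hH)⟩
    exact false_of_simple hab h

/-- A soluble group has no three distinct primes as degrees. -/
theorem no_three : ∀ (G : Type u) [Group G] [Finite G], Group.IsSolvable G → PrimeDeg G →
    ∀ p q r : ℕ, p ≠ q → p ≠ r → q ≠ r → p.Prime → q.Prime → r.Prime →
    (∃ χ : IrrCharacter G, charDegree (χ : G → ℂ) = p) →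
    (∃ χ : IrrCharacter G, charDegree (χ : G → ℂ) = q) →
    (∃ χ : IrrCharacter G, charDegree (χ : G → ℂ) = r) → False := by
  intro G _ _
  induction hn : Nat.card G using Nat.strong_induction_on generalizing G with
  | _ n ih =>
  subst hn
  intro hsol h p q r hpq hpr hqr hp hq hr ⟨χp, hχp⟩ ⟨χq, hχq⟩ ⟨χr, hχr⟩
  classical
  letI := Fintype.ofFinite G
  haveI := Fintype.ofFinite (IrrCharacter G)
  haveI : Nontrivial G := by
    by_contra hnt
    rw [not_nontrivial_iff_subsingleton] at hnt
    have hd := charDegree_dvd χp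
    rw [hχp, Nat.card_eq_one_iff_unique.2 ⟨hnt, inferInstance⟩] at hd
    exact hp.not_dvd_one hd
  obtain ⟨N, hNn, hl⟩ := Coprime.exists_normal_prime_index (G := G)
  haveI := hNn
  letI := Fintype.ofFinite N
  set l := N.index with hldef
  have hlt : Nat.card N < Nat.card G := by
    rw [← N.card_mul_index, ← hldef]
    exact lt_mul_of_one_lt_right Nat.card_pos hl.one_lt
  have hrestr : ∀ (χ : IrrCharacter G) (d : ℕ), charDegree (χ : G → ℂ) = d → d.Prime → d ≠ l →
      IsIrrCharacter N (fun n : N => (χ : G → ℂ) n) := fun χ d hd hdp hdl =>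
    isIrr_restrict_of_coprime_index χ.2 hdp (k := 1) (by rw [(charDegree_eq χ).1, hd, pow_one]) N
      (fun hdvd => hdl ((Nat.prime_dvd_prime_iff_eq hdp hl).1 hdvd))
  have hdown : ∀ (χ : IrrCharacter G) (d : ℕ), charDegree (χ : G → ℂ) = d → d.Prime → d ≠ l →
      ∃ θ : IrrCharacter N, charDegree (θ : N → ℂ) = d := fun χ d hd hdp hdl =>
    ⟨⟨_, hrestr χ d hd hdp hdl⟩, by
      refine charDegree_of_eq ?_
      show (χ : G → ℂ) ((1 : N) : G) = _
      rw [OneMemClass.coe_one, (charDegree_eq χ).1, hd]⟩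
  haveI := hsol
  have hsolN : Group.IsSolvable N := inferInstance
  -- the main case
  have main : ∀ (q r : ℕ), q ≠ l → r ≠ l → q ≠ r → q.Prime → r.Prime →
      ∀ (χl χq χr : IrrCharacter G), charDegree (χl : G → ℂ) = l →
      charDegree (χq : G → ℂ) = q → charDegree (χr : G → ℂ) = r → False := by
    intro q r hql hrl hqr hq hr χl χq χr hχl hχq hχr
    haveI := Fintype.ofFinite (IrrCharacter N)
    -- a constituent below `χl`
    have hresl : IsCharacter N (fun n : N => (χl : G → ℂ) n) :=
      isCharacter_comp (isCharacter_irr χl) N.subtype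
    obtain ⟨θ, hθ⟩ := exists_irr_inner_ne_zero hresl fun h0 => irr_one_ne_zero χl (by
      simpa using congrFun h0 1)
    obtain ⟨e, he⟩ := classInner_char_irr_nat hresl θ
    have hcl := clifford_degree N χl.2 θ.2 hθ
    rw [(charDegree_eq χl).1, (charDegree_eq θ).1, he, hχl] at hcl
    have hcl' : l = e * (inertia N (θ : N → ℂ)).index * charDegree (θ : N → ℂ) := by exact_mod_cast hcl
    have hθd : charDegree (θ : N → ℂ) = 1 := by
      by_contra h1
      have hθl := ((Nat.dvd_prime hl).1 (Dvd.intro_left _ hcl'.symm)).resolve_left h1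
      exact ih _ hlt N rfl hsolN (primeDeg_normal h N) l q r hql.symm hrl.symm hqr hl hq hr ⟨θ, hθl⟩
        (hdown χq q hχq hq hql) (hdown χr r hχr hr hrl)
    rw [hθd, mul_one] at hcl'
    obtain ⟨g, hg⟩ : ∃ g : G, conjFun N (θ : N → ℂ) g ≠ (θ : N → ℂ) := by
      by_contra hall
      push Not at hall
      have htop : inertia N (θ : N → ℂ) = ⊤ := eq_top_iff.2 fun g _ => hall g
      rw [htop, Subgroup.index_top, mul_one] at hcl'
      have hnorm : classInner (fun n : N => (χl : G → ℂ) n) (fun n : N => (χl : G → ℂ) n) =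
          ∑ ψ : IrrCharacter N, classInner (fun n : N => (χl : G → ℂ) n) (ψ : N → ℂ) *
            conj (classInner (fun n : N => (χl : G → ℂ) n) (ψ : N → ℂ)) :=
        classInner_expand (isClassFunction_of_isCharacter hresl)
      have h1 : (e : ℝ) ^ 2 ≤ (classInner (fun n : N => (χl : G → ℂ) n) (fun n : N => (χl : G → ℂ) n)).re := by
        rw [hnorm, Complex.re_sum]
        refine le_trans ?_ (Finset.single_le_sum (fun ψ _ => ?_) (Finset.mem_univ θ))
        · rw [he, Complex.mul_conj, Complex.ofReal_re, Complex.normSq_natCast, sq]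
        · rw [Complex.mul_conj, Complex.ofReal_re]; exact Complex.normSq_nonneg _
      have h2 : (classInner (fun n : N => (χl : G → ℂ) n) (fun n : N => (χl : G → ℂ) n)).re ≤ l := by
        have hG := classInner_irr_self χl
        simp only [classInner, Complex.mul_conj, ← Complex.ofReal_sum, ← Complex.ofReal_natCast,
          ← Complex.ofReal_inv, ← Complex.ofReal_mul, Complex.ofReal_re] at hG ⊢
        rw [← Complex.ofReal_one, Complex.ofReal_inj] at hG
        have hle : ∑ n : N, Complex.normSq ((χl : G → ℂ) n) ≤ ∑ g : G, Complex.normSq ((χl : G → ℂ) g) := by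
          rw [← Finset.sum_subtype (Finset.univ.filter (· ∈ N)) (by simp)
            (fun g => Complex.normSq ((χl : G → ℂ) g))]
          exact Finset.sum_le_univ_sum_of_nonneg fun g => Complex.normSq_nonneg _
        have hGc : (Nat.card G : ℝ) = Nat.card N * l := by
          rw [hldef, ← Nat.cast_mul, N.card_mul_index]
        have hN0 : (0 : ℝ) < Nat.card N := Nat.cast_pos.2 Nat.card_pos
        have hG0 : (0 : ℝ) < Nat.card G := Nat.cast_pos.2 Nat.card_pos
        rw [inv_mul_eq_one₀ hG0.ne'] at hG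
        rw [inv_mul_le_iff₀ hN0, ← hGc, hG]
        exact hle
      have h3 := h1.trans h2
      rw [← hcl'] at h3
      have h4 : (2 : ℝ) ≤ l := by exact_mod_cast hl.two_le
      nlinarith
    obtain ⟨lam, hlam⟩ := exists_hom_of_linear (isCharacter_irr θ)
      (by rw [(charDegree_eq θ).1, hθd, Nat.cast_one])
    let lam' : N →* ℂˣ := lam.comp (normalConjHom N g)
    have hlam' : conjFun N (θ : N → ℂ) g = fun n => ((lam' n : ℂˣ) : ℂ) := funext fun n => congrFun hlam _
    let μ : N →* ℂˣ := lam' * lam⁻¹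
    have hμ : μ ≠ 1 := fun h1 => hg (by
      refine hlam'.trans (Eq.trans (funext fun n => ?_) hlam.symm)
      have := DFunLike.congr_fun h1 n
      simp only [μ, MonoidHom.mul_apply, MonoidHom.inv_apply, MonoidHom.one_apply] at this
      rw [mul_inv_eq_one.1 this])
    have step : ∀ (χ : IrrCharacter G) (d : ℕ), charDegree (χ : G → ℂ) = d → d.Prime → d ≠ l →
        μ ^ d = 1 := by
      intro χ d hd hdp hdl
      let ψ : IrrCharacter N := ⟨_, hrestr χ d hd hdp hdl⟩
      let ψ' : IrrCharacter N := linMul lam ψ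
      have hψ'd : charDegree (ψ' : N → ℂ) = d := by
        refine charDegree_of_eq ?_
        show ((lam 1 : ℂˣ) : ℂ) * (χ : G → ℂ) ((1 : N) : G) = _
        rw [map_one, Units.val_one, one_mul, OneMemClass.coe_one, (charDegree_eq χ).1, hd]
      obtain ⟨χ', -, e', he'⟩ := exists_above N ψ'
      rw [hψ'd] at he'
      have hd' : charDegree (χ' : G → ℂ) = d := by
        have hne : charDegree (χ' : G → ℂ) ≠ 1 := fun h1 =>
          hdp.ne_one (Nat.dvd_one.1 (h1 ▸ Dvd.intro_left _ he'.symm))
        exact (((Nat.dvd_prime (h χ' hne)).1 (Dvd.intro_left _ he'.symm)).resolve_left hdp.ne_one).symm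
      rw [hd'] at he'
      have htop : inertia N (ψ' : N → ℂ) = ⊤ := by
        refine Subgroup.index_eq_one.1 ?_
        have : e' * (inertia N (ψ' : N → ℂ)).index = 1 := by
          nlinarith [hdp.pos]
        exact Nat.eq_one_of_mul_eq_one_left this
      have hfix : conjFun N (ψ' : N → ℂ) g = (ψ' : N → ℂ) :=
        (mem_inertia N (ψ' : N → ℂ) g).1 (htop ▸ Subgroup.mem_top g)
      have hval : ∀ n : N, ((μ n : ℂˣ) : ℂ) * (ψ : N → ℂ) n = (ψ : N → ℂ) n := by
        intro n
        have h1 : ((lam' n : ℂˣ) : ℂ) * (χ : G → ℂ) (g * (n : G) * g⁻¹) =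
            ((lam n : ℂˣ) : ℂ) * (χ : G → ℂ) n := congrFun hfix n
        rw [isClassFunction_irr χ] at h1
        show ((μ n : ℂˣ) : ℂ) * (χ : G → ℂ) n = (χ : G → ℂ) n
        simp only [μ, MonoidHom.mul_apply, MonoidHom.inv_apply, Units.val_mul]
        calc _ = (((lam n)⁻¹ : ℂˣ) : ℂ) * (((lam' n : ℂˣ) : ℂ) * (χ : G → ℂ) n) := by ring
          _ = _ := by rw [h1, Units.inv_mul_cancel_left]
      obtain ⟨n', ρ, hρ, hψ⟩ := ψ.2
      have hn' : n' = d := by
        have h1 : (ψ : N → ℂ) 1 = (n' : ℂ) := by rw [← hψ, Representation.char_one, Module.finrank_fin_fun]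
        have h2 : (ψ : N → ℂ) 1 = (d : ℂ) := by
          show (χ : G → ℂ) ((1 : N) : G) = _
          rw [OneMemClass.coe_one, (charDegree_eq χ).1, hd]
        exact_mod_cast h1.symm.trans h2
      have hch : (twistRep ρ μ).character = ρ.character := funext fun n => by
        show LinearMap.trace ℂ _ (((μ n : ℂˣ) : ℂ) • ρ n) = _
        rw [map_smul, smul_eq_mul, show LinearMap.trace ℂ _ (ρ n) = (ψ : N → ℂ) n from congrFun hψ n,
          hval, ← hψ]
      obtain ⟨φ⟩ := nonempty_equiv_of_character_eq ρ (twistRep ρ μ) hch.symm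
      have hdet : detHom (twistRep ρ μ) = detHom ρ := MonoidHom.ext fun n => Units.ext (by
        rw [detHom_coe, detHom_coe]; exact det_eq_of_equiv φ n)
      rw [detHom_twistRep, Module.finrank_fin_fun] at hdet
      refine MonoidHom.ext fun n => ?_
      have a1 := DFunLike.congr_fun hdet n
      simp only [MonoidHom.mul_apply, MonoidHom.pow_apply, MonoidHom.one_apply] at a1 ⊢
      rw [← hn']
      exact mul_eq_left.1 a1
    exact hμ (by
      have h1 := step χq q hχq hq hql
      have h2 := step χr r hχr hr hrl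
      refine MonoidHom.ext fun n => ?_
      have a1 := DFunLike.congr_fun h1 n
      have a2 := DFunLike.congr_fun h2 n
      simp only [MonoidHom.pow_apply, MonoidHom.one_apply] at a1 a2 ⊢
      exact orderOf_eq_one_iff.1 (Nat.dvd_one.1 ((Nat.coprime_primes hq hr).2 hqr ▸
        Nat.dvd_gcd (orderOf_dvd_of_pow_eq_one a1) (orderOf_dvd_of_pow_eq_one a2))))
  by_cases hpl : p = l
  · exact main q r (fun e => hpq (hpl.trans e.symm)) (fun e => hpr (hpl.trans e.symm)) hqr hq hr χp χq χr
      (hχp.trans hpl) hχq hχr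
  by_cases hql : q = l
  · exact main p r hpl (fun e => hqr (hql.trans e.symm)) hpr hp hr χq χp χr (hχq.trans hql) hχp hχr
  by_cases hrl : r = l
  · exact main p q hpl hql hpq hp hq χr χp χq (hχr.trans hrl) hχp hχq
  exact ih _ hlt N rfl hsolN (primeDeg_normal h N) p q r hpq hpr hqr hp hq hr (hdown χp p hχp hp hpl)
    (hdown χq q hχq hq hql) (hdown χr r hχr hr hrl)

/-- At most three degrees. -/
theorem card_degrees_le (h : PrimeDeg G) (S : Set ℕ)
    (hS : ∀ n ∈ S, ∃ χ : IrrCharacter G, charDegree (χ : G → ℂ) = n) : S.ncard ≤ 3 := by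
  classical
  have hfin : S.Finite := (Set.finite_range fun χ : IrrCharacter G => charDegree (χ : G → ℂ)).subset
    fun n hn => by obtain ⟨χ, hχ⟩ := hS n hn; exact ⟨χ, hχ⟩
  by_contra hlt
  rw [not_le] at hlt
  have h3 : 2 < (hfin.toFinset.erase 1).card := by
    have := Finset.pred_card_le_card_erase (s := hfin.toFinset) (a := 1)
    rw [Set.ncard_eq_toFinset_card S hfin] at hlt
    omega
  obtain ⟨a, ha, b, hb, c, hc, hab, hac, hbc⟩ := Finset.two_lt_card.1 h3
  have key : ∀ x ∈ hfin.toFinset.erase 1, x.Prime ∧ ∃ χ : IrrCharacter G, charDegree (χ : G → ℂ) = x := by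
    intro x hx
    obtain ⟨hx1, hxS⟩ := Finset.mem_erase.1 hx
    obtain ⟨χ, hχ⟩ := hS x (hfin.mem_toFinset.1 hxS)
    exact ⟨hχ ▸ h χ (by rw [hχ]; exact hx1), χ, hχ⟩
  exact no_three G (isSolvable G h) h a b c hab hac hbc (key a ha).1 (key b hb).1 (key c hc).1
    (key a ha).2 (key b hb).2 (key c hc).2

end CfsgLib.Char.PrimeDegrees
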