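import Cfsg.Agent.Lib.Char.Berger.Main
import Cfsg.Agent.Lib.Char.ChiefFactor
import Cfsg.Agent.Lib.Char.TransLinear.Structure
import Cfsg.Agent.Lib.Block.ItoMichler

/-!
Primitive characters of finite solvable groups: the `p`-part of the degree divides the `p`-part of
a class size. On every non-trivial irreducible module of a solvable group the average dimension of
the fixed points is at most half the dimension; add this up along a chief series.
-/

set_option autoImplicit false
set_option linter.unusedSectionVars false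

namespace CfsgLib.Char.PrimClass

open Cfsg CfsgLib.Char

universe u v

variable {M : Type u} [CommGroup M] [Finite M]

/-- points of `M` fixed by every element of `B` -/
def fixSub (B : Subgroup (MulAut M)) : Subgroup M where
  carrier := {x | ∀ b ∈ B, b x = x}
  one_mem' := fun b _ => map_one b
  mul_mem' := fun {x y} hx hy b hb => by rw [map_mul, hx b hb, hy b hb]
  inv_mem' := fun {x} hx b hb => by rw [map_inv, hx b hb]

/-- product over a subgroup of the images -/
noncomputable def avg (B : Subgroup (MulAut M)) (x : M) : M :=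
  ∏ᶠ b : B, (b : MulAut M) x

/-- cosets of an elementary abelian coprime group without fixed points -/
theorem coset_prod_le (A : Subgroup (MulAut M)) (hA : ∀ a ∈ A, ∀ b ∈ A, a * b = b * a)
    {q : ℕ} (hq : q.Prime) (hAq : ∀ a ∈ A, a ^ q = 1) (hcop : q.Coprime (Nat.card M))
    (hfix : fixSub A = ⊥) (h : MulAut M) (hn : ∀ a ∈ A, h * a * h⁻¹ ∈ A) :
    (∏ᶠ a : A, Nat.card {x : M // (h * (a : MulAut M)) x = x} ^ 2) ≤ Nat.card M ^ Nat.card A := by
  classical
  letI := Fintype.ofFinite M
  haveI : Finite (MulAut M) := Finite.of_injective (fun f : MulAut M => (f : M → M)) DFunLike.coe_injective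
  letI := Fintype.ofFinite (MulAut M)
  haveI := Fact.mk hq
  have happ : ∀ (f g : MulAut M) (x : M), (f * g) x = f (g x) := fun f g x => rfl
  -- a fixed-point-free element of order dividing `q`
  have hroot : ∀ x : M, x ^ q = 1 → x = 1 := fun x hx => by
    have h1 := Nat.dvd_gcd (orderOf_dvd_of_pow_eq_one hx) (orderOf_dvd_natCard x)
    rw [hcop.gcd_eq_one, Nat.dvd_one, orderOf_eq_one_iff] at h1
    exact h1
  have hApow : IsPGroup q A := fun a => ⟨1, Subtype.ext (by rw [pow_one]; simpa using hAq a a.2)⟩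
  -- the hyperplanes
  let 𝔅 := {B : Subgroup (MulAut M) // B ≤ A ∧ Nat.card B * q = Nat.card A}
  letI : Fintype 𝔅 := Fintype.ofFinite _
  have htop : ∀ B : 𝔅, ∀ C : Subgroup (MulAut M), B.1 ≤ C → C ≤ A → C ≠ B.1 → C = A := by
    intro B C hBC hCA hne
    refine Subgroup.eq_of_le_of_card_ge hCA ?_
    obtain ⟨c, hc⟩ := Subgroup.card_dvd_of_le hBC
    obtain ⟨e, he⟩ := Subgroup.card_dvd_of_le hCA
    have h0 : 0 < Nat.card B.1 := Nat.card_pos
    have h1 : c * e = q := by
      refine Nat.eq_of_mul_eq_mul_left h0 ?_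
      rw [← mul_assoc, ← hc, ← he, B.2.2]
    rcases (Nat.dvd_prime hq).1 (Dvd.intro e h1) with h2 | h2
    · exact absurd (Subgroup.eq_of_le_of_card_ge hBC (by rw [hc, h2, mul_one])).symm hne
    · rw [← B.2.2, hc, h2]
  have havg : ∀ (B : Subgroup (MulAut M)) (b : MulAut M), b ∈ B → ∀ x, b (avg B x) = avg B x := by
    intro B b hb x
    simp only [avg, finprod_eq_prod_of_fintype, map_prod]
    exact Fintype.prod_equiv (Equiv.mulLeft (⟨b, hb⟩ : B)) _ _ fun c => rfl
  have havgmul : ∀ (B : Subgroup (MulAut M)) (x y : M), avg B (x * y) = avg B x * avg B y := by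
    intro B x y
    simp only [avg, finprod_eq_prod_of_fintype, map_mul, Finset.prod_mul_distrib]
  have havgfix : ∀ (B : Subgroup (MulAut M)) (x : M), x ∈ fixSub B → avg B x = x ^ Nat.card B := by
    intro B x hx
    simp only [avg, finprod_eq_prod_of_fintype]
    rw [Finset.prod_congr rfl fun (b : B) _ => hx b b.2, Finset.prod_const, Finset.card_univ,
      Nat.card_eq_fintype_card]
  have havgconj : ∀ (g : MulAut M) (B : Subgroup (MulAut M)) (x : M),
      avg (B.map (MulAut.conj g).toMonoidHom) (g x) = g (avg B x) := by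
    intro g B x
    simp only [avg, finprod_eq_prod_of_fintype, map_prod]
    refine (Fintype.prod_equiv (B.equivMapOfInjective _ (MulAut.conj g).injective).toEquiv _ _ fun b => ?_).symm
    show g ((b : MulAut M) x) = (g * (b : MulAut M) * g⁻¹) (g x)
    rw [← happ, ← happ, inv_mul_cancel_right]
  -- the averages separate points
  have hinj : ∀ x : M, (∀ B : 𝔅, avg B.1 x = 1) → x = 1 := by
    intro x hx
    by_contra hx1
    let U : Subgroup M :=
      { carrier := {y | ∀ B : 𝔅, avg B.1 y = 1}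
        one_mem' := fun B => by
          simp only [avg, finprod_eq_prod_of_fintype, map_one, Finset.prod_const_one]
        mul_mem' := fun {y z} hy hz B => by rw [havgmul, hy B, hz B, one_mul]
        inv_mem' := fun {y} hy B => by
          have h1 := hy B
          simp only [avg, finprod_eq_prod_of_fintype] at h1 ⊢
          simp only [map_inv, Finset.prod_inv_distrib, h1, inv_one] }
    have hUinv : ∀ a ∈ A, ∀ y ∈ U, a y ∈ U := fun a ha y hy B => by
      have h1 : B.1.map (MulAut.conj a).toMonoidHom = B.1 := by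
        ext b
        constructor
        · rintro ⟨c, hc, rfl⟩
          show a * c * a⁻¹ ∈ B.1
          rwa [hA a ha c (B.2.1 hc), mul_inv_cancel_right]
        · intro hb
          exact ⟨b, hb, by show a * b * a⁻¹ = b; rw [hA a ha b (B.2.1 hb), mul_inv_cancel_right]⟩
      rw [← h1, havgconj, hy B, map_one]
    obtain ⟨W, hWU, hW⟩ := exists_minimal_le_of_wellFoundedLT
      (fun W : Subgroup M => W ≠ ⊥ ∧ ∀ a ∈ A, ∀ y ∈ W, a y ∈ W) U
      ⟨fun h0 => hx1 ((Subgroup.eq_bot_iff_forall U).1 h0 x hx), hUinv⟩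
    obtain ⟨⟨hW0, hWinv⟩, hWmin⟩ := hW
    obtain ⟨w, hw, hw1⟩ := (Subgroup.ne_bot_iff_exists_ne_one.1 hW0) |> fun ⟨w, hw⟩ =>
      (⟨(w : M), w.2, fun h1 => hw (Subtype.ext h1)⟩ : ∃ w ∈ W, w ≠ 1)
    let B0 : Subgroup (MulAut M) :=
      { carrier := {a | a ∈ A ∧ ∀ y ∈ W, a y = y}
        one_mem' := ⟨one_mem A, fun y _ => rfl⟩
        mul_mem' := fun {a b} ha hb => ⟨mul_mem ha.1 hb.1, fun y hy => by rw [happ, hb.2 y hy, ha.2 y hy]⟩
        inv_mem' := fun {a} ha => ⟨inv_mem ha.1, fun y hy => by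
          conv_lhs => rw [← ha.2 y hy]
          rw [← happ, inv_mul_cancel]; rfl⟩ }
    have hB0A : B0 ≤ A := fun a ha => ha.1
    -- outside `B0` there are no fixed points
    have hfpf : ∀ a ∈ A, a ∉ B0 → ∀ y ∈ W, a y = y → y = 1 := by
      intro a ha hab y hy hay
      let Y : Subgroup M :=
        { carrier := {z | z ∈ W ∧ a z = z}
          one_mem' := ⟨one_mem W, map_one a⟩
          mul_mem' := fun {z z'} hz hz' => ⟨mul_mem hz.1 hz'.1, by rw [map_mul, hz.2, hz'.2]⟩
          inv_mem' := fun {z} hz => ⟨inv_mem hz.1, by rw [map_inv, hz.2]⟩ }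
      by_contra hy1
      have hYne : Y ≠ ⊥ := fun h0 => hy1 ((Subgroup.eq_bot_iff_forall Y).1 h0 y ⟨hy, hay⟩)
      have hYinv : ∀ c ∈ A, ∀ z ∈ Y, c z ∈ Y := fun c hc z hz =>
        ⟨hWinv c hc z hz.1, by rw [← happ, hA a ha c hc, happ, hz.2]⟩
      have h1 : W ≤ Y := hWmin ⟨hYne, hYinv⟩ fun z hz => hz.1
      exact hab ⟨ha, fun z hz => (h1 hz).2⟩
    have hB0lt : B0 ≠ A := fun h0 => by
      refine hw1 ((Subgroup.mem_bot).1 (hfix ▸ ?_))
      exact fun a ha => (h0.symm ▸ ha : a ∈ B0).2 w hw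
    obtain ⟨a, ha, hab⟩ : ∃ a ∈ A, a ∉ B0 := SetLike.exists_of_lt (lt_of_le_of_ne hB0A hB0lt)
    have hpsum : ∀ u ∈ A, u ∉ B0 → ∏ j ∈ Finset.range q, (u ^ j) w = 1 := by
      intro u hu hub
      refine hfpf u hu hub _ (prod_mem fun j _ => hWinv _ (pow_mem hu j) _ hw) ?_
      rw [map_prod]
      have h1 : ∀ j, u ((u ^ j) w) = (u ^ (j + 1)) w := fun j => by rw [← happ, ← pow_succ']
      simp only [h1]
      have h2 := Finset.prod_range_succ' (fun j => (u ^ j) w) q
      rw [Finset.prod_range_succ, hAq u hu, pow_zero] at h2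
      exact (mul_right_cancel h2).symm
    set C := B0 ⊔ Subgroup.zpowers a with hC
    have hCA : C ≤ A := sup_le hB0A (Subgroup.zpowers_le.2 ha)
    by_cases hCeq : C = A
    · -- `B0` is a hyperplane
      have hcard : Nat.card B0 * q = Nat.card A := by
        have h1 : B0.relIndex A = q := by
          haveI : (B0.subgroupOf A).Normal := ⟨fun b hb c => by
            rw [Subgroup.mem_subgroupOf] at hb ⊢
            simp only [Subgroup.coe_mul, Subgroup.coe_inv]
            rwa [hA _ c.2 _ b.2, mul_inv_cancel_right]⟩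
          set N := B0.subgroupOf A with hN
          show N.index = q
          rw [Subgroup.index_eq_card]
          have hgen : ∀ c : A ⧸ N, c ∈ Subgroup.zpowers (QuotientGroup.mk ⟨a, ha⟩ : A ⧸ N) := by
            intro c
            obtain ⟨c, rfl⟩ := QuotientGroup.mk_surjective c
            have hc : (c : MulAut M) ∈ C := hCeq.symm ▸ c.2
            rw [hC, Subgroup.sup_eq_closure] at hc
            refine Subgroup.closure_induction
              (p := fun y _ => ∀ hy : y ∈ A, (QuotientGroup.mk ⟨y, hy⟩ : A ⧸ N) ∈ Subgroup.zpowers (QuotientGroup.mk ⟨a, ha⟩ : A ⧸ N))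
              ?_ ?_ ?_ ?_ hc c.2
            · rintro y (hy | hy) hyA
              · rw [(QuotientGroup.eq_one_iff (⟨y, hyA⟩ : A)).2 (Subgroup.mem_subgroupOf.2 hy)]
                exact one_mem _
              · obtain ⟨i, rfl⟩ := hy
                refine ⟨i, ?_⟩
                show (QuotientGroup.mk ⟨a, ha⟩ : A ⧸ N) ^ i = _
                rw [← QuotientGroup.mk_zpow]
                exact congrArg _ (Subtype.ext (Subgroup.coe_zpow _ _ _))
            · intro _
              exact one_mem _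
            · intro y z hy hz h1 h2 hyz
              have hyA : y ∈ A := hCA (by rw [hC, Subgroup.sup_eq_closure]; exact hy)
              have hzA : z ∈ A := hCA (by rw [hC, Subgroup.sup_eq_closure]; exact hz)
              have := mul_mem (h1 hyA) (h2 hzA)
              rwa [← QuotientGroup.mk_mul] at this
            · intro y hy h1 hyi
              have hyA : y ∈ A := hCA (by rw [hC, Subgroup.sup_eq_closure]; exact hy)
              have := inv_mem (h1 hyA)
              rwa [← QuotientGroup.mk_inv] at this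
          have htopq : Subgroup.zpowers (QuotientGroup.mk ⟨a, ha⟩ : A ⧸ N) = ⊤ :=
            (Subgroup.eq_top_iff' _).2 hgen
          rw [← Subgroup.card_top, ← htopq, Nat.card_zpowers]
          refine orderOf_eq_prime ?_ ?_
          · rw [← QuotientGroup.mk_pow]
            exact (QuotientGroup.eq_one_iff _).2 (Subgroup.mem_subgroupOf.2 (by
              rw [Subgroup.coe_pow, hAq a ha]; exact one_mem _))
          · intro h1
            exact hab (Subgroup.mem_subgroupOf.1 ((QuotientGroup.eq_one_iff _).1 h1))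
        have h2 := Subgroup.relIndex_mul_relIndex ⊥ B0 A bot_le hB0A
        rw [h1, Subgroup.relIndex_bot_left, Subgroup.relIndex_bot_left] at h2
        exact h2
      have hwfix : w ∈ fixSub B0 := fun b hb => hb.2 w hw
      have h1 : avg B0 w = 1 := hWU hw ⟨B0, hB0A, hcard⟩
      rw [havgfix B0 w hwfix] at h1
      obtain ⟨k, hk⟩ := IsPGroup.iff_card.1 (hApow.of_injective (Subgroup.inclusion hB0A) (Subgroup.inclusion_injective hB0A))
      rw [hk] at h1
      exact hw1 ((Nat.Coprime.pow_left_bijective (G := M) (hcop.symm.pow_right k)).injective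
        (h1.trans (one_pow (q ^ k)).symm))
    · -- two independent elements outside `B0`
      obtain ⟨c, hc, hcC⟩ : ∃ c ∈ A, c ∉ C := SetLike.exists_of_lt (lt_of_le_of_ne hCA hCeq)
      have hac : ∀ i : ℕ, a * c ^ i ∈ A := fun i => mul_mem ha (pow_mem hc i)
      have hnot : ∀ i : ℕ, a * c ^ i ∉ B0 := by
        intro i hi
        by_cases hqi : q ∣ i
        · obtain ⟨s, rfl⟩ := hqi
          rw [pow_mul, hAq c hc, one_pow, mul_one] at hi
          exact hab hi
        · have h1 : c ^ i ∈ C := by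
            have h2 : a * c ^ i ∈ C := le_sup_left (a := B0) hi
            have h3 : a ∈ C := le_sup_right (a := B0) (Subgroup.mem_zpowers a)
            simpa using mul_mem (inv_mem h3) h2
          obtain ⟨m, hm⟩ := exists_pow_eq_self_of_coprime (x := c) (n := i)
            (((hq.coprime_iff_not_dvd).2 hqi).symm.coprime_dvd_right (orderOf_dvd_of_pow_eq_one (hAq c hc)))
          exact hcC (hm ▸ pow_mem h1 m)
      have hcj : ∀ j ∈ Finset.range q, j ≠ 0 → c ^ j ∉ B0 := by
        intro j hj hj0 hb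
        obtain ⟨m, hm⟩ := exists_pow_eq_self_of_coprime (x := c) (n := j)
          (((hq.coprime_iff_not_dvd).2 (Nat.not_dvd_of_pos_of_lt (Nat.pos_of_ne_zero hj0) (Finset.mem_range.1 hj))).symm.coprime_dvd_right
            (orderOf_dvd_of_pow_eq_one (hAq c hc)))
        exact hcC (le_sup_left (a := B0) (hm ▸ pow_mem hb m))
      have hall : ∏ i ∈ Finset.range q, ∏ j ∈ Finset.range q, ((a * c ^ i) ^ j) w = 1 :=
        Finset.prod_eq_one fun i _ => hpsum _ (hac i) (hnot i)
      rw [Finset.prod_comm] at hall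
      have hterm : ∀ i j : ℕ, ((a * c ^ i) ^ j) w = (a ^ j) (((c ^ j) ^ i) w) := fun i j => by
        rw [(Commute.mul_pow (hA a ha _ (pow_mem hc i)) j), ← pow_mul, mul_comm i j, pow_mul]
        rfl
      simp only [hterm, ← map_prod] at hall
      rw [Finset.prod_eq_single_of_mem 0 (Finset.mem_range.2 hq.pos) fun j hj hj0 => by
        rw [hpsum _ (pow_mem hc j) (hcj j hj hj0), map_one]] at hall
      simp only [pow_zero, one_pow, MulAut.one_apply, Finset.prod_const, Finset.card_range] at hall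
      exact hw1 (hroot w hall)
  -- distinct hyperplanes
  have hcomp : ∀ (y : ∀ B : 𝔅, fixSub B.1) (B : 𝔅), avg B.1 (∏ C, (y C : M)) = (y B : M) ^ Nat.card B.1 := by
    intro y B
    have h1 : avg B.1 (∏ C, (y C : M)) = ∏ C, avg B.1 (y C : M) :=
      map_prod (MonoidHom.mk' (avg B.1) (havgmul B.1)) _ _
    rw [h1, Finset.prod_eq_single_of_mem B (Finset.mem_univ _), havgfix _ _ (y B).2]
    intro C _ hCB
    have hne : B.1 ⊔ C.1 ≠ B.1 := fun h1 => hCB (Subtype.ext (Subgroup.eq_of_le_of_card_ge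
      (h1 ▸ le_sup_right) (Nat.le_of_mul_le_mul_right (B.2.2.trans C.2.2.symm).le hq.pos)))
    have hAeq : B.1 ⊔ C.1 = A := htop B _ le_sup_left (sup_le B.2.1 C.2.1) hne
    refine (Subgroup.mem_bot).1 (hfix ▸ ?_)
    intro b hb
    rw [← hAeq, Subgroup.sup_eq_closure] at hb
    refine Subgroup.closure_induction (p := fun b _ => b (avg B.1 (y C : M)) = avg B.1 (y C : M)) ?_ ?_ ?_ ?_ hb
    · rintro b (hb | hb)
      · exact havg B.1 b hb _
      · simp only [avg, finprod_eq_prod_of_fintype, map_prod]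
        refine Finset.prod_congr rfl fun d _ => ?_
        rw [← happ, hA b (C.2.1 hb) d (B.2.1 d.2), happ, (y C).2 b hb]
    · rfl
    · intro b d _ _ h1 h2
      rw [happ, h2, h1]
    · intro b _ h1
      conv_lhs => rw [← h1]
      rw [← happ, inv_mul_cancel]; rfl
  have hprodle : ∏ B : 𝔅, Nat.card (fixSub B.1) ≤ Nat.card M := by
    rw [← Nat.card_pi]
    refine Nat.card_le_card_of_injective (fun y => ∏ C, (y C : M)) fun y z hyz => funext fun B => ?_
    obtain ⟨k, hk⟩ := IsPGroup.iff_card.1 (hApow.of_injective (Subgroup.inclusion B.2.1) (Subgroup.inclusion_injective B.2.1))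
    have h1 : (y B : M) ^ Nat.card B.1 = (z B : M) ^ Nat.card B.1 := by
      rw [← hcomp y B, ← hcomp z B, show (∏ C, (y C : M)) = _ from hyz]
    rw [hk] at h1
    exact Subtype.ext ((Nat.Coprime.pow_left_bijective (G := M) (hcop.symm.pow_right k)).injective h1)
  -- one coset element
  let σ : 𝔅 → 𝔅 := fun B => ⟨B.1.map (MulAut.conj h).toMonoidHom, by
    rintro _ ⟨b, hb, rfl⟩
    exact hn b (B.2.1 hb), by
    rw [Subgroup.card_map_of_injective (MulAut.conj h).injective]; exact B.2.2⟩
  have hσinj : Function.Injective σ := fun B C hBC => Subtype.ext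
    (Subgroup.map_injective (MulAut.conj h).injective (congrArg Subtype.val hBC))
  let e := Fintype.equivFin 𝔅
  let pr : 𝔅 → Prop := fun B => ∀ i : ℕ, e B ≤ e (σ^[i] B)
  let w : A → 𝔅 → ℕ := fun a B => if σ B = B then
    Nat.card {x : fixSub B.1 // (h * (a : MulAut M)) (x : M) = x} ^ 2 else Nat.card (fixSub B.1)
  have hsq : ∀ a : A, Nat.card {x : M // (h * (a : MulAut M)) x = x} ^ 2 ≤ ∏ B, w a B := by
    intro a
    set g := h * (a : MulAut M) with hg
    have hmapa : ∀ B : 𝔅, B.1.map (MulAut.conj g).toMonoidHom = (σ B).1 := by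
      intro B
      have h1 : ∀ b ∈ B.1, g * b * g⁻¹ = h * b * h⁻¹ := fun b hb => by
        rw [hg, mul_inv_rev, show h * (a : MulAut M) * b * ((a : MulAut M)⁻¹ * h⁻¹) =
          h * ((a : MulAut M) * b * (a : MulAut M)⁻¹) * h⁻¹ by group, hA _ a.2 b (B.2.1 hb), mul_inv_cancel_right]
      ext c
      constructor
      · rintro ⟨b, hb, rfl⟩
        exact ⟨b, hb, (h1 b hb).symm⟩
      · rintro ⟨b, hb, rfl⟩
        exact ⟨b, hb, h1 b hb⟩
    have hstep : ∀ x, g x = x → ∀ B : 𝔅, avg (σ B).1 x = g (avg B.1 x) := fun x hx B => by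
      rw [← hmapa, ← havgconj, hx]
    have hmem : ∀ (B : 𝔅) (x : M), avg B.1 x ∈ fixSub B.1 := fun B x b hb => havg _ b hb x
    have hfixB : ∀ x, g x = x → ∀ B, σ B = B → g (avg B.1 x) = avg B.1 x := fun x hx B hB => by
      rw [← hstep x hx B, hB]
    let T : 𝔅 → Type u := fun B => if σ B = B then
      ({x : fixSub B.1 // g (x : M) = x} × {x : fixSub B.1 // g (x : M) = x}) else fixSub B.1
    have hTcard : ∀ B, Nat.card (T B) = w a B := by
      intro B
      by_cases hB : σ B = B
      · simp only [T, w, if_pos hB, Nat.card_prod, sq, ← hg]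
      · simp only [T, w, if_neg hB]
    haveI : ∀ B, Finite (T B) := fun B => by
      by_cases hB : σ B = B
      · simp only [T, if_pos hB]; infer_instance
      · simp only [T, if_neg hB]; infer_instance
    rw [← Finset.prod_congr rfl fun B _ => hTcard B, ← Nat.card_pi, sq, ← Nat.card_prod]
    let F : {x : M // g x = x} × {x : M // g x = x} → ∀ B, T B := fun t B =>
      if hB : σ B = B then cast (by simp only [T, if_pos hB])
          ((⟨⟨avg B.1 t.1, hmem B _⟩, hfixB _ t.1.2 B hB⟩, ⟨⟨avg B.1 t.2, hmem B _⟩, hfixB _ t.2.2 B hB⟩) :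
            {x : fixSub B.1 // g (x : M) = x} × {x : fixSub B.1 // g (x : M) = x})
      else cast (by simp only [T, if_neg hB])
          (if pr B then (⟨avg B.1 t.1, hmem B _⟩ : fixSub B.1) else ⟨avg B.1 t.2, hmem B _⟩)
    refine Nat.card_le_card_of_injective F ?_
    rintro ⟨⟨x, hx⟩, ⟨y, hy⟩⟩ ⟨⟨x', hx'⟩, ⟨y', hy'⟩⟩ hF
    have hfixed : ∀ B, σ B = B → avg B.1 x = avg B.1 x' ∧ avg B.1 y = avg B.1 y' := fun B hB => by
      have := congrFun hF B
      simp only [F, dif_pos hB] at this
      have h2 := (cast_inj _).1 this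
      simpa [Prod.ext_iff, Subtype.ext_iff] using h2
    have hmoved : ∀ B, σ B ≠ B → (pr B → avg B.1 x = avg B.1 x') ∧ (¬ pr B → avg B.1 y = avg B.1 y') := fun B hB => by
      have := congrFun hF B
      simp only [F, dif_neg hB] at this
      have h2 := (cast_inj _).1 this
      constructor <;> intro hp
      · simpa [hp, Subtype.ext_iff] using h2
      · simpa [hp, Subtype.ext_iff] using h2
    -- transport along orbits
    have horbit : ∀ (z z' : M), g z = z → g z' = z' → ∀ B, avg B.1 z = avg B.1 z' →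
        ∀ i, avg (σ^[i] B).1 z = avg (σ^[i] B).1 z' := by
      intro z z' hz hz' B hB i
      induction i with
      | zero => exact hB
      | succ i ih => rw [Function.iterate_succ_apply', hstep z hz, hstep z' hz', ih]
    have hperiod : ∀ B, ∀ i : ℕ, ∃ j : ℕ, σ^[j] (σ^[i] B) = B := by
      intro B i
      obtain ⟨m, hm, hper⟩ := (Finite.injective_iff_bijective.1 hσinj).injective.mem_periodicPts B
      refine ⟨m * (i + 1) - i, ?_⟩
      rw [← Function.iterate_add_apply, Nat.sub_add_cancel (le_trans (Nat.le_succ i) (Nat.le_mul_of_pos_left _ hm))]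
      exact hper.mul_const (i + 1)
    have hmin : ∀ B, ∃ i, pr (σ^[i] B) := by
      intro B
      obtain ⟨C, ⟨i, rfl⟩, hC⟩ := Set.exists_min_image (Set.range fun i : ℕ => σ^[i] B) e (Set.toFinite _) ⟨B, 0, rfl⟩
      exact ⟨i, fun j => hC _ ⟨j + i, Function.iterate_add_apply σ j i B⟩⟩
    have hall : ∀ B : 𝔅, avg B.1 x = avg B.1 x' ∧ avg B.1 y = avg B.1 y' := by
      intro B
      by_cases hB : σ B = B
      · exact hfixed B hB
      obtain ⟨i, hi⟩ := hmin B
      set C := σ^[i] B with hCdef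
      obtain ⟨j, hj⟩ := hperiod B i
      rw [← hCdef] at hj
      have hC : σ C ≠ C := fun hC => by
        have h1 : σ^[j] C = C := Function.iterate_fixed hC j
        rw [hj] at h1
        exact hB (h1.symm ▸ hC)
      have hC2 : σ (σ C) ≠ σ C := fun hh => hC (hσinj hh)
      have hnp : ¬ pr (σ C) := by
        intro hp
        obtain ⟨s, hs⟩ := hperiod C 1
        have h1 := hp s
        rw [show σ^[s] (σ C) = C from hs] at h1
        exact hC (e.injective (le_antisymm h1 (hi 1)))
      constructor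
      · rw [← hj]; exact horbit x x' hx hx' C ((hmoved C hC).1 hi) j
      · obtain ⟨s, hs⟩ := hperiod C 1
        have hCy : avg C.1 y = avg C.1 y' := by
          have h1 := horbit y y' hy hy' (σ C) ((hmoved _ hC2).2 hnp) s
          rwa [show σ^[s] (σ C) = C from hs] at h1
        rw [← hj]; exact horbit y y' hy hy' C hCy j
    have hsep : ∀ z z' : M, (∀ B : 𝔅, avg B.1 z = avg B.1 z') → z = z' := fun z z' hz =>
      mul_inv_eq_one.1 (hinj _ fun B => by
        show MonoidHom.mk' (avg B.1) (havgmul B.1) (z * z'⁻¹) = 1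
        rw [map_mul, map_inv]
        show avg B.1 z * (avg B.1 z')⁻¹ = 1
        rw [hz B, mul_inv_cancel])
    have e1 := hsep x x' fun B => (hall B).1
    have e2 := hsep y y' fun B => (hall B).2
    subst e1 e2
    rfl
  -- the whole coset
  rw [finprod_eq_prod_of_fintype]
  refine (Finset.prod_le_prod' fun a _ => hsq a).trans ?_
  rw [Finset.prod_comm]
  refine le_trans ?_ (Nat.pow_le_pow_left hprodle (Nat.card A))
  rw [← Finset.prod_pow]
  refine Finset.prod_le_prod' fun B _ => ?_
  by_cases hB : σ B = B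
  swap
  · simp only [w, if_neg hB, Finset.prod_const, Finset.card_univ, Nat.card_eq_fintype_card]
    rfl
  simp only [w, if_pos hB]
  obtain ⟨a0, ha0, ha0B⟩ : ∃ a0 ∈ A, a0 ∉ B.1 := SetLike.exists_of_lt (lt_of_le_of_ne B.2.1 fun h0 => by
    have h1 := B.2.2
    rw [h0] at h1
    exact hq.one_lt.ne' ((Nat.mul_eq_left Nat.card_pos.ne').1 h1))
  set f : A → ℕ := fun a => Nat.card {x : fixSub B.1 // (h * (a : MulAut M)) (x : M) = x}
  have hpair : ∀ a : A, f a * f (a * ⟨a0, ha0⟩) ≤ Nat.card (fixSub B.1) := by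
    intro a
    rw [← Nat.card_prod]
    refine Nat.card_le_card_of_injective (fun t => t.1.1 * t.2.1) ?_
    rintro ⟨⟨x, hx⟩, ⟨y, hy⟩⟩ ⟨⟨x', hx'⟩, ⟨y', hy'⟩⟩ hxy
    have hq' : (x : M) * (x' : M)⁻¹ = (y' : M) * (y : M)⁻¹ := by
      have h1 := congrArg Subtype.val hxy
      simp only [Subgroup.coe_mul] at h1
      rw [mul_inv_eq_iff_eq_mul, mul_right_comm, eq_mul_inv_iff_mul_eq, h1, mul_comm]
    have hz : (x : M) * (x' : M)⁻¹ = 1 := by
      set z := (x : M) * (x' : M)⁻¹
      have hgz : (h * (a : MulAut M)) z = z := by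
        show (h * (a : MulAut M)) ((x : M) * (x' : M)⁻¹) = _
        rw [map_mul, map_inv, hx, hx']
      have hgz' : (h * ((a * ⟨a0, ha0⟩ : A) : MulAut M)) z = z := by
        rw [hq', map_mul, map_inv, hy, hy']
      rw [Subgroup.coe_mul, ← mul_assoc, happ] at hgz'
      have h0 : a0 z = z := (h * (a : MulAut M)).injective (hgz'.trans hgz.symm)
      have hzB : z ∈ fixSub B.1 := mul_mem x.2 (inv_mem x'.2)
      refine (Subgroup.mem_bot).1 (hfix ▸ ?_)
      intro b hb
      let Cz : Subgroup (MulAut M) :=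
        { carrier := {c | c ∈ A ∧ c z = z}
          one_mem' := ⟨one_mem A, rfl⟩
          mul_mem' := fun {c d} hc hd => ⟨mul_mem hc.1 hd.1, by rw [happ, hd.2, hc.2]⟩
          inv_mem' := fun {c} hc => ⟨inv_mem hc.1, by
            conv_lhs => rw [← hc.2]
            rw [← happ, inv_mul_cancel]; rfl⟩ }
      have hCz : Cz = A := htop B Cz (fun c hc => ⟨B.2.1 hc, hzB c hc⟩) (fun c hc => hc.1)
        fun h1 => ha0B (h1 ▸ (⟨ha0, h0⟩ : a0 ∈ Cz))
      exact (hCz.symm ▸ hb : b ∈ Cz).2
    have e1 : x = x' := Subtype.ext (mul_inv_eq_one.1 hz)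
    have e2 : y = y' := Subtype.ext (mul_inv_eq_one.1 (hq'.symm.trans hz)).symm
    subst e1 e2
    rfl
  calc ∏ a : A, f a ^ 2 = ∏ a : A, f a * f (a * ⟨a0, ha0⟩) := by
        rw [Finset.prod_pow, Finset.prod_mul_distrib, sq]
        exact congrArg _ (Fintype.prod_equiv (Equiv.mulRight (⟨a0, ha0⟩ : A)) _ _ fun a => rfl).symm
    _ ≤ ∏ _a : A, Nat.card (fixSub B.1) := Finset.prod_le_prod' fun a _ => hpair a
    _ = Nat.card (fixSub B.1) ^ Nat.card A := by
        rw [Finset.prod_const, Finset.card_univ]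
        exact congrArg _ (Nat.card_eq_fintype_card (α := A)).symm

/-- average fixed points on an irreducible module of a solvable group -/
theorem prod_fixed_le {p : ℕ} [Fact p.Prime] (hM : IsPGroup p M) {K : Type v} [Group K] [Fintype K]
    [Group.IsSolvable K] (φ : K →* MulAut M)
    (hirr : ∀ U : Subgroup M, (∀ k, ∀ x ∈ U, φ k x ∈ U) → U = ⊥ ∨ U = ⊤) (hnt : ∃ k x, φ k x ≠ x) :
    (∏ k : K, Nat.card {x : M // φ k x = x} ^ 2) ≤ Nat.card M ^ Nat.card K := by
  classical
  haveI : Finite (MulAut M) := Finite.of_injective (fun f : MulAut M => (f : M → M)) DFunLike.coe_injective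
  haveI : Group.IsSolvable φ.range := Group.isSolvable_of_surjective φ.rangeRestrict_surjective
  have htop : (⊤ : Subgroup φ.range) ≠ ⊥ := fun h0 => by
    obtain ⟨k, x, hk⟩ := hnt
    have h1 : (⟨φ k, k, rfl⟩ : φ.range) ∈ (⊤ : Subgroup φ.range) := Subgroup.mem_top _
    rw [h0, Subgroup.mem_bot] at h1
    exact hk (by rw [show φ k = 1 from congrArg Subtype.val h1]; rfl)
  obtain ⟨q, Ab, hq, hAbn, -, hAb0, hAbc, hAbq⟩ := exists_normal_elementary_sub htop
  haveI := Fact.mk hq
  let A : Subgroup (MulAut M) := Ab.map φ.range.subtype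
  have hAc : ∀ a ∈ A, ∀ b ∈ A, a * b = b * a := by
    rintro _ ⟨a, ha, rfl⟩ _ ⟨b, hb, rfl⟩
    exact congrArg Subtype.val (hAbc a ha b hb)
  have hAq : ∀ a ∈ A, a ^ q = 1 := by
    rintro _ ⟨a, ha, rfl⟩
    show (a : MulAut M) ^ q = 1
    exact congrArg Subtype.val (hAbq a ha)
  have hAn : ∀ k, ∀ a ∈ A, φ k * a * (φ k)⁻¹ ∈ A := by
    rintro k _ ⟨a, ha, rfl⟩
    exact ⟨_, hAbn.conj_mem a ha ⟨φ k, k, rfl⟩, rfl⟩
  have hAr : ∀ a ∈ A, ∃ k, φ k = a := by
    rintro _ ⟨a, -, rfl⟩
    exact a.2
  have hinvk : ∀ k, ∀ x ∈ fixSub A, φ k x ∈ fixSub A := by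
    intro k x hx a ha
    have h1 := hx _ (hAn k⁻¹ a ha)
    rw [map_inv, inv_inv] at h1
    calc a (φ k x) = φ k (((φ k)⁻¹ * a * φ k) x) := by
          show a (φ k x) = φ k ((φ k)⁻¹ (a (φ k x)))
          exact ((φ k).apply_symm_apply _).symm
      _ = φ k x := by rw [h1]
  have hfix : fixSub A = ⊥ := (hirr _ hinvk).resolve_right fun h0 => hAb0 ((Subgroup.eq_bot_iff_forall _).2
    fun a ha => Subtype.ext (MulEquiv.ext fun x =>
      (h0 ▸ Subgroup.mem_top x : x ∈ fixSub A) _ ⟨a, ha, rfl⟩))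
  have hApow : IsPGroup q A := fun a => ⟨1, Subtype.ext (by rw [pow_one]; simpa using hAq a a.2)⟩
  have hM1 : (⊤ : Subgroup M) ≠ ⊥ := fun h0 => by
    obtain ⟨k, x, hk⟩ := hnt
    have hx : x ∈ (⊤ : Subgroup M) := Subgroup.mem_top x
    rw [h0, Subgroup.mem_bot] at hx
    exact hk (by rw [hx, map_one])
  have hqp : q ≠ p := by
    rintro rfl
    have hdvd : q ∣ Nat.card M := by
      obtain ⟨n, hn⟩ := IsPGroup.iff_card.1 hM
      rcases Nat.eq_zero_or_pos n with rfl | h0
      · rw [pow_zero] at hn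
        exact absurd ((Subgroup.eq_bot_iff_forall _).2 fun x _ => by
          haveI := (Nat.card_eq_one_iff_unique.1 hn).1
          exact Subsingleton.elim x 1) hM1
      · rw [hn]; exact dvd_pow_self q h0.ne'
    letI : MulAction A M :=
      { smul := fun a x => (a : MulAut M) x, one_smul := fun x => rfl, mul_smul := fun a b x => rfl }
    obtain ⟨y, hy, hy1⟩ := hApow.exists_fixed_point_of_prime_dvd_card_of_fixed_point (a := (1 : M)) M hdvd
      fun a => map_one (a : MulAut M)
    have hyf : y ∈ fixSub A := fun a ha => hy ⟨a, ha⟩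
    rw [hfix, Subgroup.mem_bot] at hyf
    exact hy1 hyf.symm
  have hcop : q.Coprime (Nat.card M) := by
    obtain ⟨n, hn⟩ := IsPGroup.iff_card.1 hM
    rw [hn]
    exact ((Nat.coprime_primes hq Fact.out).2 hqp).pow_right n
  letI := Fintype.ofFinite A
  choose s hs using fun a : A => hAr a a.2
  have hcoset : ∀ k, (∏ a : A, Nat.card {x : M // φ (k * s a) x = x} ^ 2) ≤ Nat.card M ^ Nat.card A := by
    intro k
    have h1 := coset_prod_le A hAc hq hAq hcop hfix (φ k) (hAn k)
    rw [finprod_eq_prod_of_fintype] at h1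
    simpa [map_mul, hs] using h1
  have h2 := Finset.prod_le_prod' (s := Finset.univ) fun k _ => hcoset k
  rw [Finset.prod_comm, Finset.prod_congr rfl (g := fun _ => ∏ k : K, Nat.card {x : M // φ k x = x} ^ 2)
    fun a _ => Fintype.prod_equiv (Equiv.mulRight (s a)) (fun k => Nat.card {x : M // φ (k * s a) x = x} ^ 2)
      (fun k => Nat.card {x : M // φ k x = x} ^ 2) fun k => rfl,
    Finset.prod_const, Finset.prod_const, Finset.card_univ, Finset.card_univ,
    ← Nat.card_eq_fintype_card, ← Nat.card_eq_fintype_card, ← pow_mul, mul_comm (Nat.card A),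
    pow_mul] at h2
  exact (Nat.pow_le_pow_iff_left Nat.card_pos.ne').1 h2

variable {G : Type u} [Group G]

/-- elements commuting with `g` modulo `L` -/
def modCent (L : Subgroup G) [L.Normal] (g : G) : Subgroup G :=
  (Subgroup.centralizer ({(g : G ⧸ L)} : Set (G ⧸ L))).comap (QuotientGroup.mk' L)

theorem relIndex_ne [Finite G] (H K : Subgroup G) : H.relIndex K ≠ 0 :=
  Subgroup.index_ne_zero_of_finite (H := H.subgroupOf K)

theorem relIndex_dvd_of_normal {C V D : Subgroup G} [Finite G] [V.Normal] (hC : C ≤ D) (hV : V ≤ D) :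
    C.relIndex V ∣ C.relIndex D := by
  rw [← Subgroup.relIndex_mul_relIndex C (C ⊔ V) D le_sup_left (sup_le hC hV)]
  refine Dvd.dvd.mul_right (dvd_of_eq ?_) _
  have h1 := Subgroup.relIndex_mul_relIndex (C ⊓ V) V (C ⊔ V) inf_le_right le_sup_right
  have h2 := Subgroup.relIndex_mul_relIndex (C ⊓ V) C (C ⊔ V) inf_le_left le_sup_left
  rw [Subgroup.inf_relIndex_right, Subgroup.relIndex_sup_right] at h1
  rw [Subgroup.inf_relIndex_left, ← h1, mul_comm (C.relIndex V)] at h2
  exact (Nat.eq_of_mul_eq_mul_left (Nat.pos_of_ne_zero (relIndex_ne _ _)) h2).symm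

/-- one chief factor -/
theorem step [Fintype G] [Group.IsSolvable G] (p : ℕ) [Fact p.Prime] (L : Subgroup G) [L.Normal]
    (hL : L ≠ ⊤) : ∃ M : Subgroup G, ∃ _ : M.Normal, L < M ∧ ∀ k : ℕ, k ^ 2 ∣ L.relIndex M →
      (∑ g : G, (modCent M g).index.factorization p) + Nat.card G * k.factorization p ≤
        ∑ g : G, (modCent L g).index.factorization p := by
  classical
  set Q := G ⧸ L
  set π := QuotientGroup.mk' L with hπ
  have hπs : Function.Surjective π := QuotientGroup.mk'_surjective L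
  haveI : Group.IsSolvable Q := Group.isSolvable_of_surjective hπs
  have hnt : (⊤ : Subgroup Q) ≠ ⊥ := fun h0 => hL ((Subgroup.eq_top_iff' L).2 fun g => by
    have hg : π g ∈ (⊤ : Subgroup Q) := Subgroup.mem_top _
    rw [h0, Subgroup.mem_bot] at hg
    exact (QuotientGroup.eq_one_iff g).1 hg)
  obtain ⟨r, E, hr, hEn, -, hE0, hEc, hEr⟩ := exists_normal_elementary_sub hnt
  haveI := Fact.mk hr
  obtain ⟨V, hVE, hV⟩ := exists_minimal_le_of_wellFoundedLT
    (fun X : Subgroup Q => X ≠ ⊥ ∧ X.Normal) E ⟨hE0, hEn⟩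
  obtain ⟨⟨hV0, hVn⟩, hVmin⟩ := hV
  haveI := hVn
  haveI : (V.comap π).Normal := hVn.comap π
  have hker : π.ker = L := QuotientGroup.ker_mk' L
  have hLM : L ≤ V.comap π := fun l hl => by
    show π l ∈ V
    rw [show π l = 1 from (QuotientGroup.eq_one_iff l).2 hl]; exact one_mem V
  have hmap : (V.comap π).map π = V := Subgroup.map_comap_eq_self_of_surjective hπs V
  have hlt : L < V.comap π := lt_of_le_of_ne hLM fun h0 => hV0 (by
    rw [← hmap, ← h0, Subgroup.map_eq_bot_iff, hker])
  refine ⟨V.comap π, inferInstance, hlt, fun k hk => ?_⟩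
  have hrel : L.relIndex (V.comap π) = Nat.card V := by
    rw [← congrArg (fun W : Subgroup G => W.relIndex (V.comap π)) hker, Subgroup.relIndex_ker, hmap]
  rw [hrel] at hk
  -- the centralizer in the factor
  have hC : ∀ g, (modCent L g).index = (Subgroup.centralizer ({π g} : Set Q)).index := fun g =>
    Subgroup.index_comap_of_surjective _ hπs
  have hidx : ∀ g, (modCent (V.comap π) g).index *
      (Subgroup.centralizer ({π g} : Set Q)).relIndex V ∣ (modCent L g).index := by
    intro g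
    let D : Subgroup Q := (Subgroup.centralizer ({((π g : Q) : Q ⧸ V)} : Set (Q ⧸ V))).comap (QuotientGroup.mk' V)
    have hD : modCent (V.comap π) g = D.comap π := by
      ext x
      simp only [modCent, D, Subgroup.mem_comap, Subgroup.mem_centralizer_singleton_iff,
        QuotientGroup.mk'_apply, ← QuotientGroup.mk_mul, ← map_mul]
      rw [QuotientGroup.eq, QuotientGroup.eq, Subgroup.mem_comap, map_mul, map_inv]
    have hCD : Subgroup.centralizer ({π g} : Set Q) ≤ D := by
      intro x hx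
      simp only [D, Subgroup.mem_comap, Subgroup.mem_centralizer_singleton_iff, QuotientGroup.mk'_apply,
        ← QuotientGroup.mk_mul] at hx ⊢
      rw [hx]
    have hVD : V ≤ D := by
      intro x hx
      simp only [D, Subgroup.mem_comap, Subgroup.mem_centralizer_singleton_iff, QuotientGroup.mk'_apply]
      rw [(QuotientGroup.eq_one_iff x).2 hx, one_mul, mul_one]
    rw [hD, Subgroup.index_comap_of_surjective _ hπs, hC g, ← Subgroup.relIndex_mul_index hCD, mul_comm]
    exact Nat.mul_dvd_mul (relIndex_dvd_of_normal hCD hVD) dvd_rfl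
  have hne : ∀ (S : Subgroup G), S.index ≠ 0 := fun S => Subgroup.index_ne_zero_of_finite
  have hfac : ∀ g, (modCent (V.comap π) g).index.factorization p +
      ((Subgroup.centralizer ({π g} : Set Q)).relIndex V).factorization p ≤ (modCent L g).index.factorization p := by
    intro g
    have h1 := (Nat.factorization_le_iff_dvd (mul_ne_zero (hne _) (relIndex_ne _ _)) (hne _)).2 (hidx g)
    rw [Nat.factorization_mul (hne _) (relIndex_ne _ _)] at h1
    exact h1 p
  refine le_trans ?_ (Finset.sum_le_sum fun g _ => hfac g)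
  rw [Finset.sum_add_distrib]
  refine Nat.add_le_add_left ?_ _
  -- the size of the factor
  have hVr : IsPGroup r V := fun x => ⟨1, Subtype.ext (by simpa using hEr x (hVE x.2))⟩
  obtain ⟨d, hd⟩ := IsPGroup.iff_card.1 hVr
  rw [hd] at hk
  by_cases hk0 : k.factorization p = 0
  · rw [hk0, mul_zero]; exact Nat.zero_le _
  have hpk : p ∣ k := (Nat.Prime.dvd_iff_one_le_factorization Fact.out (by rintro rfl; simp at hk0)).2
    (Nat.pos_of_ne_zero hk0)
  obtain rfl : r = p := ((Nat.prime_dvd_prime_iff_eq Fact.out hr).1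
    ((Fact.out : p.Prime).dvd_of_dvd_pow ((hpk.trans (dvd_pow_self k two_ne_zero)).trans hk))).symm
  obtain ⟨x, -, rfl⟩ := (Nat.dvd_prime_pow hr).1 ((dvd_pow_self k two_ne_zero).trans hk)
  rw [← pow_mul, Nat.pow_dvd_pow_iff_le_right hr.one_lt] at hk
  rw [Nat.Prime.factorization_pow hr, Finsupp.single_eq_same] at hk0 ⊢
  -- noncentral
  letI : CommGroup V :=
    { (inferInstance : Group V) with mul_comm := fun a b => Subtype.ext (hEc a (hVE a.2) b (hVE b.2)) }
  let φ : G →* MulAut V := (MulAut.conjNormal : Q →* MulAut V).comp π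
  have hφ : ∀ g (v : V), ((φ g v : V) : Q) = π g * v * (π g)⁻¹ := fun g v => rfl
  have hirr : ∀ U : Subgroup V, (∀ g, ∀ v ∈ U, φ g v ∈ U) → U = ⊥ ∨ U = ⊤ := by
    intro U hU
    have hUn : (U.map V.subtype).Normal := ⟨fun u hu y => by
      obtain ⟨g, rfl⟩ := hπs y
      obtain ⟨v, hv, rfl⟩ := hu
      exact ⟨φ g v, hU g v hv, hφ g v⟩⟩
    by_cases h0 : U.map V.subtype = ⊥
    · exact Or.inl ((Subgroup.map_eq_bot_iff_of_injective _ V.subtype_injective).1 h0)
    · refine Or.inr (eq_top_iff.2 fun v _ => ?_)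
      obtain ⟨v', hv', he⟩ := hVmin ⟨h0, hUn⟩ (Subgroup.map_subtype_le U) v.2
      rwa [← Subtype.ext he]
  have hnt' : ∃ g v, φ g v ≠ v := by
    by_contra hall
    push Not at hall
    haveI : Nontrivial V := (Subgroup.nontrivial_iff_ne_bot V).2 hV0
    obtain ⟨v, hv⟩ := exists_ne (1 : V)
    have h1 := (hirr (Subgroup.zpowers v) fun g w hw => by rwa [hall g w]).resolve_left
      fun h0 => hv (Subgroup.zpowers_eq_bot.1 h0)
    have h2 : Nat.card V = orderOf v := by rw [← Nat.card_zpowers, h1, Subgroup.card_top]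
    have h3 : orderOf v ∣ r := orderOf_dvd_of_pow_eq_one (Subtype.ext (by simpa using hEr v (hVE v.2)))
    rw [← h2, hd] at h3
    have h4 := Nat.le_of_dvd hr.pos h3
    nth_rewrite 2 [← pow_one r] at h4
    have := (Nat.pow_le_pow_iff_right hr.one_lt).1 h4
    omega
  have hprod := prod_fixed_le hVr φ hirr hnt'
  have hpow : ∀ g : G, ∃ m, Nat.card {v : V // φ g v = v} = r ^ m ∧
      ((Subgroup.centralizer ({π g} : Set Q)).relIndex V).factorization r + m = d := by
    intro g
    set C := Subgroup.centralizer ({π g} : Set Q)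
    have h1 := (C.subgroupOf V).index_mul_card
    rw [hd] at h1
    have e : {v : V // φ g v = v} ≃ C.subgroupOf V := Equiv.subtypeEquivRight fun v => by
      rw [Subgroup.mem_subgroupOf, Subgroup.mem_centralizer_singleton_iff, Subtype.ext_iff, hφ,
        mul_inv_eq_iff_eq_mul, eq_comm]
    rw [Nat.card_congr e]
    obtain ⟨i, -, hi⟩ := (Nat.dvd_prime_pow hr).1 (Dvd.intro _ h1)
    obtain ⟨m, -, hm⟩ := (Nat.dvd_prime_pow hr).1 (Dvd.intro_left _ h1)
    rw [hi, hm, ← pow_add] at h1
    refine ⟨m, hm, ?_⟩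
    show (C.subgroupOf V).index.factorization r + m = d
    rw [hi, Nat.Prime.factorization_pow hr, Finsupp.single_eq_same, Nat.pow_right_injective hr.two_le h1]
  choose m hm hmd using hpow
  simp only [hm, ← pow_mul, Finset.prod_pow_eq_pow_sum, hd] at hprod
  rw [Nat.pow_le_pow_iff_right hr.one_lt, ← Finset.sum_mul] at hprod
  have hsum : (∑ g : G, ((Subgroup.centralizer ({π g} : Set Q)).relIndex V).factorization r) + ∑ g : G, m g =
      Nat.card G * d := by
    rw [← Finset.sum_add_distrib, Finset.sum_congr rfl fun g _ => hmd g, Finset.sum_const, Finset.card_univ,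
      smul_eq_mul, Nat.card_eq_fintype_card]
  have hxd : Nat.card G * (2 * x) ≤ Nat.card G * d := Nat.mul_le_mul_left _ (by omega)
  nlinarith

/-- The degree of a quasi-primitive character is bounded, at each prime, by the average class size. -/
theorem sum_bound [Fintype G] [Group.IsSolvable G] (χ : IrrCharacter G)
    (hqp : ∀ N : Subgroup G, N.Normal → ∃ (ϑ : N → ℂ) (e : ℕ),
      IsIrrCharacter N ϑ ∧ (fun n : N => (χ : G → ℂ) n) = (e : ℂ) • ϑ) (p : ℕ) [Fact p.Prime] :
    ∀ (n : ℕ) (L : Subgroup G) [L.Normal], L.index = n → ∀ (θ : L → ℂ) (e : ℕ), IsIrrCharacter L θ →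
      (fun x : L => (χ : G → ℂ) x) = (e : ℂ) • θ →
      ∃ k : ℕ, (χ : G → ℂ) 1 = (k : ℂ) * θ 1 ∧
        Nat.card G * k.factorization p ≤ ∑ g : G, (modCent L g).index.factorization p := by
  classical
  intro n
  induction n using Nat.strong_induction_on with
  | _ n ih =>
  intro L _ hn θ e hθ he
  by_cases hL : L = ⊤
  · subst hL
    refine ⟨1, ?_, by simp⟩
    haveI := Fintype.ofFinite (⊤ : Subgroup G)
    have htop : IsIrrCharacter (⊤ : Subgroup G) (fun x : (⊤ : Subgroup G) => (χ : G → ℂ) x) :=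
      isIrrCharacter_comp_surjective χ.2 (Subgroup.topEquiv : (⊤ : Subgroup G) ≃* G).toMonoidHom (MulEquiv.surjective _)
    have h1 := Berger.irr_smul_eq hθ htop (a := (e : ℂ)) (b := 1)
      (fun h0 => irr_one_ne_zero χ (by
        have := congrFun he 1
        simpa [h0] using this)) (by rw [one_smul]; exact he.symm)
    rw [Nat.cast_one, one_mul, congrFun h1 1]
    rfl
  obtain ⟨M, hMn, hLM, hstep⟩ := step p L hL
  obtain ⟨θ', e', hθ', he'⟩ := hqp M hMn
  obtain ⟨k0, hk0, hdvd⟩ := Berger.ratio_sq (χ : G → ℂ) χ.2 hqp L hθ he _ M hMn hLM.le rfl θ' e' hθ' he'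
  obtain ⟨k', hk', hsum⟩ := ih _ (hn ▸ Subgroup.index_strictAnti hLM) M rfl θ' e' hθ' he'
  have hk0' : k0 ≠ 0 := by
    rintro rfl
    rw [zero_pow two_ne_zero, zero_dvd_iff] at hdvd
    exact (relIndex_ne _ _) hdvd
  have hk'' : k' ≠ 0 := by
    rintro rfl
    rw [Nat.cast_zero, zero_mul] at hk'
    exact irr_one_ne_zero χ hk'
  refine ⟨k' * k0, by rw [hk', hk0, Nat.cast_mul, mul_assoc], ?_⟩
  rw [Nat.factorization_mul hk'' hk0', Finsupp.add_apply, mul_add]
  exact (Nat.add_le_add_right hsum _).trans (hstep k0 hdvd)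

/-- Some class size is divisible by the `p`-part of the degree. -/
theorem exists_class [Fintype G] [Group.IsSolvable G] (χ : IrrCharacter G)
    (hqp : ∀ N : Subgroup G, N.Normal → ∃ (ϑ : N → ℂ) (e : ℕ),
      IsIrrCharacter N ϑ ∧ (fun n : N => (χ : G → ℂ) n) = (e : ℂ) • ϑ) (p : ℕ) [Fact p.Prime] :
    ∃ g : G, (charDegree (χ : G → ℂ)).factorization p ≤
      (Subgroup.centralizer ({g} : Set G)).index.factorization p := by
  classical
  obtain ⟨θ, e, hθ, he⟩ := hqp ⊥ inferInstance
  obtain ⟨k, hk, hsum⟩ := sum_bound χ hqp p _ ⊥ rfl θ e hθ he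
  have hθ1 : θ 1 = 1 := by
    haveI := Fintype.ofFinite (⊥ : Subgroup G)
    exact degree_one_of_comm (fun x y : (⊥ : Subgroup G) => Subsingleton.elim _ _) ⟨θ, hθ⟩
  rw [hθ1, mul_one, CfsgLib.Block.ItoMichler.one_eq_cast χ, Nat.cast_inj] at hk
  obtain ⟨g, -, hg⟩ := Finset.exists_le_of_sum_le (s := (Finset.univ : Finset G)) Finset.univ_nonempty
    (f := fun _ => k.factorization p) (g := fun g => (modCent ⊥ g).index.factorization p)
    (by rw [Finset.sum_const, Finset.card_univ, smul_eq_mul, ← Nat.card_eq_fintype_card]; exact hsum)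
  refine ⟨g, ?_⟩
  rw [hk]
  refine hg.trans (le_of_eq (congrArg (fun H : Subgroup G => H.index.factorization p) ?_))
  ext x
  simp only [modCent, Subgroup.mem_comap, Subgroup.mem_centralizer_singleton_iff, QuotientGroup.mk'_apply,
    ← QuotientGroup.mk_mul]
  rw [QuotientGroup.eq, Subgroup.mem_bot, inv_mul_eq_one]

/-- A primitive character restricts homogeneously to every normal subgroup. -/
theorem homogeneous [Fintype G] (χ : IrrCharacter G)
    (hprim : ¬ ∃ (H : Subgroup G), H ≠ ⊤ ∧ ∃ θ : ↥H → ℂ, Cfsg.IsCharacter ↥H θ ∧ Cfsg.indFun H θ = (χ : G → ℂ))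
    (N : Subgroup G) (hN : N.Normal) :
    ∃ (ϑ : N → ℂ) (e : ℕ), IsIrrCharacter N ϑ ∧ (fun n : N => (χ : G → ℂ) n) = (e : ℂ) • ϑ := by
  classical
  haveI := hN
  haveI := Fintype.ofFinite N
  obtain ⟨φ, e, C, hφ, hφC, hφ0, -, -, hcard, hres⟩ := ChiefFactor.exists_orbit_form N χ.2
  obtain ⟨ψ, hψ, hind⟩ := exists_inertia_correspondent N χ.2 hφ hφ0
  have hT : inertia N φ = ⊤ := by
    by_contra h
    exact hprim ⟨inertia N φ, h, ψ, isCharacter_of_isIrr hψ, hind.symm⟩
  rw [hT, Subgroup.index_top] at hcard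
  obtain ⟨a, ha⟩ := Finset.card_eq_one.1 hcard
  rw [ha, Finset.mem_singleton] at hφC
  rw [ha, Finset.sum_singleton, ← hφC] at hres
  exact ⟨φ, e, hφ, hres⟩

end CfsgLib.Char.PrimClass
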