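import Cfsg.Agent.Lib.Char.SLTwoCusp

/-!
# Unipotent classes, centralizers, and classes of the Borel subgroup
-/

set_option autoImplicit false
set_option linter.unusedSectionVars false
set_option linter.style.haveILetI false

namespace CfsgLib.Char.TwoChars

open Matrix CfsgLib.Char

variable {F : Type*} [Field F] [Fintype F] [DecidableEq F]

local notation "M2" => Matrix (Fin 2) (Fin 2) F
local notation "G2" => Matrix.GeneralLinearGroup (Fin 2) F
local notation "S2" => Matrix.SpecialLinearGroup (Fin 2) F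
local notation "B1" =>
  (Subgroup.comap (Matrix.SpecialLinearGroup.toGL : S2 →* G2) (Cfsg.upperTriangularGL 2 F))
local notation "qF" => Fintype.card F

theorem sub_one_sq {M : M2} (ht : M.trace = 2) (hd : M.det = 1) : (M - 1) ^ 2 = 0 := by
  rw [Matrix.trace_fin_two] at ht
  rw [Matrix.det_fin_two] at hd
  rw [pow_two]
  ext i j
  fin_cases i <;> fin_cases j <;> simp [Matrix.mul_apply, Fin.sum_univ_two]
  · linear_combination M 0 0 * ht - hd
  · linear_combination M 0 1 * ht
  · linear_combination M 1 0 * ht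
  · linear_combination M 1 1 * ht - hd

theorem orderOf_eq_char_iff (p : ℕ) [hp : Fact p.Prime] [CharP F p] (g : S2) :
    orderOf g = p ↔ g ≠ 1 ∧ g.1.trace = 2 := by
  have hpow : ∀ N : M2, (N - 1) ^ p = N ^ p - 1 := fun N => by
    rw [sub_pow_char_of_commute (p := p) (Commute.one_right N), one_pow]
  constructor
  · intro h
    have h1 : g ≠ 1 := fun he => by rw [he, orderOf_one] at h; exact hp.out.ne_one h.symm
    refine ⟨h1, ?_⟩
    have hM : g.1 ^ p = 1 := by
      have := congrArg Subtype.val (pow_orderOf_eq_one g)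
      rwa [h, Matrix.SpecialLinearGroup.coe_pow, Matrix.SpecialLinearGroup.coe_one] at this
    have hn : IsNilpotent (g.1 - 1) := ⟨p, by rw [hpow, hM, sub_self]⟩
    have := (Matrix.isNilpotent_trace_of_isNilpotent hn).eq_zero
    rw [Matrix.trace_sub, Matrix.trace_one, Fintype.card_fin, sub_eq_zero] at this
    simpa using this
  · rintro ⟨h1, ht⟩
    refine orderOf_eq_prime (Subtype.ext ?_) h1
    rw [Matrix.SpecialLinearGroup.coe_pow, Matrix.SpecialLinearGroup.coe_one, ← sub_eq_zero, ← hpow,
      ← Nat.sub_add_cancel hp.out.two_le, pow_add, sub_one_sq ht g.det_coe, mul_zero]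

theorem not_scalar_of_trace_two (h2 : (2 : F) ≠ 0 ∨ ringChar F = 2) {g : S2} (h1 : g ≠ 1) (ht : g.1.trace = 2) :
    ¬ TwoClasses.IsScalar2 g.1 := by
  intro hs
  obtain ⟨ε, hε, hg⟩ := (TwoClasses.sl_scalar_iff g).1 hs
  refine h1 (Subtype.ext ?_)
  have hε1 : ε = 1 := by
    rcases h2 with h2 | h2
    · rw [hg, Matrix.trace_smul, Matrix.trace_one, Fintype.card_fin, smul_eq_mul] at ht
      exact mul_right_cancel₀ h2 (by simpa using ht)
    · haveI : CharP F 2 := ringChar.of_eq h2
      exact TwoClasses.sq_eq_one_char_two hε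
  rw [hg, hε1, one_smul]; rfl

theorem elS_one_trace (x : F) : (elS (1 : Fˣ) x).1.trace = 2 := by
  simp [elS_val, Matrix.trace_fin_two]; norm_num

theorem elS_one_ne {x : F} (hx : x ≠ 0) : elS (1 : Fˣ) x ≠ 1 := fun h =>
  hx (by simpa [elS_val] using congrArg (fun g : S2 => g.1 0 1) h)

theorem card_trace_two_ne (hF : Nat.card {x : S2 // x.1.trace = 2} = qF ^ 2) :
    Nat.card {x : S2 // x ≠ 1 ∧ x.1.trace = 2} = qF ^ 2 - 1 := by
  classical
  have h1 : (1 : S2).1.trace = 2 := by simp [Matrix.trace_fin_two]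
  rw [Nat.card_eq_fintype_card, Fintype.card_subtype] at hF ⊢
  rw [show (Finset.univ.filter fun x : S2 => x ≠ 1 ∧ x.1.trace = 2) =
      (Finset.univ.filter fun x : S2 => x.1.trace = 2).erase 1 from Finset.ext fun x => by simp,
    Finset.card_erase_of_mem (by simp [h1]), hF]

theorem card_trace_two_odd : Nat.card {x : S2 // x.1.trace = 2} = qF ^ 2 := by
  simpa using TwoClasses.card_trace_fibre_two (F := F) ⟨1, one_pow 2⟩

theorem ord_p_classes (hodd : Odd qF) (p : ℕ) [Fact p.Prime] [CharP F p] :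
    Nat.card {C : ConjClasses S2 // ∃ g : S2, orderOf g = p ∧ ConjClasses.mk g = C} = 2 ∧
    ∀ g : S2, orderOf g = p → Nat.card (ConjClasses.mk g).carrier = (qF ^ 2 - 1) / 2 := by
  classical
  obtain ⟨ν, hν⟩ := FiniteField.exists_nonsquare (TwoClasses.ringChar_ne_two_of_odd hodd)
  obtain ⟨ν, rfl⟩ : ∃ u : Fˣ, (u : F) = ν := ⟨Units.mk0 ν fun h => hν (h ▸ IsSquare.zero), rfl⟩
  set u1 := elS (1 : Fˣ) (1 : F)
  set u2 := elS (1 : Fˣ) (ν : F)
  have h2 := TwoClasses.two_ne_zero_of_odd hodd
  have hne : ¬ IsConj u1 u2 := fun h => hν (by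
    have := (elS_one_isConj_iff hodd one_ne_zero ν.ne_zero).1 h
    rwa [one_mul] at this)
  have hcase : ∀ g : S2, orderOf g = p → IsConj g u1 ∨ IsConj g u2 := by
    intro g hg
    obtain ⟨h1, ht⟩ := (orderOf_eq_char_iff p g).1 hg
    have hns := not_scalar_of_trace_two (Or.inl h2) h1 ht
    obtain ⟨ε, h⟩ := TwoClasses.exists_jor hodd hν hns
      ((TwoClasses.dsc_eq_zero_iff hodd _).2 ⟨⟨1, one_pow 2⟩, by rw [ht, mul_one]⟩)
    have hε : ε = ⟨1, one_pow 2⟩ := by
      rcases h with h | h <;>
        · have := (TwoClasses.sl_conj_spec h).1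
          rw [ht, TwoClasses.jor_trace] at this
          exact Subtype.ext (mul_left_cancel₀ h2 (this.symm.trans (mul_one 2).symm))
    subst hε
    rw [← elS_one_eq_jor, ← elS_one_eq_jor] at h
    exact h
  have hu : ∀ x : F, x ≠ 0 → orderOf (elS (1 : Fˣ) x) = p := fun x hx =>
    (orderOf_eq_char_iff p _).2 ⟨elS_one_ne hx, elS_one_trace x⟩
  have hcl : ∀ g : S2, Nat.card (ConjClasses.mk g).carrier = Nat.card {x : S2 // IsConj g x} := fun g =>
    Nat.card_congr (Equiv.subtypeEquivRight fun x =>
      ⟨fun h => (ConjClasses.mk_eq_mk_iff_isConj.1 (ConjClasses.mem_carrier_iff_mk_eq.1 h)).symm,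
        fun h => ConjClasses.mem_carrier_iff_mk_eq.2 (ConjClasses.mk_eq_mk_iff_isConj.2 h.symm)⟩)
  have hswap : Nat.card {x : S2 // IsConj u1 x} = Nat.card {x : S2 // IsConj u2 x} :=
    Nat.card_congr (Equiv.subtypeEquiv (sigS ν).toEquiv fun x => by
      have e : sigS ν u1 = u2 := by rw [sigS_elS, mul_one]
      refine ⟨fun h => e ▸ (sigS ν).toMonoidHom.map_isConj h, fun h => ?_⟩
      have h' := (sigS ν).symm.toMonoidHom.map_isConj (show IsConj (sigS ν u1) (sigS ν x) from e.symm ▸ h)
      simpa using h')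
  have hhalf : Nat.card {x : S2 // IsConj u1 x} + Nat.card {x : S2 // IsConj u2 x} = qF ^ 2 - 1 := by
    rw [← card_trace_two_ne card_trace_two_odd, ← Nat.card_sum]
    refine Nat.card_congr ((Equiv.ofBijective
      (Sum.elim (fun x : {x : S2 // IsConj u1 x} => (⟨x.1, ?_⟩ : {x : S2 // x ≠ 1 ∧ x.1.trace = 2}))
        (fun x : {x : S2 // IsConj u2 x} => (⟨x.1, ?_⟩ : {x : S2 // x ≠ 1 ∧ x.1.trace = 2})))) ⟨?_, ?_⟩)
    · exact ⟨fun h => elS_one_ne one_ne_zero (isConj_one_left.1 (h ▸ x.2)),
        (TwoClasses.sl_conj_spec x.2).1.symm.trans (elS_one_trace _)⟩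
    · exact ⟨fun h => elS_one_ne ν.ne_zero (isConj_one_left.1 (h ▸ x.2)),
        (TwoClasses.sl_conj_spec x.2).1.symm.trans (elS_one_trace _)⟩
    · rintro (a | a) (b | b) h <;> simp only [Sum.elim_inl, Sum.elim_inr, Subtype.mk.injEq] at h
      · rw [Subtype.ext h]
      · exact absurd (a.2.trans (h ▸ b.2.symm)) hne
      · exact absurd (b.2.trans (h.symm ▸ a.2.symm)) hne
      · rw [Subtype.ext h]
    · rintro ⟨x, hx⟩
      rcases hcase x ((orderOf_eq_char_iff p x).2 hx) with h | h
      · exact ⟨Sum.inl ⟨x, h.symm⟩, rfl⟩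
      · exact ⟨Sum.inr ⟨x, h.symm⟩, rfl⟩
  refine ⟨?_, fun g hg => ?_⟩
  · rw [Nat.card_eq_two_iff]
    refine ⟨⟨ConjClasses.mk u1, u1, hu 1 one_ne_zero, rfl⟩, ⟨ConjClasses.mk u2, u2, hu _ ν.ne_zero, rfl⟩, fun h =>
      hne (ConjClasses.mk_eq_mk_iff_isConj.1 (congrArg Subtype.val h)), Set.eq_univ_of_forall ?_⟩
    rintro ⟨C, g, hg, rfl⟩
    simp only [Set.mem_insert_iff, Set.mem_singleton_iff, Subtype.mk.injEq, ConjClasses.mk_eq_mk_iff_isConj]
    exact hcase g hg
  · rw [hcl]
    have hg' : Nat.card {x : S2 // IsConj g x} = Nat.card {x : S2 // IsConj u1 x} := by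
      rcases hcase g hg with h | h
      · exact Nat.card_congr (Equiv.subtypeEquivRight fun x => ⟨fun h' => h.symm.trans h', fun h' => h.trans h'⟩)
      · rw [hswap]
        exact Nat.card_congr (Equiv.subtypeEquivRight fun x => ⟨fun h' => h.symm.trans h', fun h' => h.trans h'⟩)
    omega

theorem involution_class_even [CharP F 2] (g h : S2) (hg : orderOf g = 2) (hh : orderOf h = 2) :
    IsConj g h ∧ Nat.card (ConjClasses.mk g).carrier = qF ^ 2 - 1 := by
  classical
  have hc : ringChar F = 2 := ringChar.eq F 2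
  have hsp : ∀ x : S2, orderOf x = 2 → ¬ TwoClasses.IsScalar2 x.1 ∧ x.1.trace = 2 := fun x hx =>
    have h := (orderOf_eq_char_iff 2 x).1 hx
    ⟨not_scalar_of_trace_two (Or.inr hc) h.1 h.2, h.2⟩
  have hconj : ∀ x y : S2, orderOf x = 2 → orderOf y = 2 → IsConj x y := fun x y hx hy =>
    TwoClasses.sl_isConj_of_trace (hsp x hx).1 (hsp y hy).1 ((hsp x hx).2.trans (hsp y hy).2.symm) (Or.inr hc)
  refine ⟨hconj g h hg hh, ?_⟩
  rw [← card_trace_two_ne card_trace_two_odd]
  refine Nat.card_congr (Equiv.subtypeEquivRight fun x => ?_)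
  rw [← orderOf_eq_char_iff 2, ConjClasses.mem_carrier_iff_mk_eq, ConjClasses.mk_eq_mk_iff_isConj]
  refine ⟨fun hx => ?_, fun hx => hconj x g hx hg⟩
  obtain ⟨c, rfl⟩ := isConj_iff.1 hx.symm
  rw [orderOf_eq_iff (by norm_num)] at hg ⊢
  refine ⟨?_, fun m hm hm0 he => hg.2 m hm hm0 ?_⟩
  · rw [conj_pow, hg.1]; group
  · rw [conj_pow] at he
    have := congrArg (fun y => c⁻¹ * y * c) he
    simpa [mul_assoc] using this

theorem centralizer_diag {g : G2} (h01 : g.1 0 1 = 0) (h10 : g.1 1 0 = 0) (h : g.1 0 0 ≠ g.1 1 1) :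
    Nat.card (Subgroup.centralizer ({g} : Set G2)) = (qF - 1) ^ 2 := by
  classical
  have key : ∀ x : G2, x ∈ Subgroup.centralizer ({g} : Set G2) ↔ x.1 0 1 = 0 ∧ x.1 1 0 = 0 := by
    intro x
    rw [Subgroup.mem_centralizer_singleton_iff]
    constructor
    · intro he
      have hM := congrArg Units.val he
      simp only [Units.val_mul] at hM
      have e01 := congrFun (congrFun hM 0) 1
      have e10 := congrFun (congrFun hM 1) 0
      simp [Matrix.mul_apply, Fin.sum_univ_two, h01, h10] at e01 e10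
      refine ⟨?_, ?_⟩
      · exact (mul_eq_zero.1 (show (g.1 1 1 - g.1 0 0) * x.1 0 1 = 0 by
          first | linear_combination e01 | linear_combination -e01)).resolve_left (sub_ne_zero.2 h.symm)
      · exact (mul_eq_zero.1 (show (g.1 1 1 - g.1 0 0) * x.1 1 0 = 0 by
          first | linear_combination e10 | linear_combination -e10)).resolve_left (sub_ne_zero.2 h.symm)
    · rintro ⟨a, b⟩
      apply Units.ext
      simp only [Units.val_mul]
      ext i j
      fin_cases i <;> fin_cases j <;> simp [Matrix.mul_apply, Fin.sum_univ_two, h01, h10, a, b] <;> ring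
  have e : Subgroup.centralizer ({g} : Set G2) ≃ Fˣ × Fˣ :=
    { toFun := fun x => (Units.mk0 (x.1.1 0 0) (fun h0 => by
          have := ((Matrix.isUnit_iff_isUnit_det _).1 x.1.isUnit).ne_zero
          rw [Matrix.det_fin_two, h0, ((key x.1).1 x.2).1] at this; simp at this),
        Units.mk0 (x.1.1 1 1) (fun h0 => by
          have := ((Matrix.isUnit_iff_isUnit_det _).1 x.1.isUnit).ne_zero
          rw [Matrix.det_fin_two, h0, ((key x.1).1 x.2).1] at this; simp at this))
      invFun := fun p => ⟨(mkB p.1 p.2 0).1, (key _).2 (by simp [mkB_val])⟩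
      left_inv := fun x => Subtype.ext (Units.ext (by
        rw [mkB_val]
        obtain ⟨a, b⟩ := (key x.1).1 x.2
        ext i j; fin_cases i <;> fin_cases j <;> simp [a, b]))
      right_inv := fun p => by simp [mkB_val] }
  rw [Nat.card_congr e, Nat.card_prod, Nat.card_units, Nat.card_eq_fintype_card, pow_two]

theorem centralizer_ell {g : G2} (h : TwoClasses.IsEll g.1) :
    Nat.card (Subgroup.centralizer ({g} : Set G2)) = qF ^ 2 - 1 := by
  classical
  have hg := TwoClasses.isEll_lower h
  let L : F × F → M2 := fun p => p.1 • (1 : M2) + p.2 • g.1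
  have hdet : ∀ p : F × F, p ≠ 0 → IsUnit (L p).det := by
    rintro ⟨a, b⟩ hp
    rw [isUnit_iff_ne_zero]
    intro h0
    simp [L, Matrix.det_fin_two] at h0
    by_cases hb : b = 0
    · subst hb
      simp at h0
      exact hp (by simp [h0])
    · refine TwoClasses.isEll_no_root h (-(a / b)) ?_
      rw [Matrix.trace_fin_two, Matrix.det_fin_two]
      field_simp
      linear_combination h0
  have hmem : ∀ p (hp : p ≠ 0), Matrix.GeneralLinearGroup.mk'' (L p) (hdet p hp) ∈
      Subgroup.centralizer ({g} : Set G2) := fun p hp => by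
    rw [Subgroup.mem_centralizer_singleton_iff]
    apply Units.ext
    show L p * g.1 = g.1 * L p
    simp [L, add_mul, mul_add]
  have hinj : ∀ p p' : F × F, L p = L p' → p = p' := by
    rintro ⟨a, b⟩ ⟨a', b'⟩ he
    have e10 := congrFun (congrFun he 1) 0
    have e00 := congrFun (congrFun he 0) 0
    simp [L, hg] at e10 e00
    subst e10
    simp at e00
    rw [e00]
  have hb : Function.Bijective (fun p : {p : F × F // p ≠ 0} =>
      (⟨_, hmem p.1 p.2⟩ : Subgroup.centralizer ({g} : Set G2))) := by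
    refine ⟨fun p p' he => Subtype.ext (hinj _ _ (congrArg (fun y => y.1.1) he)), fun x => ?_⟩
    have hM := congrArg Units.val (Subgroup.mem_centralizer_singleton_iff.1 x.2)
    simp only [Units.val_mul] at hM
    let b := x.1.1 1 0 / g.1 1 0
    let a := x.1.1 0 0 - b * g.1 0 0
    have hx : L (a, b) = x.1.1 := by
      have e00 := congrFun (congrFun hM 0) 0
      have e10 := congrFun (congrFun hM 1) 0
      simp [Matrix.mul_apply, Fin.sum_univ_two] at e00 e10
      ext i j
      fin_cases i <;> fin_cases j <;> simp [L, a, b] <;> field_simp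
      · linear_combination -e00
      · first | linear_combination e10 | linear_combination -e10
    refine ⟨⟨(a, b), fun h0 => ?_⟩, Subtype.ext (Units.ext hx)⟩
    have := ((Matrix.isUnit_iff_isUnit_det _).1 x.1.isUnit).ne_zero
    rw [← hx, h0] at this
    simp [L] at this
  rw [← Nat.card_eq_of_bijective _ hb, Nat.card_eq_fintype_card, Fintype.card_subtype_compl,
    Fintype.card_subtype_eq, Fintype.card_prod, pow_two]

theorem card_conjClasses_borelSL (hodd : Odd qF) : Nat.card (ConjClasses B1) = qF + 3 := by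
  classical
  have h := card_comm_eq_card_conjClasses_mul_card B1
  let good : Fˣ → F := fun a => ((a⁻¹ : Fˣ) : F) - (a : F)
  have e : {p : B1 × B1 // Commute p.1 p.2} ≃
      Σ ac : Fˣ × Fˣ, {xy : F × F // good ac.2 * xy.1 = good ac.1 * xy.2} :=
    ((borelSLEquiv.prodCongr borelSLEquiv).subtypeEquiv
      (p := fun p : (Fˣ × F) × Fˣ × F => good p.2.1 * p.1.2 = good p.1.1 * p.2.2) fun p => by
        obtain ⟨⟨a, x⟩, ⟨c, y⟩⟩ := p
        rw [commute_iff_eq, Subtype.ext_iff]
        refine Iff.trans ?_ Subtype.val_injective.eq_iff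
        change (((c⁻¹ : Fˣ) : F) - (c : F)) * x = (((a⁻¹ : Fˣ) : F) - (a : F)) * y ↔
          !![(a : F), x; 0, ((a⁻¹ : Fˣ) : F)] * !![(c : F), y; 0, ((c⁻¹ : Fˣ) : F)] =
            !![(c : F), y; 0, ((c⁻¹ : Fˣ) : F)] * !![(a : F), x; 0, ((a⁻¹ : Fˣ) : F)]
        constructor
        · intro he
          ext i j
          fin_cases i <;> fin_cases j <;> simp [Matrix.mul_apply, Fin.sum_univ_two] <;>
            first | ring1 | (simp only [Units.val_inv_eq_inv_val] at he; linear_combination he)
        · intro he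
          have := congrFun (congrFun he 0) 1
          simp [Matrix.mul_apply, Fin.sum_univ_two] at this
          simp
          linear_combination this).symm.trans
      { toFun := fun p => ⟨(p.1.1.1, p.1.2.1), (p.1.1.2, p.1.2.2), p.2⟩
        invFun := fun s => ⟨((s.1.1, s.2.1.1), (s.1.2, s.2.1.2)), s.2.2⟩
        left_inv := fun p => rfl
        right_inv := fun s => rfl }
  rw [Nat.card_congr e, card_borelSL, Nat.card_sigma] at h
  have hz : ∀ a : Fˣ, good a = 0 ↔ (a : F) ^ 2 = 1 := fun a => by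
    have ha : (a : F) * ((a⁻¹ : Fˣ) : F) = 1 := Units.mul_inv a
    refine ⟨fun h0 => ?_, fun h0 => ?_⟩
    · simp only [good] at h0
      linear_combination ha - (a : F) * h0
    · refine (mul_eq_zero.1 (show (a : F) * good a = 0 by simp only [good]; linear_combination ha - h0)).resolve_left a.ne_zero
  have hfib : ∀ ac : Fˣ × Fˣ, Nat.card {xy : F × F // good ac.2 * xy.1 = good ac.1 * xy.2} =
      if good ac.1 = 0 ∧ good ac.2 = 0 then qF ^ 2 else qF := by
    intro ac
    split_ifs with hh
    · rw [Nat.card_congr (Equiv.subtypeUnivEquiv fun xy => by simp [hh.1, hh.2]), Nat.card_prod,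
        Nat.card_eq_fintype_card, pow_two]
    · rw [← Nat.card_eq_fintype_card (α := F)]
      by_cases hA : good ac.1 = 0
      · have hC : good ac.2 ≠ 0 := fun h0 => hh ⟨hA, h0⟩
        exact Nat.card_congr
          { toFun := fun xy => xy.1.2
            invFun := fun y => ⟨(0, y), by simp [hA]⟩
            left_inv := fun xy => Subtype.ext (Prod.ext (by
              have : good ac.2 * xy.1.1 = 0 := by simpa [hA] using xy.2
              exact ((mul_eq_zero.1 this).resolve_left hC).symm) rfl)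
            right_inv := fun y => rfl }
      · exact Nat.card_congr
          { toFun := fun xy => xy.1.1
            invFun := fun x => ⟨(x, good ac.2 * x / good ac.1), by field_simp⟩
            left_inv := fun xy => Subtype.ext (Prod.ext rfl (by have := xy.2; field_simp; linear_combination this))
            right_inv := fun x => rfl }
  simp only [hfib, Finset.sum_ite, Finset.sum_const, smul_eq_mul] at h
  have h4 : (Finset.univ.filter fun ac : Fˣ × Fˣ => good ac.1 = 0 ∧ good ac.2 = 0).card = 4 := by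
    have hA : (Finset.univ.filter fun a : Fˣ => good a = 0).card = 2 := by
      rw [← TwoClasses.card_sq_one hodd, ← Fintype.card_subtype, ← Nat.card_eq_fintype_card]
      refine Nat.card_congr
        { toFun := fun a => ⟨(a.1 : F), (hz a.1).1 a.2⟩
          invFun := fun b => ⟨Units.mk0 b.1 (fun h0 => by have := b.2; rw [h0] at this; simp at this), (hz _).2 (by simpa using b.2)⟩
          left_inv := fun a => Subtype.ext (Units.ext rfl)
          right_inv := fun b => rfl }
    rw [← Finset.univ_product_univ, Finset.filter_product (fun a : Fˣ => good a = 0) (fun a : Fˣ => good a = 0),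
      Finset.card_product, hA]
  have hsum := Finset.card_filter_add_card_filter_not (s := (Finset.univ : Finset (Fˣ × Fˣ)))
    (fun ac : Fˣ × Fˣ => good ac.1 = 0 ∧ good ac.2 = 0)
  rw [Finset.card_univ, Fintype.card_prod, Fintype.card_units, h4] at hsum
  rw [h4] at h
  obtain ⟨x, hx⟩ : ∃ x, qF = x + 1 := ⟨qF - 1, (Nat.sub_add_cancel Fintype.card_pos).symm⟩
  have hx0 : 0 < x := by have : 2 ≤ qF := Fintype.one_lt_card; omega
  rw [hx] at h hsum ⊢
  simp only [Nat.add_sub_cancel] at h hsum
  refine Nat.eq_of_mul_eq_mul_right (show 0 < x * (x + 1) by positivity) ?_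
  rw [← h]
  nlinarith

end CfsgLib.Char.TwoChars
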