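import Cfsg.Agent.Lib.Char.PslSquareColumns
import Cfsg.Agent.Lib.Char.Integrality
import Cfsg.Agent.Lib.Perm.Zassenhaus.SimpleEven

/-!
# A group with the degrees of `PSL(2, p²)` is `PSL(2, p²)`
-/

set_option autoImplicit false
set_option linter.unusedSectionVars false
set_option linter.style.haveILetI false

namespace CfsgLib.Char.PslSq

open Cfsg MulAction

universe u

variable {G : Type u} [Group G] [Finite G] {p q : ℕ} [Fact p.Prime]

theorem pow_q_iff (hq : q = p ^ 2) (D : Degs G q) {x : G} :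
    x ^ q = 1 ↔ IsPGroup p (Subgroup.zpowers x) := by
  have hp := (Fact.out : p.Prime)
  constructor
  · intro h
    refine IsPGroup.iff_orderOf.2 fun y => ?_
    obtain ⟨k, -, hk⟩ := (Nat.dvd_prime_pow hp).1
      (((orderOf_dvd_natCard y).trans (Nat.card_zpowers x).dvd).trans (hq ▸ orderOf_dvd_of_pow_eq_one h))
    exact ⟨k, hk⟩
  · intro h
    obtain ⟨P, hP⟩ := h.exists_le_sylow
    have hPc : Nat.card ↥(P : Subgroup G) ∣ q := by
      obtain ⟨k, hk⟩ := P.2.exists_card_eq
      have hd : Nat.card ↥(P : Subgroup G) ∣ q * ((q - 1) * ((q + 1) / 2)) := by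
        rw [← mul_assoc, ← card_eq D]; exact Subgroup.card_subgroup_dvd_card _
      refine Nat.Coprime.dvd_of_dvd_mul_right ?_ hd
      obtain ⟨c1, c2, -⟩ := coprimes D
      have : p.Coprime ((q - 1) * ((q + 1) / 2)) := by
        refine (Nat.Coprime.mul_right ?_ ?_) <;>
          [exact Nat.Coprime.coprime_dvd_left (hq ▸ dvd_pow_self p two_ne_zero) c1;
           exact Nat.Coprime.coprime_dvd_left (hq ▸ dvd_pow_self p two_ne_zero) c2]
      exact hk ▸ this.pow_left k
    refine orderOf_dvd_iff_pow_eq_one.1 ((Nat.card_zpowers x ▸ Subgroup.card_dvd_of_le hP).trans hPc)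

theorem sylow_card (hq : q = p ^ 2) (D : Degs G q) (P : Sylow p G) : Nat.card ↥(P : Subgroup G) = q := by
  have hp := (Fact.out : p.Prime)
  obtain ⟨c1, c2, -⟩ := coprimes D
  have h0 : q ≠ 0 := by have := D.q9; omega
  rw [P.card_eq_multiplicity, card_eq D, mul_assoc, Nat.factorization_mul h0 (fun e => by
    have := (half_spec D).2.2
    rcases Nat.mul_eq_zero.1 e with e | e <;> have := D.q9 <;> omega), Finsupp.add_apply,
    Nat.factorization_eq_zero_of_not_dvd (n := (q - 1) * ((q + 1) / 2)) (fun h => ?_), add_zero, hq,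
    Nat.factorization_pow, Finsupp.smul_apply, hp.factorization_self, smul_eq_mul, mul_one]
  have hpq : p ∣ q := hq ▸ dvd_pow_self p two_ne_zero
  rcases hp.dvd_mul.1 h with h | h
  · exact Nat.not_coprime_of_dvd_of_dvd hp.one_lt hpq h c1
  · exact Nat.not_coprime_of_dvd_of_dvd hp.one_lt hpq h c2

theorem sylow_cent (hq : q = p ^ 2) (D : Degs G q) (P : Sylow p G) {x : G} (hx : x ∈ (P : Subgroup G))
    (hx1 : x ≠ 1) : Subgroup.centralizer ({x} : Set G) = (P : Subgroup G) := by
  have hp := (Fact.out : p.Prime)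
  have hcard := sylow_card hq D P
  have hle : (P : Subgroup G) ≤ Subgroup.centralizer ({x} : Set G) := fun y hy => by
    have hc := IsPGroup.commutative_of_card_eq_prime_sq (G := ↥(P : Subgroup G)) (p := p) (by rw [hcard, hq])
    exact Subgroup.mem_centralizer_singleton_iff.2 (congrArg Subtype.val (hc ⟨y, hy⟩ ⟨x, hx⟩))
  obtain ⟨r, hr, hrx⟩ := Nat.exists_prime_and_dvd (n := orderOf x) (fun e => hx1 (orderOf_eq_one_iff.1 e))
  have hox : orderOf x ∣ q := hcard ▸ (Subgroup.orderOf_mk x hx ▸ orderOf_dvd_natCard _)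
  refine (Subgroup.eq_of_le_of_card_ge hle ?_).symm
  rw [hcard]
  exact Nat.le_of_dvd (by have := D.q9; omega) ((cent_dvd D hr hrx).1 (hrx.trans hox))

theorem sylow_eq (hq : q = p ^ 2) (D : Degs G q) {P Q : Sylow p G} {x : G} (hP : x ∈ (P : Subgroup G))
    (hQ : x ∈ (Q : Subgroup G)) (hx : x ≠ 1) : P = Q :=
  Sylow.ext ((sylow_cent hq D P hP hx).symm.trans (sylow_cent hq D Q hQ hx))

theorem card_sylow_eq (hq : q = p ^ 2) (D : Degs G q) : Nat.card (Sylow p G) = q + 1 := by
  classical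
  have hq9 := D.q9
  let f : (Σ P : Sylow p G, {x : ↥(P : Subgroup G) // x ≠ 1}) → {x : G // x ^ q = 1 ∧ x ≠ 1} :=
    fun z => ⟨(z.2.1 : G), orderOf_dvd_iff_pow_eq_one.1 (by
      rw [Subgroup.orderOf_coe, ← sylow_card hq D z.1]; exact orderOf_dvd_natCard _),
      fun e => z.2.2 (Subtype.ext e)⟩
  have hb : Function.Bijective f := by
    refine ⟨?_, fun ⟨x, hx, hx1⟩ => ?_⟩
    · rintro ⟨P, ⟨x, hx⟩, hx1⟩ ⟨Q, ⟨y, hy⟩, hy1⟩ e
      obtain rfl : x = y := congrArg Subtype.val e
      obtain rfl := sylow_eq hq D hx hy fun e => hx1 (Subtype.ext e)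
      rfl
    · obtain ⟨P, hP⟩ := ((pow_q_iff hq D).1 hx).exists_le_sylow
      exact ⟨⟨P, ⟨x, hP (Subgroup.mem_zpowers x)⟩, fun e => hx1 (congrArg Subtype.val e)⟩, rfl⟩
  have h := Nat.card_eq_of_bijective f hb
  haveI := Fintype.ofFinite (Sylow p G)
  have hfib : ∀ P : Sylow p G, Nat.card {x : ↥(P : Subgroup G) // x ≠ 1} = q - 1 := fun P => by
    haveI := Fintype.ofFinite ↥(P : Subgroup G)
    rw [Nat.card_eq_fintype_card, Fintype.card_subtype_compl, Fintype.card_subtype_eq, ← Nat.card_eq_fintype_card,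
      sylow_card hq D P]
  rw [Nat.card_sigma, Finset.sum_congr rfl fun P _ => hfib P, Finset.sum_const, smul_eq_mul, Finset.card_univ,
    ← Nat.card_eq_fintype_card] at h
  have h2 : Nat.card {x : G // x ^ q = 1 ∧ x ≠ 1} = q * q - 1 := by
    haveI := Fintype.ofFinite G
    rw [← card_pow_q D, Nat.card_eq_fintype_card, Nat.card_eq_fintype_card, Fintype.card_subtype,
      Fintype.card_subtype, show (Finset.univ.filter fun x : G => x ^ q = 1 ∧ x ≠ 1) =
        (Finset.univ.filter fun x : G => x ^ q = 1).erase 1 by ext; simp [and_comm],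
      Finset.card_erase_of_mem (by simp)]
  rw [h2] at h
  have h3 : q * q - 1 = (q + 1) * (q - 1) := by
    have : (q + 1) * (q - 1) + 1 = q * q := by
      obtain ⟨k, rfl⟩ : ∃ k, q = k + 1 := ⟨q - 1, by omega⟩
      simp only [Nat.add_sub_cancel]; ring
    omega
  rw [h3] at h
  exact Nat.eq_of_mul_eq_mul_right (by omega) h

theorem smul_self_mem (P : Sylow p G) {y : G} (hy : y ∈ (P : Subgroup G)) : y • P = P :=
  Sylow.smul_eq_iff_mem_normalizer.2 (Subgroup.le_normalizer hy)

theorem free (hq : q = p ^ 2) (D : Degs G q) {P Q : Sylow p G} (hPQ : Q ≠ P) {y : G}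
    (hy : y ∈ (P : Subgroup G)) (h : y • Q = Q) : y = 1 := by
  by_contra hy1
  have hN : y ∈ Subgroup.normalizer ((Q : Subgroup G) : Set G) := Sylow.smul_eq_iff_mem_normalizer.1 h
  have hp : IsPGroup p (Subgroup.zpowers y) := P.2.to_le (Subgroup.zpowers_le.2 hy)
  have hyQ : y ∈ (Q : Subgroup G) := by
    have h1 := hp.inf_normalizer_sylow Q
    exact (h1.le ⟨Subgroup.mem_zpowers y, hN⟩).2
  exact hPQ (sylow_eq hq D hyQ hy hy1)

theorem trans_others (hq : q = p ^ 2) (D : Degs G q) {P Q R : Sylow p G} (hQ : Q ≠ P) (hR : R ≠ P) :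
    ∃ y ∈ (P : Subgroup G), y • Q = R := by
  classical
  let f : ↥(P : Subgroup G) → {S : Sylow p G // S ≠ P} := fun y => ⟨(y : G) • Q, fun e => hQ (by
    rw [← smul_self_mem P (inv_mem y.2)]; exact eq_inv_smul_iff.2 e)⟩
  have hinj : Function.Injective f := fun y z e => by
    have e' : (y : G) • Q = (z : G) • Q := congrArg Subtype.val e
    have := free hq D hQ (mul_mem (inv_mem z.2) y.2) (by rw [mul_smul, e', inv_smul_smul])
    exact Subtype.ext (inv_mul_eq_one.1 this).symm
  haveI := Fintype.ofFinite (Sylow p G)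
  have hc : Nat.card {S : Sylow p G // S ≠ P} = Nat.card ↥(P : Subgroup G) := by
    rw [Nat.card_eq_fintype_card, Fintype.card_subtype_compl, Fintype.card_subtype_eq, ← Nat.card_eq_fintype_card,
      card_sylow_eq hq D, sylow_card hq D P, Nat.add_sub_cancel]
  obtain ⟨y, hy⟩ := ((Nat.bijective_iff_injective_and_card f).2 ⟨hinj, hc.symm⟩).2 ⟨R, hR⟩
  exact ⟨y, y.2, congrArg Subtype.val hy⟩

theorem three_fixed (hq : q = p ^ 2) (D : Degs G q) {g : G} {P Q R : Sylow p G} (hPQ : P ≠ Q) (hQR : Q ≠ R)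
    (hPR : P ≠ R) (hP : g • P = P) (hQ : g • Q = Q) (hR : g • R = R) : g = 1 := by
  obtain ⟨y, hy, hyR⟩ := trans_others hq D hPQ.symm hPR.symm
  have hy1 : y ≠ 1 := fun e => hQR (by rw [← hyR, e, one_smul])
  have hgn : g ∈ Subgroup.normalizer ((P : Subgroup G) : Set G) := Sylow.smul_eq_iff_mem_normalizer.1 hP
  have hgy : g * y * g⁻¹ ∈ (P : Subgroup G) := (Subgroup.mem_normalizer_iff.1 hgn y).1 hy
  have h1 : (g * y * g⁻¹) • Q = R := by
    rw [mul_smul, mul_smul, show g⁻¹ • Q = Q from inv_smul_eq_iff.2 hQ.symm, hyR, hR]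
  have h2 : y⁻¹ * (g * y * g⁻¹) = 1 :=
    free hq D hPQ.symm (mul_mem (inv_mem hy) hgy) (by rw [mul_smul, h1, ← hyR, inv_smul_smul])
  have h3 : g * y * g⁻¹ = y := (inv_mul_eq_one.1 h2).symm
  have h4 : g ∈ (P : Subgroup G) := by
    rw [← sylow_cent hq D P hy hy1, Subgroup.mem_centralizer_singleton_iff]
    exact mul_inv_eq_iff_eq_mul.1 h3
  exact free hq D hPQ.symm h4 hQ

theorem faithful (hq : q = p ^ 2) (D : Degs G q) : FaithfulSMul G (Sylow p G) := by
  refine ⟨fun {g h} e => ?_⟩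
  have hn := card_sylow_eq hq D
  haveI := Fintype.ofFinite (Sylow p G)
  rw [Nat.card_eq_fintype_card] at hn
  obtain ⟨P, Q, R, hPQ, hPR, hQR⟩ := Fintype.two_lt_card_iff.1 (show 2 < Fintype.card (Sylow p G) by
    have := D.q9; omega)
  refine (inv_mul_eq_one.1 (three_fixed hq D hPQ hQR hPR ?_ ?_ ?_)).symm <;>
    rw [mul_smul, e _, inv_smul_smul]

theorem two_pre (hq : q = p ^ 2) (D : Degs G q) : IsMultiplyPretransitive G (Sylow p G) 2 := by
  refine MulAction.is_two_pretransitive_iff.2 fun {a b c d} hab hcd => ?_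
  obtain ⟨g, hg⟩ := MulAction.exists_smul_eq G a c
  have hb : g • b ≠ c := fun e => hab (smul_left_cancel g (hg.trans e.symm))
  obtain ⟨y, hy, hyd⟩ := trans_others hq D hb hcd.symm
  exact ⟨y * g, by rw [mul_smul, hg, smul_self_mem c hy], by rw [mul_smul, hyd]⟩

theorem two_stab (hq : q = p ^ 2) (D : Degs G q) {P Q : Sylow p G} (hPQ : P ≠ Q) :
    2 * Nat.card ↥(stabilizer G P ⊓ stabilizer G Q) = q - 1 := by
  have hn := card_sylow_eq hq D
  have hq9 := D.q9
  haveI := two_pre hq D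
  -- the orbit of `Q` under the stabiliser of `P` is everything but `P`
  have hle : stabilizer G P ⊓ stabilizer G Q ≤ stabilizer G P := inf_le_left
  have hPs : ∀ y ∈ (P : Subgroup G), y ∈ stabilizer G P := fun y hy => smul_self_mem P hy
  have hidx : ((stabilizer G P ⊓ stabilizer G Q).subgroupOf (stabilizer G P)).index = q := by
    rw [show (stabilizer G P ⊓ stabilizer G Q).subgroupOf (stabilizer G P) = stabilizer ↥(stabilizer G P) Q by
      ext z; exact ⟨fun h => h.2, fun h => ⟨z.2, h⟩⟩, MulAction.index_stabilizer]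
    rw [show MulAction.orbit ↥(stabilizer G P) Q = {S | S ≠ P} from ?_, ← sylow_card hq D P]
    · classical
      haveI := Fintype.ofFinite (Sylow p G)
      rw [Set.ncard_eq_toFinset_card', Set.toFinset_setOf, Finset.filter_ne' Finset.univ P,
        Finset.card_erase_of_mem (Finset.mem_univ _), Finset.card_univ, ← Nat.card_eq_fintype_card, hn,
        sylow_card hq D P, Nat.add_sub_cancel]
    · ext S
      constructor
      · rintro ⟨⟨g, hg⟩, rfl⟩ e
        exact hPQ (smul_left_cancel g ((mem_stabilizer_iff.1 hg).trans e.symm))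
      · intro hS
        obtain ⟨y, hy, hyS⟩ := trans_others hq D hPQ.symm hS
        exact ⟨⟨y, hPs y hy⟩, hyS⟩
  have h1 := Subgroup.card_mul_index ((stabilizer G P ⊓ stabilizer G Q).subgroupOf (stabilizer G P))
  rw [hidx, Nat.card_congr (Subgroup.subgroupOfEquivOfLe hle).toEquiv] at h1
  have h2 := (stabilizer G P).card_mul_index
  rw [MulAction.index_stabilizer_of_transitive, hn, ← h1] at h2
  have h3 := D.card
  rw [← h2] at h3
  refine Nat.eq_of_mul_eq_mul_right (show 0 < q * (q + 1) by positivity) ?_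
  linarith

theorem simple (hq : q = p ^ 2) (D : Degs G q) : IsSimpleGroup G := by
  classical
  have hq9 := D.q9
  haveI : Nontrivial G := by
    rw [← Finite.one_lt_card_iff_nontrivial]
    have := D.card
    have : 9 * 8 * 10 ≤ q * (q - 1) * (q + 1) := by gcongr <;> omega
    omega
  refine ⟨fun N hN => ?_⟩
  by_contra hc
  push Not at hc
  obtain ⟨hbot, htop⟩ := hc
  haveI := two_pre hq D
  haveI := faithful hq D
  haveI : IsPreprimitive G (Sylow p G) := MulAction.isPreprimitive_of_is_two_pretransitive (two_pre hq D)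
  have hfix : fixedPoints ↥N (Sylow p G) ≠ Set.univ := by
    intro h
    refine hbot (eq_bot_iff.2 fun n hn => Subgroup.mem_bot.2 (eq_of_smul_eq_smul (α := Sylow p G) fun S => ?_))
    have hS : S ∈ fixedPoints ↥N (Sylow p G) := h ▸ Set.mem_univ S
    rw [one_smul]
    exact hS ⟨n, hn⟩
  haveI : IsPretransitive ↥N (Sylow p G) := IsQuasiPreprimitive.isPretransitive_of_normal hfix
  obtain ⟨P⟩ : Nonempty (Sylow p G) := inferInstance
  have hN1 : q + 1 ∣ Nat.card ↥N := by
    rw [← card_sylow_eq hq D, ← MulAction.index_stabilizer_of_transitive ↥N P]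
    exact Subgroup.index_dvd_card _
  obtain ⟨k, hk⟩ := hN1
  have hGN : Nat.card (G ⧸ N) ∣ q * ((q - 1) / 2) := by
    refine ⟨k, ?_⟩
    have h := N.card_mul_index
    rw [Subgroup.index_eq_card, hk] at h
    have h2 : 2 * ((q - 1) / 2) = q - 1 := by have := D.q8; omega
    have h3 := D.card
    rw [← h, ← h2] at h3
    refine Nat.eq_of_mul_eq_mul_left (show 0 < 2 * (q + 1) by omega) ?_
    linarith
  haveI := Fintype.ofFinite (IrrCharacter (G ⧸ N))
  obtain ⟨t, ψ, ht, hψ, htu, -⟩ := exists_pair D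
  have hlin : ∀ θ : IrrCharacter (G ⧸ N), (θ : G ⧸ N → ℂ) 1 = 1 := by
    intro θ
    obtain ⟨d, hd, hcs⟩ := D.cases ⟨fun g => (θ : G ⧸ N → ℂ) g,
      isIrrCharacter_comp_surjective θ.2 (QuotientGroup.mk' N) (QuotientGroup.mk'_surjective N)⟩
    have hd' : (θ : G ⧸ N → ℂ) 1 = d := hd
    have hdvd : d ∣ q * ((q - 1) / 2) := (degree_dvd_card θ hd').trans hGN
    obtain ⟨h2, -, h5⟩ := half_spec D
    obtain ⟨cqu, cqh, cuh⟩ := coprimes D
    have hu2 : 2 * ((q - 1) / 2) = q - 1 := by have := D.q8; omega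
    have hhalf : ¬ (q + 1) / 2 ∣ q * ((q - 1) / 2) := fun h => by
      have : (q + 1) / 2 ∣ (q - 1) / 2 := cqh.symm.dvd_of_dvd_mul_left h
      have := Nat.le_of_dvd (by omega) this
      omega
    rcases hcs with e | e | e | e | e
    · rw [hd', e, Nat.cast_one]
    · exact absurd ((show (q + 1) / 2 = d by omega) ▸ hdvd) hhalf
    · exfalso
      have h1 : q - 1 ∣ (q - 1) / 2 := cqu.symm.dvd_of_dvd_mul_left ((show q - 1 = d by omega) ▸ hdvd)
      have := Nat.le_of_dvd (by omega) h1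
      omega
    · exfalso
      have hle := Finset.single_le_sum (f := fun χ : IrrCharacter (G ⧸ N) => ‖(χ : G ⧸ N → ℂ) 1‖ ^ 2)
        (fun χ _ => sq_nonneg _) (Finset.mem_univ θ)
      have hsum : ∑ χ : IrrCharacter (G ⧸ N), ‖(χ : G ⧸ N → ℂ) 1‖ ^ 2 = (Nat.card (G ⧸ N) : ℝ) := by
        have := congrArg Complex.re (sum_degree_sq (G := G ⧸ N))
        rw [Complex.natCast_re, Complex.re_sum] at this
        rw [← this]
        refine Finset.sum_congr rfl fun χ _ => ?_
        obtain ⟨n, -, hn⟩ := isIrrCharacter_degree χ.2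
        rw [hn, Complex.norm_natCast, ← Nat.cast_pow, ← Nat.cast_pow, Complex.natCast_re]
      rw [hsum, hd', e, Complex.norm_natCast] at hle
      have h6 : q ^ 2 ≤ Nat.card (G ⧸ N) := by exact_mod_cast hle
      have h7 := h6.trans (Nat.le_of_dvd (Nat.mul_pos (by omega) (by omega)) hGN)
      rw [pow_two] at h7
      have := Nat.le_of_mul_le_mul_left h7 (by omega)
      omega
    · exact absurd ((show 2 * ((q + 1) / 2) = d by omega) ▸ hdvd) fun h => hhalf ((dvd_mul_left _ 2).trans h)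
  haveI : Subsingleton (IrrCharacter (G ⧸ N)) := ⟨fun a b => by
    have hinfl : ∀ θ : IrrCharacter (G ⧸ N), ∀ g : G, (θ : G ⧸ N → ℂ) g = 1 := fun θ g => by
      have := htu ⟨fun g => (θ : G ⧸ N → ℂ) g,
        isIrrCharacter_comp_surjective θ.2 (QuotientGroup.mk' N) (QuotientGroup.mk'_surjective N)⟩ (hlin θ)
      have h := congrArg (fun χ : IrrCharacter G => (χ : G → ℂ) g) this
      simpa [ht] using h
    refine Subtype.ext (funext fun x => ?_)
    obtain ⟨g, rfl⟩ := QuotientGroup.mk_surjective x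
    rw [hinfl, hinfl]⟩
  have hone := sum_degree_sq (G := G ⧸ N)
  simp only [hlin, one_pow, Finset.sum_const, nsmul_eq_mul, mul_one] at hone
  have hc1 : Nat.card (G ⧸ N) ≤ 1 := by
    have : (Finset.univ : Finset (IrrCharacter (G ⧸ N))).card ≤ 1 := Finset.card_le_one_of_subsingleton _
    have h' : (Finset.univ : Finset (IrrCharacter (G ⧸ N))).card = Nat.card (G ⧸ N) := by exact_mod_cast hone
    omega
  have : Nat.card (G ⧸ N) ≠ 0 := Nat.card_pos.ne'
  exact htop (Subgroup.index_eq_one.1 (show N.index = 1 by rw [Subgroup.index_eq_card]; omega))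

/-- Recognition. -/
theorem exists_psl (hq : q = p ^ 2) (D : Degs G q) :
    ∃ (K : Type) (_ : Field K) (_ : Fintype K), Fintype.card K = q ∧
      Nonempty (G ≃* Matrix.ProjectiveSpecialLinearGroup (Fin 2) K) := by
  classical
  haveI := simple hq D
  haveI := Fintype.ofFinite (Sylow p G)
  have hn := card_sylow_eq hq D
  rw [Nat.card_eq_fintype_card] at hn
  obtain ⟨P, Q, hPQ⟩ := Fintype.exists_pair_of_one_lt_card (α := Sylow p G) (by have := D.q9; omega)
  have h2 := two_stab hq D hPQ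
  have hZ : Cfsg.IsZassenhausGroup G (Sylow p G) := by
    refine ⟨faithful hq D, two_pre hq D, fun g a b c hab hbc hac ha hb hc => three_fixed hq D hab hbc hac ha hb hc,
      ?_, fun N hN hT => ?_⟩
    · haveI := Finite.one_lt_card_iff_nontrivial.1
        (show 1 < Nat.card ↥(stabilizer G P ⊓ stabilizer G Q) by have := D.q9; omega)
      obtain ⟨⟨g, hg⟩, hg1⟩ := exists_ne (1 : ↥(stabilizer G P ⊓ stabilizer G Q))
      exact ⟨g, fun e => hg1 (Subtype.ext e), P, Q, hPQ, hg.1, hg.2⟩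
    · rcases hN.eq_bot_or_eq_top with h | h
      · subst h
        obtain ⟨⟨n, hnb⟩, hn'⟩ := hT.exists_smul_eq P Q
        rw [Subgroup.mem_bot] at hnb
        exact absurd ((one_smul G P).symm.trans (hnb ▸ hn')) hPQ
      · subst h
        refine ⟨P, fun e => ?_⟩
        have hcard : 1 < Nat.card ↥(stabilizer G P ⊓ stabilizer G Q) := by have := D.q9; omega
        haveI := Finite.one_lt_card_iff_nontrivial.1 hcard
        obtain ⟨⟨g, hg⟩, hg1⟩ := exists_ne (1 : ↥(stabilizer G P ⊓ stabilizer G Q))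
        have : (⟨g, Subgroup.mem_top g⟩ : (⊤ : Subgroup G)) ∈ stabilizer (⊤ : Subgroup G) P := hg.1
        rw [e, Subgroup.mem_bot] at this
        exact hg1 (Subtype.ext (congrArg Subtype.val this :))
  obtain ⟨_, f, K, iK, iKf, -, -, hK, hΩ, -, e⟩ := CfsgLib.Perm.ZSimple.iso_psl hZ hPQ
    (Nat.even_iff.2 (by have := D.q8; omega))
  exact ⟨K, iK, iKf, by omega, e⟩

end CfsgLib.Char.PslSq
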