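import Cfsg.Agent.Lib.Char.PowTwist
import Cfsg.Agent.Lib.Char.Galois
import Cfsg.Agent.Lib.Char.DefectZero
import Cfsg.Agent.Lib.Char.Linear

/-!
# Groups with the degrees of `PSL(2, q)`, `q ≡ 1 (mod 8)`

The columns of the character table give three prime graph components and the values `0`, `1`, `-1` of the
character of degree `q`, so exactly `q ^ 2` elements satisfy `x ^ q = 1`.
-/

set_option autoImplicit false
set_option linter.unusedSectionVars false
set_option linter.style.haveILetI false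

open scoped ComplexConjugate

namespace CfsgLib.Char.PslSq

open Cfsg

universe u

variable {G : Type u} [Group G] [Finite G]

/-- The degrees of `PSL(2, q)` as hypotheses on `G`. -/
structure Degs (G : Type u) [Group G] [Finite G] (q : ℕ) : Prop where
  q8 : q % 8 = 1
  q9 : 9 ≤ q
  card : 2 * Nat.card G = q * (q - 1) * (q + 1)
  cases : ∀ χ : IrrCharacter G, ∃ d : ℕ, (χ : G → ℂ) 1 = d ∧
    (d = 1 ∨ 2 * d = q + 1 ∨ d + 1 = q ∨ d = q ∨ d = q + 1)
  lin : Nat.card {χ : IrrCharacter G // (χ : G → ℂ) 1 = 1} = 1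
  st : Nat.card {χ : IrrCharacter G // (χ : G → ℂ) 1 = (q : ℂ)} = 1

theorem dvd_of_int {z : ℂ} (hz : IsIntegral ℤ z) {n : ℕ} {m : ℤ} (h : (n : ℂ) * z = m) : (n : ℤ) ∣ m := by
  rcases Nat.eq_zero_or_pos n with rfl | hn
  · simp only [Nat.cast_zero, zero_mul] at h
    rw [show m = 0 by exact_mod_cast h.symm]
    exact dvd_zero _
  have hn' : (n : ℂ) ≠ 0 := by exact_mod_cast hn.ne'
  have e : z = (((m : ℚ) / n : ℚ) : ℂ) := by
    push_cast
    field_simp
    linear_combination h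
  have h' : IsIntegral ℤ ((m : ℚ) / n) := by
    rw [← isIntegral_algebraMap_iff (algebraMap ℚ ℂ).injective (A := ℚ) (B := ℂ)]
    rw [eq_ratCast, ← e]
    exact hz
  obtain ⟨k, hk⟩ := IsIntegrallyClosed.isIntegral_iff.1 h'
  refine ⟨k, ?_⟩
  have hn'' : (n : ℚ) ≠ 0 := by exact_mod_cast hn.ne'
  rw [eq_intCast, eq_div_iff hn''] at hk
  have : ((n : ℤ) * k : ℚ) = (m : ℚ) := by push_cast; linear_combination hk
  exact_mod_cast this.symm

/-- A character whose degree contains the full `r`-part vanishes on `r`-singular elements. -/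
theorem vanish (χ : IrrCharacter G) {d a b r : ℕ} (hr : r.Prime) (hd : (χ : G → ℂ) 1 = d)
    (hab : Nat.card G = a * b) (hrb : ¬ r ∣ b) (had : a ∣ d) {x : G} (hx : r ∣ orderOf x) :
    (χ : G → ℂ) x = 0 := by
  haveI : Fact r.Prime := ⟨hr⟩
  have h0 : Nat.card G ≠ 0 := Nat.card_pos.ne'
  refine char_defect_zero_vanishes χ (Nat.ordProj_dvd _ r) (Nat.pow_succ_factorization_not_dvd h0 hr) hd
    (dvd_trans ?_ had) hx
  exact ((hr.coprime_iff_not_dvd.2 hrb).pow_left _).dvd_of_dvd_mul_right (hab ▸ Nat.ordProj_dvd _ r)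

/-- Two prime divisors of a centraliser meet in one element order. -/
theorem exists_both {x : G} {r s : ℕ} (hr : r.Prime) (hs : s.Prime) (hrx : r ∣ orderOf x)
    (hsC : s ∣ Nat.card (Subgroup.centralizer ({x} : Set G))) :
    ∃ z : G, z ≠ 1 ∧ r ∣ orderOf z ∧ s ∣ orderOf z := by
  have hx1 : x ≠ 1 := fun e => by rw [e, orderOf_one] at hrx; exact hr.not_dvd_one hrx
  rcases eq_or_ne r s with rfl | hrs
  · exact ⟨x, hx1, hrx, hrx⟩
  haveI : Fact s.Prime := ⟨hs⟩
  obtain ⟨⟨y, hy⟩, hyo⟩ := exists_prime_orderOf_dvd_card' s hsC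
  rw [Subgroup.orderOf_mk] at hyo
  obtain ⟨k, hk⟩ := hrx
  have hk0 : k ≠ 0 := fun e => by rw [e, mul_zero] at hk; exact (orderOf_pos x).ne' hk
  have hxr : orderOf (x ^ k) = r := by
    rw [orderOf_pow_of_dvd hk0 (hk ▸ dvd_mul_left _ _), hk, Nat.mul_div_cancel _ (Nat.pos_of_ne_zero hk0)]
  have hc : Commute (x ^ k) y :=
    (show Commute x y from (Subgroup.mem_centralizer_singleton_iff.1 hy).symm).pow_left k
  have ho : orderOf (x ^ k * y) = r * s := by
    rw [hc.orderOf_mul_eq_mul_orderOf_of_coprime (by rw [hxr, hyo]; exact (Nat.coprime_primes hr hs).2 hrs),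
      hxr, hyo]
  refine ⟨x ^ k * y, fun e => ?_, ho ▸ dvd_mul_right r s, ho ▸ dvd_mul_left s r⟩
  rw [e, orderOf_one] at ho
  exact hr.not_dvd_one (ho ▸ dvd_mul_right r s)

variable {q : ℕ} (D : Degs G q)

include D

theorem half_spec : 2 * ((q + 1) / 2) = q + 1 ∧ ((q + 1) / 2) % 2 = 1 ∧ 5 ≤ (q + 1) / 2 := by
  have := D.q8; have := D.q9
  omega

theorem card_eq : Nat.card G = q * (q - 1) * ((q + 1) / 2) := by
  have h := D.card
  rw [← (half_spec D).1] at h
  linarith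

theorem coprimes : q.Coprime (q - 1) ∧ q.Coprime ((q + 1) / 2) ∧ (q - 1).Coprime ((q + 1) / 2) := by
  obtain ⟨h2, hodd, -⟩ := half_spec D
  have := D.q9
  refine ⟨Nat.coprime_of_dvd fun k hk h1 h2' => ?_, Nat.coprime_of_dvd fun k hk h1 h2' => ?_,
    Nat.coprime_of_dvd fun k hk h1 h2' => ?_⟩
  · have := Nat.dvd_sub h1 h2'
    rw [show q - (q - 1) = 1 by omega] at this
    exact hk.not_dvd_one this
  · have h3 : k ∣ q + 1 := h2 ▸ dvd_mul_of_dvd_right h2' 2
    have := Nat.dvd_sub h3 h1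
    rw [show q + 1 - q = 1 by omega] at this
    exact hk.not_dvd_one this
  · have h3 : k ∣ q + 1 := h2 ▸ dvd_mul_of_dvd_right h2' 2
    have := Nat.dvd_sub h3 h1
    rw [show q + 1 - (q - 1) = 2 by omega] at this
    rcases (Nat.prime_two.eq_one_or_self_of_dvd k this) with e | e
    · exact hk.one_lt.ne' e
    · rw [e] at h2'; omega

theorem exists_pair : ∃ t ψ : IrrCharacter G, (t : G → ℂ) = (fun _ => 1) ∧ (ψ : G → ℂ) 1 = (q : ℂ) ∧
    (∀ χ : IrrCharacter G, (χ : G → ℂ) 1 = 1 → χ = t) ∧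
    (∀ χ : IrrCharacter G, (χ : G → ℂ) 1 = (q : ℂ) → χ = ψ) := by
  obtain ⟨h1, -⟩ := Nat.card_eq_one_iff_unique.1 D.lin
  obtain ⟨h2, ⟨⟨ψ, hψ⟩⟩⟩ := Nat.card_eq_one_iff_unique.1 D.st
  exact ⟨⟨_, isIrrCharacter_one⟩, ψ, rfl, hψ,
    fun χ hχ => congrArg Subtype.val
      (@Subsingleton.elim _ h1 ⟨χ, hχ⟩ ⟨⟨_, isIrrCharacter_one⟩, rfl⟩),
    fun χ hχ => congrArg Subtype.val (@Subsingleton.elim _ h2 ⟨χ, hχ⟩ ⟨ψ, hψ⟩)⟩

/-- The character of degree `q` takes integral values. -/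
theorem st_int {ψ : IrrCharacter G} (hψ : (ψ : G → ℂ) 1 = (q : ℂ))
    (huniq : ∀ χ : IrrCharacter G, (χ : G → ℂ) 1 = (q : ℂ) → χ = ψ) (g : G) :
    ∃ z : ℤ, (ψ : G → ℂ) g = z := by
  haveI := Fintype.ofFinite G
  refine exists_int_of_fixed (isCharacter_isIntegral (isCharacter_irr ψ) g) fun φ => ?_
  obtain ⟨m, hm, htw⟩ := exists_char_twist (G := G) φ
  rw [htw _ (isCharacter_irr ψ) g _ rfl]
  have h := huniq ⟨_, isIrrCharacter_powMap hm.symm ψ⟩ (by show (ψ : G → ℂ) (1 ^ m) = _; rw [one_pow, hψ])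
  exact congrFun (congrArg Subtype.val h) g

/-- Column orthogonality against the identity with all surviving degrees divisible by `M`. -/
theorem col {ψ : IrrCharacter G} (hψ : (ψ : G → ℂ) 1 = (q : ℂ))
    (huniq : ∀ χ : IrrCharacter G, (χ : G → ℂ) 1 = (q : ℂ) → χ = ψ) {x : G} (hx : x ≠ 1) (M : ℕ)
    (hM : ∀ χ : IrrCharacter G, ∀ d : ℕ, (χ : G → ℂ) 1 = d → d ≠ 1 → d ≠ q → (χ : G → ℂ) x = 0 ∨ M ∣ d) :
    ∃ A : ℂ, IsIntegral ℤ A ∧ 1 + (q : ℂ) * (ψ : G → ℂ) x + (M : ℂ) * A = 0 := by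
  classical
  haveI := Fintype.ofFinite (IrrCharacter G)
  obtain ⟨t, ψ', ht, hψ', htu, -⟩ := exists_pair D
  have hs := sum_irr_mul_conj x (1 : G)
  rw [if_neg (fun h => hx (isConj_one_right.1 h.symm))] at hs
  simp only [conj_irr_one] at hs
  have hne : ψ ≠ t := fun e => by
    have h1 : (q : ℂ) = 1 := by rw [← hψ, e, ht]
    have := D.q9
    have : q = 1 := by exact_mod_cast h1
    omega
  rw [← Finset.add_sum_erase _ _ (Finset.mem_univ t),
    ← Finset.add_sum_erase _ _ (Finset.mem_erase.2 ⟨hne, Finset.mem_univ ψ⟩)] at hs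
  obtain ⟨A, hA, hsum⟩ : ∃ A : ℂ, IsIntegral ℤ A ∧
      ∑ χ ∈ (Finset.univ.erase t).erase ψ, (χ : G → ℂ) x * (χ : G → ℂ) 1 = (M : ℂ) * A := by
    refine Finset.sum_induction _ (fun z => ∃ A : ℂ, IsIntegral ℤ A ∧ z = (M : ℂ) * A)
      (fun a b ⟨A, hA, ea⟩ ⟨B, hB, eb⟩ => ⟨A + B, hA.add hB, by rw [ea, eb, mul_add]⟩)
      ⟨0, isIntegral_zero, (mul_zero _).symm⟩ fun χ hχ => ?_
    obtain ⟨d, hd, -⟩ := D.cases χ
    have h1 : d ≠ 1 := fun e => (Finset.mem_erase.1 (Finset.mem_erase.1 hχ).2).1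
      (htu χ (by rw [hd, e, Nat.cast_one]))
    have hq : d ≠ q := fun e => (Finset.mem_erase.1 hχ).1 (huniq χ (by rw [hd, e]))
    rcases hM χ d hd h1 hq with h0 | ⟨k, hk⟩
    · exact ⟨0, isIntegral_zero, by rw [h0, zero_mul, mul_zero]⟩
    · refine ⟨(k : ℂ) * (χ : G → ℂ) x,
        ((isIntegral_algebraMap (x := (k : ℤ))).mul (isCharacter_isIntegral (isCharacter_irr χ) x)), ?_⟩
      rw [hd, hk, Nat.cast_mul]
      ring
  refine ⟨A, hA, ?_⟩
  rw [← hsum, ← hs, show (t : G → ℂ) x = 1 by rw [ht], show (t : G → ℂ) 1 = 1 by rw [ht], hψ]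
  ring

theorem half_killed {x : G} {r : ℕ} (hr : r.Prime) (hrh : r ∣ (q + 1) / 2) (hrx : r ∣ orderOf x)
    (χ : IrrCharacter G) (d : ℕ) (hd : (χ : G → ℂ) 1 = d) (h1 : d ≠ 1) (hq : d ≠ q) :
    (χ : G → ℂ) x = 0 ∨ (q - 1) ∣ d := by
  obtain ⟨h2, -, -⟩ := half_spec D
  obtain ⟨cqu, cqh, cuh⟩ := coprimes D
  obtain ⟨d', hd', hc⟩ := D.cases χ
  obtain rfl : d = d' := by exact_mod_cast hd.symm.trans hd'
  have hrb : ¬ r ∣ q * (q - 1) := fun h => by
    rcases hr.dvd_mul.1 h with h | h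
    · exact Nat.not_coprime_of_dvd_of_dvd hr.one_lt h hrh cqh
    · exact Nat.not_coprime_of_dvd_of_dvd hr.one_lt h hrh cuh
  have hab : Nat.card G = ((q + 1) / 2) * (q * (q - 1)) := by rw [card_eq D, mul_comm]
  rcases hc with e | e | e | e | e
  · exact absurd e h1
  · exact Or.inl (vanish χ hr hd hab hrb ⟨1, by omega⟩ hrx)
  · exact Or.inr ⟨1, by omega⟩
  · exact absurd e hq
  · exact Or.inl (vanish χ hr hd hab hrb ⟨2, by omega⟩ hrx)

theorem pred_killed {x : G} {r : ℕ} (hr : r.Prime) (hru : r ∣ q - 1) (hrx : r ∣ orderOf x)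
    (χ : IrrCharacter G) (d : ℕ) (hd : (χ : G → ℂ) 1 = d) (h1 : d ≠ 1) (hq : d ≠ q) :
    (χ : G → ℂ) x = 0 ∨ (q + 1) / 2 ∣ d := by
  obtain ⟨h2, -, -⟩ := half_spec D
  obtain ⟨cqu, cqh, cuh⟩ := coprimes D
  obtain ⟨d', hd', hc⟩ := D.cases χ
  obtain rfl : d = d' := by exact_mod_cast hd.symm.trans hd'
  have hrb : ¬ r ∣ q * ((q + 1) / 2) := fun h => by
    rcases hr.dvd_mul.1 h with h | h
    · exact Nat.not_coprime_of_dvd_of_dvd hr.one_lt h hru cqu
    · exact Nat.not_coprime_of_dvd_of_dvd hr.one_lt hru h cuh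
  have hab : Nat.card G = (q - 1) * (q * ((q + 1) / 2)) := by rw [card_eq D]; ring
  rcases hc with e | e | e | e | e
  · exact absurd e h1
  · exact Or.inr ⟨1, by omega⟩
  · exact Or.inl (vanish χ hr hd hab hrb ⟨1, by omega⟩ hrx)
  · exact absurd e hq
  · exact Or.inr ⟨2, by omega⟩

theorem st_zero {ψ : IrrCharacter G} (hψ : (ψ : G → ℂ) 1 = (q : ℂ)) {x : G} {r : ℕ} (hr : r.Prime)
    (hrq : r ∣ q) (hrx : r ∣ orderOf x) : (ψ : G → ℂ) x = 0 := by
  obtain ⟨cqu, cqh, cuh⟩ := coprimes D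
  refine vanish ψ hr hψ (a := q) (b := (q - 1) * ((q + 1) / 2)) (by rw [card_eq D]; ring) (fun h => ?_)
    dvd_rfl hrx
  rcases hr.dvd_mul.1 h with h | h
  · exact Nat.not_coprime_of_dvd_of_dvd hr.one_lt hrq h cqu
  · exact Nat.not_coprime_of_dvd_of_dvd hr.one_lt hrq h cqh

/-- No element order meets two of `q`, `q - 1`, `(q + 1) / 2`. -/
theorem no_mixed {z : G} (hz : z ≠ 1) {r s : ℕ} (hr : r.Prime) (hs : s.Prime) (hrz : r ∣ orderOf z)
    (hsz : s ∣ orderOf z) :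
    ¬ (r ∣ q ∧ s ∣ q - 1) ∧ ¬ (r ∣ q ∧ s ∣ (q + 1) / 2) ∧ ¬ (r ∣ q - 1 ∧ s ∣ (q + 1) / 2) := by
  obtain ⟨h2, -, h5⟩ := half_spec D
  have hq9 := D.q9
  obtain ⟨-, ψ, -, hψ, -, hu⟩ := exists_pair D
  refine ⟨fun ⟨h, h'⟩ => ?_, fun ⟨h, h'⟩ => ?_, fun ⟨h, h'⟩ => ?_⟩
  · obtain ⟨A, hA, e⟩ := col D hψ hu hz _ (pred_killed D hs h' hsz)
    rw [st_zero D hψ hr h hrz, mul_zero, add_zero] at e
    have := dvd_of_int hA (n := (q + 1) / 2) (m := -1) (by simp only [Int.cast_neg, Int.cast_one]; linear_combination e)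
    rw [Int.dvd_neg] at this
    have := Int.le_of_dvd one_pos this
    omega
  · obtain ⟨A, hA, e⟩ := col D hψ hu hz _ (half_killed D hs h' hsz)
    rw [st_zero D hψ hr h hrz, mul_zero, add_zero] at e
    have := dvd_of_int hA (n := q - 1) (m := -1) (by simp only [Int.cast_neg, Int.cast_one]; linear_combination e)
    rw [Int.dvd_neg] at this
    have := Int.le_of_dvd one_pos this
    omega
  · obtain ⟨A, hA, e⟩ := col D hψ hu hz 0 fun χ d hd h1 hq => by
      rcases pred_killed D hr h hrz χ d hd h1 hq with h0 | hd1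
      · exact Or.inl h0
      rcases half_killed D hs h' hsz χ d hd h1 hq with h0 | hd2
      · exact Or.inl h0
      obtain ⟨d', hd', hc⟩ := D.cases χ
      obtain rfl : d = d' := by exact_mod_cast hd.symm.trans hd'
      exfalso
      have hd3 : (q - 1) * ((q + 1) / 2) ∣ d := (coprimes D).2.2.mul_dvd_of_dvd_of_dvd hd2 hd1
      have hlt : 2 * (q + 1) ≤ (q - 1) * ((q + 1) / 2) := by
        calc 2 * (q + 1) = 4 * ((q + 1) / 2) := by omega
          _ ≤ _ := Nat.mul_le_mul_right _ (by omega)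
      have := Nat.le_of_dvd (by omega) hd3
      omega
    rw [Nat.cast_zero, zero_mul, add_zero] at e
    have := dvd_of_int (isCharacter_isIntegral (isCharacter_irr ψ) z) (n := q) (m := -1)
      (by push_cast; linear_combination e)
    rw [Int.dvd_neg] at this
    have := Int.le_of_dvd one_pos this
    omega

/-- The centraliser of a non-trivial element has order dividing one of the three factors. -/
theorem cent_dvd {x : G} {r : ℕ} (hr : r.Prime) (hrx : r ∣ orderOf x) :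
    (r ∣ q → Nat.card (Subgroup.centralizer ({x} : Set G)) ∣ q) ∧
    (r ∣ q - 1 → Nat.card (Subgroup.centralizer ({x} : Set G)) ∣ q - 1) ∧
    (r ∣ (q + 1) / 2 → Nat.card (Subgroup.centralizer ({x} : Set G)) ∣ (q + 1) / 2) := by
  set C := Nat.card (Subgroup.centralizer ({x} : Set G))
  have hC : C ∣ q * (q - 1) * ((q + 1) / 2) := card_eq D ▸ Subgroup.card_subgroup_dvd_card _
  refine ⟨fun h => ?_, fun h => ?_, fun h => ?_⟩
  · have h1 : C.Coprime ((q - 1) * ((q + 1) / 2)) := Nat.coprime_of_dvd fun s hs hsC hs' => by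
      obtain ⟨z, hz, hrz, hsz⟩ := exists_both hr hs hrx hsC
      obtain ⟨n1, n2, -⟩ := no_mixed D hz hr hs hrz hsz
      rcases hs.dvd_mul.1 hs' with h' | h'
      · exact n1 ⟨h, h'⟩
      · exact n2 ⟨h, h'⟩
    exact h1.dvd_of_dvd_mul_right (by rwa [← mul_assoc])
  · have h1 : C.Coprime (q * ((q + 1) / 2)) := Nat.coprime_of_dvd fun s hs hsC hs' => by
      obtain ⟨z, hz, hrz, hsz⟩ := exists_both hr hs hrx hsC
      rcases hs.dvd_mul.1 hs' with h' | h'
      · exact (no_mixed D hz hs hr hsz hrz).1 ⟨h', h⟩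
      · exact (no_mixed D hz hr hs hrz hsz).2.2 ⟨h, h'⟩
    exact h1.dvd_of_dvd_mul_right (by rwa [show (q - 1) * (q * ((q + 1) / 2)) = q * (q - 1) * ((q + 1) / 2) by ring])
  · have h1 : C.Coprime (q * (q - 1)) := Nat.coprime_of_dvd fun s hs hsC hs' => by
      obtain ⟨z, hz, hrz, hsz⟩ := exists_both hr hs hrx hsC
      rcases hs.dvd_mul.1 hs' with h' | h'
      · exact (no_mixed D hz hs hr hsz hrz).2.1 ⟨h', h⟩
      · exact (no_mixed D hz hs hr hsz hrz).2.2 ⟨h', h⟩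
    exact h1.dvd_of_dvd_mul_left hC

/-- The square of the value of the character of degree `q`. -/
theorem st_sq {ψ : IrrCharacter G} (hψ : (ψ : G → ℂ) 1 = (q : ℂ))
    (hu : ∀ χ : IrrCharacter G, (χ : G → ℂ) 1 = (q : ℂ) → χ = ψ) {x : G} (hx : x ≠ 1) :
    (x ^ q = 1 → (ψ : G → ℂ) x = 0) ∧
      (x ^ q ≠ 1 → (ψ : G → ℂ) x * conj ((ψ : G → ℂ) x) = 1) := by
  classical
  haveI := Fintype.ofFinite (IrrCharacter G)
  obtain ⟨r, hr, hrx⟩ := Nat.exists_prime_and_dvd (n := orderOf x) (fun e => hx (orderOf_eq_one_iff.1 e))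
  refine ⟨fun h => st_zero D hψ hr (hrx.trans (orderOf_dvd_of_pow_eq_one h)) hrx, fun h => ?_⟩
  obtain ⟨z, hz⟩ := st_int D hψ hu x
  rw [hz, map_intCast]
  suffices z = 1 ∨ z = -1 by rcases this with rfl | rfl <;> norm_num
  -- bound from column orthogonality
  have hbound : z * z + 1 ≤ (Nat.card (Subgroup.centralizer ({x} : Set G)) : ℤ) := by
    obtain ⟨t, -, ht, -, -, -⟩ := exists_pair D
    have hne : ψ ≠ t := fun e => by
      have h1 : (q : ℂ) = 1 := by rw [← hψ, e, ht]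
      have := D.q9
      have : q = 1 := by exact_mod_cast h1
      omega
    have hs := sum_irr_mul_conj x x
    rw [if_pos (IsConj.refl x)] at hs
    have hs' : ∑ χ : IrrCharacter G, ‖(χ : G → ℂ) x‖ ^ 2 =
        (Nat.card (Subgroup.centralizer ({x} : Set G)) : ℝ) := by
      have := congrArg Complex.re hs
      rw [Complex.natCast_re, Complex.re_sum] at this
      rw [← this]
      exact Finset.sum_congr rfl fun χ _ => by rw [Complex.mul_conj', ← Complex.ofReal_pow, Complex.ofReal_re]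
    have h1 := Finset.sum_le_sum_of_subset_of_nonneg (Finset.subset_univ {ψ, t})
      (f := fun χ : IrrCharacter G => ‖(χ : G → ℂ) x‖ ^ 2) (fun χ _ _ => sq_nonneg _)
    rw [Finset.sum_pair hne, hz, show (t : G → ℂ) x = 1 by rw [ht], norm_one, one_pow,
      Complex.norm_intCast, sq_abs, hs', pow_two] at h1
    exact_mod_cast h1
  obtain ⟨h2, -, h5⟩ := half_spec D
  have hq9 := D.q9
  have hdvd : orderOf x ∣ q * (q - 1) * ((q + 1) / 2) := card_eq D ▸ orderOf_dvd_natCard x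
  have hnq : ¬ r ∣ q := fun hrq => h (orderOf_dvd_iff_pow_eq_one.1
    ((show orderOf x ∣ Nat.card (Subgroup.centralizer ({x} : Set G)) by
      rw [← Subgroup.orderOf_mk x (Subgroup.mem_centralizer_singleton_iff.2 rfl)]
      exact orderOf_dvd_natCard _).trans ((cent_dvd D hr hrx).1 hrq)))
  rcases hr.dvd_mul.1 (hrx.trans hdvd) with h' | hh
  · rcases hr.dvd_mul.1 h' with h'' | hu'
    · exact absurd h'' hnq
    -- the component of `q - 1`
    obtain ⟨A, hA, e⟩ := col D hψ hu hx _ (pred_killed D hr hu' hrx)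
    rw [hz] at e
    have hd := dvd_of_int hA (n := (q + 1) / 2) (m := -(1 + q * z)) (by simp only [Int.cast_neg, Int.cast_add, Int.cast_one, Int.cast_mul, Int.cast_natCast]; linear_combination e)
    rw [Int.dvd_neg] at hd
    have hc : (Nat.card (Subgroup.centralizer ({x} : Set G)) : ℤ) ≤ q - 1 := by
      have := Nat.le_of_dvd (by omega) ((cent_dvd D hr hrx).2.1 hu')
      omega
    have hq2 : (q : ℤ) = 2 * (((q + 1) / 2 : ℕ) : ℤ) - 1 := by omega
    generalize ((q + 1) / 2 : ℕ) = k at *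
    have hd2 : (k : ℤ) ∣ 1 - z := by
      have e1 : (1 - z : ℤ) = (1 + q * z) - (k : ℤ) * (2 * z) := by rw [hq2]; ring
      rw [e1]; exact dvd_sub hd (dvd_mul_right _ _)
    by_contra hz1
    push Not at hz1
    have h3 : (k : ℤ) ≤ |1 - z| := Int.le_of_dvd (abs_pos.2 (by omega)) ((dvd_abs _ _).2 hd2)
    have h4 : (k : ℤ) ≤ |z| + 1 := by
      rcases abs_cases (1 - z) with ⟨e, hs1⟩ | ⟨e, hs1⟩ <;>
        rcases abs_cases z with ⟨e', hs2⟩ | ⟨e', hs2⟩ <;> omega
    nlinarith [abs_mul_abs_self z, abs_nonneg z]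
  · -- the component of `(q + 1) / 2`
    obtain ⟨A, hA, e⟩ := col D hψ hu hx _ (half_killed D hr hh hrx)
    rw [hz] at e
    have hd := dvd_of_int hA (n := q - 1) (m := -(1 + q * z)) (by simp only [Int.cast_neg, Int.cast_add, Int.cast_one, Int.cast_mul, Int.cast_natCast]; linear_combination e)
    rw [Int.dvd_neg] at hd
    have hc : 2 * (Nat.card (Subgroup.centralizer ({x} : Set G)) : ℤ) ≤ q + 1 := by
      have := Nat.le_of_dvd (by omega) ((cent_dvd D hr hrx).2.2 hh)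
      omega
    have hu2 : ((q - 1 : ℕ) : ℤ) = (q : ℤ) - 1 := by omega
    rw [hu2] at hd
    have hd2 : ((q : ℤ) - 1) ∣ 1 + z := by
      have e1 : (1 + z : ℤ) = (1 + q * z) - ((q : ℤ) - 1) * z := by ring
      rw [e1]; exact dvd_sub hd (dvd_mul_right _ _)
    by_contra hz1
    push Not at hz1
    have h3 : (q : ℤ) - 1 ≤ |1 + z| := Int.le_of_dvd (abs_pos.2 (by omega)) ((dvd_abs _ _).2 hd2)
    have h4 : (q : ℤ) - 2 ≤ |z| := by
      rcases abs_cases (1 + z) with ⟨e, hs1⟩ | ⟨e, hs1⟩ <;>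
        rcases abs_cases z with ⟨e', hs2⟩ | ⟨e', hs2⟩ <;> omega
    nlinarith [abs_mul_abs_self z, abs_nonneg z]

/-- Exactly `q ^ 2` elements satisfy `x ^ q = 1`. -/
theorem card_pow_q : Nat.card {x : G // x ^ q = 1} = q * q := by
  classical
  haveI := Fintype.ofFinite G
  obtain ⟨-, ψ, -, hψ, -, hu⟩ := exists_pair D
  have h := classInner_irr_self ψ
  rw [classInner, inv_mul_eq_one₀ card_ne_zero'] at h
  have hval : ∀ g : G, (ψ : G → ℂ) g * conj ((ψ : G → ℂ) g) =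
      (if g = 1 then (q : ℂ) * q else 0) + if g ^ q ≠ 1 then 1 else 0 := by
    intro g
    rcases eq_or_ne g 1 with rfl | hg
    · rw [if_pos rfl, if_neg (by simp), add_zero, conj_irr_one, hψ]
    · rw [if_neg hg, zero_add]
      by_cases hq : g ^ q = 1
      · rw [if_neg (by simpa using hq), (st_sq D hψ hu hg).1 hq, zero_mul]
      · rw [if_pos hq, (st_sq D hψ hu hg).2 hq]
  rw [Finset.sum_congr rfl fun g _ => hval g, Finset.sum_add_distrib, Finset.sum_ite_eq', if_pos (Finset.mem_univ _),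
    Finset.sum_boole] at h
  have h2 : q * q + (Finset.univ.filter fun g : G => g ^ q ≠ 1).card = Nat.card G := by exact_mod_cast h.symm
  rw [Nat.card_eq_fintype_card, Fintype.card_subtype]
  simp only [ne_eq] at h2
  have h3 := Finset.card_filter_add_card_filter_not (s := (Finset.univ : Finset G)) (fun g => g ^ q = 1)
  rw [Finset.card_univ, ← Nat.card_eq_fintype_card] at h3
  omega

end CfsgLib.Char.PslSq
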