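import Cfsg.Agent.Lib.Invol.BrauerSuzuki

/-!
# The centralizer of the derived subgroup of a generalised quaternion Sylow 2-subgroup
-/

open Subgroup

set_option autoImplicit false
set_option linter.unusedSectionVars false

namespace CfsgLib.Char

universe u

theorem quat_commutator_even {N : ℕ} (x y : QuaternionGroup N) :
    ∃ i : ZMod (2 * N), x * y * x⁻¹ * y⁻¹ = .a (2 * i) := by
  cases x with
  | a i => cases y with
    | a j =>
      exact ⟨0, by
        rw [mul_inv_eq_iff_eq_mul, mul_inv_eq_iff_eq_mul]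
        simp only [QuaternionGroup.a_mul_a]
        congr 1; ring⟩
    | xa j =>
      exact ⟨i, by
        rw [mul_inv_eq_iff_eq_mul, mul_inv_eq_iff_eq_mul]
        simp only [QuaternionGroup.a_mul_xa, QuaternionGroup.xa_mul_a]
        congr 1; ring⟩
  | xa i => cases y with
    | a j =>
      exact ⟨-j, by
        rw [mul_inv_eq_iff_eq_mul, mul_inv_eq_iff_eq_mul]
        simp only [QuaternionGroup.a_mul_a, QuaternionGroup.a_mul_xa, QuaternionGroup.xa_mul_a]
        congr 1; ring⟩
    | xa j =>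
      exact ⟨j - i, by
        rw [mul_inv_eq_iff_eq_mul, mul_inv_eq_iff_eq_mul]
        simp only [QuaternionGroup.a_mul_xa, QuaternionGroup.xa_mul_xa]
        congr 1; ring⟩

/-- In a finite cyclic group subgroups of the same order are equal. -/
theorem cyclic_subgroup_eq {A : Type*} [Group A] [Finite A] [IsCyclic A] {X Y : Subgroup A}
    (h : Nat.card X = Nat.card Y) : X = Y := by
  classical
  have := Fintype.ofFinite A
  have key : ∀ Z : Subgroup A, (Z : Set A) = {x : A | x ^ Nat.card Z = 1} := fun Z => by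
    refine Set.eq_of_subset_of_ncard_le (fun z hz => ?_) ?_ (Set.toFinite _)
    · exact congrArg Subtype.val (pow_card_eq_one' (x := (⟨z, hz⟩ : Z)))
    · rw [Set.ncard_eq_toFinset_card', Set.ncard_eq_toFinset_card', Set.toFinset_setOf]
      refine (IsCyclic.card_pow_eq_one_le (α := A) Nat.card_pos).trans (le_of_eq ?_)
      rw [Nat.card_eq_fintype_card, Set.toFinset_card]
      exact Fintype.card_congr (Equiv.refl _)
  exact SetLike.coe_injective (by rw [key X, key Y, h])

variable {G : Type u} [Group G] [Finite G]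

/-- The frame of a generalised quaternion Sylow subgroup `S` of order `4N`. -/
structure QuatFrame (S : Sylow 2 G) (D : Subgroup G) (N : ℕ) (a b : G) : Prop where
  four_le : 4 ≤ N
  two_pow : ∃ k : ℕ, N = 2 ^ k
  equiv : Nonempty ((S : Subgroup G) ≃* QuaternionGroup N)
  a_mem : a ∈ (S : Subgroup G)
  b_mem : b ∈ (S : Subgroup G)
  order_a : orderOf a = 2 * N
  conj_a : b * a * b⁻¹ = a⁻¹
  derived : D = zpowers (a * a)

theorem QuatFrame.card_sylow {S : Sylow 2 G} {D : Subgroup G} {N : ℕ} {a b : G}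
    (F : QuatFrame S D N a b) : Nat.card (S : Subgroup G) = 4 * N := by
  obtain ⟨e⟩ := F.equiv
  haveI : NeZero N := ⟨by have := F.four_le; omega⟩
  rw [Nat.card_congr e.toEquiv, Nat.card_eq_fintype_card, QuaternionGroup.card]

theorem exists_quatFrame (S : Sylow 2 G) (n : ℕ)
    (e : (S : Subgroup G) ≃* QuaternionGroup (2 ^ (n + 2))) {D : Subgroup G}
    (hD : D = ⁅(S : Subgroup G), (S : Subgroup G)⁆) :
    ∃ a b : G, QuatFrame S D (2 ^ (n + 2)) a b := by
  set N := 2 ^ (n + 2) with hN
  haveI : NeZero N := ⟨by positivity⟩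
  set f := e.symm with hf
  refine ⟨(f (.a 1) : G), (f (.xa 0) : G), ⟨?_, ⟨n + 2, hN⟩, ⟨e⟩, (f _).2, (f _).2, ?_, ?_, ?_⟩⟩
  · calc (4 : ℕ) = 2 ^ 2 := rfl
      _ ≤ N := Nat.pow_le_pow_right (by norm_num) (by omega)
  · rw [Subgroup.orderOf_coe, MulEquiv.orderOf_eq, QuaternionGroup.orderOf_a_one]
  · rw [mul_inv_eq_iff_eq_mul, ← Subgroup.coe_mul, ← Subgroup.coe_inv, ← Subgroup.coe_mul,
      ← map_inv, ← map_mul, ← map_mul]
    congr 2
    rw [eq_inv_mul_iff_mul_eq, QuaternionGroup.xa_mul_a, QuaternionGroup.a_mul_xa]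
    congr 1; ring
  · rw [hD]
    refine le_antisymm ?_ (zpowers_le.2 ?_)
    · rw [commutator_le]
      intro x hx y hy
      obtain ⟨i, hi⟩ := quat_commutator_even (e ⟨x, hx⟩) (e ⟨y, hy⟩)
      refine mem_zpowers_iff.2 ⟨(i.val : ℤ), ?_⟩
      have h1 : (⟨x, hx⟩ * ⟨y, hy⟩ * ⟨x, hx⟩⁻¹ * ⟨y, hy⟩⁻¹ : (S : Subgroup G)) =
          f (.a 1 ^ (2 * i.val)) := by
        rw [QuaternionGroup.a_one_pow, hf]
        apply e.injective
        rw [e.apply_symm_apply]
        simp only [map_mul, map_inv]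
        rw [hi]
        simp
      rw [zpow_natCast, ← Subgroup.coe_mul, ← Subgroup.coe_pow, ← map_mul, ← map_pow, ← pow_two,
        ← pow_mul, ← h1]
      simp [commutatorElement_def]
    · have h1 : f (.a 1) * f (.a 1) = f (.xa 0) * f (.a (-1)) * (f (.xa 0))⁻¹ * (f (.a (-1)))⁻¹ := by
        rw [← map_inv, ← map_inv, ← map_mul, ← map_mul, ← map_mul, ← map_mul]
        congr 1
        rw [eq_mul_inv_iff_mul_eq, eq_mul_inv_iff_mul_eq]
        simp only [QuaternionGroup.a_mul_a, QuaternionGroup.a_mul_xa, QuaternionGroup.xa_mul_a]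
        congr 1; ring
      rw [← Subgroup.coe_mul, h1]
      have := commutator_mem_commutator (f (.xa 0)).2 (f (.a (-1))).2
      simpa [commutatorElement_def] using this

variable {S : Sylow 2 G} {D : Subgroup G} {N : ℕ} {a b : G}

theorem QuatFrame.order_sq (F : QuatFrame S D N a b) : orderOf (a * a) = N := by
  have := F.four_le
  rw [← pow_two, orderOf_pow, F.order_a, Nat.gcd_eq_right (dvd_mul_right 2 N), Nat.mul_div_cancel_left]
  norm_num

theorem QuatFrame.card_derived (F : QuatFrame S D N a b) : Nat.card D = N := by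
  rw [F.derived, Nat.card_zpowers, F.order_sq]

theorem QuatFrame.a_mem_cent (F : QuatFrame S D N a b) : a ∈ centralizer (D : Set G) := by
  rw [F.derived, mem_centralizer_iff]
  rintro _ ⟨i, rfl⟩
  exact ((Commute.refl a).mul_right (Commute.refl a)).zpow_right i |>.symm

theorem QuatFrame.sylow_le_normalizer (_F : QuatFrame S D N a b)
    (hD : D = ⁅(S : Subgroup G), (S : Subgroup G)⁆) :
    (S : Subgroup G) ≤ normalizer (D : Set G) := by
  subst hD
  rw [le_normalizer_iff_commutator_le_right]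
  refine commutator_mono le_rfl (commutator_le.2 fun x hx y hy => ?_)
  exact mul_mem (mul_mem (mul_mem hx hy) (inv_mem hx)) (inv_mem hy)

theorem QuatFrame.b_not_cent (F : QuatFrame S D N a b) : b ∉ centralizer (D : Set G) := by
  intro hb
  have h := mem_centralizer_iff.1 hb (a * a) (by rw [F.derived]; exact mem_zpowers _)
  have h1 : b * (a * a) * b⁻¹ = (a * a)⁻¹ := by
    rw [show b * (a * a) * b⁻¹ = b * a * b⁻¹ * (b * a * b⁻¹) by group, F.conj_a, mul_inv_rev]
  rw [← h, mul_inv_cancel_right] at h1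
  have h2 : (a * a) ^ 2 = 1 := by rw [pow_two]; nth_rewrite 1 [h1]; exact inv_mul_cancel _
  have h3 := orderOf_dvd_of_pow_eq_one h2
  rw [F.order_sq] at h3
  have := Nat.le_of_dvd two_pos h3
  have := F.four_le
  omega

theorem QuatFrame.pGroup_cent_card (F : QuatFrame S D N a b) {Q : Subgroup G} (hQ : IsPGroup 2 Q)
    (haQ : a ∈ Q) (hQC : Q ≤ centralizer (D : Set G)) : Q = zpowers a := by
  haveI : Fact (Nat.Prime 2) := ⟨Nat.prime_two⟩
  have hle : zpowers a ≤ Q := zpowers_le.2 haQ
  refine (eq_of_le_of_card_ge hle ?_).symm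
  rw [Nat.card_zpowers, F.order_a]
  obtain ⟨g, hg⟩ := CfsgLib.Invol.exists_conj_le_sylow (Q := Q) hQ S
  have hcQ : Nat.card Q ∣ 4 * N := by
    rw [← F.card_sylow, ← card_map_of_injective (K := Q) (f := (MulAut.conj g).toMonoidHom)
      (MulAut.conj g).injective]
    exact card_dvd_of_le (map_le_iff_le_comap.2 fun x hx => hg x hx)
  obtain ⟨k, hk⟩ := F.two_pow
  obtain ⟨j, hj⟩ := IsPGroup.iff_card.1 hQ
  by_contra hlt
  rw [hj, hk, show 4 * 2 ^ k = 2 ^ (k + 2) by ring] at hcQ
  rw [hj, hk, show 2 * 2 ^ k = 2 ^ (k + 1) by ring] at hlt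
  have h1 := (Nat.pow_dvd_pow_iff_le_right (by norm_num)).1 hcQ
  have h2 : k + 1 < j := (Nat.pow_lt_pow_iff_right (by norm_num)).1 (not_le.1 hlt)
  have hjk : j = k + 2 := by omega
  -- `Q` is then conjugate to `S` and centralizes an element of order at least four
  have hQS : Q.map (MulAut.conj g).toMonoidHom = (S : Subgroup G) := by
    refine eq_of_le_of_card_ge (map_le_iff_le_comap.2 fun x hx => hg x hx) ?_
    rw [F.card_sylow, card_map_of_injective (K := Q) (f := (MulAut.conj g).toMonoidHom)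
      (MulAut.conj g).injective, hj, hk, hjk]
    exact le_of_eq (by ring)
  obtain ⟨e⟩ := F.equiv
  have haaQ : a * a ∈ Q := mul_mem haQ haQ
  set d : (S : Subgroup G) := ⟨g * (a * a) * g⁻¹, by rw [← hQS]; exact ⟨_, haaQ, rfl⟩⟩ with hd
  have hcen : ∀ x : (S : Subgroup G), d * x = x * d := by
    rintro ⟨x, hx⟩
    rw [← hQS] at hx
    obtain ⟨y, hy, rfl⟩ := hx
    refine Subtype.ext ?_
    have hc := mem_centralizer_iff.1 (hQC hy) (a * a) (by rw [F.derived]; exact mem_zpowers _)
    show g * (a * a) * g⁻¹ * (g * y * g⁻¹) = g * y * g⁻¹ * (g * (a * a) * g⁻¹)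
    calc g * (a * a) * g⁻¹ * (g * y * g⁻¹) = g * (a * a * y) * g⁻¹ := by group
      _ = g * (y * (a * a)) * g⁻¹ := by rw [hc]
      _ = _ := by group
  have hc' : ∀ q, e d * q = q * e d := fun q => by
    rw [← e.apply_symm_apply q, ← map_mul, ← map_mul, hcen]
  have hN2 : 2 ≤ N := by have := F.four_le; omega
  have hsq := CfsgLib.Invol.quaternion_central_sq hN2 (hc' _) (hc' _)
  rw [← map_mul, ← map_one e] at hsq
  have h4 : (g * (a * a) * g⁻¹) ^ 2 = 1 := by
    rw [pow_two]; exact congrArg Subtype.val (e.injective hsq)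
  rw [conj_pow, conj_eq_one_iff] at h4
  have h3 := orderOf_dvd_of_pow_eq_one h4
  rw [F.order_sq] at h3
  have := Nat.le_of_dvd two_pos h3
  have := F.four_le
  omega

/-- The complement and the retraction. -/
theorem QuatFrame.exists_retraction (F : QuatFrame S D N a b) :
    ∃ τ : centralizer (D : Set G) →* zpowers a,
      (∀ (x : G) (hx : x ∈ zpowers a) (hx' : x ∈ centralizer (D : Set G)),
        τ ⟨x, hx'⟩ = ⟨x, hx⟩) ∧ Odd (Nat.card τ.ker) := by
  haveI : Fact (Nat.Prime 2) := ⟨Nat.prime_two⟩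
  set C := centralizer (D : Set G) with hC
  have hA : IsPGroup 2 (zpowers a) := by
    obtain ⟨k, hk⟩ := F.two_pow
    exact IsPGroup.of_card (n := k + 1) (by rw [Nat.card_zpowers, F.order_a, hk, pow_succ'])
  set aC : C := ⟨a, F.a_mem_cent⟩ with haC
  obtain ⟨P, hP⟩ : ∃ P : Sylow 2 C, zpowers aC ≤ P := by
    refine IsPGroup.exists_le_sylow ?_
    obtain ⟨k, hk⟩ := F.two_pow
    exact IsPGroup.of_card (n := k + 1) (by
      rw [Nat.card_zpowers, haC, Subgroup.orderOf_mk, F.order_a, hk, pow_succ'])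
  have hPeq : (P : Subgroup C).map C.subtype = zpowers a :=
    F.pGroup_cent_card (P.2.map _) ⟨aC, hP (mem_zpowers _), rfl⟩ (map_subtype_le _)
  haveI hcyc : IsCyclic P :=
    isCyclic_of_surjective ((P : Subgroup C).equivMapOfInjective C.subtype C.subtype_injective |>.trans
      (MulEquiv.subgroupCongr hPeq)).symm.toMonoidHom (MulEquiv.surjective _)
  have hmin : (Nat.card C).minFac = 2 := by
    rw [Nat.minFac_eq_two_iff]
    refine dvd_trans ?_ (orderOf_dvd_natCard aC)
    rw [haC, Subgroup.orderOf_mk, F.order_a]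
    exact dvd_mul_right 2 N
  let ι : P ≃* zpowers a := ((P : Subgroup C).equivMapOfInjective C.subtype C.subtype_injective).trans
    (MulEquiv.subgroupCongr hPeq)
  set tr := MonoidHom.transferSylow P (hcyc.normalizer_le_centralizer hmin) with htr
  have hcomp : tr.ker.IsComplement' P := IsCyclic.isComplement' hmin hcyc
  let r : C →* P := hcomp.symm.QuotientMulEquiv.toMonoidHom.comp (QuotientGroup.mk' tr.ker)
  refine ⟨ι.toMonoidHom.comp r, fun x hx hx' => ?_, ?_⟩
  · have hxP : (⟨x, hx'⟩ : C) ∈ (P : Subgroup C) := by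
      rw [← hPeq] at hx
      obtain ⟨y, hy, rfl⟩ := hx
      exact hy
    have h1 : hcomp.symm.QuotientMulEquiv (QuotientGroup.mk' tr.ker ⟨x, hx'⟩) = ⟨⟨x, hx'⟩, hxP⟩ := by
      rw [← MulEquiv.eq_symm_apply]
      rfl
    show ι (hcomp.symm.QuotientMulEquiv (QuotientGroup.mk' tr.ker ⟨x, hx'⟩)) = _
    rw [h1]
    rfl
  · have hker : (ι.toMonoidHom.comp r).ker = tr.ker := by
      ext x
      rw [MonoidHom.mem_ker, MonoidHom.comp_apply, MulEquiv.coe_toMonoidHom,
        MulEquiv.map_eq_one_iff, MonoidHom.comp_apply, MulEquiv.coe_toMonoidHom,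
        MulEquiv.map_eq_one_iff, QuotientGroup.mk'_apply, QuotientGroup.eq_one_iff]
    rw [hker, htr, Nat.odd_iff]
    have := MonoidHom.not_dvd_card_ker_transferSylow P (hcyc.normalizer_le_centralizer hmin)
    omega

theorem QuatFrame.complement (F : QuatFrame S D N a b)
    (hD : D = ⁅(S : Subgroup G), (S : Subgroup G)⁆) :
    ∃ K : Subgroup G, Odd (Nat.card K) ∧ K ≤ centralizer (D : Set G) ∧
      normalizer (D : Set G) ≤ normalizer (K : Set G) ∧ K ⊔ zpowers a = centralizer (D : Set G) ∧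
      K ⊔ (S : Subgroup G) = normalizer (D : Set G) ∧
      ((centralizer (D : Set G)).subgroupOf (normalizer (D : Set G))).index = 2 := by
  haveI : Fact (Nat.Prime 2) := ⟨Nat.prime_two⟩
  set C := centralizer (D : Set G) with hC
  obtain ⟨τ, hτ, hodd⟩ := F.exists_retraction
  set Nd := normalizer (D : Set G) with hNd
  set K := τ.ker.map C.subtype with hK
  have hKcard : Nat.card K = Nat.card τ.ker := card_map_of_injective C.subtype_injective
  obtain ⟨k, hk⟩ := F.two_pow
  -- membership by order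
  have hmemK : ∀ x ∈ C, Odd (orderOf x) → x ∈ K := by
    intro x hx ho
    refine ⟨⟨x, hx⟩, ?_, rfl⟩
    show τ ⟨x, hx⟩ = 1
    rw [← orderOf_eq_one_iff]
    have h1 : orderOf (τ ⟨x, hx⟩) ∣ orderOf x := by
      rw [← Subgroup.orderOf_mk x hx]; exact orderOf_map_dvd τ _
    have h2 : orderOf (τ ⟨x, hx⟩) ∣ 2 ^ (k + 1) := by
      have := orderOf_dvd_natCard (τ ⟨x, hx⟩)
      rwa [Nat.card_zpowers, F.order_a, hk, ← pow_succ'] at this
    obtain ⟨j, -, hj⟩ := (Nat.dvd_prime_pow Nat.prime_two).1 h2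
    rcases Nat.eq_zero_or_pos j with rfl | hj0
    · simpa using hj
    · rw [hj] at h1
      exact absurd (even_iff_two_dvd.2 ((dvd_pow_self 2 hj0.ne').trans h1))
        (Nat.not_even_iff_odd.2 ho)
  have hCN : ∀ g ∈ Nd, ∀ x ∈ C, g * x * g⁻¹ ∈ C := by
    intro g hg x hx
    rw [hC, mem_centralizer_iff] at hx ⊢
    intro d hd
    have hd' : g⁻¹ * d * g ∈ D := (mem_normalizer_iff''.1 hg d).1 hd
    calc d * (g * x * g⁻¹) = g * ((g⁻¹ * d * g) * x) * g⁻¹ := by group
      _ = g * (x * (g⁻¹ * d * g)) * g⁻¹ := by rw [hx _ hd']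
      _ = _ := by group
  have hKC : K ≤ C := map_subtype_le _
  have hstep : ∀ g ∈ Nd, ∀ x ∈ K, g * x * g⁻¹ ∈ K := by
    intro g hg x hx
    refine hmemK _ (hCN g hg x (hKC hx)) ?_
    rw [← MulAut.conj_apply, MulEquiv.orderOf_eq]
    exact Odd.of_dvd_nat (hKcard ▸ hodd) (Subgroup.orderOf_dvd_natCard K hx)
  have hnorm : Nd ≤ normalizer (K : Set G) := fun g hg => mem_normalizer_iff.2 fun x =>
    ⟨hstep g hg x, fun hx => by
      have h := hstep g⁻¹ (inv_mem hg) _ hx
      simpa [mul_assoc] using h⟩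
  have hsupC : K ⊔ zpowers a = C := by
    refine le_antisymm (sup_le hKC (zpowers_le.2 F.a_mem_cent)) fun x hx => ?_
    set y : G := (τ ⟨x, hx⟩ : G) with hy
    have hyC : y ∈ C := zpowers_le.2 F.a_mem_cent (τ ⟨x, hx⟩).2
    have h1 : x * y⁻¹ ∈ K := by
      refine ⟨⟨x, hx⟩ * ⟨y, hyC⟩⁻¹, ?_, rfl⟩
      show τ _ = 1
      rw [map_mul, map_inv, hτ y (τ ⟨x, hx⟩).2 hyC, mul_inv_eq_one]
    rw [show x = x * y⁻¹ * y by group]
    exact mul_mem (mem_sup_left h1) (mem_sup_right (τ ⟨x, hx⟩).2)
  have hcardC : Nat.card C = Nat.card K * (2 * N) := by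
    have hsurj : Function.Surjective τ := fun y =>
      ⟨⟨y, zpowers_le.2 F.a_mem_cent y.2⟩, hτ _ y.2 _⟩
    rw [hKcard, ← τ.ker.card_mul_index, index_ker, MonoidHom.range_eq_top.2 hsurj, card_top,
      Nat.card_zpowers, F.order_a]
  have hCle : C ≤ Nd := centralizer_le_normalizer _
  set M := C.subgroupOf Nd with hM
  have hMcard : Nat.card M = Nat.card C := Nat.card_congr (subgroupOfEquivOfLe hCle).toEquiv
  -- the automiser is a `2`-group
  obtain ⟨j, hj⟩ : ∃ j, M.index = 2 ^ j := by
    have hker : D.normalizerMonoidHom.ker = M := normalizerMonoidHom_ker (H := D)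
    haveI : IsCyclic D := by rw [F.derived]; infer_instance
    have h1 : M.index ∣ 2 ^ (k - 1) := by
      rw [← hker, index_ker]
      refine (card_subgroup_dvd_card _).trans ?_
      rw [IsCyclic.card_mulAut, F.card_derived, hk, Nat.totient_prime_pow Nat.prime_two (by
        rcases Nat.eq_zero_or_pos k with rfl | h
        · have := F.four_le; rw [hk] at this; norm_num at this
        · exact h)]
      simp
    obtain ⟨j, -, hj⟩ := (Nat.dvd_prime_pow Nat.prime_two).1 h1
    exact ⟨j, hj⟩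
  have hNcard : Nat.card Nd = Nat.card K * (2 * N) * 2 ^ j := by
    rw [← M.card_mul_index, hMcard, hcardC, hj]
  have hSle : (S : Subgroup G) ≤ Nd := F.sylow_le_normalizer hD
  have hj1 : j = 1 := by
    have h1 : 4 * N ∣ Nat.card Nd := F.card_sylow ▸ card_dvd_of_le hSle
    have h2 : Nat.card Nd ∣ Nat.card G := card_subgroup_dvd_card Nd
    have hjle : j ≤ 1 := by
      by_contra hcon
      have h3 : 2 * (4 * N) ∣ Nat.card G := by
        refine dvd_trans ?_ h2
        rw [hNcard, show 2 * (4 * N) = 2 * N * 2 ^ 2 by ring]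
        exact Nat.mul_dvd_mul (dvd_mul_left _ _) (Nat.pow_dvd_pow 2 (by omega))
      rw [← (S : Subgroup G).card_mul_index, F.card_sylow, mul_comm 2] at h3
      exact S.not_dvd_index (Nat.dvd_of_mul_dvd_mul_left (by have := F.four_le; omega) h3)
    rcases Nat.eq_zero_or_pos j with rfl | hj0
    · rw [hNcard, pow_zero, mul_one, show 4 * N = 2 * (2 * N) by ring] at h1
      exact absurd (even_iff_two_dvd.2 (Nat.dvd_of_mul_dvd_mul_right
        (by have := F.four_le; omega) h1)) (Nat.not_even_iff_odd.2 (hKcard ▸ hodd))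
    · omega
  refine ⟨K, hKcard ▸ hodd, hKC, hnorm, hsupC, ?_, by rw [hj, hj1, pow_one]⟩
  refine eq_of_le_of_card_ge (sup_le (hKC.trans hCle) hSle) ?_
  rw [hNcard, hj1]
  have hcop : Nat.Coprime (Nat.card K) (4 * N) := by
    rw [hk, show 4 * 2 ^ k = 2 ^ (k + 2) by ring]
    exact Nat.Coprime.pow_right _ (Nat.coprime_two_right.2 (hKcard ▸ hodd))
  refine le_of_eq_of_le (by ring) (Nat.le_of_dvd Nat.card_pos (hcop.mul_dvd_of_dvd_of_dvd
    (card_dvd_of_le (le_sup_left : K ≤ K ⊔ (S : Subgroup G)))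
    (F.card_sylow ▸ card_dvd_of_le (le_sup_right : (S : Subgroup G) ≤ K ⊔ S))))

/-- An element of the centralizer whose order is divisible by `|D|` generates a subgroup
containing `D`. -/
theorem QuatFrame.derived_le_zpowers (F : QuatFrame S D N a b) {y : G}
    (hy : y ∈ centralizer (D : Set G)) (hdvd : Nat.card D ∣ orderOf y) : D ≤ zpowers y := by
  haveI : Fact (Nat.Prime 2) := ⟨Nat.prime_two⟩
  rw [F.card_derived] at hdvd
  obtain ⟨k, hk⟩ := F.two_pow
  set z := y ^ (orderOf y / N) with hz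
  have hzo : orderOf z = N := by
    rw [hz, orderOf_pow_orderOf_div (orderOf_pos y).ne' hdvd]
  have hzC : z ∈ centralizer (D : Set G) := pow_mem hy _
  set C := centralizer (D : Set G) with hC
  obtain ⟨τ, hτ, hodd⟩ := F.exists_retraction
  set d : C := ⟨a * a, mul_mem F.a_mem_cent F.a_mem_cent⟩ with hd
  set zC : C := ⟨z, hzC⟩ with hzC'
  have hcomm : Commute d zC := Subtype.ext
    (mem_centralizer_iff.1 hzC (a * a) (by rw [F.derived]; exact mem_zpowers _))
  -- both generate the subgroup of order `N` of the image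
  have hinj : ∀ x ∈ closure ({d, zC} : Set C), τ x = 1 → x = 1 := by
    intro x hx hτx
    have hxN : x ^ N = 1 := by
      clear hτx
      haveI : IsMulCommutative (closure ({d, zC} : Set C)) := isMulCommutative_closure (by
        rintro p (rfl | rfl) q (rfl | rfl)
        · rfl
        · exact hcomm
        · exact hcomm.symm
        · rfl)
      induction hx using closure_induction with
      | mem p hp =>
        rcases hp with rfl | rfl
        · refine Subtype.ext ?_
          show (a * a) ^ N = 1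
          rw [← F.order_sq, pow_orderOf_eq_one]
        · refine Subtype.ext ?_
          show z ^ N = 1
          rw [← hzo, pow_orderOf_eq_one]
      | one => exact one_pow N
      | mul p q hp hq ihp ihq =>
        have : Commute p q := congrArg Subtype.val
          ((inferInstance : IsMulCommutative (closure ({d, zC} : Set C))).is_comm.comm ⟨p, hp⟩ ⟨q, hq⟩)
        rw [this.mul_pow, ihp, ihq, one_mul]
      | inv p hp ihp => rw [inv_pow, ihp, inv_one]
    have h1 : orderOf x ∣ N := orderOf_dvd_of_pow_eq_one hxN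
    have h2 : orderOf x ∣ Nat.card τ.ker := Subgroup.orderOf_dvd_natCard _ (MonoidHom.mem_ker.2 hτx)
    have hcop : Nat.Coprime (Nat.card τ.ker) N := by
      rw [hk]; exact Nat.Coprime.pow_right _ (Nat.coprime_two_right.2 hodd)
    exact orderOf_eq_one_iff.1 (Nat.dvd_one.1 (hcop.gcd_eq_one ▸ Nat.dvd_gcd h2 h1))
  have hdmem : d ∈ closure ({d, zC} : Set C) := subset_closure (Set.mem_insert _ _)
  have hzmem : zC ∈ closure ({d, zC} : Set C) := subset_closure (Set.mem_insert_of_mem _ rfl)
  have horder : ∀ x ∈ closure ({d, zC} : Set C), orderOf (τ x) = orderOf x := by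
    intro x hx
    refine Nat.dvd_antisymm (orderOf_map_dvd τ x) (orderOf_dvd_of_pow_eq_one
      (hinj _ (pow_mem hx _) (by rw [map_pow, pow_orderOf_eq_one])))
  have hsame : zpowers (τ d) = zpowers (τ zC) := by
    refine cyclic_subgroup_eq ?_
    rw [Nat.card_zpowers, Nat.card_zpowers, horder d hdmem, horder zC hzmem, hd, hzC',
      Subgroup.orderOf_mk, Subgroup.orderOf_mk, hzo, F.order_sq]
  obtain ⟨i, hi⟩ := mem_zpowers_iff.1 (hsame ▸ mem_zpowers (τ d) : τ d ∈ zpowers (τ zC))
  have h1 : d = zC ^ i := by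
    rw [← mul_inv_eq_one]
    refine hinj _ (mul_mem hdmem (inv_mem (zpow_mem hzmem i))) ?_
    rw [map_mul, map_inv, map_zpow, hi, mul_inv_cancel]
  rw [F.derived, zpowers_le]
  have h2 : a * a = z ^ i := congrArg Subtype.val h1
  rw [h2, hz]
  exact zpow_mem (pow_mem (mem_zpowers y) _) i

/-- The elements of the centralizer of order divisible by `|D|` form a TI set. -/
theorem QuatFrame.mem_normalizer_of_conj (F : QuatFrame S D N a b) {g y : G}
    (hy : y ∈ centralizer (D : Set G)) (hdvd : Nat.card D ∣ orderOf y)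
    (hgy : g * y * g⁻¹ ∈ centralizer (D : Set G)) : g ∈ normalizer (D : Set G) := by
  have h1 := F.derived_le_zpowers hy hdvd
  have h2 := F.derived_le_zpowers hgy (by rwa [← MulAut.conj_apply, MulEquiv.orderOf_eq])
  have hmap : (zpowers y).map (MulAut.conj g).toMonoidHom = zpowers (g * y * g⁻¹) := by
    rw [MonoidHom.map_zpowers]; rfl
  have hDg : D.map (MulAut.conj g).toMonoidHom ≤ zpowers (g * y * g⁻¹) := hmap ▸ map_mono h1
  have he : D.map (MulAut.conj g).toMonoidHom = D := by
    have h3 : (D.map (MulAut.conj g).toMonoidHom).subgroupOf (zpowers (g * y * g⁻¹)) =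
        D.subgroupOf (zpowers (g * y * g⁻¹)) := by
      refine cyclic_subgroup_eq ?_
      rw [Nat.card_congr (subgroupOfEquivOfLe hDg).toEquiv,
        Nat.card_congr (subgroupOfEquivOfLe h2).toEquiv,
        card_map_of_injective (f := (MulAut.conj g).toMonoidHom) (MulAut.conj g).injective]
    have := congrArg (Subgroup.map (zpowers (g * y * g⁻¹)).subtype) h3
    rwa [subgroupOf_map_subtype, subgroupOf_map_subtype, inf_eq_left.2 hDg, inf_eq_left.2 h2] at this
  rw [mem_normalizer_iff]
  intro x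
  constructor
  · intro hx
    rw [← he]; exact ⟨x, hx, rfl⟩
  · intro hx
    rw [← he] at hx
    obtain ⟨w, hw, hwe⟩ := hx
    rwa [← (MulAut.conj g).injective (hwe : MulAut.conj g w = MulAut.conj g x)]

end CfsgLib.Char
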