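import Cfsg.Agent.Lib.Char.Galois

/-!
# Rational characters
-/

set_option autoImplicit false
set_option linter.unusedSectionVars false

namespace CfsgLib.Char

open Representation Module Cfsg

universe u

variable {G : Type u} [Group G] [Finite G]

theorem all_rational_iff :
    (∀ χ : IrrCharacter G, ∀ g : G, ∃ q : ℚ, (χ : G → ℂ) g = (q : ℂ)) ↔
      ∀ m : ℕ, m.Coprime (Nat.card G) → ∀ g : G, IsConj g (g ^ m) := by
  constructor
  · intro h m hm g
    refine isConj_of_irr_agree fun χ => ?_
    obtain ⟨φ, hφ⟩ := exists_embedding_of_coprime (Nat.card G) Nat.card_pos.ne' m hm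
    obtain ⟨q, hq⟩ := h χ g
    obtain ⟨χ, n, ρ, hρ, rfl⟩ := χ
    change ρ.character g = (q : ℂ) at hq
    have hx : ((algebraMap ℚ Alg q : Alg) : ℂ) = ρ.character g := by
      rw [hq]; simp
    have h1 := char_apply_embedding ρ φ m hφ g _ hx
    rw [AlgHom.commutes] at h1
    show ρ.character g = ρ.character (g ^ m)
    rw [← h1, hq]; simp
  · intro h χ g
    have hint := isCharacter_isIntegral (isCharacter_irr χ) g
    refine exists_rat_of_fixed ⟨_, mem_alg_of_isIntegral hint⟩ fun φ => ?_
    obtain ⟨m, hm, htw⟩ := exists_char_twist (G := G) φ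
    rw [htw _ (isCharacter_irr χ) g _ rfl]
    exact (classFun_isConj (isClassFunction_irr χ) (h m hm g)).symm

end CfsgLib.Char
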