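import Cfsg.Agent.Lib.Char.StrunkovOdd
import Cfsg.Agent.Lib.Block.RealBlocks
import Cfsg.Agent.Lib.Block.BrauerFeit
import Cfsg.Agent.Lib.Coprime.Action
import Cfsg.Agent.Lib.Invol.Basic

/-!
# Real characters of even degree, real characters in the principal 2-block

* `exists_real_even_degree`: a real element `y ≠ 1` with a single square root gives a real irreducible character
  of even degree.
* `exists_real_ne_one`: a group of even order has a real character other than the trivial one in its principal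
  2-block.
* `exists_real_odd_centralizer`: if the involutions are conjugate to `t` and the involutions of `C(t)` are few,
  then some nontrivial real element has a centralizer of odd order.
-/

set_option autoImplicit false
set_option linter.unusedSectionVars false
set_option linter.style.haveILetI false

namespace CfsgLib.Char.RealEven

open Cfsg CfsgLib CfsgLib.Char.Strunkov
open scoped ComplexConjugate

universe u

variable {G : Type u} [Group G] [Finite G]

/-- A real element with a single square root gives a real character of even degree. -/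
theorem exists_real_even_degree (y : G) (hy : y ≠ 1) (hreal : IsConj y y⁻¹)
    (hroot : Nat.card {s : G // s * s = y} = 1) :
    ∃ χ : IrrCharacter G, Even (charDegree (χ : G → ℂ)) ∧ ∀ g : G, (χ : G → ℂ) g⁻¹ = (χ : G → ℂ) g := by
  classical
  have := Fintype.ofFinite G
  have := Fintype.ofFinite (IrrCharacter G)
  suffices h : ∃ χ : IrrCharacter G, sqInd (χ : G → ℂ) ≠ 0 ∧ Even (charDegree (χ : G → ℂ)) by
    obtain ⟨χ, h0, he⟩ := h
    exact ⟨χ, he, fun g => by rw [irr_inv]; exact Complex.conj_eq_iff_im.2 (real_of_sqInd_ne_zero χ h0 g)⟩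
  by_contra hall
  push Not at hall
  have hroots := card_square_roots y
  rw [hroot, Nat.cast_one] at hroots
  have horth := sum_irr_mul_conj (G := G) y 1
  rw [if_neg (fun e => hy (isConj_one_left.1 e))] at horth
  have hval : ∀ χ : IrrCharacter G, (χ : G → ℂ) y * conj ((χ : G → ℂ) 1) =
      (charDegree (χ : G → ℂ) : ℂ) * (χ : G → ℂ) y := fun χ => by
    rw [Block.ItoMichler.one_eq_cast χ, map_natCast, mul_comm]
  rw [Finset.sum_congr rfl fun χ _ => hval χ] at horth
  set S := Finset.univ.filter fun χ : IrrCharacter G => sqInd (χ : G → ℂ) = 0 with hS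
  set R := Finset.univ.filter fun χ : IrrCharacter G => ¬ sqInd (χ : G → ℂ) = 0 with hR
  let bar : IrrCharacter G → IrrCharacter G := fun χ => ⟨_, irr_inv_isIrr χ⟩
  obtain ⟨X, hX, hXs⟩ := exists_two_mul
    (fun χ : IrrCharacter G => (charDegree (χ : G → ℂ) : ℂ) * (χ : G → ℂ) y) bar S.card S rfl
    fun χ hχ => by
      have h0 := (Finset.mem_filter.1 hχ).2
      obtain ⟨s, hs⟩ := (sqInd_cases χ).2.1 h0
      refine ⟨Finset.mem_filter.2 ⟨Finset.mem_univ _, (sqInd_cases (bar χ)).2.2 ⟨s⁻¹, ?_⟩⟩,
        fun e => hs ?_, Subtype.ext (funext fun g => ?_), ?_,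
        (isIntegral_algebraMap (x := ((charDegree (χ : G → ℂ) : ℕ) : ℤ))).mul
          (isCharacter_isIntegral (isCharacter_irr χ) y)⟩
      · show ((χ : G → ℂ) (s⁻¹)⁻¹).im ≠ 0
        rwa [inv_inv]
      · have h1 : (χ : G → ℂ) s⁻¹ = (χ : G → ℂ) s := congrFun (congrArg Subtype.val e) s
        rw [irr_inv] at h1
        exact Complex.conj_eq_iff_im.1 h1
      · show (χ : G → ℂ) (g⁻¹)⁻¹ = _
        rw [inv_inv]
      · show (charDegree (fun g => (χ : G → ℂ) g⁻¹) : ℂ) * (χ : G → ℂ) y⁻¹ = _
        rw [show charDegree (fun g => (χ : G → ℂ) g⁻¹) = charDegree (χ : G → ℂ) by simp [charDegree],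
          ← classFun_isConj (isClassFunction_irr χ) hreal]
  have hZ : ∀ χ ∈ R, ∃ k : ℤ, sqInd (χ : G → ℂ) = (charDegree (χ : G → ℂ) : ℂ) + 2 * (k : ℂ) := by
    intro χ hχ
    obtain ⟨j, hj⟩ := Nat.not_even_iff_odd.1 (hall χ (Finset.mem_filter.1 hχ).2)
    rcases (sqInd_cases χ).1 with h | h | h
    · exact absurd h (Finset.mem_filter.1 hχ).2
    · exact ⟨-(j : ℤ), by rw [h, hj]; push_cast; ring⟩
    · exact ⟨-(j : ℤ) - 1, by rw [h, hj]; push_cast; ring⟩
  choose! k hk using hZ
  set Y := ∑ χ ∈ R, (k χ : ℂ) * (χ : G → ℂ) y with hY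
  have hYint : IsIntegral ℤ Y := IsIntegral.sum _ fun χ _ =>
    (isIntegral_algebraMap (x := k χ)).mul (isCharacter_isIntegral (isCharacter_irr χ) y)
  have hsplit : ∀ f : IrrCharacter G → ℂ, ∑ χ, f χ = ∑ χ ∈ S, f χ + ∑ χ ∈ R, f χ := fun f =>
    (Finset.sum_filter_add_sum_filter_not Finset.univ _ f).symm
  rw [hsplit, hXs] at horth
  rw [hsplit, Finset.sum_eq_zero (s := S) (fun χ hχ => by rw [(Finset.mem_filter.1 hχ).2, zero_mul]),
    zero_add, Finset.sum_congr rfl (fun χ hχ => by rw [hk χ hχ, add_mul, mul_assoc]),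
    Finset.sum_add_distrib, ← Finset.mul_sum, ← hY] at hroots
  have h1 : ((1 : ℕ) : ℂ) = ((2 : ℕ) : ℂ) * (Y - X) := by
    push_cast
    linear_combination hroots + horth
  have := dvd_of_eq_mul_isIntegral two_ne_zero (hYint.sub hX) h1
  norm_num at this

/-- The principal 2-block of a group of even order has a nontrivial real character. -/
theorem exists_real_ne_one (M : Ideal AlgInt) (hM : IsPModular 2 M) (h2 : 2 ∣ Nat.card G) :
    ∃ χ ∈ principalBlock M G, (χ : G → ℂ) ≠ (fun _ => 1) ∧ ∀ g : G, (χ : G → ℂ) g⁻¹ = (χ : G → ℂ) g := by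
  classical
  haveI := hM.2.1
  have := Fintype.ofFinite G
  have := Fintype.ofFinite (IrrCharacter G)
  by_contra hcon
  push Not at hcon
  set B := principalBlock M G with hB
  obtain ⟨t, -, hsum⟩ := Block.exists_sum_degree_sq hM (Block.isPBlock_principalBlock (M := M) (G := G))
  set s := Finset.univ.filter (· ∈ B) with hs
  -- the sum of the squares of the degrees is even
  have heven : Even (∑ χ ∈ s, charDegree (χ : G → ℂ) ^ 2) := by
    have hc := Block.charP_resField hM
    rw [even_iff_two_dvd, ← CharP.cast_eq_zero_iff (Block.ResField M) 2]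
    have h1 : ((∑ χ ∈ s, charDegree (χ : G → ℂ) ^ 2 : ℕ) : Block.locRing M) =
        (Nat.card G : Block.locRing M) * ((2 : ℕ) : Block.locRing M) ^ Block.minDeg 2 B * t :=
      Subtype.ext (by
        push_cast at hsum ⊢
        exact hsum)
    have h3 := congrArg (Block.res M) h1
    rw [Block.res_natCast, map_mul, map_mul, Block.res_natCast,
      (CharP.cast_eq_zero_iff (Block.ResField M) 2 _).2 h2, zero_mul, zero_mul] at h3
    exact h3
  -- the nontrivial members fall into pairs of conjugates
  have hone : Block.conjChar (Block.oneChar G) = Block.oneChar G :=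
    Subtype.ext (funext fun g => by rw [Block.conjChar_apply]; exact map_one _)
  have hconj : ∀ χ ∈ B, Block.conjChar χ ∈ B := fun χ hχ => by
    have h := Block.conjChar_mem_blockOf (χ := Block.oneChar G) hχ
    rwa [hone] at h
  have hone2 : ∀ χ : IrrCharacter G, Block.conjChar (Block.conjChar χ) = χ := fun χ =>
    Subtype.ext (funext fun g => by rw [Block.conjChar_apply, Block.conjChar_apply, Complex.conj_conj])
  have hrest : ∑ χ ∈ s.erase (Block.oneChar G), ((charDegree (χ : G → ℂ) ^ 2 : ℕ) : ZMod 2) = 0 := by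
    refine Finset.sum_involution (fun χ _ => Block.conjChar χ) (fun χ _ => ?_) (fun χ hχ _ e => ?_)
      (fun χ hχ => ?_) fun χ _ => hone2 χ
    · have hd : charDegree (Block.conjChar χ : G → ℂ) = charDegree (χ : G → ℂ) := by
        simp [charDegree, Block.conjChar_apply, Char.conj_irr_one]
      rw [hd, CharTwo.add_self_eq_zero]
    · obtain ⟨hne, hmem⟩ := Finset.mem_erase.1 hχ
      obtain ⟨g, hg⟩ := hcon χ (Finset.mem_filter.1 hmem).2 (fun e' => hne (Subtype.ext e'))
      refine hg ?_
      rw [← Block.conjChar_eq_inv, e]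
    · obtain ⟨hne, hmem⟩ := Finset.mem_erase.1 hχ
      refine Finset.mem_erase.2 ⟨fun e => hne ?_, Finset.mem_filter.2 ⟨Finset.mem_univ _,
        hconj χ (Finset.mem_filter.1 hmem).2⟩⟩
      rw [← hone2 χ, e, hone]
  have hmem : Block.oneChar G ∈ s := Finset.mem_filter.2 ⟨Finset.mem_univ _, Block.one_mem_principalBlock⟩
  have htot : ((∑ χ ∈ s, charDegree (χ : G → ℂ) ^ 2 : ℕ) : ZMod 2) = 1 := by
    rw [Nat.cast_sum, ← Finset.add_sum_erase s _ hmem, hrest, add_zero]
    simp [charDegree, Block.oneChar]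
  rw [(ZMod.natCast_eq_zero_iff_even).2 heven] at htot
  exact zero_ne_one htot

open Subgroup in
/-- Two involutions whose product has a centralizer of even order have a common centralizing involution. -/
theorem exists_common {t s : G} (ht : orderOf t = 2) (hs : orderOf s = 2)
    (hev : 2 ∣ Nat.card (centralizer ({t * s} : Set G))) :
    ∃ u : G, orderOf u = 2 ∧ Commute u t ∧ Commute u s := by
  classical
  haveI := Fact.mk Nat.prime_two
  have htt := Invol.invol_mul_self ht
  have hss := Invol.invol_mul_self hs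
  set y := t * s
  set D := centralizer ({y} : Set G)
  have hty : t * y * t⁻¹ = y⁻¹ := by
    rw [inv_eq_of_mul_eq_one_right htt, mul_inv_rev, inv_eq_of_mul_eq_one_right htt,
      inv_eq_of_mul_eq_one_right hss, show t * (t * s) * t = t * t * (s * t) by group, htt, one_mul]
  have hDn : ∀ d ∈ D, t * d * t⁻¹ ∈ D := fun d hd => by
    refine mem_centralizer_singleton_iff.2 ?_
    have h1 : Commute d y := mem_centralizer_singleton_iff.1 hd
    have h2 := h1.inv_right.map (MulAut.conj t).toMonoidHom
    rw [map_inv] at h2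
    show Commute (t * d * t⁻¹) y
    have h3 : ((MulAut.conj t).toMonoidHom y)⁻¹ = y := by
      show (t * y * t⁻¹)⁻¹ = y
      rw [hty, inv_inv]
    rwa [h3] at h2
  have htn : t ∈ normalizer (D : Set G) := mem_normalizer_fintype hDn
  obtain ⟨W⟩ : Nonempty (Sylow 2 D) := inferInstance
  set N := D ⊔ zpowers t
  -- `t` fixes a Sylow subgroup of `D`
  let α : MulAut D := normalizerMonoidHom D ⟨t, htn⟩
  have hαα : α * α = 1 := by
    rw [← map_mul, show (⟨t, htn⟩ : normalizer (D : Set G)) * ⟨t, htn⟩ = 1 from Subtype.ext htt, map_one]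
  letI := Fintype.ofFinite (Sylow 2 D)
  let σ : Equiv.Perm (Sylow 2 D) := MulAction.toPerm α
  have hσ : σ ^ 2 ^ 1 = 1 := Equiv.ext fun S => by
    rw [pow_one, pow_two, Equiv.Perm.mul_apply, Equiv.Perm.one_apply]
    show α • (α • S) = S
    rw [← mul_smul, hαα, one_smul]
  obtain ⟨W, hW⟩ := Equiv.Perm.exists_fixed_point_of_prime (p := 2) (α := Sylow 2 D)
    (by
      have h := card_sylow_modEq_one 2 D
      rw [Nat.card_eq_fintype_card] at h
      intro hd
      rw [Nat.ModEq, Nat.mod_eq_zero_of_dvd hd] at h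
      norm_num at h) hσ
  have hWt : ∀ w ∈ (W : Subgroup D), α w ∈ (W : Subgroup D) := fun w hw => by
    have h1 : α w ∈ ((α • W : Sylow 2 D) : Subgroup D) := by
      rw [Sylow.pointwise_smul_def]
      exact smul_mem_pointwise_smul w α _ hw
    rwa [show α • W = W from hW] at h1
  let β : Equiv.Perm (W : Subgroup D) :=
    { toFun := fun w => ⟨α w, hWt w w.2⟩
      invFun := fun w => ⟨α w, hWt w w.2⟩
      left_inv := fun w => Subtype.ext (congrArg (fun f : MulAut D => f w.1) hαα)
      right_inv := fun w => Subtype.ext (congrArg (fun f : MulAut D => f w.1) hαα) }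
  letI := Fintype.ofFinite (W : Subgroup D)
  obtain ⟨w, hw, hw1⟩ : ∃ w : (W : Subgroup D), β w = w ∧ w ≠ 1 := by
    have hcard : 2 ∣ Fintype.card (W : Subgroup D) := by
      rw [← Nat.card_eq_fintype_card]
      exact W.dvd_card_of_dvd_card hev
    have hβ : β ^ 2 ^ 1 = 1 := Equiv.ext fun w => by
      rw [pow_one, pow_two]
      exact β.left_inv w
    exact Equiv.Perm.exists_fixed_point_of_prime' hcard hβ (a := 1) (Subtype.ext (map_one α))
  obtain ⟨k, hk⟩ := IsPGroup.iff_orderOf.1 W.2 w
  have hk1 : k ≠ 0 := fun h0 => hw1 (orderOf_eq_one_iff.1 (by rw [hk, h0, pow_zero]))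
  set u : D := (w : D) ^ 2 ^ (k - 1)
  have hu : orderOf u = 2 := by
    rw [orderOf_pow_of_dvd (by positivity), Subgroup.orderOf_coe, hk,
      Nat.pow_div (by omega) (by norm_num), show k - (k - 1) = 1 by omega, pow_one]
    rw [Subgroup.orderOf_coe, hk]
    exact pow_dvd_pow 2 (by omega)
  have hut : Commute (u : G) t := by
    have h1 : t * ((w : D) : G) * t⁻¹ = ((w : D) : G) := congrArg (fun z : (W : Subgroup D) => ((z : D) : G)) hw
    have h2 : Commute ((w : D) : G) t := (mul_inv_eq_iff_eq_mul.1 h1).symm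
    have := h2.pow_left (2 ^ (k - 1))
    simpa [u] using this
  have huy : Commute (u : G) y := mem_centralizer_singleton_iff.1 u.2
  refine ⟨u, (Subgroup.orderOf_coe u).trans hu, hut, ?_⟩
  rw [show s = t * y by simp only [y]; rw [← mul_assoc, htt, one_mul]]
  exact hut.mul_right huy

open Subgroup in
/-- If the involutions are conjugate to `t` and `C(t)` has few of them, some nontrivial real element has a
centralizer of odd order. -/
theorem exists_real_odd_centralizer {t : G} (ht : orderOf t = 2) (hconj : ∀ u : G, orderOf u = 2 → IsConj t u)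
    {i : ℕ} (hi : Nat.card {u : G // orderOf u = 2 ∧ Commute u t} ≤ i)
    (hlt : i * i * Nat.card (centralizer ({t} : Set G)) < Nat.card G) :
    ∃ y : G, y ≠ 1 ∧ IsConj y y⁻¹ ∧ Odd (Nat.card (centralizer ({y} : Set G))) := by
  classical
  by_contra hcon
  push Not at hcon
  have := Fintype.ofFinite G
  let J : G → Type u := fun v => {u : G // orderOf u = 2 ∧ Commute u v}
  have hJ : ∀ v : G, orderOf v = 2 → Nat.card (J v) ≤ i := fun v hv => by
    obtain ⟨g, hg⟩ := isConj_iff.1 (hconj v hv)
    refine le_trans (le_of_eq (Nat.card_congr ((MulAut.conj g).toEquiv.subtypeEquiv fun u => ?_)).symm) hi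
    show orderOf u = 2 ∧ Commute u t ↔ orderOf (MulAut.conj g u) = 2 ∧ Commute (MulAut.conj g u) v
    rw [MulEquiv.orderOf_eq, ← hg, ← MulAut.conj_apply g t]
    exact and_congr_right fun _ => ((commute_map_iff (MulAut.conj g).injective).symm)
  have hsurj : ∀ s : {s : G // IsConj t s}, ∃ x : Σ u : J t, J u.1, x.2.1 = s.1 := by
    rintro ⟨s, hs⟩
    have hso : orderOf s = 2 := by
      obtain ⟨g, rfl⟩ := isConj_iff.1 hs
      exact Invol.invol_conj ht g
    suffices h : ∃ u : G, orderOf u = 2 ∧ Commute u t ∧ Commute u s by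
      obtain ⟨u, hu, hut, hus⟩ := h
      exact ⟨⟨⟨u, hu, hut⟩, ⟨s, hso, hus.symm⟩⟩, rfl⟩
    by_cases he : s = t
    · exact ⟨t, ht, Commute.refl t, he ▸ Commute.refl t⟩
    refine exists_common ht hso (even_iff_two_dvd.1 (Nat.not_odd_iff_even.1 (hcon (t * s) (fun e => he ?_) ?_)))
    · rw [eq_inv_of_mul_eq_one_right e, Invol.invol_inv ht]
    · refine isConj_iff.2 ⟨t, ?_⟩
      rw [mul_inv_rev, Invol.invol_inv ht, Invol.invol_inv hso,
        show t * (t * s) * t = t * t * (s * t) by group, Invol.invol_mul_self ht, one_mul]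
  have hle : Nat.card {s : G // IsConj t s} ≤ i * i := by
    choose f hf using hsurj
    refine (Nat.card_le_card_of_injective f fun a b e => Subtype.ext (by rw [← hf a, ← hf b, e])).trans ?_
    letI : Fintype (J t) := Fintype.ofFinite _
    rw [Nat.card_sigma]
    refine (Finset.sum_le_card_nsmul _ _ i fun u _ => hJ u.1 u.2.1).trans ?_
    rw [smul_eq_mul, Finset.card_univ, ← Nat.card_eq_fintype_card]
    exact Nat.mul_le_mul_right i (hJ t ht)
  rw [← index_mul_card (centralizer ({t} : Set G)), ← Char.card_isConj t] at hlt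
  exact absurd hlt (not_lt.2 (Nat.mul_le_mul_right _ hle))

end CfsgLib.Char.RealEven
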