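import Cfsg.Agent.Lib.Char.Perm
import Mathlib

/-!
# Small facts on permutation groups
-/

set_option autoImplicit false
set_option linter.unusedSectionVars false
set_option linter.style.haveILetI false

namespace CfsgLib.Char

theorem closed_of_stab_closed {Ω : Type*} (G : Subgroup (Equiv.Perm Ω)) (m : ℕ) (hm : 2 ≤ m) (α : Ω)
    (hclosed : ∀ σ : Equiv.Perm Ω,
      (∀ t : Fin (m - 1) → Ω, ∃ g ∈ MulAction.stabilizer G α, ∀ i, (g : Equiv.Perm Ω) (t i) = σ (t i)) →
        σ ∈ G ∧ σ α = α)
    (σ : Equiv.Perm Ω) (hσ : ∀ t : Fin m → Ω, ∃ g ∈ G, ∀ i, g (t i) = σ (t i)) : σ ∈ G := by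
  obtain ⟨k, rfl⟩ : ∃ k, m = k + 1 := ⟨m - 1, by omega⟩
  obtain ⟨g, hg, hgα⟩ := hσ fun _ => α
  have h0 : g α = σ α := hgα 0
  have key : g⁻¹ * σ ∈ G := (hclosed _ fun t => by
    obtain ⟨h, hh, hht⟩ := hσ (Fin.cons α fun i => t ⟨i, by omega⟩)
    refine ⟨⟨g⁻¹ * h, mul_mem (inv_mem hg) hh⟩, ?_, fun i => ?_⟩
    · show (g⁻¹ * h) α = α
      have := hht 0
      simp only [Fin.cons_zero] at this
      rw [Equiv.Perm.mul_apply, this, ← h0, Equiv.Perm.inv_def, Equiv.symm_apply_apply]
    · show (g⁻¹ * h) (t i) = (g⁻¹ * σ) (t i)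
      have := hht (Fin.succ ⟨i, by omega⟩)
      simp only [Fin.cons_succ] at this
      rw [Equiv.Perm.mul_apply, Equiv.Perm.mul_apply, this]).1
  simpa using mul_mem hg key

theorem closed_of_base {Ω : Type*} (G : Subgroup (Equiv.Perm Ω)) (k : ℕ) (α : Fin k → Ω)
    (hbase : ∀ g ∈ G, (∀ i, g (α i) = α i) → g = 1) (σ : Equiv.Perm Ω)
    (hσ : ∀ t : Fin (k + 1) → Ω, ∃ g ∈ G, ∀ i, σ (t i) = g (t i)) : σ ∈ G := by
  rcases isEmpty_or_nonempty Ω with h | ⟨⟨x0⟩⟩
  · rw [Subsingleton.elim σ 1]; exact one_mem G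
  choose g hg hgt using fun x : Ω => hσ (Fin.cons x α)
  have hx : ∀ x, σ x = g x x := fun x => by simpa using hgt x 0
  have hα : ∀ x i, σ (α i) = g x (α i) := fun x i => by simpa using hgt x i.succ
  have heq : ∀ x, g x = g x0 := fun x => by
    have := hbase ((g x0)⁻¹ * g x) (mul_mem (inv_mem (hg x0)) (hg x)) fun i => by
      rw [Equiv.Perm.mul_apply, ← hα, hα x0, Equiv.Perm.inv_def, Equiv.symm_apply_apply]
    exact (inv_mul_eq_one.1 this).symm
  rw [show σ = g x0 from Equiv.ext fun x => by rw [hx x, heq x]]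
  exact hg x0

variable {G Ω : Type*} [Group G] [Finite G] [MulAction G Ω]

theorem stab_fix_second [FaithfulSMul G Ω] [Finite Ω] (hprim : MulAction.IsPreprimitive G Ω) (a b : Ω) (hab : a ≠ b)
    (hfix : ∀ g : G, g • a = a → g • b = b) :
    MulAction.stabilizer G a = ⊥ ∧ IsCyclic G ∧ (Nat.card G).Prime := by
  haveI : Nontrivial Ω := ⟨a, b, hab⟩
  haveI := hprim
  have hco : IsCoatom (MulAction.stabilizer G a) := (MulAction.isCoatom_stabilizer_iff_preprimitive G a).2 hprim
  obtain ⟨g, hg⟩ := MulAction.exists_smul_eq G a b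
  have hle : MulAction.stabilizer G a ≤ MulAction.stabilizer G b := fun x hx => hfix x hx
  have heq : MulAction.stabilizer G a = MulAction.stabilizer G b :=
    (hco.le_iff.1 hle).resolve_left (fun h => by
      have h' := ((MulAction.isCoatom_stabilizer_iff_preprimitive G b).2 hprim).1
      exact h' h) |>.symm
  have hn : MulAction.stabilizer G a ≤ Subgroup.normalizer (MulAction.stabilizer G a : Set G) := Subgroup.le_normalizer
  have hgn : g ∈ Subgroup.normalizer (MulAction.stabilizer G a : Set G) := by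
    rw [Subgroup.mem_normalizer_iff]
    intro x
    show x ∈ MulAction.stabilizer G a ↔ g * x * g⁻¹ ∈ MulAction.stabilizer G a
    conv_rhs => rw [heq]
    rw [MulAction.mem_stabilizer_iff, MulAction.mem_stabilizer_iff, ← hg, mul_smul, mul_smul, inv_smul_smul]
    exact ⟨fun h => by rw [h], fun h => smul_left_cancel g h⟩
  have hga : g ∉ MulAction.stabilizer G a := fun h => hab (h.symm.trans hg)
  have htop : Subgroup.normalizer (MulAction.stabilizer G a : Set G) = ⊤ :=
    (hco.le_iff.1 hn).resolve_right fun h => hga (h ▸ hgn)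
  haveI hN : (MulAction.stabilizer G a).Normal := Subgroup.normalizer_eq_top_iff.1 htop
  have hbot : MulAction.stabilizer G a = ⊥ := by
    rw [Subgroup.eq_bot_iff_forall]
    intro x hx
    refine FaithfulSMul.eq_of_smul_eq_smul (α := Ω) fun c => ?_
    obtain ⟨h, rfl⟩ := MulAction.exists_smul_eq G a c
    have h2 : h⁻¹ * x * h ∈ MulAction.stabilizer G a := hN.conj_mem' x hx h
    rw [MulAction.mem_stabilizer_iff, mul_smul, mul_smul, inv_smul_eq_iff] at h2
    rw [h2, one_smul]
  refine ⟨hbot, ?_⟩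
  rw [hbot] at hco
  haveI : Nontrivial G := ⟨g, 1, fun h => hab (by rw [← hg, h, one_smul])⟩
  have hz : ∀ x : G, x ≠ 1 → Subgroup.zpowers x = ⊤ := fun x hx =>
    (hco.le_iff.1 bot_le).resolve_right (by rw [Subgroup.zpowers_eq_bot]; exact hx)
  obtain ⟨p, hp, hpd⟩ := Nat.exists_prime_and_dvd (Finite.one_lt_card (α := G)).ne'
  haveI : Fact p.Prime := ⟨hp⟩
  obtain ⟨x, hx⟩ := exists_prime_orderOf_dvd_card' p hpd
  have htx := hz x (fun h => by rw [h, orderOf_one] at hx; exact hp.one_lt.ne hx)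
  refine ⟨⟨x, fun y => by rw [← Subgroup.mem_zpowers_iff, htx]; trivial⟩, ?_⟩
  rw [← Subgroup.card_top, ← htx, Nat.card_zpowers, hx]
  exact hp

theorem regular_cycle (h : ∀ g : G, Squarefree (orderOf g) → ∃ ω : Ω, MulAction.stabilizer (Subgroup.zpowers g) ω = ⊥)
    (g : G) : ∃ ω : Ω, MulAction.stabilizer (Subgroup.zpowers g) ω = ⊥ := by
  classical
  set n := orderOf g with hn
  set r := ∏ p ∈ n.primeFactors, p with hr
  have hrn : r ∣ n := Nat.prod_primeFactors_dvd n
  have hr0 : 0 < r := Finset.prod_pos fun p hp => (Nat.prime_of_mem_primeFactors hp).pos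
  set g' := g ^ (n / r) with hg'
  have ho : orderOf g' = r := orderOf_pow_orderOf_div (orderOf_pos g).ne' hrn
  have hsq : Squarefree r := by
    rw [Nat.squarefree_iff_nodup_primeFactorsList hr0.ne', List.nodup_iff_count_le_one]
    intro p
    rw [Nat.primeFactorsList_count_eq]
    rw [hr, Nat.factorization_prod fun p hp => (Nat.prime_of_mem_primeFactors hp).ne_zero, Finset.sum_apply']
    rw [Finset.sum_congr rfl fun q hq => by rw [(Nat.prime_of_mem_primeFactors hq).factorization, Finsupp.single_apply]]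
    rw [Finset.sum_ite_eq']
    split_ifs <;> omega
  obtain ⟨ω, hω⟩ := h g' (ho ▸ hsq)
  refine ⟨ω, ?_⟩
  rw [Subgroup.eq_bot_iff_forall]
  intro x hx
  by_contra hne
  obtain ⟨p, hp, hpd⟩ := Nat.exists_prime_and_dvd (show orderOf x ≠ 1 from fun h => hne (orderOf_eq_one_iff.1 h))
  set y := (x : G) ^ (orderOf x / p) with hy
  have hoy : orderOf y = p := by
    rw [hy, ← Subgroup.orderOf_coe x]
    exact orderOf_pow_orderOf_div (orderOf_pos _).ne' (by rwa [Subgroup.orderOf_coe])
  have hyω : y • ω = ω := by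
    have : (x : G) ∈ MulAction.stabilizer G ω := hx
    exact pow_mem this _
  have hyz : y ∈ Subgroup.zpowers g := pow_mem x.2 (orderOf x / p)
  obtain ⟨i, hi⟩ := Subgroup.mem_zpowers_iff.1 hyz
  have hpn : p ∈ n.primeFactors := Nat.mem_primeFactors.2 ⟨hp, by
    rw [← hoy, ← hi, hn]; exact orderOf_dvd_of_mem_zpowers ⟨i, rfl⟩, (orderOf_pos g).ne'⟩
  have hyg' : y ∈ Subgroup.zpowers g' := by
    have h1 : (n : ℤ) ∣ i * p := by
      rw [hn, orderOf_dvd_iff_zpow_eq_one, zpow_mul, hi, zpow_natCast, ← hoy, pow_orderOf_eq_one]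
    obtain ⟨c, hc⟩ := Finset.dvd_prod_of_mem (fun p => p) hpn
    change r = p * c at hc
    obtain ⟨d, hd⟩ := hrn
    have hd' : n / r = d := by rw [hd, Nat.mul_div_cancel_left _ hr0]
    have h2 : (p * c * d : ℤ) ∣ i * p := by
      have e : n = p * c * d := by rw [hd, hc]
      rw [e] at h1
      exact_mod_cast h1
    obtain ⟨e, he⟩ := h2
    have hi' : i = (c * d : ℤ) * e := mul_right_cancel₀ (Int.natCast_ne_zero.2 hp.ne_zero) (by linear_combination he)
    refine Subgroup.mem_zpowers_iff.2 ⟨(c : ℤ) * e, ?_⟩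
    rw [← hi, hi', hg', hd', ← zpow_natCast, ← zpow_mul]
    ring_nf
  have h3 : (⟨y, hyg'⟩ : Subgroup.zpowers g') ∈ MulAction.stabilizer (Subgroup.zpowers g') ω := hyω
  rw [hω, Subgroup.mem_bot] at h3
  have h4 : y = 1 := congrArg Subtype.val h3
  rw [h4, orderOf_one] at hoy
  exact hp.one_lt.ne hoy

theorem prime_derangement [FaithfulSMul G Ω] (htrans : MulAction.IsPretransitive G Ω) (C : Subgroup G)
    (hC : C.Normal) (hC1 : C ≠ ⊥) (hcyc : IsCyclic C) : ∃ g : G, (orderOf g).Prime ∧ ∀ ω : Ω, g • ω ≠ ω := by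
  haveI : Nontrivial C := (Subgroup.nontrivial_iff_ne_bot C).2 hC1
  obtain ⟨p, hp, hpd⟩ := Nat.exists_prime_and_dvd (Finite.one_lt_card (α := C)).ne'
  haveI : Fact p.Prime := ⟨hp⟩
  obtain ⟨x, hx⟩ := exists_prime_orderOf_dvd_card' (G := C) p hpd
  refine ⟨x, by rw [Subgroup.orderOf_coe, hx]; exact hp, fun ω hω => ?_⟩
  have hall : ∀ g : G, (x : G) • (g • ω) = g • ω := fun g => by
    have hconj : g⁻¹ * (x : G) * g ∈ C := hC.conj_mem' _ x.2 g
    have hord : orderOf (⟨_, hconj⟩ : C) = p := by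
      rw [Subgroup.orderOf_mk, ← hx, ← Subgroup.orderOf_coe x,
        show g⁻¹ * (x : G) * g = MulAut.conj g⁻¹ (x : G) by simp]
      exact MulEquiv.orderOf_eq _ _
    have hmem : (⟨_, hconj⟩ : C) ∈ Subgroup.zpowers x := by
      classical
      haveI := hcyc
      haveI := Fintype.ofFinite C
      have hsub : (Finset.range p).image (fun i => x ^ i) ⊆ Finset.univ.filter (fun z : C => z ^ p = 1) := by
        intro z hz
        obtain ⟨i, -, rfl⟩ := Finset.mem_image.1 hz
        rw [Finset.mem_filter, ← pow_mul, mul_comm, pow_mul, ← hx, pow_orderOf_eq_one, one_pow]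
        exact ⟨Finset.mem_univ _, rfl⟩
      have heq := Finset.eq_of_subset_of_card_le hsub (by
        rw [Finset.card_image_of_injOn, Finset.card_range]
        · exact IsCyclic.card_pow_eq_one_le hp.pos
        · intro i hi j hj e
          exact pow_injOn_Iio_orderOf (by simpa [hx] using hi) (by simpa [hx] using hj) e)
      have : (⟨_, hconj⟩ : C) ∈ Finset.univ.filter (fun z : C => z ^ p = 1) :=
        Finset.mem_filter.2 ⟨Finset.mem_univ _, hord ▸ pow_orderOf_eq_one _⟩
      rw [← heq] at this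
      obtain ⟨i, -, hi⟩ := Finset.mem_image.1 this
      exact hi ▸ Subgroup.npow_mem_zpowers x i
    obtain ⟨i, hi⟩ := Subgroup.mem_zpowers_iff.1 hmem
    have h1 : (g⁻¹ * (x : G) * g) • ω = ω := by
      have e : ((x : G) ^ i) = g⁻¹ * (x : G) * g := by
        simpa using congrArg Subtype.val hi
      rw [← e]
      exact zpow_mem (show (x : G) ∈ MulAction.stabilizer G ω from hω) i
    rw [mul_smul, mul_smul, inv_smul_eq_iff] at h1
    exact h1
  have h1 : (x : G) = 1 := FaithfulSMul.eq_of_smul_eq_smul (α := Ω) fun y => by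
    obtain ⟨g, rfl⟩ := MulAction.exists_smul_eq G ω y
    rw [hall, one_smul]
  rw [← Subgroup.orderOf_coe, h1, orderOf_one] at hx
  exact hp.one_lt.ne hx

theorem normalizer_of_prime_maximal (T : Subgroup G) [T.Normal] (hT : IsSimpleGroup T) (hTc : ¬ IsMulCommutative T)
    (hC : Subgroup.centralizer (T : Set G) = ⊥) (H : Subgroup G) (hmax : IsCoatom H) (hp : (Nat.card H).Prime) :
    Subgroup.normalizer (H : Set G) = H := by
  haveI := Fact.mk hp
  haveI := hT
  refine (hmax.le_iff.1 (Subgroup.le_normalizer (H := H))).resolve_left fun h => ?_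
  haveI : H.Normal := Subgroup.normalizer_eq_top_iff.1 h
  haveI : IsCyclic H := isCyclic_of_prime_card rfl
  rcases Subgroup.Normal.eq_bot_or_eq_top (H := H.subgroupOf T) inferInstance with h1 | h1
  · rw [Subgroup.subgroupOf_eq_bot] at h1
    have hHC : H ≤ Subgroup.centralizer (T : Set G) := fun x hx => Subgroup.mem_centralizer_iff.2 fun t ht => by
      have h3 := Subgroup.commute_of_normal_of_disjoint H T inferInstance inferInstance h1 x t hx ht
      exact h3.eq.symm
    rw [hC, le_bot_iff] at hHC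
    rw [hHC, Subgroup.card_bot] at hp
    exact Nat.not_prime_one hp
  · rw [Subgroup.subgroupOf_eq_top] at h1
    refine hTc ⟨⟨fun a b => Subtype.ext ?_⟩⟩
    have := IsCyclic.isMulCommutative.is_comm.comm (⟨a, h1 a.2⟩ : H) ⟨b, h1 b.2⟩
    exact congrArg (fun z : H => (z : G)) this

theorem no_prime_maximal (T : Subgroup G) [T.Normal] (hT : IsSimpleGroup T) (hTc : ¬ IsMulCommutative T)
    (hC : Subgroup.centralizer (T : Set G) = ⊥) (H : Subgroup G) (hmax : IsCoatom H) : ¬ (Nat.card H).Prime := by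
  intro hp
  haveI := hT
  set p := Nat.card H with hpdef
  haveI := Fact.mk hp
  haveI : IsCyclic H := isCyclic_of_prime_card rfl
  have hN := normalizer_of_prime_maximal T hT hTc hC H hmax hp
  obtain ⟨P, hP⟩ := (IsPGroup.of_card (p := p) (n := 1) (by rw [pow_one]) : IsPGroup p H).exists_le_sylow
  have hHP : (P : Subgroup G) = H := by
    refine (hP.eq_or_lt.resolve_right fun hlt => ?_).symm
    haveI := P.2.isNilpotent
    have hlt' : H.subgroupOf P < ⊤ := lt_top_iff_ne_top.2 fun e => hlt.2 (Subgroup.subgroupOf_eq_top.1 e)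
    obtain ⟨x, hx, hx'⟩ := SetLike.exists_of_lt (Group.normalizerCondition_of_isNilpotent (G := P) _ hlt')
    have hxN : (x : G) ∈ Subgroup.normalizer (H : Set G) := by
      rw [Subgroup.mem_normalizer_iff]
      intro y
      have hn := Subgroup.mem_normalizer_iff.1 hx
      refine ⟨fun hy => ?_, fun hy => ?_⟩
      · exact (hn ⟨y, hP hy⟩).1 hy
      · have hyP : y ∈ (P : Subgroup G) := by
          have := mul_mem (mul_mem (inv_mem x.2) (hP hy)) x.2
          simpa [mul_assoc] using this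
        exact (hn ⟨y, hyP⟩).2 hy
    rw [hN] at hxN
    exact hx' hxN
  haveI : IsCyclic (P : Subgroup G) := hHP ▸ (inferInstance : IsCyclic H)
  have hPC : Subgroup.normalizer ((P : Subgroup G) : Set G) ≤ Subgroup.centralizer ((P : Subgroup G) : Set G) := by
    rw [hHP, hN]
    intro x hx
    exact Subgroup.mem_centralizer_iff.2 fun y hy =>
      congrArg Subtype.val (IsCyclic.isMulCommutative.is_comm.comm (⟨y, hy⟩ : H) ⟨x, hx⟩)
  set K := (MonoidHom.transferSylow P hPC).ker with hK
  have hnd := MonoidHom.not_dvd_card_ker_transferSylow P hPC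
  have hTK : T ≤ K := by
    rcases Subgroup.Normal.eq_bot_or_eq_top (H := K.subgroupOf T) inferInstance with h1 | h1
    · exfalso
      rw [Subgroup.subgroupOf_eq_bot] at h1
      let f : T →* (P : Subgroup G) := (MonoidHom.transferSylow P hPC).comp T.subtype
      have hf : Function.Injective f := (injective_iff_map_eq_one f).2 fun t ht =>
        Subtype.ext (Subgroup.disjoint_def.1 h1 (MonoidHom.mem_ker.2 ht) t.2)
      exact hTc ⟨⟨fun a b => hf (by
        rw [map_mul, map_mul]; exact IsCyclic.isMulCommutative.is_comm.comm _ _)⟩⟩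
    · exact Subgroup.subgroupOf_eq_top.1 h1
  have hTnd : ¬ p ∣ Nat.card T := fun h => hnd (h.trans (Subgroup.card_dvd_of_le hTK))
  obtain ⟨r, hr, hrd⟩ := Nat.exists_prime_and_dvd (Finite.one_lt_card (α := T)).ne'
  haveI := Fact.mk hr
  let R : Sylow r T := Classical.arbitrary _
  have hfr := Sylow.normalizer_sup_eq_top (N := T) R
  set RG := (R : Subgroup T).map T.subtype with hRG
  have hdvd : p ∣ Nat.card (Subgroup.normalizer (RG : Set G)) := by
    have h1 : Nat.card G ∣ Nat.card (Subgroup.normalizer (RG : Set G)) * Nat.card T := by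
      have h2 := Subgroup.card_eq_card_quotient_mul_card_subgroup T
      rw [h2]
      refine Nat.mul_dvd_mul_right ?_ _
      have hsur : Function.Surjective ((QuotientGroup.mk' T).comp (Subgroup.normalizer (RG : Set G)).subtype) := by
        intro y
        obtain ⟨g, rfl⟩ := QuotientGroup.mk'_surjective T y
        have hg : g ∈ Subgroup.normalizer (RG : Set G) ⊔ T := hfr ▸ Subgroup.mem_top g
        obtain ⟨a, ha, b, hb, rfl⟩ := Subgroup.mem_sup_of_normal_right.1 hg
        refine ⟨⟨a, ha⟩, ?_⟩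
        show QuotientGroup.mk' T a = _
        rw [map_mul, show QuotientGroup.mk' T b = 1 from (QuotientGroup.eq_one_iff b).2 hb, mul_one]
      exact Subgroup.card_dvd_of_surjective _ hsur
    exact ((hp.dvd_mul).1 ((Subgroup.card_subgroup_dvd_card H).trans h1)).resolve_right hTnd
  obtain ⟨x, hx⟩ := exists_prime_orderOf_dvd_card' (G := Subgroup.normalizer (RG : Set G)) p hdvd
  set X := Subgroup.zpowers (x : G) with hX
  have hXc : Nat.card X = p := by rw [hX, Nat.card_zpowers, Subgroup.orderOf_coe, hx]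
  obtain ⟨Q, hQ⟩ := (IsPGroup.of_card (p := p) (n := 1) (by rw [pow_one]; exact hXc) : IsPGroup p X).exists_le_sylow
  obtain ⟨g, hg⟩ := MulAction.exists_smul_eq G P Q
  have hXQ : X = (MulAut.conj g : MulAut G).mapSubgroup H := by
    have hQ' : (Q : Subgroup G) = (MulAut.conj g : MulAut G).mapSubgroup H := by
      rw [← hg, Sylow.coe_subgroup_smul, hHP]
      rfl
    rw [← hQ']
    refine Subgroup.eq_of_le_of_card_ge hQ ?_
    rw [hXc, hQ', MulEquiv.mapSubgroup_apply, ← Nat.card_congr (Subgroup.equivMapOfInjective H _ (MulAut.conj g).injective).toEquiv]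
  have hXmax : IsCoatom X := hXQ ▸ ((MulAut.conj g : MulAut G).mapSubgroup.isCoatom_iff H).2 hmax
  have hXN : X ≤ Subgroup.normalizer (RG : Set G) := Subgroup.zpowers_le.2 x.2
  have hRne : RG ≠ ⊥ := fun h => by
    rw [hRG, Subgroup.map_eq_bot_iff_of_injective _ T.subtype_injective] at h
    exact (Sylow.ne_bot_of_dvd_card R hrd) h
  rcases hXmax.le_iff.1 hXN with htop | heq
  · haveI : RG.Normal := Subgroup.normalizer_eq_top_iff.1 htop
    have hRT : (R : Subgroup T) = ⊤ := by
      haveI : (R : Subgroup T).Normal := by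
        rw [← Subgroup.comap_map_eq_self_of_injective T.subtype_injective (R : Subgroup T)]
        exact Subgroup.Normal.comap (show (RG).Normal from inferInstance) _
      exact (Subgroup.Normal.eq_bot_or_eq_top (H := (R : Subgroup T)) inferInstance).resolve_left
        (Sylow.ne_bot_of_dvd_card R hrd)
    have hpT : IsPGroup r T := by
      have := R.2
      rw [hRT] at this
      exact this.of_equiv Subgroup.topEquiv
    haveI := hpT.center_nontrivial
    have hZ : Subgroup.center T = ⊤ :=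
      (Subgroup.Normal.eq_bot_or_eq_top (H := Subgroup.center T) inferInstance).resolve_left
        ((Subgroup.nontrivial_iff_ne_bot _).1 inferInstance)
    exact hTc ⟨⟨fun a b => (Subgroup.mem_center_iff.1 (hZ ▸ Subgroup.mem_top b) a)⟩⟩
  · have hle : RG ≤ X := heq ▸ Subgroup.le_normalizer
    have h1 : Nat.card RG ∣ p := hXc ▸ Subgroup.card_dvd_of_le hle
    rcases (Nat.dvd_prime hp).1 h1 with e | e
    · exact hRne (Subgroup.card_eq_one.1 e)
    · exact hTnd (e ▸ (Subgroup.card_dvd_of_le (Subgroup.map_subtype_le _)))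

end CfsgLib.Char
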