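import Cfsg.Agent.Lib.Char.Perm

/-!
# Subgroups of index equal to the degree of a doubly transitive group
-/

set_option autoImplicit false
set_option linter.unusedSectionVars false
set_option linter.style.haveILetI false

namespace CfsgLib.Char

open Cfsg

universe u v

theorem card_orbits_le_two {G : Type u} {Ω : Type v} [Group G] [Finite G] [MulAction G Ω] [Finite Ω]
    (h2 : MulAction.IsMultiplyPretransitive G Ω 2) (H : Subgroup G) (hidx : H.index = Nat.card Ω)
    (hnt : ¬ MulAction.IsPretransitive H Ω) : Nat.card (MulAction.orbitRel.Quotient H Ω) = 2 := by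
  classical
  have := Fintype.ofFinite G
  have := Fintype.ofFinite H
  haveI : MulAction.IsPretransitive G Ω :=
    haveI := h2
    MulAction.isPretransitive_of_is_two_pretransitive
  haveI hne : Nonempty Ω := by
    by_contra h
    rw [not_nonempty_iff] at h
    exact hnt ⟨fun x => h.elim x⟩
  have hlow : 2 ≤ Nat.card (MulAction.orbitRel.Quotient H Ω) := by
    have : ¬ Subsingleton (MulAction.orbitRel.Quotient H Ω) := fun h =>
      hnt ((MulAction.pretransitive_iff_subsingleton_quotient H Ω).2 h)
    rw [not_subsingleton_iff_nontrivial] at this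
    exact Finite.one_lt_card
  have hn : 2 ≤ Nat.card Ω := le_trans hlow (Nat.card_le_card_of_surjective _ Quotient.mk_surjective)
  let χ : IrrCharacter G := ⟨_, (isIrr_permChar_sub_one_iff Ω hn).2 h2⟩
  let one' : IrrCharacter G := ⟨_, isIrrCharacter_one⟩
  have hdec : permChar G Ω = (one' : G → ℂ) + (χ : G → ℂ) := by
    funext g; simp [χ, one']
  have hres : (fun h : H => permChar G Ω (h : G)) = permChar H Ω := rfl
  have hstab : MulAction.stabilizer G ((1 : G) : G ⧸ H) = H := by
    ext g
    rw [MulAction.mem_stabilizer_iff, MulAction.Quotient.smul_coe, smul_eq_mul, mul_one]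
    rw [QuotientGroup.eq]; simp
  have hind : permChar G (G ⧸ H) = indFun H (fun _ => 1) := by
    rw [permChar_eq_indFun (G ⧸ H) ((1 : G) : G ⧸ H)]
    exact indFun_congr' hstab
  have key : classInner (permChar G (G ⧸ H)) (permChar G Ω) =
      (Nat.card (MulAction.orbitRel.Quotient H Ω) : ℂ) := by
    rw [hind, classInner_indFun _ _ _ (isClassFunction_of_isCharacter (isCharacter_permChar Ω)), hres,
      ← classInner_conj, classInner_permChar_one, map_natCast]
  haveI := Fintype.ofFinite (IrrCharacter G)
  obtain ⟨m, hm, he, -⟩ := generalized_expand (isGeneralizedCharacter_of_isCharacter (isCharacter_permChar (G := G) (G ⧸ H)))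
  have hpos : ∀ ψ, 0 ≤ m ψ := fun ψ => by
    obtain ⟨k, hk⟩ := classInner_char_irr_nat (isCharacter_permChar (G := G) (G ⧸ H)) ψ
    rw [hm] at hk
    have : m ψ = (k : ℤ) := by exact_mod_cast hk
    omega
  choose d hd0 hd using fun ψ : IrrCharacter G => isIrrCharacter_degree ψ.2
  have hdeg : (Nat.card Ω : ℤ) = ∑ ψ, m ψ * (d ψ : ℤ) := by
    have h := congrFun he 1
    have hl : permChar G (G ⧸ H) 1 = (Nat.card Ω : ℂ) := by
      simp [permChar, ← hidx, Subgroup.index]
    rw [hl, Finset.sum_apply] at h
    simp only [Pi.smul_apply, smul_eq_mul, hd] at h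
    exact_mod_cast h
  have hsum : (Nat.card (MulAction.orbitRel.Quotient H Ω) : ℤ) = m one' + m χ := by
    have h := key
    rw [hdec, classInner_add_right, hm, hm] at h
    exact_mod_cast h.symm
  have hone : m one' = 1 := by
    have h := hm one'
    rw [show ((one' : G → ℂ)) = fun _ => 1 from rfl, classInner_permChar_one] at h
    haveI : Subsingleton (MulAction.orbitRel.Quotient G (G ⧸ H)) :=
      (MulAction.pretransitive_iff_subsingleton_quotient G (G ⧸ H)).1 inferInstance
    rw [Nat.card_of_subsingleton (Quotient.mk _ ((1 : G) : G ⧸ H))] at h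
    exact_mod_cast h.symm
  have hχ1 : (χ : G → ℂ) 1 = (Nat.card Ω : ℂ) - 1 := by
    simp [χ, permChar]
  have hdχ : (d χ : ℤ) = Nat.card Ω - 1 := by
    have h := (hd χ).symm.trans hχ1
    have h' : ((d χ : ℤ) : ℂ) = (((Nat.card Ω : ℤ) - 1 : ℤ) : ℂ) := by push_cast; exact h
    exact_mod_cast h'
  have hne' : one' ≠ χ := fun e => by
    have he2 : ∀ g : G, (χ : G → ℂ) g = 1 := fun g => by rw [← e]
    have h2n : Nat.card Ω = 2 := by
      have h := he2 1
      rw [hχ1] at h
      exact_mod_cast (show (Nat.card Ω : ℂ) = 2 by linear_combination h)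
    haveI := Fintype.ofFinite Ω
    haveI : Nontrivial Ω := Finite.one_lt_card_iff_nontrivial.1 (by omega)
    obtain ⟨x, y, hxy⟩ := exists_pair_ne Ω
    obtain ⟨g, hg⟩ := MulAction.exists_smul_eq G x y
    have hfix : Nat.card (MulAction.fixedBy Ω g) = 2 := by
      have h : (Nat.card (MulAction.fixedBy Ω g) : ℂ) - 1 = 1 := he2 g
      exact_mod_cast (show (Nat.card (MulAction.fixedBy Ω g) : ℂ) = 2 by linear_combination h)
    have : MulAction.fixedBy Ω g = Set.univ := Set.eq_of_subset_of_ncard_le (Set.subset_univ _)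
      (by rw [Set.ncard_univ, h2n, ← Nat.card_coe_set_eq, hfix]) (Set.toFinite _)
    exact hxy ((Set.eq_univ_iff_forall.1 this x).symm.trans hg)
  have hbound : m one' * (d one' : ℤ) + m χ * (d χ : ℤ) ≤ Nat.card Ω := by
    rw [hdeg, ← Finset.sum_pair (f := fun ψ => m ψ * (d ψ : ℤ)) hne']
    exact Finset.sum_le_sum_of_subset_of_nonneg (Finset.subset_univ _) fun ψ _ _ => mul_nonneg (hpos ψ) (by positivity)
  have hd1 : (d one' : ℤ) = 1 := by
    have h := hd one'
    simp only [one'] at h
    exact_mod_cast h.symm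
  rw [hone, hd1, hdχ] at hbound
  have : m χ ≤ 1 := by
    by_contra hc
    push Not at hc
    nlinarith
  omega
where
  indFun_congr' {G : Type _} [Group G] [Fintype G] {H K : Subgroup G} (h : H = K) :
      indFun H (fun _ => (1 : ℂ)) = indFun K (fun _ => 1) := by subst h; rfl

end CfsgLib.Char
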