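/-
A group whose relevant chief factors above a normal subgroup `N` have non-square order is a
relative M-group with respect to `N` (Isaacs, Theorem 6.22).
-/
import Cfsg.Agent.Lib.Char.ChiefFactor
import Cfsg.Agent.Lib.Char.IndMap
import Cfsg.Agent.Lib.Char.Inertia
import Cfsg.Agent.Lib.Char.Ramified
import Mathlib.GroupTheory.Solvable

set_option autoImplicit false
set_option linter.unusedSectionVars false

namespace CfsgLib.Char.RelativeMGroup

open Cfsg CfsgLib.Char
open scoped commutatorElement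

universe u

theorem exists_induced_from_irr : ∀ (G : Type u) [Group G] [Fintype G] (N : Subgroup G) [N.Normal],
    Group.IsSolvable (G ⧸ N) →
    (∀ (H K L : Subgroup G), N ≤ L → L < K → K ≤ H → (∀ h ∈ H, ∀ k ∈ K, h * k * h⁻¹ ∈ K) →
      (∀ h ∈ H, ∀ l ∈ L, h * l * h⁻¹ ∈ L) →
      (∀ M : Subgroup G, L ≤ M → M ≤ K → (∀ h ∈ H, ∀ m ∈ M, h * m * h⁻¹ ∈ M) → M = L ∨ M = K) →
      ¬ IsSquare (L.relIndex K)) →
    ∀ χ : G → ℂ, IsIrrCharacter G χ →
    ∃ (H : Subgroup G) (hNH : N ≤ H) (ψ : H → ℂ), IsIrrCharacter H ψ ∧ indFun H ψ = χ ∧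
      IsIrrCharacter N (fun n : N => ψ ⟨(n : G), hNH n.2⟩) := by
  intro G _ _ N _ hsolv hchief χ hχ
  induction hn : Nat.card G using Nat.strong_induction_on generalizing G χ with
  | _ m ih =>
    subst hn
    classical
    -- a minimal normal overgroup of `N` on which `χ` stays irreducible
    obtain ⟨K, ⟨hKn, hNK, hKirr⟩, hKmin⟩ : ∃ K : Subgroup G,
        (K.Normal ∧ N ≤ K ∧ IsIrrCharacter K (fun x : K => χ x)) ∧
        ∀ K' : Subgroup G, (K'.Normal ∧ N ≤ K' ∧ IsIrrCharacter K' (fun x : K' => χ x)) →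
          K' ≤ K → K' = K := by
      obtain ⟨K, hK, hKmin⟩ := Set.Finite.exists_minimal
        (s := {K : Subgroup G | K.Normal ∧ N ≤ K ∧ IsIrrCharacter K (fun x : K => χ x)})
        (Set.toFinite _) ⟨⊤, inferInstance, le_top,
          isIrrCharacter_comp_surjective hχ (⊤ : Subgroup G).subtype fun g => ⟨⟨g, trivial⟩, rfl⟩⟩
      exact ⟨K, hK, fun K' h hle => le_antisymm hle (hKmin h hle)⟩
    haveI := hKn
    by_cases hKN : K = N
    · subst hKN
      refine ⟨⊤, le_top, fun x => χ x,
        isIrrCharacter_comp_surjective hχ (⊤ : Subgroup G).subtype fun g => ⟨⟨g, trivial⟩, rfl⟩,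
        indFun_top _ (isClassFunction_of_isCharacter (isCharacter_of_isIrr hχ)), hKirr⟩
    obtain ⟨L, ⟨hLn, hNL, hLK⟩, hLmax⟩ : ∃ L : Subgroup G, (L.Normal ∧ N ≤ L ∧ L < K) ∧
        ∀ L' : Subgroup G, (L'.Normal ∧ N ≤ L' ∧ L' < K) → L ≤ L' → L' = L := by
      obtain ⟨L, hL, hLmax⟩ := Set.Finite.exists_maximal
        (s := {L : Subgroup G | L.Normal ∧ N ≤ L ∧ L < K}) (Set.toFinite _)
        ⟨N, inferInstance, le_rfl, lt_of_le_of_ne hNK (Ne.symm hKN)⟩
      exact ⟨L, hL, fun L' h hle => le_antisymm (hLmax h hle) hle⟩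
    haveI := hLn
    -- `K / L` is abelian
    have hKL : ⁅K, K⁆ ≤ L := by
      by_contra hcon
      have hsup : L ⊔ ⁅K, K⁆ = K := by
        by_contra hne
        have h1 := hLmax (L ⊔ ⁅K, K⁆) ⟨inferInstance, hNL.trans le_sup_left,
          lt_of_le_of_ne (sup_le hLK.le (Subgroup.commutator_le_self K)) hne⟩ le_sup_left
        exact hcon (h1 ▸ le_sup_right)
      haveI : Group.IsSolvable (G ⧸ L) := Group.isSolvable_of_surjective
        (f := QuotientGroup.map N L (MonoidHom.id G) hNL)
        (QuotientGroup.map_surjective_of_surjective N L (MonoidHom.id G)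
          (fun g => QuotientGroup.mk_surjective g) hNL)
      obtain ⟨k, hk⟩ := (Group.isSolvable_def (G ⧸ L)).1 inferInstance
      have hder : ∀ i, K.map (QuotientGroup.mk' L) ≤ derivedSeries (G ⧸ L) i := by
        intro i
        induction i with
        | zero => simp
        | succ i ihi =>
          have h1 : K.map (QuotientGroup.mk' L) = ⁅K, K⁆.map (QuotientGroup.mk' L) := by
            conv_lhs => rw [← hsup]
            rw [Subgroup.map_sup, QuotientGroup.map_mk'_self, bot_sup_eq]
          rw [h1, Subgroup.map_commutator, derivedSeries_succ]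
          exact Subgroup.commutator_mono ihi ihi
      have h2 := hder k
      rw [hk, le_bot_iff, Subgroup.map_eq_bot_iff, QuotientGroup.ker_mk'] at h2
      exact absurd (le_antisymm hLK.le h2) hLK.ne
    let Lk : Subgroup K := L.subgroupOf K
    haveI := Fintype.ofFinite K
    haveI := Fintype.ofFinite Lk
    have habK : ∀ a b : K, a * b * a⁻¹ * b⁻¹ ∈ Lk := fun a b => Subgroup.mem_subgroupOf.2 (by
      simpa [commutatorElement_def] using hKL (Subgroup.commutator_mem_commutator a.2 b.2))
    let σ : Set (MulAut K) := Set.range fun g : G => MulAut.conjNormal g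
    have hσL : ∀ s ∈ σ, ∀ x : K, x ∈ Lk ↔ s x ∈ Lk := by
      rintro _ ⟨g, rfl⟩ x
      simp only [Lk, Subgroup.mem_subgroupOf, MulAut.conjNormal_apply]
      refine ⟨fun h => hLn.conj_mem _ h g, fun h => ?_⟩
      have := hLn.conj_mem _ h g⁻¹
      simpa [mul_assoc] using this
    have hch : ∀ M : Subgroup K, Lk ≤ M → (∀ s ∈ σ, ∀ x ∈ M, s x ∈ M) → M = Lk ∨ M = ⊤ := by
      intro M hM hinv
      by_cases hMK : M = ⊤
      · exact Or.inr hMK
      refine Or.inl ?_
      have hMn : (M.map K.subtype).Normal := ⟨fun a ha g => by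
        obtain ⟨x, hx, rfl⟩ := ha
        exact ⟨_, hinv _ ⟨g, rfl⟩ x hx, MulAut.conjNormal_apply g x⟩⟩
      have hle : L ≤ M.map K.subtype := fun l hl => ⟨⟨l, hLK.le hl⟩, hM hl, rfl⟩
      have hlt : M.map K.subtype < K := by
        refine lt_of_le_of_ne (Subgroup.map_subtype_le M) fun e => hMK ?_
        refine eq_top_iff.2 fun x _ => ?_
        obtain ⟨y, hy, hyx⟩ : (x : G) ∈ M.map K.subtype := e.symm ▸ x.2
        rwa [← Subtype.ext hyx]
      have h1 := hLmax _ ⟨hMn, hNL.trans hle, hlt⟩ hle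
      refine le_antisymm (fun x hx => Subgroup.mem_subgroupOf.2 ?_) hM
      exact h1 ▸ Subgroup.mem_map_of_mem _ hx
    have hcl := isClassFunction_of_isCharacter (isCharacter_of_isIrr hχ)
    haveI := Fintype.ofFinite L
    let eL : Lk ≃* L := Subgroup.subgroupOfEquivOfLe hLK.le
    rcases ChiefFactor.restrict_trichotomy Lk habK σ hσL hch hKirr (by
        rintro _ ⟨g, rfl⟩ x
        show χ ((MulAut.conjNormal g x : K) : G) = χ x
        rw [MulAut.conjNormal_apply]
        exact hcl _ g) with hirr | ⟨φ, e, -, -, he⟩ | ⟨F, hF, hFc, hsum⟩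
    · exfalso
      have hLirr : IsIrrCharacter L (fun x : L => χ x) :=
        isIrrCharacter_comp_surjective hirr eL.symm.toMonoidHom eL.symm.surjective
      exact hLK.ne (hKmin L ⟨hLn, hNL, hLirr⟩ hLK.le)
    · exfalso
      refine hchief ⊤ K L hNL hLK le_top (fun g _ k hk => hKn.conj_mem k hk g)
        (fun g _ l hl => hLn.conj_mem l hl g) (fun M hLM hMK hMinv => ?_) ⟨e, ?_⟩
      · rcases hLM.eq_or_lt with h | h
        · exact Or.inl h.symm
        rcases hMK.eq_or_lt with h' | h'
        · exact Or.inr h'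
        exact Or.inl (hLmax M ⟨⟨fun a ha g => hMinv g trivial a ha⟩, hNL.trans hLM, h'⟩ hLM)
      · rw [← sq, he]
        rfl
    · have hidx : 2 ≤ Lk.index := by
        have h0 : Lk.index ≠ 0 := Subgroup.index_ne_zero_of_finite
        have h1 : Lk.index ≠ 1 := fun h => hLK.not_ge fun x hx =>
          Subgroup.mem_subgroupOf.1 ((Subgroup.index_eq_one.1 h).symm ▸ Subgroup.mem_top (⟨x, hx⟩ : K))
        omega
      have hone : ∀ ψ ∈ F, classInner (fun n : Lk => χ ((n : K) : G)) ψ = 1 := fun ψ hψ => by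
        rw [show (fun n : Lk => χ ((n : K) : G)) = ∑ φ ∈ F, φ from hsum, classInner_sum_left,
          Finset.sum_eq_single_of_mem ψ hψ fun b hb hne => ?_]
        · exact classInner_irr_self ⟨ψ, hF ψ hψ⟩
        · exact classInner_irr_ne (χ := ⟨b, hF b hb⟩) (ψ := ⟨ψ, hF ψ hψ⟩)
            fun h => hne (congrArg Subtype.val h)
      obtain ⟨φ₁, h1, φ₂, h2, hne⟩ := Finset.one_lt_card.1 (show 1 < F.card by omega)
      let φ : L → ℂ := fun x => φ₁ (eL.symm x)
      have hφ : IsIrrCharacter L φ :=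
        isIrrCharacter_comp_surjective (hF φ₁ h1) eL.symm.toMonoidHom eL.symm.surjective
      have hin : ∀ ψ : Lk → ℂ, classInner (fun x : L => χ x) (fun x : L => ψ (eL.symm x)) =
          classInner (fun n : Lk => χ ((n : K) : G)) ψ := fun ψ => by
        rw [← classInner_equiv eL.symm (fun n : Lk => χ ((n : K) : G)) ψ]
        rfl
      have hcon : classInner (fun x : L => χ x) φ ≠ 0 := by
        rw [hin, hone φ₁ h1]
        exact one_ne_zero
      let T := inertia L φ
      have hT : T ≠ ⊤ := by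
        intro hT
        obtain ⟨e, -, -, hres⟩ := restrict_eq_smul_of_invariant L hχ hφ hcon
          (fun g => (mem_inertia L φ g).1 (show g ∈ T from hT ▸ Subgroup.mem_top g))
        refine one_ne_zero (α := ℂ) ?_
        rw [← hone φ₂ h2, ← hin, hres, classInner_smul_left]
        refine mul_eq_zero_of_right _ (classInner_irr_ne (χ := ⟨φ, hφ⟩)
          (ψ := ⟨_, isIrrCharacter_comp_surjective (hF φ₂ h2) eL.symm.toMonoidHom eL.symm.surjective⟩)
          fun h => hne ?_)
        funext n
        have h3 := congrFun (congrArg Subtype.val h) (eL n)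
        simpa [φ] using h3
      obtain ⟨ψ, hψ, hind⟩ := exists_inertia_correspondent L hχ hφ hcon
      haveI := Fintype.ofFinite T
      have hNT : N ≤ T := hNL.trans (le_inertia L (isClassFunction_of_isCharacter (isCharacter_of_isIrr hφ)))
      have hlt : Nat.card T < Nat.card G := by
        rcases Nat.lt_or_ge (Nat.card T) (Nat.card G) with h | h
        · exact h
        · exact absurd (Subgroup.eq_top_of_card_eq T (le_antisymm (Subgroup.card_le_card_group T) h)) hT
      have hsolT : Group.IsSolvable (T ⧸ N.subgroupOf T) := Group.isSolvable_of_isSolvable_injective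
        (f := QuotientGroup.map (N.subgroupOf T) N T.subtype le_rfl) <| by
        rw [← MonoidHom.ker_eq_bot_iff, eq_bot_iff]
        intro x hx
        obtain ⟨x, rfl⟩ := QuotientGroup.mk_surjective x
        have hx' : ((x : G) : G ⧸ N) = 1 := hx
        exact (QuotientGroup.eq_one_iff x).2 (show x ∈ N.subgroupOf T from (QuotientGroup.eq_one_iff (x : G)).1 hx')
      have hchiefT : ∀ (H K' L' : Subgroup T), N.subgroupOf T ≤ L' → L' < K' → K' ≤ H →
          (∀ h ∈ H, ∀ k ∈ K', h * k * h⁻¹ ∈ K') → (∀ h ∈ H, ∀ l ∈ L', h * l * h⁻¹ ∈ L') →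
          (∀ M : Subgroup T, L' ≤ M → M ≤ K' → (∀ h ∈ H, ∀ m ∈ M, h * m * h⁻¹ ∈ M) → M = L' ∨ M = K') →
          ¬ IsSquare (L'.relIndex K') := by
        intro H K' L' hN hlt hKH hK hL hM hsq
        refine hchief (H.map T.subtype) (K'.map T.subtype) (L'.map T.subtype)
          (fun n hn => ⟨⟨n, hNT hn⟩, hN hn, rfl⟩)
          ((Subgroup.map_lt_map_iff_of_injective T.subtype_injective).2 hlt)
          (Subgroup.map_mono hKH) ?_ ?_ ?_ ?_
        · rintro _ ⟨h, hh, rfl⟩ _ ⟨k, hk, rfl⟩
          exact ⟨_, hK h hh k hk, rfl⟩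
        · rintro _ ⟨h, hh, rfl⟩ _ ⟨l, hl, rfl⟩
          exact ⟨_, hL h hh l hl, rfl⟩
        · intro M hLM hMK hMinv
          have hMT : M ≤ T := hMK.trans (Subgroup.map_subtype_le K')
          have hM' : (M.subgroupOf T).map T.subtype = M := by
            rw [Subgroup.subgroupOf_map_subtype, inf_eq_left.2 hMT]
          rcases hM (M.subgroupOf T) (fun l hl => hLM ⟨l, hl, rfl⟩) (fun k hk => by
              obtain ⟨k', hk', e⟩ := hMK hk
              rwa [← Subtype.ext e])
            (fun h hh k hk => hMinv _ ⟨h, hh, rfl⟩ _ hk) with h | h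
          · exact Or.inl (by rw [← hM', h])
          · exact Or.inr (by rw [← hM', h])
        · rwa [Subgroup.relIndex_map_map_of_injective _ _ T.subtype_injective]
      obtain ⟨H, hNH, η, hη, hηind, hηres⟩ := ih _ hlt T (N.subgroupOf T) hsolT hchiefT ψ hψ rfl
      refine ⟨H.map T.subtype, fun n hn => ⟨⟨n, hNT hn⟩, hNH hn, rfl⟩,
        fun y => η ((mapSubtypeEquiv T H).symm y),
        isIrrCharacter_comp_surjective hη (mapSubtypeEquiv T H).symm.toMonoidHom
          (mapSubtypeEquiv T H).symm.surjective, ?_, ?_⟩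
      · rw [← indFun_map, hηind, ← hind]
      · have h3 := isIrrCharacter_comp_surjective hηres
          (Subgroup.subgroupOfEquivOfLe hNT).symm.toMonoidHom
          (Subgroup.subgroupOfEquivOfLe hNT).symm.surjective
        convert h3 using 1
        funext n
        exact congrArg η ((MulEquiv.symm_apply_eq _).2 rfl)

end CfsgLib.Char.RelativeMGroup
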