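/-
An irreducible character whose restriction to a solvable normal subgroup with abelian Sylow
subgroups is irreducible is monomial (Isaacs, Theorem 6.22).
-/
import Cfsg.Agent.Lib.Char.NilMonomial
import Mathlib.GroupTheory.Nilpotent
import Mathlib.GroupTheory.Solvable

set_option autoImplicit false
set_option linter.unusedSectionVars false

namespace CfsgLib.Char.RelativeMonomial

open Representation Module Cfsg CfsgLib.Char
open scoped commutatorElement

universe u

/-- A finite group with central commutators and abelian Sylow subgroups is abelian. -/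
theorem comm_of_class_two {Q : Type u} [Group Q] [Finite Q]
    (hcl : ∀ a b : Q, ⁅a, b⁆ ∈ Subgroup.center Q)
    (hab : ∀ (p : ℕ) [Fact p.Prime] (P : Sylow p Q), ∀ a ∈ P, ∀ b ∈ P, a * b = b * a) (a b : Q) :
    a * b = b * a := by
  have hcomm : ∀ x y : Q ⧸ Subgroup.center Q, x * y = y * x := by
    intro x y
    obtain ⟨x, rfl⟩ := QuotientGroup.mk_surjective x
    obtain ⟨y, rfl⟩ := QuotientGroup.mk_surjective y
    rw [← QuotientGroup.mk_mul, ← QuotientGroup.mk_mul, eq_comm, QuotientGroup.eq]
    have := hcl x⁻¹ y⁻¹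
    rw [commutatorElement_def] at this
    convert this using 1
    group
  letI : CommGroup (Q ⧸ Subgroup.center Q) := { (inferInstance : Group (Q ⧸ Subgroup.center Q)) with
    mul_comm := hcomm }
  haveI : Group.IsNilpotent Q := Group.of_quotient_center_nilpotent inferInstance
  obtain ⟨e⟩ := (Group.isNilpotent_of_finite_tfae (G := Q)).out 0 4 rfl rfl |>.mp inferInstance
  obtain ⟨x, rfl⟩ := e.surjective a
  obtain ⟨y, rfl⟩ := e.surjective b
  rw [← map_mul, ← map_mul]
  congr 1
  funext p P
  haveI : Fact (Nat.Prime (p : ℕ)) := ⟨Nat.prime_of_mem_primeFactors p.2⟩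
  exact Subtype.ext (hab p P _ (x p P).2 _ (y p P).2)

/-- A normal subgroup inside `N` with commuting, non-scalar image. -/
theorem exists_comm_normal {G : Type u} [Group G] [Finite G] (N : Subgroup G) [N.Normal]
    [Group.IsSolvable N]
    (hab : ∀ (p : ℕ), p.Prime → ∀ S : Subgroup G, S ≤ N → IsPGroup p S →
      ∀ a ∈ S, ∀ b ∈ S, a * b = b * a)
    {V : Type*} [AddCommGroup V] [Module ℂ V] (ρ : Representation ℂ G V)
    (hns : ¬ N ≤ scalarSubgroup ρ) :
    ∃ A : Subgroup G, A.Normal ∧ A ≤ N ∧ (∀ a ∈ A, ∀ b ∈ A, ρ a * ρ b = ρ b * ρ a) ∧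
      ¬ A ≤ scalarSubgroup ρ := by
  classical
  let D : ℕ → Subgroup G := fun k => (derivedSeries N k).map N.subtype
  have hex : ∃ k, D k ≤ scalarSubgroup ρ := by
    obtain ⟨k, hk⟩ := (Group.isSolvable_def N).1 inferInstance
    refine ⟨k, ?_⟩
    simp only [D, hk, Subgroup.map_bot]
    exact bot_le
  have h0 : ¬ D 0 ≤ scalarSubgroup ρ := by
    simpa [D, derivedSeries_zero, ← MonoidHom.range_eq_map] using hns
  obtain ⟨k, hk⟩ : ∃ k, Nat.find hex = k + 1 := Nat.exists_eq_succ_of_ne_zero fun e =>
    h0 (e ▸ Nat.find_spec hex)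
  have hk0 : ¬ D k ≤ scalarSubgroup ρ := Nat.find_min hex (by omega)
  have hk1 : D (k + 1) ≤ scalarSubgroup ρ := hk ▸ Nat.find_spec hex
  have hAN : D k ≤ N := Subgroup.map_subtype_le _
  haveI : (derivedSeries N k).Characteristic := inferInstance
  refine ⟨D k, ?_, hAN, ?_, hk0⟩
  · exact ConjAct.normal_of_characteristic_of_normal
  · let f : ↥(D k) →* (V →ₗ[ℂ] V)ˣ := MonoidHom.toHomUnits ((ρ : G →* (V →ₗ[ℂ] V)).comp (D k).subtype)
    have hf : ∀ a : ↥(D k), ((f a : (V →ₗ[ℂ] V)ˣ) : V →ₗ[ℂ] V) = ρ a := fun _ => rfl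
    haveI : Finite f.range := Finite.of_surjective _ f.rangeRestrict_surjective
    have hcl : ∀ x y : f.range, ⁅x, y⁆ ∈ Subgroup.center f.range := by
      intro x y
      obtain ⟨a, rfl⟩ := f.rangeRestrict_surjective x
      obtain ⟨b, rfl⟩ := f.rangeRestrict_surjective y
      rw [← map_commutatorElement, Subgroup.mem_center_iff]
      intro z
      obtain ⟨c, rfl⟩ := f.rangeRestrict_surjective z
      have hmem : ((⁅a, b⁆ : ↥(D k)) : G) ∈ scalarSubgroup ρ := by
        refine hk1 ?_
        obtain ⟨a', ha', ea⟩ := a.2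
        obtain ⟨b', hb', eb⟩ := b.2
        refine ⟨⁅a', b'⁆, ?_, ?_⟩
        · rw [derivedSeries_succ]
          exact Subgroup.commutator_mem_commutator ha' hb'
        · rw [map_commutatorElement, ea, eb]
          rfl
      rw [← map_mul, ← map_mul]
      refine Subtype.ext (Units.ext ?_)
      show ρ ((c * ⁅a, b⁆ : ↥(D k)) : G) = ρ ((⁅a, b⁆ * c : ↥(D k)) : G)
      rw [Subgroup.coe_mul, Subgroup.coe_mul, map_mul, map_mul, scalar_comm ρ hmem]
    have hsyl : ∀ (p : ℕ) [Fact p.Prime] (P : Sylow p f.range), ∀ a ∈ P, ∀ b ∈ P, a * b = b * a := by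
      intro p hp P x hx y hy
      obtain ⟨S, rfl⟩ := Sylow.mapSurjective_surjective f.rangeRestrict_surjective p P
      obtain ⟨a, ha, rfl⟩ := hx
      obtain ⟨b, hb, rfl⟩ := hy
      rw [← map_mul, ← map_mul]
      congr 1
      exact Subtype.ext (hab p hp.out ((S : Subgroup ↥(D k)).map (D k).subtype)
        ((Subgroup.map_subtype_le _).trans hAN) (S.2.map _) a ⟨a, ha, rfl⟩ b ⟨b, hb, rfl⟩)
    intro a ha b hb
    have h2 := comm_of_class_two hcl hsyl (f.rangeRestrict ⟨a, ha⟩) (f.rangeRestrict ⟨b, hb⟩)
    exact congrArg (fun u : f.range => ((u : (V →ₗ[ℂ] V)ˣ) : V →ₗ[ℂ] V)) h2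

/-- Isaacs 6.22. -/
theorem monomial_of_restrict_irr : ∀ (G : Type u) [Group G] [Fintype G] (N : Subgroup G) [N.Normal]
    [Group.IsSolvable N],
    (∀ (p : ℕ), p.Prime → ∀ S : Subgroup G, S ≤ N → IsPGroup p S →
      ∀ a ∈ S, ∀ b ∈ S, a * b = b * a) →
    ∀ χ : G → ℂ, IsIrrCharacter G χ → IsIrrCharacter N (fun x : N => χ x) →
      ∃ (U : Subgroup G) (lam : U →* ℂˣ), χ = indFun U (fun u => (lam u : ℂ)) := by
  intro G _ _ N _ _ hab χ hχ hres
  induction hn : Nat.card G using Nat.strong_induction_on generalizing G χ with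
  | _ m ih =>
    subst hn
    classical
    obtain ⟨n, ρ, hρ, rfl⟩ := hχ
    have hχ : IsIrrCharacter G ρ.character := ⟨n, ρ, hρ, rfl⟩
    by_cases hlin : ρ.character 1 = 1
    · obtain ⟨lam, hlam⟩ := linearCharEquiv.surjective
        (⟨⟨_, n, ρ, hρ, rfl⟩, hlin⟩ : {χ : IrrCharacter G // (χ : G → ℂ) 1 = 1})
      refine ⟨⊤, lam.comp (Subgroup.subtype ⊤), ?_⟩
      have e : (fun g : G => (lam g : ℂ)) = ρ.character :=
        congrArg (fun z => ((z.1 : IrrCharacter G) : G → ℂ)) hlam
      rw [← e]
      exact (indFun_top _ (isClassFunction_of_isCharacter (isCharacter_of_isIrr (isIrrCharacter_lin lam)))).symm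
    set θ : N → ℂ := fun x => ρ.character x
    have hdn : ρ.character 1 = (n : ℂ) := by rw [Representation.char_one, Module.finrank_fin_fun]
    have hns : ¬ N ≤ scalarSubgroup ρ := by
      intro hle
      refine hlin ?_
      choose c hc using fun x : N => hle x.2
      have hnorm : ∀ x : N, ‖θ x‖ = n := fun x => by
        have := (norm_char_eq_iff ρ (x : G)).2 ⟨c x, hc x⟩
        rwa [Module.finrank_fin_fun] at this
      have h1 := classInner_irr_self ⟨θ, hres⟩
      rw [classInner_self, Complex.ofReal_eq_one] at h1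
      simp only [hnorm, Finset.sum_const, Finset.card_univ, nsmul_eq_mul,
        ← Nat.card_eq_fintype_card] at h1
      rw [← mul_assoc, inv_mul_cancel₀ (by exact_mod_cast Nat.card_pos.ne'), one_mul] at h1
      have h2 : n ^ 2 = 1 := by exact_mod_cast h1
      rw [hdn, (Nat.pow_eq_one.1 h2).resolve_right (by norm_num), Nat.cast_one]
    obtain ⟨A, hAn, hAN, hAc, hAs⟩ := exists_comm_normal N hab ρ hns
    haveI := hAn
    have := Fintype.ofFinite A
    obtain ⟨φ, hφ1, hφ⟩ := exists_linear_constituent_of_comm_image ρ A hAc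
    set T := inertia A (φ : A → ℂ) with hTdef
    have hT : T ≠ ⊤ := fun e =>
      hAs fun a ha => scalar_of_invariant_linear ρ hρ A φ hφ1 hφ e a ha
    obtain ⟨ψ, hψ, hθψ⟩ := exists_inertia_correspondent A hχ φ.2 hφ
    have := Fintype.ofFinite T
    -- the indices agree
    let A' : Subgroup N := A.subgroupOf N
    let eA : A' ≃* A := Subgroup.subgroupOfEquivOfLe hAN
    let φ' : A' → ℂ := fun a => (φ : A → ℂ) (eA a)
    have hφ' : IsIrrCharacter A' φ' := isIrrCharacter_comp_surjective φ.2 eA.toMonoidHom eA.surjective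
    have hinner : classInner (fun a : A' => θ a) φ' = classInner (fun a : A => ρ.character a) φ := by
      rw [← classInner_equiv eA (fun a : A => ρ.character a) (φ : A → ℂ)]
      rfl
    let M : Subgroup N := T.subgroupOf N
    have hM : inertia A' φ' = M := by
      ext x
      rw [mem_inertia, Subgroup.mem_subgroupOf, hTdef, mem_inertia]
      constructor
      · intro h
        funext a
        have := congrFun h (eA.symm a)
        simp only [conjFun, φ', MulEquiv.apply_symm_apply] at this ⊢
        exact this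
      · intro h
        funext a
        exact congrFun h (eA a)
    have hidx : (M.index : ℂ) = (T.index : ℂ) := by
      have h1 := clifford_degree A hχ φ.2 hφ
      have h2 := clifford_degree A' hres hφ' (by rw [hinner]; exact hφ)
      have h3 : θ 1 = ρ.character 1 := rfl
      rw [hinner, hM, h3, h1] at h2
      have h4 : φ' 1 = 1 := by simp only [φ', map_one, hφ1]
      rw [h4, hφ1, mul_one, mul_one] at h2
      exact (mul_left_cancel₀ hφ h2).symm
    have hTidx : ρ.character 1 = (T.index : ℂ) * ψ 1 := by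
      conv_lhs => rw [hθψ]
      exact indFun_one T ψ
    -- the correspondent restricts irreducibly
    let j : M →* T :=
      { toFun := fun x => ⟨((x : N) : G), x.2⟩
        map_one' := rfl
        map_mul' := fun _ _ => rfl }
    let r : M → ℂ := fun x => ψ (j x)
    have hrchar : IsCharacter M r := isCharacter_comp (isCharacter_of_isIrr hψ) j
    have hresT : IsCharacter T (fun x : T => ρ.character x) :=
      isCharacter_comp (isCharacter_of_isIrr hχ) T.subtype
    have hψne : classInner (fun x : T => ρ.character x) ψ ≠ 0 := by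
      rw [← classInner_conj, ← classInner_indFun T ψ ρ.character
        (isClassFunction_of_isCharacter (isCharacter_of_isIrr hχ)), ← hθψ,
        classInner_irr_self ⟨_, hχ⟩, map_one]
      exact one_ne_zero
    have hrne : r ≠ 0 := fun e => irr_one_ne_zero ⟨ψ, hψ⟩ (congrFun e 1)
    obtain ⟨ω, hω⟩ := exists_irr_inner_ne_zero hrchar hrne
    obtain ⟨a, ha⟩ := isCharacter_degree hrchar
    obtain ⟨b, hb⟩ := isCharacter_degree (isCharacter_irr ω)
    have hle := degree_le_of_constituent hrchar ω hω ha hb
    have hθM : classInner (fun x : M => θ x) (ω : M → ℂ) ≠ 0 := by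
      have hrest := isCharacter_comp (isCharacter_sub_constituent hresT ⟨ψ, hψ⟩ hψne) j
      obtain ⟨c, hc⟩ := classInner_char_irr_nat hrest ω
      obtain ⟨d, hd⟩ := classInner_char_irr_nat hrchar ω
      have e : (fun x : M => θ x) =
          (fun x : M => ((fun x : T => ρ.character x) - (ψ : T → ℂ)) (j x)) + r := by
        funext x
        simp only [Pi.add_apply, Pi.sub_apply, r, sub_add_cancel]
        rfl
      rw [e, classInner_add_left, hc, hd, ← Nat.cast_add]
      intro h0
      have h0' : c + d = 0 := by exact_mod_cast h0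
      exact hω (by rw [hd, show d = 0 by omega, Nat.cast_zero])
    have hθcl := isClassFunction_of_isCharacter (isCharacter_of_isIrr hres)
    have hθind : classInner (indFun M (ω : M → ℂ)) θ ≠ 0 := by
      rw [classInner_indFun M _ θ hθcl, ← classInner_conj]
      simpa using hθM
    have hdeg : indFun M (ω : M → ℂ) 1 = ((M.index * b : ℕ) : ℂ) := by
      rw [indFun_one, hb, Nat.cast_mul]
    have hge := (degree_le_of_constituent (isCharacter_indFun M (isCharacter_irr ω)) ⟨θ, hres⟩ hθind
      hdeg (show θ 1 = ((n : ℕ) : ℂ) from hdn)).1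
    have hTb : n = T.index * a := by
      have h1 : r 1 = ψ 1 := by simp only [r, map_one]
      have h2 : ((n : ℕ) : ℂ) = ((T.index * a : ℕ) : ℂ) := by
        rw [← hdn, hTidx, ← h1, ha, Nat.cast_mul]
      exact_mod_cast h2
    have hidx' : M.index = T.index := by exact_mod_cast hidx
    rw [hTb, hidx'] at hge
    have hab' : a = b := le_antisymm
      (Nat.le_of_mul_le_mul_left hge (Nat.pos_of_ne_zero Subgroup.index_ne_zero_of_finite)) hle.1
    have hrirr : IsIrrCharacter M r := (hle.2 hab').symm ▸ ω.2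
    -- induction
    haveI : Group.IsSolvable (N.subgroupOf T) := by
      have f : N.subgroupOf T →* N :=
        { toFun := fun x => ⟨((x : T) : G), x.2⟩
          map_one' := rfl
          map_mul' := fun _ _ => rfl }
      exact Group.isSolvable_of_isSolvable_injective (f :=
        ({ toFun := fun x => ⟨((x : T) : G), x.2⟩
           map_one' := rfl
           map_mul' := fun _ _ => rfl } : N.subgroupOf T →* N)) fun x y h =>
        Subtype.ext (Subtype.ext (congrArg (fun z : N => (z : G)) h))
    have hlt : Nat.card T < Nat.card G := by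
      rcases Nat.lt_or_ge (Nat.card T) (Nat.card G) with h | h
      · exact h
      · exact absurd (Subgroup.eq_top_of_card_eq T (le_antisymm (Subgroup.card_le_card_group T) h)) hT
    let sw : N.subgroupOf T ≃* M :=
      { toFun := fun x => ⟨⟨((x : T) : G), x.2⟩, x.1.2⟩
        invFun := fun x => ⟨⟨((x : N) : G), x.2⟩, x.1.2⟩
        left_inv := fun _ => rfl
        right_inv := fun _ => rfl
        map_mul' := fun _ _ => rfl }
    obtain ⟨U, lam, hU⟩ := ih _ hlt T (N.subgroupOf T) (fun p hp S hS hSp u hu v hv =>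
      Subtype.ext (hab p hp (S.map T.subtype) (fun z hz => by
        obtain ⟨w, hw, rfl⟩ := hz
        exact hS hw) (hSp.map _) u ⟨u, hu, rfl⟩ v ⟨v, hv, rfl⟩)) ψ hψ
      (by have := isIrrCharacter_comp_surjective hrirr sw.toMonoidHom sw.surjective; exact this) rfl
    refine ⟨U.map T.subtype, lam.comp (mapSubtypeEquiv T U).symm.toMonoidHom, ?_⟩
    rw [hθψ, hU, indFun_map]
    rfl

end CfsgLib.Char.RelativeMonomial
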