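import Cfsg.Agent.Lib.Char.GLTwoTable

/-!
# The principal series of `SL(2, q)` and restriction from `GL(2, q)`
-/

set_option autoImplicit false
set_option linter.unusedSectionVars false
set_option linter.style.haveILetI false

namespace CfsgLib.Char.TwoChars

open Matrix Cfsg CfsgLib.Char
open scoped ComplexConjugate

/-! ### generalities -/

theorem isCharacter_sub_constituent {G : Type*} [Group G] [Fintype G] {ψ : G → ℂ} (hψ : IsCharacter G ψ)
    (θ : IrrCharacter G) (h : classInner ψ (θ : G → ℂ) ≠ 0) : IsCharacter G (ψ - (θ : G → ℂ)) := by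
  classical
  refine isCharacter_of_nat_inner
    (isClassFunction_of_isGeneralized (isGeneralizedCharacter_sub (isGeneralizedCharacter_of_isCharacter hψ)
      (isGeneralizedCharacter_of_isCharacter (isCharacter_irr θ)))) fun η => ?_
  obtain ⟨m, hm⟩ := classInner_char_irr_nat hψ η
  rw [classInner_sub_left, hm, classInner_irr]
  split_ifs with he
  · subst he
    have : m ≠ 0 := fun h0 => h (by rw [hm, h0, Nat.cast_zero])
    exact ⟨m - 1, by rw [Nat.cast_sub (Nat.one_le_iff_ne_zero.2 this), Nat.cast_one]⟩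
  · exact ⟨m, by rw [sub_zero]⟩

theorem isCharacter_eq_zero_of_degree {G : Type*} [Group G] {ψ : G → ℂ} (hψ : IsCharacter G ψ) (h : ψ 1 = 0) :
    ψ = 0 := by
  obtain ⟨n, ρ, rfl⟩ := hψ
  rw [Representation.char_one, Module.finrank_fin_fun] at h
  have hn : n = 0 := by exact_mod_cast h
  subst hn
  funext g
  rw [Pi.zero_apply, Representation.character, show ρ g = 0 from LinearMap.ext fun v => Subsingleton.elim _ _,
    map_zero]

theorem isCharacter_norm_two {G : Type*} [Group G] [Fintype G] {χ : G → ℂ} (hχ : IsCharacter G χ)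
    (h2 : classInner χ χ = 2) : ∃ a b : IrrCharacter G, a ≠ b ∧ χ = (a : G → ℂ) + (b : G → ℂ) := by
  classical
  haveI := Fintype.ofFinite (IrrCharacter G)
  obtain ⟨m, hm, he, hn⟩ := generalized_expand (isGeneralizedCharacter_of_isCharacter hχ)
  have hs : ∑ ψ, m ψ ^ 2 = 2 := by exact_mod_cast hn.symm.trans h2
  have hnn : ∀ ψ, 0 ≤ m ψ := fun ψ => by
    obtain ⟨k, hk⟩ := classInner_char_irr_nat hχ ψ
    have : m ψ = (k : ℤ) := by exact_mod_cast (hm ψ).symm.trans hk
    omega
  have hle : ∀ ψ, m ψ = 0 ∨ m ψ = 1 := fun ψ => by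
    have h := hs ▸ Finset.single_le_sum (fun i _ => sq_nonneg (m i)) (Finset.mem_univ ψ)
    have := hnn ψ
    have : m ψ ≤ 1 := by nlinarith
    omega
  have hcard : (Finset.univ.filter fun ψ => m ψ = 1).card = 2 := by
    have : ∑ ψ, m ψ ^ 2 = ((Finset.univ.filter fun ψ => m ψ = 1).card : ℤ) := by
      rw [Finset.card_filter, Nat.cast_sum]
      exact Finset.sum_congr rfl fun ψ _ => by rcases hle ψ with h | h <;> simp [h]
    omega
  obtain ⟨a, b, hab, hset⟩ := Finset.card_eq_two.1 hcard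
  refine ⟨a, b, hab, ?_⟩
  conv_lhs => rw [he]
  rw [← Finset.sum_filter_add_sum_filter_not Finset.univ (fun ψ => m ψ = 1),
    Finset.sum_eq_zero (s := Finset.univ.filter fun ψ => ¬ m ψ = 1) (fun ψ hψ => by
      rw [(hle ψ).resolve_right (Finset.mem_filter.1 hψ).2, Int.cast_zero, zero_smul]), add_zero,
    hset, Finset.sum_pair hab]
  have hmem : a ∈ Finset.univ.filter (fun ψ => m ψ = 1) ∧ b ∈ Finset.univ.filter (fun ψ => m ψ = 1) := by
    rw [hset]; simp
  have ha : m a = 1 := (Finset.mem_filter.1 hmem.1).2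
  have hb : m b = 1 := (Finset.mem_filter.1 hmem.2).2
  simp [ha, hb]

/-! ### the Borel subgroup -/

variable {F : Type*} [Field F] [Fintype F] [DecidableEq F]

local notation "M2" => Matrix (Fin 2) (Fin 2) F
local notation "G2" => Matrix.GeneralLinearGroup (Fin 2) F
local notation "S2" => Matrix.SpecialLinearGroup (Fin 2) F
local notation "B1" =>
  (Subgroup.comap (Matrix.SpecialLinearGroup.toGL : S2 →* G2) (Cfsg.upperTriangularGL 2 F))
local notation "qF" => Fintype.card F

theorem toGL_val (g : S2) : (Matrix.SpecialLinearGroup.toGL g : G2).1 = g.1 := rfl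

theorem mem_borelSL (g : S2) : g ∈ B1 ↔ g.1 1 0 = 0 := mem_borelGL _

/-- The Borel element `[[a, x], [0, a⁻¹]]` in `SL₂`. -/
def elS (a : Fˣ) (x : F) : S2 :=
  ⟨!![(a : F), x; 0, ((a⁻¹ : Fˣ) : F)], by simp [Matrix.det_fin_two]⟩

theorem elS_val (a : Fˣ) (x : F) : (elS a x).1 = !![(a : F), x; 0, ((a⁻¹ : Fˣ) : F)] := rfl

theorem elS_mem (a : Fˣ) (x : F) : elS a x ∈ B1 := (mem_borelSL _).2 rfl

theorem elS_toGL (a : Fˣ) (x : F) : (Matrix.SpecialLinearGroup.toGL (elS a x) : G2) = (mkB a a⁻¹ x).1 :=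
  Units.ext rfl

theorem borelSL_prod {g : S2} (h : g.1 1 0 = 0) : g.1 0 0 * g.1 1 1 = 1 := by
  have := g.det_coe
  rw [Matrix.det_fin_two, h, mul_zero, sub_zero] at this
  exact this

theorem borelSL_eq {g : S2} (h : g.1 1 0 = 0) :
    g = elS ⟨g.1 0 0, g.1 1 1, borelSL_prod h, by rw [mul_comm]; exact borelSL_prod h⟩ (g.1 0 1) := by
  refine Subtype.ext ?_
  rw [elS_val]
  ext i j
  fin_cases i <;> fin_cases j <;> simp [h]

/-- Coordinates on the Borel subgroup of `SL₂`. -/
def borelSLEquiv : Fˣ × F ≃ B1 where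
  toFun p := ⟨elS p.1 p.2, elS_mem p.1 p.2⟩
  invFun b :=
    (⟨b.1.1 0 0, b.1.1 1 1, borelSL_prod ((mem_borelSL _).1 b.2),
      by rw [mul_comm]; exact borelSL_prod ((mem_borelSL _).1 b.2)⟩, b.1.1 0 1)
  left_inv p := Prod.ext (Units.ext rfl) rfl
  right_inv b := Subtype.ext (borelSL_eq ((mem_borelSL _).1 b.2)).symm

theorem card_borelSL : Nat.card B1 = (qF - 1) * qF := by
  rw [← Nat.card_congr borelSLEquiv, Nat.card_prod, Nat.card_units, Nat.card_eq_fintype_card]

/-- The linear character of the Borel subgroup of `SL₂`. -/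
noncomputable def borelCharS (α : MulChar F ℂ) : B1 →* ℂ where
  toFun b := α (b.1.1 0 0)
  map_one' := by simp
  map_mul' a b := by
    have hb := (mem_borelSL _).1 b.2
    simp [Matrix.mul_apply, Fin.sum_univ_two, hb]

/-- The principal series of `SL₂`. -/
noncomputable def psSL (α : MulChar F ℂ) : S2 → ℂ :=
  Cfsg.indFun B1 (fun b => α (((b : S2) : M2) 0 0))

/-- Representatives of the lines in `SL₂`. -/
def lineRepS : Option F → S2
  | none => 1
  | some c => ⟨!![c, -1; 1, 0], by simp [Matrix.det_fin_two]⟩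

theorem toGL_lineRepS (o : Option F) : (Matrix.SpecialLinearGroup.toGL (lineRepS o) : G2) = lineRep o := by
  rcases o with _ | c
  · exact map_one _
  · exact Units.ext rfl

theorem lineRepS_bijective : Function.Bijective fun p : Option F × B1 => lineRepS p.1 * p.2 := by
  refine ⟨fun p p' h => ?_, fun x => ?_⟩
  · have h' := congrArg (Matrix.SpecialLinearGroup.toGL : S2 →* G2) h
    simp only [map_mul, toGL_lineRepS] at h'
    have := lineRep_bijective.1 (a₁ := (p.1, ⟨_, p.2.2⟩)) (a₂ := (p'.1, ⟨_, p'.2.2⟩)) h'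
    have ho : p.1 = p'.1 := (congrArg Prod.fst this :)
    refine Prod.ext ho (Subtype.ext ?_)
    simp only [ho] at h
    exact mul_left_cancel h
  · obtain ⟨⟨o, b⟩, hb⟩ := lineRep_bijective.2 (Matrix.SpecialLinearGroup.toGL x)
    refine ⟨(o, ⟨(lineRepS o)⁻¹ * x, ?_⟩), by simp⟩
    rw [Subgroup.mem_comap, map_mul, map_inv, toGL_lineRepS, ← hb, inv_mul_cancel_left]
    exact b.2

theorem psSL_apply (α : MulChar F ℂ) (g : S2) : psSL α g = psVal (fun a _ => α a) g.1 := by
  classical
  rw [psSL, indFun_transversal B1 _ (fun h k => ?_) lineRepS lineRepS_bijective, Fintype.sum_option]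
  · rw [psVal]
    congr 1
    · simp only [lineRepS, inv_one, one_mul, mul_one]
      split_ifs with h
      · exact extendByZero_mem B1 _ ((mem_borelSL _).2 h)
      · exact extendByZero_not_mem B1 _ fun h' => h ((mem_borelSL _).1 h')
    · refine Finset.sum_congr rfl fun c _ => ?_
      have e : ((lineRepS (some c))⁻¹ * g * lineRepS (some c)).1 =
          !![g.1 1 0 * c + g.1 1 1, -g.1 1 0; lineQuad g.1 c, g.1 0 0 - g.1 1 0 * c] := by
        rw [← toGL_val, map_mul, map_mul, map_inv, toGL_lineRepS, lineRep_conj]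
        rfl
      split_ifs with h
      · rw [extendByZero_mem B1 _ ((mem_borelSL _).2 (by rw [e]; simpa using h))]
        simp only [e]
        simp
      · exact extendByZero_not_mem B1 _ fun h' => h (by rw [mem_borelSL, e] at h'; simpa using h')
  · show borelCharS α (k⁻¹ * h * k) = borelCharS α h
    rw [map_mul, map_mul, mul_comm _ (borelCharS α h), mul_assoc, ← map_mul, inv_mul_cancel, map_one, mul_one]

theorem psGL_restrict (α β : MulChar F ℂ) (g : S2) :
    psGL α β (Matrix.SpecialLinearGroup.toGL g) = psSL (α * β⁻¹) g := by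
  classical
  rw [psGL_apply, psSL_apply, toGL_val, psVal, psVal]
  have key : ∀ a d : F, a * d = 1 → α a * β d = (α * β⁻¹) a := fun a d h => by
    rw [MulChar.mul_apply, MulChar.inv_apply', inv_eq_of_mul_eq_one_right h]
  congr 1
  · split_ifs with h
    · exact key _ _ (borelSL_prod h)
    · rfl
  · refine Finset.sum_congr rfl fun c _ => ?_
    split_ifs with h
    · refine key _ _ ?_
      have hd := g.det_coe
      rw [Matrix.det_fin_two] at hd
      simp only [lineQuad] at h
      linear_combination hd - g.1 1 0 * h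
    · rfl

theorem psSL_eq_psGL (α : MulChar F ℂ) (g : S2) : psSL α g = psGL α 1 (Matrix.SpecialLinearGroup.toGL g) := by
  rw [psGL_restrict, inv_one, mul_one]

theorem isCharacter_psSL (α : MulChar F ℂ) : IsCharacter S2 (psSL α) := by
  rw [show psSL α = fun g : S2 => psGL α 1 (Matrix.SpecialLinearGroup.toGL g) from funext (psSL_eq_psGL α)]
  exact isCharacter_comp (isCharacter_psGL α 1) _

theorem psSL_conj (α : MulChar F ℂ) {x : G2} {g h : S2}
    (e : (Matrix.SpecialLinearGroup.toGL h : G2) = x * Matrix.SpecialLinearGroup.toGL g * x⁻¹) :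
    psSL α h = psSL α g := by
  rw [psSL_eq_psGL, psSL_eq_psGL, e]
  exact isClassFunction_of_isCharacter (isCharacter_psGL α 1) _ _

theorem sum_borelSL {M : Type*} [AddCommMonoid M] [Fintype B1] (f : B1 → M) :
    ∑ b, f b = ∑ a : Fˣ, ∑ x : F, f ⟨elS a x, elS_mem a x⟩ := by
  rw [← borelSLEquiv.sum_comp]
  simp [Fintype.sum_prod_type, borelSLEquiv]

theorem borelSL_card_ne : (((qF - 1) * qF : ℕ) : ℂ) ≠ 0 := by
  have : 1 < qF := Fintype.one_lt_card
  exact_mod_cast (Nat.mul_pos (show 0 < qF - 1 by omega) (by omega)).ne'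

theorem classInner_psSL (α : MulChar F ℂ) {χ : S2 → ℂ} (hχ : IsClassFunction S2 χ) :
    classInner (psSL α) χ = (((qF - 1) * qF : ℕ) : ℂ)⁻¹ * ∑ a : Fˣ, α a * ∑ x : F, conj (χ (elS a x)) := by
  classical
  have := Fintype.ofFinite B1
  rw [psSL, classInner_indFun _ _ _ hχ, classInner, card_borelSL, sum_borelSL]
  congr 1
  refine Finset.sum_congr rfl fun a _ => ?_
  rw [Finset.mul_sum]
  exact Finset.sum_congr rfl fun x _ => by simp [elS_val]

theorem sum_psSL_elS (α : MulChar F ℂ) (a : Fˣ) :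
    ∑ x : F, psSL α (elS a x) = (qF : ℂ) * (α a + α (a⁻¹ : Fˣ)) := by
  simp only [psSL_apply, elS_val]
  rw [sum_psVal_upper]

theorem classInner_psSL_psSL (α β : MulChar F ℂ) [Decidable (α = β)] [Decidable (α = β⁻¹)] :
    classInner (psSL α) (psSL β : S2 → ℂ) = (if α = β then 1 else 0) + (if α = β⁻¹ then 1 else 0) := by
  classical
  rw [classInner_psSL α (isClassFunction_of_isCharacter (isCharacter_psSL β))]
  simp only [← map_sum, sum_psSL_elS, map_mul, map_add, map_natCast]
  have e : ∀ a : Fˣ, conj (β (a⁻¹ : Fˣ)) = conj (β⁻¹ a) := fun a => by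
    rw [MulChar.inv_apply', Units.val_inv_eq_inv_val]
  simp only [e]
  have : ∑ a : Fˣ, α a * ((qF : ℂ) * (conj (β a) + conj (β⁻¹ a))) =
      (qF : ℂ) * ((∑ a : Fˣ, α a * conj (β a)) + ∑ a : Fˣ, α a * conj (β⁻¹ a)) := by
    rw [← Finset.sum_add_distrib, Finset.mul_sum]
    exact Finset.sum_congr rfl fun a _ => by ring
  rw [this, sum_mulChar_conj, sum_mulChar_conj]
  have hne := borelSL_card_ne (F := F)
  push_cast at hne ⊢
  obtain ⟨hn1, hn2⟩ := mul_ne_zero_iff.1 hne
  split_ifs <;> field_simp <;> norm_num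

theorem sq_ne_one_iff (α : MulChar F ℂ) : α ^ 2 ≠ 1 ↔ α ≠ α⁻¹ := by
  rw [not_iff_not, pow_two, mul_eq_one_iff_eq_inv]

theorem isIrr_psSL_iff (α : MulChar F ℂ) : IsIrrCharacter S2 (psSL α) ↔ α ^ 2 ≠ 1 := by
  classical
  rw [sq_ne_one_iff]
  constructor
  · intro h he
    have := classInner_irr_self (G := S2) ⟨_, h⟩
    change classInner (psSL α) (psSL α) = 1 at this
    rw [classInner_psSL_psSL, if_pos rfl, if_pos he] at this
    norm_num at this
  · intro h
    refine isIrr_of_isCharacter_norm_one (isCharacter_psSL α) ?_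
    rw [classInner_psSL_psSL, if_pos rfl, if_neg h, add_zero]

theorem psSL_inv (α : MulChar F ℂ) : (psSL α⁻¹ : S2 → ℂ) = psSL α := by
  classical
  refine sub_eq_zero.1 (classInner_self_eq_zero ?_)
  simp only [classInner_sub_left, classInner_sub_right, classInner_psSL_psSL, inv_inv]
  by_cases h : α = α⁻¹
  · simp only [if_pos h, if_pos h.symm, if_true]; norm_num
  · simp only [if_neg h, if_neg (Ne.symm h), if_true]; norm_num

theorem psSL_eq_iff (α β : MulChar F ℂ) : (psSL α : S2 → ℂ) = psSL β ↔ α = β ∨ α = β⁻¹ := by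
  classical
  constructor
  · intro h
    have h1 := classInner_psSL_psSL α β
    rw [← h, classInner_psSL_psSL, if_pos (rfl : α = α)] at h1
    by_contra hc
    push Not at hc
    rw [if_neg hc.1, if_neg hc.2] at h1
    split_ifs at h1 <;> norm_num at h1
  · rintro (rfl | rfl)
    · rfl
    · exact psSL_inv β

theorem psSL_one (α : MulChar F ℂ) : psSL α (1 : S2) = (qF : ℂ) + 1 := by
  rw [psSL_apply, psVal_scalar _ (by simp) (by simp) (by simp)]
  simp

/-- The Steinberg character of `SL₂`. -/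
noncomputable def stSL : S2 → ℂ := psSL 1 - fun _ => 1

theorem classInner_psSL_triv (α : MulChar F ℂ) [Decidable (α = 1)] :
    classInner (psSL α) (fun _ : S2 => (1 : ℂ)) = if α = 1 then 1 else 0 := by
  classical
  rw [classInner_psSL α (χ := fun _ => 1) (fun _ _ => rfl)]
  simp only [map_one, Finset.sum_const, Finset.card_univ, nsmul_eq_mul, mul_one, ← Finset.sum_mul,
    sum_mulChar_units]
  have hne := borelSL_card_ne (F := F)
  push_cast at hne ⊢
  obtain ⟨hn1, hn2⟩ := mul_ne_zero_iff.1 hne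
  split_ifs
  · field_simp
  · simp

theorem isIrr_stSL : IsIrrCharacter S2 (stSL (F := F)) := by
  classical
  have hone : IsIrrCharacter S2 (fun _ : S2 => (1 : ℂ)) := isIrrCharacter_one
  refine isIrr_of_norm_one ?_ ?_ ?_
  · exact isGeneralizedCharacter_sub (isGeneralizedCharacter_of_isCharacter (isCharacter_psSL 1))
      (isGeneralizedCharacter_of_isCharacter (isCharacter_of_isIrr hone))
  · have h1 : classInner (fun _ : S2 => (1 : ℂ)) (fun _ => 1) = 1 := classInner_irr_self (G := S2) ⟨_, hone⟩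
    rw [stSL, classInner_sub_left, classInner_sub_right, classInner_sub_right, h1,
      ← classInner_conj (psSL 1) (fun _ : S2 => (1 : ℂ)), classInner_psSL_psSL, classInner_psSL_triv]
    simp
  · simp [stSL, psSL_one, Fintype.card_pos]

theorem stSL_one : stSL (1 : S2) = (qF : ℂ) := by simp [stSL, psSL_one]

/-- Cuspidal characters of `SL₂`. -/
def IsCuspSL (χ : S2 → ℂ) : Prop := ∀ α : MulChar F ℂ, classInner (psSL α) χ = 0

theorem sl_cases (χ : IrrCharacter S2) :
    ((χ : S2 → ℂ) = fun _ => 1) ∨ (χ : S2 → ℂ) = stSL ∨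
      (∃ α, α ^ 2 ≠ 1 ∧ (χ : S2 → ℂ) = psSL α) ∨
      (∃ α : MulChar F ℂ, α ^ 2 = 1 ∧ α ≠ 1 ∧ classInner (psSL α) (χ : S2 → ℂ) ≠ 0) ∨
      IsCuspSL (χ : S2 → ℂ) := by
  classical
  by_cases h : IsCuspSL (χ : S2 → ℂ)
  · exact Or.inr (Or.inr (Or.inr (Or.inr h)))
  simp only [IsCuspSL, not_forall] at h
  obtain ⟨α, h⟩ := h
  by_cases h2 : α ^ 2 = 1
  · by_cases h1 : α = 1
    · subst h1
      have e : (psSL 1 : S2 → ℂ) = stSL + fun _ => 1 := by rw [stSL, sub_add_cancel]
      rw [e, classInner_add_left] at h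
      by_cases hs : classInner stSL (χ : S2 → ℂ) = 0
      · rw [hs, zero_add] at h
        exact Or.inl (congrArg Subtype.val (irr_eq_of_inner_ne_zero (χ := ⟨_, isIrrCharacter_one⟩) h)).symm
      · exact Or.inr (Or.inl (congrArg Subtype.val (irr_eq_of_inner_ne_zero (χ := ⟨_, isIrr_stSL⟩) hs)).symm)
    · exact Or.inr (Or.inr (Or.inr (Or.inl ⟨α, h2, h1, h⟩)))
  · exact Or.inr (Or.inr (Or.inl ⟨α, h2,
      (congrArg Subtype.val (irr_eq_of_inner_ne_zero (χ := ⟨_, (isIrr_psSL_iff α).2 h2⟩) h)).symm⟩))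

end CfsgLib.Char.TwoChars
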