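import Cfsg.Agent.Lib.Char.SLTwoDiscrete

/-!
# Values of the cuspidal characters of `SL(2, q)`
-/

set_option autoImplicit false
set_option linter.unusedSectionVars false
set_option linter.style.haveILetI false

namespace CfsgLib.Char.TwoChars

open Matrix Cfsg CfsgLib.Char
open scoped ComplexConjugate Classical

variable {F : Type*} [Field F] [Fintype F] [DecidableEq F]

local notation "S2" => Matrix.SpecialLinearGroup (Fin 2) F
local notation "qF" => Fintype.card F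

theorem torus_generator {C : Subgroup S2} (hC : IsCyclic C) (hcard : Nat.card C = qF + 1) :
    ∃ c : C, (∀ x, x ∈ Subgroup.zpowers c) ∧ orderOf c = qF + 1 ∧ ¬ TwoClasses.IsScalar2 (c : S2).1 := by
  obtain ⟨c, hc⟩ := hC.exists_generator
  have ho : orderOf c = qF + 1 := by rw [orderOf_eq_card_of_forall_mem_zpowers hc, hcard]
  refine ⟨c, hc, ho, fun hs => ?_⟩
  have h2 : c ^ 2 = 1 := by
    rcases scalar_cases hs with h | h <;> refine Subtype.ext (Subtype.ext ?_) <;>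
      simp [pow_two, h, negS_val]
  have := Nat.le_of_dvd two_pos (ho ▸ orderOf_dvd_of_pow_eq_one h2)
  have := Fintype.one_lt_card (α := F)
  omega

theorem exists_base_theta {C : Subgroup S2} (hC : IsCyclic C) (hcard : Nat.card C = qF + 1) :
    ∃ (c : C) (θ : C →* ℂˣ), ¬ TwoClasses.IsScalar2 (c : S2).1 ∧
      IsPrimitiveRoot ((θ c : ℂˣ) : ℂ) (qF + 1) ∧ Function.Injective θ := by
  obtain ⟨c, hc, ho, hns⟩ := torus_generator hC hcard
  have hz := Complex.isPrimitiveRoot_exp (qF + 1) (Nat.succ_ne_zero _)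
  set ζ := Complex.exp (2 * Real.pi * Complex.I / ((qF + 1 : ℕ) : ℂ))
  let u : ℂˣ := Units.mk0 ζ (hz.ne_zero (Nat.succ_ne_zero _))
  have hu : orderOf u = qF + 1 := by rw [← orderOf_units]; exact hz.eq_orderOf.symm
  let θ := monoidHomOfForallMemZpowers hc (g' := u) (by rw [hu, ho])
  have hθc : θ c = u := monoidHomOfForallMemZpowers_apply_gen hc _
  refine ⟨c, θ, hns, by rw [hθc]; exact hz, (injective_iff_map_eq_one θ).2 fun x hx => ?_⟩
  obtain ⟨i, rfl⟩ := Subgroup.mem_zpowers_iff.1 (hc x)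
  rw [map_zpow, hθc, ← orderOf_dvd_iff_zpow_eq_one, hu] at hx
  rw [← orderOf_dvd_iff_zpow_eq_one, ho]
  exact hx

/-- The exponents indexing the discrete series. -/
abbrev DIdx (F : Type*) [Fintype F] := Fin ((Fintype.card F - 1) / 2)

theorem didx_bound (hodd : Odd qF) (k : DIdx F) : 2 * ((k : ℕ) + 1) + 1 ≤ qF := by
  have := k.2
  rcases hodd with ⟨m, hm⟩
  omega

theorem base_pow_sq (hodd : Odd qF) {C : Subgroup S2} {θ : C →* ℂˣ} {c : C}
    (hp : IsPrimitiveRoot ((θ c : ℂˣ) : ℂ) (qF + 1)) (k : DIdx F) :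
    ∃ x : C, (θ ^ ((k : ℕ) + 1)) x ^ 2 ≠ 1 := by
  refine ⟨c, fun h => ?_⟩
  have h' := congrArg Units.val h
  rw [MonoidHom.pow_apply, ← pow_mul, Units.val_pow_eq_pow_val, Units.val_one, hp.pow_eq_one_iff_dvd] at h'
  have := Nat.le_of_dvd (by omega) h'
  have := didx_bound hodd k
  omega

open Finset in
theorem cusp_family {C : Subgroup S2} (hC : IsCyclic C) (hcard : Nat.card C = qF + 1) (hodd : Odd qF)
    (hq : 4 ≤ qF) {θ : C →* ℂˣ} {c : C} (hns : ¬ TwoClasses.IsScalar2 (c : S2).1)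
    (hp : IsPrimitiveRoot ((θ c : ℂˣ) : ℂ) (qF + 1)) :
    ∃ α : DIdx F → MulChar F ℂ, (∀ k : DIdx F, Compat (θ ^ ((k : ℕ) + 1)) (α k)) ∧
      ∀ χ : IrrCharacter S2, (χ : S2 → ℂ) 1 = (qF : ℂ) - 1 →
        ∃! k : DIdx F, (χ : S2 → ℂ) = cuspTheta C (θ ^ ((k : ℕ) + 1)) (α k) := by
  choose α hα using fun k : DIdx F => exists_compat hcard hodd (θ ^ ((k : ℕ) + 1))
  refine ⟨α, hα, ?_⟩
  let f : DIdx F → {χ : IrrCharacter S2 // IsCuspSL (χ : S2 → ℂ) ∧ (χ : S2 → ℂ) 1 = (qF : ℂ) - 1} := fun k =>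
    ⟨⟨_, isIrr_cuspTheta hC hcard hodd _ (base_pow_sq hodd hp k) _ (hα k)⟩,
      sl_deg_q_sub hq _ (cuspTheta_one hcard _ _), cuspTheta_one hcard _ _⟩
  have hinj : Function.Injective f := by
    intro j k e
    have e' := congrFun (congrArg (fun z => ((z.1 : IrrCharacter S2) : S2 → ℂ)) e) (c : S2)
    simp only [f, cuspTheta_torus hC hcard hodd _ _ hns, MonoidHom.pow_apply, Units.val_pow_eq_pow_val,
      Units.val_inv_eq_inv_val] at e'
    set ζ := ((θ c : ℂˣ) : ℂ)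
    have hx : ζ ^ ((j : ℕ) + 1) ≠ 0 := pow_ne_zero _ (hp.ne_zero (Nat.succ_ne_zero _))
    have hy : ζ ^ ((k : ℕ) + 1) ≠ 0 := pow_ne_zero _ (hp.ne_zero (Nat.succ_ne_zero _))
    have hm : (ζ ^ ((j : ℕ) + 1) - ζ ^ ((k : ℕ) + 1)) * (ζ ^ ((j : ℕ) + 1) * ζ ^ ((k : ℕ) + 1) - 1) = 0 := by
      field_simp at e'
      linear_combination -e'
    have hj := didx_bound hodd j
    have hk := didx_bound hodd k
    rcases mul_eq_zero.1 hm with h | h
    · have := hp.pow_inj (by omega) (by omega) (sub_eq_zero.1 h)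
      exact Fin.ext (by omega)
    · rw [sub_eq_zero, ← pow_add, hp.pow_eq_one_iff_dvd] at h
      have := Nat.le_of_dvd (by omega) h
      omega
  have hsur : Function.Surjective f := by
    refine ((Nat.bijective_iff_injective_and_card f).2 ⟨hinj, ?_⟩).2
    have h := (sl_counts (F := F)).2.2.2
    rw [if_pos hodd] at h
    rw [Nat.card_eq_fintype_card, Fintype.card_fin]
    omega
  intro χ h1
  obtain ⟨k, hk⟩ := hsur ⟨χ, sl_deg_q_sub hq χ h1, h1⟩
  refine ⟨k, (congrArg (fun z => ((z.1 : IrrCharacter S2) : S2 → ℂ)) hk).symm, fun j hj => ?_⟩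
  exact hinj ((Subtype.ext (Subtype.ext hj.symm) : f j = _).trans hk.symm)

theorem cusp_values (hodd : Odd qF) {C : Subgroup S2} (hC : IsCyclic C) (hcard : Nat.card C = qF + 1)
    (χ : IrrCharacter S2) (h1 : (χ : S2 → ℂ) 1 = (qF : ℂ) - 1) :
    ∃ θ : C →* ℂˣ, (∃ c : C, θ c ^ 2 ≠ 1) ∧
      ∀ c : C, ¬ TwoClasses.IsScalar2 (c : S2).1 →
        (χ : S2 → ℂ) (c : S2) = -(((θ c : ℂˣ) : ℂ) + (((θ c)⁻¹ : ℂˣ) : ℂ)) := by
  obtain ⟨c₀, θ, hns, hp, -⟩ := exists_base_theta hC hcard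
  by_cases hq : 4 ≤ qF
  · obtain ⟨α, -, h⟩ := cusp_family hC hcard hodd hq hns hp
    obtain ⟨k, hk, -⟩ := h χ h1
    exact ⟨_, base_pow_sq hodd hp k, fun c hc => by rw [hk, cuspTheta_torus hC hcard hodd _ _ hc]⟩
  · have h3 : qF = 3 := by
      have := Fintype.one_lt_card (α := F)
      rcases hodd with ⟨m, hm⟩
      omega
    let k : DIdx F := ⟨0, by rw [h3]; norm_num⟩
    obtain ⟨α, hα⟩ := exists_compat hcard hodd (θ ^ ((k : ℕ) + 1))
    refine ⟨θ ^ ((k : ℕ) + 1), base_pow_sq hodd hp k, fun c hc => ?_⟩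
    rw [← cuspTheta_torus hC hcard hodd _ α hc, ell_three h3 (torus_ell hcard hodd c.2 hc) χ
      (by rw [h1, h3]; norm_num)]
    exact (ell_three h3 (torus_ell hcard hodd c.2 hc)
      ⟨_, isIrr_cuspTheta hC hcard hodd _ (base_pow_sq hodd hp k) α hα⟩
      (by show cuspTheta C _ α 1 = 2; rw [cuspTheta_one hcard, h3]; norm_num)).symm

theorem cuspTheta_center_mul {C : Subgroup S2} (hC : IsCyclic C) (hcard : Nat.card C = qF + 1) (hodd : Odd qF)
    (θ : C →* ℂˣ) (hθ : ∃ c : C, θ c ^ 2 ≠ 1) (α : MulChar F ℂ) (hα : Compat θ α) {c : C}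
    (hc : TwoClasses.IsScalar2 (c : S2).1) (g : S2) :
    cuspTheta C θ α ((c : S2) * g) = ((θ c : ℂˣ) : ℂ) * cuspTheta C θ α g := by
  have h := irr_center_mul (⟨_, isIrr_cuspTheta hC hcard hodd θ hθ α hα⟩ : IrrCharacter S2)
    ((sl_mem_center_iff _).2 hc) g
  simp only [cuspTheta_one hcard, cuspTheta_scalar hcard θ α hα hc] at h
  refine mul_right_cancel₀ (b := (qF : ℂ) - 1) ?_ (by rw [h]; ring)
  rw [sub_ne_zero]
  exact_mod_cast (Fintype.one_lt_card (α := F)).ne'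

theorem halfPS_split {χ : IrrCharacter S2} (h : IsHalfPS χ) {g : S2} (h01 : g.1 0 1 = 0) (h10 : g.1 1 0 = 0)
    (ha : g.1 0 0 ^ 2 ≠ 1) :
    (IsSquare (g.1 0 0) → (χ : S2 → ℂ) g = 1) ∧ (¬ IsSquare (g.1 0 0) → (χ : S2 → ℂ) g = -1) := by
  have hne := diag_ne h10 ha
  obtain ⟨α, h2, h1, e⟩ := halfPS_value h (fun hs => hne hs.2.2) (split_dsc h10 hne)
  have hp := borelSL_prod h10
  have hsq : IsSquare (g.1 1 1) ↔ IsSquare (g.1 0 0) := by
    rw [show g.1 1 1 = (g.1 0 0)⁻¹ from (inv_eq_of_mul_eq_one_right hp).symm, isSquare_inv]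
  rw [psSL_apply, psVal_ne _ h10 hne] at e
  have a0 : g.1 0 0 ≠ 0 := left_ne_zero_of_mul_eq_one hp
  have d0 : g.1 1 1 ≠ 0 := right_ne_zero_of_mul_eq_one hp
  refine ⟨fun hs => ?_, fun hs => ?_⟩
  · rw [quad_apply_sq h2 a0 hs, quad_apply_sq h2 d0 (hsq.2 hs)] at e
    linear_combination e / 2
  · rw [quad_apply_nonsq h2 h1 hs, quad_apply_nonsq h2 h1 (fun h => hs (hsq.1 h))] at e
    linear_combination e / 2

theorem sum_pow_pairs {x : ℂ} {m : ℕ} (hx : x ≠ 1) (hn : x ^ (2 * (m + 1)) = 1) :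
    ∑ k : Fin m, (x ^ ((k : ℕ) + 1) + (x ^ ((k : ℕ) + 1))⁻¹) = -(1 + x ^ (m + 1)) := by
  have hx0 : x ≠ 0 := by rintro rfl; simp at hn
  have A := geom_sum_mul x m
  have B := geom_sum_mul x⁻¹ m
  rw [Finset.sum_range] at A B
  have hs : (x⁻¹) ^ (m + 1) = x ^ (m + 1) := by
    rw [inv_pow]; exact inv_eq_of_mul_eq_one_right (by rw [← pow_add, ← two_mul, hn])
  have hA : (∑ k : Fin m, x ^ ((k : ℕ) + 1)) * (x - 1) = x ^ (m + 1) - x := by
    simp only [pow_succ, ← Finset.sum_mul]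
    linear_combination x * A
  have hB : (∑ k : Fin m, x⁻¹ ^ ((k : ℕ) + 1)) * (x⁻¹ - 1) = x⁻¹ ^ (m + 1) - x⁻¹ := by
    simp only [pow_succ, ← Finset.sum_mul]
    linear_combination x⁻¹ * B
  have hB' : (∑ k : Fin m, x⁻¹ ^ ((k : ℕ) + 1)) * (1 - x) = x * x ^ (m + 1) - 1 := by
    rw [hs] at hB
    linear_combination x * hB - ((∑ k : Fin m, x⁻¹ ^ ((k : ℕ) + 1)) + 1) * mul_inv_cancel₀ hx0
  refine mul_right_cancel₀ (sub_ne_zero.2 hx) ?_
  simp only [Finset.sum_add_distrib, ← inv_pow]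
  linear_combination hA - hB'

open Finset in
theorem cuspHalf_ell (hodd : Odd qF) (hq : 4 ≤ qF) {χ : IrrCharacter S2} (hχ : IsCuspHalf χ) {g : S2}
    (hg : TwoClasses.IsEll g.1) :
    (g ^ ((qF + 1) / 2) = 1 → (χ : S2 → ℂ) g = -1) ∧ (g ^ ((qF + 1) / 2) ≠ 1 → (χ : S2 → ℂ) g = 1) := by
  haveI := Fintype.ofFinite (IrrCharacter S2)
  let C := Subgroup.centralizer ({g} : Set S2)
  have hC : IsCyclic C := ell_centralizer_cyclic hg
  have hcard : Nat.card C = qF + 1 := card_centralizer_ell hodd hg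
  let gC : C := ⟨g, Subgroup.mem_centralizer_singleton_iff.2 rfl⟩
  have hgs : ¬ TwoClasses.IsScalar2 (gC : S2).1 := TwoClasses.isEll_not_scalar hg
  obtain ⟨c, θ, hns, hp, hinj⟩ := exists_base_theta hC hcard
  obtain ⟨α, hα, hfam⟩ := cusp_family hC hcard hodd hq hns hp
  set x := ((θ gC : ℂˣ) : ℂ) with hxdef
  set m := (qF - 1) / 2 with hm
  have hm2 : 2 * (m + 1) = qF + 1 := by rcases hodd with ⟨j, hj⟩; omega
  have hx1 : x ≠ 1 := fun e => hgs (by
    have : gC = 1 := hinj (by rw [map_one]; exact Units.ext e)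
    rw [this]; simp [TwoClasses.IsScalar2])
  have hxn : x ^ (2 * (m + 1)) = 1 := by
    rw [hm2, hxdef, ← Units.val_pow_eq_pow_val, ← map_pow, ← hcard, pow_card_eq_one', map_one, Units.val_one]
  -- the sum over the discrete series
  let D1 : Finset (IrrCharacter S2) :=
    univ.filter fun χ => IsCuspSL (χ : S2 → ℂ) ∧ (χ : S2 → ℂ) 1 = (qF : ℂ) - 1
  let D2 : Finset (IrrCharacter S2) := univ.filter fun χ => IsCuspHalf χ
  let f : DIdx F → IrrCharacter S2 := fun j =>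
    ⟨_, isIrr_cuspTheta hC hcard hodd _ (base_pow_sq hodd hp j) (α j) (hα j)⟩
  have hfdeg : ∀ j, (f j : S2 → ℂ) 1 = (qF : ℂ) - 1 := fun j => cuspTheta_one hcard _ _
  have hD1 : ∑ ψ ∈ D1, (ψ : S2 → ℂ) g = 1 + x ^ (m + 1) := by
    have himg : univ.image f = D1 := by
      ext ψ
      simp only [mem_image, mem_univ, true_and, D1, mem_filter]
      constructor
      · rintro ⟨j, rfl⟩
        exact ⟨sl_deg_q_sub hq _ (hfdeg j), hfdeg j⟩
      · rintro ⟨-, h⟩
        obtain ⟨j, hj, -⟩ := hfam ψ h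
        exact ⟨j, Subtype.ext hj.symm⟩
    rw [← himg, sum_image fun i _ j _ e => (hfam (f j) (hfdeg j)).unique (congrArg Subtype.val e.symm) rfl,
      sum_congr rfl (g := fun j : DIdx F => -(x ^ ((j : ℕ) + 1) + (x ^ ((j : ℕ) + 1))⁻¹)) fun j _ => ?_,
      sum_neg_distrib, sum_pow_pairs hx1 hxn, neg_neg]
    show cuspTheta C _ (α j) (gC : S2) = _
    rw [cuspTheta_torus hC hcard hodd _ _ hgs]
    simp [MonoidHom.pow_apply, hxdef]
  obtain ⟨ν, hν⟩ := exists_repUnip (F := F)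
  have hσc : IsCuspHalf (sigIrr ν χ) := by
    refine ⟨fun β => (classInner_psSL_sigIrr ν β χ).trans (hχ.1 β), ?_⟩
    rw [sigIrr_apply, map_one]
    exact hχ.2
  have hσne : sigIrr ν χ ≠ χ := by
    intro e
    rcases cusp_dichotomy χ hχ.1 hν with ⟨h', -⟩ | ⟨-, -, h'⟩
    · have := hχ.2
      rw [h'] at this
      have h0 : (qF : ℂ) = 1 := by linear_combination this
      have : qF = 1 := by exact_mod_cast h0
      omega
    · refine h' ?_
      have := congrFun (congrArg Subtype.val e) (elS (1 : Fˣ) (1 : F))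
      rw [sigIrr_apply, sigS_elS, mul_one] at this
      exact this.symm
  have cD := (sl_counts (F := F)).2.2.1
  rw [if_pos hodd, Nat.card_eq_fintype_card, Fintype.card_subtype] at cD
  have hD2set : D2 = {χ, sigIrr ν χ} := by
    refine (eq_of_subset_of_card_le (fun ψ h => ?_) ?_).symm
    · rcases mem_insert.1 h with rfl | h
      · exact mem_filter.2 ⟨mem_univ _, hχ⟩
      · rw [mem_singleton.1 h]; exact mem_filter.2 ⟨mem_univ _, hσc⟩
    · rw [card_pair hσne.symm]; exact cD.le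
  have hσg : (sigIrr ν χ : S2 → ℂ) g = (χ : S2 → ℂ) g := by
    rw [sigIrr_apply]
    exact classFun_isConj (isClassFunction_irr χ)
      (sigS_conj ν (TwoClasses.isEll_not_scalar hg) (TwoClasses.isEll_dsc_ne hodd hg))
  have hD2 : ∑ ψ ∈ D2, (ψ : S2 → ℂ) 1 * (ψ : S2 → ℂ) g = ((qF : ℂ) - 1) * (χ : S2 → ℂ) g := by
    rw [hD2set, sum_pair hσne.symm, hσg, ← hχ.2]
    rw [show (sigIrr ν χ : S2 → ℂ) 1 = (χ : S2 → ℂ) 1 by rw [sigIrr_apply, map_one]]
    ring
  let one' : IrrCharacter S2 := ⟨_, isIrrCharacter_one⟩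
  let st' : IrrCharacter S2 := ⟨_, isIrr_stSL⟩
  have hne : one' ≠ st' := fun e => by
    have h := congrFun (congrArg Subtype.val e) g
    simp only [one', st', stSL_ell hg] at h
    norm_num at h
  have horth := sum_irr_mul_conj g (1 : S2)
  rw [if_neg (fun h => TwoClasses.isEll_not_scalar hg (by
    rw [isConj_one_left.1 h]; simp [TwoClasses.IsScalar2])), ← sum_filter_add_sum_filter_not univ
      (fun ψ : IrrCharacter S2 => IsCuspSL (ψ : S2 → ℂ))] at horth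
  have hN : ∑ ψ ∈ univ.filter (fun ψ : IrrCharacter S2 => ¬ IsCuspSL (ψ : S2 → ℂ)),
      (ψ : S2 → ℂ) g * conj ((ψ : S2 → ℂ) 1) = 1 - (qF : ℂ) := by
    rw [← sum_subset (s₁ := {one', st'}) ?_ ?_, sum_pair hne]
    · simp [one', st', stSL_ell hg, stSL_one]
      ring
    · intro ψ h
      rcases mem_insert.1 h with rfl | h
      · exact mem_filter.2 ⟨mem_univ _, triv_not_cusp⟩
      · rw [mem_singleton.1 h]; exact mem_filter.2 ⟨mem_univ _, stSL_not_cusp⟩
    · intro ψ h h'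
      rcases sl_cases ψ with e | e | ⟨β, -, e⟩ | e | e
      · exact absurd (show ψ ∈ ({one', st'} : Finset _) by simp [show ψ = one' from Subtype.ext e]) h'
      · exact absurd (show ψ ∈ ({one', st'} : Finset _) by simp [show ψ = st' from Subtype.ext e]) h'
      · rw [e, psSL_ell β hg, zero_mul]
      · rw [halfPS_ell e hg hodd, zero_mul]
      · exact absurd e (mem_filter.1 h).2
  have hY : ∑ ψ ∈ univ.filter (fun ψ : IrrCharacter S2 => IsCuspSL (ψ : S2 → ℂ)),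
      (ψ : S2 → ℂ) g * conj ((ψ : S2 → ℂ) 1) = ((qF : ℂ) - 1) * (1 + x ^ (m + 1) + (χ : S2 → ℂ) g) := by
    have hd : Disjoint D1 D2 := disjoint_left.2 fun ψ h h' => by
      have e := (mem_filter.1 h').2.2
      rw [(mem_filter.1 h).2.2] at e
      have h0 : (qF : ℂ) = 1 := by linear_combination e
      have : qF = 1 := by exact_mod_cast h0
      omega
    rw [show univ.filter (fun ψ : IrrCharacter S2 => IsCuspSL (ψ : S2 → ℂ)) = D1 ∪ D2 from ?_, sum_union hd]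
    · simp only [conj_irr_one]
      rw [sum_congr rfl fun ψ (h : ψ ∈ D2) => mul_comm ((ψ : S2 → ℂ) g) ((ψ : S2 → ℂ) 1), hD2,
        sum_congr rfl (g := fun ψ : IrrCharacter S2 => (ψ : S2 → ℂ) g * ((qF : ℂ) - 1)) fun ψ (h : ψ ∈ D1) => by rw [(mem_filter.1 h).2.2],
        ← sum_mul, hD1]
      ring
    · ext ψ
      simp only [mem_union, D1, D2, mem_filter, mem_univ, true_and]
      exact ⟨fun h => (cusp_deg_cases ψ h).imp (fun e => ⟨h, e⟩) id, fun h => h.elim (fun e => e.1) fun e => e.1⟩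
  rw [hY, hN] at horth
  have hq1 : (qF : ℂ) - 1 ≠ 0 := by
    rw [sub_ne_zero]; exact_mod_cast (show qF ≠ 1 by omega)
  have hval : (χ : S2 → ℂ) g = -x ^ (m + 1) := mul_left_cancel₀ hq1 (by linear_combination horth)
  have hiff : g ^ ((qF + 1) / 2) = 1 ↔ x ^ (m + 1) = 1 := by
    rw [show (qF + 1) / 2 = m + 1 by omega, hxdef, ← Units.val_pow_eq_pow_val, ← map_pow, Units.val_eq_one]
    refine ⟨fun h => by rw [show gC ^ (m + 1) = 1 from Subtype.ext h, map_one], fun h => ?_⟩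
    exact congrArg Subtype.val (hinj (by rw [h, map_one]) : gC ^ (m + 1) = 1)
  refine ⟨fun h => by rw [hval, hiff.1 h], fun h => ?_⟩
  have h2 : (x ^ (m + 1)) ^ 2 = 1 := by rw [← pow_mul, mul_comm, hxn]
  rw [hval, (sq_eq_one_iff.1 h2).resolve_left (fun e => h (hiff.2 e)), neg_neg]

end CfsgLib.Char.TwoChars
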