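import Cfsg.Agent.Lib.Char.SLTwoTable
import Cfsg.Agent.Lib.Char.SLTwoDiscreteValues
import Cfsg.Agent.Lib.Char.SquareSpectrum
import Cfsg.Agent.Lib.Block.CentralDefect
import Cfsg.Prelude.Def_DegreeGraph

/-!
# Degrees of `PSL(2, q)` and the degree graphs of `SL(2, q)`, `PSL(2, q)`
-/

set_option autoImplicit false
set_option linter.unusedSectionVars false
set_option linter.style.haveILetI false

namespace CfsgLib.Char.TwoChars

open Matrix Cfsg CfsgLib.Char

variable {F : Type*} [Field F] [Fintype F] [DecidableEq F]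

local notation "S2" => Matrix.SpecialLinearGroup (Fin 2) F
local notation "P2" => Matrix.ProjectiveSpecialLinearGroup (Fin 2) F
local notation "qF" => Fintype.card F

theorem charDegree_eq_of_cast {G : Type*} [Group G] (f : G → ℂ) {d : ℕ} (h : f 1 = (d : ℂ)) :
    charDegree f = d := by simp [charDegree, h]

theorem sl_degree_cases (χ : IrrCharacter S2) :
    charDegree (χ : S2 → ℂ) = 1 ∨ charDegree (χ : S2 → ℂ) = qF ∨
      charDegree (χ : S2 → ℂ) ∣ qF + 1 ∨ charDegree (χ : S2 → ℂ) ∣ qF - 1 := by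
  have hq : 1 ≤ qF := Fintype.card_pos
  obtain ⟨d, -, hd⟩ := isIrrCharacter_degree χ.2
  rw [charDegree_eq_of_cast (χ : S2 → ℂ) hd]
  rcases sl_deg_cases χ with ⟨-, e⟩ | ⟨-, e⟩ | ⟨_, -, -, e⟩ | ⟨-, e⟩ | ⟨-, e⟩ | ⟨-, e⟩ <;> rw [hd] at e
  · exact Or.inl (by exact_mod_cast e)
  · exact Or.inr (Or.inl (by exact_mod_cast e))
  · refine Or.inr (Or.inr (Or.inl (dvd_of_eq ?_))); exact_mod_cast e
  · have : 2 * d = qF + 1 := by exact_mod_cast e
    exact Or.inr (Or.inr (Or.inl ⟨2, by omega⟩))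
  · have : d + 1 = qF := by
      have : (d : ℂ) + 1 = (qF : ℂ) := by rw [e]; ring
      exact_mod_cast this
    exact Or.inr (Or.inr (Or.inr (dvd_of_eq (by omega))))
  · have : 2 * d + 1 = qF := by
      have : 2 * (d : ℂ) + 1 = (qF : ℂ) := by rw [e]; ring
      exact_mod_cast this
    exact Or.inr (Or.inr (Or.inr ⟨2, by omega⟩))

theorem center_scalar_entry {g : S2} (hg : g ∈ Subgroup.center S2) :
    TwoClasses.IsScalar2 g.1 ∧ (g = 1 ∨ g = negS) :=
  ⟨(sl_mem_center_iff g).1 hg, scalar_cases ((sl_mem_center_iff g).1 hg)⟩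

theorem psl_mem_degrees (χ : IrrCharacter S2)
    (h : ∀ z ∈ Subgroup.center S2, (χ : S2 → ℂ) z = (χ : S2 → ℂ) 1) :
    charDegree (χ : S2 → ℂ) ∈ charDegrees P2 := by
  classical
  obtain ⟨θ, hθ⟩ := CfsgLib.Block.exists_deflate (N := Subgroup.center S2) χ h
  refine ⟨θ, ?_⟩
  simp only [charDegree, ← hθ (1 : S2), QuotientGroup.mk_one]

theorem psl_degrees_subset : charDegrees P2 ⊆ charDegrees S2 := by
  rintro d ⟨θ, rfl⟩
  exact ⟨⟨fun g => (θ : P2 → ℂ) g, isIrrCharacter_comp_surjective θ.2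
    (QuotientGroup.mk' (Subgroup.center S2)) (QuotientGroup.mk'_surjective _)⟩, rfl⟩

theorem stSL_center (z : S2) (hz : z ∈ Subgroup.center S2) : (stSL : S2 → ℂ) z = stSL (1 : S2) := by
  have h := (center_scalar_entry hz).1
  have hu : IsUnit (z.1 0 0) := isUnit_iff_ne_zero.2 fun h0 => by
    have hd := borelSL_prod (g := z) h.2.1
    rw [h0, zero_mul] at hd
    exact zero_ne_one hd
  simp [stSL, psSL_one, psSL_scalar _ h, MulChar.one_apply hu]

theorem q_mem_psl : qF ∈ charDegrees P2 := by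
  have := psl_mem_degrees (⟨_, isIrr_stSL⟩ : IrrCharacter S2) stSL_center
  rwa [charDegree_eq_of_cast _ (stSL_one (F := F))] at this

theorem psSL_center {α : MulChar F ℂ} (hα : α (-1) = 1) (z : S2) (hz : z ∈ Subgroup.center S2) :
    psSL α z = psSL α (1 : S2) := by
  rcases (center_scalar_entry hz).2 with rfl | rfl
  · rfl
  · rw [psSL_scalar α scalar_negS, psSL_one, negS_val]
    simp [hα]

theorem q_add_mem_psl (hq : 4 ≤ qF) (h5 : qF ≠ 5) : qF + 1 ∈ charDegrees P2 := by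
  classical
  obtain ⟨e⟩ := MulChar.mulEquiv_units F ℂ
  obtain ⟨u, hu⟩ := IsCyclic.exists_monoid_generator (α := Fˣ)
  have hord : orderOf (e.symm u) = qF - 1 := by
    rw [MulEquiv.orderOf_eq, orderOf_eq_card_of_forall_mem_powers hu, Nat.card_units,
      Nat.card_eq_fintype_card]
  obtain ⟨α, hα, hα2⟩ : ∃ α : MulChar F ℂ, α (-1) = 1 ∧ α ^ 2 ≠ 1 := by
    by_cases h3 : 4 < qF - 1
    · refine ⟨(e.symm u) ^ 2, ?_, fun h => ?_⟩
      · rw [MulChar.pow_apply' _ two_ne_zero, ← map_pow, neg_one_sq, map_one]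
      · rw [← pow_mul] at h
        have := Nat.le_of_dvd (by norm_num) (hord ▸ orderOf_dvd_of_pow_eq_one h)
        omega
    · have h4 : qF = 4 := by omega
      refine ⟨e.symm u, ?_, fun h => ?_⟩
      · have h2 : (-1 : F) = 1 := by
          have h1 := FiniteField.pow_card_sub_one_eq_one (-1 : F) (neg_ne_zero.2 one_ne_zero)
          rw [h4] at h1
          norm_num at h1
          exact h1
        rw [h2, map_one]
      · have := Nat.le_of_dvd (by norm_num) (hord ▸ orderOf_dvd_of_pow_eq_one h)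
        omega
  have := psl_mem_degrees (⟨_, (isIrr_psSL_iff α).2 hα2⟩ : IrrCharacter S2) (psSL_center hα)
  rwa [charDegree_eq_of_cast _ (show (psSL α : S2 → ℂ) 1 = ((qF + 1 : ℕ) : ℂ) by
    rw [psSL_one, Nat.cast_succ])] at this

theorem q_sub_mem_psl (hq : 4 ≤ qF) : qF - 1 ∈ charDegrees P2 := by
  classical
  have hcast : ((qF - 1 : ℕ) : ℂ) = (qF : ℂ) - 1 := by rw [Nat.cast_sub (by omega), Nat.cast_one]
  by_cases hodd : Odd qF
  · obtain ⟨x, hx⟩ := exists_ell (F := F)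
    set C := Subgroup.centralizer ({x} : Set S2)
    have hC : IsCyclic C := ell_centralizer_cyclic hx
    have hcard : Nat.card C = qF + 1 := card_centralizer_ell hodd hx
    obtain ⟨c, θ, -, hp, -⟩ := exists_base_theta hC hcard
    have hθ : ∃ c : C, (θ ^ 2) c ^ 2 ≠ 1 := ⟨c, fun h => by
      rw [MonoidHom.pow_apply, ← pow_mul, Units.ext_iff, Units.val_pow_eq_pow_val, Units.val_one,
        hp.pow_eq_one_iff_dvd] at h
      have := Nat.le_of_dvd (by norm_num) h
      omega⟩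
    obtain ⟨α, hα⟩ := exists_compat hcard hodd (θ ^ 2)
    have := psl_mem_degrees
      (⟨_, isIrr_cuspTheta hC hcard hodd (θ ^ 2) hθ α hα⟩ : IrrCharacter S2) fun z hz => by
      have hzs := (center_scalar_entry hz).1
      have hzC : z ∈ C := scalar_mem hcard hodd hzs
      show cuspTheta C (θ ^ 2) α ((⟨z, hzC⟩ : C) : S2) = cuspTheta C (θ ^ 2) α (1 : S2)
      rw [cuspTheta_scalar hcard _ α hα (c := ⟨z, hzC⟩) hzs, cuspTheta_one hcard]
      have h2 : (⟨z, hzC⟩ : C) ^ 2 = 1 := by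
        rcases scalar_cases hzs with h | h <;> refine Subtype.ext (Subtype.ext ?_) <;>
          simp [h, pow_two, negS_val]
      rw [MonoidHom.pow_apply, ← map_pow, h2, map_one, Units.val_one, mul_one]
    rwa [charDegree_eq_of_cast _ ((cuspTheta_one hcard _ α).trans hcast.symm)] at this
  · have h := (sl_counts (F := F)).2.2.2
    rw [if_neg hodd] at h
    obtain ⟨⟨χ, -, hχ⟩⟩ : Nonempty {χ : IrrCharacter S2 //
        IsCuspSL (χ : S2 → ℂ) ∧ (χ : S2 → ℂ) 1 = (qF : ℂ) - 1} :=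
      (Nat.card_pos_iff.1 (by omega)).1
    haveI : CharP F 2 := ringChar.of_eq (by
      by_contra hne
      exact hodd (Nat.odd_iff.2 (FiniteField.odd_card_of_char_ne_two hne)))
    have := psl_mem_degrees χ fun z hz => by
      rcases (center_scalar_entry hz).2 with rfl | rfl
      · rfl
      · rw [show (negS : S2) = 1 from Subtype.ext (by
          rw [negS_val, Matrix.SpecialLinearGroup.coe_one, CharTwo.neg_eq])]
    rwa [charDegree_eq_of_cast _ (hχ.trans hcast.symm)] at this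

/-- The degree primes and adjacency, for a group whose degrees lie between those of `PSL` and `SL`. -/
theorem degree_graph (hq : 4 ≤ qF) (h5 : qF ≠ 5) {S : Type*} [Group S]
    (h1 : charDegrees P2 ⊆ charDegrees S) (h2 : charDegrees S ⊆ charDegrees S2) :
    Cfsg.degreePrimes S = {r : ℕ | r.Prime ∧ r ∣ qF * (qF ^ 2 - 1)} ∧
      ∀ r s : ℕ, (Cfsg.degreeGraph S).Adj r s ↔
        (r ≠ s ∧ r.Prime ∧ s.Prime ∧ ((r ∣ qF + 1 ∧ s ∣ qF + 1) ∨ (r ∣ qF - 1 ∧ s ∣ qF - 1))) := by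
  have hfac : qF * (qF ^ 2 - 1) = qF * ((qF + 1) * (qF - 1)) := by
    rw [← Nat.sq_sub_sq, one_pow]
  have hdeg : ∀ d ∈ charDegrees S, d = 1 ∨ d = qF ∨ d ∣ qF + 1 ∨ d ∣ qF - 1 := fun d hd => by
    obtain ⟨χ, rfl⟩ := h2 hd
    exact sl_degree_cases χ
  constructor
  · ext r
    constructor
    · rintro ⟨hr, d, hd, hrd⟩
      refine ⟨hr, ?_⟩
      rw [hfac]
      rcases hdeg d hd with e | e | e | e
      · rw [e] at hrd; exact absurd (Nat.dvd_one.1 hrd) hr.ne_one
      · exact (hrd.trans e.dvd).trans (dvd_mul_right _ _)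
      · exact (hrd.trans e).trans (dvd_mul_of_dvd_right (dvd_mul_right _ _) _)
      · exact (hrd.trans e).trans (dvd_mul_of_dvd_right (dvd_mul_left _ _) _)
    · rintro ⟨hr, hrd⟩
      rw [hfac] at hrd
      refine ⟨hr, ?_⟩
      rcases hr.dvd_mul.1 hrd with h | h
      · exact ⟨_, h1 q_mem_psl, h⟩
      · rcases hr.dvd_mul.1 h with h | h
        · exact ⟨_, h1 (q_add_mem_psl hq h5), h⟩
        · exact ⟨_, h1 (q_sub_mem_psl hq), h⟩
  · intro r s
    constructor
    · rintro ⟨hne, hr, hs, d, hd, hrs⟩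
      refine ⟨hne, hr, hs, ?_⟩
      have hr' := (dvd_mul_right r s).trans hrs
      have hs' := (dvd_mul_left s r).trans hrs
      rcases hdeg d hd with e | e | e | e
      · rw [e] at hr'; exact absurd (Nat.dvd_one.1 hr') hr.ne_one
      · obtain ⟨p, hp⟩ := CharP.exists F
        obtain ⟨n, hpp, hn⟩ := FiniteField.card F p
        rw [e, hn] at hr' hs'
        exact absurd (((Nat.prime_dvd_prime_iff_eq hr hpp).1 (hr.dvd_of_dvd_pow hr')).trans
          ((Nat.prime_dvd_prime_iff_eq hs hpp).1 (hs.dvd_of_dvd_pow hs')).symm) hne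
      · exact Or.inl ⟨hr'.trans e, hs'.trans e⟩
      · exact Or.inr ⟨hr'.trans e, hs'.trans e⟩
    · rintro ⟨hne, hr, hs, h | h⟩
      · exact ⟨hne, hr, hs, _, h1 (q_add_mem_psl hq h5),
          ((Nat.coprime_primes hr hs).2 hne).mul_dvd_of_dvd_of_dvd h.1 h.2⟩
      · exact ⟨hne, hr, hs, _, h1 (q_sub_mem_psl hq),
          ((Nat.coprime_primes hr hs).2 hne).mul_dvd_of_dvd_of_dvd h.1 h.2⟩

theorem charDegrees_mulEquiv {A B : Type*} [Group A] [Group B] (e : A ≃* B) :
    charDegrees A = charDegrees B := by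
  ext d
  constructor
  · rintro ⟨χ, rfl⟩
    exact ⟨⟨_, isIrrCharacter_comp_surjective χ.2 e.symm.toMonoidHom e.symm.surjective⟩,
      by simp [charDegree]⟩
  · rintro ⟨χ, rfl⟩
    exact ⟨⟨_, isIrrCharacter_comp_surjective χ.2 e.toMonoidHom e.surjective⟩,
      by simp [charDegree]⟩

theorem degree_graph_of_equiv (hq : 4 ≤ qF) (h5 : qF ≠ 5) {S : Type*} [Group S]
    (hS : Nonempty (S ≃* P2) ∨ Nonempty (S ≃* S2)) :
    Cfsg.degreePrimes S = {r : ℕ | r.Prime ∧ r ∣ qF * (qF ^ 2 - 1)} ∧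
      ∀ r s : ℕ, (Cfsg.degreeGraph S).Adj r s ↔
        (r ≠ s ∧ r.Prime ∧ s.Prime ∧ ((r ∣ qF + 1 ∧ s ∣ qF + 1) ∨ (r ∣ qF - 1 ∧ s ∣ qF - 1))) := by
  rcases hS with ⟨⟨e⟩⟩ | ⟨⟨e⟩⟩
  · exact degree_graph hq h5 (charDegrees_mulEquiv e).ge ((charDegrees_mulEquiv e).le.trans psl_degrees_subset)
  · exact degree_graph hq h5 (psl_degrees_subset.trans (charDegrees_mulEquiv e).ge) (charDegrees_mulEquiv e).le

end CfsgLib.Char.TwoChars
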