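import Cfsg.Agent.Lib.Char.TwoEllTorus
import Cfsg.Agent.Lib.Char.IndMap

/-!
# Discrete series characters of `SL(2, q)`
-/

set_option autoImplicit false
set_option linter.unusedSectionVars false
set_option linter.style.haveILetI false

namespace CfsgLib.Char.TwoChars

open Matrix Cfsg CfsgLib.Char
open scoped ComplexConjugate

variable {F : Type*} [Field F] [Fintype F] [DecidableEq F]

local notation "M2" => Matrix (Fin 2) (Fin 2) F
local notation "S2" => Matrix.SpecialLinearGroup (Fin 2) F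
local notation "B1" =>
  (Subgroup.comap (Matrix.SpecialLinearGroup.toGL : S2 →* Matrix.GeneralLinearGroup (Fin 2) F) (Cfsg.upperTriangularGL 2 F))
local notation "qF" => Fintype.card F

theorem irr_center_mul {G : Type*} [Group G] (χ : IrrCharacter G) {z : G} (hz : z ∈ Subgroup.center G) (g : G) :
    (χ : G → ℂ) (z * g) * (χ : G → ℂ) 1 = (χ : G → ℂ) z * (χ : G → ℂ) g := by
  obtain ⟨χ, n, ρ, hρ, rfl⟩ := χ
  obtain ⟨c, hc⟩ := exists_scalar_of_mem_center ρ hz
  simp only [Representation.character, map_mul, map_one, hc]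
  rw [Module.End.mul_eq_comp, LinearMap.smul_comp, LinearMap.id_comp, Module.End.one_eq_id, map_smul, map_smul]
  simp only [smul_eq_mul]
  ring

/-- `St - 1`. -/
noncomputable def stMinus : S2 → ℂ := stSL - fun _ => 1

/-- The principal series twisted by `St - 1`. -/
noncomputable def dfun (α : MulChar F ℂ) : S2 → ℂ := stMinus * psSL α

/-- The discrete series character attached to `θ`, given a compatible `α`. -/
noncomputable def cuspTheta (C : Subgroup S2) (θ : C →* ℂˣ) (α : MulChar F ℂ) : S2 → ℂ :=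
  dfun α - indFun C (fun c => ((θ c : ℂˣ) : ℂ))

theorem psSL_scalar (α : MulChar F ℂ) {g : S2} (h : TwoClasses.IsScalar2 g.1) :
    psSL α g = ((qF : ℂ) + 1) * α (g.1 0 0) := by
  obtain ⟨h01, h10, h00⟩ := h
  rw [psSL_apply, psVal_scalar _ h10 h00 h01]

theorem mulChar_one_apply_ne {x : F} (h : x ≠ 0) : (1 : MulChar F ℂ) x = 1 := MulChar.one_apply h.isUnit

theorem dfun_scalar (α : MulChar F ℂ) {g : S2} (h : TwoClasses.IsScalar2 g.1) :
    dfun α g = ((qF : ℂ) - 1) * ((qF : ℂ) + 1) * α (g.1 0 0) := by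
  have h0 : g.1 0 0 ≠ 0 := fun h0 => by
    have := borelSL_prod h.2.1; rw [h0, zero_mul] at this; exact zero_ne_one this
  simp only [dfun, stMinus, Pi.mul_apply, Pi.sub_apply, stSL, psSL_scalar _ h, mulChar_one_apply_ne h0]
  ring

theorem dfun_ell (α : MulChar F ℂ) {g : S2} (h : TwoClasses.IsEll g.1) : dfun α g = 0 := by
  simp [dfun, psSL_ell α h]

theorem dfun_upper (α : MulChar F ℂ) {g : S2} (h10 : g.1 1 0 = 0) (h : g.1 0 0 ≠ g.1 1 1) : dfun α g = 0 := by
  have h0 : ∀ i : F, g.1 0 0 = i → i ≠ 0 := fun i e hi => by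
    have := borelSL_prod h10; rw [e, hi, zero_mul] at this; exact zero_ne_one this
  have h1 : g.1 1 1 ≠ 0 := fun hi => by
    have := borelSL_prod h10; rw [hi, mul_zero] at this; exact zero_ne_one this
  simp only [dfun, stMinus, Pi.mul_apply, Pi.sub_apply, stSL, psSL_apply, psVal_ne _ h10 h,
    mulChar_one_apply_ne (h0 _ rfl), mulChar_one_apply_ne h1]
  ring

theorem dfun_jordan (α : MulChar F ℂ) {g : S2} (h10 : g.1 1 0 = 0) (h : g.1 0 0 = g.1 1 1) (h01 : g.1 0 1 ≠ 0) :
    dfun α g = -α (g.1 0 0) := by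
  have h0 : g.1 0 0 ≠ 0 := fun hi => by
    have := borelSL_prod h10; rw [hi, zero_mul] at this; exact zero_ne_one this
  simp only [dfun, stMinus, Pi.mul_apply, Pi.sub_apply, stSL, psSL_apply, psVal_jordan _ h10 h h01,
    mulChar_one_apply_ne h0]
  ring

theorem dfun_eq_ind (α : MulChar F ℂ) :
    dfun α = indFun B1 (fun b => α (((b : S2) : M2) 0 0) * stMinus (b : S2)) := by
  rw [dfun, mul_comm, psSL, indFun_mul]
  intro g h
  have := isClassFunction_of_isCharacter (isCharacter_psSL (F := F) 1) g h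
  simp only [stMinus, stSL, Pi.sub_apply]
  rw [this]

theorem isGen_dfun (α : MulChar F ℂ) : IsGeneralizedCharacter S2 (dfun α) :=
  isGeneralizedCharacter_mul
    (isGeneralizedCharacter_sub (isGeneralizedCharacter_of_isCharacter (isCharacter_of_isIrr isIrr_stSL))
      (isGeneralizedCharacter_of_isCharacter (isCharacter_of_isIrr isIrrCharacter_one)))
    (isGeneralizedCharacter_of_isCharacter (isCharacter_psSL α))

theorem isGen_cuspTheta (C : Subgroup S2) (θ : C →* ℂˣ) (α : MulChar F ℂ) :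
    IsGeneralizedCharacter S2 (cuspTheta C θ α) :=
  isGeneralizedCharacter_sub (isGen_dfun α)
    (isGeneralizedCharacter_indFun C (isGeneralizedCharacter_of_isCharacter (isCharacter_of_isIrr (isIrrCharacter_lin θ))))

theorem classInner_dfun (hodd : Odd qF) (α : MulChar F ℂ) : classInner (dfun α) (dfun α : S2 → ℂ) = 2 * (qF : ℂ) := by
  classical
  have := Fintype.ofFinite B1
  have hcf := isClassFunction_of_isGeneralized (isGen_dfun α)
  conv_lhs => arg 1; rw [dfun_eq_ind]
  rw [classInner_indFun _ _ _ hcf, classInner, card_borelSL, sum_borelSL]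
  have hrow : ∀ a : Fˣ, (∑ x : F, α ((elS a x).1 0 0) * stMinus (elS a x) * conj (dfun α (elS a x))) =
      if (a : F) ^ 2 = 1 then ((qF : ℂ) - 1) ^ 2 * ((qF : ℂ) + 1) + ((qF : ℂ) - 1) else 0 := by
    intro a
    split_ifs with ha
    · have hai : ((a⁻¹ : Fˣ) : F) = a := by
        rw [Units.val_inv_eq_inv_val]; exact inv_eq_of_mul_eq_one_right (by rw [← pow_two]; exact ha)
      have hsq : α (a : F) * α (a : F) = 1 := by rw [← map_mul, ← pow_two, ha, map_one]
      have hconj : conj (α (a : F)) = α (a : F) := by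
        rw [conj_mulChar, MulChar.inv_apply', ← Units.val_inv_eq_inv_val, hai]
      have h10 : ∀ x : F, (elS a x).1 1 0 = 0 := fun x => rfl
      have heq : ∀ x : F, (elS a x).1 0 0 = (elS a x).1 1 1 := fun x => by simpa [elS_val] using hai.symm
      have h00 : ∀ x : F, (elS a x).1 0 0 = (a : F) := fun x => rfl
      rw [← Finset.add_sum_erase _ _ (Finset.mem_univ (0 : F))]
      have hs : TwoClasses.IsScalar2 (elS a (0 : F)).1 := ⟨rfl, rfl, heq 0⟩
      rw [dfun_scalar α hs, h00, show stMinus (elS a (0 : F)) = (qF : ℂ) - 1 by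
        simp [stMinus, stSL, psSL_scalar _ hs, h00, mulChar_one_apply_ne a.ne_zero]]
      rw [Finset.sum_congr rfl (g := fun _ : F => (1 : ℂ)) (fun x hx => ?_)]
      · rw [Finset.sum_const, Finset.card_erase_of_mem (Finset.mem_univ _), Finset.card_univ, nsmul_eq_mul, mul_one,
          cast_qF]
        simp only [map_mul, map_sub, map_add, map_natCast, map_one, hconj]
        linear_combination ((qF : ℂ) - 1) ^ 2 * ((qF : ℂ) + 1) * hsq
      · have hx0 : (elS a x).1 0 1 ≠ 0 := by simpa [elS_val] using (Finset.mem_erase.1 hx).1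
        rw [dfun_jordan α (h10 x) (heq x) hx0, h00, show stMinus (elS a x) = -1 by
          simp [stMinus, stSL, psSL_apply, psVal_jordan _ (h10 x) (heq x) hx0, h00, mulChar_one_apply_ne a.ne_zero], map_neg, hconj]
        linear_combination hsq
    · refine Finset.sum_eq_zero fun x _ => ?_
      rw [dfun_upper α rfl (by simpa [elS_val] using diag_sq_ne ha), map_zero, mul_zero]
  simp only [hrow]
  rw [← Finset.sum_filter, Finset.sum_const, nsmul_eq_mul]
  have hA : (Finset.univ.filter fun a : Fˣ => (a : F) ^ 2 = 1).card = 2 := by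
    refine Eq.trans ?_ (TwoClasses.card_sq_one hodd)
    rw [← Fintype.card_subtype, ← Nat.card_eq_fintype_card]
    exact Nat.card_congr
      { toFun := fun a => ⟨(a.1 : F), a.2⟩
        invFun := fun b => ⟨Units.mk0 b.1 (fun h0 => by have := b.2; rw [h0] at this; simp at this), b.2⟩
        left_inv := fun a => Subtype.ext (Units.ext rfl)
        right_inv := fun b => rfl }
  rw [hA]
  have hne := borelSL_card_ne (F := F)
  rw [Nat.cast_mul, cast_qF] at hne ⊢
  rw [inv_mul_eq_iff_eq_mul₀ hne]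
  push_cast
  ring

section Torus

open scoped Classical

theorem indFun_scalar (C : Subgroup S2) (θ : C →* ℂˣ) {z : C} (hz : TwoClasses.IsScalar2 (z : S2).1) :
    indFun C (fun c => ((θ c : ℂˣ) : ℂ)) (z : S2) =
      (Nat.card C : ℂ)⁻¹ * ((Nat.card S2 : ℂ) * ((θ z : ℂˣ) : ℂ)) := by
  simp only [indFun]
  congr 1
  rw [Finset.sum_congr rfl (g := fun _ => ((θ z : ℂˣ) : ℂ)) fun x _ => ?_, Finset.sum_const, Finset.card_univ,
    Nat.card_eq_fintype_card, nsmul_eq_mul]
  have h := Subgroup.mem_center_iff.1 ((sl_mem_center_iff _).2 hz) x⁻¹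
  rw [h, inv_mul_cancel_right, extendByZero_mem C _ z.2]

theorem indFun_scalar' {C : Subgroup S2} (hcard : Nat.card C = qF + 1) (θ : C →* ℂˣ) {z : C}
    (hz : TwoClasses.IsScalar2 (z : S2).1) :
    indFun C (fun c => ((θ c : ℂˣ) : ℂ)) (z : S2) = (qF : ℂ) * ((qF : ℂ) - 1) * ((θ z : ℂˣ) : ℂ) := by
  rw [indFun_scalar C θ hz, hcard, card_sl_two, Nat.cast_mul, Nat.cast_mul, cast_qF]
  have : (qF : ℂ) + 1 ≠ 0 := by exact_mod_cast (Nat.succ_ne_zero qF)
  push_cast
  field_simp

theorem indFun_zero_of_not_ell {C : Subgroup S2} (hcard : Nat.card C = qF + 1) (hodd : Odd qF) (θ : C →* ℂˣ)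
    {g : S2} (hns : ¬ TwoClasses.IsScalar2 g.1) (he : ¬ TwoClasses.IsEll g.1) :
    indFun C (fun c => ((θ c : ℂˣ) : ℂ)) g = 0 := by
  simp only [indFun]
  rw [Finset.sum_eq_zero, mul_zero]
  intro x _
  refine extendByZero_not_mem C _ fun hm => ?_
  have hc : IsConj g (x⁻¹ * g * x) := isConj_iff.2 ⟨x⁻¹, by rw [inv_inv]⟩
  have hns' : ¬ TwoClasses.IsScalar2 (x⁻¹ * g * x).1 := fun hs => hns (by
    have hm' := (sl_mem_center_iff _).2 hs
    rw [← sl_mem_center_iff]
    have h2 := Subgroup.mem_center_iff.1 hm' x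
    have : g = x⁻¹ * g * x := by
      calc g = x * (x⁻¹ * g * x) * x⁻¹ := by group
        _ = x⁻¹ * g * x := by rw [h2, mul_inv_cancel_right]
    rw [this]; exact hm')
  exact he (isEll_congr (torus_ell hcard hodd hm hns') (TwoClasses.sl_conj_spec hc).1)

theorem sq_ne_one_of_not_scalar (hodd : Odd qF) {g : S2} (h : ¬ TwoClasses.IsScalar2 g.1) : g⁻¹ ≠ g := fun e =>
  h (scalar_of_sq_one hodd (by nth_rewrite 1 [← e]; exact inv_mul_cancel g))

theorem indFun_torus {C : Subgroup S2} (hC : IsCyclic C) (hcard : Nat.card C = qF + 1) (hodd : Odd qF)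
    (θ : C →* ℂˣ) {c : C} (hns : ¬ TwoClasses.IsScalar2 (c : S2).1) :
    indFun C (fun c => ((θ c : ℂˣ) : ℂ)) (c : S2) = ((θ c : ℂˣ) : ℂ) + (((θ c)⁻¹ : ℂˣ) : ℂ) := by
  have hell := torus_ell hcard hodd c.2 hns
  have hne := sq_ne_one_of_not_scalar hodd hns
  obtain ⟨d, hd⟩ : ∃ d : S2, d⁻¹ * c * d = (c : S2)⁻¹ := by
    have ht : ((c : S2)⁻¹).1.trace = (c : S2).1.trace := by
      rw [inv_val, Matrix.trace_sub, Matrix.trace_smul, Matrix.trace_one, Fintype.card_fin, smul_eq_mul]
      push_cast; ring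
    obtain ⟨d, hd⟩ := isConj_iff.1 (TwoClasses.sl_isConj_of_trace (TwoClasses.isEll_not_scalar hell)
      (TwoClasses.isEll_not_scalar (isEll_congr hell ht)) ht.symm (Or.inl (TwoClasses.isEll_dsc_ne hodd hell)))
    exact ⟨d⁻¹, by rw [inv_inv]; exact hd⟩
  have hA : (Finset.univ.filter fun x : S2 => x⁻¹ * c * x = (c : S2)).card = qF + 1 := by
    rw [← card_centralizer_ell hodd hell, ← Fintype.card_subtype, ← Nat.card_eq_fintype_card]
    refine Nat.card_congr (Equiv.subtypeEquivRight fun x => ?_)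
    rw [Subgroup.mem_centralizer_singleton_iff, mul_assoc, inv_mul_eq_iff_eq_mul]
    exact eq_comm
  have hB : (Finset.univ.filter fun x : S2 => x⁻¹ * c * x = (c : S2)⁻¹).card = qF + 1 := by
    rw [← hA]
    refine Finset.card_bij' (fun x _ => x * d⁻¹) (fun x _ => x * d) ?_ ?_ ?_ ?_
    · intro x hx
      simp only [Finset.mem_filter, Finset.mem_univ, true_and] at hx ⊢
      calc (x * d⁻¹)⁻¹ * c * (x * d⁻¹) = d * (x⁻¹ * c * x) * d⁻¹ := by group
        _ = c := by rw [hx, ← hd]; group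
    · intro x hx
      simp only [Finset.mem_filter, Finset.mem_univ, true_and] at hx ⊢
      rw [← hd]
      nth_rewrite 2 [← hx]
      group
    · intros; simp
    · intros; simp
  have hval : ∀ x : S2, extendByZero C (fun c => ((θ c : ℂˣ) : ℂ)) (x⁻¹ * c * x) =
      (if x⁻¹ * c * x = (c : S2) then ((θ c : ℂˣ) : ℂ) else 0) +
        (if x⁻¹ * c * x = (c : S2)⁻¹ then (((θ c)⁻¹ : ℂˣ) : ℂ) else 0) := by
    intro x
    by_cases hm : x⁻¹ * c * x ∈ C
    · rw [extendByZero_mem C _ hm]
      rcases torus_fusion hC hcard hodd (d := ⟨_, hm⟩) hns (isConj_iff.2 ⟨x⁻¹, by simp⟩) with h | h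
      · have h' : (⟨_, hm⟩ : C) = c := Subtype.ext h
        rw [h', if_pos h, if_neg (fun e => hne (e.symm.trans h)), add_zero]
      · have h' : (⟨_, hm⟩ : C) = c⁻¹ := Subtype.ext h
        rw [h', if_neg (fun e => hne (h.symm.trans e)), if_pos h, zero_add, map_inv]
    · rw [extendByZero_not_mem C _ hm, if_neg (fun e => hm (by rw [e]; exact c.2)),
        if_neg (fun e => hm (by rw [e]; exact inv_mem c.2)), add_zero]
  simp only [indFun, hval, Finset.sum_add_distrib, ← Finset.sum_filter, Finset.sum_const, hA, hB, nsmul_eq_mul, hcard]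
  have : (qF : ℂ) + 1 ≠ 0 := by exact_mod_cast (Nat.succ_ne_zero qF)
  push_cast
  field_simp

/-- The value of `θ` at the central involution is matched by `α`. -/
def Compat {C : Subgroup S2} (θ : C →* ℂˣ) (α : MulChar F ℂ) : Prop :=
  ∀ c : C, TwoClasses.IsScalar2 (c : S2).1 → α ((c : S2).1 0 0) = ((θ c : ℂˣ) : ℂ)

theorem card_scalar_filter {C : Subgroup S2} (hcard : Nat.card C = qF + 1) (hodd : Odd qF) :
    (Finset.univ.filter fun c : C => TwoClasses.IsScalar2 (c : S2).1).card = 2 := by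
  rw [show (Finset.univ.filter fun c : C => TwoClasses.IsScalar2 (c : S2).1) =
      {1, ⟨negS, negS_mem hcard hodd⟩} from ?_]
  · exact Finset.card_pair fun h => negS_ne_one hodd (congrArg Subtype.val h).symm
  ext c
  simp only [Finset.mem_filter, Finset.mem_univ, true_and, Finset.mem_insert, Finset.mem_singleton]
  refine ⟨fun h => (scalar_cases h).imp (fun e => Subtype.ext e) (fun e => Subtype.ext e), ?_⟩
  rintro (rfl | rfl)
  · simp [TwoClasses.IsScalar2]
  · exact scalar_negS

theorem exists_compat {C : Subgroup S2} (hcard : Nat.card C = qF + 1) (hodd : Odd qF) (θ : C →* ℂˣ) :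
    ∃ α : MulChar F ℂ, Compat θ α := by
  let z : C := ⟨negS, negS_mem hcard hodd⟩
  have hz : ((θ z : ℂˣ) : ℂ) ^ 2 = 1 := by
    rw [← Units.val_pow_eq_pow_val, ← map_pow, show z ^ 2 = 1 from Subtype.ext (Subtype.ext (by
      simp [z, negS_val])), map_one, Units.val_one]
  obtain ⟨α, hα⟩ : ∃ α : MulChar F ℂ, α (-1) = ((θ z : ℂˣ) : ℂ) := by
    rcases sq_eq_one_iff.1 hz with h | h
    · exact ⟨1, by rw [h, mulChar_one_apply_ne (neg_ne_zero.2 one_ne_zero)]⟩
    · by_contra hcon
      push Not at hcon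
      have h1 : ∀ α : MulChar F ℂ, α (-1) = 1 := fun α => by
        refine (sq_eq_one_iff.1 ?_).resolve_right (fun e => hcon α (e.trans h.symm))
        rw [← map_pow, neg_one_sq, map_one]
      have hsum := sum_chars_apply (F := F) (-1 : Fˣ)
      rw [if_neg (fun e => TwoClasses.two_ne_zero_of_odd hodd (by
        have := congrArg Units.val e; simp at this; linear_combination -this))] at hsum
      simp [h1] at hsum
  refine ⟨α, fun c hc => ?_⟩
  rcases scalar_cases hc with h | h
  · have : c = 1 := Subtype.ext h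
    simp [this]
  · have : c = z := Subtype.ext h
    rw [this, show ((z : S2).1 0 0) = -1 by simp [z, negS_val], hα]

theorem theta_conj {C : Subgroup S2} (θ : C →* ℂˣ) (c : C) :
    conj ((θ c : ℂˣ) : ℂ) = (((θ c)⁻¹ : ℂˣ) : ℂ) := by
  rw [Units.val_inv_eq_inv_val]
  exact conj_eq_inv_of_pow_eq_one (orderOf_pos c).ne'
    (by rw [← Units.val_pow_eq_pow_val, ← map_pow, pow_orderOf_eq_one, map_one, Units.val_one])

theorem classInner_cuspTheta {C : Subgroup S2} (hC : IsCyclic C) (hcard : Nat.card C = qF + 1) (hodd : Odd qF)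
    (θ : C →* ℂˣ) (hθ : ∃ c : C, θ c ^ 2 ≠ 1) (α : MulChar F ℂ) (hα : Compat θ α) :
    classInner (cuspTheta C θ α) (cuspTheta C θ α) = 1 := by
  have hq : (qF : ℂ) + 1 ≠ 0 := by exact_mod_cast (Nat.succ_ne_zero qF)
  have hsc : ∀ c : C, TwoClasses.IsScalar2 (c : S2).1 → ((θ c : ℂˣ) : ℂ) * ((θ c : ℂˣ) : ℂ) = 1 := fun c hc => by
    rw [← Units.val_mul, ← map_mul, show c * c = 1 from ?_, map_one, Units.val_one]
    rcases scalar_cases hc with h | h <;> refine Subtype.ext ?_ <;> simp only [Subgroup.coe_mul, h]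
    · simp
    · exact Subtype.ext (by simp [negS_val])
  have hcj : ∀ c : C, TwoClasses.IsScalar2 (c : S2).1 → conj ((θ c : ℂˣ) : ℂ) = ((θ c : ℂˣ) : ℂ) := fun c hc => by
    rw [theta_conj, Units.val_inv_eq_inv_val]; exact inv_eq_of_mul_eq_one_right (hsc c hc)
  have hI : classInner (indFun C fun c => ((θ c : ℂˣ) : ℂ)) (indFun C fun c => ((θ c : ℂˣ) : ℂ)) =
      2 * (qF : ℂ) - 3 := by
    rw [classInner_indFun _ _ _ (isClassFunction_indFun _ _), classInner, hcard,
      Finset.sum_congr rfl (g := fun c : C => (1 + ((θ c : ℂˣ) : ℂ) * ((θ c : ℂˣ) : ℂ)) +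
        (if TwoClasses.IsScalar2 (c : S2).1 then (qF : ℂ) * ((qF : ℂ) - 1) - 2 else 0)) fun c _ => ?_]
    · have h0 : ∑ c : C, ((θ c : ℂˣ) : ℂ) * ((θ c : ℂˣ) : ℂ) = 0 := by
        refine (Finset.sum_congr rfl fun c _ => ?_).trans (sum_hom_units_eq_zero ((Units.coeHom ℂ).comp (θ * θ)) ?_)
        · rfl
        intro h
        obtain ⟨c, hc⟩ := hθ
        refine hc (Units.ext ?_)
        have := DFunLike.congr_fun h c
        simpa [pow_two] using this
      rw [Finset.sum_add_distrib, Finset.sum_add_distrib, h0, ← Finset.sum_filter, Finset.sum_const,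
        Finset.sum_const, card_scalar_filter hcard hodd, Finset.card_univ, ← Nat.card_eq_fintype_card (α := C), hcard]
      push_cast [nsmul_eq_mul]
      field_simp
      ring
    · split_ifs with hc
      · rw [indFun_scalar' hcard θ hc, map_mul, map_mul, map_sub, map_natCast, map_one, hcj c hc]
        linear_combination (((qF : ℂ) * ((qF : ℂ) - 1)) - 1) * hsc c hc
      · rw [indFun_torus hC hcard hodd θ hc, map_add, theta_conj, ← map_inv, theta_conj, map_inv, inv_inv, mul_add,
          ← Units.val_mul, mul_inv_cancel, Units.val_one, add_zero]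
  have hX : classInner (dfun α : S2 → ℂ) (indFun C fun c => ((θ c : ℂˣ) : ℂ)) = 2 * ((qF : ℂ) - 1) := by
    rw [classInner_indFun_right _ _ _ (isClassFunction_of_isGeneralized (isGen_dfun α)), classInner, hcard,
      Finset.sum_congr rfl (g := fun c : C =>
        if TwoClasses.IsScalar2 (c : S2).1 then ((qF : ℂ) - 1) * ((qF : ℂ) + 1) else 0) fun c _ => ?_]
    · rw [← Finset.sum_filter, Finset.sum_const, card_scalar_filter hcard hodd]
      push_cast [nsmul_eq_mul]
      field_simp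
    · split_ifs with hc
      · rw [dfun_scalar α hc, hα c hc, hcj c hc, mul_assoc, hsc c hc, mul_one]
      · rw [dfun_ell α (torus_ell hcard hodd c.2 hc), zero_mul]
  have hX' : classInner (indFun C fun c => ((θ c : ℂˣ) : ℂ)) (dfun α : S2 → ℂ) = 2 * ((qF : ℂ) - 1) := by
    rw [← classInner_conj, hX, map_mul, map_sub, map_natCast, map_one, Complex.conj_ofNat]
  rw [cuspTheta, classInner_sub_left, classInner_sub_right, classInner_sub_right, classInner_dfun hodd, hI, hX, hX']
  ring

theorem cuspTheta_one {C : Subgroup S2} (hcard : Nat.card C = qF + 1) (θ : C →* ℂˣ) (α : MulChar F ℂ) :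
    cuspTheta C θ α 1 = (qF : ℂ) - 1 := by
  have h := indFun_scalar' hcard θ (z := 1) (by simp [TwoClasses.IsScalar2])
  simp only [OneMemClass.coe_one, map_one, Units.val_one, mul_one] at h
  rw [cuspTheta, Pi.sub_apply, h, dfun_scalar α (by simp [TwoClasses.IsScalar2])]
  simp
  ring

theorem isIrr_cuspTheta {C : Subgroup S2} (hC : IsCyclic C) (hcard : Nat.card C = qF + 1) (hodd : Odd qF)
    (θ : C →* ℂˣ) (hθ : ∃ c : C, θ c ^ 2 ≠ 1) (α : MulChar F ℂ) (hα : Compat θ α) :
    IsIrrCharacter S2 (cuspTheta C θ α) := by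
  refine isIrr_of_norm_one (isGen_cuspTheta C θ α) (classInner_cuspTheta hC hcard hodd θ hθ α hα) ?_
  rw [cuspTheta_one hcard]
  simp only [Complex.sub_re, Complex.natCast_re, Complex.one_re, sub_pos]
  exact_mod_cast Fintype.one_lt_card

theorem cuspTheta_torus {C : Subgroup S2} (hC : IsCyclic C) (hcard : Nat.card C = qF + 1) (hodd : Odd qF)
    (θ : C →* ℂˣ) (α : MulChar F ℂ) {c : C} (hns : ¬ TwoClasses.IsScalar2 (c : S2).1) :
    cuspTheta C θ α (c : S2) = -(((θ c : ℂˣ) : ℂ) + (((θ c)⁻¹ : ℂˣ) : ℂ)) := by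
  rw [cuspTheta, Pi.sub_apply, dfun_ell α (torus_ell hcard hodd c.2 hns), indFun_torus hC hcard hodd θ hns, zero_sub]

theorem cuspTheta_scalar {C : Subgroup S2} (hcard : Nat.card C = qF + 1)
    (θ : C →* ℂˣ) (α : MulChar F ℂ) (hα : Compat θ α) {c : C} (hc : TwoClasses.IsScalar2 (c : S2).1) :
    cuspTheta C θ α (c : S2) = ((qF : ℂ) - 1) * ((θ c : ℂˣ) : ℂ) := by
  rw [cuspTheta, Pi.sub_apply, dfun_scalar α hc, indFun_scalar' hcard θ hc, hα c hc]
  ring

theorem cuspTheta_upper {C : Subgroup S2} (hcard : Nat.card C = qF + 1) (hodd : Odd qF)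
    (θ : C →* ℂˣ) (α : MulChar F ℂ) {g : S2} (h10 : g.1 1 0 = 0) (h : g.1 0 0 ≠ g.1 1 1) :
    cuspTheta C θ α g = 0 := by
  rw [cuspTheta, Pi.sub_apply, dfun_upper α h10 h,
    indFun_zero_of_not_ell hcard hodd θ (fun hs => h hs.2.2) (fun he => TwoClasses.isEll_lower he h10), sub_zero]

theorem cuspTheta_jordan {C : Subgroup S2} (hcard : Nat.card C = qF + 1) (hodd : Odd qF)
    (θ : C →* ℂˣ) (α : MulChar F ℂ) {g : S2} (h10 : g.1 1 0 = 0) (h : g.1 0 0 = g.1 1 1) (h01 : g.1 0 1 ≠ 0) :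
    cuspTheta C θ α g = -α (g.1 0 0) := by
  rw [cuspTheta, Pi.sub_apply, dfun_jordan α h10 h h01,
    indFun_zero_of_not_ell hcard hodd θ (fun hs => h01 hs.1) (fun he => TwoClasses.isEll_lower he h10), sub_zero]

end Torus

end CfsgLib.Char.TwoChars
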