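import Cfsg.Agent.Lib.Char.SLTwoCusp
import Cfsg.Agent.Lib.Char.Linear

/-!
# The two constituents of the quadratic principal series of `SL(2, q)`
-/

set_option autoImplicit false
set_option linter.unusedSectionVars false
set_option linter.style.haveILetI false

namespace CfsgLib.Char.TwoChars

open Matrix Cfsg CfsgLib.Char
open scoped ComplexConjugate

variable {F : Type*} [Field F] [Fintype F] [DecidableEq F]

local notation "S2" => Matrix.SpecialLinearGroup (Fin 2) F
local notation "qF" => Fintype.card F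

theorem sigS_isIrr (ν : Fˣ) (χ : IrrCharacter S2) :
    IsIrrCharacter S2 (fun g => (χ : S2 → ℂ) (sigS ν g)) :=
  isIrrCharacter_comp_surjective χ.2 (sigS ν).toMonoidHom (sigS ν).surjective

/-- The twisted irreducible character. -/
noncomputable def sigIrr (ν : Fˣ) (χ : IrrCharacter S2) : IrrCharacter S2 := ⟨_, sigS_isIrr ν χ⟩

theorem sigIrr_apply (ν : Fˣ) (χ : IrrCharacter S2) (g : S2) :
    (sigIrr ν χ : S2 → ℂ) g = (χ : S2 → ℂ) (sigS ν g) := rfl

theorem sigIrr_injective (ν : Fˣ) : Function.Injective (sigIrr (F := F) ν) := fun a b h => by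
  refine Subtype.ext (funext fun g => ?_)
  have := congrFun (congrArg Subtype.val h) ((sigS ν).symm g)
  simpa [sigIrr] using this

theorem classInner_psSL_sigIrr (ν : Fˣ) (α : MulChar F ℂ) (χ : IrrCharacter S2) :
    classInner (psSL α) (sigIrr ν χ : S2 → ℂ) = classInner (psSL α) (χ : S2 → ℂ) := by
  rw [← classInner_comp_sigS ν (psSL α) (χ : S2 → ℂ)]
  simp only [psSL_sigS]
  rfl

theorem linear_trivial_borel {η : IrrCharacter S2} (h1 : (η : S2 → ℂ) 1 = 1)
    (hu : ∀ x : F, (η : S2 → ℂ) (elS 1 x) = 1) (a : Fˣ) (x : F) : (η : S2 → ℂ) (elS a x) = 1 := by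
  obtain ⟨l, hl⟩ := (linearCharEquiv (G := S2)).surjective ⟨η, h1⟩
  have hl' : ∀ g, (η : S2 → ℂ) g = (l g : ℂ) := fun g =>
    (congrFun (congrArg (fun z => ((z.1 : IrrCharacter S2) : S2 → ℂ)) hl) g).symm
  have hu' : ∀ x : F, l (elS 1 x) = 1 := fun x => Units.ext ((hl' _).symm.trans (hu x))
  let W : S2 := ⟨!![0, -1; 1, 0], by simp [Matrix.det_fin_two]⟩
  let L : F → S2 := fun y => ⟨!![1, 0; y, 1], by simp [Matrix.det_fin_two]⟩
  have hL : ∀ y, l (L y) = 1 := fun y => by
    have e : L y * W = W * elS 1 (-y) := Subtype.ext (by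
      rw [Matrix.SpecialLinearGroup.coe_mul, Matrix.SpecialLinearGroup.coe_mul, elS_val]
      ext i j
      fin_cases i <;> fin_cases j <;> simp [L, W, Matrix.mul_apply, Fin.sum_univ_two])
    have := congrArg l e
    rwa [map_mul, map_mul, hu', mul_one, mul_eq_right] at this
  have ea : elS a 0 = elS 1 (a : F) * L (-((a⁻¹ : Fˣ) : F)) * elS 1 (a : F) * elS 1 (-1) * L 1 * elS 1 (-1) :=
    Subtype.ext (by
      have hLv : ∀ y, (L y).1 = !![1, 0; y, 1] := fun y => rfl
      simp only [Matrix.SpecialLinearGroup.coe_mul, elS_val, hLv]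
      ext i j
      fin_cases i <;> fin_cases j <;> simp [Matrix.mul_apply, Fin.sum_univ_two])
  have eax : elS a x = elS a 0 * elS 1 (((a⁻¹ : Fˣ) : F) * x) := Subtype.ext (by
    simp only [Matrix.SpecialLinearGroup.coe_mul, elS_val]
    ext i j
    fin_cases i <;> fin_cases j <;> simp [Matrix.mul_apply, Fin.sum_univ_two])
  rw [hl', eax, map_mul, ea]
  simp only [map_mul, hu', hL, mul_one, Units.val_one]

theorem quad_constituent_sum {α : MulChar F ℂ} (h2 : α ^ 2 = 1) {a b : IrrCharacter S2} (hab : a ≠ b)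
    (he : (psSL α : S2 → ℂ) = (a : S2 → ℂ) + (b : S2 → ℂ)) {η : IrrCharacter S2} (hη : η = a ∨ η = b) (c : Fˣ) :
    ∑ x : F, (η : S2 → ℂ) (elS c x) = (qF : ℂ) * α c := by
  classical
  have hinv : α⁻¹ = α := inv_eq_of_mul_eq_one_right (by rw [← pow_two]; exact h2)
  have hone : classInner (psSL α) (η : S2 → ℂ) = 1 := by
    rw [he, classInner_add_left, classInner_irr, classInner_irr]
    rcases hη with rfl | rfl <;> simp [hab, hab.symm]
  have hzero : ∀ β : MulChar F ℂ, β ≠ α → classInner (psSL β) (η : S2 → ℂ) = 0 := by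
    intro β hβ
    have h := classInner_psSL_psSL β α
    rw [if_neg hβ, if_neg (by rw [hinv]; exact hβ), add_zero, he, classInner_add_right] at h
    obtain ⟨k, hk⟩ := classInner_char_irr_nat (isCharacter_psSL β) a
    obtain ⟨l, hl⟩ := classInner_char_irr_nat (isCharacter_psSL β) b
    rw [hk, hl] at h
    have : k + l = 0 := by exact_mod_cast h
    rcases hη with rfl | rfl
    · rw [hk, show k = 0 by omega, Nat.cast_zero]
    · rw [hl, show l = 0 by omega, Nat.cast_zero]
  have key : ∀ β : MulChar F ℂ, ∑ d : Fˣ, β d * ∑ x : F, conj ((η : S2 → ℂ) (elS d x)) =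
      (((qF - 1) * qF : ℕ) : ℂ) * if β = α then 1 else 0 := by
    intro β
    have h := classInner_psSL β (isClassFunction_irr η)
    have hne := borelSL_card_ne (F := F)
    split_ifs with hb
    · subst hb
      rw [hone] at h
      field_simp at h
      rw [mul_one]
      exact h.symm
    · rw [hzero β hb] at h
      rw [mul_zero]
      exact (mul_eq_zero.1 h.symm).resolve_left (inv_ne_zero hne)
  have hf := fourier_zero (fun d => (∑ x : F, conj ((η : S2 → ℂ) (elS d x))) - (qF : ℂ) * conj (α d)) (fun β => by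
    simp only [mul_sub, Finset.sum_sub_distrib, key]
    have : ∑ d : Fˣ, β d * ((qF : ℂ) * conj (α d)) = (qF : ℂ) * ∑ d : Fˣ, β d * conj (α d) := by
      rw [Finset.mul_sum]; exact Finset.sum_congr rfl fun d _ => by ring
    rw [this, sum_mulChar_conj]
    push_cast
    split_ifs <;> ring) c
  rw [sub_eq_zero, ← map_sum] at hf
  have := congrArg conj hf
  rwa [Complex.conj_conj, map_mul, Complex.conj_conj, map_natCast] at this

/-- The two halves of the quadratic principal series. -/
theorem psQuad_split {α : MulChar F ℂ} (h2 : α ^ 2 = 1) (h1 : α ≠ 1) {ν : Fˣ} (hν : RepUnip ν) :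
    ∃ η₁ η₂ : IrrCharacter S2, η₁ ≠ η₂ ∧ (psSL α : S2 → ℂ) = (η₁ : S2 → ℂ) + (η₂ : S2 → ℂ) ∧
      sigIrr ν η₁ = η₂ ∧ sigIrr ν η₂ = η₁ ∧
      2 * (η₁ : S2 → ℂ) 1 = (qF : ℂ) + 1 ∧ 2 * (η₂ : S2 → ℂ) 1 = (qF : ℂ) + 1 := by
  classical
  have hinv : α⁻¹ = α := inv_eq_of_mul_eq_one_right (by rw [← pow_two]; exact h2)
  obtain ⟨a, b, hab, he⟩ := isCharacter_norm_two (isCharacter_psSL α) (by
    rw [classInner_psSL_psSL, if_pos rfl, if_pos hinv.symm]; norm_num)
  have hmem : ∀ η : IrrCharacter S2, η = a ∨ η = b → sigIrr ν η = a ∨ sigIrr ν η = b := by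
    intro η hη
    have h : classInner (psSL α) (sigIrr ν η : S2 → ℂ) ≠ 0 := by
      rw [classInner_psSL_sigIrr, he, classInner_add_left, classInner_irr, classInner_irr]
      rcases hη with rfl | rfl <;> simp [hab, hab.symm]
    rw [he, classInner_add_left, classInner_irr, classInner_irr] at h
    by_contra hc
    push Not at hc
    rw [if_neg (Ne.symm hc.1), if_neg (Ne.symm hc.2), add_zero] at h
    exact h rfl
  have hdeg : (a : S2 → ℂ) 1 + (b : S2 → ℂ) 1 = (qF : ℂ) + 1 := by
    rw [← psSL_one α]; exact (congrFun he 1).symm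
  -- both constituents cannot be invariant
  have hswap : sigIrr ν a ≠ a := by
    intro hfa
    have hfb : sigIrr ν b = b := by
      rcases hmem b (Or.inr rfl) with h | h
      · exact absurd (sigIrr_injective ν (h.trans hfa.symm)).symm hab
      · exact h
    have inv : ∀ η : IrrCharacter S2, (η = a ∨ η = b) → sigIrr ν η = η →
        ∃ D : ℕ, (η : S2 → ℂ) 1 = D ∧ ∃ z : ℤ, (D : ℤ) + ((qF - 1 : ℕ) : ℤ) * z = qF ∧
          ∀ x : F, x ≠ 0 → (η : S2 → ℂ) (elS 1 x) = z := by
      intro η hη hf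
      obtain ⟨D, hD⟩ := isCharacter_degree (isCharacter_irr η)
      have hsum := quad_constituent_sum h2 hab he hη 1
      rw [Units.val_one, map_one, mul_one] at hsum
      have hu : (η : S2 → ℂ) (elS (1 : Fˣ) (ν : F)) = (η : S2 → ℂ) (elS (1 : Fˣ) (1 : F)) := by
        conv_rhs => rw [← hf, sigIrr_apply, sigS_elS, mul_one]
      have h := unip_sum (isClassFunction_irr η) hν
      rw [hsum, hu, hD] at h
      have hq : 0 < qF - 1 := Nat.sub_pos_of_lt Fintype.one_lt_card
      obtain ⟨z, hz⟩ := exists_int_of_rat (isCharacter_isIntegral (isCharacter_irr η) (elS (1 : Fˣ) (1 : F)))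
        (a := (qF : ℤ) - D) hq.ne' (by push_cast; linear_combination -(h / 2))
      refine ⟨D, hD, z, ?_, fun x hx => ?_⟩
      · have : (((D : ℤ) + ((qF - 1 : ℕ) : ℤ) * z : ℤ) : ℂ) = ((qF : ℤ) : ℂ) := by
          push_cast
          rw [hz] at h
          linear_combination -(h / 2)
        exact_mod_cast this
      · rcases hν x hx with ⟨e, -⟩ | ⟨e, -⟩
        · rw [classFun_isConj (isClassFunction_irr η) e, hz]
        · rw [classFun_isConj (isClassFunction_irr η) e, hu, hz]
    obtain ⟨D, hD, z, hz, hzu⟩ := inv a (Or.inl rfl) hfa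
    obtain ⟨D', hD', z', hz', hzu'⟩ := inv b (Or.inr rfl) hfb
    have hsum : D + D' = qF + 1 := by
      have : ((D + D' : ℕ) : ℂ) = ((qF + 1 : ℕ) : ℂ) := by push_cast; rw [← hD, ← hD', hdeg]
      exact_mod_cast this
    have hD0 : D ≠ 0 := fun e => irr_one_ne_zero a (by rw [hD, e, Nat.cast_zero])
    have hD0' : D' ≠ 0 := fun e => irr_one_ne_zero b (by rw [hD', e, Nat.cast_zero])
    have hq2 : 2 ≤ qF := Fintype.one_lt_card
    have fin : ∀ (η : IrrCharacter S2), (η = a ∨ η = b) → (η : S2 → ℂ) 1 = 1 →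
        (∀ x : F, x ≠ 0 → (η : S2 → ℂ) (elS 1 x) = 1) → False := by
      intro η hη h11 hu
      refine h1 (MulChar.ext fun c => ?_)
      have hall : ∀ x : F, (η : S2 → ℂ) (elS 1 x) = 1 := fun x => by
        by_cases hx : x = 0
        · rw [hx, elS_one_zero, h11]
        · exact hu x hx
      have hs := quad_constituent_sum h2 hab he hη c
      rw [Finset.sum_congr rfl fun x _ => linear_trivial_borel h11 hall c x, Finset.sum_const, Finset.card_univ,
        nsmul_eq_mul, mul_one] at hs
      have hne : (qF : ℂ) ≠ 0 := by exact_mod_cast Fintype.card_ne_zero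
      rw [MulChar.one_apply_coe]
      exact mul_left_cancel₀ hne (hs.symm.trans (mul_one _).symm)
    -- the degrees are congruent to `1` modulo `q - 1`
    have hcast : ((qF - 1 : ℕ) : ℤ) = (qF : ℤ) - 1 := by omega
    rw [hcast] at hz hz'
    have hzle : z ≤ 1 := by
      by_contra hc
      have : ((qF : ℤ) - 1) * 2 ≤ ((qF : ℤ) - 1) * z := mul_le_mul_of_nonneg_left (by omega) (by omega)
      omega
    have hzle' : z' ≤ 1 := by
      by_contra hc
      have : ((qF : ℤ) - 1) * 2 ≤ ((qF : ℤ) - 1) * z' := mul_le_mul_of_nonneg_left (by omega) (by omega)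
      omega
    have hzz : z + z' = 1 := by
      have : ((qF : ℤ) - 1) * (z + z' - 1) = 0 := by
        have : (D : ℤ) + D' = qF + 1 := by exact_mod_cast hsum
        linear_combination hz + hz' - this
      rcases mul_eq_zero.1 this with h | h <;> omega
    rcases (show z = 1 ∨ z' = 1 by omega) with h | h
    · subst h
      refine fin a (Or.inl rfl) ?_ fun x hx => by rw [hzu x hx]; norm_num
      rw [hD, show D = 1 by omega, Nat.cast_one]
    · subst h
      refine fin b (Or.inr rfl) ?_ fun x hx => by rw [hzu' x hx]; norm_num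
      rw [hD', show D' = 1 by omega, Nat.cast_one]
  have hab' : sigIrr ν a = b := (hmem a (Or.inl rfl)).resolve_left hswap
  have hba : sigIrr ν b = a := by
    rcases hmem b (Or.inr rfl) with h | h
    · exact h
    · exact absurd (sigIrr_injective ν (h.trans hab'.symm)).symm hab
  have hsame : (a : S2 → ℂ) 1 = (b : S2 → ℂ) 1 := by
    rw [← hab', sigIrr_apply, map_one]
  exact ⟨a, b, hab, he, hab', hba, by linear_combination hdeg + hsame, by linear_combination hdeg - hsame⟩

end CfsgLib.Char.TwoChars
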