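import Cfsg.Agent.Lib.Char.SLTwoDegreeGraph

/-!
# Counting the characters of `SL(2, q)` of degree prime to a given prime
-/

set_option autoImplicit false
set_option linter.unusedSectionVars false
set_option linter.style.haveILetI false

namespace CfsgLib.Char.TwoChars

open Matrix Cfsg CfsgLib.Char

variable {F : Type*} [Field F] [Fintype F] [DecidableEq F]

local notation "S2" => Matrix.SpecialLinearGroup (Fin 2) F
local notation "qF" => Fintype.card F

/-- A principal series character. -/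
def IsPS (χ : IrrCharacter S2) : Prop := ∃ α, α ^ 2 ≠ 1 ∧ (χ : S2 → ℂ) = psSL α

/-- A cuspidal character of full degree. -/
def IsCuspFull (χ : IrrCharacter S2) : Prop := IsCuspSL (χ : S2 → ℂ) ∧ (χ : S2 → ℂ) 1 = (qF : ℂ) - 1

theorem deg_cases (χ : IrrCharacter S2) :
    ((χ : S2 → ℂ) = (fun _ => 1) ∧ charDegree (χ : S2 → ℂ) = 1) ∨
      ((χ : S2 → ℂ) = stSL ∧ charDegree (χ : S2 → ℂ) = qF) ∨
      (IsPS χ ∧ charDegree (χ : S2 → ℂ) = qF + 1) ∨
      (IsHalfPS χ ∧ 2 * charDegree (χ : S2 → ℂ) = qF + 1) ∨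
      (IsCuspFull χ ∧ charDegree (χ : S2 → ℂ) + 1 = qF) ∨
      (IsCuspHalf χ ∧ 2 * charDegree (χ : S2 → ℂ) + 1 = qF) := by
  obtain ⟨d, -, hd⟩ := isIrrCharacter_degree χ.2
  rw [charDegree_eq_of_cast (χ : S2 → ℂ) hd]
  rcases sl_deg_cases χ with ⟨h, e⟩ | ⟨h, e⟩ | ⟨α, h2, h, e⟩ | ⟨h, e⟩ | ⟨h, e'⟩ | ⟨h, e⟩
  · rw [hd] at e
    exact Or.inl ⟨h, by exact_mod_cast e⟩
  · rw [hd] at e
    exact Or.inr (Or.inl ⟨h, by exact_mod_cast e⟩)
  · rw [hd] at e
    exact Or.inr (Or.inr (Or.inl ⟨⟨α, h2, h⟩, by exact_mod_cast e⟩))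
  · rw [hd] at e
    exact Or.inr (Or.inr (Or.inr (Or.inl ⟨h, by exact_mod_cast e⟩)))
  · have e := e'
    rw [hd] at e
    refine Or.inr (Or.inr (Or.inr (Or.inr (Or.inl ⟨⟨h, e'⟩, ?_⟩))))
    have : (d : ℂ) + 1 = (qF : ℂ) := by rw [e]; ring
    exact_mod_cast this
  · rw [hd] at e
    refine Or.inr (Or.inr (Or.inr (Or.inr (Or.inr ⟨h, ?_⟩))))
    have : 2 * (d : ℂ) + 1 = (qF : ℂ) := by rw [e]; ring
    exact_mod_cast this

theorem degree_st {χ : IrrCharacter S2} (h : (χ : S2 → ℂ) = stSL) : charDegree (χ : S2 → ℂ) = qF :=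
  charDegree_eq_of_cast _ (by rw [h, stSL_one])

theorem degree_ps {χ : IrrCharacter S2} (h : IsPS χ) : charDegree (χ : S2 → ℂ) = qF + 1 := by
  obtain ⟨α, -, h⟩ := h
  exact charDegree_eq_of_cast _ (by rw [h, psSL_one]; push_cast; ring)

theorem degree_halfPS {χ : IrrCharacter S2} (h : IsHalfPS χ) : 2 * charDegree (χ : S2 → ℂ) = qF + 1 := by
  obtain ⟨d, -, hd⟩ := isIrrCharacter_degree χ.2
  have e := halfPS_deg h
  rw [hd] at e
  rw [charDegree_eq_of_cast _ hd]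
  exact_mod_cast e

theorem degree_full {χ : IrrCharacter S2} (h : IsCuspFull χ) : charDegree (χ : S2 → ℂ) + 1 = qF := by
  obtain ⟨d, -, hd⟩ := isIrrCharacter_degree χ.2
  have e := h.2
  rw [hd] at e
  rw [charDegree_eq_of_cast _ hd]
  have : (d : ℂ) + 1 = (qF : ℂ) := by rw [e]; ring
  exact_mod_cast this

theorem degree_cuspHalf {χ : IrrCharacter S2} (h : IsCuspHalf χ) :
    2 * charDegree (χ : S2 → ℂ) + 1 = qF := by
  obtain ⟨d, -, hd⟩ := isIrrCharacter_degree χ.2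
  have e := h.2
  rw [hd] at e
  rw [charDegree_eq_of_cast _ hd]
  have : 2 * (d : ℂ) + 1 = (qF : ℂ) := by rw [e]; ring
  exact_mod_cast this

theorem card_or {α : Type*} [Finite α] {A B : α → Prop} (h : ∀ x, A x → ¬ B x) :
    Nat.card {x // A x ∨ B x} = Nat.card {x // A x} + Nat.card {x // B x} := by
  classical
  rw [Nat.card_congr (subtypeOrEquiv A B (Pi.disjoint_iff.2 fun x => Prop.disjoint_iff.2
    fun h' => h x h'.1 h'.2)), Nat.card_sum]

theorem card_good_add_bad {ℓ : ℕ} {bad : IrrCharacter S2 → Prop}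
    (hbad : ∀ χ : IrrCharacter S2, ℓ ∣ charDegree (χ : S2 → ℂ) ↔ bad χ) (hodd : Odd qF) :
    Nat.card {χ : IrrCharacter S2 // ¬ ℓ ∣ charDegree (χ : S2 → ℂ)} + Nat.card {χ // bad χ} = qF + 4 := by
  classical
  rw [← Nat.card_congr (Equiv.subtypeEquivRight hbad), ← Nat.card_sum]
  refine ((Nat.card_congr ((Equiv.sumComm _ _).trans
    (Equiv.sumCompl fun χ : IrrCharacter S2 => ℓ ∣ charDegree (χ : S2 → ℂ)))).trans ?_)
  rw [card_irr_eq_card_conjClasses, TwoClasses.card_conjClasses_sl_odd hodd]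

theorem not_dvd_of_succ {ℓ m n : ℕ} (hℓ : ℓ ≠ 1) (h : ℓ ∣ m) (e : n = m + 1 ∨ m = n + 1) : ¬ ℓ ∣ n := by
  intro hn
  apply hℓ
  rcases e with rfl | rfl
  · exact Nat.dvd_one.1 ((Nat.dvd_add_right h).1 hn)
  · exact Nat.dvd_one.1 ((Nat.dvd_add_right hn).1 h)

theorem not_dvd_of_two {ℓ m n : ℕ} (hℓ : ℓ.Prime) (h2 : ℓ ≠ 2) (h : ℓ ∣ m) (e : n = m + 2 ∨ m = n + 2) :
    ¬ ℓ ∣ n := by
  intro hn
  apply h2
  rcases e with rfl | rfl
  · exact (Nat.prime_dvd_prime_iff_eq hℓ Nat.prime_two).1 ((Nat.dvd_add_right h).1 hn)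
  · exact (Nat.prime_dvd_prime_iff_eq hℓ Nat.prime_two).1 ((Nat.dvd_add_right hn).1 h)

theorem count_char (hodd : Odd qF) {ℓ : ℕ} (hℓ : ℓ.Prime) (hd : ℓ ∣ qF) :
    Nat.card {χ : IrrCharacter S2 // ¬ ℓ ∣ charDegree (χ : S2 → ℂ)} = qF + 3 := by
  classical
  have hq : 2 ≤ qF := Fintype.one_lt_card
  have hiff : ∀ χ : IrrCharacter S2, ℓ ∣ charDegree (χ : S2 → ℂ) ↔ (χ : S2 → ℂ) = stSL := by
    intro χ
    refine ⟨fun hdvd => ?_, fun h => by rw [degree_st h]; exact hd⟩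
    have h2 : ∀ e, ℓ ∣ e → qF ≠ e + 1 ∧ e ≠ qF + 1 := fun e he =>
      ⟨fun h => not_dvd_of_succ hℓ.ne_one he (Or.inl h) hd, fun h => not_dvd_of_succ hℓ.ne_one hd (Or.inl h) he⟩
    rcases deg_cases χ with ⟨-, e⟩ | ⟨h, -⟩ | ⟨-, e⟩ | ⟨-, e⟩ | ⟨-, e⟩ | ⟨-, e⟩
    · rw [e, Nat.dvd_one] at hdvd
      exact absurd hdvd hℓ.ne_one
    · exact h
    · exact absurd e (h2 _ hdvd).2
    · exact absurd e (h2 _ (hdvd.mul_left 2)).2
    · exact absurd e.symm (h2 _ hdvd).1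
    · exact absurd e.symm (h2 _ (hdvd.mul_left 2)).1
  have h := card_good_add_bad hiff hodd
  have h1 : Nat.card {χ : IrrCharacter S2 // (χ : S2 → ℂ) = stSL} = 1 :=
    Nat.card_eq_one_iff_unique.2 ⟨⟨fun a b => Subtype.ext (Subtype.ext (a.2.trans b.2.symm))⟩,
      ⟨⟨⟨_, isIrr_stSL⟩, rfl⟩⟩⟩
  omega

theorem count_split (hodd : Odd qF) {ℓ : ℕ} (hℓ : ℓ.Prime) (h2 : ℓ ≠ 2) (hd : ℓ ∣ qF - 1) :
    Nat.card {χ : IrrCharacter S2 // ¬ ℓ ∣ charDegree (χ : S2 → ℂ)} = (qF + 5) / 2 := by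
  classical
  have hq : 2 ≤ qF := Fintype.one_lt_card
  have hq1 : ¬ ℓ ∣ qF := not_dvd_of_succ hℓ.ne_one hd (Or.inl (by omega))
  have hq2 : ¬ ℓ ∣ qF + 1 := not_dvd_of_two hℓ h2 hd (Or.inl (by omega))
  have hiff : ∀ χ : IrrCharacter S2, ℓ ∣ charDegree (χ : S2 → ℂ) ↔ (IsCuspFull χ ∨ IsCuspHalf χ) := by
    intro χ
    constructor
    · intro hdvd
      rcases deg_cases χ with ⟨-, e⟩ | ⟨-, e⟩ | ⟨-, e⟩ | ⟨-, e⟩ | ⟨h, -⟩ | ⟨h, -⟩
      · exact absurd (Nat.dvd_one.1 (e ▸ hdvd)) hℓ.ne_one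
      · exact absurd (e ▸ hdvd) hq1
      · exact absurd (e ▸ hdvd) hq2
      · exact absurd (e ▸ hdvd.mul_left 2) hq2
      · exact Or.inl h
      · exact Or.inr h
    · rintro (h | h)
      · have := degree_full h
        rwa [show charDegree (χ : S2 → ℂ) = qF - 1 by omega]
      · have := degree_cuspHalf h
        refine ((hℓ.dvd_mul).1 (show ℓ ∣ 2 * charDegree (χ : S2 → ℂ) from ?_)).resolve_left
          fun h' => h2 ((Nat.prime_dvd_prime_iff_eq hℓ Nat.prime_two).1 h')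
        rwa [show 2 * charDegree (χ : S2 → ℂ) = qF - 1 by omega]
  have h := card_good_add_bad hiff hodd
  obtain ⟨-, -, c2, c1⟩ := sl_counts (F := F)
  rw [if_pos hodd] at c1 c2
  change 2 * Nat.card {χ : IrrCharacter S2 // IsCuspFull χ} + 1 = qF at c1
  rw [card_or (fun χ hf hh => by have := degree_full hf; have := degree_cuspHalf hh; omega), c2] at h
  omega

theorem count_nonsplit (hodd : Odd qF) {ℓ : ℕ} (hℓ : ℓ.Prime) (h2 : ℓ ≠ 2) (hd : ℓ ∣ qF + 1) :
    Nat.card {χ : IrrCharacter S2 // ¬ ℓ ∣ charDegree (χ : S2 → ℂ)} = (qF + 7) / 2 := by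
  classical
  have hq : 2 ≤ qF := Fintype.one_lt_card
  have hq1 : ¬ ℓ ∣ qF := not_dvd_of_succ hℓ.ne_one hd (Or.inr rfl)
  have hq2 : ¬ ℓ ∣ qF - 1 := not_dvd_of_two hℓ h2 hd (Or.inr (by omega))
  have hiff : ∀ χ : IrrCharacter S2, ℓ ∣ charDegree (χ : S2 → ℂ) ↔ (IsPS χ ∨ IsHalfPS χ) := by
    intro χ
    constructor
    · intro hdvd
      rcases deg_cases χ with ⟨-, e⟩ | ⟨-, e⟩ | ⟨h, -⟩ | ⟨h, -⟩ | ⟨-, e⟩ | ⟨-, e⟩
      · exact absurd (Nat.dvd_one.1 (e ▸ hdvd)) hℓ.ne_one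
      · exact absurd (e ▸ hdvd) hq1
      · exact Or.inl h
      · exact Or.inr h
      · exact absurd ((show charDegree (χ : S2 → ℂ) = qF - 1 by omega) ▸ hdvd) hq2
      · exact absurd ((show 2 * charDegree (χ : S2 → ℂ) = qF - 1 by omega) ▸ hdvd.mul_left 2) hq2
    · rintro (h | h)
      · rw [degree_ps h]; exact hd
      · refine ((hℓ.dvd_mul).1 (show ℓ ∣ 2 * charDegree (χ : S2 → ℂ) from ?_)).resolve_left
          fun h' => h2 ((Nat.prime_dvd_prime_iff_eq hℓ Nat.prime_two).1 h')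
        rwa [degree_halfPS h]
  have h := card_good_add_bad hiff hodd
  obtain ⟨c0, cH, -, -⟩ := sl_counts (F := F)
  rw [if_pos hodd] at c0 cH
  change 2 * Nat.card {χ : IrrCharacter S2 // IsPS χ} + 3 = qF at c0
  rw [card_or (fun χ hf hh => by have := degree_ps hf; have := degree_halfPS hh; omega), cH] at h
  omega

theorem count_two (hodd : Odd qF) :
    Nat.card {χ : IrrCharacter S2 // ¬ 2 ∣ charDegree (χ : S2 → ℂ)} = 4 := by
  classical
  have hq : 2 ≤ qF := Fintype.one_lt_card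
  have hqo := Nat.odd_iff.1 hodd
  obtain ⟨c0, cH, c2, c1⟩ := sl_counts (F := F)
  rw [if_pos hodd] at c0 cH c1 c2
  change 2 * Nat.card {χ : IrrCharacter S2 // IsPS χ} + 3 = qF at c0
  change 2 * Nat.card {χ : IrrCharacter S2 // IsCuspFull χ} + 1 = qF at c1
  by_cases h4 : qF % 4 = 1
  · have hiff : ∀ χ : IrrCharacter S2,
        2 ∣ charDegree (χ : S2 → ℂ) ↔ (IsPS χ ∨ (IsCuspFull χ ∨ IsCuspHalf χ)) := by
      intro χ
      constructor
      · intro hdvd
        rcases deg_cases χ with ⟨-, e⟩ | ⟨-, e⟩ | ⟨h, -⟩ | ⟨-, e⟩ | ⟨h, -⟩ | ⟨h, -⟩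
        · omega
        · omega
        · exact Or.inl h
        · omega
        · exact Or.inr (Or.inl h)
        · exact Or.inr (Or.inr h)
      · rintro (h | h | h)
        · have := degree_ps h; omega
        · have := degree_full h; omega
        · have := degree_cuspHalf h; omega
    have h := card_good_add_bad hiff hodd
    rw [card_or (fun χ hf hh => by
        have := degree_ps hf
        rcases hh with hh | hh
        · have := degree_full hh; omega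
        · have := degree_cuspHalf hh; omega),
      card_or (fun χ hf hh => by have := degree_full hf; have := degree_cuspHalf hh; omega), c2] at h
    omega
  · have hiff : ∀ χ : IrrCharacter S2,
        2 ∣ charDegree (χ : S2 → ℂ) ↔ (IsPS χ ∨ (IsCuspFull χ ∨ IsHalfPS χ)) := by
      intro χ
      constructor
      · intro hdvd
        rcases deg_cases χ with ⟨-, e⟩ | ⟨-, e⟩ | ⟨h, -⟩ | ⟨h, -⟩ | ⟨h, -⟩ | ⟨-, e⟩
        · omega
        · omega
        · exact Or.inl h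
        · exact Or.inr (Or.inr h)
        · exact Or.inr (Or.inl h)
        · omega
      · rintro (h | h | h)
        · have := degree_ps h; omega
        · have := degree_full h; omega
        · have := degree_halfPS h; omega
    have h := card_good_add_bad hiff hodd
    have hdis : ∀ χ : IrrCharacter S2, IsCuspFull χ → ¬ IsHalfPS χ := fun χ hf hh => by
      obtain ⟨α, -, -, hne⟩ := hh
      exact hne (hf.1 α)
    rw [card_or (fun χ hf hh => by
        have := degree_ps hf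
        rcases hh with hh | hh
        · have := degree_full hh; omega
        · have := degree_halfPS hh; omega),
      card_or hdis, cH] at h
    omega

end CfsgLib.Char.TwoChars
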