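import Cfsg.Agent.Lib.Char.SLTwoMcKayCount
import Cfsg.Agent.Lib.Char.TwoSmall
import Cfsg.Agent.Lib.Char.SteinbergDescend
import Cfsg.Agent.Lib.Classical.SL2TwoNormalizer

/-!
# Characters of the Sylow normalisers of `SL(2, q)`
-/

set_option autoImplicit false
set_option linter.unusedSectionVars false
set_option linter.style.haveILetI false

namespace CfsgLib.Char.SLTwoLocal

open Matrix Cfsg CfsgLib.Char CfsgLib.Char.TwoChars CfsgLib.Classical
open scoped commutatorElement

/-- The number of irreducible characters of degree prime to `ℓ`. -/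
noncomputable def good (ℓ : ℕ) (G : Type*) [Group G] : ℕ :=
  Nat.card {χ : IrrCharacter G // ¬ ℓ ∣ charDegree (χ : G → ℂ)}

theorem good_congr {G H : Type*} [Group G] [Group H] [Finite G] [Finite H] (ℓ : ℕ) (e : G ≃* H) :
    good ℓ G = good ℓ H := by
  refine Nat.card_congr
    { toFun := fun χ => ⟨⟨fun h => (χ.1 : G → ℂ) (e.symm h),
        isIrrCharacter_comp_surjective χ.1.2 e.symm.toMonoidHom e.symm.surjective⟩, ?_⟩
      invFun := fun χ => ⟨⟨fun g => (χ.1 : H → ℂ) (e g),
        isIrrCharacter_comp_surjective χ.1.2 e.toMonoidHom e.surjective⟩, ?_⟩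
      left_inv := fun χ => Subtype.ext (Subtype.ext (funext fun g => by simp))
      right_inv := fun χ => Subtype.ext (Subtype.ext (funext fun g => by simp)) }
  · have h := χ.2
    simpa [charDegree] using h
  · have h := χ.2
    simpa [charDegree] using h

theorem good_eq_classes {ℓ : ℕ} {N : Type*} [Group N] [Finite N] (hℓ : ℓ.Prime) (A : Subgroup N) [A.Normal]
    (hA : ∀ a ∈ A, ∀ b ∈ A, a * b = b * a) (hidx : ¬ ℓ ∣ A.index) :
    good ℓ N = Nat.card (ConjClasses N) := by
  classical
  have := Fintype.ofFinite N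
  rw [← card_irr_eq_card_conjClasses]
  refine Nat.card_congr (Equiv.subtypeUnivEquiv fun χ hd => hidx (hd.trans ?_))
  obtain ⟨d, -, hd'⟩ := isIrrCharacter_degree χ.2
  rw [charDegree_eq_of_cast _ hd']
  exact degree_dvd_index_abelian N A hA _ χ.2 d hd'

theorem good_pgroup {p : ℕ} [Fact p.Prime] {N : Type*} [Group N] [Finite N] (hN : IsPGroup p N) :
    good p N = (commutator N).index := by
  classical
  rw [← card_linear]
  refine Nat.card_congr (Equiv.subtypeEquivRight fun χ => ?_)
  obtain ⟨d, hd0, hd⟩ := isIrrCharacter_degree χ.2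
  rw [charDegree_eq_of_cast _ hd, hd]
  obtain ⟨n, hn⟩ := IsPGroup.iff_card.1 hN
  obtain ⟨i, -, hi⟩ := (Nat.dvd_prime_pow Fact.out).1 (hn ▸ degree_dvd_card χ hd)
  constructor
  · intro h
    rcases i with _ | i
    · rw [hi, pow_zero, Nat.cast_one]
    · exact absurd (hi ▸ dvd_pow_self p i.succ_ne_zero) h
  · intro h hdvd
    have : d = 1 := by exact_mod_cast h
    exact (Fact.out : p.Prime).ne_one (Nat.dvd_one.1 (this ▸ hdvd))

theorem det_central {N : Type*} [Group N] {n : ℕ} (ρ : Representation ℂ N (Fin n → ℂ)) {z : N}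
    (hz : z ∈ commutator N) {c : ℂ} (hc : ρ z = c • LinearMap.id) : c ^ n = 1 := by
  let f : N →* ℂˣ := (LinearMap.det.comp ρ).toHomUnits
  have h1 : f z = 1 := MonoidHom.mem_ker.1 (Abelianization.commutator_subset_ker f hz)
  have h2 : LinearMap.det (ρ z) = 1 := congrArg Units.val h1
  rw [hc, LinearMap.det_smul, LinearMap.det_id, mul_one, Module.finrank_fin_fun] at h2
  exact h2

/-- An odd degree character is trivial on a central involution of the derived subgroup. -/
theorem trivial_on {N : Type*} [Group N] [Finite N] {z : N} (hzc : z ∈ Subgroup.center N)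
    (hz : z ∈ commutator N) (hz2 : z ^ 2 = 1) (χ : IrrCharacter N)
    (hodd : ¬ 2 ∣ charDegree (χ : N → ℂ)) : (χ : N → ℂ) z = (χ : N → ℂ) 1 := by
  obtain ⟨χ, n, ρ, hρ, rfl⟩ := χ
  obtain ⟨c, hc⟩ := schur_scalar ρ (ρ z) fun x => by
    rw [← map_mul, ← map_mul, Subgroup.mem_center_iff.1 hzc x]
  have hdeg : charDegree ρ.character = n := by
    refine charDegree_eq_of_cast _ ?_
    rw [Representation.char_one, Module.finrank_fin_fun]
  change ¬ 2 ∣ charDegree ρ.character at hodd
  rw [hdeg] at hodd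
  have h2 : c ^ 2 = 1 := by
    have e : ρ (z ^ 2) = (c ^ 2) • LinearMap.id := by
      rw [pow_two, map_mul, hc, pow_two]
      ext v
      simp [smul_smul]
    have e' := congrArg LinearMap.det e
    rw [hz2, map_one, map_one, LinearMap.det_smul, LinearMap.det_id, mul_one, Module.finrank_fin_fun] at e'
    have h1 : c ^ n = 1 := det_central ρ hz hc
    obtain ⟨j, hj⟩ : ∃ j, n = 2 * j + 1 := ⟨n / 2, by omega⟩
    have hn0 : ρ (z ^ 2) = LinearMap.id := by rw [hz2, map_one]; rfl
    rw [e] at hn0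
    have h3 := congrArg (LinearMap.trace ℂ (Fin n → ℂ)) hn0
    rw [map_smul, LinearMap.trace_id, Module.finrank_fin_fun, smul_eq_mul] at h3
    exact mul_right_cancel₀ (b := (n : ℂ)) (by exact_mod_cast (show n ≠ 0 by omega)) (h3.trans (one_mul _).symm)
  have hc1 : c = 1 := by
    have h1 : c ^ n = 1 := det_central ρ hz hc
    obtain ⟨j, hj⟩ : ∃ j, n = 2 * j + 1 := ⟨n / 2, by omega⟩
    rw [hj, pow_succ, pow_mul, h2, one_pow, one_mul] at h1
    exact h1
  show ρ.character z = ρ.character 1
  rw [Representation.char_one]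
  simp [Representation.character, hc, hc1]

theorem good_twelve {M : Type*} [Group M] [Finite M] (hM : Nat.card M = 12) (hnc : ∃ a b : M, a * b ≠ b * a)
    (V : Subgroup M) [V.Normal] (hV : Nat.card V = 4) : Nat.card (ConjClasses M) = 4 := by
  classical
  have := Fintype.ofFinite M
  have := Fintype.ofFinite (IrrCharacter M)
  haveI : Fact (Nat.Prime 2) := ⟨Nat.prime_two⟩
  have hidx : V.index = 3 := by have := Subgroup.card_mul_index V; rw [hV, hM] at this; omega
  have hVc : ∀ a ∈ V, ∀ b ∈ V, a * b = b * a := fun a ha b hb =>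
    congrArg Subtype.val (IsPGroup.commutative_of_card_eq_prime_sq (G := V) (p := 2) hV ⟨a, ha⟩ ⟨b, hb⟩)
  choose d hd0 hd using fun χ : IrrCharacter M => isIrrCharacter_degree χ.2
  have hd13 : ∀ χ, d χ = 1 ∨ d χ = 3 := fun χ =>
    (Nat.dvd_prime Nat.prime_three).1 (hidx ▸ degree_dvd_index_abelian M V hVc _ χ.2 _ (hd χ))
  have hsum : ∑ χ, d χ ^ 2 = 12 := by
    have h := sum_degree_sq (G := M)
    simp only [hd, hM] at h
    exact_mod_cast h
  rw [← card_irr_eq_card_conjClasses, Nat.card_eq_fintype_card]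
  have h1 : (Finset.univ.filter fun χ => d χ = 1).card = (commutator M).index := by
    rw [← card_linear, Nat.card_eq_fintype_card, Fintype.card_subtype]
    congr 1
    ext χ
    simp [hd χ]
  have hs : (Finset.univ.filter fun χ => d χ = 1).card + 9 * (Finset.univ.filter fun χ => ¬ d χ = 1).card = 12 := by
    rw [← Finset.sum_filter_add_sum_filter_not Finset.univ (fun χ => d χ = 1)] at hsum
    rw [Finset.sum_congr rfl (g := fun _ => 1) fun χ hχ => by rw [(Finset.mem_filter.1 hχ).2, one_pow],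
      Finset.sum_congr (s₁ := Finset.univ.filter fun χ => ¬ d χ = 1) rfl (g := fun _ => 9) fun χ hχ => by
        rw [(hd13 χ).resolve_left (Finset.mem_filter.1 hχ).2]; rfl] at hsum
    simp only [Finset.sum_const, smul_eq_mul, mul_one] at hsum
    omega
  have hne : (Finset.univ.filter fun χ => ¬ d χ = 1).card ≠ 0 := by
    intro h0
    obtain ⟨a, b, hab⟩ := hnc
    refine hab (comm_of_degree_one (fun χ => ?_) a b)
    have : d χ = 1 := by
      by_contra h'
      exact Finset.notMem_empty χ (Finset.card_eq_zero.1 h0 ▸ Finset.mem_filter.2 ⟨Finset.mem_univ χ, h'⟩)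
    rw [hd χ, this, Nat.cast_one]
  have := Finset.card_filter_add_card_filter_not (s := (Finset.univ : Finset (IrrCharacter M))) (fun χ => d χ = 1)
  rw [Finset.card_univ] at this
  omega

variable {F : Type*} [Field F] [Fintype F] [DecidableEq F]

local notation "G2" => Matrix.GeneralLinearGroup (Fin 2) F
local notation "S2" => Matrix.SpecialLinearGroup (Fin 2) F
local notation "B1" =>
  (Subgroup.comap (Matrix.SpecialLinearGroup.toGL : S2 →* G2) (Cfsg.upperTriangularGL 2 F))
local notation "qF" => Fintype.card F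

/-- Normalisers of Sylow subgroups are conjugate. -/
theorem normalizer_equiv {G : Type*} [Group G] [Finite G] {p : ℕ} [Fact p.Prime] (P Q : Sylow p G) :
    Nonempty (↥(Subgroup.normalizer ((P : Subgroup G) : Set G)) ≃* ↥(Subgroup.normalizer ((Q : Subgroup G) : Set G))) := by
  obtain ⟨g, hg⟩ := MulAction.exists_smul_eq G P Q
  have hQ : (Q : Subgroup G) = (P : Subgroup G).map (MulAut.conj g).toMonoidHom := by rw [← hg]; rfl
  rw [hQ, ← Subgroup.map_equiv_normalizer_eq]
  exact ⟨Subgroup.equivMapOfInjective _ _ (MulEquiv.injective _)⟩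

theorem good_defining (hodd : Odd qF) (p : ℕ) [Fact p.Prime] [CharP F p] (P : Sylow p S2) :
    good p (Subgroup.normalizer ((P : Subgroup S2) : Set S2)) = qF + 3 := by
  classical
  obtain ⟨k, hp, hk⟩ := FiniteField.card F p
  let u : Multiplicative F →* S2 :=
    MonoidHom.mk' (fun x => elS 1 x.toAdd) fun x y => Subtype.ext (by
      rw [Matrix.SpecialLinearGroup.coe_mul, elS_val, elS_val, elS_val]
      ext i j
      fin_cases i <;> fin_cases j <;> simp [Matrix.mul_apply, Fin.sum_univ_two, add_comm])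
  have hu : ∀ x : Multiplicative F, (u x).1 = !![1, x.toAdd; 0, 1] := fun x => by
    show (elS 1 x.toAdd).1 = _
    simp [elS_val]
  have hinj : Function.Injective u := fun x y h => by
    have := congrArg (fun g : S2 => g.1 0 1) h
    simpa [hu] using this
  have hrange : ∀ g : S2, g ∈ u.range ↔ g.1 0 0 = 1 ∧ g.1 1 0 = 0 ∧ g.1 1 1 = 1 := by
    intro g
    refine ⟨by rintro ⟨x, rfl⟩; simp [hu], fun ⟨h1, h2, h3⟩ => ⟨Multiplicative.ofAdd (g.1 0 1), Subtype.ext ?_⟩⟩
    rw [hu]
    ext i j
    fin_cases i <;> fin_cases j <;> simp [h1, h2, h3]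
  have hcard : Nat.card u.range = p ^ (Nat.card S2).factorization p := by
    rw [← Nat.card_congr (MonoidHom.ofInjective hinj).toEquiv, Nat.card_congr Multiplicative.toAdd,
      Nat.card_eq_fintype_card, card_sl2, hk, Nat.factorization_mul (pow_ne_zero _ hp.ne_zero) (by
        have : 2 ≤ p ^ (k : ℕ) := le_trans hp.two_le (Nat.le_self_pow k.ne_zero p)
        exact mul_ne_zero (by omega) (by omega)), Finsupp.add_apply, hp.factorization_pow,
      Finsupp.single_eq_same, Nat.factorization_eq_zero_of_not_dvd, add_zero]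
    intro h
    have h3 : 1 ≤ p ^ (k : ℕ) := Nat.one_le_pow _ _ hp.pos
    have hd : p ∣ p ^ (k : ℕ) := dvd_pow_self p k.ne_zero
    rcases (Nat.Prime.dvd_mul hp).1 h with h1 | h1
    · exact not_dvd_of_succ hp.ne_one h1 (Or.inl (show p ^ (k : ℕ) = p ^ (k : ℕ) - 1 + 1 by omega)) hd
    · exact hp.ne_one (Nat.dvd_one.1 ((Nat.dvd_add_right hd).1 h1))
  let Q : Sylow p S2 := Sylow.ofCard u.range hcard
  have hconj : ∀ g : S2, g.1 1 0 = 0 → ∀ v ∈ u.range, g * v * g⁻¹ ∈ u.range := by
    intro g hg v hv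
    obtain ⟨h1, h2, h3⟩ := (hrange v).1 hv
    have hp' := borelSL_prod hg
    rw [hrange, Matrix.SpecialLinearGroup.coe_mul, Matrix.SpecialLinearGroup.coe_mul,
      Matrix.SpecialLinearGroup.coe_inv, Matrix.adjugate_fin_two]
    refine ⟨?_, ?_, ?_⟩ <;> simp [Matrix.mul_apply, Fin.sum_univ_two, hg, h1, h2, h3]
    · exact hp'
    · rw [mul_comm]; exact hp'
  have hN : Subgroup.normalizer ((Q : Subgroup S2) : Set S2) = B1 := by
    ext g
    rw [mem_borelSL]
    show g ∈ Subgroup.normalizer (u.range : Set S2) ↔ _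
    constructor
    · intro hg
      obtain ⟨h1, h2, h3⟩ := (hrange _).1 ((Subgroup.mem_normalizer_iff.1 hg (u (Multiplicative.ofAdd 1))).1 ⟨_, rfl⟩)
      have e := congrArg (fun M : S2 => M.1)
        (inv_mul_cancel_right (g * u (Multiplicative.ofAdd 1)) g).symm
      simp only [Matrix.SpecialLinearGroup.coe_mul] at e
      have e11 := congrFun (congrFun e 1) 1
      simp [Matrix.mul_apply, Fin.sum_univ_two, hu] at e11
      simp [Matrix.mul_apply, Fin.sum_univ_two, hu] at h1 h2 h3
      grind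
    · intro hg
      refine Subgroup.mem_normalizer_iff.2 fun v => ⟨hconj g hg v, fun hv => ?_⟩
      have hg' : g⁻¹.1 1 0 = 0 := by
        rw [Matrix.SpecialLinearGroup.coe_inv, Matrix.adjugate_fin_two]; simp [hg]
      have := hconj g⁻¹ hg' _ hv
      simpa [mul_assoc] using this
  obtain ⟨e⟩ := normalizer_equiv P Q
  rw [hN] at e
  haveI : ((u.range).subgroupOf B1).Normal := ⟨fun v hv g => hconj g.1 ((mem_borelSL _).1 g.2) v.1 hv⟩
  rw [good_congr p e, good_eq_classes hp ((u.range).subgroupOf B1) (hA := ?_) (hidx := ?_),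
    card_conjClasses_borelSL hodd]
  · intro a ha b hb
    obtain ⟨x, hx⟩ := ha
    obtain ⟨y, hy⟩ := hb
    apply Subtype.ext
    show (a : S2) * (b : S2) = (b : S2) * a
    rw [show (a : S2) = u x from hx.symm, show (b : S2) = u y from hy.symm, ← map_mul, ← map_mul, mul_comm]
  · have hle : u.range ≤ B1 := fun g hg => (mem_borelSL _).2 ((hrange g).1 hg).2.1
    have h := Subgroup.card_mul_index (u.range.subgroupOf B1)
    rw [Nat.card_congr (Subgroup.subgroupOfEquivOfLe hle).toEquiv, card_borelSL,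
      show Nat.card u.range = qF by
        rw [← Nat.card_congr (MonoidHom.ofInjective hinj).toEquiv, Nat.card_congr Multiplicative.toAdd,
          Nat.card_eq_fintype_card], mul_comm (qF - 1)] at h
    rw [Nat.eq_of_mul_eq_mul_left Fintype.card_pos h]
    intro hd
    have h3 : 1 ≤ qF := Fintype.card_pos
    exact not_dvd_of_succ hp.ne_one hd (Or.inl (show qF = qF - 1 + 1 by omega)) (hk ▸ dvd_pow_self p k.ne_zero)

theorem good_torus {ℓ : ℕ} [Fact ℓ.Prime] (hℓ : ℓ ≠ 2) (P : Sylow ℓ S2) (T : Subgroup S2) [IsCyclic T]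
    {m : ℕ} (hm : Nat.card T = m) (hpart : ℓ ^ (Nat.card S2).factorization ℓ ∣ m)
    (hN : Nat.card (Subgroup.normalizer (T : Set S2)) = 2 * m)
    (hP : Nat.card (Subgroup.normalizer ((P : Subgroup S2) : Set S2)) = 2 * m) :
    good ℓ (Subgroup.normalizer ((P : Subgroup S2) : Set S2)) =
      Nat.card (ConjClasses (Subgroup.normalizer (T : Set S2))) := by
  classical
  obtain ⟨t, ht⟩ := IsCyclic.exists_ofOrder_eq_natCard (α := T)
  rw [hm] at ht
  obtain ⟨c, hc⟩ := hpart
  set L := ℓ ^ (Nat.card S2).factorization ℓ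
  have hm0 : m ≠ 0 := hm ▸ Nat.card_pos.ne'
  have hc0 : c ≠ 0 := fun h => hm0 (by rw [hc, h, mul_zero])
  let x : S2 := ((t ^ c : T) : S2)
  have hx : orderOf x = L := by
    rw [Subgroup.orderOf_coe, orderOf_pow_of_dvd hc0 (ht ▸ hc ▸ dvd_mul_left _ _), ht, hc,
      Nat.mul_div_cancel _ (Nat.pos_of_ne_zero hc0)]
  have hXc : Nat.card (Subgroup.zpowers x) = L := by rw [Nat.card_zpowers, hx]
  let Q : Sylow ℓ S2 := Sylow.ofCard (Subgroup.zpowers x) hXc
  obtain ⟨e⟩ := normalizer_equiv P Q
  have hcomm : ∀ a ∈ T, ∀ b ∈ T, a * b = b * a := fun a ha b hb =>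
    congrArg Subtype.val (mul_comm' (⟨a, ha⟩ : T) ⟨b, hb⟩)
  have hxT : x ∈ T := (t ^ c : T).2
  have hle : Subgroup.normalizer (T : Set S2) ≤ Subgroup.normalizer ((Q : Subgroup S2) : Set S2) := by
    intro g hg
    have hy : g * x * g⁻¹ ∈ T := (Subgroup.mem_normalizer_iff.1 hg x).1 hxT
    have hnorm : Subgroup.zpowers (g * x * g⁻¹) ≤ Subgroup.normalizer (Subgroup.zpowers x : Set S2) := by
      rw [Subgroup.zpowers_le]
      refine Subgroup.mem_normalizer_iff.2 fun z => ?_
      have hxz : ∀ z ∈ Subgroup.zpowers x, g * x * g⁻¹ * z * (g * x * g⁻¹)⁻¹ = z := fun z hz => by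
        rw [hcomm _ hy z (Subgroup.zpowers_le.2 hxT hz), mul_inv_cancel_right]
      refine ⟨fun hz => by rwa [hxz z hz], fun hz => ?_⟩
      have h' := hxz _ hz
      rw [mul_left_inj, mul_right_inj] at h'
      rwa [h'] at hz
    have hy' : IsPGroup ℓ (Subgroup.zpowers (g * x * g⁻¹)) := IsPGroup.of_card (n := (Nat.card S2).factorization ℓ)
      (by rw [Nat.card_zpowers, show orderOf (g * x * g⁻¹) = orderOf x from (MulAut.conj g).orderOf_eq x, hx])
    have hsup := (hy'.to_sup_of_normal_right' Q.isPGroup' hnorm)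
    have hQ := Q.is_maximal' hsup le_sup_right
    have hmem : g * x * g⁻¹ ∈ Subgroup.zpowers x := by
      show g * x * g⁻¹ ∈ (Q : Subgroup S2)
      rw [← hQ]
      exact Subgroup.mem_sup_left (Subgroup.mem_zpowers _)
    have hmap : (Subgroup.zpowers x).map (MulAut.conj g).toMonoidHom = Subgroup.zpowers x := by
      rw [MonoidHom.map_zpowers]
      refine Subgroup.eq_of_le_of_card_ge (Subgroup.zpowers_le.2 hmem) (le_of_eq ?_)
      rw [Nat.card_zpowers, Nat.card_zpowers]
      exact ((MulAut.conj g).orderOf_eq x).symm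
    refine Subgroup.mem_normalizer_iff.2 fun y => ?_
    show y ∈ Subgroup.zpowers x ↔ g * y * g⁻¹ ∈ Subgroup.zpowers x
    conv_rhs => rw [← hmap]
    exact (Subgroup.mem_map_iff_mem (MulEquiv.injective _) (x := y)).symm
  have heq : Subgroup.normalizer ((Q : Subgroup S2) : Set S2) = Subgroup.normalizer (T : Set S2) :=
    (Subgroup.eq_of_le_of_card_ge hle (by rw [hN, ← hP]; exact (Nat.card_congr e.symm.toEquiv).le)).symm
  rw [heq] at e
  have hTN : T ≤ Subgroup.normalizer (T : Set S2) := Subgroup.le_normalizer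
  haveI : (T.subgroupOf (Subgroup.normalizer (T : Set S2))).Normal := Subgroup.normal_in_normalizer
  rw [good_congr ℓ e, good_eq_classes Fact.out (T.subgroupOf (Subgroup.normalizer (T : Set S2)))
    (fun a ha b hb => Subtype.ext (hcomm _ ha _ hb))]
  intro hd
  have h := Subgroup.card_mul_index (T.subgroupOf (Subgroup.normalizer (T : Set S2)))
  rw [Nat.card_congr (Subgroup.subgroupOfEquivOfLe hTN).toEquiv, hm, hN, mul_comm 2] at h
  rw [Nat.eq_of_mul_eq_mul_left (Nat.pos_of_ne_zero hm0) h] at hd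
  exact hℓ ((Nat.prime_dvd_prime_iff_eq Fact.out Nat.prime_two).1 hd)

theorem a_two_mem_commutator (n : ℕ) :
    QuaternionGroup.a (2 : ZMod (2 * n)) ∈ commutator (QuaternionGroup n) := by
  have h : ⁅QuaternionGroup.a (1 : ZMod (2 * n)), QuaternionGroup.xa 0⁆ ∈ commutator (QuaternionGroup n) :=
    Subgroup.commutator_mem_commutator (Subgroup.mem_top _) (Subgroup.mem_top _)
  rw [commutatorElement_def] at h
  have e : QuaternionGroup.a (1 : ZMod (2 * n)) * QuaternionGroup.xa 0 * (QuaternionGroup.a 1)⁻¹ *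
      (QuaternionGroup.xa 0)⁻¹ = QuaternionGroup.a 2 := by
    rw [show (QuaternionGroup.a (1 : ZMod (2 * n)))⁻¹ = QuaternionGroup.a (-1) from rfl,
      show (QuaternionGroup.xa (0 : ZMod (2 * n)))⁻¹ = QuaternionGroup.xa (n + 0) from rfl,
      QuaternionGroup.a_mul_xa, QuaternionGroup.xa_mul_a, QuaternionGroup.xa_mul_xa]
    congr 1
    ring_nf
    rw [show ((n : ZMod (2 * n)) * 2) = 0 by
      rw [show ((n : ZMod (2 * n)) * 2) = ((2 * n : ℕ) : ZMod (2 * n)) by push_cast; ring]
      exact ZMod.natCast_self _]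
    ring
  rwa [e] at h

theorem quaternion_index {n : ℕ} [NeZero n] (hn : Even n) : (commutator (QuaternionGroup n)).index = 4 := by
  let r : ZMod (2 * n) →+* ZMod 2 := ZMod.castHom (dvd_mul_right 2 n) (ZMod 2)
  have hn0 : (n : ZMod 2) = 0 := (ZMod.natCast_eq_zero_iff _ _).2 hn.two_dvd
  let f : QuaternionGroup n →* Multiplicative (ZMod 2 × ZMod 2) := MonoidHom.mk'
    (fun x => match x with
      | QuaternionGroup.a i => Multiplicative.ofAdd (r i, 0)
      | QuaternionGroup.xa i => Multiplicative.ofAdd (r i, 1)) (by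
    rintro (i | i) (j | j) <;>
      simp [← ofAdd_add, QuaternionGroup.a_mul_a, QuaternionGroup.a_mul_xa, QuaternionGroup.xa_mul_a,
        QuaternionGroup.xa_mul_xa, map_add, map_sub, map_natCast, hn0, CharTwo.sub_eq_add, add_comm,
        show (1 : ZMod 2) + 1 = 0 from rfl])
  have hf : Function.Surjective f := by
    intro y
    obtain ⟨⟨a, b⟩, rfl⟩ := Multiplicative.ofAdd.surjective y
    obtain ⟨i, rfl⟩ := ZMod.castHom_surjective (dvd_mul_right 2 n) a
    rcases (show ∀ b : ZMod 2, b = 0 ∨ b = 1 by decide) b with rfl | rfl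
    · exact ⟨QuaternionGroup.a i, rfl⟩
    · exact ⟨QuaternionGroup.xa i, rfl⟩
  have hker : f.ker = commutator (QuaternionGroup n) := by
    refine le_antisymm ?_ (Abelianization.commutator_subset_ker f)
    intro x hx
    rw [MonoidHom.mem_ker] at hx
    rcases x with i | i
    · have hi : r i = 0 := by
        have := congrArg (fun z => (Multiplicative.toAdd z).1) hx
        simpa [f] using this
      have hv : 2 ∣ i.val := by
        rw [← ZMod.natCast_eq_zero_iff, ← hi, ZMod.castHom_apply, ← ZMod.natCast_val]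
      obtain ⟨j, hj⟩ := hv
      have e : (QuaternionGroup.a (2 : ZMod (2 * n))) ^ j = QuaternionGroup.a i := by
        rw [← ZMod.natCast_zmod_val i, hj]
        clear hx hi hj
        induction j with
        | zero => simp
        | succ j ih => rw [pow_succ, ih, QuaternionGroup.a_mul_a]; push_cast; congr 1; ring
      rw [← e]
      exact Subgroup.pow_mem _ (a_two_mem_commutator n) j
    · exfalso
      have := congrArg (fun z => (Multiplicative.toAdd z).2) hx
      simp [f] at this
  rw [← hker, Subgroup.index_ker, MonoidHom.range_eq_top.2 hf, Subgroup.card_top]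
  simp

theorem negS_mem_commutator (hodd : Odd qF) (S : Sylow 2 S2) :
    ∃ h : (negS : S2) ∈ (S : Subgroup S2), (⟨negS, h⟩ : (S : Subgroup S2)) ∈ commutator (S : Subgroup S2) := by
  classical
  obtain ⟨k, hk, ⟨e⟩⟩ := sylow_two_quaternion hodd S
  have : NeZero (2 ^ k) := ⟨pow_ne_zero _ two_ne_zero⟩
  obtain ⟨i, hi⟩ : ∃ i, k = i + 1 := ⟨k - 1, by omega⟩
  set z := e.symm ((QuaternionGroup.a (2 : ZMod (2 * 2 ^ k))) ^ 2 ^ i) with hz
  have hzc : z ∈ commutator (S : Subgroup S2) := by
    have hm : (QuaternionGroup.a (2 : ZMod (2 * 2 ^ k))) ^ 2 ^ i ∈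
        (commutator (S : Subgroup S2)).map e.toMonoidHom := by
      rw [map_commutator_eq, MonoidHom.range_eq_top.2 e.surjective, ← commutator_def]
      exact Subgroup.pow_mem _ (a_two_mem_commutator _) _
    obtain ⟨y, hy, hye⟩ := hm
    rw [hz, ← hye]
    simpa using hy
  have hord : orderOf ((QuaternionGroup.a (2 : ZMod (2 * 2 ^ k))) ^ 2 ^ i) = 2 := by
    have e1 : (QuaternionGroup.a (2 : ZMod (2 * 2 ^ k))) = (QuaternionGroup.a 1) ^ 2 := by
      rw [pow_two, QuaternionGroup.a_mul_a]; norm_num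
    rw [e1, ← pow_mul, orderOf_pow_of_dvd (by positivity) (by rw [QuaternionGroup.orderOf_a_one, hi]; exact ⟨2, by ring⟩),
      QuaternionGroup.orderOf_a_one, hi, show 2 * 2 ^ (i + 1) = 2 * (2 * 2 ^ i) by ring,
      Nat.mul_div_cancel _ (by positivity)]
  have hzo : orderOf (z : S2) = 2 := by
    rw [Subgroup.orderOf_coe, hz, e.symm.orderOf_eq, hord]
  have hzn : (z : S2) = negS := by
    refine SL2TwoNormalizer.eq_negS_of_order_two hodd ?_ fun h => ?_
    · have := pow_orderOf_eq_one (z : S2)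
      rwa [hzo, pow_two] at this
    · rw [h, orderOf_one] at hzo; omega
  exact ⟨hzn ▸ z.2, by simpa [← hzn] using hzc⟩

theorem good_two_self (hodd : Odd qF) (S : Sylow 2 S2)
    (hN : Subgroup.normalizer ((S : Subgroup S2) : Set S2) = (S : Subgroup S2)) :
    good 2 (Subgroup.normalizer ((S : Subgroup S2) : Set S2)) = 4 := by
  haveI : Fact (Nat.Prime 2) := ⟨Nat.prime_two⟩
  obtain ⟨k, hk, ⟨e⟩⟩ := sylow_two_quaternion hodd S
  have : NeZero (2 ^ k) := ⟨pow_ne_zero _ two_ne_zero⟩
  rw [good_congr 2 ((MulEquiv.subgroupCongr hN).trans e),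
    good_pgroup (S.isPGroup'.of_equiv e), quaternion_index (Nat.even_pow.2 ⟨even_two, by omega⟩)]

theorem good_two_big (hodd : Odd qF) (S : Sylow 2 S2) (hS : Nat.card S = 8)
    (hN : Nat.card (Subgroup.normalizer ((S : Subgroup S2) : Set S2)) = 24) :
    good 2 (Subgroup.normalizer ((S : Subgroup S2) : Set S2)) = 4 := by
  classical
  haveI : Fact (Nat.Prime 2) := ⟨Nat.prime_two⟩
  haveI : Fact (Nat.Prime 3) := ⟨Nat.prime_three⟩
  set N := Subgroup.normalizer ((S : Subgroup S2) : Set S2) with hNdef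
  have hSN : (S : Subgroup S2) ≤ N := Subgroup.le_normalizer
  obtain ⟨hm, hmc⟩ := negS_mem_commutator hodd S
  let z : N := ⟨negS, hSN hm⟩
  have hzc : z ∈ Subgroup.center N := Subgroup.mem_center_iff.2 fun g =>
    Subtype.ext (SL2TwoNormalizer.negS_comm (g : S2))
  have hzd : z ∈ commutator N := by
    have h : (Subgroup.inclusion hSN ⟨negS, hm⟩) ∈ commutator N := by
      have h1 : (commutator (S : Subgroup S2)).map (Subgroup.inclusion hSN) ≤ commutator N := by
        rw [map_commutator_eq]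
        exact Subgroup.commutator_mono le_top le_top
      exact h1 ⟨_, hmc, rfl⟩
    exact h
  have hz2 : z ^ 2 = 1 := Subtype.ext (by
    show (negS : S2) ^ 2 = 1
    rw [pow_two, SL2TwoNormalizer.negS_mul_self])
  have hz1 : z ≠ 1 := fun h => negS_ne_one hodd (congrArg Subtype.val h)
  set Z := Subgroup.zpowers z with hZ
  have hZn : Z.Normal := ⟨fun y hy g => by
    have hyc : y ∈ Subgroup.center N := Subgroup.zpowers_le.2 hzc hy
    rw [Subgroup.mem_center_iff.1 hyc g, mul_inv_cancel_right]; exact hy⟩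
  have hZc : Nat.card Z = 2 := by rw [Nat.card_zpowers, orderOf_eq_prime hz2 hz1]
  have hM : Nat.card (N ⧸ Z) = 12 := by
    have := Subgroup.card_eq_card_quotient_mul_card_subgroup Z
    rw [hN, hZc] at this
    omega
  let S' : Subgroup N := (S : Subgroup S2).subgroupOf N
  haveI : S'.Normal := Subgroup.normal_in_normalizer
  have hS'c : Nat.card S' = 8 := (Nat.card_congr (Subgroup.subgroupOfEquivOfLe hSN).toEquiv).trans hS
  have hZS : Z ≤ S' := Subgroup.zpowers_le.2 (show (z : S2) ∈ (S : Subgroup S2) from hm)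
  have hV : Nat.card (S'.map (QuotientGroup.mk' Z)) = 4 := by
    have h1 := Subgroup.card_mul_index (S'.map (QuotientGroup.mk' Z))
    rw [Subgroup.index_map, QuotientGroup.ker_mk', sup_eq_left.2 hZS,
      MonoidHom.range_eq_top.2 (QuotientGroup.mk'_surjective Z), Subgroup.index_top, mul_one, hM] at h1
    have h2 := Subgroup.card_mul_index S'
    rw [hS'c, hN] at h2
    rw [show S'.index = 3 by omega] at h1
    omega
  haveI : (S'.map (QuotientGroup.mk' Z)).Normal :=
    Subgroup.Normal.map inferInstance _ (QuotientGroup.mk'_surjective Z)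
  have hnc : ∃ a b : N ⧸ Z, a * b ≠ b * a := by
    by_contra hcon
    push Not at hcon
    obtain ⟨y, hy⟩ := exists_prime_orderOf_dvd_card' (G := N) 3 (by rw [hN]; norm_num)
    have hyC : (y : S2) ∈ Subgroup.centralizer ((S : Subgroup S2) : Set S2) := by
      rw [Subgroup.mem_centralizer_iff]
      intro s hs
      set s' : N := ⟨s, hSN hs⟩
      have h1 : (QuotientGroup.mk (y * s' * y⁻¹ * s'⁻¹) : N ⧸ Z) = 1 := by
        rw [QuotientGroup.mk_mul, QuotientGroup.mk_mul, QuotientGroup.mk_mul, QuotientGroup.mk_inv,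
          QuotientGroup.mk_inv, hcon (y : N ⧸ Z) (s' : N ⧸ Z), mul_inv_cancel_right, mul_inv_cancel]
      rw [QuotientGroup.eq_one_iff] at h1
      set w := y * s' * y⁻¹ * s'⁻¹ with hw
      have hwc : ∀ g, g * w = w * g := Subgroup.mem_center_iff.1 (Subgroup.zpowers_le.2 hzc h1)
      have hw2 : w ^ 2 = 1 := by
        obtain ⟨j, hj⟩ := Subgroup.mem_zpowers_iff.1 h1
        rw [← hj, ← zpow_natCast, ← _root_.zpow_mul, mul_comm, _root_.zpow_mul, zpow_natCast, hz2, _root_.one_zpow]
      have hstep : y * s' * y⁻¹ = w * s' := by rw [hw, inv_mul_cancel_right]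
      have hconjw : y * w * y⁻¹ = w := by rw [hwc y, mul_inv_cancel_right]
      have h3 : y ^ 3 = 1 := by rw [← hy]; exact pow_orderOf_eq_one y
      have hit : ∀ j : ℕ, y ^ j * s' * (y ^ j)⁻¹ = w ^ j * s' := by
        intro j
        induction j with
        | zero => simp
        | succ j ih =>
          calc y ^ (j + 1) * s' * (y ^ (j + 1))⁻¹ = y * (y ^ j * s' * (y ^ j)⁻¹) * y⁻¹ := by
                rw [pow_succ', _root_.mul_inv_rev]; simp only [mul_assoc]
            _ = (y * w ^ j * y⁻¹) * (y * s' * y⁻¹) := by rw [ih]; group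
            _ = w ^ (j + 1) * s' := by rw [← conj_pow, hconjw, hstep, ← mul_assoc, ← pow_succ]
      have e3 : s' = w ^ 3 * s' := by
        have := hit 3
        rwa [h3, one_mul, inv_one, mul_one] at this
      have hw1 : w = 1 := by
        have := mul_eq_right.1 e3.symm
        rwa [pow_succ, hw2, one_mul] at this
      rw [hw1, one_mul, mul_inv_eq_iff_eq_mul] at hstep
      exact (congrArg Subtype.val hstep).symm
    rw [(SL2TwoNormalizer.main hodd S).1, sl_mem_center_iff] at hyC
    have hord : orderOf (y : S2) = 3 := by rw [Subgroup.orderOf_coe]; exact hy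
    rcases scalar_cases hyC with h | h <;> rw [h] at hord
    · simp at hord
    · rw [orderOf_eq_prime (p := 2) (by rw [pow_two, SL2TwoNormalizer.negS_mul_self]) (negS_ne_one hodd)] at hord
      omega
  have hclass := good_twelve hM hnc (S'.map (QuotientGroup.mk' Z)) hV
  have := Fintype.ofFinite (N ⧸ Z)
  rw [← card_irr_eq_card_conjClasses] at hclass
  rw [← hclass]
  have triv : ∀ χ : {χ : IrrCharacter N // ¬ 2 ∣ charDegree (χ : N → ℂ)},
      ∀ y ∈ Z, (χ.1 : N → ℂ) y = (χ.1 : N → ℂ) 1 := by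
    intro χ y hy
    obtain ⟨j, hj⟩ := Subgroup.mem_zpowers_iff.1 hy
    rcases Int.even_or_odd j with ⟨i, hi⟩ | ⟨i, hi⟩
    · rw [← hj, hi, ← two_mul, _root_.zpow_mul, zpow_ofNat, hz2, _root_.one_zpow]
    · rw [← hj, hi, _root_.zpow_add_one, _root_.zpow_mul, zpow_ofNat, hz2, _root_.one_zpow, one_mul]
      exact trivial_on hzc hzd hz2 χ.1 χ.2
  choose f hf hfv using fun χ : {χ : IrrCharacter N // ¬ 2 ∣ charDegree (χ : N → ℂ)} =>
    exists_isIrr_quotient χ.1.2 Z (triv χ)
  refine Nat.card_congr (Equiv.ofBijective (fun χ => (⟨f χ, hf χ⟩ : IrrCharacter (N ⧸ Z))) ⟨?_, ?_⟩)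
  · intro a b h
    refine Subtype.ext (Subtype.ext (funext fun g => ?_))
    rw [← hfv a g, ← hfv b g, show f a = f b from congrArg Subtype.val h]
  · intro θ
    have hlift := isIrrCharacter_comp_surjective θ.2 (QuotientGroup.mk' Z) (QuotientGroup.mk'_surjective Z)
    obtain ⟨d, -, hd⟩ := isIrrCharacter_degree θ.2
    have hd3 : d ∣ 3 := by
      have hidx : (S'.map (QuotientGroup.mk' Z)).index = 3 := by
        have := Subgroup.card_mul_index (S'.map (QuotientGroup.mk' Z))
        rw [hV, hM] at this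
        omega
      rw [← hidx]
      refine degree_dvd_index_abelian _ (S'.map (QuotientGroup.mk' Z)) (fun a ha b hb => ?_) _ θ.2 d hd
      exact congrArg Subtype.val (IsPGroup.commutative_of_card_eq_prime_sq
        (G := S'.map (QuotientGroup.mk' Z)) (p := 2) hV ⟨a, ha⟩ ⟨b, hb⟩)
    have hlodd : ¬ 2 ∣ charDegree (fun g : N => (θ : N ⧸ Z → ℂ) (QuotientGroup.mk' Z g)) := by
      rw [charDegree_eq_of_cast _ (show (θ : N ⧸ Z → ℂ) (QuotientGroup.mk' Z 1) = (d : ℂ) by rw [map_one, hd])]
      rcases (Nat.dvd_prime Nat.prime_three).1 hd3 with rfl | rfl <;> omega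
    refine ⟨⟨⟨_, hlift⟩, hlodd⟩, Subtype.ext (funext fun q => ?_)⟩
    obtain ⟨g, rfl⟩ := QuotientGroup.mk'_surjective Z q
    exact hfv ⟨⟨_, hlift⟩, hlodd⟩ g

end CfsgLib.Char.SLTwoLocal
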