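import Cfsg.Agent.Lib.Char.SLTwoHalves

/-!
# The degrees of the irreducible characters of `SL(2, q)`
-/

set_option autoImplicit false
set_option linter.unusedSectionVars false
set_option linter.style.haveILetI false

namespace CfsgLib.Char.TwoChars

open Matrix Cfsg CfsgLib.Char
open scoped ComplexConjugate

variable {F : Type*} [Field F] [Fintype F] [DecidableEq F]

local notation "S2" => Matrix.SpecialLinearGroup (Fin 2) F
local notation "qF" => Fintype.card F

/-- A constituent of the quadratic principal series. -/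
def IsHalfPS (χ : IrrCharacter S2) : Prop :=
  ∃ α : MulChar F ℂ, α ^ 2 = 1 ∧ α ≠ 1 ∧ classInner (psSL α) (χ : S2 → ℂ) ≠ 0

theorem halfPS_data {χ : IrrCharacter S2} (h : IsHalfPS χ) {ν : Fˣ} (hν : RepUnip ν) :
    ∃ α : MulChar F ℂ, α ^ 2 = 1 ∧ α ≠ 1 ∧ (psSL α : S2 → ℂ) = (χ : S2 → ℂ) + (sigIrr ν χ : S2 → ℂ) ∧
      sigIrr ν χ ≠ χ ∧ 2 * (χ : S2 → ℂ) 1 = (qF : ℂ) + 1 := by
  classical
  obtain ⟨α, h2, h1, hne⟩ := h
  obtain ⟨a, b, hab, he, hab', hba, hda, hdb⟩ := psQuad_split h2 h1 hν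
  rw [he, classInner_add_left, classInner_irr, classInner_irr] at hne
  have : χ = a ∨ χ = b := by
    by_contra hc
    push Not at hc
    rw [if_neg (Ne.symm hc.1), if_neg (Ne.symm hc.2), add_zero] at hne
    exact hne rfl
  rcases this with rfl | rfl
  · exact ⟨α, h2, h1, by rw [hab', he], by rw [hab']; exact hab.symm, hda⟩
  · exact ⟨α, h2, h1, by rw [hba, he, add_comm], by rw [hba]; exact hab, hdb⟩

theorem halfPS_deg {χ : IrrCharacter S2} (h : IsHalfPS χ) : 2 * (χ : S2 → ℂ) 1 = (qF : ℂ) + 1 := by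
  obtain ⟨ν, hν⟩ := exists_repUnip (F := F)
  obtain ⟨α, -, -, -, -, h'⟩ := halfPS_data h hν
  exact h'

theorem triv_not_cusp : ¬ IsCuspSL (fun _ : S2 => (1 : ℂ)) := by
  classical
  intro h
  have := h 1
  rw [classInner_psSL_triv, if_pos rfl] at this
  exact one_ne_zero this

theorem stSL_not_cusp : ¬ IsCuspSL (stSL : S2 → ℂ) := by
  classical
  intro h
  have := h 1
  rw [stSL, classInner_sub_right, classInner_psSL_psSL, classInner_psSL_triv] at this
  simp at this

theorem psSL_not_cusp (α : MulChar F ℂ) : ¬ IsCuspSL (psSL α : S2 → ℂ) := by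
  classical
  intro h
  have := h α
  rw [classInner_psSL_psSL, if_pos rfl] at this
  split_ifs at this <;> norm_num at this

theorem card_sq_one_mulChar (hodd : Odd qF) [DecidableEq (MulChar F ℂ)] :
    (Finset.univ.filter fun α : MulChar F ℂ => α ^ 2 = 1).card = 2 := by
  classical
  obtain ⟨a, ha2, ha1⟩ := exists_quad hodd
  rw [show (Finset.univ.filter fun α : MulChar F ℂ => α ^ 2 = 1) = {1, a} from ?_]
  · exact Finset.card_pair ha1.symm
  ext α
  simp only [Finset.mem_filter, Finset.mem_univ, true_and, Finset.mem_insert, Finset.mem_singleton]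
  refine ⟨fun h => ?_, ?_⟩
  · by_cases h1 : α = 1
    · exact Or.inl h1
    · exact Or.inr (quad_unique h h1 ha2 ha1)
  · rintro (rfl | rfl)
    · exact one_pow 2
    · exact ha2

theorem card_sq_one_mulChar_even (he : ¬ Odd qF) [DecidableEq (MulChar F ℂ)] :
    (Finset.univ.filter fun α : MulChar F ℂ => α ^ 2 = 1).card = 1 := by
  classical
  rw [show (Finset.univ.filter fun α : MulChar F ℂ => α ^ 2 = 1) = {1} from ?_, Finset.card_singleton]
  ext α
  simp only [Finset.mem_filter, Finset.mem_univ, true_and, Finset.mem_singleton]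
  refine ⟨fun h => ?_, fun h => by rw [h, one_pow]⟩
  by_contra h1
  exact he (quad_odd h h1)

theorem card_conjClasses_sl_even' (he : ¬ Odd qF) : Nat.card (ConjClasses S2) = qF + 1 := by
  haveI : CharP F 2 := by
    have h2 : ringChar F = 2 := by
      by_contra hne
      exact he (Nat.odd_iff.2 (FiniteField.odd_card_of_char_ne_two hne))
    exact ringChar.of_eq h2
  exact TwoClasses.card_conjClasses_sl_even

/-- `χ` is a cuspidal character of half degree. -/
def IsCuspHalf (χ : IrrCharacter S2) : Prop :=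
  IsCuspSL (χ : S2 → ℂ) ∧ 2 * (χ : S2 → ℂ) 1 = (qF : ℂ) - 1

open Finset in
theorem sl_counts :
    2 * Nat.card {χ : IrrCharacter S2 // ∃ α, α ^ 2 ≠ 1 ∧ (χ : S2 → ℂ) = psSL α} + (if Odd qF then 3 else 2) = qF ∧
    Nat.card {χ : IrrCharacter S2 // IsHalfPS χ} = (if Odd qF then 2 else 0) ∧
    Nat.card {χ : IrrCharacter S2 // IsCuspHalf χ} = (if Odd qF then 2 else 0) ∧
    2 * Nat.card {χ : IrrCharacter S2 // IsCuspSL (χ : S2 → ℂ) ∧ (χ : S2 → ℂ) 1 = (qF : ℂ) - 1} +
      (if Odd qF then 1 else 0) = qF := by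
  classical
  haveI := Fintype.ofFinite (IrrCharacter S2)
  obtain ⟨ν, hν⟩ := exists_repUnip (F := F)
  let one' : IrrCharacter S2 := ⟨_, isIrrCharacter_one⟩
  let st' : IrrCharacter S2 := ⟨_, isIrr_stSL⟩
  let P : Finset (IrrCharacter S2) := univ.filter fun χ => ∃ α, α ^ 2 ≠ 1 ∧ (χ : S2 → ℂ) = psSL α
  let H : Finset (IrrCharacter S2) := univ.filter fun χ => IsHalfPS χ
  let D1 : Finset (IrrCharacter S2) :=
    univ.filter fun χ => IsCuspSL (χ : S2 → ℂ) ∧ (χ : S2 → ℂ) 1 = (qF : ℂ) - 1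
  let D2 : Finset (IrrCharacter S2) := univ.filter fun χ => IsCuspHalf χ
  simp only [Nat.card_eq_fintype_card, Fintype.card_subtype]
  change 2 * P.card + _ = _ ∧ H.card = _ ∧ D2.card = _ ∧ 2 * D1.card + _ = _
  have hq2 : 2 ≤ qF := Fintype.one_lt_card
  -- principal series
  have cP : 2 * P.card + (univ.filter fun α : MulChar F ℂ => α ^ 2 = 1).card + 1 = qF := by
    let T : Finset (MulChar F ℂ) := univ.filter fun α => ¬ α ^ 2 = 1
    let f : T → IrrCharacter S2 := fun p => ⟨psSL p.1, (isIrr_psSL_iff p.1).2 (mem_filter.1 p.2).2⟩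
    have himg : univ.image f = P := by
      ext χ
      simp only [mem_image, mem_univ, true_and, P, mem_filter]
      constructor
      · rintro ⟨p, rfl⟩; exact ⟨_, (mem_filter.1 p.2).2, rfl⟩
      · rintro ⟨α, h, e⟩
        exact ⟨⟨α, mem_filter.2 ⟨mem_univ _, h⟩⟩, Subtype.ext e.symm⟩
    have hfib : ∀ χ ∈ P, (univ.filter fun p => f p = χ).card = 2 := by
      intro χ hχ
      obtain ⟨α, h, e⟩ := (mem_filter.1 hχ).2
      have hne : α ≠ α⁻¹ := (sq_ne_one_iff α).1 h
      have h2 : ¬ α⁻¹ ^ 2 = 1 := by rw [inv_pow, inv_eq_one]; exact h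
      rw [show (univ.filter fun p => f p = χ) =
          {⟨α, mem_filter.2 ⟨mem_univ _, h⟩⟩, ⟨α⁻¹, mem_filter.2 ⟨mem_univ _, h2⟩⟩} from ?_]
      · exact card_pair fun hh => hne (congrArg Subtype.val hh)
      ext ⟨μ, hp⟩
      simp only [mem_filter, mem_univ, true_and, mem_insert, mem_singleton, f, Subtype.ext_iff, e, psSL_eq_iff]
    have h3 := card_eq_sum_card_image f univ
    rw [himg, sum_const_nat hfib, card_univ, Fintype.card_coe] at h3
    have h4 := card_filter_add_card_filter_not (s := (univ : Finset (MulChar F ℂ))) (fun α => α ^ 2 = 1)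
    rw [card_univ, ← Nat.card_eq_fintype_card, card_mulChar] at h4
    change _ + T.card = _ at h4
    omega
  -- halves of the quadratic principal series
  have cH : H.card = if Odd qF then 2 else 0 := by
    split_ifs with hodd
    · obtain ⟨α, h2, h1⟩ := exists_quad hodd
      obtain ⟨a, b, hab, he, -, -, -, -⟩ := psQuad_split h2 h1 hν
      rw [show H = {a, b} from ?_, card_pair hab]
      ext χ
      simp only [H, mem_filter, mem_univ, true_and, mem_insert, mem_singleton]
      constructor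
      · rintro ⟨β, hb2, hb1, hne⟩
        rw [quad_unique hb2 hb1 h2 h1, he, classInner_add_left, classInner_irr, classInner_irr] at hne
        by_contra hc
        push Not at hc
        rw [if_neg (Ne.symm hc.1), if_neg (Ne.symm hc.2), add_zero] at hne
        exact hne rfl
      · intro hχ
        refine ⟨α, h2, h1, ?_⟩
        rw [he, classInner_add_left, classInner_irr, classInner_irr]
        rcases hχ with rfl | rfl <;> simp [hab, hab.symm]
    · rw [card_eq_zero, eq_empty_iff_forall_notMem]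
      intro χ hχ
      obtain ⟨α, h2, h1, -⟩ := (mem_filter.1 hχ).2
      exact hodd (quad_odd h2 h1)
  -- the partition
  have hP1 : ∀ χ ∈ P, (χ : S2 → ℂ) 1 = (qF : ℂ) + 1 := fun χ hχ => by
    obtain ⟨α, -, e⟩ := (mem_filter.1 hχ).2
    rw [e, psSL_one]
  have hH1 : ∀ χ ∈ H, (χ : S2 → ℂ) 1 = ((qF : ℂ) + 1) / 2 := fun χ hχ => by
    rw [← halfPS_deg (mem_filter.1 hχ).2]; ring
  have hD11 : ∀ χ ∈ D1, (χ : S2 → ℂ) 1 = (qF : ℂ) - 1 := fun χ hχ => (mem_filter.1 hχ).2.2
  have hD21 : ∀ χ ∈ D2, (χ : S2 → ℂ) 1 = ((qF : ℂ) - 1) / 2 := fun χ hχ => by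
    rw [← (mem_filter.1 hχ).2.2]; ring
  have hU : ({one', st'} : Finset (IrrCharacter S2)) ∪ P ∪ H ∪ D1 ∪ D2 = univ := eq_univ_of_forall fun χ => by
    rcases sl_cases χ with h | h | h | h | h
    · simp [show χ = one' from Subtype.ext h]
    · simp [show χ = st' from Subtype.ext h]
    · exact mem_union_left _ (mem_union_left _ (mem_union_left _ (mem_union_right _ (mem_filter.2 ⟨mem_univ _, h⟩))))
    · exact mem_union_left _ (mem_union_left _ (mem_union_right _ (mem_filter.2 ⟨mem_univ _, h⟩)))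
    · rcases cusp_dichotomy χ h hν with ⟨h', -⟩ | ⟨h', -, -⟩
      · exact mem_union_left _ (mem_union_right _ (mem_filter.2 ⟨mem_univ _, h, h'⟩))
      · exact mem_union_right _ (mem_filter.2 ⟨mem_univ _, h, h'⟩)
  have hone : one' ≠ st' := fun h => by
    have := congrFun (congrArg Subtype.val h) 1
    simp only [one', st', stSL_one] at this
    have : (1 : ℕ) = qF := by exact_mod_cast this
    omega
  have d1 : Disjoint ({one', st'} : Finset (IrrCharacter S2)) P := disjoint_left.2 fun χ h h' => by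
    have e := hP1 χ h'
    rcases mem_insert.1 h with rfl | h
    · simp [one'] at e
    · rw [mem_singleton.1 h] at e; simp [st', stSL_one] at e
  have d2 : Disjoint (({one', st'} : Finset (IrrCharacter S2)) ∪ P) H := disjoint_left.2 fun χ h h' => by
    have e := halfPS_deg (mem_filter.1 h').2
    rcases mem_union.1 h with h | h
    · rcases mem_insert.1 h with rfl | h
      · simp [one'] at e
        have : (2 : ℕ) = qF + 1 := by exact_mod_cast e
        omega
      · rw [mem_singleton.1 h] at e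
        simp [st', stSL_one] at e
        have : 2 * qF = qF + 1 := by exact_mod_cast e
        omega
    · rw [hP1 χ h] at e
      have : 2 * (qF + 1) = qF + 1 := by exact_mod_cast e
      omega
  have hnc : ∀ χ ∈ ({one', st'} : Finset (IrrCharacter S2)) ∪ P ∪ H, ¬ IsCuspSL (χ : S2 → ℂ) := by
    intro χ h hc
    rcases mem_union.1 h with h | h
    · rcases mem_union.1 h with h | h
      · rcases mem_insert.1 h with rfl | h
        · exact triv_not_cusp hc
        · rw [mem_singleton.1 h] at hc; exact stSL_not_cusp hc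
      · obtain ⟨α, -, e⟩ := (mem_filter.1 h).2
        exact psSL_not_cusp α (e ▸ hc)
    · obtain ⟨α, -, -, hne⟩ := (mem_filter.1 h).2
      exact hne (hc α)
  have d3 : Disjoint (({one', st'} : Finset (IrrCharacter S2)) ∪ P ∪ H) D1 :=
    disjoint_left.2 fun χ h h' => hnc χ h (mem_filter.1 h').2.1
  have d4 : Disjoint (({one', st'} : Finset (IrrCharacter S2)) ∪ P ∪ H ∪ D1) D2 := disjoint_left.2 fun χ h h' => by
    rcases mem_union.1 h with h | h
    · exact hnc χ h (mem_filter.1 h').2.1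
    · have := (hD11 χ h).symm.trans (hD21 χ h')
      have h' : (qF : ℂ) = ((1 : ℕ) : ℂ) := by push_cast; linear_combination 2 * this
      have : qF = 1 := by exact_mod_cast h'
      omega
  have cU : 2 + P.card + H.card + D1.card + D2.card = Nat.card (ConjClasses S2) := by
    rw [← card_irr_eq_card_conjClasses, Nat.card_eq_fintype_card, ← card_univ, ← hU, card_union_of_disjoint d4,
      card_union_of_disjoint d3, card_union_of_disjoint d2, card_union_of_disjoint d1, card_pair hone]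
  have hsum : ∑ χ : IrrCharacter S2, (χ : S2 → ℂ) 1 ^ 2 = (Nat.card S2 : ℂ) := sum_degree_sq
  rw [← hU, sum_union d4, sum_union d3, sum_union d2, sum_union d1, sum_pair hone] at hsum
  rw [sum_congr (s₁ := P) (g := fun _ => ((qF : ℂ) + 1) ^ 2) rfl fun χ h => by rw [hP1 χ h],
    sum_congr (s₁ := H) (g := fun _ => (((qF : ℂ) + 1) / 2) ^ 2) rfl fun χ h => by rw [hH1 χ h],
    sum_congr (s₁ := D1) (g := fun _ => ((qF : ℂ) - 1) ^ 2) rfl fun χ h => by rw [hD11 χ h],
    sum_congr (s₁ := D2) (g := fun _ => (((qF : ℂ) - 1) / 2) ^ 2) rfl fun χ h => by rw [hD21 χ h],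
    card_sl_two] at hsum
  simp only [one', st', stSL_one, sum_const, nsmul_eq_mul] at hsum
  have hN : (4 : ℤ) + 4 * (qF : ℤ) ^ 2 + 4 * (P.card : ℤ) * ((qF : ℤ) + 1) ^ 2 + (H.card : ℤ) * ((qF : ℤ) + 1) ^ 2 +
      4 * (D1.card : ℤ) * ((qF : ℤ) - 1) ^ 2 + (D2.card : ℤ) * ((qF : ℤ) - 1) ^ 2 =
      4 * (((qF : ℤ) + 1) * (((qF : ℤ) - 1) * (qF : ℤ))) := by
    have hC : ((4 : ℂ) + 4 * (qF : ℂ) ^ 2 + 4 * (P.card : ℂ) * ((qF : ℂ) + 1) ^ 2 + (H.card : ℂ) * ((qF : ℂ) + 1) ^ 2 +
        4 * (D1.card : ℂ) * ((qF : ℂ) - 1) ^ 2 + (D2.card : ℂ) * ((qF : ℂ) - 1) ^ 2) =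
        4 * (((qF : ℂ) + 1) * (((qF : ℂ) - 1) * (qF : ℂ))) := by
      push_cast [Nat.cast_sub (show 1 ≤ qF by omega)] at hsum
      linear_combination 4 * hsum
    exact_mod_cast hC
  have hq1 : ((qF : ℤ) - 1) ^ 2 ≠ 0 := pow_ne_zero _ (by omega)
  by_cases hodd : Odd qF
  · rw [if_pos hodd] at cH
    rw [card_sq_one_mulChar hodd] at cP
    rw [TwoClasses.card_conjClasses_sl_odd hodd] at cU
    simp only [if_pos hodd]
    have e : ((qF : ℤ) - 1) ^ 2 * (4 * (D1.card : ℤ) + D2.card - 2 * qF) = 0 := by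
      have hP' : 2 * (P.card : ℤ) = qF - 3 := by omega
      rw [cH] at hN
      push_cast at hN
      linear_combination hN - 2 * ((qF : ℤ) + 1) ^ 2 * hP'
    have := (mul_eq_zero.1 e).resolve_left hq1
    omega
  · rw [if_neg hodd] at cH
    rw [card_sq_one_mulChar_even hodd] at cP
    rw [card_conjClasses_sl_even' hodd] at cU
    simp only [if_neg hodd]
    have e : ((qF : ℤ) - 1) ^ 2 * (4 * (D1.card : ℤ) + D2.card - 2 * qF) = 0 := by
      have hP' : 2 * (P.card : ℤ) = qF - 2 := by omega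
      rw [cH] at hN
      push_cast at hN
      linear_combination hN - 2 * ((qF : ℤ) + 1) ^ 2 * hP'
    have := (mul_eq_zero.1 e).resolve_left hq1
    omega

/-! ### classification by degree -/

theorem cusp_deg_cases (χ : IrrCharacter S2) (hc : IsCuspSL (χ : S2 → ℂ)) :
    (χ : S2 → ℂ) 1 = (qF : ℂ) - 1 ∨ IsCuspHalf χ := by
  obtain ⟨ν, hν⟩ := exists_repUnip (F := F)
  exact (cusp_dichotomy χ hc hν).imp (fun h => h.1) fun h => ⟨hc, h.1⟩

/-- All five possibilities with their degrees. -/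
theorem sl_deg_cases (χ : IrrCharacter S2) :
    ((χ : S2 → ℂ) = (fun _ => 1) ∧ (χ : S2 → ℂ) 1 = 1) ∨ ((χ : S2 → ℂ) = stSL ∧ (χ : S2 → ℂ) 1 = (qF : ℂ)) ∨
      (∃ α, α ^ 2 ≠ 1 ∧ (χ : S2 → ℂ) = psSL α ∧ (χ : S2 → ℂ) 1 = (qF : ℂ) + 1) ∨
      (IsHalfPS χ ∧ 2 * (χ : S2 → ℂ) 1 = (qF : ℂ) + 1) ∨
      (IsCuspSL (χ : S2 → ℂ) ∧ (χ : S2 → ℂ) 1 = (qF : ℂ) - 1) ∨
      (IsCuspHalf χ ∧ 2 * (χ : S2 → ℂ) 1 = (qF : ℂ) - 1) := by
  rcases sl_cases χ with h | h | ⟨α, h2, h⟩ | h | h
  · exact Or.inl ⟨h, by rw [h]⟩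
  · exact Or.inr (Or.inl ⟨h, by rw [h, stSL_one]⟩)
  · exact Or.inr (Or.inr (Or.inl ⟨α, h2, h, by rw [h, psSL_one]⟩))
  · exact Or.inr (Or.inr (Or.inr (Or.inl ⟨h, halfPS_deg h⟩)))
  · rcases cusp_deg_cases χ h with h' | h'
    · exact Or.inr (Or.inr (Or.inr (Or.inr (Or.inl ⟨h, h'⟩))))
    · exact Or.inr (Or.inr (Or.inr (Or.inr (Or.inr ⟨h', h'.2⟩))))

/-- Turning equations between degrees into equations in `ℕ`. -/
theorem natq {a b c d : ℕ} (h : (a : ℂ) * (qF : ℂ) + b = (c : ℂ) * (qF : ℂ) + d) :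
    a * qF + b = c * qF + d := by exact_mod_cast h

theorem sl_deg_q (χ : IrrCharacter S2) (h : (χ : S2 → ℂ) 1 = (qF : ℂ)) : (χ : S2 → ℂ) = stSL := by
  have hq2 : 2 ≤ qF := Fintype.one_lt_card
  rcases sl_deg_cases χ with ⟨-, e⟩ | ⟨h', -⟩ | ⟨_, -, -, e⟩ | ⟨-, e⟩ | ⟨-, e⟩ | ⟨-, e⟩
  · have := natq (F := F) (a := 1) (b := 0) (c := 0) (d := 1) (by rw [h] at e; push_cast; linear_combination e)
    omega
  · exact h'
  · rw [h] at e; simp at e
  · have := natq (F := F) (a := 2) (b := 0) (c := 1) (d := 1) (by rw [h] at e; push_cast; linear_combination e)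
    omega
  · have := natq (F := F) (a := 1) (b := 1) (c := 1) (d := 0) (by rw [h] at e; push_cast; linear_combination e)
    omega
  · have := natq (F := F) (a := 2) (b := 1) (c := 1) (d := 0) (by rw [h] at e; push_cast; linear_combination e)
    omega

theorem sl_deg_q_add (χ : IrrCharacter S2) (h : (χ : S2 → ℂ) 1 = (qF : ℂ) + 1) :
    ∃ α, α ^ 2 ≠ 1 ∧ (χ : S2 → ℂ) = psSL α := by
  have hq2 : 2 ≤ qF := Fintype.one_lt_card
  rcases sl_deg_cases χ with ⟨-, e⟩ | ⟨-, e⟩ | ⟨α, h2, h', -⟩ | ⟨-, e⟩ | ⟨-, e⟩ | ⟨-, e⟩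
  · have := natq (F := F) (a := 1) (b := 1) (c := 0) (d := 1) (by rw [h] at e; push_cast; linear_combination e)
    omega
  · rw [h] at e; simp at e
  · exact ⟨α, h2, h'⟩
  · have := natq (F := F) (a := 2) (b := 2) (c := 1) (d := 1) (by rw [h] at e; push_cast; linear_combination e)
    omega
  · have := natq (F := F) (a := 1) (b := 2) (c := 1) (d := 0) (by rw [h] at e; push_cast; linear_combination e)
    omega
  · have := natq (F := F) (a := 2) (b := 3) (c := 1) (d := 0) (by rw [h] at e; push_cast; linear_combination e)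
    omega

theorem sl_deg_q_sub (hq : 4 ≤ qF) (χ : IrrCharacter S2) (h : (χ : S2 → ℂ) 1 = (qF : ℂ) - 1) :
    IsCuspSL (χ : S2 → ℂ) := by
  rcases sl_deg_cases χ with ⟨-, e⟩ | ⟨-, e⟩ | ⟨_, -, -, e⟩ | ⟨-, e⟩ | ⟨h', -⟩ | ⟨h', -⟩
  · have := natq (F := F) (a := 1) (b := 0) (c := 0) (d := 2) (by rw [h] at e; push_cast; linear_combination e)
    omega
  · have := natq (F := F) (a := 1) (b := 0) (c := 1) (d := 1) (by rw [h] at e; push_cast; linear_combination e)
    omega
  · have := natq (F := F) (a := 1) (b := 0) (c := 1) (d := 2) (by rw [h] at e; push_cast; linear_combination e)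
    omega
  · have := natq (F := F) (a := 2) (b := 0) (c := 1) (d := 3) (by rw [h] at e; push_cast; linear_combination e)
    omega
  · exact h'
  · exact h'.1

theorem sl_deg_half_add (hq : 4 ≤ qF) (χ : IrrCharacter S2) (h : 2 * (χ : S2 → ℂ) 1 = (qF : ℂ) + 1) :
    IsHalfPS χ := by
  rcases sl_deg_cases χ with ⟨-, e⟩ | ⟨-, e⟩ | ⟨_, -, -, e⟩ | ⟨h', -⟩ | ⟨-, e⟩ | ⟨-, e⟩
  · have := natq (F := F) (a := 1) (b := 1) (c := 0) (d := 2) (by rw [e] at h; push_cast; linear_combination -h)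
    omega
  · have := natq (F := F) (a := 2) (b := 0) (c := 1) (d := 1) (by rw [e] at h; push_cast; linear_combination h)
    omega
  · have := natq (F := F) (a := 2) (b := 2) (c := 1) (d := 1) (by rw [e] at h; push_cast; linear_combination h)
    omega
  · exact h'
  · have := natq (F := F) (a := 2) (b := 0) (c := 1) (d := 3) (by rw [e] at h; push_cast; linear_combination h)
    omega
  · have := natq (F := F) (a := 1) (b := 0) (c := 1) (d := 2) (by rw [e] at h; push_cast; linear_combination h)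
    omega

theorem sl_deg_half_sub (hq : 4 ≤ qF) (χ : IrrCharacter S2) (h : 2 * (χ : S2 → ℂ) 1 = (qF : ℂ) - 1) :
    IsCuspHalf χ := by
  rcases sl_deg_cases χ with ⟨-, e⟩ | ⟨-, e⟩ | ⟨_, -, -, e⟩ | ⟨-, e⟩ | ⟨-, e⟩ | ⟨h', -⟩
  · have := natq (F := F) (a := 1) (b := 0) (c := 0) (d := 3) (by rw [e] at h; push_cast; linear_combination -h)
    omega
  · have := natq (F := F) (a := 2) (b := 1) (c := 1) (d := 0) (by rw [e] at h; push_cast; linear_combination h)
    omega
  · have := natq (F := F) (a := 2) (b := 3) (c := 1) (d := 0) (by rw [e] at h; push_cast; linear_combination h)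
    omega
  · have := natq (F := F) (a := 1) (b := 2) (c := 1) (d := 0) (by rw [e] at h; push_cast; linear_combination h)
    omega
  · have := natq (F := F) (a := 2) (b := 0) (c := 1) (d := 1) (by rw [e] at h; push_cast; linear_combination h)
    omega
  · exact h'

theorem sl_deg_one (hq : 4 ≤ qF) (χ : IrrCharacter S2) (h : (χ : S2 → ℂ) 1 = 1) :
    (χ : S2 → ℂ) = fun _ => 1 := by
  rcases sl_deg_cases χ with ⟨h', -⟩ | ⟨-, e⟩ | ⟨_, -, -, e⟩ | ⟨-, e⟩ | ⟨-, e⟩ | ⟨-, e⟩
  · exact h'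
  · have := natq (F := F) (a := 1) (b := 0) (c := 0) (d := 1) (by rw [h] at e; push_cast; linear_combination -e)
    omega
  · have := natq (F := F) (a := 1) (b := 1) (c := 0) (d := 1) (by rw [h] at e; push_cast; linear_combination -e)
    omega
  · have := natq (F := F) (a := 1) (b := 1) (c := 0) (d := 2) (by rw [h] at e; push_cast; linear_combination -e)
    omega
  · have := natq (F := F) (a := 1) (b := 0) (c := 0) (d := 2) (by rw [h] at e; push_cast; linear_combination -e)
    omega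
  · have := natq (F := F) (a := 1) (b := 0) (c := 0) (d := 3) (by rw [h] at e; push_cast; linear_combination -e)
    omega

end CfsgLib.Char.TwoChars
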