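import Cfsg.Agent.Lib.Char.SchurRationalBound
import Cfsg.Agent.Lib.Char.Inertia

/-!
# A `p`-group acting on a `p'`-group with a faithful invariant character

The canonical extensions of the constituents give a character with rational values on the acting
group, so Schur's bound applies to the group of automorphisms induced.
-/

set_option autoImplicit false
set_option linter.unusedSectionVars false
set_option linter.style.haveILetI false

namespace CfsgLib.Char.SchurBound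

open scoped ComplexConjugate
open Cfsg CfsgLib.Char

universe u

variable {p : ℕ} [hp : Fact p.Prime] {Γ : Type u} [Group Γ] [Fintype Γ]

theorem eq_of_sum_eq {ι : Type*} (s : Finset ι) (v : ι → ℂ) (d : ι → ℕ) (hle : ∀ i ∈ s, ‖v i‖ ≤ d i)
    (h : ∑ i ∈ s, v i = ∑ i ∈ s, (d i : ℂ)) : ∀ i ∈ s, v i = d i := by
  have hre : ∀ i ∈ s, (v i).re ≤ (d i : ℝ) := fun i hi =>
    (Complex.re_le_norm _).trans (hle i hi)
  have h1 := congrArg Complex.re h
  rw [Complex.re_sum, Complex.re_sum] at h1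
  simp only [Complex.natCast_re] at h1
  have h2 := (Finset.sum_eq_sum_iff_of_le hre).1 h1
  intro i hi
  have h3 : ‖v i‖ ≤ (v i).re := (hle i hi).trans_eq (h2 i hi).symm
  have h4 : (v i).im = 0 := by
    have h5 := Complex.sq_norm_sub_sq_re (v i)
    have h6 : ‖v i‖ = (v i).re := le_antisymm h3 (Complex.re_le_norm _)
    rw [h6, sub_self] at h5
    exact pow_eq_zero_iff two_ne_zero |>.1 h5.symm
  refine Complex.ext ?_ ?_
  · rw [h2 i hi, Complex.natCast_re]
  · rw [h4, Complex.natCast_im]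

/-- A constituent induces to a character of `Γ` fixed by what fixes the `|K|`-th roots of unity,
whose restriction is the sum of the conjugates. -/
theorem exists_over_orbit (K : Subgroup Γ) [K.Normal] [Fintype K] [DecidableEq (K → ℂ)] (hcop : K.index.Coprime (Nat.card K))
    (θ : IrrCharacter K) :
    ∃ Φ : Γ → ℂ, IsCharacter Γ Φ ∧
      (∀ τ : ℂ ≃+* ℂ, (∀ x : ℂ, x ^ Nat.card K = 1 → τ x = x) → ∀ g, τ (Φ g) = Φ g) ∧
      ∀ k : K, Φ k = ∑ f ∈ Finset.univ.image (fun x : Γ => conjFun K (θ : K → ℂ) x), f k := by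
  classical
  set T := inertia K (θ : K → ℂ) with hT
  have hKT : K ≤ T := le_inertia K (isClassFunction_irr θ)
  haveI := Fintype.ofFinite T
  set K' := K.subgroupOf T with hK'
  haveI hK'n : K'.Normal := inferInstance
  haveI := Fintype.ofFinite K'
  let eN : K' ≃* K := Subgroup.subgroupOfEquivOfLe hKT
  have hθ' : IsIrrCharacter K' (fun x => (θ : K → ℂ) (eN x)) :=
    isIrrCharacter_comp_surjective θ.2 eN.toMonoidHom eN.surjective
  obtain ⟨d, -, hd⟩ := isIrrCharacter_degree θ.2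
  have hinv : ∀ (t : T) (x : K'), (θ : K → ℂ) (eN ⟨t * x * t⁻¹, hK'n.conj_mem x x.2 t⟩) =
      (θ : K → ℂ) (eN x) := fun t x => congrFun ((mem_inertia K _ (t : Γ)).mp t.2) (eN x)
  have hcard : Nat.card K' = Nat.card K := Nat.card_congr eN.toEquiv
  have hidx : K'.index.Coprime (Nat.card K) :=
    hcop.coprime_dvd_left (Subgroup.relIndex_dvd_index_of_normal K T)
  have hd' : (fun x : K' => (θ : K → ℂ) (eN x)) 1 = (d : ℂ) := by simp only [map_one, hd]
  have hdc : Nat.Coprime K'.index (detOrder (fun x : K' => (θ : K → ℂ) (eN x)) * d) :=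
    Nat.Coprime.mul_right (hidx.coprime_dvd_right (hcard ▸ CoprimeCyclic.detOrder_dvd_card hθ'))
      (hidx.coprime_dvd_right (degree_dvd_card θ hd))
  obtain ⟨Θ, ⟨hΘirr, hΘres, hΘdet⟩, huniq⟩ := Cfsg.Agent.S0867.result K' _ hθ' hinv d hd' hdc
  have hfix : ∀ τ : ℂ ≃+* ℂ, (∀ x : ℂ, x ^ Nat.card K = 1 → τ x = x) → ∀ t, τ (Θ t) = Θ t := by
    intro τ hτ
    obtain ⟨m, ρ, hρ, he⟩ := hΘirr
    set ψ := (CoprimeCyclic.galoisRep τ ρ).character with hψ
    have hval : ∀ y, ψ y = τ (Θ y) := fun y => by rw [hψ, CoprimeCyclic.galoisRep_character, he]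
    have hres : ∀ x : K', ψ x = (θ : K → ℂ) (eN x) := fun x => by
      rw [hval, hΘres, CoprimeCyclic.fix_character hτ dvd_rfl (isCharacter_irr θ)]
    have hψc : IsCharacter T ψ := ⟨m, CoprimeCyclic.galoisRep τ ρ, rfl⟩
    have hirr : IsIrrCharacter T ψ := by
      obtain ⟨d₀, ρ₀, hρ₀, he₀⟩ := hθ'
      obtain ⟨σ', hσ', hσ''⟩ := exists_rep_extension_top K' ρ₀ hψc fun x =>
        (hres x).trans (congrFun he₀.symm x)
      rw [← hσ'']
      exact isIrrCharacter_of_extends K' ρ₀ hσ'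
    have hdet : Nat.Coprime K'.index (detOrder ψ) := by
      have h' := hΘdet
      rw [← he, Cfsg.detOrder, detChar_eq] at h'
      rw [hψ, Cfsg.detOrder, detChar_eq,
        show (fun g => (detHom (CoprimeCyclic.galoisRep τ ρ) g : ℂ)) =
          (τ.toRingHom.toMonoidHom.compLeft T) (fun g => (detHom ρ g : ℂ)) from
            funext fun g => CoprimeCyclic.galoisRep_det τ ρ g,
        orderOf_injective (τ.toRingHom.toMonoidHom.compLeft T) fun f f' e => funext fun g =>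
          τ.injective (congrFun e g), h']
      exact hdc.coprime_mul_right_right
    intro t
    rw [← hval, huniq ψ hirr hres hdet]
  refine ⟨indFun T Θ, isCharacter_indFun T (isCharacter_of_isIrr hΘirr), fun τ hτ g => ?_, fun k => ?_⟩
  · rw [indFun, map_mul, map_inv₀, map_natCast, map_sum]
    refine congrArg _ (Finset.sum_congr rfl fun x _ => ?_)
    by_cases hx : x⁻¹ * g * x ∈ T
    · rw [extendByZero_mem T Θ hx, hfix τ hτ]
    · rw [extendByZero_not_mem T Θ hx, map_zero]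
  · have hterm : ∀ x : Γ, extendByZero T Θ (x⁻¹ * k * x) = conjFun K (θ : K → ℂ) x⁻¹ k := fun x => by
      have hxK : x⁻¹ * (k : Γ) * x ∈ K := by
        simpa using (inferInstance : K.Normal).conj_mem k k.2 x⁻¹
      rw [extendByZero_mem T Θ (hKT hxK), show (⟨x⁻¹ * k * x, hKT hxK⟩ : T) =
        ((⟨⟨x⁻¹ * k * x, hKT hxK⟩, hxK⟩ : K') : T) from rfl, hΘres]
      exact congrArg (θ : K → ℂ) (Subtype.ext (by simp only [inv_inv]; rfl))
    rw [indFun, Finset.sum_congr rfl fun x _ => hterm x,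
      Fintype.sum_equiv (Equiv.inv Γ) (fun x => conjFun K (θ : K → ℂ) x⁻¹ k)
        (fun x => conjFun K (θ : K → ℂ) x k) (fun x => rfl),
      Finset.sum_comp (fun f : K → ℂ => f k) (fun x : Γ => conjFun K (θ : K → ℂ) x), Finset.mul_sum]
    refine Finset.sum_congr rfl fun f hf => ?_
    obtain ⟨g, -, rfl⟩ := Finset.mem_image.1 hf
    have hc := card_fiber_conjFun K (θ : K → ℂ) g
    rw [Nat.card_eq_fintype_card, Fintype.card_subtype] at hc
    rw [hc, nsmul_eq_mul, ← mul_assoc, inv_mul_cancel₀ (Nat.cast_ne_zero.2 Nat.card_pos.ne'), one_mul]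

/-- The automorphisms induced by a `p`-group on a `p'`-subgroup of a linear group obey Schur's bound. -/
theorem exists_centralizing (K A : Subgroup Γ) [K.Normal] (hA : IsPGroup p A) (hKA : K ⊔ A = ⊤)
    (hK : ¬ p ∣ Nat.card K) (φ : K → ℂ) (hφ : IsCharacter K φ) (hfaith : ∀ k, φ k = φ 1 → k = 1)
    (hinv : ∀ g, conjFun K φ g = φ) {n : ℕ} (hn : φ 1 = n) :
    ∃ C : Subgroup Γ, C ≤ A ∧ (∀ x ∈ C, ∀ k ∈ K, x * k = k * x) ∧
      (C.relIndex A).factorization p ≤ bound p n := by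
  classical
  haveI := Fintype.ofFinite K
  haveI := Fintype.ofFinite A
  haveI := Fintype.ofFinite (IrrCharacter K)
  have hcop : K.index.Coprime (Nat.card K) := by
    have hmap : A.map (QuotientGroup.mk' K) = ⊤ := by
      rw [← Subgroup.map_top_of_surjective _ (QuotientGroup.mk'_surjective K), ← hKA,
        Subgroup.map_sup, QuotientGroup.map_mk'_self, bot_sup_eq]
    have hq : IsPGroup p (Γ ⧸ K) := fun x => by
      obtain ⟨a, ha, rfl⟩ : x ∈ A.map (QuotientGroup.mk' K) := hmap ▸ Subgroup.mem_top x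
      obtain ⟨k, hk⟩ := hA ⟨a, ha⟩
      exact ⟨k, by rw [← map_pow, show a ^ p ^ k = 1 from congrArg Subtype.val hk, map_one]⟩
    obtain ⟨k, hk⟩ := IsPGroup.iff_card.1 hq
    rw [Subgroup.index_eq_card, hk]
    exact Nat.Coprime.pow_left k (hp.out.coprime_iff_not_dvd.2 hK)
  set S0 : Finset (IrrCharacter K) := Finset.univ.filter fun θ => classInner φ (θ : K → ℂ) ≠ 0 with hS0
  set S : Finset (K → ℂ) := S0.image Subtype.val with hS
  let orb : (K → ℂ) → Finset (K → ℂ) := fun f => Finset.univ.image fun x : Γ => conjFun K f x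
  have hself : ∀ f, f ∈ orb f := fun f =>
    Finset.mem_image.2 ⟨1, Finset.mem_univ _, conjFun_one K f⟩
  have horb : ∀ f g, g ∈ orb f → orb g = orb f := by
    intro f g hg
    obtain ⟨x, -, rfl⟩ := Finset.mem_image.1 hg
    ext h
    simp only [orb, Finset.mem_image, Finset.mem_univ, true_and, ← conjFun_mul]
    exact ⟨fun ⟨y, hy⟩ => ⟨x * y, hy⟩, fun ⟨y, hy⟩ => ⟨x⁻¹ * y, by rw [mul_inv_cancel_left]; exact hy⟩⟩
  have hclosed : ∀ f ∈ S, orb f ⊆ S := by
    intro f hf g hg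
    obtain ⟨θ, hθ, rfl⟩ := Finset.mem_image.1 hf
    obtain ⟨x, -, rfl⟩ := Finset.mem_image.1 hg
    refine Finset.mem_image.2 ⟨⟨_, isIrrCharacter_conjFun K θ.2 x⟩,
      Finset.mem_filter.2 ⟨Finset.mem_univ _, ?_⟩, rfl⟩
    show classInner φ (conjFun K (θ : K → ℂ) x) ≠ 0
    conv_lhs => rw [← hinv x]
    rw [classInner_conjFun]
    exact (Finset.mem_filter.1 hθ).2
  set 𝒪 := S.image orb with h𝒪
  have hrep : ∀ O ∈ 𝒪, ∃ θ : IrrCharacter K, orb (θ : K → ℂ) = O := by
    intro O hO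
    obtain ⟨f, hf, rfl⟩ := Finset.mem_image.1 hO
    obtain ⟨θ, -, rfl⟩ := Finset.mem_image.1 hf
    exact ⟨θ, rfl⟩
  choose θf hθf using hrep
  have hex : ∀ O : 𝒪, ∃ Φ : Γ → ℂ, IsCharacter Γ Φ ∧
      (∀ τ : ℂ ≃+* ℂ, (∀ x : ℂ, x ^ Nat.card K = 1 → τ x = x) → ∀ g, τ (Φ g) = Φ g) ∧
      ∀ k : K, Φ k = ∑ f ∈ O.1, f k := fun O => by
    obtain ⟨Φ, h1, h2, h3⟩ := exists_over_orbit K hcop (θf O.1 O.2)
    refine ⟨Φ, h1, h2, fun k => ?_⟩
    rw [h3]
    exact Finset.sum_congr (hθf O.1 O.2) fun _ _ => rfl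
  choose Φ hΦc hΦfix hΦres using hex
  set Ψ : Γ → ℂ := ∑ O : 𝒪, Φ O with hΨ
  have hΨc : IsCharacter Γ Ψ := isCharacter_sum _ _ fun O _ => hΦc O
  have hΨres : ∀ k : K, Ψ k = ∑ θ ∈ S0, (θ : K → ℂ) k := fun k => by
    rw [hΨ, Finset.sum_apply]
    simp only [hΦres]
    have hdisj : ((𝒪 : Finset (Finset (K → ℂ))) : Set (Finset (K → ℂ))).PairwiseDisjoint id := by
      intro O hO O' hO' hne
      rw [Function.onFun, Finset.disjoint_left]
      intro f hf hf'
      obtain ⟨a, -, rfl⟩ := Finset.mem_image.1 hO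
      obtain ⟨b, -, rfl⟩ := Finset.mem_image.1 hO'
      exact hne ((horb a f hf).symm.trans (horb b f hf'))
    have hU : 𝒪.biUnion id = S := by
      ext f
      simp only [Finset.mem_biUnion, id]
      refine ⟨fun ⟨O, hO, hf⟩ => ?_, fun hf => ⟨orb f, Finset.mem_image_of_mem _ hf, hself f⟩⟩
      obtain ⟨a, ha, rfl⟩ := Finset.mem_image.1 hO
      exact hclosed a ha hf
    rw [Finset.sum_coe_sort 𝒪 (fun O => ∑ f ∈ O, f k),
      ← Finset.sum_image (s := S0) (f := fun f : K → ℂ => f k) (g := Subtype.val)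
        fun a _ b _ h => Subtype.ext h, ← hS, ← hU, Finset.sum_biUnion hdisj]
    rfl
  -- degrees
  choose dθ hdθ0 hdθ using fun θ : IrrCharacter K => isIrrCharacter_degree θ.2
  choose mθ hmθ using fun θ : IrrCharacter K => classInner_char_irr_nat hφ θ
  have hexp := classFun_expand (f := φ) (isClassFunction_of_isCharacter hφ)
  have hΨ1 : Ψ 1 = ((∑ θ ∈ S0, dθ θ : ℕ) : ℂ) := by
    have := hΨres 1
    rw [OneMemClass.coe_one] at this
    rw [this, Nat.cast_sum]
    exact Finset.sum_congr rfl fun θ _ => hdθ θ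
  have hdeg : ∑ θ ∈ S0, dθ θ ≤ n := by
    have h1 : n = ∑ θ : IrrCharacter K, mθ θ * dθ θ := by
      have h2 := congrFun hexp 1
      rw [hn, Finset.sum_apply] at h2
      simp only [Pi.smul_apply, smul_eq_mul, hmθ, hdθ] at h2
      exact_mod_cast h2
    rw [h1]
    refine (Finset.sum_le_sum fun θ hθ => ?_).trans (Finset.sum_le_univ_sum_of_nonneg fun θ => Nat.zero_le _)
    refine Nat.le_mul_of_pos_left _ (Nat.pos_of_ne_zero fun h0 => (Finset.mem_filter.1 hθ).2 ?_)
    rw [hmθ, h0, Nat.cast_zero]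
  -- rationality on `A`
  have hψc : IsCharacter A (fun a : A => Ψ a) := isCharacter_comp hΨc A.subtype
  have hrat : ∀ (g : A) (a : ℕ), a.Coprime p → Ψ ((g ^ a : A) : Γ) = Ψ (g : Γ) := by
    intro g a ha
    obtain ⟨e, he⟩ := hA g
    obtain ⟨τ, hτ1, hτ2⟩ := exists_aut_fix_pow (n := Nat.card K) (m := p ^ e) Nat.card_pos.ne'
      (pow_ne_zero _ hp.out.ne_zero)
      (Nat.Coprime.pow_right e (Nat.coprime_comm.1 (hp.out.coprime_iff_not_dvd.2 hK)))
      (Nat.Coprime.pow_right e ha)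
    haveI : NeZero (Nat.card K) := ⟨Nat.card_pos.ne'⟩
    haveI : NeZero (p ^ e) := ⟨pow_ne_zero _ hp.out.ne_zero⟩
    have hτfix : ∀ x : ℂ, x ^ Nat.card K = 1 → τ x = x := fun x hx => fix_root_of_fix_exp hτ1 hx
    obtain ⟨d, ρ, hρ⟩ := hΨc
    obtain ⟨b, μ, h1, -, h3⟩ := exists_eigen_data ρ (g : Γ)
    have hge : (g : Γ) ^ p ^ e = 1 := congrArg Subtype.val he
    have hτμ : ∀ i, τ (μ i) = μ i ^ a := fun i => by
      have hμe : μ i ^ p ^ e = 1 := by
        obtain ⟨t, ht⟩ := orderOf_dvd_of_pow_eq_one hge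
        rw [ht, pow_mul, h1, one_pow]
      obtain ⟨l, -, hl⟩ :=
        (Complex.isPrimitiveRoot_exp (p ^ e) (NeZero.ne _)).eq_pow_of_pow_eq_one hμe
      rw [← hl, map_pow, hτ2, ← pow_mul, ← pow_mul, mul_comm a l]
    have h31 := h3 1
    simp only [pow_one] at h31
    have hτΨ : τ (Ψ g) = Ψ g := by
      rw [hΨ, Finset.sum_apply, map_sum]
      exact Finset.sum_congr rfl fun O _ => hΦfix O τ hτfix _
    rw [← hτΨ, ← hρ, SubgroupClass.coe_pow, h3, h31, map_sum]
    exact Finset.sum_congr rfl fun i _ => (hτμ i).symm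
  obtain ⟨C, hC, hCb⟩ := exists_bound hψc (m := ∑ θ ∈ S0, dθ θ)
    (by simpa using hΨ1) hA hrat
  refine ⟨C.map A.subtype, Subgroup.map_subtype_le C, ?_, ?_⟩
  · rintro _ ⟨x, hx, rfl⟩ k hk
    obtain ⟨d, ρ, hρ⟩ := hΨc
    have hρx : ρ (x : Γ) = LinearMap.id := (char_eq_degree_iff ρ _).1 (by
      rw [← Representation.char_one ρ, hρ]
      simpa using hC x hx)
    set c : K := ⟨(x : Γ) * k * (x : Γ)⁻¹ * k⁻¹,
      K.mul_mem ((inferInstance : K.Normal).conj_mem k hk x) (K.inv_mem hk)⟩ with hc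
    have hρc : ρ (c : Γ) = LinearMap.id := by
      have hxi : ρ (x : Γ)⁻¹ = LinearMap.id := by
        have h1 : ρ (x : Γ) * ρ (x : Γ)⁻¹ = 1 := by rw [← map_mul, mul_inv_cancel, map_one]
        rwa [hρx, ← Module.End.one_eq_id, one_mul] at h1
      show ρ ((x : Γ) * k * (x : Γ)⁻¹ * k⁻¹) = _
      rw [map_mul, map_mul, map_mul, hρx, hxi, ← Module.End.one_eq_id, one_mul, mul_one, ← map_mul,
        mul_inv_cancel, map_one]
    have hΨc1 : Ψ (c : Γ) = Ψ 1 := by
      rw [← hρ, Representation.char_one]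
      exact (char_eq_degree_iff ρ _).2 hρc
    rw [hΨres, hΨ1, Nat.cast_sum] at hΨc1
    have hall := eq_of_sum_eq S0 (fun θ => (θ : K → ℂ) c) dθ (fun θ _ => ?_) hΨc1
    · have hc1 : c = 1 := hfaith c (by
        have e1 := congrFun hexp c
        have e2 := congrFun hexp 1
        rw [e1, e2, Finset.sum_apply, Finset.sum_apply]
        refine Finset.sum_congr rfl fun θ _ => ?_
        rw [Pi.smul_apply, Pi.smul_apply]
        by_cases h0 : classInner φ (θ : K → ℂ) = 0
        · rw [h0, zero_smul, zero_smul]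
        · rw [hall θ (Finset.mem_filter.2 ⟨Finset.mem_univ _, h0⟩), hdθ])
      have h7 : (x : Γ) * k * (x : Γ)⁻¹ * k⁻¹ = 1 := congrArg Subtype.val hc1
      exact mul_inv_eq_iff_eq_mul.1 (mul_inv_eq_one.1 h7)
    · obtain ⟨m, σ, hσ, he⟩ := θ.2
      have h8 := norm_char_le σ c
      rw [he] at h8
      have h9 : (Module.finrank ℂ (Fin m → ℂ) : ℂ) = (dθ θ : ℂ) := by
        rw [← Representation.char_one σ, he, hdθ]
      rw [Nat.cast_inj] at h9
      rwa [h9] at h8
  · rw [Subgroup.relIndex, ← Subgroup.comap_subtype, Subgroup.comap_map_eq_self_of_injective A.subtype_injective]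
    exact hCb.trans (bound_mono hdeg)

end CfsgLib.Char.SchurBound
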