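import Cfsg.Agent.Lib.Char.CoprimeCyclicAction
import Cfsg.Agent.Lib.Char.Integrality
import Mathlib.NumberTheory.Padics.PadicVal.Basic

/-!
# Rational characters of `p`-groups and coprime actions on linear groups

Schur's bound on the order of a `p`-group with a faithful rational character of degree `m`, and
its consequence for a `p`-group acting on a `p'`-subgroup of a linear group.
-/

set_option autoImplicit false
set_option linter.unusedSectionVars false
set_option linter.style.haveILetI false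

namespace CfsgLib.Char.SchurBound

open scoped ComplexConjugate
open Cfsg CfsgLib.Char

universe u

variable {p : ℕ} [hp : Fact p.Prime]

/-- The exponent in Schur's bound. -/
def bound (p m : ℕ) : ℕ := ∑ i ∈ Finset.range (m + 1), m / ((p - 1) * p ^ i)

section Values

variable {A : Type u} [Group A] [Finite A]

theorem sum_pow_root {N : ℕ} (hN : N ≠ 0) {x : ℂ} (hx : x ^ N = 1) :
    ∑ k ∈ Finset.range N, x ^ k = if x = 1 then (N : ℂ) else 0 := by
  split_ifs with h
  · simp [h]
  · rw [geom_sum_eq h, hx, sub_self, zero_div]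

theorem sum_split (f : ℕ → ℂ) (q : ℕ) :
    ∑ k ∈ Finset.range (p * q), f k =
      (∑ k ∈ (Finset.range (p * q)).filter (fun k => k.Coprime p), f k) +
        ∑ l ∈ Finset.range q, f (p * l) := by
  rw [← Finset.sum_filter_add_sum_filter_not (Finset.range (p * q)) (fun k => k.Coprime p)]
  congr 1
  rw [← Finset.sum_image (f := f) (g := fun l => p * l) fun a _ b _ h =>
    Nat.eq_of_mul_eq_mul_left hp.out.pos h]
  refine Finset.sum_congr ?_ fun _ _ => rfl
  ext k
  simp only [Finset.mem_filter, Finset.mem_range, Finset.mem_image]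
  refine ⟨fun ⟨hk, hc⟩ => ?_, ?_⟩
  · rw [Nat.coprime_comm, hp.out.coprime_iff_not_dvd, not_not] at hc
    obtain ⟨l, rfl⟩ := hc
    exact ⟨l, Nat.lt_of_mul_lt_mul_left hk, rfl⟩
  · rintro ⟨l, hl, rfl⟩
    refine ⟨Nat.mul_lt_mul_of_pos_left hl hp.out.pos, fun hc => ?_⟩
    exact hp.out.coprime_iff_not_dvd.1 (Nat.coprime_comm.1 hc) (dvd_mul_right p l)

theorem cong_sum {ι : Type*} [Fintype ι] {N : ℕ} (hN : 1 ≤ N) (μ : ι → ℂ) {e : ℕ}
    (hμ : ∀ i, μ i ^ p ^ e = 1) (hNe : N = p ^ e) {z : ℤ} (hz : ∑ i, μ i = z) :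
    (p : ℤ) ∣ z - (Fintype.card ι : ℤ) := by
  let R := integralClosure ℤ ℂ
  have hint : ∀ i, μ i ∈ R := fun i =>
    IsIntegral.of_pow (pow_pos hp.out.pos e) (by rw [hμ i]; exact isIntegral_one)
  let μR : ι → R := fun i => ⟨μ i, hint i⟩
  have hp' : ¬ IsUnit (p : R) := by
    intro hu
    obtain ⟨y, hy⟩ := hu.exists_right_inv
    have hy' : (p : ℂ) * (y : ℂ) = 1 := by
      have := congrArg Subtype.val hy
      simpa using this
    have hyi : IsIntegral ℤ (y : ℂ) := y.2
    rw [eq_inv_of_mul_eq_one_right hy'] at hyi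
    have hq : IsIntegral ℤ ((p : ℚ)⁻¹) := by
      refine (isIntegral_algebraMap_iff (algebraMap ℚ ℂ).injective).mp ?_
      simpa using hyi
    obtain ⟨k, hk⟩ := IsIntegrallyClosed.isIntegral_iff.mp hq
    have h1 : (k : ℚ) * p = 1 := by
      rw [show (k : ℚ) = (p : ℚ)⁻¹ by simpa using hk]
      exact inv_mul_cancel₀ (by exact_mod_cast hp.out.ne_zero)
    have h2 : (p : ℤ) ∣ 1 := ⟨k, by rw [mul_comm]; exact_mod_cast h1.symm⟩
    exact hp.out.one_lt.ne' (Nat.dvd_one.1 (by exact_mod_cast h2))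
  haveI := CharP.quotient R p hp'
  let π := Ideal.Quotient.mk (Ideal.span ({(p : R)} : Set R))
  have hzR : (∑ i, μR i) = (z : R) := Subtype.ext (by
    have := hz
    simpa [μR] using this)
  have h1 : ((z : ℤ) : R ⧸ Ideal.span ({(p : R)} : Set R)) ^ p ^ e = (Fintype.card ι : ℤ) := by
    rw [← map_intCast π z, ← hzR, map_sum, sum_pow_char_pow]
    simp only [← map_pow]
    rw [Finset.sum_congr rfl fun i _ => show π (μR i ^ p ^ e) = 1 by
      rw [show μR i ^ p ^ e = 1 from Subtype.ext (by simpa [μR] using hμ i), map_one]]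
    simp
  have h2 : ∀ k : ℕ, ((z : ℤ) : R ⧸ Ideal.span ({(p : R)} : Set R)) ^ p ^ k = (z : ℤ) := fun k => by
    have hcast := map_intCast (ZMod.castHom (dvd_refl p) (R ⧸ Ideal.span ({(p : R)} : Set R))) z
    rw [← hcast, ← map_pow, ZMod.pow_card_pow]
  rw [h2] at h1
  exact (CharP.intCast_eq_zero_iff (R ⧸ Ideal.span ({(p : R)} : Set R)) p _).1
    (by rw [Int.cast_sub, h1, sub_self])

/-- The values of a rational character of a `p`-group. -/
theorem exists_value {m : ℕ} {V : Type*} [AddCommGroup V] [Module ℂ V] [FiniteDimensional ℂ V]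
    (ρ : Representation ℂ A V) (hm : Module.finrank ℂ V = m) (hA : IsPGroup p A)
    (hrat : ∀ (g : A) (a : ℕ), a.Coprime p → ρ.character (g ^ a) = ρ.character g) (g : A) :
    ∃ j : ℕ, j ≤ m / (p - 1) ∧ ρ.character g = (m : ℂ) - (p : ℂ) * j := by
  classical
  obtain ⟨e₀, he₀⟩ := hA g
  set q := p ^ e₀ with hq
  have hN : g ^ (p * q) = 1 := by rw [mul_comm, pow_mul, he₀, one_pow]
  obtain ⟨b, μ, h1, -, h3⟩ := exists_eigen_data ρ g
  have hμN : ∀ i, μ i ^ (p * q) = 1 := fun i => by
    obtain ⟨t, ht⟩ := orderOf_dvd_of_pow_eq_one hN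
    rw [ht, pow_mul, h1, one_pow]
  have hq0 : q ≠ 0 := pow_ne_zero _ hp.out.ne_zero
  have hz : ∀ k ∈ (Finset.range (p * q)).filter (fun k => k.Coprime p),
      ∑ i, μ i ^ k = ρ.character g := fun k hk => by
    rw [← h3, hrat g k (Finset.mem_filter.1 hk).2]
  set z := ρ.character g with hzdef
  set c := (Finset.univ.filter fun i => μ i = 1).card with hc
  set c' := (Finset.univ.filter fun i => μ i ^ p = 1).card with hc'
  have hcc : c ≤ c' := Finset.card_le_card fun i hi => by
    simp only [Finset.mem_filter, Finset.mem_univ, true_and] at hi ⊢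
    rw [hi, one_pow]
  have hcm : c' ≤ m := (Finset.card_le_univ _).trans (by rw [Fintype.card_fin, hm])
  have hfil : (((Finset.range (p * q)).filter (fun k => k.Coprime p)).card : ℂ) =
      ((p : ℂ) - 1) * q := by
    have h := sum_split (p := p) (fun _ => (1 : ℂ)) q
    simp only [Finset.sum_const, Finset.card_range, nsmul_eq_mul, mul_one, Nat.cast_mul] at h
    linear_combination -h
  have hkey : ((p : ℂ) - 1) * z = (p : ℂ) * c - c' := by
    have h : ∑ i, ∑ k ∈ Finset.range (p * q), μ i ^ k =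
        (∑ k ∈ (Finset.range (p * q)).filter (fun k => k.Coprime p), ∑ i, μ i ^ k) +
          ∑ i, ∑ l ∈ Finset.range q, μ i ^ (p * l) := by
      rw [Finset.sum_comm (s := Finset.univ) (t := (Finset.range q)), Finset.sum_comm,
        sum_split (p := p) (fun k => ∑ i, μ i ^ k) q]
    rw [Finset.sum_congr rfl hz, Finset.sum_const, nsmul_eq_mul, hfil,
      Finset.sum_congr rfl (fun i _ => sum_pow_root (Nat.mul_ne_zero hp.out.ne_zero hq0) (hμN i)),
      Finset.sum_congr rfl (fun i _ => show ∑ l ∈ Finset.range q, μ i ^ (p * l) =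
          if μ i ^ p = 1 then (q : ℂ) else 0 by
        simp only [pow_mul]
        exact sum_pow_root hq0 (by rw [← pow_mul, hμN i])),
      ← Finset.sum_filter, ← Finset.sum_filter, Finset.sum_const, Finset.sum_const, nsmul_eq_mul,
      nsmul_eq_mul, ← hc, ← hc', Nat.cast_mul] at h
    have hq' : (q : ℂ) ≠ 0 := Nat.cast_ne_zero.2 hq0
    apply mul_right_cancel₀ hq'
    linear_combination -h
  have hint : IsIntegral ℤ z := char_pow_eq_sum_isIntegral ρ g
  obtain ⟨zi, hzi⟩ : ∃ zi : ℤ, z = zi := by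
    have hp1 : ((p : ℂ) - 1) ≠ 0 := by
      rw [sub_ne_zero]
      exact_mod_cast hp.out.one_lt.ne'
    have hzq : z = (((p * c - c' : ℚ) / (p - 1) : ℚ) : ℂ) := by
      push_cast
      rw [eq_div_iff hp1, mul_comm]
      exact hkey
    have hint' : IsIntegral ℤ ((p * c - c' : ℚ) / (p - 1) : ℚ) :=
      (isIntegral_algebraMap_iff (algebraMap ℚ ℂ).injective).mp (by
        rw [eq_ratCast, ← hzq]; exact hint)
    obtain ⟨k, hk⟩ := IsIntegrallyClosed.isIntegral_iff.mp hint'
    refine ⟨k, ?_⟩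
    rw [hzq, ← hk]
    simp
  have hcong : (p : ℤ) ∣ zi - (m : ℤ) := by
    have h4 := h3 1
    simp only [pow_one] at h4
    have := cong_sum (p := p) (N := p ^ (e₀ + 1)) (Nat.one_le_pow _ _ hp.out.pos) μ (e := e₀ + 1)
      (fun i => by rw [pow_succ', ← hq]; exact hμN i) rfl (z := zi) (by rw [← h4, ← hzi])
    rwa [Fintype.card_fin, hm] at this
  have hkz : ((p : ℤ) - 1) * zi = (p : ℤ) * c - c' := by
    rw [hzi] at hkey
    exact_mod_cast hkey
  have hp2 : (2 : ℤ) ≤ p := by exact_mod_cast hp.out.two_le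
  have hle : zi ≤ m := by
    by_contra hlt
    push Not at hlt
    nlinarith [mul_lt_mul_of_pos_left hlt (show (0 : ℤ) < p - 1 by omega),
      (show (c : ℤ) ≤ c' by exact_mod_cast hcc), (show (c' : ℤ) ≤ m by exact_mod_cast hcm)]
  obtain ⟨j, hj⟩ := hcong
  obtain ⟨j', hj'⟩ : ∃ j' : ℕ, -j = j' := ⟨(-j).toNat, (Int.toNat_of_nonneg (by nlinarith)).symm⟩
  refine ⟨j', (Nat.le_div_iff_mul_le (Nat.sub_pos_of_lt hp.out.one_lt)).2 ?_, ?_⟩
  · have h5 : ((p : ℤ) - 1) * ((p : ℤ) * j') ≤ (p : ℤ) * m := by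
      have hcm' : (c' : ℤ) ≤ m := by exact_mod_cast hcm
      have hc0 : (0 : ℤ) ≤ (p : ℤ) * c := by positivity
      rw [← hj']
      nlinarith
    have h6 : (j' : ℤ) * ((p : ℤ) - 1) ≤ m :=
      le_of_mul_le_mul_left (a := (p : ℤ)) (by linarith) (by omega)
    have : ((j' * (p - 1) : ℕ) : ℤ) ≤ (m : ℤ) := by
      rw [Nat.cast_mul, Nat.cast_sub hp.out.one_le, Nat.cast_one]; exact h6
    exact_mod_cast this
  · rw [hzi]
    have h7 : zi = (m : ℤ) - (p : ℤ) * j' := by rw [← hj']; linarith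
    rw [h7]
    push_cast
    ring

theorem sum_pow_char (ψ : A → ℂ) [Fintype A] (hψ : IsCharacter A ψ) (i : ℕ) :
    ∃ N : ℤ, ∑ a, ψ a ^ i = (Fintype.card A : ℂ) * N := by
  have h1 : IsCharacter A (fun _ : A => (1 : ℂ)) := by
    have := isCharacter_hom (1 : A →* ℂˣ)
    simpa using this
  have hpow : IsCharacter A (fun a => ψ a ^ i) := by
    induction i with
    | zero => simpa using h1
    | succ i ih => simp only [pow_succ]; exact isCharacter_mul ih hψ
  obtain ⟨M, hM⟩ := classInner_isCharacter hpow h1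
  refine ⟨M, ?_⟩
  rw [classInner] at hM
  simp only [map_one, mul_one] at hM
  have hne : (Nat.card A : ℂ) ≠ 0 := Nat.cast_ne_zero.2 Nat.card_pos.ne'
  rw [Int.cast_natCast, ← hM, ← Nat.card_eq_fintype_card]
  field_simp

theorem legendre (J m : ℕ) (hJ : J = m / (p - 1)) :
    (p ^ J * J.factorial).factorization p = bound p m := by
  rw [Nat.factorization_mul (pow_ne_zero _ hp.out.ne_zero) J.factorial_ne_zero, Finsupp.add_apply,
    hp.out.factorization_pow, Finsupp.single_eq_same,
    Nat.factorization_def _ hp.out, padicValNat_factorial (b := m + 1) ?_]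
  · rw [bound, Finset.range_eq_Ico,
      Finset.sum_eq_sum_Ico_succ_bot (Nat.succ_pos m) (fun i => m / ((p - 1) * p ^ i)),
      pow_zero, mul_one, ← hJ]
    simp only [← Nat.div_div_eq_div_mul, ← hJ]
  · refine Nat.log_lt_of_lt_pow' (Nat.succ_ne_zero m) ?_
    calc J ≤ m := hJ ▸ Nat.div_le_self m _
      _ < m + 1 := Nat.lt_succ_self m
      _ < p ^ (m + 1) := Nat.lt_pow_self hp.out.one_lt

/-- Schur's bound. -/
theorem exists_bound [Fintype A] {ψ : A → ℂ} (hψ : IsCharacter A ψ) {m : ℕ} (hm : ψ 1 = m)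
    (hA : IsPGroup p A) (hrat : ∀ (g : A) (a : ℕ), a.Coprime p → ψ (g ^ a) = ψ g) :
    ∃ C : Subgroup A, (∀ x ∈ C, ψ x = ψ 1) ∧ C.index.factorization p ≤ bound p m := by
  classical
  obtain ⟨d, ρ, rfl⟩ := hψ
  have hd : Module.finrank ℂ (Fin d → ℂ) = m := by
    rw [Representation.char_one] at hm
    exact_mod_cast hm
  set C := (ρ : A →* _).ker with hC
  have hmem : ∀ x, x ∈ C ↔ ρ.character x = ρ.character 1 := fun x => by
    rw [Representation.char_one, char_eq_degree_iff ρ x]
    rfl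
  refine ⟨C, fun x hx => (hmem x).1 hx, ?_⟩
  set J := m / (p - 1) with hJ
  let f : A → ℂ := fun a => ∏ j ∈ Finset.Icc 1 J, (ρ.character a - ((m : ℂ) - (p : ℂ) * j))
  have hf0 : ∀ a ∉ C, f a = 0 := fun a ha => by
    obtain ⟨j, hj, he⟩ := exists_value ρ hd hA hrat a
    refine Finset.prod_eq_zero (Finset.mem_Icc.2 ⟨Nat.one_le_iff_ne_zero.2 fun h0 => ha ?_, hj⟩)
      (by rw [he, sub_self])
    rw [hmem, he, h0, hm, Nat.cast_zero, mul_zero, sub_zero]
  have hf1 : ∀ a ∈ C, f a = ((p ^ J * J.factorial : ℕ) : ℂ) := fun a ha => by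
    show ∏ j ∈ Finset.Icc 1 J, _ = _
    rw [Finset.prod_congr rfl (g := fun j : ℕ => (p : ℂ) * (j : ℂ)) fun j _ => by
      rw [(hmem a).1 ha, hm]; ring, Finset.prod_mul_distrib, Finset.prod_const, Nat.card_Icc,
      Nat.add_sub_cancel, ← Finset.prod_natCast, Nat.cast_mul, Nat.cast_pow]
    congr 1
    rw [show Finset.Icc 1 J = Finset.Ico 1 (J + 1) from by ext; simp,
      Finset.prod_Ico_id_eq_factorial]
  -- the sum of `f` is an integral multiple of the order
  let P : Polynomial ℤ := ∏ j ∈ Finset.Icc 1 J, (Polynomial.X - Polynomial.C ((m : ℤ) - (p : ℤ) * j))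
  have hfP : ∀ a, f a = P.eval₂ (Int.castRingHom ℂ) (ρ.character a) := fun a => by
    rw [Polynomial.eval₂_finset_prod]
    refine Finset.prod_congr rfl fun j _ => ?_
    simp
  choose N hN using fun i => sum_pow_char ρ.character ⟨d, ρ, rfl⟩ i
  have hsum : ∑ a, f a = (Fintype.card A : ℂ) * ((∑ i ∈ Finset.range (P.natDegree + 1),
      P.coeff i * N i : ℤ) : ℂ) := by
    simp only [hfP, Polynomial.eval₂_eq_sum_range]
    rw [Finset.sum_comm, Int.cast_sum, Finset.mul_sum]
    refine Finset.sum_congr rfl fun i _ => ?_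
    rw [← Finset.mul_sum, hN, Int.cast_mul, eq_intCast]
    ring
  have hsum' : ∑ a, f a = ((Nat.card C * (p ^ J * J.factorial) : ℕ) : ℂ) := by
    rw [← Finset.sum_subset (Finset.subset_univ (Finset.univ.filter fun a => a ∈ C))
      (fun a _ ha => hf0 a (by simpa using ha)),
      Finset.sum_congr rfl fun a ha => hf1 a (Finset.mem_filter.1 ha).2, Finset.sum_const,
      nsmul_eq_mul, Nat.cast_mul, Nat.card_eq_fintype_card, Fintype.card_subtype]
    norm_num
  have hdvd : Nat.card A ∣ Nat.card C * (p ^ J * J.factorial) := by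
    rw [Nat.card_eq_fintype_card (α := A), ← Int.natCast_dvd_natCast]
    refine ⟨∑ i ∈ Finset.range (P.natDegree + 1), P.coeff i * N i, ?_⟩
    have := hsum'.symm.trans hsum
    exact_mod_cast this
  rw [← C.index_mul_card, mul_comm (Nat.card C)] at hdvd
  rw [← legendre J m hJ]
  exact (Nat.factorization_le_iff_dvd Subgroup.index_ne_zero_of_finite
    (Nat.mul_ne_zero (pow_ne_zero _ hp.out.ne_zero) J.factorial_ne_zero)).2
    (Nat.dvd_of_mul_dvd_mul_right Nat.card_pos hdvd) p

theorem bound_mono {m n : ℕ} (h : m ≤ n) : bound p m ≤ bound p n :=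
  (Finset.sum_le_sum fun i _ => Nat.div_le_div_right h).trans
    (Finset.sum_le_sum_of_subset fun i hi => by
      simp only [Finset.mem_range] at hi ⊢; omega)

end Values

end CfsgLib.Char.SchurBound
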