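import Mathlib
import Cfsg.Agent.Lib.Coprime.Core
import Cfsg.Agent.Lib.Char.Orthogonality

/-!
# A self-centralizing element of prime order

`x` has order `p` and `C_G(x) = ⟨x⟩`.
-/

set_option autoImplicit false

namespace CfsgLib.Char.SelfCentPrime

open scoped commutatorElement

universe u

variable {G : Type u} [Group G] [Finite G] {p : ℕ} {x : G}

/-- The standing hypothesis. -/
structure Hyp (p : ℕ) (x : G) : Prop where
  prime : p.Prime
  order : orderOf x = p
  cent : Subgroup.centralizer ({x} : Set G) = Subgroup.zpowers x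

local notation "P" => Subgroup.zpowers x
local notation "N" => Subgroup.normalizer (Subgroup.zpowers x : Set G)
local notation "K" => Cfsg.pPrimeCore p G

namespace Hyp

variable (h : Hyp p x)
include h

theorem card_P : Nat.card P = p := by rw [Nat.card_zpowers, h.order]

theorem ne_one : x ≠ 1 := fun e => h.prime.ne_one (by rw [← h.order, e, orderOf_one])

theorem mem_P_of_comm {y : G} (hy : y * x = x * y) : y ∈ P := by
  rw [← h.cent]; exact Subgroup.mem_centralizer_singleton_iff.mpr hy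

theorem cent_P : Subgroup.centralizer (P : Set G) = P := by
  refine le_antisymm (fun y hy => h.mem_P_of_comm
    ((Subgroup.mem_centralizer_iff.mp hy x (Subgroup.mem_zpowers x)).symm)) fun y hy => ?_
  refine Subgroup.mem_centralizer_iff.mpr fun z hz => ?_
  obtain ⟨i, rfl⟩ := hy
  obtain ⟨j, rfl⟩ := hz
  exact (Commute.zpow_zpow (Commute.refl x) j i).eq

theorem not_sq : ¬ p ^ 2 ∣ Nat.card G := by
  haveI : Fact p.Prime := ⟨h.prime⟩
  obtain ⟨Q, hQ⟩ := (IsPGroup.of_card (n := 1) (by rw [h.card_P, pow_one]) : IsPGroup p P).exists_le_sylow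
  haveI : Nontrivial Q := by
    refine ⟨⟨⟨x, hQ (Subgroup.mem_zpowers x)⟩, 1, fun e => h.ne_one (congrArg Subtype.val e)⟩⟩
  obtain ⟨z, hz⟩ := (Subgroup.nontrivial_iff_exists_ne_one _).mp Q.2.center_nontrivial
  have hzP : (z : G) ∈ P := h.mem_P_of_comm
    (congrArg Subtype.val (Subgroup.mem_center_iff.mp hz.1 ⟨x, hQ (Subgroup.mem_zpowers x)⟩)).symm
  have hgen : Subgroup.zpowers (z : G) = P := by
    refine Subgroup.eq_of_le_of_card_ge (Subgroup.zpowers_le.mpr hzP) (le_of_eq ?_)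
    have hd : orderOf (z : G) ∣ p := by
      have := orderOf_dvd_natCard (⟨(z : G), hzP⟩ : P)
      rwa [h.card_P, Subgroup.orderOf_mk] at this
    rw [h.card_P, Nat.card_zpowers]
    exact ((h.prime.eq_one_or_self_of_dvd _ hd).resolve_left fun e =>
      hz.2 (Subtype.ext (orderOf_eq_one_iff.mp e))).symm
  have hQP : (Q : Subgroup G) ≤ P := by
    intro y hy
    have hy' : Commute y (z : G) := congrArg Subtype.val (Subgroup.mem_center_iff.mp hz.1 ⟨y, hy⟩)
    obtain ⟨i, hi⟩ := Subgroup.mem_zpowers_iff.mp (hgen ▸ Subgroup.mem_zpowers x : x ∈ Subgroup.zpowers (z : G))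
    exact h.mem_P_of_comm (hi ▸ hy'.zpow_right i).eq
  intro hsq
  have h1 : Nat.card Q = p := le_antisymm ((Subgroup.card_le_of_le hQP).trans h.card_P.le)
    (h.card_P.symm.le.trans (Subgroup.card_le_of_le hQ))
  rw [Q.card_eq_multiplicity] at h1
  have := (h.prime.pow_dvd_iff_le_factorization Nat.card_pos.ne').mp hsq
  have := (Nat.pow_eq_self_iff h.prime.one_lt).mp h1
  omega

/-- `P` as a Sylow subgroup. -/
noncomputable def sylow [Fact p.Prime] : Sylow p G :=
  Sylow.ofCard P (by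
    rw [h.card_P]
    have h1 : p ∣ Nat.card G := h.card_P ▸ Subgroup.card_subgroup_dvd_card P
    have h2 := (h.prime.dvd_iff_one_le_factorization Nat.card_pos.ne').mp h1
    have h3 : ¬ 2 ≤ (Nat.card G).factorization p := fun e =>
      h.not_sq ((h.prime.pow_dvd_iff_le_factorization Nat.card_pos.ne').mpr e)
    rw [show (Nat.card G).factorization p = 1 by omega, pow_one])

theorem coe_sylow [Fact p.Prime] : ((h.sylow : Sylow p G) : Subgroup G) = P := rfl

theorem centralizer_le_normalizer : P ≤ N := Subgroup.le_normalizer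

theorem exists_conj_mem {y : G} (hy : orderOf y = p) : ∃ g : G, g * y * g⁻¹ ∈ P := by
  haveI : Fact p.Prime := ⟨h.prime⟩
  obtain ⟨Q, hQ⟩ := (IsPGroup.of_card (n := 1) (by rw [Nat.card_zpowers, hy, pow_one]) :
    IsPGroup p (Subgroup.zpowers y)).exists_le_sylow
  obtain ⟨g, hg⟩ := MulAction.exists_smul_eq G Q h.sylow
  refine ⟨g, ?_⟩
  have : g * y * g⁻¹ ∈ ((g • Q : Sylow p G) : Subgroup G) := by
    rw [Sylow.coe_subgroup_smul]
    exact Subgroup.smul_mem_pointwise_smul y (MulAut.conj g) _ (hQ (Subgroup.mem_zpowers y))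
  rwa [hg, h.coe_sylow] at this

theorem P_eq_zpowers {z : G} (hz : z ∈ P) (hz1 : z ≠ 1) : Subgroup.zpowers z = P := by
  refine Subgroup.eq_of_le_of_card_ge (Subgroup.zpowers_le.mpr hz) (le_of_eq ?_)
  have hd : orderOf z ∣ p := by
    have := orderOf_dvd_natCard (⟨z, hz⟩ : P)
    rwa [h.card_P, Subgroup.orderOf_mk] at this
  rw [h.card_P, Nat.card_zpowers]
  exact ((h.prime.eq_one_or_self_of_dvd _ hd).resolve_left fun e => hz1 (orderOf_eq_one_iff.mp e)).symm

theorem mem_of_dvd_normal (L : Subgroup G) [L.Normal] (hd : p ∣ Nat.card L) : x ∈ L := by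
  haveI : Fact p.Prime := ⟨h.prime⟩
  obtain ⟨y, hy⟩ := exists_prime_orderOf_dvd_card' (G := L) p hd
  have hy' : orderOf (y : G) = p := (Subgroup.orderOf_coe y).trans hy
  obtain ⟨g, hg⟩ := h.exists_conj_mem hy'
  have hL : g * (y : G) * g⁻¹ ∈ L := Subgroup.Normal.conj_mem inferInstance _ y.2 g
  have hne : g * (y : G) * g⁻¹ ≠ 1 := fun e => h.prime.ne_one (by
    rw [← hy', orderOf_eq_one_iff]
    exact conj_eq_one_iff.mp e)
  exact (Subgroup.zpowers_le.mpr hL) (by rw [h.P_eq_zpowers hg hne]; exact Subgroup.mem_zpowers x)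

theorem centralizer_card {y : G} (hy : orderOf y = p) :
    Nat.card (Subgroup.centralizer ({y} : Set G)) = p := by
  obtain ⟨g, hg⟩ := h.exists_conj_mem hy
  have hne : g * y * g⁻¹ ≠ 1 := fun e => h.prime.ne_one (by
    rw [← hy, orderOf_eq_one_iff]
    exact conj_eq_one_iff.mp e)
  have h1 : Subgroup.centralizer ({g * y * g⁻¹} : Set G) = P := by
    ext u
    rw [Subgroup.mem_centralizer_singleton_iff]
    refine ⟨fun hu => ?_, fun hu => ?_⟩
    · obtain ⟨i, hi⟩ := Subgroup.mem_zpowers_iff.mp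
        ((h.P_eq_zpowers hg hne).symm ▸ Subgroup.mem_zpowers x : x ∈ Subgroup.zpowers (g * y * g⁻¹))
      exact h.mem_P_of_comm (hi ▸ (show Commute u (g * y * g⁻¹) from hu).zpow_right i).eq
    · obtain ⟨i, rfl⟩ := hu
      obtain ⟨j, hj⟩ := hg
      simp only at hj
      rw [← hj]
      exact (Commute.zpow_zpow (Commute.refl x) i j).eq
  rw [← h.card_P, ← h1]
  refine Nat.card_congr ((MulAut.conj g).toEquiv.subtypeEquiv fun u => ?_)
  show u ∈ Subgroup.centralizer ({y} : Set G) ↔ g * u * g⁻¹ ∈ Subgroup.centralizer ({g * y * g⁻¹} : Set G)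
  rw [Subgroup.mem_centralizer_singleton_iff, Subgroup.mem_centralizer_singleton_iff,
    show g * u * g⁻¹ * (g * y * g⁻¹) = g * (u * y) * g⁻¹ by group,
    show g * y * g⁻¹ * (g * u * g⁻¹) = g * (y * u) * g⁻¹ by group]
  exact (mul_left_inj _).trans (mul_right_inj _) |>.symm

theorem mem_P_iff_of_inter {L : Subgroup G} (hL : ¬ p ∣ Nat.card L) {z : G} (hz : z ∈ L) (hzP : z ∈ P) :
    z = 1 := by
  by_contra hne
  refine hL ?_
  have h1 := Subgroup.card_dvd_of_le (Subgroup.zpowers_le.mpr hz)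
  rwa [h.P_eq_zpowers hzP hne, h.card_P] at h1

/-- `x` acts fixed point freely on a normal `p'`-subgroup, so it is `[L, x]`. -/
theorem exists_comm {L : Subgroup G} [L.Normal] (hL : ¬ p ∣ Nat.card L) {z : G} (hz : z ∈ L) :
    ∃ k ∈ L, z = ⁅k, x⁆ := by
  let f : L → L := fun k => ⟨⁅(k : G), x⁆, by
    have : ⁅(k : G), x⁆ = (k : G) * (x * (k : G)⁻¹ * x⁻¹) := by rw [commutatorElement_def]; group
    rw [this]
    exact L.mul_mem k.2 (Subgroup.Normal.conj_mem inferInstance _ (L.inv_mem k.2) x)⟩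
  have hf : Function.Injective f := fun a b e => by
    have e' : ⁅(a : G), x⁆ = ⁅(b : G), x⁆ := congrArg Subtype.val e
    have hc : (b : G)⁻¹ * a * x = x * ((b : G)⁻¹ * a) := by
      calc (b : G)⁻¹ * a * x = (b : G)⁻¹ * ⁅(a : G), x⁆ * (x * a) := by rw [commutatorElement_def]; group
        _ = (b : G)⁻¹ * ⁅(b : G), x⁆ * (x * a) := by rw [e']
        _ = x * ((b : G)⁻¹ * a) := by rw [commutatorElement_def]; group
    exact Subtype.ext (inv_mul_eq_one.mp
      (h.mem_P_iff_of_inter hL (L.mul_mem (L.inv_mem b.2) a.2) (h.mem_P_of_comm hc))).symm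
  obtain ⟨k, hk⟩ := Finite.surjective_of_injective hf ⟨z, hz⟩
  exact ⟨k, k.2, (congrArg Subtype.val hk).symm⟩

theorem core_le_of_mem {A B : Subgroup G} (hA : K ≤ A) (hx : x ∈ B) : K ≤ ⁅A, B⁆ := by
  haveI : (K).Normal := Subgroup.sSup_normal _ (fun _ hh => hh.1)
  intro z hz
  obtain ⟨k, hk, rfl⟩ := h.exists_comm (CfsgLib.Coprime.pPrimeCore_not_dvd h.prime) hz
  exact Subgroup.commutator_mem_commutator (hA hk) hx

theorem core_le_commutator : K ≤ commutator G :=
  h.core_le_of_mem le_top (Subgroup.mem_top x)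

theorem not_mem_core : x ∉ K := fun hx =>
  h.ne_one (h.mem_P_iff_of_inter (CfsgLib.Coprime.pPrimeCore_not_dvd h.prime) hx (Subgroup.mem_zpowers x))

theorem core_inf_normalizer : K ⊓ N = ⊥ := by
  haveI : (K).Normal := Subgroup.sSup_normal _ (fun _ hh => hh.1)
  rw [Subgroup.eq_bot_iff_forall]
  rintro k ⟨hk, hn⟩
  have hK := CfsgLib.Coprime.pPrimeCore_not_dvd (G := G) h.prime
  have h1 : ⁅k, x⁆ ∈ K := by
    rw [show ⁅k, x⁆ = k * (x * k⁻¹ * x⁻¹) by rw [commutatorElement_def]; group]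
    exact (K).mul_mem hk (Subgroup.Normal.conj_mem inferInstance _ ((K).inv_mem hk) x)
  have h2 : ⁅k, x⁆ ∈ P :=
    mul_mem ((Subgroup.mem_normalizer_iff.mp hn x).mp (Subgroup.mem_zpowers x)) (inv_mem (Subgroup.mem_zpowers x))
  exact h.mem_P_iff_of_inter hK hk (h.mem_P_of_comm
    (commutatorElement_eq_one_iff_mul_comm.mp (h.mem_P_iff_of_inter hK h1 h2)))

/-- A normal subgroup containing `x` contains the derived subgroup. -/
theorem commutator_le (L : Subgroup G) [L.Normal] (hx : x ∈ L) : commutator G ≤ L := by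
  haveI : Fact p.Prime := ⟨h.prime⟩
  have hPL : P ≤ L := Subgroup.zpowers_le.mpr hx
  have htop : N ⊔ L = ⊤ := Sylow.normalizer_sup_eq_top' h.sylow hPL
  have hsur : ∀ q : G ⧸ L, ∃ n ∈ N, (n : G ⧸ L) = q := by
    intro q
    obtain ⟨g, rfl⟩ := QuotientGroup.mk_surjective q
    obtain ⟨n, hn, l, hl, rfl⟩ := Subgroup.mem_sup_of_normal_right.mp (htop ▸ Subgroup.mem_top g)
    exact ⟨n, hn, by rw [QuotientGroup.mk_mul, (QuotientGroup.eq_one_iff l).mpr hl, mul_one]⟩
  have hconj : ∀ n ∈ N, ∃ i : ℤ, n * x * n⁻¹ = x ^ i := fun n hn =>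
    let ⟨i, hi⟩ := Subgroup.mem_zpowers_iff.mp
      ((Subgroup.mem_normalizer_iff.mp hn x).mp (Subgroup.mem_zpowers x))
    ⟨i, hi.symm⟩
  rw [commutator_eq_closure, Subgroup.closure_le]
  rintro _ ⟨a, b, rfl⟩
  obtain ⟨m, hm, hma⟩ := hsur (a : G ⧸ L)
  obtain ⟨n, hn, hnb⟩ := hsur (b : G ⧸ L)
  have hmn : ⁅m, n⁆ ∈ L := by
    refine hPL (h.mem_P_of_comm ?_)
    obtain ⟨i, hi⟩ := hconj m⁻¹ (inv_mem hm)
    obtain ⟨j, hj⟩ := hconj n⁻¹ (inv_mem hn)
    have e1 : (m⁻¹ * n⁻¹) * x * (m⁻¹ * n⁻¹)⁻¹ = (n⁻¹ * m⁻¹) * x * (n⁻¹ * m⁻¹)⁻¹ := by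
      calc (m⁻¹ * n⁻¹) * x * (m⁻¹ * n⁻¹)⁻¹ = m⁻¹ * (n⁻¹ * x * n⁻¹⁻¹) * m⁻¹⁻¹ := by group
        _ = x ^ (i * j) := by rw [hj, ← conj_zpow, hi, ← zpow_mul]
        _ = n⁻¹ * (m⁻¹ * x * m⁻¹⁻¹) * n⁻¹⁻¹ := by rw [hi, ← conj_zpow, hj, ← zpow_mul, mul_comm]
        _ = _ := by group
    calc ⁅m, n⁆ * x = (m * n) * ((m⁻¹ * n⁻¹) * x * (m⁻¹ * n⁻¹)⁻¹) * (m⁻¹ * n⁻¹) := by
          rw [commutatorElement_def]; group
      _ = (m * n) * ((n⁻¹ * m⁻¹) * x * (n⁻¹ * m⁻¹)⁻¹) * (m⁻¹ * n⁻¹) := by rw [e1]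
      _ = x * ⁅m, n⁆ := by rw [commutatorElement_def]; group
  show ⁅a, b⁆ ∈ L
  rw [← QuotientGroup.eq_one_iff]
  have : ((⁅a, b⁆ : G) : G ⧸ L) = ((⁅m, n⁆ : G) : G ⧸ L) := by
    simp only [commutatorElement_def, QuotientGroup.mk_mul, QuotientGroup.mk_inv, hma, hnb]
  rw [this, QuotientGroup.eq_one_iff]
  exact hmn

theorem card_subgroups : Nat.card {H : Subgroup G // Nat.card H = p} = (N).index := by
  haveI : Fact p.Prime := ⟨h.prime⟩
  have hfac : ∀ Q : Sylow p G, Nat.card Q = p := fun Q => by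
    rw [Q.card_eq_multiplicity, ← (h.sylow).card_eq_multiplicity]
    exact h.card_P
  rw [show (N).index = Nat.card (Sylow p G) by
    rw [(h.sylow).card_eq_index_normalizer]; rfl]
  refine Nat.card_congr (Equiv.ofBijective
    (fun H => Sylow.ofCard H.1 ?_) ⟨fun a b e => ?_, fun Q => ⟨⟨Q, hfac Q⟩, Sylow.ext rfl⟩⟩)
  · rw [H.2, ← (h.sylow).card_eq_multiplicity]
    exact h.card_P.symm
  · exact Subtype.ext (congrArg (fun Q : Sylow p G => (Q : Subgroup G)) e)

theorem card_order_p :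
    Nat.card {y : G // orderOf y = p} = (N).index * (p - 1) := by
  classical
  haveI := Fintype.ofFinite G
  haveI := Fintype.ofFinite {H : Subgroup G // Nat.card H = p}
  rw [← h.card_subgroups]
  let f : {y : G // orderOf y = p} → {H : Subgroup G // Nat.card H = p} :=
    fun y => ⟨Subgroup.zpowers y.1, by rw [Nat.card_zpowers, y.2]⟩
  rw [Nat.card_congr (Equiv.sigmaFiberEquiv f).symm, Nat.card_sigma]
  have hfib : ∀ H : {H : Subgroup G // Nat.card H = p}, Nat.card {y // f y = H} = p - 1 := by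
    intro H
    have hgen : ∀ y : H.1, y ≠ 1 → orderOf (y : G) = p ∧ Subgroup.zpowers (y : G) = H.1 := by
      intro y hy
      have hd : orderOf (y : G) ∣ p := by
        have := orderOf_dvd_natCard y
        rwa [H.2, ← Subgroup.orderOf_coe] at this
      have ho := (h.prime.eq_one_or_self_of_dvd _ hd).resolve_left fun e =>
        hy (Subtype.ext (orderOf_eq_one_iff.mp e))
      exact ⟨ho, Subgroup.eq_of_le_of_card_ge (Subgroup.zpowers_le.mpr y.2)
        (le_of_eq (by rw [H.2, Nat.card_zpowers, ho]))⟩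
    let e : {y // f y = H} ≃ {y : H.1 // y ≠ 1} :=
      { toFun := fun y => ⟨⟨y.1.1, by
          have e : Subgroup.zpowers y.1.1 = H.1 := congrArg Subtype.val y.2
          exact e ▸ Subgroup.mem_zpowers y.1.1⟩, fun e1 => h.prime.ne_one (by
            rw [← y.1.2, show y.1.1 = 1 from congrArg Subtype.val e1, orderOf_one])⟩
        invFun := fun y => ⟨⟨y.1.1, (hgen y.1 y.2).1⟩, Subtype.ext (hgen y.1 y.2).2⟩
        left_inv := fun y => rfl
        right_inv := fun y => rfl }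
    rw [Nat.card_congr e]
    haveI := Fintype.ofFinite H.1
    rw [Nat.card_eq_fintype_card, Fintype.card_subtype_compl, Fintype.card_subtype_eq,
      ← Nat.card_eq_fintype_card, H.2]
  rw [Finset.sum_congr rfl fun H _ => hfib H, Finset.sum_const, Finset.card_univ, smul_eq_mul,
    ← Nat.card_eq_fintype_card]

theorem class_count {t : ℕ}
    (ht : Nat.card {C : ConjClasses G // ∃ g ∈ C.carrier, orderOf g = p} = t) :
    t * Nat.card N = p * (p - 1) := by
  classical
  haveI := Fintype.ofFinite G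
  haveI := Fintype.ofFinite {C : ConjClasses G // ∃ g ∈ C.carrier, orderOf g = p}
  let f : {y : G // orderOf y = p} → {C : ConjClasses G // ∃ g ∈ C.carrier, orderOf g = p} :=
    fun y => ⟨ConjClasses.mk y.1, y.1, ConjClasses.mem_carrier_mk, y.2⟩
  have hsum : (N).index * (p - 1) * p = t * Nat.card G := by
    rw [← h.card_order_p, Nat.card_congr (Equiv.sigmaFiberEquiv f).symm, Nat.card_sigma, Finset.sum_mul,
      Finset.sum_congr rfl (g := fun _ => Nat.card G) fun C _ => ?_, Finset.sum_const, Finset.card_univ,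
      smul_eq_mul, ← Nat.card_eq_fintype_card, ht]
    obtain ⟨C, g, hgC, hg⟩ := C
    rw [ConjClasses.mem_carrier_iff_mk_eq] at hgC
    subst hgC
    let e : {y // f y = ⟨ConjClasses.mk g, g, ConjClasses.mem_carrier_mk, hg⟩} ≃
        (ConjClasses.mk g).carrier :=
      { toFun := fun y => ⟨y.1.1, ConjClasses.mem_carrier_iff_mk_eq.mpr (congrArg Subtype.val y.2)⟩
        invFun := fun y => ⟨⟨y.1, by
          obtain ⟨c, hc⟩ := isConj_iff.mp
            (ConjClasses.mk_eq_mk_iff_isConj.mp (ConjClasses.mem_carrier_iff_mk_eq.mp y.2)).symm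
          rw [← hc, ← MulAut.conj_apply, MulEquiv.orderOf_eq, hg]⟩,
          Subtype.ext (ConjClasses.mem_carrier_iff_mk_eq.mp y.2)⟩
        left_inv := fun y => rfl
        right_inv := fun y => rfl }
    rw [Nat.card_congr e]
    have := (Subgroup.centralizer ({g} : Set G)).card_mul_index
    rw [← CfsgLib.Char.card_isConj, h.centralizer_card hg] at this
    rw [← this, mul_comm]
    refine congrArg _ (Nat.card_congr (Equiv.subtypeEquivRight fun z => ?_))
    rw [ConjClasses.mem_carrier_iff_mk_eq, ConjClasses.mk_eq_mk_iff_isConj]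
    exact isConj_comm
  rw [← (N).card_mul_index] at hsum
  refine Nat.eq_of_mul_eq_mul_right (Nat.pos_of_ne_zero (N).index_ne_zero_of_finite) ?_
  rw [mul_assoc, ← hsum]; ring

theorem class_count_relIndex {t : ℕ}
    (ht : Nat.card {C : ConjClasses G // ∃ g ∈ C.carrier, orderOf g = p} = t) :
    t * (P).relIndex N = p - 1 := by
  have h1 := h.class_count ht
  rw [← Subgroup.relIndex_bot_left, ← Subgroup.relIndex_mul_relIndex ⊥ P N bot_le Subgroup.le_normalizer,
    Subgroup.relIndex_bot_left, h.card_P] at h1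
  exact Nat.eq_of_mul_eq_mul_left h.prime.pos (by rw [← h1]; ring)

theorem normalizer_eq_iff {t : ℕ}
    (ht : Nat.card {C : ConjClasses G // ∃ g ∈ C.carrier, orderOf g = p} = t) :
    N = P ↔ t = p - 1 := by
  have h1 := h.class_count_relIndex ht
  constructor
  · intro e
    rwa [e, Subgroup.relIndex_self, mul_one] at h1
  · intro e
    refine le_antisymm (Subgroup.relIndex_eq_one.mp ?_) Subgroup.le_normalizer
    have hp1 : 0 < p - 1 := Nat.sub_pos_of_lt h.prime.one_lt
    rw [e] at h1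
    exact Nat.eq_of_mul_eq_mul_left hp1 (h1.trans (mul_one _).symm)

theorem case_trivial (e : N = P) :
    commutator G = K ∧ (commutator G).index = p ∧ Nat.card (commutator G) = (N).index := by
  haveI : Fact p.Prime := ⟨h.prime⟩
  have hP : Subgroup.normalizer ((h.sylow : Subgroup G) : Set G) ≤
      Subgroup.centralizer ((h.sylow : Subgroup G) : Set G) := by
    rw [h.coe_sylow, h.cent_P, e]
  have hc := MonoidHom.ker_transferSylow_isComplement' h.sylow hP
  set L := (MonoidHom.transferSylow h.sylow hP).ker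
  have hi : L.index = p := by rw [hc.symm.index_eq_card, h.coe_sylow, h.card_P]
  have hcard : Nat.card L = (P).index := by
    rw [← hc.index_eq_card, h.coe_sylow]
  have hnd : ¬ p ∣ Nat.card L := by
    intro hd
    refine h.not_sq ?_
    rw [sq, ← L.card_mul_index, hi]
    exact mul_dvd_mul_right hd p
  have h1 : L ≤ K := CfsgLib.Coprime.le_pPrimeCore_of_not_dvd h.prime hnd
  haveI : IsCyclic (G ⧸ L) := isCyclic_of_prime_card (show Nat.card (G ⧸ L) = p from hi)
  have h2 : commutator G ≤ L := by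
    rw [commutator_eq_closure, Subgroup.closure_le]
    rintro _ ⟨a, b, rfl⟩
    show ⁅a, b⁆ ∈ L
    rw [← QuotientGroup.eq_one_iff]
    obtain ⟨z, hz⟩ := IsCyclic.exists_generator (α := G ⧸ L)
    obtain ⟨i, hi'⟩ := Subgroup.mem_zpowers_iff.mp (hz (a : G ⧸ L))
    obtain ⟨j, hj'⟩ := Subgroup.mem_zpowers_iff.mp (hz (b : G ⧸ L))
    have hc' : ⁅(a : G ⧸ L), (b : G ⧸ L)⁆ = 1 := by
      rw [commutatorElement_eq_one_iff_mul_comm, ← hi', ← hj']
      exact (Commute.zpow_zpow (Commute.refl z) i j).eq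
    simpa [commutatorElement_def] using hc'
  have h3 : commutator G = L := le_antisymm h2 (h1.trans h.core_le_commutator)
  refine ⟨le_antisymm (h2.trans h1) h.core_le_commutator, by rw [h3, hi], ?_⟩
  rw [h3, hcard, e]

theorem x_mem_commutator (e : N ≠ P) : x ∈ commutator G := by
  obtain ⟨n, hn, hnP⟩ := SetLike.exists_of_lt (lt_of_le_of_ne Subgroup.le_normalizer (Ne.symm e))
  have h1 : ⁅n, x⁆ ∈ P :=
    mul_mem ((Subgroup.mem_normalizer_iff.mp hn x).mp (Subgroup.mem_zpowers x)) (inv_mem (Subgroup.mem_zpowers x))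
  have h2 : ⁅n, x⁆ ≠ 1 := fun hh => hnP (h.mem_P_of_comm (commutatorElement_eq_one_iff_mul_comm.mp hh))
  have h3 : Subgroup.zpowers ⁅n, x⁆ ≤ commutator G :=
    Subgroup.zpowers_le.mpr (Subgroup.commutator_mem_commutator (Subgroup.mem_top n) (Subgroup.mem_top x))
  exact h3 (h.P_eq_zpowers h1 h2 ▸ Subgroup.mem_zpowers x)

theorem frattini (L : Subgroup G) [L.Normal] (hx : x ∈ L) : N ⊔ L = ⊤ := by
  haveI : Fact p.Prime := ⟨h.prime⟩
  exact Sylow.normalizer_sup_eq_top' h.sylow (Subgroup.zpowers_le.mpr hx)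

end Hyp

end CfsgLib.Char.SelfCentPrime
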