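import Cfsg.Agent.Lib.Char.Galois

/-!
# Nonlinear irreducible characters vanish somewhere
-/

set_option autoImplicit false
set_option linter.unusedSectionVars false

namespace CfsgLib.Char

open scoped ComplexConjugate
open Representation Module Cfsg

universe u

variable {G : Type u} [Group G]

theorem card_le_sum_of_one_le_prod {ι : Type*} (s : Finset ι) (a : ι → ℝ) (ha : ∀ i ∈ s, 0 < a i)
    (hp : 1 ≤ ∏ i ∈ s, a i) : (s.card : ℝ) ≤ ∑ i ∈ s, a i := by
  have h1 : 0 ≤ ∑ i ∈ s, (a i - 1) := calc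
    (0 : ℝ) ≤ Real.log (∏ i ∈ s, a i) := Real.log_nonneg hp
    _ = ∑ i ∈ s, Real.log (a i) := Real.log_prod fun i hi => (ha i hi).ne'
    _ ≤ _ := Finset.sum_le_sum fun i hi => Real.log_le_sub_one_of_pos (ha i hi)
  rw [Finset.sum_sub_distrib, Finset.sum_const, nsmul_eq_mul, mul_one] at h1
  linarith

theorem exists_zero_of_degree_gt_one [Finite G] (χ : IrrCharacter G)
    (hχ : (χ : G → ℂ) 1 ≠ 1) : ∃ g : G, (χ : G → ℂ) g = 0 := by
  classical
  have := Fintype.ofFinite G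
  by_contra hc
  push Not at hc
  obtain ⟨d, hd0, hd⟩ := isIrrCharacter_degree χ.2
  set s : Finset G := Finset.univ.erase 1 with hs
  set P : ℂ := ∏ g ∈ s, (χ : G → ℂ) g * conj ((χ : G → ℂ) g) with hP
  have hPint : IsIntegral ℤ P := by
    refine IsIntegral.prod _ fun g _ => ?_
    rw [← irr_inv]
    exact (isCharacter_isIntegral (isCharacter_irr χ) g).mul (isCharacter_isIntegral (isCharacter_irr χ) _)
  have hfix : ∀ φ : Alg →ₐ[ℚ] ℂ, φ ⟨P, mem_alg_of_isIntegral hPint⟩ = P := by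
    intro φ
    obtain ⟨m, hm, htw⟩ := exists_char_twist (G := G) φ
    let v : G → Alg := fun g =>
      ⟨(χ : G → ℂ) g, mem_alg_of_isIntegral (isCharacter_isIntegral (isCharacter_irr χ) g)⟩
    have e : (⟨P, mem_alg_of_isIntegral hPint⟩ : Alg) = ∏ g ∈ s, v g * v g⁻¹ :=
      Subtype.ext (by simp [hP, v, irr_inv])
    rw [e, map_prod]
    have hb : Function.Bijective (fun g : G => g ^ m) := (powCoprime hm.symm).bijective
    refine Finset.prod_bij (fun g _ => g ^ m) (fun g hg => ?_) (fun a _ b _ h => hb.1 h)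
      (fun g hg => ?_) fun g _ => ?_
    · rw [hs, Finset.mem_erase] at hg ⊢
      exact ⟨fun h => hg.1 (hb.1 (by simpa using h)), Finset.mem_univ _⟩
    · obtain ⟨k, rfl⟩ := hb.2 g
      refine ⟨k, ?_, rfl⟩
      rw [hs, Finset.mem_erase] at hg ⊢
      exact ⟨fun h => hg.1 (by simp [h]), Finset.mem_univ _⟩
    · rw [map_mul, htw _ (isCharacter_irr χ) g (v g) rfl, htw _ (isCharacter_irr χ) g⁻¹ (v g⁻¹) rfl,
        inv_pow, irr_inv]
  obtain ⟨z, hz⟩ := exists_int_of_fixed hPint hfix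
  have hP' : P = ((∏ g ∈ s, ‖(χ : G → ℂ) g‖ ^ 2 : ℝ) : ℂ) := by
    rw [hP, Complex.ofReal_prod]
    exact Finset.prod_congr rfl fun g _ => by rw [Complex.mul_conj', Complex.ofReal_pow]
  have hpos : 0 < ∏ g ∈ s, ‖(χ : G → ℂ) g‖ ^ 2 :=
    Finset.prod_pos fun g _ => pow_pos (norm_pos_iff.mpr (hc g)) 2
  have hzr : (∏ g ∈ s, ‖(χ : G → ℂ) g‖ ^ 2) = (z : ℝ) := by
    rw [hP'] at hz; exact_mod_cast hz
  rw [hzr] at hpos
  have h1 : (1 : ℝ) ≤ ∏ g ∈ s, ‖(χ : G → ℂ) g‖ ^ 2 := by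
    have : (1 : ℤ) ≤ z := by exact_mod_cast hpos
    rw [hzr]; exact_mod_cast this
  have h2 := card_le_sum_of_one_le_prod s _ (fun g _ => pow_pos (norm_pos_iff.mpr (hc g)) 2) h1
  have h3 := classInner_irr_self χ
  rw [classInner_self, Complex.ofReal_eq_one, inv_mul_eq_one₀ (by exact_mod_cast Nat.card_pos.ne'),
    ← Finset.add_sum_erase _ _ (Finset.mem_univ (1 : G)), hd, RCLike.norm_natCast, ← hs] at h3
  have h4 : ((s.card : ℕ) : ℝ) + 1 = (Nat.card G : ℝ) := by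
    rw [hs, Finset.card_erase_of_mem (Finset.mem_univ _), Finset.card_univ,
      ← Nat.card_eq_fintype_card]
    have : 0 < Nat.card G := Nat.card_pos
    exact_mod_cast Nat.sub_add_cancel this
  have hd2 : (2 : ℝ) ≤ d := by
    have : d ≠ 1 := fun e => hχ (by rw [hd, e, Nat.cast_one])
    exact_mod_cast (show 2 ≤ d by omega)
  nlinarith

end CfsgLib.Char
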