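import Mathlib
import Cfsg.Agent.Lib.Char.Degree
import Cfsg.Agent.Lib.Char.Zeros
import Cfsg.Agent.Lib.Char.Galois
import Cfsg.Agent.Lib.Char.Linear
import Cfsg.Agent.Lib.Char.PowTwist
import Cfsg.Agent.Lib.Block.TraceFun

/-!
# An element whose centralizer is a normal abelian Sylow subgroup
-/

set_option autoImplicit false
set_option linter.unusedSectionVars false
set_option linter.style.haveILetI false

namespace CfsgLib.Char

open scoped ComplexConjugate
open Cfsg

universe u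

variable {G : Type u} [Group G] [Finite G]

/-- A `p`-element is not a zero of a character of degree prime to `p`. -/
theorem char_pElement_ne_zero {p : ℕ} (hp : p.Prime) (χ : IrrCharacter G) {d : ℕ}
    (hd : (χ : G → ℂ) 1 = d) (hpd : ¬ p ∣ d) {g : G} {k : ℕ} (hg : g ^ p ^ k = 1) :
    (χ : G → ℂ) g ≠ 0 := by
  classical
  haveI := Fintype.ofFinite G
  obtain ⟨M, hM⟩ := CfsgLib.Block.exists_pModular hp
  haveI := hM.2.1
  intro h0
  have h := CfsgLib.Block.res_irr_mul_pElement hM χ (Commute.one_right g) hg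
  rw [mul_one, show CfsgLib.Block.irrLoc M χ g = 0 from Subtype.ext (by simpa using h0), map_zero,
    show CfsgLib.Block.irrLoc M χ 1 = (d : CfsgLib.Block.locRing M) from Subtype.ext (by simpa using hd),
    CfsgLib.Block.res_natCast] at h
  haveI := CfsgLib.Block.charP_resField hM
  exact hpd ((CharP.cast_eq_zero_iff (CfsgLib.Block.ResField M) p d).1 h.symm)

/-- At most `|P|` irreducible characters, with equality only for an abelian quotient. -/
theorem card_irr_le_of_self_centralizing {p : ℕ} [Fact p.Prime] (P : Sylow p G) [(P : Subgroup G).Normal]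
    (hab : ∀ a ∈ P, ∀ b ∈ P, a * b = b * a) {g : G} (hg : g ∈ P)
    (hC : Subgroup.centralizer ({g} : Set G) = P) :
    Nat.card (IrrCharacter G) ≤ Nat.card P ∧
      (Nat.card (IrrCharacter G) = Nat.card P → commutator G ≤ P) := by
  classical
  haveI := Fintype.ofFinite G
  haveI := Fintype.ofFinite (IrrCharacter G)
  obtain ⟨k, hk⟩ := P.2 ⟨g, hg⟩
  have hgk : g ^ p ^ k = 1 := congrArg Subtype.val hk
  have hdeg : ∀ χ : IrrCharacter G, ∃ d : ℕ, (χ : G → ℂ) 1 = d ∧ ¬ p ∣ d := by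
    intro χ
    obtain ⟨d, -, hd⟩ := isIrrCharacter_degree χ.2
    exact ⟨d, hd, fun h => P.not_dvd_index (h.trans (degree_dvd_index_abelian G _ hab _ χ.2 d hd))⟩
  have hne : ∀ χ : IrrCharacter G, ∀ j : ℕ, (χ : G → ℂ) (g ^ j) ≠ 0 := fun χ j => by
    obtain ⟨d, hd, hpd⟩ := hdeg χ
    exact char_pElement_ne_zero Fact.out χ hd hpd (k := k) (by rw [← pow_mul, mul_comm, pow_mul, hgk, one_pow])
  have hg0 : ∀ χ : IrrCharacter G, (χ : G → ℂ) g ≠ 0 := fun χ => by simpa using hne χ 1
  -- the product over all characters is a non-zero rational integer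
  set Q : ℂ := ∏ χ : IrrCharacter G, (χ : G → ℂ) g with hQ
  have hvint : ∀ χ : IrrCharacter G, IsIntegral ℤ ((χ : G → ℂ) g) := fun χ =>
    isCharacter_isIntegral (isCharacter_irr χ) g
  have hQint : IsIntegral ℤ Q := IsIntegral.prod _ fun χ _ => hvint χ
  have hcol := sum_irr_mul_conj g g
  rw [if_pos (IsConj.refl g), hC] at hcol
  have hsum : ∑ χ : IrrCharacter G, ‖(χ : G → ℂ) g‖ ^ 2 = (Nat.card P : ℝ) := by
    apply Complex.ofReal_injective
    push_cast
    rw [← hcol]
    exact Finset.sum_congr rfl fun χ _ => (Complex.mul_conj' _).symm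
  have hprod : 1 ≤ ∏ χ : IrrCharacter G, ‖(χ : G → ℂ) g‖ ^ 2 := by
    have hPint : IsIntegral ℤ (Q * conj Q) :=
      hQint.mul (map_isIntegral_int (starRingEnd ℂ) hQint)
    have hfix : ∀ φ : Alg →ₐ[ℚ] ℂ, φ ⟨Q * conj Q, mem_alg_of_isIntegral hPint⟩ = Q * conj Q := by
      intro φ
      obtain ⟨m, hm, htw⟩ := exists_char_twist (G := G) φ
      obtain ⟨e, he⟩ : ∃ e : IrrCharacter G → IrrCharacter G,
          ∀ χ x, (e χ : G → ℂ) x = (χ : G → ℂ) (x ^ m) :=
        ⟨fun χ => ⟨_, isIrrCharacter_powMap hm.symm χ⟩, fun _ _ => rfl⟩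
      have hei : Function.Injective e := fun χ ψ h => Subtype.ext (funext fun x => by
        obtain ⟨y, rfl⟩ := (powCoprime hm.symm).surjective x
        show (χ : G → ℂ) (y ^ m) = (ψ : G → ℂ) (y ^ m)
        rw [← he, ← he, h])
      let v : G → IrrCharacter G → Alg := fun x χ =>
        ⟨(χ : G → ℂ) x, mem_alg_of_isIntegral (isCharacter_isIntegral (isCharacter_irr χ) x)⟩
      have e1 : (⟨Q * conj Q, mem_alg_of_isIntegral hPint⟩ : Alg) = ∏ χ, v g χ * v g⁻¹ χ :=
        Subtype.ext (by simp [hQ, v, irr_inv, Finset.prod_mul_distrib, map_prod])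
      rw [e1, map_prod, hQ, map_prod, ← Finset.prod_mul_distrib,
        ← (Finite.injective_iff_bijective.1 hei).prod_comp (fun χ : IrrCharacter G => (χ : G → ℂ) g * conj ((χ : G → ℂ) g))]
      refine Finset.prod_congr rfl fun χ _ => ?_
      rw [map_mul, htw _ (isCharacter_irr χ) g (v g χ) rfl, htw _ (isCharacter_irr χ) g⁻¹ (v g⁻¹ χ) rfl,
        he, inv_pow, irr_inv]
    obtain ⟨z, hz⟩ := exists_int_of_fixed hPint hfix
    have h1 : Q * conj Q = ((∏ χ : IrrCharacter G, ‖(χ : G → ℂ) g‖ ^ 2 : ℝ) : ℂ) := by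
      rw [Complex.ofReal_prod, hQ, map_prod, ← Finset.prod_mul_distrib]
      exact Finset.prod_congr rfl fun χ _ => by rw [Complex.mul_conj', Complex.ofReal_pow]
    have h2 : (∏ χ : IrrCharacter G, ‖(χ : G → ℂ) g‖ ^ 2) = (z : ℝ) := by
      rw [h1] at hz; exact_mod_cast hz
    have h3 : 0 < ∏ χ : IrrCharacter G, ‖(χ : G → ℂ) g‖ ^ 2 :=
      Finset.prod_pos fun χ _ => pow_pos (norm_pos_iff.2 (hg0 χ)) 2
    rw [h2] at h3 ⊢
    have : (1 : ℤ) ≤ z := by exact_mod_cast h3
    exact_mod_cast this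
  have hpos : ∀ χ ∈ (Finset.univ : Finset (IrrCharacter G)), 0 < ‖(χ : G → ℂ) g‖ ^ 2 := fun χ _ =>
    pow_pos (norm_pos_iff.2 (hg0 χ)) 2
  have hle := card_le_sum_of_one_le_prod Finset.univ _ hpos hprod
  rw [Finset.card_univ, hsum, ← Nat.card_eq_fintype_card] at hle
  refine ⟨by exact_mod_cast hle, fun heq => ?_⟩
  -- equality forces all these values to have modulus one
  have hone : ∀ χ : IrrCharacter G, ‖(χ : G → ℂ) g‖ ^ 2 = 1 := by
    intro χ
    by_contra hne1
    have h1 : 0 < ∑ ψ : IrrCharacter G, (‖(ψ : G → ℂ) g‖ ^ 2 - 1 - Real.log (‖(ψ : G → ℂ) g‖ ^ 2)) :=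
      Finset.sum_pos' (fun ψ hψ => by linarith [Real.log_le_sub_one_of_pos (hpos ψ hψ)])
        ⟨χ, Finset.mem_univ χ, by linarith [Real.log_lt_sub_one_of_pos (hpos χ (Finset.mem_univ χ)) hne1]⟩
    rw [Finset.sum_sub_distrib, Finset.sum_sub_distrib, hsum, Finset.sum_const, Finset.card_univ,
      nsmul_eq_mul, mul_one, ← Real.log_prod fun ψ hψ => (hpos ψ hψ).ne', ← Nat.card_eq_fintype_card,
      heq, sub_self, zero_sub, neg_pos] at h1
    exact absurd (Real.log_nonneg hprod) (not_le.2 h1)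
  set π := QuotientGroup.mk' (P : Subgroup G) with hπ
  haveI := Fintype.ofFinite (G ⧸ (P : Subgroup G))
  have hcomm : ∀ a b : G ⧸ (P : Subgroup G), a * b = b * a := comm_of_degree_one fun ψ => by
    have hχ := isIrrCharacter_comp_surjective ψ.2 π (QuotientGroup.mk'_surjective _)
    obtain ⟨d, hd0, hd⟩ := isIrrCharacter_degree ψ.2
    have h1 := hone ⟨_, hχ⟩
    simp only [Function.comp_apply, show π g = 1 from (QuotientGroup.eq_one_iff g).2 hg, hd,
      Complex.norm_natCast] at h1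
    rw [hd, show d = 1 by
      have : d ^ 2 = 1 := by exact_mod_cast h1
      exact (Nat.pow_eq_one.1 this).resolve_right two_ne_zero, Nat.cast_one]
  rw [commutator_def, Subgroup.commutator_le]
  intro a _ b _
  rw [← QuotientGroup.ker_mk' (P : Subgroup G), MonoidHom.mem_ker, map_commutatorElement,
    commutatorElement_eq_one_iff_mul_comm]
  exact hcomm _ _

end CfsgLib.Char
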