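import Cfsg.Agent.Lib.Char.FlagMobius
import Mathlib.LinearAlgebra.Charpoly.ToMatrix
import Mathlib.RingTheory.SimpleModule.Basic
import Mathlib.RingTheory.AdjoinRoot
import Mathlib.FieldTheory.Finiteness
import Mathlib.RingTheory.UniqueFactorizationDomain.NormalizedFactors
import Mathlib.Algebra.Polynomial.FieldDivision

/-!
# Möbius numbers of the submodule lattice of a finite semisimple `F[X]`-module

For a finite semisimple module the Möbius number from `U` to the top is
`∏_f (-1)^(m_f) q^(deg f * C(m_f, 2))`, where the `m_f` are the multiplicities of the monic irreducible factors of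
the characteristic polynomial of `X` on a complement of `U`.
-/

set_option autoImplicit false
set_option linter.unusedSectionVars false

namespace CfsgLib.Char.SemisimpleMobius

open Polynomial UniqueFactorizationMonoid
open CfsgLib.Char.FlagMobius (mob)

variable {F : Type*} [Field F] [DecidableEq F]

section Invariant

variable (F) (N : Type*) [AddCommGroup N] [Module F N] [Module F[X] N] [IsScalarTower F F[X] N] [Finite N]

/-- The characteristic polynomial of `X`. -/
noncomputable def cp : F[X] := (Algebra.lsmul F F N (X : F[X])).charpoly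

/-- Its monic irreducible factors. -/
noncomputable def fac : Multiset F[X] := normalizedFactors (cp F N)

variable {F} {N} {N' : Type*} [AddCommGroup N'] [Module F N'] [Module F[X] N'] [IsScalarTower F F[X] N'] [Finite N']

theorem cp_ne_zero : cp F N ≠ 0 := (LinearMap.charpoly_monic _).ne_zero

theorem cp_congr (e : N ≃ₗ[F[X]] N') : cp F N = cp F N' := by
  rw [cp, cp, ← LinearEquiv.charpoly_conj (e.restrictScalars F) (Algebra.lsmul F F N (X : F[X]))]
  congr 1
  refine LinearMap.ext fun x => ?_
  rw [LinearEquiv.conj_apply_apply]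
  show e ((X : F[X]) • e.symm x) = (X : F[X]) • x
  rw [map_smul, LinearEquiv.apply_symm_apply]

theorem cp_prod : cp F (N × N') = cp F N * cp F N' := by
  rw [cp, cp, cp, ← LinearMap.charpoly_prodMap]
  congr 1

theorem fac_prod : fac F (N × N') = fac F N + fac F N' := by
  rw [fac, fac, fac, cp_prod, normalizedFactors_mul cp_ne_zero cp_ne_zero]

theorem fac_congr (e : N ≃ₗ[F[X]] N') : fac F N = fac F N' := by rw [fac, fac, cp_congr e]

theorem fac_eq_zero [Subsingleton N] : fac F N = 0 := by
  have h : cp F N = 1 := (LinearMap.charpoly_monic _).natDegree_eq_zero.1 (by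
    rw [LinearMap.charpoly_natDegree, Module.finrank_zero_of_subsingleton])
  rw [fac, h, normalizedFactors_one]

/-- A simple module is the quotient by its characteristic polynomial, which is irreducible. -/
theorem simple_data [IsSimpleModule F[X] N] :
    Irreducible (cp F N) ∧ Nonempty (N ≃ₗ[F[X]] F[X] ⧸ Ideal.span {cp F N}) := by
  obtain ⟨I, hI, ⟨e⟩⟩ := isSimpleModule_iff_quot_maximal.1 (inferInstance : IsSimpleModule F[X] N)
  obtain ⟨f0, hf0⟩ := (IsPrincipalIdealRing.principal I).principal
  have hf0' : f0 ≠ 0 := by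
    rintro rfl
    have h := Ideal.bot_lt_of_maximal I (Polynomial.not_isField F)
    rw [hf0] at h
    simp at h
  let f := normalize f0
  have hIf : I = Ideal.span {f} := by
    rw [hf0]
    exact (Ideal.span_singleton_eq_span_singleton.2 (associated_normalize f0))
  have hm : f.Monic := Polynomial.monic_normalize hf0'
  have hirr : Irreducible f := by
    refine ((Ideal.span_singleton_prime hm.ne_zero).1 ?_).irreducible
    rw [← hIf]
    exact hI.isPrime
  subst hIf
  haveI : Finite (F[X] ⧸ Ideal.span {f}) := Finite.of_equiv N e.toEquiv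
  have hcp : cp F N = f := by
    rw [cp_congr e, cp]
    set φ := Algebra.lsmul F F (F[X] ⧸ Ideal.span {f}) (X : F[X]) with hφ
    refine Polynomial.eq_of_monic_of_dvd_of_natDegree_le hm (LinearMap.charpoly_monic φ) ?_ (le_of_eq ?_)
    · have h := LinearMap.aeval_self_charpoly φ
      rw [hφ, Polynomial.aeval_algHom_apply, aeval_X_left_apply, ← hφ] at h
      have h1 := LinearMap.congr_fun h (Submodule.Quotient.mk 1)
      change (LinearMap.charpoly φ) • (Submodule.Quotient.mk 1 : F[X] ⧸ Ideal.span {f}) = 0 at h1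
      rw [← Submodule.Quotient.mk_smul, smul_eq_mul, mul_one,
        Submodule.Quotient.mk_eq_zero, Ideal.mem_span_singleton] at h1
      exact h1
    · rw [LinearMap.charpoly_natDegree, finrank_quotient_span_eq_natDegree]
  rw [hcp]
  exact ⟨hirr, ⟨e⟩⟩

theorem fac_simple [IsSimpleModule F[X] N] : fac F N = {cp F N} := by
  rw [fac, normalizedFactors_irreducible simple_data.1, Monic.normalize_eq_self (p := cp F N) (LinearMap.charpoly_monic _)]

/-- Endomorphisms of a simple module. -/
theorem card_end [Finite F] [IsSimpleModule F[X] N] :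
    Nat.card (N →ₗ[F[X]] N) = Nat.card F ^ (cp F N).natDegree := by
  obtain ⟨e⟩ := (simple_data (F := F) (N := N)).2
  set I := Ideal.span {cp F N}
  let eE : ((F[X] ⧸ I) →ₗ[F[X]] F[X] ⧸ I) ≃ F[X] ⧸ I :=
    { toFun := fun h => h 1
      invFun := fun t => LinearMap.mulRight F[X] t
      left_inv := fun h => LinearMap.ext fun y => by
        obtain ⟨r, rfl⟩ := Ideal.Quotient.mk_surjective y
        rw [LinearMap.mulRight_apply, ← mul_one (Ideal.Quotient.mk I r), mul_assoc, one_mul]
        show r • h 1 = h (Ideal.Quotient.mk I r * 1)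
        rw [← map_smul]
        rfl
      right_inv := fun t => one_mul t }
  haveI : Finite (F[X] ⧸ I) := Finite.of_equiv N e.toEquiv
  haveI : Module.Finite F (F[X] ⧸ I) := Module.Finite.of_finite
  rw [Nat.card_congr ((LinearEquiv.congrLeft (F[X] ⧸ I) F[X] e).toEquiv.symm.trans
    ((LinearEquiv.congrRight e.symm).toEquiv)).symm, Nat.card_congr eE, Module.natCard_eq_pow_finrank (K := F),
    finrank_quotient_span_eq_natDegree]

end Invariant

/-! ### the lattice of submodules -/

variable {M : Type*} [AddCommGroup M] [Module F M] [Module F[X] M] [IsScalarTower F F[X] M] [Finite M]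

theorem fac_sup {A B K : Submodule F[X] M} (hd : Disjoint A B) (hs : A ⊔ B = K) :
    fac F K = fac F A + fac F B := by
  have hA : A ≤ K := hs ▸ le_sup_left
  have hB : B ≤ K := hs ▸ le_sup_right
  rw [← fac_prod, ← fac_congr (LinearEquiv.ofBijective
    ((Submodule.inclusion hA).coprod (Submodule.inclusion hB)) ⟨?_, ?_⟩)]
  · rw [← LinearMap.ker_eq_bot, LinearMap.ker_eq_bot']
    rintro ⟨a, b⟩ h
    have h' : (a : M) + (b : M) = 0 := congrArg Subtype.val h
    have hab := (Submodule.disjoint_def.1 hd) a a.2 (by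
      rw [eq_neg_of_add_eq_zero_left h']
      exact B.neg_mem b.2)
    rw [hab, zero_add] at h'
    exact Prod.ext (Subtype.ext hab) (Subtype.ext h')
  · rintro ⟨k, hk⟩
    rw [← hs, Submodule.mem_sup] at hk
    obtain ⟨a, ha, b, hb, rfl⟩ := hk
    exact ⟨(⟨a, ha⟩, ⟨b, hb⟩), rfl⟩

theorem exists_split [IsSemisimpleModule F[X] M] {K : Submodule F[X] M} (hK : K ≠ ⊥) :
    ∃ S K' : Submodule F[X] M, IsAtom S ∧ K' < K ∧ Disjoint S K' ∧ S ⊔ K' = K := by
  obtain ⟨S, hS, hSK⟩ := (eq_bot_or_exists_atom_le K).resolve_left hK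
  obtain ⟨Q, hQ⟩ := exists_isCompl S
  refine ⟨S, Q ⊓ K, hS, lt_of_le_of_ne inf_le_right fun h => ?_, hQ.disjoint.mono_right inf_le_left, ?_⟩
  · exact hS.1 (eq_bot_iff.2 (hQ.disjoint le_rfl (hSK.trans (h ▸ inf_le_left))))
  · rw [← sup_inf_assoc_of_le Q hSK, hQ.sup_eq_top, top_inf_eq]

/-- Homomorphisms from a simple module. -/
theorem card_hom [Finite F] [IsSemisimpleModule F[X] M] {S : Submodule F[X] M} (hS : IsAtom S) :
    ∀ K : Submodule F[X] M,
      Nat.card (S →ₗ[F[X]] K) = Nat.card F ^ ((cp F S).natDegree * (fac F K).count (cp F S)) := by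
  haveI : Finite (Submodule F[X] M) := Finite.of_injective _ SetLike.coe_injective
  intro K
  induction K using WellFoundedLT.induction with
  | _ K ih =>
    haveI := isSimpleModule_iff_isAtom.2 hS
    rcases eq_or_ne K ⊥ with rfl | hK
    · rw [fac_eq_zero, Multiset.count_zero, mul_zero, pow_zero, Nat.card_eq_one_iff_unique]
      exact ⟨inferInstance, ⟨0⟩⟩
    obtain ⟨S1, K1, hS1, hlt, hd, hs⟩ := exists_split hK
    haveI := isSimpleModule_iff_isAtom.2 hS1
    have hA : S1 ≤ K := hs ▸ le_sup_left
    have hB : K1 ≤ K := hs ▸ le_sup_right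
    let e : (S1 × K1) ≃ₗ[F[X]] K := LinearEquiv.ofBijective
      ((Submodule.inclusion hA).coprod (Submodule.inclusion hB)) (by
        constructor
        · rintro ⟨a, b⟩ ⟨a', b'⟩ h
          have h' : (a : M) + (b : M) = (a' : M) + (b' : M) := congrArg Subtype.val h
          have hab := (Submodule.disjoint_def.1 hd) ((a : M) - a') (S1.sub_mem a.2 a'.2) (by
            rw [show (a : M) - a' = (b' : M) - b from sub_eq_sub_iff_add_eq_add.2 (by rw [h', add_comm])]
            exact K1.sub_mem b'.2 b.2)
          rw [sub_eq_zero] at hab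
          rw [hab] at h'
          exact Prod.ext (Subtype.ext hab) (Subtype.ext (add_left_cancel h'))
        · rintro ⟨k, hk⟩
          rw [← hs, Submodule.mem_sup] at hk
          obtain ⟨a, ha, b, hb, rfl⟩ := hk
          exact ⟨(⟨a, ha⟩, ⟨b, hb⟩), rfl⟩)
    let ep : (S →ₗ[F[X]] K) ≃ (S →ₗ[F[X]] S1) × (S →ₗ[F[X]] K1) :=
      { toFun := fun f => ((LinearMap.fst F[X] S1 K1).comp (e.symm.toLinearMap.comp f),
          (LinearMap.snd F[X] S1 K1).comp (e.symm.toLinearMap.comp f))
        invFun := fun p => e.toLinearMap.comp (p.1.prod p.2)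
        left_inv := fun f => LinearMap.ext fun x => e.apply_symm_apply (f x)
        right_inv := fun p => Prod.ext (LinearMap.ext fun x => congrArg Prod.fst (e.symm_apply_apply (p.1 x, p.2 x)))
          (LinearMap.ext fun x => congrArg Prod.snd (e.symm_apply_apply (p.1 x, p.2 x))) }
    rw [Nat.card_congr ep, Nat.card_prod, ih K1 hlt, fac_sup hd hs, fac_simple (N := S1),
      Multiset.count_add, mul_add, pow_add]
    congr 1
    rw [Multiset.count_singleton]
    by_cases hiso : Nonempty (S ≃ₗ[F[X]] S1)
    · obtain ⟨i⟩ := hiso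
      rw [if_pos (cp_congr i), mul_one, ← card_end (N := S),
        Nat.card_congr (LinearEquiv.congrRight i.symm).toEquiv]
    · rw [if_neg, mul_zero, pow_zero, Nat.card_eq_one_iff_unique]
      · refine ⟨⟨fun f g => ?_⟩, ⟨0⟩⟩
        have h0 : ∀ f : S →ₗ[F[X]] S1, f = 0 := fun f => f.bijective_or_eq_zero.resolve_left fun hb =>
          hiso ⟨LinearEquiv.ofBijective f hb⟩
        rw [h0 f, h0 g]
      · intro h
        obtain ⟨i⟩ := (simple_data (F := F) (N := S)).2
        obtain ⟨i1⟩ := (simple_data (F := F) (N := S1)).2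
        refine hiso ⟨?_⟩
        exact i.trans (((Submodule.quotEquivOfEq _ _ (by rw [h]))).trans i1.symm)

/-! ### the Möbius number -/

/-- The predicted Möbius number of a multiset of factors. -/
def phi (q : ℕ) (s : Multiset F[X]) : ℤ :=
  ∏ f ∈ s.toFinset, (-1) ^ s.count f * (q : ℤ) ^ (f.natDegree * (s.count f).choose 2)

theorem phi_cons (q : ℕ) (f : F[X]) (s : Multiset F[X]) :
    phi q (f ::ₘ s) = -((q : ℤ) ^ (f.natDegree * s.count f) * phi q s) := by
  have hs : phi q s = ∏ g ∈ insert f s.toFinset, (-1) ^ s.count g * (q : ℤ) ^ (g.natDegree * (s.count g).choose 2) := by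
    rw [phi]
    refine Finset.prod_subset (Finset.subset_insert _ _) fun g _ hg => ?_
    rw [Multiset.mem_toFinset] at hg
    simp [Multiset.count_eq_zero_of_notMem hg]
  rw [hs, phi, Multiset.toFinset_cons, ← Finset.mul_prod_erase _ _ (Finset.mem_insert_self f _),
    ← Finset.mul_prod_erase _ (fun g => (-1) ^ s.count g * (q : ℤ) ^ (g.natDegree * (s.count g).choose 2))
      (Finset.mem_insert_self f _), Multiset.count_cons_self,
    Finset.prod_congr rfl fun g hg => by rw [Multiset.count_cons_of_ne (Finset.ne_of_mem_erase hg)],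
    Nat.choose_succ_succ, Nat.choose_one_right, mul_add, pow_add, pow_succ]
  ring

variable [Fintype (Submodule F[X] M)]

/-- The complements of `K'` above `U`. -/
theorem card_complements {U S K' : Submodule F[X] M} (hC : IsCompl (U ⊔ K') S) (hP : IsCompl K' (U ⊔ S)) :
    Nat.card {V : Submodule F[X] M // U ≤ V ∧ IsCompl V K'} = Nat.card (S →ₗ[F[X]] K') := by
  have hext : ∀ f g : M →ₗ[F[X]] K', (∀ u ∈ U, f u = g u) → (∀ u ∈ K', f u = g u) → (∀ u ∈ S, f u = g u) →
      f = g := by
    intro f g h1 h2 h3
    rw [← LinearMap.eqLocus_eq_top, eq_top_iff, ← hC.sup_eq_top]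
    exact sup_le (sup_le h1 h2) h3
  refine Nat.card_congr (Equiv.ofBijective
    (fun V => (K'.projectionOnto V.1 V.2.2.symm).comp S.subtype) ⟨?_, ?_⟩)
  · rintro ⟨V, hUV, hV⟩ ⟨V', hUV', hV'⟩ h
    have he : K'.projectionOnto V hV.symm = K'.projectionOnto V' hV'.symm := by
      refine hext _ _ (fun u hu => ?_) (fun u hu => ?_) fun u hu => LinearMap.congr_fun h ⟨u, hu⟩
      · rw [(Submodule.projectionOnto_apply_eq_zero_iff hV.symm).2 (hUV hu),
          (Submodule.projectionOnto_apply_eq_zero_iff hV'.symm).2 (hUV' hu)]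
      · rw [Submodule.projectionOnto_apply_left hV.symm ⟨u, hu⟩,
          Submodule.projectionOnto_apply_left hV'.symm ⟨u, hu⟩]
    have hk := congrArg LinearMap.ker he
    rw [Submodule.ker_projectionOnto, Submodule.ker_projectionOnto] at hk
    exact Subtype.ext hk
  · intro h
    let f : M →ₗ[F[X]] K' :=
      K'.projectionOnto (U ⊔ S) hP + h.comp (S.projectionOnto (U ⊔ K') hC.symm)
    have hf : ∀ x : K', f x = x := fun x => by
      simp only [f, LinearMap.add_apply, LinearMap.comp_apply, Submodule.projectionOnto_apply_left hP x,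
        (Submodule.projectionOnto_apply_eq_zero_iff hC.symm).2 (le_sup_right (a := U) x.2), map_zero, add_zero]
    have hU : U ≤ LinearMap.ker f := fun u hu => by
      rw [LinearMap.mem_ker]
      simp only [f, LinearMap.add_apply, LinearMap.comp_apply,
        (Submodule.projectionOnto_apply_eq_zero_iff hP).2 (le_sup_left (b := S) hu),
        (Submodule.projectionOnto_apply_eq_zero_iff hC.symm).2 (le_sup_left (b := K') hu), map_zero, add_zero]
    refine ⟨⟨LinearMap.ker f, hU, (LinearMap.isCompl_of_proj hf).symm⟩, ?_⟩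
    refine LinearMap.ext fun s => ?_
    show K'.projectionOnto (LinearMap.ker f) _ (s : M) = h s
    rw [LinearMap.projectionOnto_of_proj f hf]
    simp only [f, LinearMap.add_apply, LinearMap.comp_apply,
      (Submodule.projectionOnto_apply_eq_zero_iff hP).2 (le_sup_right (a := U) s.2),
      Submodule.projectionOnto_apply_left hC.symm s, zero_add]

/-- The Möbius number from a submodule to the top. -/
theorem mob_eq [Finite F] [IsSemisimpleModule F[X] M] :
    ∀ K U : Submodule F[X] M, IsCompl U K → mob U = phi (Nat.card F) (fac F K) := by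
  intro K
  induction K using WellFoundedLT.induction with
  | _ K ih =>
    intro U hUK
    rcases eq_or_ne K ⊥ with rfl | hK
    · obtain rfl : U = ⊤ := by simpa using hUK.sup_eq_top
      rw [FlagMobius.mob_top, fac_eq_zero, phi]
      simp
    obtain ⟨S, K', hS, hlt, hd, hs⟩ := exists_split hK
    have hSK : S ≤ K := hs ▸ le_sup_left
    have hd1 : Disjoint U K' := hUK.disjoint.mono_right hlt.le
    have hd2 : Disjoint (U ⊔ K') S := by
      rw [disjoint_comm, disjoint_iff]
      refine (hS.le_iff.1 (inf_le_left : S ⊓ (U ⊔ K') ≤ S)).resolve_right fun hle' => ?_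
      have hle : S ≤ U ⊔ K' := inf_eq_left.1 hle'
      have h1 : S ≤ (K' ⊔ U) ⊓ K := le_inf (sup_comm U K' ▸ hle) hSK
      rw [sup_inf_assoc_of_le U hlt.le, hUK.inf_eq_bot, sup_bot_eq] at h1
      exact hS.1 (eq_bot_iff.2 (hd le_rfl h1))
    have hC : IsCompl (U ⊔ K') S :=
      IsCompl.of_eq hd2.eq_bot (by rw [sup_assoc, sup_comm K', hs, hUK.sup_eq_top])
    have hP : IsCompl K' (U ⊔ S) := by
      refine IsCompl.of_eq ?_ (by rw [← sup_assoc, sup_comm K', sup_assoc, sup_comm K', hs, hUK.sup_eq_top])
      exact (hd1.symm.disjoint_sup_right_of_disjoint_sup_left (by rwa [sup_comm K' U])).eq_bot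
    have hCo : IsCoatom (U ⊔ K') := hC.symm.isAtom_iff_isCoatom.1 hS
    classical
    have hset : Finset.univ.filter (fun V : Submodule F[X] M => U ≤ V ∧ V ⊓ (U ⊔ K') = U) =
        insert U (Finset.univ.filter fun V => U ≤ V ∧ IsCompl V K') := by
      ext V
      simp only [Finset.mem_filter, Finset.mem_univ, true_and, Finset.mem_insert]
      constructor
      · rintro ⟨hUV, hV⟩
        by_cases hVC : V ≤ U ⊔ K'
        · exact Or.inl (by rw [← hV, inf_eq_left.2 hVC])
        refine Or.inr ⟨hUV, IsCompl.of_eq ?_ ?_⟩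
        · refine eq_bot_iff.2 fun x hx => ?_
          have hxU : x ∈ U := hV ▸ (⟨hx.1, le_sup_right (a := U) hx.2⟩ : x ∈ V ⊓ (U ⊔ K'))
          exact (Submodule.mem_bot _).2 (Submodule.disjoint_def.1 hd1 x hxU hx.2)
        · rcases hCo.le_iff.1 (le_sup_right (a := V) (b := U ⊔ K')) with h | h
          · rwa [← sup_assoc, sup_eq_left.2 hUV] at h
          · exact absurd (h ▸ le_sup_left) hVC
      · rintro (rfl | ⟨hUV, hV⟩)
        · exact ⟨le_rfl, inf_eq_left.2 le_sup_left⟩
        · refine ⟨hUV, ?_⟩
          rw [inf_comm, sup_inf_assoc_of_le K' hUV, inf_comm, hV.inf_eq_bot, sup_bot_eq]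
    have hW : ∑ V ∈ Finset.univ.filter (fun V : Submodule F[X] M => U ≤ V ∧ V ⊓ (U ⊔ K') = U), mob V = 0 := by
      convert FlagMobius.weisner hCo U le_sup_left using 3
    rw [hset] at hW
    rw [Finset.sum_insert, Finset.sum_congr rfl fun V hV => ih K' hlt V (Finset.mem_filter.1 hV).2.2,
      Finset.sum_const, ← Fintype.card_subtype, ← Nat.card_eq_fintype_card, card_complements hC hP,
      card_hom hS, nsmul_eq_mul, Nat.cast_pow, ← eq_neg_iff_add_eq_zero] at hW
    · haveI := isSimpleModule_iff_isAtom.2 hS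
      rw [hW, fac_sup hd hs, fac_simple (N := S), Multiset.singleton_add, phi_cons]
    · rintro hmem
      have h := (Finset.mem_filter.1 hmem).2.2.sup_eq_top
      exact hCo.1 h

end CfsgLib.Char.SemisimpleMobius
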