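import Cfsg.Agent.Lib.Char.IndSpan
import Cfsg.Agent.Lib.Char.Perm

/-!
# Banaschewski's lemma and Solomon's induction theorem
-/

set_option autoImplicit false
set_option linter.unusedSectionVars false

namespace CfsgLib.Char

open scoped ComplexConjugate
open Representation Module Cfsg

universe u v

theorem prod_mem_of_values {S : Type v} [Fintype S] (R : AddSubgroup (S → ℤ))
    (hmul : ∀ f ∈ R, ∀ g ∈ R, f * g ∈ R) (f : S → (S → ℤ)) (hf : ∀ x, f x ∈ R) :
    (fun _ : S => ∏ x, f x x) ∈ R := by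
  classical
  have h : ∀ s : Finset S, (fun y => (∏ x ∈ s, f x x) - ∏ x ∈ s, (f x x - f x y)) ∈ R := by
    intro s
    induction s using Finset.induction_on with
    | empty =>
      have : (fun y : S => (∏ x ∈ (∅ : Finset S), f x x) - ∏ x ∈ (∅ : Finset S), (f x x - f x y)) = 0 := by
        funext y; simp
      rw [this]; exact zero_mem R
    | insert a s ha ih =>
      have e : (fun y => (∏ x ∈ insert a s, f x x) - ∏ x ∈ insert a s, (f x x - f x y)) =
          f a a • (fun y => (∏ x ∈ s, f x x) - ∏ x ∈ s, (f x x - f x y)) +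
            ((∏ x ∈ s, f x x) • f a - f a * fun y => (∏ x ∈ s, f x x) - ∏ x ∈ s, (f x x - f x y)) := by
        funext y
        simp only [Finset.prod_insert ha, Pi.add_apply, Pi.smul_apply, Pi.sub_apply, Pi.mul_apply,
          smul_eq_mul]
        ring
      rw [e]
      exact add_mem (R.zsmul_mem ih _) (sub_mem (R.zsmul_mem (hf a) _) (hmul _ (hf a) _ ih))
  have h0 := h Finset.univ
  have e : (fun y => (∏ x : S, f x x) - ∏ x : S, (f x x - f x y)) = fun _ => ∏ x, f x x := by
    funext y
    rw [Finset.prod_eq_zero (f := fun x => f x x - f x y) (Finset.mem_univ y) (sub_self _), sub_zero]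
  rwa [e] at h0

theorem banaschewski {S : Type v} [Finite S] (R : AddSubgroup (S → ℤ))
    (hmul : ∀ f ∈ R, ∀ g ∈ R, f * g ∈ R) (h1 : (1 : S → ℤ) ∉ R) :
    ∃ (x : S) (p : ℕ), p.Prime ∧ ∀ f ∈ R, (p : ℤ) ∣ f x := by
  classical
  have := Fintype.ofFinite S
  by_contra hc
  push Not at hc
  have h : ∀ x : S, ∃ f ∈ R, f x = 1 := by
    intro x
    obtain ⟨a, ha⟩ := Int.subgroup_cyclic (R.map (Pi.evalAddMonoidHom (fun _ : S => ℤ) x))
    have hdvd : ∀ f ∈ R, a ∣ f x := fun f hf => by
      have : f x ∈ AddSubgroup.closure ({a} : Set ℤ) := ha ▸ ⟨f, hf, rfl⟩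
      obtain ⟨n, hn⟩ := AddSubgroup.mem_closure_singleton.mp this
      exact ⟨n, by rw [← hn, smul_eq_mul, mul_comm]⟩
    have ha1 : a.natAbs = 1 := by
      by_contra hne
      obtain ⟨p, hp, hpa⟩ := Nat.exists_prime_and_dvd hne
      obtain ⟨f, hf, hnd⟩ := hc x p hp
      exact hnd ((Int.natCast_dvd.mpr hpa).trans (hdvd f hf))
    have hmem : a ∈ R.map (Pi.evalAddMonoidHom (fun _ : S => ℤ) x) :=
      ha ▸ AddSubgroup.subset_closure rfl
    obtain ⟨f, hf, hfx⟩ := hmem
    rcases Int.natAbs_eq_iff.mp ha1 with e | e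
    · exact ⟨f, hf, hfx.trans e⟩
    · refine ⟨-f, neg_mem hf, ?_⟩
      have : f x = -1 := hfx.trans e
      simp [this]
  choose f hf hfx using h
  refine h1 ?_
  have := prod_mem_of_values R hmul f hf
  simp only [hfx, Finset.prod_const_one] at this
  exact this

section Orbits

variable {G : Type u} [Group G] [Fintype G]

theorem permChar_eq_sum_orbits (X : Type v) [MulAction G X] [Finite X]
    [Fintype (MulAction.orbitRel.Quotient G X)] :
    permChar G X = ∑ ω : MulAction.orbitRel.Quotient G X,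
      indFun (MulAction.stabilizer G ω.out) (fun _ => 1) := by
  classical
  funext g
  have h : ∀ ω : MulAction.orbitRel.Quotient G X,
      indFun (MulAction.stabilizer G ω.out) (fun _ => 1) g =
        (Nat.card (MulAction.fixedBy (MulAction.orbit G ω.out) g) : ℂ) := by
    intro ω
    have e := permChar_eq_indFun (G := G) (MulAction.orbit G ω.out) ⟨ω.out, MulAction.mem_orbit_self _⟩
    have e2 : MulAction.stabilizer G (⟨ω.out, MulAction.mem_orbit_self _⟩ : MulAction.orbit G ω.out) =
        MulAction.stabilizer G ω.out := by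
      ext k
      simp [MulAction.mem_stabilizer_iff, Subtype.ext_iff]
    rw [← indFun_congr e2 (fun _ => 1) (fun _ => 1) fun _ _ _ => rfl, ← e]
    rfl
  rw [Finset.sum_apply, Finset.sum_congr rfl fun ω _ => h ω, ← Nat.cast_sum, permChar, ← Nat.card_sigma]
  congr 1
  refine Nat.card_congr
    { toFun := fun x => ⟨Quotient.mk _ x.1, ⟨⟨x.1, ?_⟩, ?_⟩⟩
      invFun := fun s => ⟨s.2.1.1, congrArg Subtype.val s.2.2⟩
      left_inv := fun x => rfl
      right_inv := ?_ }
  · exact Quotient.exact (Quotient.out_eq (Quotient.mk (MulAction.orbitRel G X) x.1)).symm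
  · exact Subtype.ext x.2
  · rintro ⟨ω, ⟨⟨y, hy⟩, hfix⟩⟩
    have hω : (Quotient.mk (MulAction.orbitRel G X) y) = ω :=
      (Quotient.sound hy).trans (Quotient.out_eq ω)
    subst hω
    rfl

theorem exists_subgroups_indFun_mul (H K : Subgroup G) :
    ∃ (ι : Type u) (_ : Fintype ι) (U : ι → Subgroup G), (∀ i, U i ≤ H) ∧
      indFun H (fun _ => 1) * indFun K (fun _ => 1) = ∑ i, indFun (U i) (fun _ => 1) := by
  classical
  have := Fintype.ofFinite H
  have := Fintype.ofFinite (G ⧸ K)
  have := Fintype.ofFinite (MulAction.orbitRel.Quotient H (G ⧸ K))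
  refine ⟨MulAction.orbitRel.Quotient H (G ⧸ K), inferInstance,
    fun ω => (MulAction.stabilizer H ω.out).map H.subtype, fun ω => Subgroup.map_subtype_le _, ?_⟩
  have e : indFun K (fun _ => 1) = permChar G (G ⧸ K) := by
    rw [permChar_eq_indFun (G ⧸ K) ((1 : G) : G ⧸ K)]
    exact indFun_congr (MulAction.stabilizer_quotient K).symm _ _ fun _ _ _ => rfl
  rw [e, indFun_mul H _ (isClassFunction_of_isCharacter (isCharacter_permChar (G ⧸ K)))]
  have e2 : (fun h : H => (1 : ℂ) * permChar G (G ⧸ K) h) = permChar H (G ⧸ K) := by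
    funext h
    rw [one_mul]
    rfl
  rw [e2, permChar_eq_sum_orbits, indFun_sum]
  exact Finset.sum_congr rfl fun ω _ => by rw [indFun_map]

theorem exists_coeff_indFun_mul (H K : Subgroup G) :
    ∃ a : Subgroup G → ℕ, (∀ U, a U ≠ 0 → U ≤ H) ∧
      indFun H (fun _ => 1) * indFun K (fun _ => 1) =
        ∑ U : Subgroup G, (a U : ℂ) • indFun U (fun _ => 1) := by
  classical
  obtain ⟨ι, _, U, hU, he⟩ := exists_subgroups_indFun_mul H K
  refine ⟨fun V => (Finset.univ.filter fun i => U i = V).card, fun V hV => ?_, ?_⟩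
  · obtain ⟨i, hi⟩ := Finset.card_ne_zero.mp hV
    exact (Finset.mem_filter.mp hi).2 ▸ hU i
  · rw [he, ← Finset.sum_fiberwise Finset.univ U]
    refine Finset.sum_congr rfl fun V _ => ?_
    rw [Finset.sum_congr rfl (g := fun _ => indFun V (fun _ => 1)) fun i hi =>
      indFun_congr (Finset.mem_filter.mp hi).2 _ _ fun _ _ _ => rfl, Finset.sum_const,
      Nat.cast_smul_eq_nsmul ℂ]

end Orbits

/-! ### Quasi-elementary subgroups -/

/-- `H` is `p`-quasi-elementary. -/
def IsQuasiElem {G : Type u} [Group G] (p : ℕ) (H : Subgroup G) : Prop :=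
  ∃ C : Subgroup G, C ≤ H ∧ H ≤ Subgroup.normalizer (C : Set G) ∧ IsCyclic C ∧
    Nat.Coprime (Nat.card C) p ∧ ∃ k : ℕ, C.relIndex H = p ^ k

variable {G : Type u} [Group G] [Fintype G] {p : ℕ}

theorem isQuasiElem_of_le (hp : p.Prime) {H U : Subgroup G} (hH : IsQuasiElem p H) (hUH : U ≤ H) :
    IsQuasiElem p U := by
  obtain ⟨C, hCH, hHN, hcyc, hcop, k, hk⟩ := hH
  refine ⟨C ⊓ U, inf_le_right, fun u hu => ?_, ?_, ?_, ?_⟩
  · rw [Subgroup.mem_normalizer_iff]
    intro c
    have h1 := Subgroup.mem_normalizer_iff.mp (hHN (hUH hu)) c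
    constructor
    · exact fun ⟨a, b⟩ => ⟨h1.mp a, U.mul_mem (U.mul_mem hu b) (U.inv_mem hu)⟩
    · rintro ⟨a, b⟩
      refine ⟨h1.mpr a, ?_⟩
      have := U.mul_mem (U.mul_mem (U.inv_mem hu) b) hu
      simpa [mul_assoc] using this
  · exact isCyclic_of_injective (Subgroup.inclusion (inf_le_left : C ⊓ U ≤ C))
      (Subgroup.inclusion_injective _)
  · exact Nat.Coprime.of_dvd_left (Subgroup.card_dvd_of_le inf_le_left) hcop
  · have h1 : (C ⊓ U).relIndex U = C.relIndex U := Subgroup.inf_relIndex_right C U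
    have hdvd : C.relIndex U ∣ C.relIndex H := by
      have hn : (C.subgroupOf H).Normal := Subgroup.normal_subgroupOf_of_le_normalizer hHN
      have := Subgroup.relIndex_dvd_index_of_normal (C.subgroupOf H) (U.subgroupOf H)
      rwa [Subgroup.relIndex_subgroupOf hUH] at this
    obtain ⟨j, -, hj⟩ := (Nat.dvd_prime_pow hp).mp (hk ▸ hdvd)
    exact ⟨j, h1.trans hj⟩

theorem exists_pow_parts (hp : p.Prime) (x : G) :
    ∃ u v : G, u * v = x ∧ Commute u v ∧ (∃ k : ℕ, u ^ p ^ k = 1) ∧ Nat.Coprime (orderOf v) p ∧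
      u ∈ Subgroup.zpowers x ∧ v ∈ Subgroup.zpowers x := by
  set n := orderOf x with hn
  have hn0 : n ≠ 0 := (orderOf_pos x).ne'
  set k := n.factorization p with hk
  set m := ordCompl[p] n with hm
  have hkm : p ^ k * m = n := Nat.ordProj_mul_ordCompl_eq_self n p
  have hcop : Nat.Coprime p m := Nat.coprime_ordCompl hp hn0
  obtain ⟨a, b, hab⟩ := Nat.isCoprime_iff_coprime.mpr (hcop.pow_left k)
  refine ⟨x ^ (b * (m : ℤ)), x ^ (a * ((p ^ k : ℕ) : ℤ)), ?_, ?_, ⟨k, ?_⟩, ?_,
    Subgroup.zpow_mem_zpowers x _, Subgroup.zpow_mem_zpowers x _⟩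
  · rw [← zpow_add, add_comm, hab, zpow_one]
  · exact Commute.zpow_zpow_self x _ _
  · rw [← zpow_natCast, ← zpow_mul, mul_assoc, ← Nat.cast_mul, mul_comm m, hkm, mul_comm,
      zpow_mul, zpow_natCast, hn, pow_orderOf_eq_one, one_zpow]
  · refine Nat.Coprime.of_dvd_left (orderOf_dvd_of_pow_eq_one (n := m) ?_) hcop.symm
    rw [← zpow_natCast, ← zpow_mul, mul_assoc, ← Nat.cast_mul, hkm, mul_comm, zpow_mul,
      zpow_natCast, hn, pow_orderOf_eq_one, one_zpow]

theorem quasiElem_perm_not_dvd (hp : p.Prime) (x : G) :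
    ∃ H : Subgroup G, IsQuasiElem p H ∧ ∃ n : ℕ, indFun H (fun _ => 1) x = (n : ℂ) ∧ ¬ p ∣ n := by
  classical
  have : Fact p.Prime := ⟨hp⟩
  obtain ⟨u, v, huv, hcomm, ⟨k, hu⟩, hv, hux, hvx⟩ := exists_pow_parts hp x
  set C := Subgroup.zpowers v with hC
  set N := Subgroup.normalizer (C : Set G) with hN
  set C' := C.subgroupOf N with hC'
  have hn : C'.Normal := Subgroup.normal_subgroupOf_of_le_normalizer le_rfl
  have hxN : x ∈ N := by
    rw [hN, Subgroup.mem_normalizer_iff]
    intro c
    have hcom : ∀ d ∈ C, x * d = d * x := by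
      intro d hd
      obtain ⟨i, rfl⟩ := hd
      obtain ⟨j, hj⟩ := hvx
      have : Commute x v := hj ▸ Commute.self_zpow x j
      exact this.zpow_right i
    constructor
    · intro hc; rw [hcom c hc, mul_inv_cancel_right]; exact hc
    · intro hc
      have h2 := hcom _ hc
      have e : x * c * x⁻¹ = c := by
        have h3 : x * (x * c * x⁻¹) = x * c := by rw [h2]; group
        exact mul_left_cancel h3
      rwa [e] at hc
  set xb : N ⧸ C' := ((⟨x, hxN⟩ : N) : N ⧸ C') with hxb
  have hxpk : x ^ p ^ k ∈ C := by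
    rw [← huv, hcomm.mul_pow, hu, one_mul]
    exact Subgroup.pow_mem _ (Subgroup.mem_zpowers v) _
  have hxb1 : xb ^ p ^ k = 1 := by
    rw [hxb, ← QuotientGroup.mk_pow, QuotientGroup.eq_one_iff]
    exact Subgroup.mem_subgroupOf.mpr (by simpa using hxpk)
  have hpg : IsPGroup p (Subgroup.zpowers xb) := by
    intro z
    obtain ⟨i, hi⟩ := z.2
    refine ⟨k, Subtype.ext ?_⟩
    rw [SubgroupClass.coe_pow, ← hi, ← zpow_natCast, ← zpow_mul, mul_comm, zpow_mul, zpow_natCast,
      hxb1, one_zpow]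
    rfl
  obtain ⟨P, hP⟩ := hpg.exists_le_sylow
  set H' := (P : Subgroup (N ⧸ C')).comap (QuotientGroup.mk' C') with hH'
  set H := H'.map N.subtype with hH
  have hC'H' : C' ≤ H' := fun c hc => by
    rw [hH', Subgroup.mem_comap, QuotientGroup.mk'_apply, (QuotientGroup.eq_one_iff c).mpr hc]
    exact one_mem _
  have hCH : C ≤ H := fun c hc => ⟨⟨c, Subgroup.le_normalizer hc⟩, hC'H' hc, rfl⟩
  have hHN : H ≤ N := Subgroup.map_subtype_le _
  have hxH : x ∈ H := ⟨⟨x, hxN⟩, hP (Subgroup.mem_zpowers xb), rfl⟩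
  have hHsub : H.subgroupOf N = H' :=
    Subgroup.comap_map_eq_self_of_injective N.subtype_injective H'
  obtain ⟨j, hj⟩ := IsPGroup.iff_card.mp P.isPGroup'
  have hrel : C.relIndex H = p ^ j := by
    have h1 : C.relIndex H = C'.relIndex H' := by
      rw [← hHsub, hC', Subgroup.relIndex_subgroupOf hHN]
    have e1 := Subgroup.relIndex_mul_index hC'H'
    have e2 : H'.index = (P : Subgroup (N ⧸ C')).index :=
      Subgroup.index_comap_of_surjective _ (QuotientGroup.mk'_surjective C')
    have e3 := (P : Subgroup (N ⧸ C')).card_mul_index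
    rw [← Subgroup.index_eq_card, ← e1, e2] at e3
    rw [h1, ← hj]
    exact (Nat.eq_of_mul_eq_mul_right (Nat.pos_of_ne_zero Subgroup.index_ne_zero_of_finite) e3).symm
  refine ⟨H, ⟨C, hCH, hHN, inferInstance, ?_, j, hrel⟩, Nat.card (MulAction.fixedBy (G ⧸ H) x), ?_, ?_⟩
  · rw [hC, Nat.card_zpowers]; exact hv
  · have e : indFun H (fun _ => 1) = permChar G (G ⧸ H) := by
      rw [permChar_eq_indFun (G ⧸ H) ((1 : G) : G ⧸ H)]
      exact indFun_congr (MulAction.stabilizer_quotient H).symm _ _ fun _ _ _ => rfl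
    rw [e]
    rfl
  · have := Fintype.ofFinite (G ⧸ H)
    let Y := {q : G ⧸ H // ∃ m : N, ((m : G) : G ⧸ H) = q}
    have hYx : ∀ q : Y, ∃ m : N, ((m : G) : G ⧸ H) = x • q.1 := by
      rintro ⟨q, m, rfl⟩
      exact ⟨⟨x, hxN⟩ * m, rfl⟩
    let f : Function.End Y := fun q => ⟨x • q.1, hYx q⟩
    have hfpow : ∀ (i : ℕ) (q : Y), ((f ^ i) q).1 = x ^ i • q.1 := by
      intro i
      induction i with
      | zero => intro q; simp; rfl
      | succ i ih =>
        intro q
        rw [pow_succ']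
        show x • ((f ^ i) q).1 = _
        rw [ih, smul_smul, ← pow_succ']
    have hfC : f ^ p ^ k = 1 := by
      funext q
      apply Subtype.ext
      rw [hfpow]
      obtain ⟨q, m, rfl⟩ := q
      show x ^ p ^ k • ((m : G) : G ⧸ H) = ((m : G) : G ⧸ H)
      rw [MulAction.Quotient.smul_mk, eq_comm, QuotientGroup.eq, smul_eq_mul]
      refine hCH ?_
      have := (Subgroup.mem_normalizer_iff.mp (N.inv_mem m.2) (x ^ p ^ k)).mp hxpk
      simpa [mul_assoc] using this
    have hmod := Equiv.Perm.card_fixedPoints_modEq (p := p) hfC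
    have hmemY : ∀ q : G ⧸ H, x • q = q → ∃ m : N, ((m : G) : G ⧸ H) = q := by
      intro q hq
      obtain ⟨g, rfl⟩ := QuotientGroup.mk_surjective q
      refine ⟨⟨g, ?_⟩, rfl⟩
      have hgx : g⁻¹ * x * g ∈ H := by
        have := QuotientGroup.eq.mp (MulAction.mem_fixedBy.mp hq).symm
        simpa [mul_assoc] using this
      have hgv : g⁻¹ * v * g ∈ C := by
        obtain ⟨i, hi⟩ := hvx
        have hvH : g⁻¹ * v * g ∈ H := by
          have h2 := H.zpow_mem hgx i
          rw [show g⁻¹ * x * g = MulAut.conj g⁻¹ x by simp, ← map_zpow] at h2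
          simpa [← hi] using h2
        obtain ⟨w, hw, hwe⟩ := hvH
        have hwP : (w : N ⧸ C') ∈ (P : Subgroup (N ⧸ C')) := hw
        obtain ⟨i', hi'⟩ := P.isPGroup' ⟨_, hwP⟩
        have h1 : orderOf (w : N ⧸ C') ∣ p ^ i' :=
          orderOf_dvd_of_pow_eq_one (congrArg Subtype.val hi')
        have h2 : orderOf (w : N ⧸ C') ∣ orderOf v := by
          refine (orderOf_map_dvd (QuotientGroup.mk' C') w).trans (dvd_of_eq ?_)
          rw [← Subgroup.orderOf_coe, show (w : G) = g⁻¹ * v * g from hwe]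
          exact orderOf_injective (MulAut.conj g⁻¹).toMonoidHom (MulAut.conj g⁻¹).injective v
            |>.symm.trans (by simp) |>.symm
        have h3 : orderOf (w : N ⧸ C') = 1 :=
          Nat.dvd_one.mp (((hv.pow_right i').gcd_eq_one) ▸ Nat.dvd_gcd h2 h1)
        rw [orderOf_eq_one_iff, QuotientGroup.eq_one_iff] at h3
        exact hwe ▸ h3
      have hcard : (C.map (MulAut.conj g⁻¹).toMonoidHom) = C := by
        refine Subgroup.eq_of_le_of_card_ge ?_ ?_
        · rw [hC, MonoidHom.map_zpowers, Subgroup.zpowers_le, ← hC]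
          simpa using hgv
        · rw [Nat.card_congr (C.equivMapOfInjective (MulAut.conj g⁻¹).toMonoidHom (MulAut.conj g⁻¹).injective).toEquiv]
      rw [hN, Subgroup.mem_normalizer_iff]
      intro c
      constructor
      · intro hc
        have hc' : c ∈ C.map (MulAut.conj g⁻¹).toMonoidHom := hcard.symm ▸ hc
        obtain ⟨d, hd, hde⟩ := hc'
        have hd' : g * c * g⁻¹ = d := by rw [← hde]; simp [mul_assoc]
        rwa [hd']
      · intro hc
        have : (MulAut.conj g⁻¹).toMonoidHom (g * c * g⁻¹) ∈ C.map (MulAut.conj g⁻¹).toMonoidHom :=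
          Subgroup.mem_map_of_mem _ hc
        rw [hcard] at this
        simpa [mul_assoc] using this
    have hfix : Nat.card (MulAction.fixedBy (G ⧸ H) x) = Fintype.card f.fixedPoints := by
      rw [← Nat.card_eq_fintype_card]
      refine (Nat.card_congr
        { toFun := fun q => ⟨q.1.1, congrArg Subtype.val q.2⟩
          invFun := fun q => ⟨⟨q.1, hmemY q.1 q.2⟩, Subtype.ext q.2⟩
          left_inv := fun q => rfl
          right_inv := fun q => rfl }).symm
    have hcardY : Fintype.card Y = H'.index := by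
      rw [← Nat.card_eq_fintype_card, Subgroup.index_eq_card]
      refine (Nat.card_congr (Equiv.ofBijective
        (fun q : N ⧸ H' => Quotient.liftOn' q (fun m => (⟨((m : G) : G ⧸ H), m, rfl⟩ : Y)) ?_) ⟨?_, ?_⟩)).symm
      · intro a b hab
        rw [QuotientGroup.leftRel_apply, ← hHsub] at hab
        exact Subtype.ext (QuotientGroup.eq.mpr hab)
      · intro a b hab
        induction a using Quotient.inductionOn' with
        | h a =>
          induction b using Quotient.inductionOn' with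
          | h b =>
            have := QuotientGroup.eq.mp (congrArg Subtype.val hab)
            refine QuotientGroup.eq.mpr ?_
            rw [← hHsub]
            exact this
      · rintro ⟨q, m, rfl⟩
        exact ⟨Quotient.mk'' m, rfl⟩
    rw [hfix]
    intro hdvd
    rw [hcardY] at hmod
    have : p ∣ H'.index := (Nat.ModEq.dvd_iff hmod dvd_rfl).mpr hdvd
    rw [Subgroup.index_comap_of_surjective _ (QuotientGroup.mk'_surjective C')] at this
    exact P.not_dvd_index this

end CfsgLib.Char
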