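import Cfsg.Agent.Lib.Char.SLTwoValues

/-!
# Cyclic tori of order `q + 1` in `SL(2, q)`
-/

set_option autoImplicit false
set_option linter.unusedSectionVars false
set_option linter.style.haveILetI false

namespace CfsgLib.Char.TwoChars

open Matrix Cfsg CfsgLib.Char

variable {F : Type*} [Field F] [Fintype F] [DecidableEq F]

local notation "M2" => Matrix (Fin 2) (Fin 2) F
local notation "S2" => Matrix.SpecialLinearGroup (Fin 2) F
local notation "qF" => Fintype.card F

theorem ell_commute_form {g M : M2} (h : TwoClasses.IsEll g) (hc : M * g = g * M) :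
    ∃ a b : F, M = a • (1 : M2) + b • g := by
  have hg := TwoClasses.isEll_lower h
  refine ⟨M 0 0 - M 1 0 / g 1 0 * g 0 0, M 1 0 / g 1 0, ?_⟩
  have e00 := congrFun (congrFun hc 0) 0
  have e10 := congrFun (congrFun hc 1) 0
  simp [Matrix.mul_apply, Fin.sum_univ_two] at e00 e10
  ext i j
  fin_cases i <;> fin_cases j <;> simp <;> field_simp
  · linear_combination e00
  · first | linear_combination e10 | linear_combination -e10

theorem ell_commute_eq_zero {g M : M2} (h : TwoClasses.IsEll g) (hc : M * g = g * M) (hd : M.det = 0) :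
    M = 0 := by
  obtain ⟨a, b, rfl⟩ := ell_commute_form h hc
  simp [Matrix.det_fin_two] at hd
  by_cases hb : b = 0
  · subst hb
    simp at hd
    simp [hd]
  · exfalso
    refine TwoClasses.isEll_no_root h (-(a / b)) ?_
    rw [Matrix.trace_fin_two, Matrix.det_fin_two]
    field_simp
    linear_combination hd

theorem ell_commute_comm {g M N : M2} (h : TwoClasses.IsEll g) (hM : M * g = g * M) (hN : N * g = g * N) :
    M * N = N * M := by
  obtain ⟨a, b, rfl⟩ := ell_commute_form h hM
  obtain ⟨c, d, rfl⟩ := ell_commute_form h hN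
  simp [add_mul, mul_add, smul_smul, mul_comm a c, mul_comm a d, mul_comm b c, mul_comm b d]
  abel

theorem ell_centralizer_cyclic {g : S2} (h : TwoClasses.IsEll g.1) :
    IsCyclic (Subgroup.centralizer ({g} : Set S2)) := by
  let R : Subring M2 := Subring.centralizer {g.1}
  have hmem : ∀ {M : M2}, M ∈ R → M * g.1 = g.1 * M := fun {M} hM =>
    ((Subring.mem_centralizer_iff.1 hM) g.1 rfl).symm
  letI : CommRing R := { (inferInstance : Ring R) with
    mul_comm := fun a b => Subtype.ext (ell_commute_comm h (hmem a.2) (hmem b.2)) }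
  haveI : NoZeroDivisors R := ⟨fun {a b} hab => by
    have := congrArg (fun z : R => z.1.det) hab
    simp at this
    rcases this with ha | hb
    · exact Or.inl (Subtype.ext (ell_commute_eq_zero h (hmem a.2) ha))
    · exact Or.inr (Subtype.ext (ell_commute_eq_zero h (hmem b.2) hb))⟩
  haveI : Nontrivial R := ⟨0, 1, fun e => zero_ne_one (α := M2) (congrArg Subtype.val e)⟩
  haveI : IsDomain R := NoZeroDivisors.to_isDomain R
  let f : Subgroup.centralizer ({g} : Set S2) →* R :=
    { toFun := fun x => ⟨x.1.1, Subring.mem_centralizer_iff.2 fun y hy => by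
        rw [Set.mem_singleton_iff.1 hy]
        exact (congrArg (fun z : S2 => z.1) (Subgroup.mem_centralizer_singleton_iff.1 x.2)).symm⟩
      map_one' := rfl
      map_mul' := fun _ _ => rfl }
  exact isCyclic_of_injective_ringHom f fun a b e =>
    Subtype.ext (Subtype.ext (congrArg (fun z : R => z.1) e))

theorem sl_mem_center_iff (g : S2) : g ∈ Subgroup.center S2 ↔ TwoClasses.IsScalar2 g.1 := by
  rw [Matrix.SpecialLinearGroup.mem_center_iff, TwoClasses.sl_scalar_iff]
  simp only [Fintype.card_fin, Matrix.scalar_apply, ← Matrix.smul_one_eq_diagonal]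
  exact exists_congr fun r => and_congr_right fun _ => eq_comm

theorem sl_cayley (x : S2) : x.1 * x.1 = x.1.trace • x.1 - 1 := by
  have hd := x.det_coe
  rw [Matrix.det_fin_two] at hd
  ext i j
  fin_cases i <;> fin_cases j <;> simp [Matrix.mul_apply, Fin.sum_univ_two, Matrix.trace_fin_two]
  · linear_combination -hd
  · ring
  · ring
  · linear_combination -hd

theorem scalar_of_sq_one (hodd : Odd qF) {x : S2} (h : x * x = 1) : TwoClasses.IsScalar2 x.1 := by
  have h2 := TwoClasses.two_ne_zero_of_odd hodd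
  have e : x.1 * x.1 = 1 := congrArg Subtype.val h
  rw [sl_cayley] at e
  have e' : x.1.trace • x.1 = (2 : F) • (1 : M2) := by
    rw [two_smul]; exact sub_eq_iff_eq_add.1 e
  have ht : x.1.trace ≠ 0 := by
    intro h0
    rw [h0, zero_smul] at e'
    have := congrFun (congrFun e' 0) 0
    simp at this
    exact h2 this.symm
  exact (TwoClasses.isScalar2_iff _).2 ⟨x.1.trace⁻¹ * 2, by
    rw [← smul_smul, ← e', smul_smul, inv_mul_cancel₀ ht, one_smul]⟩

theorem elS_mul (a b : Fˣ) (x y : F) :
    elS a x * elS b y = elS (a * b) ((a : F) * y + x * ((b⁻¹ : Fˣ) : F)) := Subtype.ext (by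
  rw [Matrix.SpecialLinearGroup.coe_mul, elS_val, elS_val, elS_val]
  ext i j
  fin_cases i <;> fin_cases j <;> simp [Matrix.mul_apply, Fin.sum_univ_two, mul_comm])

theorem elS_pow_sq {ε : Fˣ} (hε : ε * ε = 1) (x : F) (n : ℕ) :
    elS ε x ^ n = elS (ε ^ n) ((n : F) * x * ((ε ^ (n + 1) : Fˣ) : F)) := by
  have hi : ε⁻¹ = ε := inv_eq_of_mul_eq_one_right hε
  have he : (ε : F) * ε = 1 := by rw [← Units.val_mul, hε, Units.val_one]
  induction n with
  | zero => simp [elS_one_zero]
  | succ n ih =>
    rw [pow_succ, ih, elS_mul, hi, pow_succ ε n]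
    congr 1
    push_cast [pow_succ]
    linear_combination (-(x * (ε : F) ^ n)) * he

theorem isEll_congr {g h : S2} (hg : TwoClasses.IsEll g.1) (e : h.1.trace = g.1.trace) :
    TwoClasses.IsEll h.1 := by
  refine TwoClasses.isEll_of_no_root fun a => ?_
  rw [e, h.det_coe]
  simpa [g.det_coe] using TwoClasses.isEll_no_root hg a

theorem ell_of_pow (hodd : Odd qF) {x : S2} (hp : x ^ (qF + 1) = 1) (hns : ¬ TwoClasses.IsScalar2 x.1) :
    TwoClasses.IsEll x.1 := by
  classical
  refine TwoClasses.isEll_of_no_root fun a h0 => ?_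
  rw [x.det_coe] at h0
  have ha : a ≠ 0 := by rintro rfl; simp at h0
  let u : Fˣ := Units.mk0 a ha
  have ht : x.1.trace = (u : F) + ((u⁻¹ : Fˣ) : F) := by
    simp [u]; field_simp; linear_combination -h0
  have hq1 : u ^ (qF + 1) = u * u := by
    have : u ^ (qF - 1) = 1 := by rw [← Fintype.card_units]; exact pow_card_eq_one
    rw [show qF + 1 = (qF - 1) + 2 by have := Fintype.card_pos (α := F); omega, pow_add, this, one_mul, pow_two]
  by_cases hu : u * u = 1
  · have hui : u⁻¹ = u := inv_eq_of_mul_eq_one_right hu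
    have h2 := TwoClasses.two_ne_zero_of_odd hodd
    obtain ⟨ν, hν⟩ := FiniteField.exists_nonsquare (TwoClasses.ringChar_ne_two_of_odd hodd)
    obtain ⟨ε, hc⟩ := TwoClasses.exists_jor hodd hν hns ((TwoClasses.dsc_eq_zero_iff hodd _).2
      ⟨⟨(u : F), by rw [pow_two, ← Units.val_mul, hu, Units.val_one]⟩, by rw [ht, hui, two_mul]⟩)
    have key : ∀ δ : F, IsConj x (TwoClasses.jor ε δ) → δ = 0 := by
      intro δ hd
      have hε0 : ε.1 ≠ 0 := fun h => by have := ε.2; rw [h] at this; simp at this
      let e : Fˣ := Units.mk0 ε.1 hε0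
      have he : e * e = 1 := Units.ext (by simpa [e, pow_two] using ε.2)
      have hj : TwoClasses.jor ε δ = elS e δ := Subtype.ext (by
        rw [elS_val, inv_eq_of_mul_eq_one_right he]; rfl)
      obtain ⟨c, hc⟩ := isConj_iff.1 hd
      have hp' : elS e δ ^ (qF + 1) = 1 := by rw [← hj, ← hc, conj_pow, hp]; group
      rw [elS_pow_sq he] at hp'
      have := congrArg (fun g : S2 => g.1 0 1) hp'
      simp [elS_val, e, hε0] at this
      exact this
    obtain ⟨ν0, hc⟩ : ∃ δ : F, δ ≠ 0 ∧ IsConj x (TwoClasses.jor ε δ) := by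
      rcases hc with hc | hc
      · exact ⟨1, one_ne_zero, hc⟩
      · exact ⟨ν, fun h => hν (h ▸ IsSquare.zero), hc⟩
    exact hc.1 (key _ hc.2)
  · have hne : (u : F) ≠ ((u⁻¹ : Fˣ) : F) := fun e => hu (by
      have := Units.ext e; nth_rewrite 2 [this]; exact mul_inv_cancel u)
    have hns' : ¬ TwoClasses.IsScalar2 (elS u 0).1 := fun hs => hne (by simpa [elS_val] using hs.2.2)
    have htr : x.1.trace = (elS u 0).1.trace := by rw [ht]; simp [elS_val, Matrix.trace_fin_two]
    have hd : TwoClasses.dsc x.1.trace ≠ 0 := by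
      rw [htr]; exact split_dsc (by simp [elS_val]) (by simpa [elS_val] using hne)
    obtain ⟨c, hc⟩ := isConj_iff.1 (TwoClasses.sl_isConj_of_trace hns hns' htr (Or.inl hd))
    have hp' : elS u 0 ^ (qF + 1) = 1 := by rw [← hc, conj_pow, hp]; group
    have hpow : ∀ n : ℕ, elS u 0 ^ n = elS (u ^ n) 0 := fun n => by
      induction n with
      | zero => simp [elS_one_zero]
      | succ n ih => rw [pow_succ, ih, elS_mul, pow_succ]; simp
    rw [hpow, hq1] at hp'
    exact hu (Units.ext (by simpa [elS_val] using congrArg (fun g : S2 => g.1 0 0) hp'))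

section Torus

theorem torus_comm {C : Subgroup S2} (hC : IsCyclic C) (a b : C) : (a : S2) * b = b * a := by
  obtain ⟨g, hg⟩ := hC.exists_generator
  obtain ⟨i, rfl⟩ := Subgroup.mem_zpowers_iff.1 (hg a)
  obtain ⟨j, rfl⟩ := Subgroup.mem_zpowers_iff.1 (hg b)
  exact congrArg Subtype.val (Commute.zpow_zpow_self g i j).eq

theorem torus_pow {C : Subgroup S2} (hcard : Nat.card C = qF + 1) {g : S2} (hg : g ∈ C) : g ^ (qF + 1) = 1 := by
  have := congrArg Subtype.val (pow_card_eq_one' (x := (⟨g, hg⟩ : C)))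
  rwa [hcard] at this

theorem torus_ell {C : Subgroup S2} (hcard : Nat.card C = qF + 1) (hodd : Odd qF) {g : S2} (hg : g ∈ C) (hns : ¬ TwoClasses.IsScalar2 g.1) :
    TwoClasses.IsEll g.1 := ell_of_pow hodd (torus_pow hcard hg) hns

/-- The central involution. -/
def negS : S2 := ⟨-1, by rw [Matrix.det_neg, Matrix.det_one, Fintype.card_fin]; norm_num⟩

theorem negS_val : (negS : S2).1 = (-1 : M2) := rfl

theorem scalar_negS : TwoClasses.IsScalar2 (negS : S2).1 := by
  simp [negS_val, TwoClasses.IsScalar2]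

theorem negS_ne_one (hodd : Odd qF) : (negS : S2) ≠ 1 := fun h => by
  have := congrArg (fun g : S2 => g.1 0 0) h
  simp [negS_val] at this
  exact TwoClasses.two_ne_zero_of_odd hodd (by linear_combination -this)

theorem scalar_cases {g : S2} (h : TwoClasses.IsScalar2 g.1) : g = 1 ∨ g = negS := by
  obtain ⟨ε, hε, hg⟩ := (TwoClasses.sl_scalar_iff g).1 h
  rcases sq_eq_one_iff.1 hε with rfl | rfl
  · exact Or.inl (Subtype.ext (by rw [hg, one_smul]; rfl))
  · exact Or.inr (Subtype.ext (by rw [hg, negS_val, neg_smul, one_smul]))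

theorem negS_mem {C : Subgroup S2} (hcard : Nat.card C = qF + 1) (hodd : Odd qF) : (negS : S2) ∈ C := by
  haveI : Fact (Nat.Prime 2) := ⟨Nat.prime_two⟩
  obtain ⟨x, hx⟩ := exists_prime_orderOf_dvd_card' (G := C) 2
    (by rw [hcard]; rcases hodd with ⟨k, hk⟩; omega)
  have h2 : (x : S2) * x = 1 := by
    have := congrArg Subtype.val (pow_orderOf_eq_one x)
    rw [hx] at this
    simpa [pow_two] using this
  rcases scalar_cases (scalar_of_sq_one hodd h2) with h | h
  · have : x = 1 := Subtype.ext h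
    rw [this, orderOf_one] at hx
    norm_num at hx
  · exact h ▸ x.2

theorem scalar_mem {C : Subgroup S2} (hcard : Nat.card C = qF + 1) (hodd : Odd qF) {g : S2} (h : TwoClasses.IsScalar2 g.1) : g ∈ C := by
  rcases scalar_cases h with rfl | rfl
  · exact one_mem C
  · exact negS_mem hcard hodd

theorem centralizer_torus {C : Subgroup S2} (hC : IsCyclic C) (hcard : Nat.card C = qF + 1) (hodd : Odd qF) {c : C} (hns : ¬ TwoClasses.IsScalar2 (c : S2).1) :
    Subgroup.centralizer ({(c : S2)} : Set S2) = C := by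
  refine (Subgroup.eq_of_le_of_card_ge (fun x hx => ?_) ?_).symm
  · exact Subgroup.mem_centralizer_singleton_iff.2 (torus_comm hC ⟨x, hx⟩ c)
  · rw [card_centralizer_ell hodd (torus_ell hcard hodd c.2 hns), hcard]

theorem inv_val (c : S2) : (c⁻¹ : S2).1 = c.1.trace • (1 : M2) - c.1 := by
  rw [Matrix.SpecialLinearGroup.coe_inv, Matrix.adjugate_fin_two]
  ext i j
  fin_cases i <;> fin_cases j <;> simp [Matrix.trace_fin_two]

theorem torus_fusion {C : Subgroup S2} (hC : IsCyclic C) (hcard : Nat.card C = qF + 1) (hodd : Odd qF) {c d : C} (hns : ¬ TwoClasses.IsScalar2 (c : S2).1)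
    (h : IsConj (c : S2) (d : S2)) : (d : S2) = c ∨ (d : S2) = (c : S2)⁻¹ := by
  have hell := torus_ell hcard hodd c.2 hns
  have hcomm : (d : S2).1 * (c : S2).1 = (c : S2).1 * (d : S2).1 :=
    congrArg Subtype.val (torus_comm hC d c)
  have ht := (TwoClasses.sl_conj_spec h).1
  have hz : ((d : S2).1 - (c : S2).1) * ((d : S2).1 - ((c : S2).1.trace • (1 : M2) - (c : S2).1)) = 0 := by
    simp only [sub_mul, mul_sub, mul_smul_comm, mul_one, sl_cayley, hcomm, ← ht]
    module
  have hd : ((d : S2).1 - (c : S2).1).det * ((d : S2).1 - ((c : S2).1.trace • (1 : M2) - (c : S2).1)).det = 0 := by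
    rw [← Matrix.det_mul, hz, Matrix.det_zero]
  rcases mul_eq_zero.1 hd with h0 | h0
  · exact Or.inl (Subtype.ext (sub_eq_zero.1 (ell_commute_eq_zero hell (by
      simp only [sub_mul, mul_sub, hcomm]) h0)))
  · refine Or.inr (Subtype.ext ?_)
    rw [inv_val]
    exact sub_eq_zero.1 (ell_commute_eq_zero hell (by
      simp only [sub_mul, mul_sub, hcomm, smul_mul_assoc, mul_smul_comm, one_mul, mul_one]) h0)

end Torus

end CfsgLib.Char.TwoChars
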