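import Cfsg.Agent.Lib.Char.SpectraThree
import Cfsg.Prelude.Def_Classical

/-!
# Element orders of the projective symplectic group of dimension four over three elements
-/

set_option autoImplicit false

namespace CfsgLib.Char.SpFourThreeSpectrum

open Matrix

universe u

/-- The adjoint for the symplectic form. -/
def adj {R : Type u} [CommRing R] (M : Matrix (Fin 2 ⊕ Fin 2) (Fin 2 ⊕ Fin 2) R) :
    Matrix (Fin 2 ⊕ Fin 2) (Fin 2 ⊕ Fin 2) R :=
  Matrix.J (Fin 2) R * Mᵀ * -Matrix.J (Fin 2) R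

/-- The first coefficient of the quadratic relation. -/
def qa {R : Type u} [CommRing R] (N : Matrix (Fin 2 ⊕ Fin 2) (Fin 2 ⊕ Fin 2) R) : R :=
  N (.inl 0) (.inl 0) + N (.inl 1) (.inl 1)

/-- The second coefficient of the quadratic relation. -/
def qb {R : Type u} [CommRing R] (N : Matrix (Fin 2 ⊕ Fin 2) (Fin 2 ⊕ Fin 2) R) : R :=
  -(N (.inl 0) (.inl 0) * N (.inl 1) (.inl 1) - N (.inl 0) (.inl 1) * N (.inl 1) (.inl 0) +
    N (.inl 0) (.inr 1) * N (.inr 0) (.inl 1))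

theorem adj_apply {R : Type u} [CommRing R] (M : Matrix (Fin 2 ⊕ Fin 2) (Fin 2 ⊕ Fin 2) R) (i j) :
    adj M i j = (if i.isLeft = j.isLeft then 1 else -1) * M j.swap i.swap := by
  obtain i | i := i <;> obtain j | j := j <;> fin_cases i <;> fin_cases j <;>
    simp [adj, Matrix.mul_apply, Fintype.sum_sum_type, Matrix.J, Fin.sum_univ_two]

theorem quadratic {R : Type u} [CommRing R] (M : Matrix (Fin 2 ⊕ Fin 2) (Fin 2 ⊕ Fin 2) R) :
    (M + adj M) * (M + adj M) = qa (M + adj M) • (M + adj M) + qb (M + adj M) • 1 := by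
  ext i j
  obtain i | i := i <;> obtain j | j := j <;> fin_cases i <;> fin_cases j <;>
    simp [qa, qb, Matrix.mul_apply, Fintype.sum_sum_type, Fin.sum_univ_two, adj_apply] <;> ring

theorem quartic {R : Type u} [CommRing R] {M : Matrix (Fin 2 ⊕ Fin 2) (Fin 2 ⊕ Fin 2) R}
    (h : M * adj M = 1) :
    M * (M * (M * M)) = qa (M + adj M) • (M * (M * M)) + (qb (M + adj M) - 2) • (M * M) +
      qa (M + adj M) • M + (-1 : R) • (1 : Matrix (Fin 2 ⊕ Fin 2) (Fin 2 ⊕ Fin 2) R) := by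
  have hq := quadratic M
  have h' : adj M * M = 1 := mul_eq_one_comm.1 h
  set a := qa (M + adj M)
  set b := qb (M + adj M)
  set N := adj M
  have h1 := congrArg (fun X => M * X * M) hq
  simp only [Matrix.mul_add, Matrix.add_mul, Matrix.mul_smul, Matrix.smul_mul, Matrix.mul_one] at h1
  simp only [Matrix.mul_assoc] at h1
  have hMN : ∀ X, M * (N * X) = X := fun X => by rw [← Matrix.mul_assoc, h, Matrix.one_mul]
  simp only [hMN, h', Matrix.mul_one, h] at h1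
  linear_combination (norm := module) h1

/-- The coefficients of the next power. -/
def stepQ (a b : ZMod 3) (t : ZMod 3 × ZMod 3 × ZMod 3 × ZMod 3) : ZMod 3 × ZMod 3 × ZMod 3 × ZMod 3 :=
  (a * t.1 + t.2.1, b * t.1 + t.2.2.1, a * t.1 + t.2.2.2, -t.1)

theorem exponent_table : ∀ a b : ZMod 3, ∃ n ∈ [5, 9, 12],
    (stepQ a b)^[n] (0, 0, 0, 1) = (0, 0, 0, 1) ∨ (stepQ a b)^[n] (0, 0, 0, 1) = (0, 0, 0, -1) := by
  decide +kernel

theorem pow_eq_comb {M : Matrix (Fin 2 ⊕ Fin 2) (Fin 2 ⊕ Fin 2) (ZMod 3)} {a b : ZMod 3}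
    (h : M * (M * (M * M)) = a • (M * (M * M)) + b • (M * M) + a • M +
      (-1 : ZMod 3) • (1 : Matrix (Fin 2 ⊕ Fin 2) (Fin 2 ⊕ Fin 2) (ZMod 3))) (k : ℕ) :
    M ^ k = ((stepQ a b)^[k] (0, 0, 0, 1)).1 • (M * (M * M)) + ((stepQ a b)^[k] (0, 0, 0, 1)).2.1 • (M * M) +
      ((stepQ a b)^[k] (0, 0, 0, 1)).2.2.1 • M + ((stepQ a b)^[k] (0, 0, 0, 1)).2.2.2 • 1 := by
  induction k with
  | zero => simp
  | succ k ih =>
    rw [pow_succ', ih, Function.iterate_succ_apply']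
    generalize (stepQ a b)^[k] (0, 0, 0, 1) = t
    simp only [stepQ, Matrix.mul_add, Matrix.mul_smul, Matrix.mul_one, h]
    module

theorem pow_central {M : Matrix (Fin 2 ⊕ Fin 2) (Fin 2 ⊕ Fin 2) (ZMod 3)}
    (hM : M ∈ Matrix.symplecticGroup (Fin 2) (ZMod 3)) :
    ∃ n ∈ [5, 9, 12], M ^ n = 1 ∨ M ^ n = -1 := by
  have h : M * adj M = 1 := by
    rw [adj, ← Matrix.mul_assoc, ← Matrix.mul_assoc, SymplecticGroup.mem_iff.1 hM, Matrix.mul_neg,
      Matrix.J_squared, neg_neg]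
  obtain ⟨n, hn, he⟩ := exponent_table (qa (M + adj M)) (qb (M + adj M) - 2)
  refine ⟨n, hn, ?_⟩
  rcases he with he | he
  · left; rw [pow_eq_comb (quartic h) n, he]; simp
  · right; rw [pow_eq_comb (quartic h) n, he]; simp

/-- A matrix from sixteen entries. -/
def tab4 (r : Matrix (Fin 4) (Fin 4) (ZMod 3)) : Matrix (Fin 2 ⊕ Fin 2) (Fin 2 ⊕ Fin 2) (ZMod 3) :=
  r.submatrix finSumFinEquiv finSumFinEquiv

/-- The test matrices. -/
def testList : List (Matrix (Fin 2 ⊕ Fin 2) (Fin 2 ⊕ Fin 2) (ZMod 3)) :=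
  [tab4 !![1, 0, 1, 0; 0, 1, 0, 0; 0, 0, 1, 0; 0, 0, 0, 1], tab4 !![1, 0, 0, 0; 0, 1, 0, 0; 1, 0, 1, 0; 0, 0, 0, 1],
   tab4 !![1, 0, 0, 1; 0, 1, 1, 0; 0, 0, 1, 0; 0, 0, 0, 1]]

theorem test_mem : ∀ T ∈ testList, T ∈ Matrix.symplecticGroup (Fin 2) (ZMod 3) := by
  intro T hT
  rw [SymplecticGroup.mem_iff]
  simp only [testList, List.mem_cons, List.not_mem_nil, or_false] at hT
  rcases hT with rfl | rfl | rfl <;> decide +kernel

theorem witness_check (r : Matrix (Fin 4) (Fin 4) (ZMod 3)) (n : ℕ)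
    (h : (tab4 r * Matrix.J (Fin 2) (ZMod 3) * (tab4 r)ᵀ = Matrix.J (Fin 2) (ZMod 3) ∧
      (tab4 r ^ n = 1 ∨ tab4 r ^ n = -1)) ∧
      ∀ m < n, 0 < m → ∃ T ∈ testList, tab4 r ^ m * T ≠ T * tab4 r ^ m) :
    ∃ M : ↥(Matrix.symplecticGroup (Fin 2) (ZMod 3)), M ^ n ∈ Subgroup.center _ ∧
      ∀ m < n, 0 < m → M ^ m ∉ Subgroup.center _ := by
  refine ⟨⟨tab4 r, SymplecticGroup.mem_iff.2 h.1.1⟩, ?_, fun m hm hm0 hc => ?_⟩
  · rw [Subgroup.mem_center_iff]
    refine fun T => Subtype.ext ?_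
    show T.1 * tab4 r ^ n = tab4 r ^ n * T.1
    rcases h.1.2 with e | e <;> rw [e] <;> simp
  · obtain ⟨T, hT, hne⟩ := h.2 m hm hm0
    exact hne (congrArg Subtype.val (Subgroup.mem_center_iff.1 hc ⟨T, test_mem T hT⟩)).symm

theorem witness (n : ℕ) (hn : n ∈ [5, 9, 12]) :
    ∃ M : ↥(Matrix.symplecticGroup (Fin 2) (ZMod 3)), M ^ n ∈ Subgroup.center _ ∧
      ∀ m < n, 0 < m → M ^ m ∉ Subgroup.center _ := by
  simp only [List.mem_cons, List.not_mem_nil, or_false] at hn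
  rcases hn with rfl | rfl | rfl
  · exact witness_check !![0, 0, 1, 1; 2, 1, 1, 2; 2, 0, 1, 0; 2, 1, 1, 0] 5 (by decide +kernel)
  · exact witness_check !![1, 2, 0, 0; 0, 2, 2, 2; 0, 0, 1, 0; 0, 1, 0, 0] 9 (by decide +kernel)
  · exact witness_check !![1, 0, 2, 0; 0, 1, 0, 0; 2, 2, 2, 0; 2, 0, 1, 1] 12 (by decide +kernel)

theorem range_psp_four_three {F : Type u} [Field F] [Fintype F] (hF : Fintype.card F = 3) :
    Set.range (orderOf : Cfsg.PSp 2 F → ℕ) = {m | ∃ n ∈ [5, 9, 12], m ∣ n} := by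
  classical
  haveI := Fact.mk Nat.prime_three
  haveI : CharP F 3 := charP_of_card_eq_prime hF
  let e : ZMod 3 ≃+* F := ZMod.ringEquivOfPrime F Nat.prime_three hF
  have hJ : (Matrix.J (Fin 2) (ZMod 3)).map e = Matrix.J (Fin 2) F := by
    ext i j
    obtain i | i := i <;> obtain j | j := j <;> fin_cases i <;> fin_cases j <;> simp [Matrix.J]
  let f : ↥(Matrix.symplecticGroup (Fin 2) (ZMod 3)) →* ↥(Matrix.symplecticGroup (Fin 2) F) :=
    { toFun := fun M => ⟨M.1.map e, SymplecticGroup.mem_iff.2 (by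
        have h := congrArg (fun X => X.map (e : ZMod 3 →+* F)) (SymplecticGroup.mem_iff.1 M.2)
        simp only [Matrix.map_mul, Matrix.transpose_map, RingEquiv.coe_toRingHom] at h
        rwa [hJ] at h)⟩
      map_one' := Subtype.ext (Matrix.map_one e (map_zero e) (map_one e))
      map_mul' := fun M N => Subtype.ext (Matrix.map_mul (f := (e : ZMod 3 →+* F))) }
  have hf : Function.Bijective f := by
    refine ⟨fun x y h => Subtype.ext (Matrix.ext fun i j => e.injective ?_), fun y => ?_⟩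
    · exact congrFun (congrFun (congrArg Subtype.val h) i) j
    · refine ⟨⟨y.1.map e.symm, SymplecticGroup.mem_iff.2 ?_⟩, Subtype.ext (Matrix.ext fun i j => e.apply_symm_apply _)⟩
      have h := congrArg (fun X => X.map (e.symm : F →+* ZMod 3)) (SymplecticGroup.mem_iff.1 y.2)
      simp only [Matrix.map_mul, Matrix.transpose_map, RingEquiv.coe_toRingHom] at h
      rw [← hJ, Matrix.map_map, show (e.symm : F → ZMod 3) ∘ e = id from funext e.symm_apply_apply,
        Matrix.map_id] at h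
      exact h
  have hker : ∀ M, (QuotientGroup.mk (f M) : Cfsg.PSp 2 F) = 1 ↔ M ∈ Subgroup.center _ := by
    intro M
    rw [QuotientGroup.eq_one_iff, Subgroup.mem_center_iff, Subgroup.mem_center_iff]
    refine ⟨fun h T => hf.1 (by rw [map_mul, map_mul, h (f T)]), fun h T => ?_⟩
    obtain ⟨T', rfl⟩ := hf.2 T
    rw [← map_mul, ← map_mul, h T']
  refine SpectraThree.range_of_exponents _ (fun g => ?_) fun n hn => ?_
  · obtain ⟨y, rfl⟩ := QuotientGroup.mk_surjective g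
    obtain ⟨M, rfl⟩ := hf.2 y
    obtain ⟨n, hn, h⟩ := pow_central M.2
    refine ⟨n, hn, ?_⟩
    rw [← QuotientGroup.mk_pow, ← map_pow, hker, Subgroup.mem_center_iff]
    refine fun T => Subtype.ext ?_
    show T.1 * M.1 ^ n = M.1 ^ n * T.1
    rcases h with e' | e' <;> rw [e'] <;> simp
  · have hpos : 0 < n := by
      simp only [List.mem_cons, List.not_mem_nil, or_false] at hn; omega
    obtain ⟨M, h1, h2⟩ := witness n hn
    refine ⟨hpos, QuotientGroup.mk (f M), (orderOf_eq_iff hpos).2 ⟨?_, fun m hm hm0 h => h2 m hm hm0 ?_⟩⟩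
    · rw [← QuotientGroup.mk_pow, ← map_pow, hker]; exact h1
    · rwa [← QuotientGroup.mk_pow, ← map_pow, hker] at h

end CfsgLib.Char.SpFourThreeSpectrum
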