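import Cfsg.Agent.Lib.Char.SpectraThree
import Cfsg.Agent.Lib.Char.Burnside

/-!
# A solvable group with element orders dividing 5, 9 or 12

Over the field with 81 elements take the unitriangular group with blocks of sizes `1, 2, 2, 1` whose first
superdiagonal is `(x²⁷, y²⁷)`, `x`, `(y³, -x³)`; the Frobenius group of order 20 acts on it by scalings and field
automorphisms.
-/

set_option autoImplicit false
set_option linter.unusedSectionVars false

namespace CfsgLib.Char.SpFourThreeSolvable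

universe u

/-- The seven coordinates. -/
@[ext]
structure Uni (F : Type u) where
  /-- first coordinate -/
  x : F
  /-- second coordinate -/
  y : F
  /-- second layer -/
  p₁ : F
  /-- second layer -/
  p₂ : F
  /-- second layer -/
  q₁ : F
  /-- second layer -/
  q₂ : F
  /-- third layer -/
  r : F

variable {F : Type u} [Field F] [CharP F 3]

instance : Fact (Nat.Prime 3) := ⟨Nat.prime_three⟩

theorem three_zero : (3 : F) = 0 := by simpa using CharP.cast_eq_zero F 3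

theorem cube_add (a b : F) : (a + b) ^ 3 = a ^ 3 + b ^ 3 := add_pow_char a b 3

theorem pow27_add (a b : F) : (a + b) ^ 27 = a ^ 27 + b ^ 27 := add_pow_char_pow a b 3 3

instance : Mul (Uni F) :=
  ⟨fun a b => ⟨a.x + b.x, a.y + b.y, a.p₁ + b.p₁ + a.x ^ 27 * b.x, a.p₂ + b.p₂ + a.y ^ 27 * b.x,
    a.q₁ + b.q₁ + a.x * b.y ^ 3, a.q₂ + b.q₂ - a.x * b.x ^ 3,
    a.r + b.r + a.x ^ 27 * b.q₁ + a.y ^ 27 * b.q₂ + a.p₁ * b.y ^ 3 - a.p₂ * b.x ^ 3⟩⟩

instance : One (Uni F) := ⟨⟨0, 0, 0, 0, 0, 0, 0⟩⟩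

instance : Inv (Uni F) :=
  ⟨fun a => ⟨-a.x, -a.y, -a.p₁ + a.x ^ 27 * a.x, -a.p₂ + a.y ^ 27 * a.x, -a.q₁ + a.x * a.y ^ 3,
    -a.q₂ - a.x * a.x ^ 3,
    -a.r + a.x ^ 27 * a.q₁ + a.y ^ 27 * a.q₂ + a.p₁ * a.y ^ 3 - a.p₂ * a.x ^ 3 - a.x ^ 27 * a.x * a.y ^ 3 +
      a.y ^ 27 * a.x * a.x ^ 3⟩⟩

section simps

variable (a b : Uni F)

@[simp] theorem mul_x : (a * b).x = a.x + b.x := rfl
@[simp] theorem mul_y : (a * b).y = a.y + b.y := rfl
@[simp] theorem mul_p₁ : (a * b).p₁ = a.p₁ + b.p₁ + a.x ^ 27 * b.x := rfl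
@[simp] theorem mul_p₂ : (a * b).p₂ = a.p₂ + b.p₂ + a.y ^ 27 * b.x := rfl
@[simp] theorem mul_q₁ : (a * b).q₁ = a.q₁ + b.q₁ + a.x * b.y ^ 3 := rfl
@[simp] theorem mul_q₂ : (a * b).q₂ = a.q₂ + b.q₂ - a.x * b.x ^ 3 := rfl
@[simp] theorem mul_r : (a * b).r =
    a.r + b.r + a.x ^ 27 * b.q₁ + a.y ^ 27 * b.q₂ + a.p₁ * b.y ^ 3 - a.p₂ * b.x ^ 3 := rfl
@[simp] theorem one_x : (1 : Uni F).x = 0 := rfl
@[simp] theorem one_y : (1 : Uni F).y = 0 := rfl
@[simp] theorem one_p₁ : (1 : Uni F).p₁ = 0 := rfl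
@[simp] theorem one_p₂ : (1 : Uni F).p₂ = 0 := rfl
@[simp] theorem one_q₁ : (1 : Uni F).q₁ = 0 := rfl
@[simp] theorem one_q₂ : (1 : Uni F).q₂ = 0 := rfl
@[simp] theorem one_r : (1 : Uni F).r = 0 := rfl
@[simp] theorem inv_x : (a⁻¹).x = -a.x := rfl
@[simp] theorem inv_y : (a⁻¹).y = -a.y := rfl
@[simp] theorem inv_p₁ : (a⁻¹).p₁ = -a.p₁ + a.x ^ 27 * a.x := rfl
@[simp] theorem inv_p₂ : (a⁻¹).p₂ = -a.p₂ + a.y ^ 27 * a.x := rfl
@[simp] theorem inv_q₁ : (a⁻¹).q₁ = -a.q₁ + a.x * a.y ^ 3 := rfl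
@[simp] theorem inv_q₂ : (a⁻¹).q₂ = -a.q₂ - a.x * a.x ^ 3 := rfl
@[simp] theorem inv_r : (a⁻¹).r = -a.r + a.x ^ 27 * a.q₁ + a.y ^ 27 * a.q₂ + a.p₁ * a.y ^ 3 -
    a.p₂ * a.x ^ 3 - a.x ^ 27 * a.x * a.y ^ 3 + a.y ^ 27 * a.x * a.x ^ 3 := rfl

end simps

instance : Group (Uni F) :=
  Group.ofLeftAxioms
    (fun a b c => by ext <;> simp [cube_add, pow27_add] <;> ring)
    (fun a => by ext <;> simp)
    (fun a => by
      have h : Odd 27 := by decide
      ext <;> simp [h.neg_pow] <;> ring)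

theorem cube_eq (a : Uni F) :
    a ^ 3 = ⟨0, 0, 0, 0, 0, 0, a.x * (a.x ^ 27 * a.y ^ 3 - a.y ^ 27 * a.x ^ 3)⟩ := by
  rw [pow_three]
  ext <;> simp [cube_add, pow27_add] <;> ring_nf <;> simp [three_zero]

theorem pow_nine (a : Uni F) : a ^ 9 = 1 := by
  rw [show (9 : ℕ) = 3 * 3 from rfl, pow_mul, cube_eq, cube_eq]
  ext <;> simp

theorem finite_uni [Finite F] : Finite (Uni F) :=
  Finite.of_injective (fun a : Uni F => (a.x, a.y, a.p₁, a.p₂, a.q₁, a.q₂, a.r)) fun a b h => by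
    simp only [Prod.mk.injEq] at h
    obtain ⟨h1, h2, h3, h4, h5, h6, h7⟩ := h
    exact Uni.ext h1 h2 h3 h4 h5 h6 h7

/-- A scaling composed with a field automorphism. -/
def actHom (η : F) (hη : η ^ 5 = 1) (k : ℕ) : Uni F →* Uni F where
  toFun a := ⟨η * a.x ^ 3 ^ k, η * a.y ^ 3 ^ k, η ^ 3 * a.p₁ ^ 3 ^ k, η ^ 3 * a.p₂ ^ 3 ^ k,
    η ^ 4 * a.q₁ ^ 3 ^ k, η ^ 4 * a.q₂ ^ 3 ^ k, η * a.r ^ 3 ^ k⟩
  map_one' := by
    have h : (3 : ℕ) ^ k ≠ 0 := by positivity
    ext <;> simp [h]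
  map_mul' a b := by
    have h28 : η ^ 28 = η ^ 3 := by rw [show 28 = 5 * 5 + 3 from rfl, pow_add, pow_mul, hη, one_pow, one_mul]
    have h31 : η ^ 31 = η := by rw [show 31 = 5 * 6 + 1 from rfl, pow_add, pow_mul, hη, one_pow, one_mul, pow_one]
    have h6 : η ^ 6 = η := by rw [show 6 = 5 + 1 from rfl, pow_add, hη, one_mul, pow_one]
    have hc : ∀ (c : F) (m : ℕ), (c ^ m) ^ 3 ^ k = (c ^ 3 ^ k) ^ m := fun c m => pow_right_comm c m _
    have ha : ∀ c d : F, (c + d) ^ 3 ^ k = c ^ 3 ^ k + d ^ 3 ^ k := fun c d => add_pow_char_pow c d 3 k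
    have hs : ∀ c d : F, (c - d) ^ 3 ^ k = c ^ 3 ^ k - d ^ 3 ^ k := fun c d => sub_pow_char_pow c d k
    ext <;> simp only [mul_x, mul_y, mul_p₁, mul_p₂, mul_q₁, mul_q₂, mul_r, ha, hs, hc, mul_pow]
    · ring
    · ring
    · linear_combination (-(a.x ^ 3 ^ k) ^ 27 * b.x ^ 3 ^ k) * h28
    · linear_combination (-(a.y ^ 3 ^ k) ^ 27 * b.x ^ 3 ^ k) * h28
    · ring
    · ring
    · linear_combination (-(a.x ^ 3 ^ k) ^ 27 * b.q₁ ^ 3 ^ k - (a.y ^ 3 ^ k) ^ 27 * b.q₂ ^ 3 ^ k) * h31 +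
        (-(a.p₁ ^ 3 ^ k) * (b.y ^ 3 ^ k) ^ 3 + a.p₂ ^ 3 ^ k * (b.x ^ 3 ^ k) ^ 3) * h6

theorem ne_zero_of_pow_five {η : F} (hη : η ^ 5 = 1) : η ≠ 0 := fun h => by
  rw [h, zero_pow (by norm_num)] at hη
  exact zero_ne_one hη

theorem actHom_injective (η : F) (hη : η ^ 5 = 1) (k : ℕ) : Function.Injective (actHom η hη k) := by
  refine (injective_iff_map_eq_one _).2 fun a ha => ?_
  have h0 := ne_zero_of_pow_five hη
  have e : ∀ (c e : F), e ≠ 0 → e * c ^ 3 ^ k = 0 → c = 0 := fun c e he h =>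
    eq_zero_of_pow_eq_zero ((mul_eq_zero.1 h).resolve_left he)
  exact Uni.ext (e _ _ h0 (congrArg Uni.x ha)) (e _ _ h0 (congrArg Uni.y ha))
    (e _ _ (pow_ne_zero _ h0) (congrArg Uni.p₁ ha)) (e _ _ (pow_ne_zero _ h0) (congrArg Uni.p₂ ha))
    (e _ _ (pow_ne_zero _ h0) (congrArg Uni.q₁ ha)) (e _ _ (pow_ne_zero _ h0) (congrArg Uni.q₂ ha))
    (e _ _ h0 (congrArg Uni.r ha))

variable [Fintype F]

/-- A scaling composed with a field automorphism, as an automorphism. -/
noncomputable def act (η : F) (hη : η ^ 5 = 1) (k : ℕ) : MulAut (Uni F) :=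
  MulEquiv.ofBijective (actHom η hη k) (by
    haveI : Finite (Uni F) := finite_uni
    exact Finite.injective_iff_bijective.1 (actHom_injective η hη k))

theorem act_apply (η : F) (hη : η ^ 5 = 1) (k : ℕ) (a : Uni F) : act η hη k a = actHom η hη k a := rfl

theorem act_mul (η η' : F) (hη : η ^ 5 = 1) (hη' : η' ^ 5 = 1) (k k' : ℕ) :
    act η hη k * act η' hη' k' =
      act (η * η' ^ 3 ^ k) (by rw [mul_pow, hη, pow_right_comm, hη', one_pow, one_mul]) (k + k') := by
  refine MulEquiv.ext fun a => ?_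
  have hp : ∀ c : F, c ^ 3 ^ (k + k') = (c ^ 3 ^ k') ^ 3 ^ k := fun c => by
    rw [← pow_mul, ← pow_add, add_comm]
  rw [MulAut.mul_apply, act_apply, act_apply, act_apply]
  ext <;> simp only [actHom, MonoidHom.coe_mk, OneHom.coe_mk, mul_pow, hp, pow_right_comm η' _ (3 ^ k)] <;> ring

theorem act_congr {η η' : F} {hη : η ^ 5 = 1} {hη' : η' ^ 5 = 1} {k k' : ℕ} (he : η = η')
    (hk : ∀ c : F, c ^ 3 ^ k = c ^ 3 ^ k') : act η hη k = act η' hη' k' := by
  subst he
  refine MulEquiv.ext fun a => ?_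
  show actHom η hη k a = actHom η hη' k' a
  ext <;> simp only [actHom, MonoidHom.coe_mk, OneHom.coe_mk, hk]

theorem act_one_zero : act (1 : F) (one_pow 5) 0 = 1 := by
  refine MulEquiv.ext fun a => ?_
  rw [MulAut.one_apply, act_apply]
  ext <;> simp [actHom]

theorem pow_three_pow_mod (hF : Fintype.card F = 81) (c : F) (k : ℕ) : c ^ 3 ^ k = c ^ 3 ^ (k % 4) := by
  have h4 : ∀ (d : F) (j : ℕ), d ^ 3 ^ (4 * j) = d := fun d j => by
    induction j with
    | zero => simp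
    | succ j ih =>
      rw [show 4 * (j + 1) = 4 * j + 4 from by ring, pow_add, pow_mul, ih,
        show (3 : ℕ) ^ 4 = Fintype.card F by rw [hF]; norm_num, FiniteField.pow_card]
  conv_lhs => rw [← Nat.mod_add_div k 4, pow_add, pow_mul, h4]

theorem act_pow_zero (η : F) (hη : η ^ 5 = 1) (n : ℕ) :
    act η hη 0 ^ n = act (η ^ n) (by rw [pow_right_comm, hη, one_pow]) 0 := by
  induction n with
  | zero => rw [pow_zero, ← act_one_zero]; exact act_congr (pow_zero η).symm fun _ => rfl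
  | succ n ih =>
    rw [pow_succ, ih, act_mul]
    exact act_congr (by rw [pow_zero, pow_one, pow_succ]) fun _ => rfl

theorem exists_act_pow (η : F) (hη : η ^ 5 = 1) (k n : ℕ) :
    ∃ (ζ : F) (hζ : ζ ^ 5 = 1), act η hη k ^ n = act ζ hζ (n * k) := by
  induction n with
  | zero => exact ⟨1, one_pow 5, by rw [pow_zero, ← act_one_zero]; exact act_congr rfl fun _ => by rw [Nat.zero_mul]⟩
  | succ n ih =>
    obtain ⟨ζ, hζ, e⟩ := ih
    refine ⟨ζ * η ^ 3 ^ (n * k), by rw [mul_pow, hζ, pow_right_comm, hη, one_pow, one_mul], ?_⟩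
    rw [pow_succ, e, act_mul]
    exact act_congr rfl fun _ => by rw [Nat.succ_mul]

/-- The complement of order twenty. -/
noncomputable def comp (F : Type u) [Field F] [CharP F 3] [Fintype F] : Subgroup (MulAut (Uni F)) :=
  Subgroup.closure {φ | ∃ (η : F) (hη : η ^ 5 = 1) (k : ℕ), φ = act η hη k}

theorem finite_aut : Finite (MulAut (Uni F)) := by
  haveI : Finite (Uni F) := finite_uni
  exact Finite.of_injective (fun φ : MulAut (Uni F) => (φ : Uni F → Uni F)) DFunLike.coe_injective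

theorem mem_comp {φ : MulAut (Uni F)} :
    φ ∈ comp F ↔ ∃ (η : F) (hη : η ^ 5 = 1) (k : ℕ), φ = act η hη k := by
  refine ⟨fun h => ?_, fun h => Subgroup.subset_closure h⟩
  have hpow : ∀ (ψ : MulAut (Uni F)), (∃ (η : F) (hη : η ^ 5 = 1) (k : ℕ), ψ = act η hη k) →
      ∀ n : ℕ, ∃ (η : F) (hη : η ^ 5 = 1) (k : ℕ), ψ ^ n = act η hη k := by
    rintro ψ ⟨η, hη, k, rfl⟩ n
    induction n with
    | zero => exact ⟨1, one_pow 5, 0, (pow_zero _).trans act_one_zero.symm⟩
    | succ n ih =>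
      obtain ⟨η', hη', k', e⟩ := ih
      exact ⟨_, _, _, (pow_succ _ n).trans ((congrArg (· * _) e).trans (act_mul _ _ _ _ _ _))⟩
  induction h using Subgroup.closure_induction with
  | mem φ h => exact h
  | one => exact ⟨1, one_pow 5, 0, act_one_zero.symm⟩
  | mul φ ψ _ _ h1 h2 =>
    obtain ⟨η, hη, k, rfl⟩ := h1
    obtain ⟨η', hη', k', rfl⟩ := h2
    exact ⟨_, _, _, act_mul _ _ _ _ _ _⟩
  | inv φ _ h1 =>
    haveI : Finite (MulAut (Uni F)) := finite_aut
    obtain ⟨η, hη, k, e⟩ := hpow φ h1 (orderOf φ - 1)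
    refine ⟨η, hη, k, (eq_inv_of_mul_eq_one_left ?_).symm.trans e⟩
    rw [← pow_succ, Nat.sub_add_cancel (orderOf_pos _), pow_orderOf_eq_one]

/-- The whole group. -/
abbrev Whole (F : Type u) [Field F] [CharP F 3] [Fintype F] :=
  SemidirectProduct (Uni F) ↥(comp F) (comp F).subtype

theorem finite_whole : Finite (Whole F) := by
  haveI : Finite (Uni F) := finite_uni
  haveI : Finite (MulAut (Uni F)) := finite_aut
  exact Finite.of_injective (fun g : Whole F => (g.left, g.right)) fun a b h =>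
    SemidirectProduct.ext (congrArg Prod.fst h) (congrArg Prod.snd h)

theorem inl_pow_nine (a : Uni F) : (SemidirectProduct.inl a : Whole F) ^ 9 = 1 := by
  rw [← map_pow, pow_nine, map_one]

theorem eq_inl_of_right {g : Whole F} (h : g.right = 1) : g = SemidirectProduct.inl g.left :=
  SemidirectProduct.ext (by simp) (by simp [h])

/-- An element of the kernel fixed by a scaling composed with a translation is trivial. -/
theorem fix_eq_one {η : F} {hη : η ^ 5 = 1} (hne : η ≠ 1) {a b : Uni F} (h : a * act η hη 0 b = b * a) :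
    b = 1 := by
  have hs : ∀ {e c : F}, e ≠ 1 → e * c = c → c = 0 := fun {e c} he hc => by
    by_contra h0
    exact he ((mul_eq_right₀ h0).1 hc)
  have h3 : η ^ 3 ≠ 1 := fun e => hne (by
    linear_combination (η ^ 3 + 1) * e - η * hη)
  have h4 : η ^ 4 ≠ 1 := fun e => hne (by linear_combination hη - η * e)
  have fx := congrArg Uni.x h
  have fy := congrArg Uni.y h
  simp only [act_apply, actHom, MonoidHom.coe_mk, OneHom.coe_mk, mul_x, mul_y, pow_zero, pow_one] at fx fy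
  have bx : b.x = 0 := hs hne (by linear_combination fx)
  have by' : b.y = 0 := hs hne (by linear_combination fy)
  have fp₁ := congrArg Uni.p₁ h
  have fp₂ := congrArg Uni.p₂ h
  have fq₁ := congrArg Uni.q₁ h
  have fq₂ := congrArg Uni.q₂ h
  simp only [act_apply, actHom, MonoidHom.coe_mk, OneHom.coe_mk, mul_p₁, mul_p₂, mul_q₁, mul_q₂, pow_zero,
    pow_one, bx, by'] at fp₁ fp₂ fq₁ fq₂
  have bp₁ : b.p₁ = 0 := hs h3 (by linear_combination fp₁)
  have bp₂ : b.p₂ = 0 := hs h3 (by linear_combination fp₂)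
  have bq₁ : b.q₁ = 0 := hs h4 (by linear_combination fq₁)
  have bq₂ : b.q₂ = 0 := hs h4 (by linear_combination fq₂)
  have fr := congrArg Uni.r h
  simp only [act_apply, actHom, MonoidHom.coe_mk, OneHom.coe_mk, mul_r, pow_zero,
    pow_one, bx, by', bp₁, bp₂, bq₁, bq₂] at fr
  exact Uni.ext bx by' bp₁ bp₂ bq₁ bq₂ (hs hne (by linear_combination fr))

theorem pow_five_of_scaling {g : Whole F} {η : F} {hη : η ^ 5 = 1} (hne : η ≠ 1)
    (hg : (g.right : MulAut (Uni F)) = act η hη 0) : g ^ 5 = 1 := by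
  have hr : g.right ^ 5 = 1 := by
    refine Subtype.ext ?_
    show (g.right : MulAut (Uni F)) ^ 5 = 1
    rw [hg, act_pow_zero, ← act_one_zero]
    exact act_congr hη fun c => rfl
  set b := (g ^ 5).left with hb
  have hb5 : g ^ 5 = SemidirectProduct.inl b :=
    eq_inl_of_right (by rw [show (g ^ 5).right = g.right ^ 5 from map_pow SemidirectProduct.rightHom g 5, hr])
  have hcomm : g * SemidirectProduct.inl b = SemidirectProduct.inl b * g := by
    rw [← hb5, ← pow_succ', pow_succ]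
  have h := congrArg SemidirectProduct.left hcomm
  simp only [SemidirectProduct.mul_left, SemidirectProduct.left_inl, SemidirectProduct.right_inl, map_one,
    MulAut.one_apply, Subgroup.coe_subtype, hg] at h
  rw [hb5, fix_eq_one hne h, map_one]

theorem pow_six_of_half (hF : Fintype.card F = 81) {g : Whole F} {η : F} {hη : η ^ 5 = 1}
    (hg : (g.right : MulAut (Uni F)) = act η hη 2) : g ^ 6 = 1 := by
  have h81 : ∀ c : F, c ^ 81 = c := fun c => by rw [← hF]; exact FiniteField.pow_card c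
  have hr : g.right ^ 2 = 1 := by
    refine Subtype.ext ?_
    show (g.right : MulAut (Uni F)) ^ 2 = 1
    rw [hg, ← act_one_zero, pow_two, act_mul]
    exact act_congr (by linear_combination (η ^ 5 + 1) * hη) fun c => by norm_num [h81]
  set b := (g ^ 2).left with hb
  have hb2 : g ^ 2 = SemidirectProduct.inl b :=
    eq_inl_of_right (by rw [show (g ^ 2).right = g.right ^ 2 from map_pow SemidirectProduct.rightHom g 2, hr])
  have hbeq : b = g.left * act η hη 2 g.left := by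
    rw [hb, pow_two, SemidirectProduct.mul_left, Subgroup.coe_subtype, hg]
  have hx : b.x = g.left.x + η * g.left.x ^ 9 := by rw [hbeq]; rfl
  have hy : b.y = g.left.y + η * g.left.y ^ 9 := by rw [hbeq]; rfl
  have hw : ∀ z : F, (z + η * z ^ 9) ^ 9 = η ^ 4 * (z + η * z ^ 9) := fun z => by
    rw [show (9 : ℕ) = 3 ^ 2 from rfl, add_pow_char_pow _ _ 3 2, mul_pow, ← pow_mul z]
    norm_num [h81]
    linear_combination (η ^ 4 * z - z ^ 9) * hη
  have hc : b ^ 3 = 1 := by
    rw [cube_eq]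
    refine Uni.ext rfl rfl rfl rfl rfl rfl ?_
    have ex := hw g.left.x
    have ey := hw g.left.y
    rw [← hx] at ex
    rw [← hy] at ey
    show b.x * (b.x ^ 27 * b.y ^ 3 - b.y ^ 27 * b.x ^ 3) = 0
    rw [show (27 : ℕ) = 9 * 3 from rfl, pow_mul, pow_mul, ex, ey]
    ring
  rw [show (6 : ℕ) = 2 * 3 from rfl, pow_mul, hb2, ← map_pow, hc, map_one]

theorem exponents (hF : Fintype.card F = 81) (g : Whole F) : ∃ n ∈ [5, 9, 12], g ^ n = 1 := by
  obtain ⟨η, hη, k, hk⟩ := mem_comp.1 g.right.2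
  rw [act_congr (hη' := hη) (k' := k % 4) rfl fun c => pow_three_pow_mod hF c k] at hk
  have h12 : ∀ {ζ : F} {hζ : ζ ^ 5 = 1}, (g ^ 2).right.1 = act ζ hζ 2 → g ^ 12 = 1 := fun {ζ hζ} h => by
    rw [show (12 : ℕ) = 2 * 6 from rfl, pow_mul, pow_six_of_half hF h]
  have hsq : (g ^ 2).right.1 = act η hη (k % 4) * act η hη (k % 4) := by
    rw [show (g ^ 2).right = g.right ^ 2 from map_pow SemidirectProduct.rightHom g 2, ← hk, ← pow_two]
    rfl
  rcases (show k % 4 = 0 ∨ k % 4 = 1 ∨ k % 4 = 2 ∨ k % 4 = 3 by omega) with h | h | h | h <;>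
    rw [h] at hk hsq
  · by_cases hne : η = 1
    · refine ⟨9, by simp, ?_⟩
      have : g.right = 1 := Subtype.ext (by
        show (g.right : MulAut (Uni F)) = 1
        rw [hk, ← act_one_zero]; exact act_congr hne fun _ => rfl)
      rw [eq_inl_of_right this, inl_pow_nine]
    · exact ⟨5, by simp, pow_five_of_scaling hne hk⟩
  · refine ⟨12, by simp, h12 (ζ := η * η ^ 3 ^ 1) (hζ := by rw [mul_pow, hη, pow_right_comm, hη, one_pow, one_mul]) ?_⟩
    rw [hsq, act_mul]
  · refine ⟨12, by simp, ?_⟩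
    rw [show (12 : ℕ) = 6 * 2 from rfl, pow_mul, pow_six_of_half hF hk, one_pow]
  · refine ⟨12, by simp, h12 (ζ := η * η ^ 3 ^ 3) (hζ := by rw [mul_pow, hη, pow_right_comm, hη, one_pow, one_mul]) ?_⟩
    rw [hsq, act_mul]
    exact act_congr rfl fun c => by rw [pow_three_pow_mod hF c (3 + 3)]

theorem witnesses (hF : Fintype.card F = 81) : ∀ n ∈ [5, 9, 12], 0 < n ∧ ∃ g : Whole F, orderOf g = n := by
  classical
  obtain ⟨u, hu⟩ := IsCyclic.exists_generator (α := Fˣ)
  have hou : orderOf u = 80 := by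
    rw [orderOf_eq_card_of_forall_mem_zpowers hu, Nat.card_units, Nat.card_eq_fintype_card, hF]
  have hupow : ∀ m, 0 < m → m < 80 → (u : F) ^ m ≠ 1 := fun m h0 hm h => by
    have := Nat.le_of_dvd h0 (hou ▸ orderOf_dvd_of_pow_eq_one (Units.ext h : u ^ m = 1))
    omega
  simp only [List.mem_cons, List.not_mem_nil, or_false, forall_eq_or_imp, forall_eq]
  refine ⟨⟨by norm_num, ?_⟩, ⟨by norm_num, ?_⟩, ⟨by norm_num, ?_⟩⟩
  · have hη : ((u : F) ^ 16) ^ 5 = 1 := by
      rw [← pow_mul, ← Units.val_pow_eq_pow_val, show (16 * 5 : ℕ) = orderOf u by rw [hou],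
        pow_orderOf_eq_one, Units.val_one]
    let g : Whole F := SemidirectProduct.inr ⟨act _ hη 0, mem_comp.2 ⟨_, hη, 0, rfl⟩⟩
    have hne := hupow 16 (by norm_num) (by norm_num)
    haveI : Fact (Nat.Prime 5) := ⟨by norm_num⟩
    refine ⟨g, orderOf_eq_prime (pow_five_of_scaling hne rfl) fun e => ?_⟩
    have h := congrArg (fun z : Whole F => (z.right : MulAut (Uni F)) ⟨1, 0, 0, 0, 0, 0, 0⟩ |>.x) e
    simp [g, act_apply, actHom] at h
    exact hne h
  · let a : Uni F := ⟨1, u, 0, 0, 0, 0, 0⟩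
    refine ⟨SemidirectProduct.inl a, ?_⟩
    rw [orderOf_injective _ SemidirectProduct.inl_injective, show (9 : ℕ) = 3 ^ (1 + 1) from rfl]
    refine orderOf_eq_prime_pow (fun e => ?_) (by rw [show 3 ^ (1 + 1) = 9 from rfl]; exact pow_nine a)
    rw [pow_one, cube_eq] at e
    have h := congrArg Uni.r e
    simp only [a, one_r, one_pow, one_mul, mul_one, sub_eq_zero] at h
    refine hupow 24 (by norm_num) (by norm_num) (mul_left_cancel₀ (pow_ne_zero 3 u.ne_zero) ?_)
    rw [← pow_add, mul_one]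
    exact h.symm
  · let a : Uni F := ⟨1, 0, 0, 0, 0, 0, 0⟩
    let c : ↥(comp F) := ⟨act 1 (one_pow 5) 1, mem_comp.2 ⟨_, one_pow 5, 1, rfl⟩⟩
    let g : Whole F := ⟨a, c⟩
    have hg2 : (g ^ 2).right.1 = act (1 * 1 ^ 3 ^ 1) (by simp) (1 + 1) := by
      rw [show (g ^ 2).right = g.right ^ 2 from map_pow SemidirectProduct.rightHom g 2, ← act_mul 1 1 (one_pow 5) (one_pow 5) 1 1, ← pow_two]
      rfl
    have h12 : g ^ 12 = 1 := by
      rw [show (12 : ℕ) = 2 * 6 from rfl, pow_mul, pow_six_of_half hF hg2]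
    have h4 : g ^ 4 ≠ 1 := fun e => by
      have h := congrArg (fun z : Whole F => z.left.x) e
      simp only [pow_succ, pow_zero, one_mul, SemidirectProduct.mul_left, SemidirectProduct.mul_right,
        Subgroup.coe_subtype, Subgroup.coe_mul, g, c, a, MulAut.mul_apply, act_apply, actHom, MonoidHom.coe_mk,
        OneHom.coe_mk, mul_x, SemidirectProduct.one_left, one_x, one_pow, mul_one] at h
      refine one_ne_zero (α := F) ?_
      linear_combination h - (three_zero (F := F))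
    have h6 : g ^ 6 ≠ 1 := fun e => by
      have h := congrArg (fun z : Whole F => (z.right : MulAut (Uni F))) e
      rw [show (g ^ 6).right = g.right ^ 6 from map_pow SemidirectProduct.rightHom g 6] at h
      obtain ⟨ζ, hζ, e6⟩ := exists_act_pow (1 : F) (one_pow 5) 1 6
      rw [show ((g.right ^ 6 : ↥(comp F)) : MulAut (Uni F)) = act 1 (one_pow 5) 1 ^ 6 from rfl, e6] at h
      have h1 : ζ * (1 : F) ^ 3 ^ (6 * 1) = 1 :=
        congrArg (fun φ : MulAut (Uni F) => (φ ⟨1, 0, 0, 0, 0, 0, 0⟩).x) h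
      have h2 : ζ * (u : F) ^ 3 ^ (6 * 1) = u :=
        congrArg (fun φ : MulAut (Uni F) => (φ ⟨u, 0, 0, 0, 0, 0, 0⟩).x) h
      rw [one_pow, mul_one] at h1
      rw [h1, one_mul, pow_three_pow_mod hF, show 3 ^ (6 * 1 % 4) = 8 + 1 from rfl, pow_succ] at h2
      exact hupow 8 (by norm_num) (by norm_num) ((mul_eq_right₀ u.ne_zero).1 h2)
    refine ⟨g, ?_⟩
    have hd := orderOf_dvd_of_pow_eq_one h12
    have hle := Nat.le_of_dvd (by norm_num) hd
    have h4' : ¬ orderOf g ∣ 4 := fun h => h4 (orderOf_dvd_iff_pow_eq_one.1 h)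
    have h6' : ¬ orderOf g ∣ 6 := fun h => h6 (orderOf_dvd_iff_pow_eq_one.1 h)
    generalize orderOf g = o at *
    interval_cases o <;> omega

/-- A finite solvable group whose element orders are the divisors of 5, 9 and 12. -/
theorem exists_solvable : ∃ (H : Type) (_ : Group H) (_ : Fintype H), Group.IsSolvable H ∧
    Set.range (orderOf : H → ℕ) = {m | ∃ n ∈ [5, 9, 12], m ∣ n} := by
  classical
  let F := GaloisField 3 4
  haveI := Fintype.ofFinite F
  have hF : Fintype.card F = 81 := by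
    rw [← Nat.card_eq_fintype_card, GaloisField.card 3 4 (by norm_num)]
    norm_num
  haveI : Finite (Whole F) := finite_whole
  haveI : Finite (Uni F) := finite_uni
  haveI : Finite (MulAut (Uni F)) := finite_aut
  haveI hN : Group.IsSolvable (Uni F) := by
    haveI := (IsPGroup.isNilpotent (p := 3) (fun a : Uni F => ⟨2, pow_nine a⟩))
    infer_instance
  haveI hC : Group.IsSolvable ↥(comp F) := by
    have hexp : ∀ c : ↥(comp F), c ^ 20 = 1 := fun c => by
      obtain ⟨η, hη, k, hk⟩ := mem_comp.1 c.2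
      obtain ⟨ζ, hζ, e⟩ := exists_act_pow η hη k 4
      refine Subtype.ext ?_
      show (c : MulAut (Uni F)) ^ 20 = 1
      rw [hk, show (20 : ℕ) = 4 * 5 from rfl, pow_mul, e,
        act_congr (hη' := hζ) (k' := 0) rfl fun x => by rw [pow_three_pow_mod hF, Nat.mul_mod_right],
        act_pow_zero, ← act_one_zero]
      exact act_congr hζ fun _ => rfl
    have hN0 : Nat.card ↥(comp F) ≠ 0 := Nat.card_pos.ne'
    obtain ⟨a, b, hab⟩ : ∃ a b : ℕ, Nat.card ↥(comp F) = 2 ^ a * 5 ^ b := by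
      refine ⟨(Nat.card ↥(comp F)).factorization 2, (Nat.card ↥(comp F)).factorization 5, ?_⟩
      have hsub : (Nat.card ↥(comp F)).primeFactors ⊆ {2, 5} := fun q hq => by
        obtain ⟨hqp, hqd, -⟩ := Nat.mem_primeFactors.1 hq
        haveI := Fact.mk hqp
        obtain ⟨c, hc⟩ := exists_prime_orderOf_dvd_card' q hqd
        have hd : q ∣ 20 := hc ▸ orderOf_dvd_of_pow_eq_one (hexp c)
        have hle := Nat.le_of_dvd (by norm_num) hd
        have h2 := hqp.two_le
        simp only [Finset.mem_insert, Finset.mem_singleton]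
        interval_cases q <;> first | omega | (norm_num at hqp)
      conv_lhs => rw [← Nat.prod_factorization_pow_eq_self hN0]
      rw [Finsupp.prod_of_support_subset _ (show (Nat.card ↥(comp F)).factorization.support ⊆ {2, 5} by
        rw [Nat.support_factorization]; exact hsub) _ (fun _ _ => pow_zero _), Finset.prod_pair (by norm_num)]
    exact isSolvable_of_card_two_primes Nat.prime_two (by norm_num) _ a b hab
  refine ⟨Whole F, inferInstance, Fintype.ofFinite _, ?_, SpectraThree.range_of_exponents _ (exponents hF) (witnesses hF)⟩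
  refine Group.isSolvable_of_ker_le_range (SemidirectProduct.inl : Uni F →* Whole F)
    SemidirectProduct.rightHom ?_
  rw [SemidirectProduct.range_inl_eq_ker_rightHom]

end CfsgLib.Char.SpFourThreeSolvable
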