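import Cfsg.Agent.Lib.Char.TwoS5
import Cfsg.Agent.Lib.Char.SemiSpectrum
import Cfsg.Agent.Lib.Char.AltTenSpectrum

/-!
# Arbitrarily large groups with the element orders of `A₁₀`

`(W₃ × W₇)^k ⋊ 2.S₅⁻`, where `W₇` is fixed point free and `W₃` is the module of odd functions
on `2.S₅⁻` with values in `ZMod 3`.
-/

set_option autoImplicit false

namespace CfsgLib.Char.SpecTen

open TwoS5

/-- Odd functions on `bincover`. -/
def oddFuns : AddSubgroup (bincover → ZMod 3) where
  carrier := {f | ∀ x, f (x * negElt) = -f x}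
  add_mem' := fun {f g} hf hg x => by
    show f (x * negElt) + g (x * negElt) = -(f x + g x)
    rw [hf x, hg x]; ring
  zero_mem' := fun x => by simp
  neg_mem' := fun {f} hf x => by
    show -f (x * negElt) = - -f x
    rw [hf x]

/-- The `ZMod 3` module. -/
def W3 : Type := oddFuns

instance instAddCommGroupW3 : AddCommGroup W3 := inferInstanceAs (AddCommGroup oddFuns)
noncomputable instance instFintypeW3 : Fintype W3 := Fintype.ofFinite oddFuns

/-- The value of a function in `W3`. -/
def W3.val (f : W3) : bincover → ZMod 3 := Subtype.val f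

theorem W3.ext {f g : W3} (h : f.val = g.val) : f = g := Subtype.ext h

theorem W3.odd (f : W3) (x : bincover) : f.val (x * negElt) = -f.val x := Subtype.property f x

theorem W3.val_zero : (0 : W3).val = 0 := rfl
theorem W3.val_add (f g : W3) : (f + g).val = f.val + g.val := rfl
theorem W3.val_neg (f : W3) : (-f).val = -f.val := rfl

theorem W3.val_sum {ι : Type*} (s : Finset ι) (f : ι → W3) : (∑ i ∈ s, f i).val = ∑ i ∈ s, (f i).val :=
  map_sum (AddMonoidHom.mk' W3.val W3.val_add) f s

instance instActW3 : DistribMulAction bincover W3 where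
  smul c f := (⟨fun x => f.val (x * c), fun x => by
    show f.val (x * negElt * c) = -f.val (x * c)
    rw [mul_assoc, negElt_commute, ← mul_assoc, f.odd]⟩ : oddFuns)
  one_smul f := W3.ext (funext fun x => congrArg f.val (mul_one x))
  mul_smul a b f := W3.ext (funext fun x => congrArg f.val (mul_assoc x a b).symm)
  smul_zero _ := rfl
  smul_add _ _ _ := rfl

theorem W3.smul_val (c : bincover) (f : W3) (x : bincover) : (c • f).val x = f.val (x * c) := rfl

/-- The fixed point free module. -/
def W7 : Type := Fin 4 → ZMod 7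

instance instAddCommGroupW7 : AddCommGroup W7 := inferInstanceAs (AddCommGroup (Fin 4 → ZMod 7))
instance instFintypeW7 : Fintype W7 := inferInstanceAs (Fintype (Fin 4 → ZMod 7))

instance instActW7 : DistribMulAction bincover W7 where
  smul c v := Matrix.mulVec ((c : GL (Fin 4) (ZMod 7)) : Mat) v
  one_smul v := Matrix.one_mulVec v
  mul_smul a b v := (Matrix.mulVec_mulVec v _ _).symm
  smul_zero c := Matrix.mulVec_zero _
  smul_add c v w := Matrix.mulVec_add _ v w

theorem W7.smul_def (c : bincover) (v : W7) :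
    c • v = Matrix.mulVec ((c : GL (Fin 4) (ZMod 7)) : Mat) (v : Fin 4 → ZMod 7) := rfl

theorem negElt_smul_W7 (v : W7) : negElt • v = -v := by
  have h : ∀ w : Fin 4 → ZMod 7, Matrix.mulVec ((-1 : GL (Fin 4) (ZMod 7)) : Mat) w = -w := fun w => by
    rw [Units.val_neg, Units.val_one, Matrix.neg_mulVec, Matrix.one_mulVec]
  exact h v

theorem negElt_smul_W3 (f : W3) : negElt • f = -f :=
  W3.ext (funext fun x => by rw [W3.smul_val, W3.odd, W3.val_neg]; rfl)

theorem three_nsmul_W3 (f : W3) : (3 : ℕ) • f = 0 := by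
  rw [show (3 : ℕ) • f = f + f + f by abel]
  refine W3.ext (funext fun x => ?_)
  show f.val x + f.val x + f.val x = 0
  generalize f.val x = a
  revert a
  decide

theorem seven_nsmul_W7 (v : W7) : (7 : ℕ) • v = 0 := by
  refine funext fun i => ?_
  show (7 : ℕ) • (v : Fin 4 → ZMod 7) i = 0
  rw [nsmul_eq_mul, ZMod.natCast_self, zero_mul]

theorem geom_sum_W7 (c : bincover) (h : orderOf c = 3 ∨ orderOf c = 5) (v : W7) :
    ∑ i ∈ Finset.range (orderOf c), c ^ i • v = 0 := by
  have e : ∀ i : ℕ, c ^ i • v = Matrix.mulVec (((c : GL (Fin 4) (ZMod 7)) : Mat) ^ i) (v : Fin 4 → ZMod 7) :=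
    fun i => by rw [W7.smul_def, SubgroupClass.coe_pow, Units.val_pow_eq_pow_val]
  have h2 : ∀ w : Fin 4 → ZMod 7,
      ∑ i ∈ Finset.range (orderOf c), Matrix.mulVec (((c : GL (Fin 4) (ZMod 7)) : Mat) ^ i) w = 0 := fun w => by
    rw [← Matrix.sum_mulVec, (facts c).2.2 h, Matrix.zero_mulVec]
  exact (Finset.sum_congr rfl fun i _ => e i).trans (h2 v)

variable (k : ℕ)

/-- The kernel. -/
abbrev Ker := (Fin k → W3) × (Fin k → W7)

theorem negElt_smul_ker (v : Ker k) : negElt • v = -v := by
  refine Prod.ext (funext fun i => ?_) (funext fun i => ?_)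
  · exact negElt_smul_W3 (v.1 i)
  · exact negElt_smul_W7 (v.2 i)

theorem twentyOne_nsmul (v : Ker k) : (21 : ℕ) • v = 0 := by
  refine Prod.ext (funext fun i => ?_) (funext fun i => ?_)
  · show (21 : ℕ) • v.1 i = 0
    rw [show (21 : ℕ) = 7 * 3 from rfl, mul_nsmul', three_nsmul_W3, nsmul_zero]
  · show (21 : ℕ) • v.2 i = 0
    rw [show (21 : ℕ) = 3 * 7 from rfl, mul_nsmul', seven_nsmul_W7, nsmul_zero]

theorem orderOf_mem (x : Semi bincover (Ker k)) : orderOf x ∈ altTenOrders := by
  rw [semiPair_eta x]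
  generalize x.left.toAdd = v
  generalize x.right = c
  rw [orderOf_semiPair]
  set S := ∑ i ∈ Finset.range (orderOf c), c ^ i • v with hS
  have hmem := (facts c).1
  simp only [allowed, List.mem_cons, List.not_mem_nil, or_false] at hmem
  have heven : orderOf c % 2 = 0 → addOrderOf S = 1 := fun he => by
    rw [AddMonoid.addOrderOf_eq_one_iff]
    have h1 := pow_smul_geom_sum_smul v c (orderOf c / 2)
    rw [(facts c).2.1 he, negElt_smul_ker, ← hS, neg_eq_iff_add_eq_zero] at h1
    calc S = (21 : ℕ) • S - (10 : ℕ) • (S + S) := by abel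
      _ = 0 := by rw [h1, twentyOne_nsmul, nsmul_zero, sub_zero]
  have hodd : orderOf c = 3 ∨ orderOf c = 5 → addOrderOf S = 1 ∨ addOrderOf S = 3 := fun h => by
    refine (Nat.dvd_prime Nat.prime_three).mp (addOrderOf_dvd_of_nsmul_eq_zero ?_)
    refine Prod.ext (funext fun i => three_nsmul_W3 _) (funext fun i => ?_)
    show (3 : ℕ) • S.2 i = 0
    rw [hS, Prod.snd_sum, Finset.sum_apply]
    simp only [Prod.smul_snd, Pi.smul_apply]
    rw [geom_sum_W7 c h, nsmul_zero]
  have hone : orderOf c = 1 → addOrderOf S ∈ ({1, 3, 7, 21} : Finset ℕ) := fun _ => by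
    have h : addOrderOf S ∣ 21 := addOrderOf_dvd_of_nsmul_eq_zero (twentyOne_nsmul k S)
    have h2 := Nat.le_of_dvd (by norm_num) h
    generalize addOrderOf S = d at h h2 ⊢
    interval_cases d <;> first | decide | exact absurd h (by decide)
  rcases hmem with h | h | h | h | h | h | h | h | h
  · have := hone h
    simp only [Finset.mem_insert, Finset.mem_singleton] at this
    rcases this with e | e | e | e <;> rw [h, e] <;> decide
  · rw [heven (by omega), h]; decide
  · rcases hodd (Or.inl h) with e | e <;> rw [h, e] <;> decide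
  · rw [heven (by omega), h]; decide
  · rcases hodd (Or.inr h) with e | e <;> rw [h, e] <;> decide
  · rw [heven (by omega), h]; decide
  · rw [heven (by omega), h]; decide
  · rw [heven (by omega), h]; decide
  · rw [heven (by omega), h]; decide

/-- An odd function concentrated on `{1, -1}`. -/
noncomputable def delta : W3 := by
  classical
  exact (⟨fun x => if x = 1 then 1 else if x = negElt then -1 else 0, fun x => by
    by_cases h1 : x = 1
    · subst h1
      simp [negElt_ne_one]
    by_cases h2 : x = negElt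
    · subst h2
      simp [negElt_ne_one, negElt_mul_self]
    have h3 : x * negElt ≠ 1 := fun h => h2 (by rw [eq_inv_of_mul_eq_one_left h]; exact inv_eq_of_mul_eq_one_right negElt_mul_self)
    have h4 : x * negElt ≠ negElt := fun h => h1 (mul_eq_right.mp h)
    simp [h1, h2, h3, h4]⟩ : oddFuns)

theorem delta_one : delta.val 1 = 1 := by
  classical
  exact (if_pos rfl : (if (1 : bincover) = 1 then (1 : ZMod 3) else if (1 : bincover) = negElt then -1 else 0) = 1)

theorem delta_zero {x : bincover} (h1 : x ≠ 1) (h2 : x ≠ negElt) : delta.val x = 0 := by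
  classical
  show (if x = 1 then (1 : ZMod 3) else if x = negElt then -1 else 0) = 0
  rw [if_neg h1, if_neg h2]

theorem geom_sum_delta_one {c : bincover} (h : orderOf c = 3 ∨ orderOf c = 5) :
    (∑ i ∈ Finset.range (orderOf c), c ^ i • delta).val 1 = 1 := by
  rw [W3.val_sum, Finset.sum_apply, Finset.sum_eq_single 0]
  · rw [W3.smul_val, pow_zero, one_mul, delta_one]
  · intro i hi hi0
    rw [Finset.mem_range] at hi
    rw [W3.smul_val, one_mul]
    refine delta_zero (pow_ne_one_of_lt_orderOf hi0 hi) fun he => ?_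
    have h1 : (c ^ i) ^ orderOf c = 1 := by rw [← pow_mul, mul_comm, pow_mul, pow_orderOf_eq_one, one_pow]
    rw [he] at h1
    rcases h with h | h <;> rw [h] at h1 <;>
      simp [pow_succ, negElt_mul_self, negElt_ne_one] at h1
  · intro h0
    exact absurd (Finset.mem_range.mpr (orderOf_pos c)) h0

/-- A nonzero vector of `W7`. -/
def vecOne : W7 := fun _ => (1 : ZMod 7)

theorem exists_orderOf_eq {n : ℕ} (hn : n ∈ altTenOrders) :
    ∃ x : Semi bincover (Ker (k + 1)), orderOf x = n := by
  have hlin : ∀ n, n ∈ allowed → ∃ x : Semi bincover (Ker (k + 1)), orderOf x = n := fun n hn => by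
    obtain ⟨c, hc⟩ := TwoS5.exists_orderOf hn
    exact ⟨semiPair 0 c, by simp [orderOf_semiPair, hc]⟩
  have hv : ∀ (w : Ker (k + 1)) (m : ℕ), m ≠ 0 → (m • w = 0) → (∀ j < m, 0 < j → j • w ≠ 0) →
      ∃ x : Semi bincover (Ker (k + 1)), orderOf x = m := fun w m hm h1 h2 =>
    ⟨semiPair w 1, by
      rw [orderOf_semiPair_one]
      exact (addOrderOf_eq_iff (Nat.pos_of_ne_zero hm)).mpr ⟨h1, h2⟩⟩
  have h7 : ∀ j, ¬ 7 ∣ j → j • vecOne ≠ (0 : W7) := fun j hj h => hj (by
    have h1 : j • (1 : ZMod 7) = 0 := congrFun h 0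
    rw [nsmul_eq_mul, mul_one] at h1
    exact (ZMod.natCast_eq_zero_iff j 7).mp h1)
  have h3 : ∀ j, ¬ 3 ∣ j → j • delta ≠ (0 : W3) := fun j hj h => hj (by
    have h1 := congrArg (fun f : W3 => f.val 1) h
    have h2 : ∀ m : ℕ, (m • delta).val 1 = (m : ZMod 3) := fun m => by
      induction m with
      | zero => simp [W3.val_zero]
      | succ m ih => rw [succ_nsmul, W3.val_add, Pi.add_apply, ih, delta_one, Nat.cast_succ]
    simp only [h2, W3.val_zero, Pi.zero_apply] at h1
    exact (ZMod.natCast_eq_zero_iff j 3).mp h1)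
  have hgeo : ∀ m, m = 3 ∨ m = 5 → ∃ x : Semi bincover (Ker (k + 1)), orderOf x = m * 3 := fun m hm => by
    obtain ⟨c, hc⟩ := TwoS5.exists_orderOf (n := m) (by rcases hm with rfl | rfl <;> decide)
    refine ⟨semiPair (((fun _ => delta), 0) : Ker (k + 1)) c, ?_⟩
    rw [orderOf_semiPair, hc]
    congr 1
    refine addOrderOf_eq_prime (Prod.ext (funext fun i => three_nsmul_W3 _) ?_) ?_
    · rw [Prod.smul_snd, Prod.snd_sum]
      simp
    · intro h
      have h1 := congrArg (fun w : Ker (k + 1) => (w.1 0).val 1) h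
      simp only [Prod.fst_sum, Finset.sum_apply, Prod.smul_fst, Pi.smul_apply, Prod.fst_zero,
        Pi.zero_apply, W3.val_zero] at h1
      rw [← hc, geom_sum_delta_one (by rw [hc]; exact hm)] at h1
      exact one_ne_zero h1
  simp only [altTenOrders, Finset.mem_insert, Finset.mem_singleton] at hn
  rcases hn with rfl | rfl | rfl | rfl | rfl | rfl | rfl | rfl | rfl | rfl | rfl | rfl | rfl
  · exact hlin 1 (by decide)
  · exact hlin 2 (by decide)
  · exact hlin 3 (by decide)
  · exact hlin 4 (by decide)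
  · exact hlin 5 (by decide)
  · exact hlin 6 (by decide)
  · refine hv (0, fun _ => vecOne) 7 (by norm_num) (Prod.ext (by simp) (funext fun i => seven_nsmul_W7 _))
      fun j hj hj0 h => h7 j (Nat.not_dvd_of_pos_of_lt hj0 hj) (congrFun (congrArg Prod.snd h) 0)
  · exact hlin 8 (by decide)
  · exact hgeo 3 (Or.inl rfl)
  · exact hlin 10 (by decide)
  · exact hlin 12 (by decide)
  · exact hgeo 5 (Or.inr rfl)
  · refine hv ((fun _ => delta), fun _ => vecOne) 21 (by norm_num) (twentyOne_nsmul _ _)
      fun j hj hj0 h => ?_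
    by_cases h3j : 3 ∣ j
    · exact h7 j (by omega) (congrFun (congrArg Prod.snd h) 0)
    · exact h3 j h3j (congrFun (congrArg Prod.fst h) 0)

theorem range_orderOf (k : ℕ) :
    Set.range (orderOf : Semi bincover (Ker (k + 1)) → ℕ) = ↑altTenOrders := by
  ext n
  exact ⟨fun ⟨g, hg⟩ => hg ▸ orderOf_mem (k + 1) g, fun h => exists_orderOf_eq k h⟩

theorem card_large (k : ℕ) : k < Nat.card (Semi bincover (Ker k)) := by
  have h7 : Nat.card W7 = 2401 := by
    rw [Nat.card_eq_fintype_card]
    show Fintype.card (Fin 4 → ZMod 7) = 2401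
    simp
  rw [SemidirectProduct.card, Nat.card_congr Multiplicative.toAdd, Nat.card_prod, Nat.card_fun,
    Nat.card_fun, Nat.card_fin, h7]
  have h1 : 0 < Nat.card W3 ^ k := pow_pos (Nat.card_pos) k
  have h2 : 0 < Nat.card bincover := Nat.card_pos
  calc k < 2401 ^ k := Nat.lt_pow_self (by norm_num)
    _ ≤ Nat.card W3 ^ k * 2401 ^ k := Nat.le_mul_of_pos_left _ h1
    _ ≤ _ := Nat.le_mul_of_pos_right _ h2

end CfsgLib.Char.SpecTen
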