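import Cfsg.Agent.Lib.Char.TwoDegreesMain
import Cfsg.Agent.Lib.Coprime.Solvable
import Cfsg.Agent.Lib.Coprime.FrattiniExtra
import Cfsg.Agent.Lib.PGroup.Kazarin
import Mathlib.Data.Nat.Squarefree
import Mathlib.GroupTheory.SpecificGroups.ZGroup

/-!
# Solvable groups with square-free character degrees

`F(G)''= 1`, and every `O_p(G/F(G))` has order at most `p` (the orbits on the linear characters
of `F(G)` have square-free length), so `(G/F(G))'' = 1` and `G` has derived length at most `4`.
-/

set_option autoImplicit false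
set_option linter.unusedSectionVars false
set_option linter.style.haveILetI false

open Subgroup
open scoped commutatorElement

attribute [-instance] MonoidHom.instInv MonoidHom.instDiv

namespace CfsgLib.Char.SquarefreeDeg

open Cfsg CfsgLib CfsgLib.Char.TwoDegrees

universe u

variable {G : Type u} [Group G] [Finite G]

theorem index_inertia_squarefree
    (h : ∀ χ : IrrCharacter G, Squarefree (charDegree (χ : G → ℂ))) (N : Subgroup G) [N.Normal]
    (lam : N →* ℂˣ) : Squarefree (inertia N (lf lam)).index := by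
  classical
  have := Fintype.ofFinite G
  have := Fintype.ofFinite N
  obtain ⟨χ, hχ⟩ := Block.ItoMichler.exists_irr_over N ⟨lf lam, isIrrCharacter_lin lam⟩
  exact (h χ).squarefree_of_dvd
    (Block.ItoMichler.dvd_of_constituent N χ ⟨lf lam, isIrrCharacter_lin lam⟩ hχ).2

theorem squarefree_normal
    (h : ∀ χ : IrrCharacter G, Squarefree (charDegree (χ : G → ℂ))) (N : Subgroup G) [N.Normal]
    (θ : IrrCharacter N) : Squarefree (charDegree (θ : N → ℂ)) := by
  classical
  have := Fintype.ofFinite G
  have := Fintype.ofFinite N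
  obtain ⟨χ, hχ⟩ := Block.ItoMichler.exists_irr_over N θ
  exact (h χ).squarefree_of_dvd (Block.ItoMichler.dvd_of_constituent N χ θ hχ).1

/-- The derived subgroup of a normal nilpotent subgroup lies in the Frattini subgroup. -/
theorem map_commutator_le_frattini (F : Subgroup G) [F.Normal] [Group.IsNilpotent F] :
    (commutator F).map F.subtype ≤ frattini G := by
  refine Coprime.le_frattini_of_forall_coatom fun M hM => ?_
  haveI : ((commutator F).map F.subtype).Normal := ConjAct.normal_of_characteristic_of_normal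
  by_contra hnot
  have hsup : M ⊔ (commutator F).map F.subtype = ⊤ :=
    hM.2 _ (lt_of_le_of_ne le_sup_left fun e => hnot (e ▸ le_sup_right))
  have h : M.subgroupOf F ⊔ commutator F = ⊤ := by
    rw [eq_top_iff]
    intro x _
    obtain ⟨m, hm, c, hc, e⟩ := Subgroup.mem_sup_of_normal_right.1 (hsup.ge (mem_top (x : G)))
    obtain ⟨c', hc', rfl⟩ := hc
    have hmF : m ∈ F := by
      rw [eq_mul_inv_of_mul_eq e]; exact mul_mem x.2 (inv_mem c'.2)
    rw [show x = ⟨m, hmF⟩ * c' from Subtype.ext e.symm]
    exact mul_mem_sup (show (⟨m, hmF⟩ : F) ∈ M.subgroupOf F from hm) hc'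
  have hF : M.subgroupOf F = ⊤ := frattini_nongenerating (top_le_iff.1
    (h.ge.trans (sup_le_sup_left Coprime.commutator_le_frattini_of_isNilpotent _)))
  exact hnot ((map_subtype_le _).trans (subgroupOf_eq_top.1 hF))

/-- Precomposition with conjugation. -/
noncomputable def act (F : Subgroup G) [F.Normal] (g : G) : (F →* ℂˣ) →* (F →* ℂˣ) where
  toFun lam := lam.comp (MulAut.conjNormal g : F ≃* F).toMonoidHom
  map_one' := rfl
  map_mul' _ _ := rfl

theorem act_apply (F : Subgroup G) [F.Normal] (g : G) (lam : F →* ℂˣ) (x : F) :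
    act F g lam x = lam ((MulAut.conjNormal g : F ≃* F) x) := rfl

theorem act_mul (F : Subgroup G) [F.Normal] (a b : G) (lam : F →* ℂˣ) :
    act F (a * b) lam = act F b (act F a lam) := by
  ext x
  rw [act_apply, act_apply, act_apply, map_mul]
  rfl

theorem act_one (F : Subgroup G) [F.Normal] (lam : F →* ℂˣ) : act F 1 lam = lam := by
  ext x
  rw [act_apply, map_one]
  rfl

theorem act_inv (F : Subgroup G) [F.Normal] (g : G) (lam : F →* ℂˣ) :
    act F g lam⁻¹ = (act F g lam)⁻¹ := by
  ext x
  rfl

theorem act_pow (F : Subgroup G) [F.Normal] (g : G) (lam : F →* ℂˣ) (m : ℕ) :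
    act F g (lam ^ m) = act F g lam ^ m := by
  ext x
  rfl

theorem pow_mul_inv_one {F : Subgroup G} {a b : F →* ℂˣ} {m : ℕ} (ha : a ^ m = 1)
    (hb : b ^ m = 1) : (a * b⁻¹) ^ m = 1 := by
  ext x
  have h1 : (a x) ^ m = 1 := DFunLike.congr_fun ha x
  have h2 : (b x) ^ m = 1 := DFunLike.congr_fun hb x
  show ((((a x) * (b x)⁻¹) ^ m : ℂˣ) : ℂ) = _
  rw [mul_pow, inv_pow, h1, h2, inv_one, one_mul]
  rfl

theorem act_pow_one {F : Subgroup G} [F.Normal] {lam : F →* ℂˣ} {m : ℕ} (g : G)
    (h : lam ^ m = 1) : act F g lam ^ m = 1 := by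
  rw [← act_pow, h, map_one]

theorem mem_inertia_iff (F : Subgroup G) [F.Normal] (lam : F →* ℂˣ) (g : G) :
    g ∈ inertia F (lf lam) ↔ act F g lam = lam := mem_stab_iff lam g

/-- The elements of `T` fixing the characters of order prime to `p`. -/
noncomputable def fixSub (F T : Subgroup G) [F.Normal] (m : ℕ) : Subgroup G :=
  T ⊓ ⨅ (lam : F →* ℂˣ) (_ : lam ^ m = 1), inertia F (lf lam)

theorem mem_fixSub {F T : Subgroup G} [F.Normal] {m : ℕ} {g : G} :
    g ∈ fixSub F T m ↔ g ∈ T ∧ ∀ lam : F →* ℂˣ, lam ^ m = 1 → act F g lam = lam := by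
  simp only [fixSub, Subgroup.mem_inf, Subgroup.mem_iInf, mem_inertia_iff]

theorem fixSub_normal (F T : Subgroup G) [F.Normal] [T.Normal] (m : ℕ) :
    (fixSub F T m).Normal := ⟨fun x hx g => by
  rw [mem_fixSub] at hx ⊢
  refine ⟨Subgroup.Normal.conj_mem inferInstance x hx.1 g, fun lam hlam => ?_⟩
  have h1 : act F g lam ^ m = 1 := act_pow_one g hlam
  rw [act_mul, act_mul, hx.2 _ h1, ← act_mul, mul_inv_cancel, act_one]⟩

/-- The characters of order prime to `p` detect `F(G)` among the `p`-elements modulo `F(G)`. -/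
theorem fixSub_le {p : ℕ} [Fact p.Prime] (T : Subgroup G) [T.Normal]
    (hFT : Cfsg.fittingSubgroup G ≤ T)
    (hT : ∀ x ∈ T, ∃ k : ℕ, x ^ p ^ k ∈ Cfsg.fittingSubgroup G)
    [(Cfsg.fittingSubgroup G).Normal] :
    fixSub (Cfsg.fittingSubgroup G) T (ordCompl[p] (Nat.card (Cfsg.fittingSubgroup G))) ≤
      Cfsg.fittingSubgroup G := by
  classical
  set F := Cfsg.fittingSubgroup G with hF
  haveI : Group.IsNilpotent F := Coprime.fitting_isNilpotent
  set n := Nat.card F with hn
  have hn0 : n ≠ 0 := Nat.card_pos.ne'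
  set m := ordCompl[p] n with hm
  set q := ordProj[p] n with hq
  have hqm : q * m = n := Nat.ordProj_mul_ordCompl_eq_self n p
  have hcop : q.Coprime m :=
    Nat.Coprime.pow_left _ ((Fact.out : p.Prime).coprime_iff_not_dvd.2 (Nat.not_dvd_ordCompl Fact.out hn0))
  set K := fixSub F T m with hK
  haveI : K.Normal := fixSub_normal F T m
  set Φ := frattini G
  have hΦF : Φ ≤ F := by
    haveI hΦn : Group.IsNilpotent Φ := frattini_nilpotent
    exact Coprime.le_fitting hΦn
  have hFK : F ≤ K := fun x hx => mem_fixSub.2 ⟨hFT hx, fun lam _ => by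
    ext y
    rw [act_apply]
    rw [show (MulAut.conjNormal x : F ≃* F) y = ⟨x, hx⟩ * y * ⟨x, hx⟩⁻¹ from
      Subtype.ext (MulAut.conjNormal_apply x y), map_mul, map_mul, map_inv, mul_comm (lam _),
      mul_inv_cancel_right]⟩
  set π := QuotientGroup.mk' Φ
  have hcomm : ∀ x ∈ F, ∀ y ∈ F, π x * π y = π y * π x := by
    intro x hx y hy
    have h1 : x * y * x⁻¹ * y⁻¹ ∈ Φ := map_commutator_le_frattini F
      ⟨⁅(⟨x, hx⟩ : F), ⟨y, hy⟩⁆, commutator_mem_commutator (mem_top _) (mem_top _), rfl⟩
    have h2 : π (x * y * x⁻¹ * y⁻¹) = 1 := (QuotientGroup.eq_one_iff _).2 h1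
    calc π x * π y = π (x * y * x⁻¹ * y⁻¹) * (π y * π x) := by
          rw [← map_mul, ← map_mul, ← map_mul]; congr 1; group
      _ = π y * π x := by rw [h2, one_mul]
  -- the `p'`-part of `F/Φ(G)`
  let A : Subgroup (G ⧸ Φ) :=
    { carrier := {x | x ∈ F.map π ∧ x ^ m = 1}
      one_mem' := ⟨one_mem _, one_pow m⟩
      mul_mem' := fun {a b} ha hb => ⟨mul_mem ha.1 hb.1, by
        obtain ⟨x, hx, rfl⟩ := ha.1
        obtain ⟨y, hy, rfl⟩ := hb.1
        rw [(show Commute (π x) (π y) from hcomm x hx y hy).mul_pow, ha.2, hb.2, one_mul]⟩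
      inv_mem' := fun {a} ha => ⟨inv_mem ha.1, by rw [inv_pow, ha.2, inv_one]⟩ }
  haveI : (F.map π).Normal := Subgroup.Normal.map inferInstance π (QuotientGroup.mk'_surjective Φ)
  haveI : A.Normal := ⟨fun a ha g => ⟨Subgroup.Normal.conj_mem inferInstance a ha.1 g, by
    rw [conj_pow, ha.2, mul_one, mul_inv_cancel]⟩⟩
  -- it is central in the image of `K`
  have hcen : ∀ a ∈ A, ∀ k ∈ K, π k * a = a * π k := by
    intro a ha k hk
    obtain ⟨x, hx, rfl⟩ := ha.1
    have hcA : π k * π x * (π k)⁻¹ * (π x)⁻¹ ∈ A :=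
      mul_mem (Subgroup.Normal.conj_mem inferInstance _ ha _) (inv_mem ha)
    set c : F := (MulAut.conjNormal k : F ≃* F) ⟨x, hx⟩ * (⟨x, hx⟩ : F)⁻¹ with hc
    have hcq : c ^ q ∈ commutator F := by
      by_contra hne
      have h2 : (Abelianization.of (c ^ q) : Abelianization F) ≠ 1 := fun e =>
        hne (by rwa [← MonoidHom.mem_ker, Abelianization.ker_of] at e)
      obtain ⟨μ, hμ⟩ :=
        CommGroup.exists_apply_ne_one_of_hasEnoughRootsOfUnity (Abelianization F) ℂ h2
      let ν : F →* ℂˣ := μ.comp Abelianization.of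
      have hν : (ν ^ q) ^ m = 1 := by
        ext y
        show ((((ν y) ^ q) ^ m : ℂˣ) : ℂ) = _
        rw [← pow_mul, hqm, ← map_pow, hn, pow_card_eq_one', map_one]
        rfl
      have hfix := DFunLike.congr_fun ((mem_fixSub.1 hk).2 _ hν) ⟨x, hx⟩
      rw [act_apply] at hfix
      have h3 : (ν ^ q) c = 1 := by rw [hc, map_mul, map_inv, hfix, mul_inv_cancel]
      rw [MonoidHom.pow_apply, ← map_pow] at h3
      exact hμ h3
    have e1 : π (c : G) = π k * π x * (π k)⁻¹ * (π x)⁻¹ := by
      rw [hc]
      show π (((MulAut.conjNormal k : F ≃* F) ⟨x, hx⟩ : G) * x⁻¹) = _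
      rw [MulAut.conjNormal_apply, map_mul, map_mul, map_mul, map_inv, map_inv]
    have e2 : (π k * π x * (π k)⁻¹ * (π x)⁻¹) ^ q = 1 := by
      rw [← e1, ← map_pow]
      refine (QuotientGroup.eq_one_iff _).2 (map_commutator_le_frattini F ?_)
      exact ⟨c ^ q, hcq, by simp⟩
    have e3 : π k * π x * (π k)⁻¹ * (π x)⁻¹ = 1 := by
      rw [← orderOf_eq_one_iff]
      exact Nat.eq_one_of_dvd_coprimes hcop (orderOf_dvd_of_pow_eq_one e2)
        (orderOf_dvd_of_pow_eq_one hcA.2)
    calc π k * π x = (π k * π x * (π k)⁻¹ * (π x)⁻¹) * (π x * π k) := by group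
      _ = π x * π k := by rw [e3, one_mul]
  -- the image of `K` is nilpotent
  set W := K.map π with hW
  haveI : W.Normal := Subgroup.Normal.map inferInstance π (QuotientGroup.mk'_surjective Φ)
  have hWnil : Group.IsNilpotent W := by
    let f : W →* W ⧸ A.subgroupOf W := QuotientGroup.mk' _
    haveI : Group.IsNilpotent (W ⧸ A.subgroupOf W) := by
      refine IsPGroup.isNilpotent (p := p) fun y => ?_
      obtain ⟨⟨w, hw⟩, rfl⟩ := QuotientGroup.mk'_surjective (A.subgroupOf W) y
      obtain ⟨k, hk, rfl⟩ := hw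
      obtain ⟨i, hi⟩ := hT k (mem_fixSub.1 hk).1
      refine ⟨i + n.factorization p, ?_⟩
      rw [← map_pow]
      refine (QuotientGroup.eq_one_iff _).2 (mem_subgroupOf.2 ?_)
      push_cast
      rw [← map_pow, pow_add, pow_mul]
      refine ⟨mem_map_of_mem π (pow_mem hi _), ?_⟩
      rw [← map_pow, ← pow_mul, hqm]
      have h4 : (⟨k ^ p ^ i, hi⟩ : F) ^ n = 1 := pow_card_eq_one'
      have h5 := congrArg Subtype.val h4
      rw [Subgroup.coe_pow, Subgroup.coe_one] at h5
      rw [h5, map_one]
    refine Subgroup.isNilpotent_of_ker_le_center f ?_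
    rw [QuotientGroup.ker_mk']
    intro w hw
    refine mem_center_iff.2 fun v => Subtype.ext ?_
    obtain ⟨k, hk, hkv⟩ := v.2
    show (v : G ⧸ Φ) * w = w * v
    rw [← hkv]
    exact hcen _ (mem_subgroupOf.1 hw) k hk
  exact Coprime.le_fitting_of_map_frattini_le (haveI := hWnil; Coprime.le_fitting hWnil)
    (hΦF.trans hFK)

/-- `O_p(G/F(G))` has order at most `p`. -/
theorem card_pCore_le (h : ∀ χ : IrrCharacter G, Squarefree (charDegree (χ : G → ℂ)))
    (p : ℕ) [Fact p.Prime] [(Cfsg.fittingSubgroup G).Normal] :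
    Nat.card (Cfsg.pCore p (G ⧸ Cfsg.fittingSubgroup G)) ≤ p := by
  classical
  have hp : p.Prime := Fact.out
  set F := Cfsg.fittingSubgroup G with hF
  set Q := Cfsg.pCore p (G ⧸ F) with hQ
  haveI : Q.Normal := Coprime.pCore_normal' p
  set T := Q.comap (QuotientGroup.mk' F) with hTdef
  have hFT : F ≤ T := fun x hx => by
    rw [hTdef, mem_comap, show QuotientGroup.mk' F x = 1 from (QuotientGroup.eq_one_iff x).2 hx]
    exact one_mem _
  have hT : ∀ x ∈ T, ∃ k : ℕ, x ^ p ^ k ∈ F := fun x hx => by
    obtain ⟨k, hk⟩ := Coprime.pCore_isPGroup p (⟨QuotientGroup.mk' F x, hx⟩ : Q)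
    refine ⟨k, (QuotientGroup.eq_one_iff _).1 ?_⟩
    have := congrArg Subtype.val hk
    simpa using this
  set m := ordCompl[p] (Nat.card F) with hm
  have hn0 : Nat.card F ≠ 0 := Nat.card_pos.ne'
  -- orbits have length at most `p`
  have horb : ∀ lam : F →* ℂˣ, (inertia F (lf lam)).relIndex T ∣ p := by
    intro lam
    set I := inertia F (lf lam) with hI
    have hFI : F ≤ I := le_inertia F (isClassFunction_of_isCharacter
      (isCharacter_of_isIrr (isIrrCharacter_lin lam)))
    have hd : I.relIndex T ∣ I.index := by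
      rw [← PGroup.relIndex_sup_of_normal I T]
      exact ⟨(T ⊔ I).index, (relIndex_mul_index le_sup_right).symm⟩
    have hd2 : I.relIndex T ∣ F.relIndex T := relIndex_dvd_of_le_left T hFI
    have h3 : F.relIndex T = Nat.card Q := by
      have e := Coprime.card_eq_card_mul_card_map_mk' F hFT
      rw [map_comap_eq_self_of_surjective (QuotientGroup.mk'_surjective F)] at e
      have e2 := relIndex_mul_index (le_refl T)
      have e3 : F.relIndex T * Nat.card F = Nat.card T := by
        rw [← relIndex_bot_left F, mul_comm, relIndex_mul_relIndex ⊥ F T bot_le hFT, relIndex_bot_left]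
      rw [e, mul_comm (Nat.card F)] at e3
      exact Nat.eq_of_mul_eq_mul_right Nat.card_pos e3
    obtain ⟨j, hj⟩ := IsPGroup.iff_card.1 (Coprime.pCore_isPGroup (G := G ⧸ F) p)
    rw [h3, hj] at hd2
    obtain ⟨i, -, hi⟩ := (Nat.dvd_prime_pow hp).1 hd2
    rw [hi]
    have hsf := (index_inertia_squarefree h F lam).squarefree_of_dvd (hi ▸ hd)
    rcases eq_or_ne i 0 with rfl | hi0
    · rw [pow_zero]; exact one_dvd p
    · rcases (Nat.squarefree_pow_iff hp.ne_one hi0).1 hsf with ⟨-, rfl⟩
      rw [pow_one]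
  -- commutators and `p`-th powers fix everything
  have hnorm : ∀ lam : F →* ℂˣ, ∀ a ∈ T, ∀ b ∈ T,
      act F (a * b * a⁻¹ * b⁻¹) lam = lam ∧ act F (a ^ p) lam = lam := by
    intro lam a ha b hb
    set J := (inertia F (lf lam)).subgroupOf T
    have hJ : J.index ∣ p := horb lam
    rcases (Nat.dvd_prime hp).1 hJ with h1 | h1
    · rw [index_eq_one] at h1
      have hmem : ∀ x ∈ T, act F x lam = lam := fun x hx =>
        (mem_inertia_iff F lam x).1 (h1 ▸ mem_top (⟨x, hx⟩ : T) : (⟨x, hx⟩ : T) ∈ J)
      exact ⟨hmem _ (mul_mem (mul_mem (mul_mem ha hb) (inv_mem ha)) (inv_mem hb)),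
        hmem _ (pow_mem ha p)⟩
    · haveI : (T.comap (MonoidHom.id G)).Normal := inferInstance
      haveI hJn : J.Normal := by
        set f := QuotientGroup.mk' (F.subgroupOf T)
        have hTp : IsPGroup p (T ⧸ F.subgroupOf T) := fun y => by
          obtain ⟨x, rfl⟩ := QuotientGroup.mk'_surjective (F.subgroupOf T) y
          obtain ⟨k, hk⟩ := hT x x.2
          exact ⟨k, by rw [← map_pow]; exact (QuotientGroup.eq_one_iff _).2 (mem_subgroupOf.2 hk)⟩
        have hker : f.ker ≤ J := by
          rw [QuotientGroup.ker_mk']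
          exact fun x hx => le_inertia F (isClassFunction_of_isCharacter
            (isCharacter_of_isIrr (isIrrCharacter_lin lam))) hx
        have he : (J.map f).comap f = J := by rw [comap_map_eq, sup_eq_left.2 hker]
        have hidx : (J.map f).index = p := by
          rw [index_map_eq _ (QuotientGroup.mk'_surjective _) hker, h1]
        haveI : (J.map f).Normal := by
          refine normal_of_index_eq_minFac_card ?_
          obtain ⟨k, hk⟩ := IsPGroup.iff_card.1 hTp
          have hk0 : k ≠ 0 := fun e => by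
            have := (J.map f).index_dvd_card
            rw [hidx, hk, e, pow_zero, Nat.dvd_one] at this
            exact hp.ne_one this
          rw [hidx, hk, Nat.Prime.pow_minFac hp hk0]
        rw [← he]; infer_instance
      haveI : IsCyclic (T ⧸ J) := isCyclic_of_prime_card (p := p) (by rw [← index_eq_card, h1])
      refine ⟨(mem_inertia_iff F lam _).1 ?_, (mem_inertia_iff F lam _).1 ?_⟩
      · have hc : QuotientGroup.mk' J ((⟨a, ha⟩ : T) * ⟨b, hb⟩ * (⟨a, ha⟩ : T)⁻¹ * (⟨b, hb⟩ : T)⁻¹) = 1 := by
          rw [map_mul, map_mul, map_mul, map_inv, map_inv,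
            IsCyclic.commGroup.mul_comm (QuotientGroup.mk' J ⟨a, ha⟩) (QuotientGroup.mk' J ⟨b, hb⟩)]
          group
        exact mem_subgroupOf.1 ((QuotientGroup.eq_one_iff (N := J) _).1 hc)
      · have := Subgroup.pow_index_mem J ⟨a, ha⟩
        rw [h1] at this
        exact this
  have hswap : ∀ lam : F →* ℂˣ, ∀ a ∈ T, ∀ b ∈ T, act F a (act F b lam) = act F b (act F a lam) := by
    intro lam a ha b hb
    rw [← act_mul, ← act_mul]
    calc act F (b * a) lam = act F ((b * a * b⁻¹ * a⁻¹) * (a * b)) lam := by congr 1; group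
      _ = act F (a * b) lam := by rw [act_mul F (b * a * b⁻¹ * a⁻¹), (hnorm lam b hb a ha).1]
  have hiter : ∀ (a : G) (lam : F →* ℂˣ) (i : ℕ), (act F a)^[i] lam = act F (a ^ i) lam := by
    intro a lam i
    induction i with
    | zero => rw [pow_zero, act_one]; rfl
    | succ i ih => rw [Function.iterate_succ_apply', ih, ← act_mul, pow_succ]
  -- the norm of a commutator is trivial
  have htel : ∀ a ∈ T, ∀ lam : F →* ℂˣ,
      ∏ i ∈ Finset.range p, act F (a ^ i) (act F a lam * lam⁻¹) = 1 := by
    intro a ha lam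
    have e : ∀ i, act F (a ^ i) (act F a lam * lam⁻¹) =
        act F (a ^ (i + 1)) lam / act F (a ^ i) lam := fun i => by
      rw [map_mul, act_inv, ← act_mul, ← pow_succ']
      exact (div_eq_mul_inv _ _).symm
    simp only [e]
    rw [Finset.prod_range_div (fun i => act F (a ^ i) lam), (hnorm lam a ha a ha).2, pow_zero,
      act_one, div_self']
  have hne : ∀ a ∈ T, ∀ lam : F →* ℂˣ, lam ^ m = 1 → act F a lam ≠ lam →
      act F a (act F a lam * lam⁻¹) ≠ act F a lam * lam⁻¹ := by
    intro a ha lam hlam hne hfix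
    set μ := act F a lam * lam⁻¹ with hμ
    have hall : ∀ i, act F (a ^ i) μ = μ := by
      intro i
      induction i with
      | zero => rw [pow_zero, act_one]
      | succ i ih => rw [pow_succ, act_mul, ih, hfix]
    have h1 := htel a ha lam
    rw [← hμ] at h1
    simp only [hall, Finset.prod_const, Finset.card_range] at h1
    have h2 : μ ^ m = 1 := pow_mul_inv_one (act_pow_one a hlam) hlam
    have h3 : orderOf μ = 1 := Nat.eq_one_of_dvd_coprimes
      ((Fact.out : p.Prime).coprime_iff_not_dvd.2 (Nat.not_dvd_ordCompl hp hn0))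
      (orderOf_dvd_of_pow_eq_one h1) (orderOf_dvd_of_pow_eq_one h2)
    exact hne (mul_inv_eq_one.1 (orderOf_eq_one_iff.1 h3))
  -- all moved characters have one stabilizer
  have hsame : ∀ lam μ : F →* ℂˣ, lam ^ m = 1 → μ ^ m = 1 → ∀ a ∈ T, ∀ b ∈ T,
      act F a lam ≠ lam → act F a μ = μ → act F b μ ≠ μ → act F b lam = lam → False := by
    intro lam μ hlam hμ a ha b hb hal haμ hbμ hbl
    set l := act F a lam * lam⁻¹ with hl
    set u := act F b μ * μ⁻¹ with hu
    have hl1 : act F b l = l := by rw [hl, map_mul, act_inv, hswap lam b hb a ha, hbl]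
    have hu1 : act F a u = u := by rw [hu, map_mul, act_inv, hswap μ a ha b hb, haμ]
    have hl2 := hne a ha lam hlam hal
    have hu2 := hne b hb μ hμ hbμ
    have hlm : l ^ m = 1 := pow_mul_inv_one (act_pow_one a hlam) hlam
    have hum : u ^ m = 1 := pow_mul_inv_one (act_pow_one b hμ) hμ
    set ν := l * u
    -- an element fixing `ν` fixes `l`
    have hν : ∀ g ∈ T, act F g ν = ν → act F g l = l := by
      intro g hg hgν
      set z := act F g l * l⁻¹ with hz
      have hz' : z = u * (act F g u)⁻¹ := by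
        rw [map_mul] at hgν
        ext y
        have h0 : act F g l y * act F g u y = l y * u y := DFunLike.congr_fun hgν y
        show ((act F g l y * (l y)⁻¹ : ℂˣ) : ℂ) = ((u y * (act F g u y)⁻¹ : ℂˣ) : ℂ)
        congr 1
        rw [eq_mul_inv_iff_mul_eq, mul_right_comm, h0, mul_comm (l y), mul_inv_cancel_right]
      have hzb : act F b z = z := by rw [hz, map_mul, act_inv, hswap l b hb g hg, hl1]
      have hall : ∀ i, act F (b ^ i) z = z := by
        intro i
        induction i with
        | zero => rw [pow_zero, act_one]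
        | succ i ih => rw [pow_succ, act_mul, ih, hzb]
      have h1 : ∏ i ∈ Finset.range p, act F (b ^ i) z = 1 := by
        have e : ∀ i, act F (b ^ i) z = act F (b ^ i) u * (act F g (act F (b ^ i) u))⁻¹ := fun i => by
          rw [hz', map_mul, act_inv, hswap u (b ^ i) (pow_mem hb i) g hg]
        simp only [e]
        have e2 : ∏ x ∈ Finset.range p, (act F g (act F (b ^ x) u))⁻¹ =
            (∏ x ∈ Finset.range p, act F g (act F (b ^ x) u))⁻¹ := Finset.prod_inv_distrib _
        rw [Finset.prod_mul_distrib, e2, ← map_prod, hu, htel b hb μ, map_one]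
        simp
      simp only [hall, Finset.prod_const, Finset.card_range] at h1
      have h2 : z ^ m = 1 := pow_mul_inv_one (act_pow_one g hlm) hlm
      have h3 : orderOf z = 1 := Nat.eq_one_of_dvd_coprimes
        ((Fact.out : p.Prime).coprime_iff_not_dvd.2 (Nat.not_dvd_ordCompl hp hn0))
        (orderOf_dvd_of_pow_eq_one h1) (orderOf_dvd_of_pow_eq_one h2)
      exact mul_inv_eq_one.1 (orderOf_eq_one_iff.1 h3)
    set I := inertia F (lf ν) ⊓ T
    set J := inertia F (lf l) ⊓ T
    have hIJ : I ≤ J := fun g hg =>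
      ⟨(mem_inertia_iff F l g).2 (hν g hg.2 ((mem_inertia_iff F ν g).1 hg.1)), hg.2⟩
    have hbJ : b ∈ J := ⟨(mem_inertia_iff F l b).2 hl1, hb⟩
    have hbI : b ∉ I := fun hg => by
      have e := (mem_inertia_iff F ν b).1 hg.1
      rw [map_mul, hl1] at e
      exact hu2 (mul_left_cancel e)
    have haJ : a ∉ J := fun hg => hl2 ((mem_inertia_iff F l a).1 hg.1)
    have h4 : I.relIndex T = p ∧ J.relIndex T = p := by
      constructor
      · refine ((Nat.dvd_prime hp).1 ?_).resolve_left fun e => hbI (relIndex_eq_one.1 e hb)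
        rw [inf_relIndex_right]; exact horb ν
      · refine ((Nat.dvd_prime hp).1 ?_).resolve_left fun e => haJ (relIndex_eq_one.1 e ha)
        rw [inf_relIndex_right]; exact horb l
    have h5 := relIndex_mul_relIndex I J T hIJ inf_le_right
    rw [h4.1, h4.2] at h5
    have h6 : I.relIndex J = 1 := Nat.eq_of_mul_eq_mul_right hp.pos (h5.trans (one_mul p).symm)
    exact hbI (relIndex_eq_one.1 h6 hbJ)
  set K := fixSub F T m with hK
  have hKF : K = F := le_antisymm (fixSub_le T hFT hT) fun x hx => mem_fixSub.2 ⟨hFT hx,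
    fun lam _ => (mem_inertia_iff F lam x).1 (le_inertia F (isClassFunction_of_isCharacter
      (isCharacter_of_isIrr (isIrrCharacter_lin lam))) hx)⟩
  have hcard : K.relIndex T ≤ p := by
    by_cases hex : ∃ lam : F →* ℂˣ, lam ^ m = 1 ∧ ∃ a ∈ T, act F a lam ≠ lam
    · obtain ⟨lam, hlam, a, ha, hal⟩ := hex
      have hle : inertia F (lf lam) ⊓ T ≤ K := by
        intro g hg
        refine mem_fixSub.2 ⟨hg.2, fun μ hμ => ?_⟩
        by_contra hgμ
        have hgl := (mem_inertia_iff F lam g).1 hg.1
        by_cases haμ : act F a μ = μ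
        · exact hsame lam μ hlam hμ a ha g hg.2 hal haμ hgμ hgl
        -- replace `a` by `g ^ i * a` fixing `μ`
        set J := (inertia F (lf μ)).subgroupOf T with hJ
        have hJi : J.index = p := ((Nat.dvd_prime hp).1 (horb μ)).resolve_left fun e => by
          exact hgμ ((mem_inertia_iff F μ g).1 (relIndex_eq_one.1 e hg.2))
        have hex2 : ∃ i : ℕ, act F (g ^ i * a) μ = μ := by
          haveI : Finite (T ⧸ J) := inferInstance
          by_contra hno
          push Not at hno
          have hinj : Function.Injective (fun i : Fin (p + 1) =>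
              if h : (i : ℕ) < p then QuotientGroup.mk (s := J) ((⟨g, hg.2⟩ : T)⁻¹ ^ (i : ℕ))
              else QuotientGroup.mk (s := J) (⟨a, ha⟩ : T)) := by
            intro i j hij
            have hpow : ∀ d : ℕ, 0 < d → d < p → act F (g ^ d) μ ≠ μ := by
              intro d hd0 hdp hfix
              have hcd : d.Coprime p := ((Fact.out : p.Prime).coprime_iff_not_dvd.2
                fun hdd => absurd (Nat.le_of_dvd hd0 hdd) (by omega)).symm
              obtain ⟨e, -, he⟩ := Nat.exists_mul_mod_eq_one_of_coprime hcd hp.one_lt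
              have h1 : act F (g ^ (d * e)) μ = μ := by
                rw [pow_mul, ← mem_inertia_iff]
                exact pow_mem ((mem_inertia_iff F μ _).2 hfix) e
              have h2 : act F (g ^ (p * (d * e / p))) μ = μ := by
                rw [pow_mul, ← mem_inertia_iff]
                exact pow_mem ((mem_inertia_iff F μ _).2 (hnorm μ g hg.2 g hg.2).2) _
              rw [← Nat.div_add_mod (d * e) p, he, pow_succ, act_mul, h2] at h1
              exact hgμ h1
            by_cases hi : (i : ℕ) < p <;> by_cases hj : (j : ℕ) < p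
            · simp only [hi, hj, dite_true] at hij
              rcases lt_trichotomy (i : ℕ) (j : ℕ) with hlt | he | hlt
              · exfalso
                have hm2 : ((⟨g, hg.2⟩ : T)⁻¹ ^ (i : ℕ))⁻¹ * (⟨g, hg.2⟩ : T)⁻¹ ^ (j : ℕ) ∈ J :=
                  QuotientGroup.eq.1 hij
                obtain ⟨d, hd⟩ := Nat.exists_eq_add_of_le hlt.le
                rw [hd, pow_add, inv_mul_cancel_left] at hm2
                rw [inv_pow, inv_mem_iff] at hm2
                exact hpow d (by omega) (by omega) ((mem_inertia_iff F μ _).1 hm2)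
              · exact Fin.ext he
              · exfalso
                have hm2 : ((⟨g, hg.2⟩ : T)⁻¹ ^ (j : ℕ))⁻¹ * (⟨g, hg.2⟩ : T)⁻¹ ^ (i : ℕ) ∈ J :=
                  QuotientGroup.eq.1 hij.symm
                obtain ⟨d, hd⟩ := Nat.exists_eq_add_of_le hlt.le
                rw [hd, pow_add, inv_mul_cancel_left] at hm2
                rw [inv_pow, inv_mem_iff] at hm2
                exact hpow d (by omega) (by omega) ((mem_inertia_iff F μ _).1 hm2)
            · simp only [hi, hj, dite_true, dite_false] at hij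
              have hm2 := QuotientGroup.eq.1 hij
              rw [← inv_pow, inv_inv] at hm2
              exact absurd ((mem_inertia_iff F μ _).1 hm2) (hno i)
            · simp only [hi, hj, dite_true, dite_false] at hij
              have hm2 := QuotientGroup.eq.1 hij.symm
              rw [← inv_pow, inv_inv] at hm2
              exact absurd ((mem_inertia_iff F μ _).1 hm2) (hno j)
            · exact Fin.ext (by omega)
          have := Nat.card_le_card_of_injective _ hinj
          rw [Nat.card_fin, ← index_eq_card, hJi] at this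
          omega
        obtain ⟨i, hi⟩ := hex2
        refine hsame lam μ hlam hμ (g ^ i * a) (mul_mem (pow_mem hg.2 i) ha) g hg.2 ?_ hi hgμ hgl
        rw [act_mul, show act F (g ^ i) lam = lam from
          (mem_inertia_iff F lam _).1 (pow_mem hg.1 i)]
        exact hal
      refine (Nat.le_of_dvd hp.pos ?_)
      refine (relIndex_dvd_of_le_left T hle).trans ?_
      rw [inf_relIndex_right]
      exact horb lam
    · push Not at hex
      have hle : T ≤ K := fun g hg => mem_fixSub.2 ⟨hg, fun lam hlam => hex lam hlam g hg⟩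
      rw [relIndex_eq_one.2 hle]; exact hp.one_le
  rw [hKF] at hcard
  have e := Coprime.card_eq_card_mul_card_map_mk' F hFT
  rw [map_comap_eq_self_of_surjective (QuotientGroup.mk'_surjective F)] at e
  have e3 : F.relIndex T * Nat.card F = Nat.card T := by
    rw [← relIndex_bot_left F, mul_comm, relIndex_mul_relIndex ⊥ F T bot_le hFT, relIndex_bot_left]
  rw [e, mul_comm (Nat.card F)] at e3
  rw [← Nat.eq_of_mul_eq_mul_right Nat.card_pos e3]
  exact hcard

theorem derivedSeries_two_nilpotent {F : Type u} [Group F] [Finite F] [Group.IsNilpotent F]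
    (h : ∀ χ : IrrCharacter F, Squarefree (charDegree (χ : F → ℂ))) :
    derivedSeries F 2 = ⊥ := by
  classical
  obtain ⟨e⟩ : Nonempty ((∀ p : (Nat.card F).primeFactors, ∀ P : Sylow (p : ℕ) F, ↥(P : Subgroup F)) ≃* F) :=
    (Group.isNilpotent_of_finite_tfae (G := F)).out 0 4 |>.1 (inferInstance : Group.IsNilpotent F)
  have key : ∀ (p : (Nat.card F).primeFactors) (P : Sylow p F), derivedSeries P 2 = ⊥ := by
    intro p P
    haveI : Fact (p : ℕ).Prime := ⟨Nat.prime_of_mem_primeFactors p.2⟩
    haveI : (P : Subgroup F).Normal := inferInstance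
    haveI : Group.IsNilpotent (P : Subgroup F) := P.isPGroup'.isNilpotent
    have h2 : TwoDeg (p : ℕ) (↥(P : Subgroup F)) := fun χ => by
      have hsf := squarefree_normal h (P : Subgroup F) χ
      have hd : charDegree (χ : ↥(P : Subgroup F) → ℂ) ∣ Nat.card (P : Subgroup F) :=
        Char.degree_dvd_card χ (Block.ItoMichler.one_eq_cast χ)
      obtain ⟨k, hk⟩ := P.isPGroup'.exists_card_eq
      obtain ⟨i, -, hi⟩ := (Nat.dvd_prime_pow Fact.out).1 (hk ▸ hd)
      rw [hi] at hsf ⊢
      rcases eq_or_ne i 0 with rfl | hi0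
      · exact Or.inl (pow_zero _)
      · rcases (Nat.squarefree_pow_iff (Fact.out : (p : ℕ).Prime).ne_one hi0).1 hsf with ⟨-, rfl⟩
        exact Or.inr (pow_one _)
    rw [derivedSeries_succ, derivedSeries_one, commutator_eq_bot_iff_le_centralizer]
    intro a ha
    exact mem_centralizer_iff.2 fun b hb => TwoDegrees.commutator_comm_of_nilpotent h2 b hb a ha
  rw [eq_bot_iff]
  intro x hx
  rw [mem_bot]
  refine e.symm.injective ?_
  rw [map_one]
  funext p P
  let f : F →* P := (Pi.evalMonoidHom _ P).comp ((Pi.evalMonoidHom _ p).comp e.symm.toMonoidHom)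
  have h3 : f x ∈ derivedSeries P 2 := map_derivedSeries_le_derivedSeries f 2 (mem_map_of_mem f hx)
  rw [key, mem_bot] at h3
  exact h3

/-- A solvable group with square-free degrees has derived length at most four. -/
theorem derivedSeries_four [Group.IsSolvable G]
    (h : ∀ χ : IrrCharacter G, Squarefree (charDegree (χ : G → ℂ))) :
    derivedSeries G 4 = ⊥ := by
  classical
  haveI : (Cfsg.fittingSubgroup G).Normal := Coprime.fitting_normal
  set F := Cfsg.fittingSubgroup G with hF
  haveI : Group.IsNilpotent F := Coprime.fitting_isNilpotent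
  set L := Cfsg.fittingSubgroup (G ⧸ F) with hL
  haveI : L.Normal := Coprime.fitting_normal
  haveI : Group.IsNilpotent L := Coprime.fitting_isNilpotent
  haveI : IsZGroup L := by
    refine IsZGroup.of_squarefree (Nat.squarefree_iff_prime_squarefree.2 fun p hp hd => ?_)
    haveI := Fact.mk hp
    obtain ⟨P⟩ := (inferInstance : Nonempty (Sylow p L))
    haveI : (P : Subgroup L).Characteristic := P.characteristic_of_normal inferInstance
    have hle : (P : Subgroup L).map L.subtype ≤ Cfsg.pCore p (G ⧸ F) :=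
      Coprime.le_pCore (N := (P : Subgroup L).map L.subtype)
        (hN := ConjAct.normal_of_characteristic_of_normal) (P.isPGroup'.map _)
    have h2 := Nat.le_of_dvd Nat.card_pos (card_dvd_of_le hle)
    rw [card_map_of_injective L.subtype_injective] at h2
    have h3 : p ^ 2 ∣ Nat.card P := by
      rw [P.card_eq_multiplicity]
      refine pow_dvd_pow p ((hp.pow_dvd_iff_le_factorization Nat.card_pos.ne').1 ?_)
      rwa [pow_two]
    have h4 := Nat.le_of_dvd Nat.card_pos h3
    have h5 := card_pCore_le h p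
    have := hp.one_lt
    rw [pow_two] at h4
    nlinarith
  haveI hcyc : IsCyclic L := inferInstance
  have h1 : commutator (G ⧸ F) ≤ L := by
    refine le_trans ?_ Coprime.centralizer_fitting_le
    rw [_root_.commutator_def, commutator_le]
    intro a _ b _
    have hker : MulAut.conjNormal (H := L) ⁅a, b⁆ = 1 := by
      rw [map_commutatorElement, commutatorElement_eq_one_iff_mul_comm]
      refine MulEquiv.ext fun n => ?_
      obtain ⟨i, hi⟩ := MonoidHom.map_cyclic (MulAut.conjNormal a : MulAut L).toMonoidHom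
      obtain ⟨j, hj⟩ := MonoidHom.map_cyclic (MulAut.conjNormal b : MulAut L).toMonoidHom
      simp only [MulEquiv.toMonoidHom_eq_coe, MonoidHom.coe_coe] at hi hj
      rw [MulAut.mul_apply, MulAut.mul_apply, hi, hj, hj, hi, zpow_comm]
    refine mem_centralizer_iff.2 fun y hy => ?_
    have := congrArg (fun φ : MulAut L => ((φ ⟨y, hy⟩ : L) : G ⧸ F)) hker
    simp only [MulAut.conjNormal_apply, MulAut.one_apply] at this
    exact (mul_inv_eq_iff_eq_mul.1 this).symm
  have h2 : derivedSeries G 2 ≤ F := by
    have hmap : (derivedSeries G 2).map (QuotientGroup.mk' F) = ⊥ := by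
      rw [eq_bot_iff]
      refine (map_derivedSeries_le_derivedSeries _ 2).trans ?_
      rw [derivedSeries_succ, derivedSeries_one, le_bot_iff, commutator_eq_bot_iff_le_centralizer]
      intro x hx
      refine mem_centralizer_iff.2 fun y hy => ?_
      exact congrArg Subtype.val (IsCyclic.commGroup.mul_comm (⟨y, h1 hy⟩ : L) ⟨x, h1 hx⟩)
    rwa [Subgroup.map_eq_bot_iff, QuotientGroup.ker_mk'] at hmap
  have h3 : derivedSeries G 3 ≤ (derivedSeries F 1).map F.subtype := by
    rw [derivedSeries_succ G 2, derivedSeries_succ F 0, derivedSeries_zero, map_commutator,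
      ← MonoidHom.range_eq_map, range_subtype]
    exact commutator_mono h2 h2
  have h4 : derivedSeries G 4 ≤ (derivedSeries F 2).map F.subtype := by
    rw [derivedSeries_succ G 3, derivedSeries_succ F 1, map_commutator]
    exact commutator_mono h3 h3
  rw [derivedSeries_two_nilpotent (squarefree_normal h F), Subgroup.map_bot] at h4
  exact le_bot_iff.1 h4

end CfsgLib.Char.SquarefreeDeg
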