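import Cfsg.Agent.Lib.Invol.TransferPower
import Mathlib.RingTheory.RootsOfUnity.AlgebraicallyClosed
import Mathlib.Analysis.Complex.Polynomial.Basic
import Mathlib.GroupTheory.FiniteAbelian.Duality

/-!
# Elementary abelianisation of a Sylow `2`-subgroup from a normal subgroup
-/

set_option autoImplicit false

namespace CfsgLib.Char.SylowTwoAb

open scoped commutatorElement

variable {G : Type*} [Group G] [Finite G]

theorem hom_sq_eq_one (N P : Subgroup G) [N.Normal] (htop : N ⊔ P = ⊤) (hidx : Odd P.index)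
    (hP : ∀ x ∈ P, x ^ 2 ∈ (P ⊓ N) ⊔ ⁅P, P⁆) (hQ : ∀ x ∈ P ⊓ N, x ^ 2 ∈ ⁅P ⊓ N, P ⊓ N⁆)
    (hodd : Odd (Nat.card (Abelianization N))) {A : Type*} [CommGroup A] (lam : P →* A) (x : P) :
    lam (x ^ 2) = 1 := by
  classical
  have hcomm : ∀ c : P, (c : G) ∈ ⁅P, P⁆ → lam c = 1 := by
    intro c hc
    have e : ⁅P, P⁆ = (commutator P).map P.subtype := by
      rw [commutator_def, Subgroup.map_commutator, ← MonoidHom.range_eq_map, Subgroup.range_subtype]
    rw [e] at hc
    obtain ⟨c', hc', hcc⟩ := hc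
    rw [← (Subtype.ext hcc : c' = c)]
    exact MonoidHom.mem_ker.1 (Abelianization.commutator_subset_ker lam hc')
  have hsq : ∀ q : P, (q : G) ∈ N → lam q ^ 2 = 1 := fun q hq => by
    rw [← map_pow]
    refine hcomm _ ?_
    rw [SubmonoidClass.coe_pow]
    exact Subgroup.commutator_mono inf_le_left inf_le_left (hQ _ ⟨q.2, hq⟩)
  -- decompose squares
  have hdec : ∀ y : P, ∃ q : P, ∃ c : P, (q : G) ∈ N ∧ (c : G) ∈ ⁅P, P⁆ ∧ y ^ 2 = q * c := by
    intro y
    have hcP : ⁅P, P⁆ ≤ P := Subgroup.commutator_le.2 fun a ha b hb => by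
      rw [commutatorElement_def]
      exact P.mul_mem (P.mul_mem (P.mul_mem ha hb) (P.inv_mem ha)) (P.inv_mem hb)
    have hnorm : P ⊓ N ≤ Subgroup.normalizer (⁅P, P⁆ : Subgroup G) := fun q hq => by
      refine Subgroup.mem_normalizer_iff.2 fun c => ⟨fun hc => ?_, fun hc => ?_⟩
      · have h1 : ⁅q, c⁆ ∈ ⁅P, P⁆ := Subgroup.commutator_mem_commutator hq.1 (hcP hc)
        have h2 := Subgroup.mul_mem _ h1 hc
        rwa [commutatorElement_def, inv_mul_cancel_right] at h2
      · have hc' : c ∈ P := by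
          have := P.mul_mem (P.mul_mem (P.inv_mem hq.1) (hcP hc)) hq.1
          simpa [mul_assoc] using this
        have h1 : ⁅c, q⁆ ∈ ⁅P, P⁆ := Subgroup.commutator_mem_commutator hc' hq.1
        have h2 := Subgroup.mul_mem _ h1 hc
        rw [commutatorElement_def] at h2
        simpa [mul_assoc] using h2
    have h3 : (y : G) ^ 2 ∈ (((P ⊓ N) ⊔ ⁅P, P⁆ : Subgroup G) : Set G) := hP _ y.2
    rw [Subgroup.coe_mul_of_left_le_normalizer_right _ _ hnorm] at h3
    obtain ⟨q, hq, c, hc, hqc⟩ := h3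
    exact ⟨⟨q, hq.1⟩, ⟨c, hcP hc⟩, hq.2, hc, Subtype.ext hqc.symm⟩
  have hfour : ∀ y : P, (lam y ^ 2) ^ 2 = 1 := by
    intro y
    obtain ⟨q, c, hq, hc, e⟩ := hdec y
    rw [← map_pow, e, map_mul, hcomm c hc, mul_one, hsq q hq]
  let phi : P →* A := (powMonoidHom 2).comp lam
  have hphi : MonoidHom.transfer phi (x : G) = phi x ^ P.index := by
    refine CfsgLib.Invol.transfer_eq_pow_index phi (x : G) x.2 fun k g₀ hk => ?_
    have hg0 : g₀ ∈ ((N ⊔ P : Subgroup G) : Set G) := by rw [htop]; exact Subgroup.mem_top _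
    rw [Subgroup.normal_mul] at hg0
    obtain ⟨n, hn, p', hp', rfl⟩ := hg0
    set a := ((x : G) ^ k)⁻¹ * (n⁻¹ * (x : G) ^ k * n) with ha
    have haN : a ∈ N := by
      have := N.mul_mem (Subgroup.Normal.conj_mem' ‹_› n⁻¹ (N.inv_mem hn) ((x : G) ^ k)) hn
      simpa [ha, mul_assoc] using this
    have hb : n⁻¹ * (x : G) ^ k * n ∈ P := by
      have := P.mul_mem (P.mul_mem hp' hk) (P.inv_mem hp')
      simpa [mul_assoc] using this
    have haP : a ∈ P := P.mul_mem (P.inv_mem (P.pow_mem x.2 k)) hb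
    have e : (⟨(n * p')⁻¹ * (x : G) ^ k * (n * p'), hk⟩ : P) =
        (⟨p', hp'⟩ : P)⁻¹ * (x ^ k * ⟨a, haP⟩) * ⟨p', hp'⟩ := by
      apply Subtype.ext
      push_cast
      rw [ha]
      group
    rw [e, map_mul, map_mul, map_inv, map_mul, map_pow]
    show _ = phi x ^ k
    have : phi ⟨a, haP⟩ = 1 := hsq _ haN
    rw [this, mul_one, mul_comm (phi _)⁻¹, mul_assoc, inv_mul_cancel, mul_one]
  have hpow : ∀ g : G, MonoidHom.transfer phi g = MonoidHom.transfer lam g ^ 2 := by
    intro g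
    haveI := Fintype.ofFinite (Quotient (MulAction.orbitRel (Subgroup.zpowers g) (G ⧸ P)))
    rw [MonoidHom.transfer_eq_prod_quotient_orbitRel_zpowers_quot,
      MonoidHom.transfer_eq_prod_quotient_orbitRel_zpowers_quot, ← Finset.prod_pow]
    rfl
  have hτ4 : ∀ g : G, (MonoidHom.transfer lam g ^ 2) ^ 2 = 1 := by
    intro g
    haveI := Fintype.ofFinite (Quotient (MulAction.orbitRel (Subgroup.zpowers g) (G ⧸ P)))
    rw [MonoidHom.transfer_eq_prod_quotient_orbitRel_zpowers_quot, ← Finset.prod_pow, ← Finset.prod_pow]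
    exact Finset.prod_eq_one fun q _ => hfour _
  have hτN : ∀ q ∈ N, MonoidHom.transfer lam q = 1 := by
    intro q hq
    let f : Abelianization N →* A := Abelianization.lift ((MonoidHom.transfer lam).comp N.subtype)
    have h1 : MonoidHom.transfer lam q ^ Nat.card (Abelianization N) = 1 := by
      have : f (Abelianization.of ⟨q, hq⟩) = MonoidHom.transfer lam q := Abelianization.lift_apply_of _ _
      rw [← this, ← map_pow, pow_card_eq_one', map_one]
    have h2 : MonoidHom.transfer lam q ^ 4 = 1 := by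
      rw [show 4 = 2 * 2 from rfl, pow_mul, hτ4]
    have hcop : Nat.gcd 4 (Nat.card (Abelianization N)) = 1 := by
      have := Nat.Coprime.pow_left 2 (Nat.coprime_two_left.2 hodd)
      exact this
    simpa [hcop] using pow_gcd_eq_one.2 ⟨h2, h1⟩
  have hτx : MonoidHom.transfer lam (x : G) ^ 2 = 1 := by
    obtain ⟨q, c, hq, hc, e⟩ := hdec x
    have e' : (x : G) ^ 2 = (q : G) * (c : G) := by
      have := congrArg Subtype.val e
      simpa using this
    rw [← map_pow, e', map_mul, hτN _ hq, one_mul]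
    refine MonoidHom.mem_ker.1 (Abelianization.commutator_subset_ker (MonoidHom.transfer lam) ?_)
    rw [commutator_def]
    exact Subgroup.commutator_mono le_top le_top hc
  have h1 : phi x ^ P.index = 1 := by rw [← hphi, hpow, hτx]
  have h2 : phi x ^ 2 = 1 := hfour x
  obtain ⟨j, hj⟩ := hidx
  rw [hj, pow_succ, pow_mul, h2, one_pow, one_mul] at h1
  rw [map_pow]
  exact h1

theorem sq_mem_commutator (N P : Subgroup G) [N.Normal] (htop : N ⊔ P = ⊤) (hidx : Odd P.index)
    (hP : ∀ x ∈ P, x ^ 2 ∈ (P ⊓ N) ⊔ ⁅P, P⁆) (hQ : ∀ x ∈ P ⊓ N, x ^ 2 ∈ ⁅P ⊓ N, P ⊓ N⁆)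
    (hodd : Odd (Nat.card (Abelianization N))) (x : P) : x ^ 2 ∈ commutator P := by
  refine (QuotientGroup.eq_one_iff _).1 (show (Abelianization.of (x ^ 2) : Abelianization P) = 1 from ?_)
  by_contra hne
  haveI : Finite (Abelianization P) := inferInstanceAs (Finite (P ⧸ commutator P))
  obtain ⟨f, hf⟩ := CommGroup.exists_apply_ne_one_of_hasEnoughRootsOfUnity (Abelianization P) ℂ hne
  exact hf (hom_sq_eq_one N P htop hidx hP hQ hodd (f.comp Abelianization.of) x)

end CfsgLib.Char.SylowTwoAb
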