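import Cfsg.Agent.Lib.Char.IndMap
import Cfsg.Agent.Lib.Char.Vanish

/-!
# Taketa's theorem
-/

set_option autoImplicit false
set_option linter.unusedSectionVars false

namespace CfsgLib.Char

open scoped ComplexConjugate
open Representation Module Cfsg

universe u

variable {G : Type u} [Group G] [Fintype G]

theorem derivedSeries_char_eq_degree
    (hM : ∀ χ : G → ℂ, IsIrrCharacter G χ →
      ∃ (H : Subgroup G) (lam : H →* ℂˣ), χ = indFun H (fun h => (lam h : ℂ))) :
    ∀ (d : ℕ) (χ : IrrCharacter G), (χ : G → ℂ) 1 = d → ∀ g ∈ derivedSeries G d, (χ : G → ℂ) g = d := by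
  classical
  intro d
  induction d using Nat.strong_induction_on with
  | _ d ih =>
    intro χ hd g hg
    obtain ⟨H, lam, hχ⟩ := hM χ χ.2
    have hdi : d = H.index := by
      have h := congrFun hχ 1
      rw [hd, indFun_one, map_one, Units.val_one, mul_one] at h
      exact_mod_cast h
    have hd0 : 0 < d := hdi ▸ Nat.pos_of_ne_zero Subgroup.index_ne_zero_of_finite
    set D := derivedSeries G (d - 1) with hD
    -- the smaller part of the derived series lies in the core of `H`
    have hcore : ∀ y ∈ D, ∀ x : G, x⁻¹ * y * x ∈ H := by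
      intro y hy x
      by_cases hd1 : d = 1
      · rw [show H = ⊤ from Subgroup.index_eq_one.mp (hdi ▸ hd1)]
        exact Subgroup.mem_top _
      have := Fintype.ofFinite H
      have := Fintype.ofFinite (IrrCharacter G)
      set f := indFun H (fun _ => (1 : ℂ)) with hf
      have hfc : IsCharacter G f := isCharacter_indFun H (isCharacter_of_isIrr isIrrCharacter_one)
      choose m hm using classInner_char_irr_nat hfc
      choose e he0 he using fun ψ : IrrCharacter G => isIrrCharacter_degree ψ.2
      have hexp : ∀ z : G, f z = ∑ ψ : IrrCharacter G, (m ψ : ℂ) * (ψ : G → ℂ) z := fun z => by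
        conv_lhs => rw [classFun_expand (isClassFunction_of_isCharacter hfc)]
        simp [hm, Finset.sum_apply]
      let one : IrrCharacter G := ⟨fun _ => 1, isIrrCharacter_one⟩
      have hm1 : m one = 1 := by
        have h : classInner f (one : G → ℂ) = 1 := by
          rw [hf, classInner_indFun H _ _ (isClassFunction_irr one)]
          exact classInner_irr_self (⟨fun _ => 1, isIrrCharacter_one⟩ : IrrCharacter H)
        exact_mod_cast (hm one).symm.trans h
      have hf1 : f 1 = (d : ℂ) := by rw [hf, indFun_one, mul_one, hdi]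
      have hsum : d = ∑ ψ : IrrCharacter G, m ψ * e ψ := by
        have h := hexp 1
        rw [hf1] at h
        simp only [he] at h
        exact_mod_cast h
      have he1 : e one = 1 := by
        have := he one
        simp only [one] at this
        exact_mod_cast this.symm
      have hker : ∀ ψ : IrrCharacter G, m ψ ≠ 0 → (ψ : G → ℂ) y = (e ψ : ℂ) := by
        intro ψ hψ
        by_cases h1 : ψ = one
        · rw [h1, he1, Nat.cast_one]
        have hlt : e ψ < d := by
          have h2 := Finset.sum_le_sum_of_subset (f := fun ψ => m ψ * e ψ)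
            (Finset.subset_univ ({one, ψ} : Finset (IrrCharacter G)))
          rw [Finset.sum_pair (Ne.symm h1), hm1, he1, ← hsum] at h2
          have : e ψ ≤ m ψ * e ψ := Nat.le_mul_of_pos_left _ (Nat.pos_of_ne_zero hψ)
          omega
        exact ih (e ψ) hlt ψ (he ψ) y
          (derivedSeries_antitone G (show e ψ ≤ d - 1 by omega) hy)
      have hfy : f y = (d : ℂ) := by
        rw [hexp, hsum, Nat.cast_sum]
        refine Finset.sum_congr rfl fun ψ _ => ?_
        by_cases h : m ψ = 0
        · simp [h]
        · rw [hker ψ h, Nat.cast_mul]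
      have hsum2 : ∑ z : G, extendByZero H (fun _ => (1 : ℂ)) (z⁻¹ * y * z) = ∑ _z : G, (1 : ℂ) := by
        rw [hf, indFun, inv_mul_eq_iff_eq_mul₀ (by exact_mod_cast Nat.card_pos.ne')] at hfy
        rw [hfy, Finset.sum_const, Finset.card_univ, nsmul_eq_mul, mul_one, hdi,
          ← Nat.card_eq_fintype_card, ← H.card_mul_index, Nat.cast_mul]
      by_contra hx
      have hfilter : (Finset.univ.filter fun z : G => z⁻¹ * y * z ∈ H).card = Fintype.card G := by
        rw [Finset.sum_congr rfl (g := fun z : G => if z⁻¹ * y * z ∈ H then (1 : ℂ) else 0)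
          fun z _ => ?_] at hsum2
        · rw [Finset.sum_boole, Finset.sum_const, Finset.card_univ, nsmul_eq_mul, mul_one] at hsum2
          exact_mod_cast hsum2
        · split_ifs with h
          · exact extendByZero_mem H _ h
          · exact extendByZero_not_mem H _ h
      have : x ∈ Finset.univ.filter fun z : G => z⁻¹ * y * z ∈ H := by
        rw [Finset.eq_univ_of_card _ hfilter]; exact Finset.mem_univ x
      exact hx (Finset.mem_filter.mp this).2
    -- commutators of the core are killed
    have hDn : D.Normal := derivedSeries_normal G (d - 1)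
    have hDH : D ≤ H := fun y hy => by simpa using hcore y hy 1
    have hg' : g ∈ ⁅D, D⁆ := by
      have h : derivedSeries G d = ⁅D, D⁆ := by
        rw [hD, ← derivedSeries_succ, Nat.sub_add_cancel hd0]
      rwa [← h]
    have hgD : g ∈ D := Subgroup.commutator_le_left D D hg'
    let ι : D →* H := Subgroup.inclusion hDH
    have hkill : ∀ y (hy : y ∈ ⁅D, D⁆) (hyH : y ∈ H), lam ⟨y, hyH⟩ = 1 := by
      intro y hy hyH
      have hyD : y ∈ D := Subgroup.commutator_le_left D D hy
      have h1 : (⟨y, hyD⟩ : D) ∈ commutator D := by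
        have e : (commutator D).map D.subtype = ⁅D, D⁆ := by
          rw [commutator_def, Subgroup.map_commutator, ← MonoidHom.range_eq_map, Subgroup.range_subtype]
        rw [← e] at hy
        obtain ⟨w, hw, hwe⟩ := hy
        have : w = ⟨y, hyD⟩ := Subtype.ext hwe
        exact this ▸ hw
      exact MonoidHom.mem_ker.mp (Abelianization.commutator_subset_ker (lam.comp ι) h1)
    rw [hχ, indFun, Finset.sum_congr rfl (g := fun _ => (1 : ℂ)) fun x _ => ?_, Finset.sum_const,
      Finset.card_univ, nsmul_eq_mul, mul_one, hdi, ← Nat.card_eq_fintype_card, ← H.card_mul_index,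
      Nat.cast_mul, ← mul_assoc, inv_mul_cancel₀ (by exact_mod_cast Nat.card_pos.ne'), one_mul]
    have hy : x⁻¹ * g * x ∈ ⁅D, D⁆ := by
      simpa using (Subgroup.commutator_normal D D).conj_mem g hg' x⁻¹
    rw [extendByZero_mem H _ (hDH (Subgroup.commutator_le_left D D hy)), hkill _ hy, Units.val_one]

theorem isSolvable_of_monomial
    (hM : ∀ χ : G → ℂ, IsIrrCharacter G χ →
      ∃ (H : Subgroup G) (lam : H →* ℂˣ), χ = indFun H (fun h => (lam h : ℂ))) :
    Group.IsSolvable G := by
  refine ⟨⟨Nat.card G, eq_bot_iff.mpr fun g hg => ?_⟩⟩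
  rw [Subgroup.mem_bot, ← isConj_one_left]
  refine (isConj_of_irr_agree fun χ => ?_).symm
  obtain ⟨d, -, hd⟩ := isIrrCharacter_degree χ.2
  have hle : d ≤ Nat.card G := Nat.le_of_dvd Nat.card_pos (degree_dvd_card χ hd)
  rw [derivedSeries_char_eq_degree hM d χ hd g (derivedSeries_antitone G hle hg), hd]

end CfsgLib.Char
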