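import Cfsg.Agent.Lib.Char.ThreeDegreesQuotient
import Cfsg.Agent.Lib.Char.RelativeMGroup
import Cfsg.Agent.Lib.Char.Taketa
import Cfsg.Agent.Lib.Char.Gallagher

/-!
# Groups with at most three character degrees have derived length at most three
-/

set_option autoImplicit false
set_option linter.unusedSectionVars false

namespace CfsgLib.Char.ThreeDegrees

open Cfsg CfsgLib
open scoped ComplexConjugate commutatorElement

universe u

variable {G : Type u} [Group G]

/-- If all constituents of smaller degree kill `D`, a monomial character kills `⁅D, D⁆`. -/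
theorem commutator_ker_of_monomial [Fintype G] (χ : IrrCharacter G) (U : Subgroup G) (lam : U →* ℂˣ)
    (hU : (χ : G → ℂ) = indFun U (fun x => (lam x : ℂ))) (D : Subgroup G) [hDn : D.Normal]
    (hD : ∀ ψ : IrrCharacter G, charDegree (ψ : G → ℂ) = 1 ∨
      charDegree (ψ : G → ℂ) < charDegree (χ : G → ℂ) → ∀ g ∈ D, (ψ : G → ℂ) g = (ψ : G → ℂ) 1) :
    ∀ y ∈ ⁅D, D⁆, (χ : G → ℂ) y = (χ : G → ℂ) 1 := by
  classical
  have := Fintype.ofFinite U
  have := Fintype.ofFinite (IrrCharacter G)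
  have hdU : (χ : G → ℂ) 1 = (U.index : ℂ) := by
    rw [hU, indFun_one, map_one, Units.val_one, mul_one]
  have hdeg : charDegree (χ : G → ℂ) = U.index := charDegree_of_eq hdU
  have hle : ∀ g ∈ D, ∀ x : G, x⁻¹ * g * x ∈ U := by
    intro g hg x
    set f := indFun U (fun _ => (1 : ℂ)) with hf
    have hfc : IsCharacter G f := isCharacter_indFun U (isCharacter_of_isIrr isIrrCharacter_one)
    obtain ⟨k, hk, hexp⟩ := nonneg_of_expand hfc
    let one : IrrCharacter G := ⟨fun _ => 1, isIrrCharacter_one⟩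
    have hone : charDegree (one : G → ℂ) = 1 := by simp [one, charDegree]
    have hk1 : k one = 1 := by
      have h : classInner f (one : G → ℂ) = 1 := by
        rw [hf, classInner_indFun U _ _ (isClassFunction_irr one)]
        exact classInner_irr_self (⟨fun _ => 1, isIrrCharacter_one⟩ : IrrCharacter U)
      exact_mod_cast (hk one).symm.trans h
    have hsum : U.index = ∑ ψ : IrrCharacter G, k ψ * charDegree (ψ : G → ℂ) := by
      have h := hexp 1
      rw [show f 1 = (U.index : ℂ) by rw [hf, indFun_one, mul_one]] at h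
      simp only [Block.ItoMichler.one_eq_cast] at h
      exact_mod_cast h
    have hker : ∀ ψ : IrrCharacter G, k ψ ≠ 0 → (ψ : G → ℂ) g = (ψ : G → ℂ) 1 := by
      intro ψ hψ
      refine hD ψ ?_ g hg
      by_cases h1 : ψ = one
      · exact Or.inl (h1 ▸ hone)
      refine Or.inr ?_
      have h2 := Finset.sum_le_sum_of_subset (f := fun ψ => k ψ * charDegree (ψ : G → ℂ))
        (Finset.subset_univ ({one, ψ} : Finset (IrrCharacter G)))
      rw [Finset.sum_pair (Ne.symm h1), hk1, hone, ← hsum] at h2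
      have : charDegree (ψ : G → ℂ) ≤ k ψ * charDegree (ψ : G → ℂ) :=
        Nat.le_mul_of_pos_left _ (Nat.pos_of_ne_zero hψ)
      omega
    have hfg : f g = (U.index : ℂ) := by
      rw [hexp g, show (U.index : ℂ) = f 1 by rw [hf, indFun_one, mul_one], hexp 1]
      refine Finset.sum_congr rfl fun ψ _ => ?_
      by_cases h0 : k ψ = 0
      · simp [h0]
      · rw [hker ψ h0]
    rw [hf, indFun, inv_mul_eq_iff_eq_mul₀ (Nat.cast_ne_zero.2 Nat.card_pos.ne'), ← Nat.cast_mul,
      U.card_mul_index] at hfg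
    by_contra hx
    have h3 : (Finset.univ.filter fun z : G => z⁻¹ * g * z ∈ U).card = Fintype.card G := by
      rw [Finset.sum_congr rfl (g := fun z : G => if z⁻¹ * g * z ∈ U then (1 : ℂ) else 0)
        fun z _ => ?_, Finset.sum_boole, Nat.card_eq_fintype_card] at hfg
      · exact_mod_cast hfg
      · split_ifs with h
        · exact extendByZero_mem U _ h
        · exact extendByZero_not_mem U _ h
    have : x ∈ Finset.univ.filter fun z : G => z⁻¹ * g * z ∈ U := by
      rw [Finset.eq_univ_of_card _ h3]; exact Finset.mem_univ x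
    exact hx (Finset.mem_filter.1 this).2
  have hDU : D ≤ U := fun g hg => by simpa using hle g hg 1
  intro y hy
  rw [hdU, hU, indFun, Finset.sum_congr rfl (g := fun _ => (1 : ℂ)) fun x _ => ?_, Finset.sum_const,
    Finset.card_univ, nsmul_eq_mul, mul_one, ← Nat.card_eq_fintype_card, ← U.card_mul_index,
    Nat.cast_mul, ← mul_assoc, inv_mul_cancel₀ (Nat.cast_ne_zero.2 Nat.card_pos.ne'), one_mul]
  have hy' : x⁻¹ * y * x ∈ ⁅D, D⁆ := by
    simpa using (Subgroup.commutator_normal D D).conj_mem y hy x⁻¹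
  rw [extendByZero_mem U _ (hDU (Subgroup.commutator_le_left _ _ hy'))]
  have hz : ⁅D, D⁆ ≤ ((lam.ker).map U.subtype) := by
    rw [Subgroup.commutator_le]
    intro a ha b hb
    refine ⟨⁅(⟨a, hDU ha⟩ : U), (⟨b, hDU hb⟩ : U)⁆, ?_, by simp [commutatorElement_def]⟩
    rw [SetLike.mem_coe, MonoidHom.mem_ker, map_commutatorElement, commutatorElement_eq_one_iff_mul_comm]
    exact mul_comm _ _
  obtain ⟨w, hw, e⟩ := hz hy'
  rw [show (⟨x⁻¹ * y * x, _⟩ : U) = w from Subtype.ext e.symm, MonoidHom.mem_ker.1 hw, Units.val_one]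

/-- Taketa's argument for three degrees. -/
theorem derived_three_of_monomial [Finite G] {m n : ℕ} (h : Deg3 m n G)
    (hM : ∀ [Fintype G] (χ : IrrCharacter G),
      ∃ (U : Subgroup G) (lam : U →* ℂˣ), (χ : G → ℂ) = indFun U (fun x => (lam x : ℂ))) :
    derivedSeries G 3 = ⊥ := by
  classical
  wlog hmn : m ≤ n generalizing m n
  · exact this h.symm (le_of_not_ge hmn)
  have := Fintype.ofFinite G
  have := Fintype.ofFinite (IrrCharacter G)
  have h1 : ∀ χ : IrrCharacter G, charDegree (χ : G → ℂ) = 1 →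
      ∀ g ∈ derivedSeries G 1, (χ : G → ℂ) g = (χ : G → ℂ) 1 := by
    intro χ hχ g hg
    have e : (χ : G → ℂ) 1 = 1 := by rw [Block.ItoMichler.one_eq_cast, hχ, Nat.cast_one]
    obtain ⟨f, hf⟩ := exists_hom_of_linear (isCharacter_irr χ) e
    rw [derivedSeries_one] at hg
    rw [hf]
    simp [MonoidHom.mem_ker.1 (Abelianization.commutator_subset_ker f hg)]
  have hs : ∀ (i : ℕ) (χ : IrrCharacter G), (∀ ψ : IrrCharacter G, charDegree (ψ : G → ℂ) = 1 ∨
      charDegree (ψ : G → ℂ) < charDegree (χ : G → ℂ) →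
        ∀ g ∈ derivedSeries G i, (ψ : G → ℂ) g = (ψ : G → ℂ) 1) →
      ∀ g ∈ derivedSeries G (i + 1), (χ : G → ℂ) g = (χ : G → ℂ) 1 := by
    intro i χ hi g hg
    obtain ⟨U, lam, hU⟩ := hM χ
    exact commutator_ker_of_monomial χ U lam hU (derivedSeries G i) hi g hg
  have hanti := derivedSeries_antitone (G := G)
  have h2 : ∀ χ : IrrCharacter G, charDegree (χ : G → ℂ) = 1 ∨ charDegree (χ : G → ℂ) ≤ m →
      ∀ g ∈ derivedSeries G 2, (χ : G → ℂ) g = (χ : G → ℂ) 1 := by
    intro χ hχ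
    by_cases e : charDegree (χ : G → ℂ) = 1
    · exact fun g hg => h1 χ e g (hanti (by norm_num) hg)
    refine hs 1 χ fun ψ hψ => h1 ψ ?_
    rcases hψ with hψ | hψ
    · exact hψ
    rcases h ψ with e' | e' | e' <;> rcases hχ with e'' | e'' <;> omega
  have h3 : ∀ χ : IrrCharacter G, ∀ g ∈ derivedSeries G 3, (χ : G → ℂ) g = (χ : G → ℂ) 1 := by
    intro χ
    by_cases e : charDegree (χ : G → ℂ) = 1 ∨ charDegree (χ : G → ℂ) ≤ m
    · exact fun g hg => h2 χ e g (hanti (by norm_num) hg)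
    refine hs 2 χ fun ψ hψ => h2 ψ ?_
    rcases hψ with hψ | hψ
    · exact Or.inl hψ
    rcases h χ with e' | e' | e' <;> rcases h ψ with e'' | e'' | e'' <;> omega
  refine (Subgroup.eq_bot_iff_forall _).2 fun g hg => ?_
  by_contra hne
  have e1 := sum_irr_mul_conj (G := G) g 1
  rw [if_neg (fun e => hne (isConj_one_left.1 e))] at e1
  have e2 := sum_irr_mul_conj (G := G) 1 1
  rw [if_pos (IsConj.refl _)] at e2
  rw [Finset.sum_congr rfl fun χ _ => by rw [h3 χ g hg], e2] at e1
  exact Nat.cast_ne_zero.2 Nat.card_pos.ne' e1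

/-- An abelian normal subgroup with a quotient of prime power order forces monomial characters. -/
theorem monomial_of_abelian_pgroup_quotient [Fintype G] {q k : ℕ} (hq : q.Prime) (B : Subgroup G)
    [B.Normal] (hB : ∀ a ∈ B, ∀ b ∈ B, a * b = b * a) (hk : B.index = q ^ k) (χ : IrrCharacter G) :
    ∃ (U : Subgroup G) (lam : U →* ℂˣ), (χ : G → ℂ) = indFun U (fun x => (lam x : ℂ)) := by
  classical
  have := Fact.mk hq
  have hP : IsPGroup q (G ⧸ B) := IsPGroup.of_card (n := k) (by rw [← Subgroup.index_eq_card, hk])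
  haveI := hP.isNilpotent
  obtain ⟨H, hBH, ψ, hψ, hind, hres⟩ := RelativeMGroup.exists_induced_from_irr G B inferInstance
    (fun H K L hBL hLK hKH hK hL hM hsq => by
      have hL' : (L.subgroupOf H).Normal := ⟨fun a ha g => Subgroup.mem_subgroupOf.2 (by
        simpa using hL g g.2 a (Subgroup.mem_subgroupOf.1 ha))⟩
      have hK' : (K.subgroupOf H).Normal := ⟨fun a ha g => Subgroup.mem_subgroupOf.2 (by
        simpa using hK g g.2 a (Subgroup.mem_subgroupOf.1 ha))⟩
      set π := QuotientGroup.mk' (L.subgroupOf H) with hπ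
      have hQp : IsPGroup q (H ⧸ L.subgroupOf H) := by
        obtain ⟨j, -, hj⟩ := (Nat.dvd_prime_pow hq).1 (hk ▸ Subgroup.index_dvd_of_le hBL)
        obtain ⟨i, -, hi⟩ := (Nat.dvd_prime_pow hq).1
          (hj ▸ Dvd.intro _ (Subgroup.relIndex_mul_index (hLK.le.trans hKH)))
        exact IsPGroup.of_card (n := i) (by rw [← Subgroup.index_eq_card]; exact hi)
      haveI := hQp.isNilpotent
      set Kb := (K.subgroupOf H).map π with hKb
      haveI : Kb.Normal := hK'.map π (QuotientGroup.mk'_surjective _)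
      have hKbne : Kb ≠ ⊥ := by
        intro e
        rw [hKb, Subgroup.map_eq_bot_iff, hπ, QuotientGroup.ker_mk'] at e
        exact hLK.not_ge fun x hx => Subgroup.mem_subgroupOf.1 (e (show (⟨x, hKH hx⟩ : H) ∈ _ from hx))
      obtain ⟨w, hw⟩ := (Subgroup.ne_bot_iff_exists_ne_one).1
        (Coprime.nilpotent_inf_center_ne_bot Kb hKbne)
      set z := (w : H ⧸ L.subgroupOf H) ^ (orderOf (w : H ⧸ L.subgroupOf H) / q) with hz
      have hz1 : orderOf z = q := orderOf_pow_orderOf_div (orderOf_pos _).ne' (by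
        obtain ⟨i, hi⟩ := IsPGroup.iff_orderOf.1 hQp (w : H ⧸ L.subgroupOf H)
        rcases Nat.eq_zero_or_pos i with rfl | hi0
        · exact absurd (Subtype.ext (orderOf_eq_one_iff.1 (by simpa using hi))) hw
        · exact hi ▸ dvd_pow_self q hi0.ne')
      have hzK : z ∈ Kb := pow_mem w.2.1 _
      have hzC : z ∈ Subgroup.center (H ⧸ L.subgroupOf H) := pow_mem w.2.2 _
      set M := ((Subgroup.zpowers z).comap π).map H.subtype with hMdef
      have hker : L.subgroupOf H ≤ (Subgroup.zpowers z).comap π := fun x hx => by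
        rw [Subgroup.mem_comap, hπ, QuotientGroup.mk'_apply, (QuotientGroup.eq_one_iff x).2 hx]
        exact one_mem _
      have hKcomap : Kb.comap π = K.subgroupOf H := by
        rw [hKb, Subgroup.comap_map_eq, hπ, QuotientGroup.ker_mk', sup_eq_left]
        exact fun x hx => Subgroup.mem_subgroupOf.2 (hLK.le (Subgroup.mem_subgroupOf.1 hx))
      have hzn : (Subgroup.zpowers z).Normal := ⟨fun a ha g => by
        rw [Subgroup.mem_center_iff.1 ((Subgroup.zpowers_le.2 hzC) ha) g, mul_inv_cancel_right]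
        exact ha⟩
      have hLM : L ≤ M := fun x hx =>
        ⟨⟨x, hKH (hLK.le hx)⟩, hker (Subgroup.mem_subgroupOf.2 hx), rfl⟩
      have hMK : M ≤ K := by
        rintro _ ⟨x, hx, rfl⟩
        have : x ∈ Kb.comap π := Subgroup.comap_mono (Subgroup.zpowers_le.2 hzK) hx
        rw [hKcomap] at this
        exact Subgroup.mem_subgroupOf.1 this
      rcases hM M hLM hMK (fun g hg a ha => by
          obtain ⟨x, hx, rfl⟩ := ha
          exact ⟨(⟨g, hg⟩ : H) * x * (⟨g, hg⟩ : H)⁻¹, (hzn.comap π).conj_mem x hx _, rfl⟩) with e | e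
      · obtain ⟨x, hx⟩ := QuotientGroup.mk'_surjective (L.subgroupOf H) z
        have hxM : (x : G) ∈ M := ⟨x, by rw [SetLike.mem_coe, Subgroup.mem_comap, hπ, hx]; exact Subgroup.mem_zpowers z, rfl⟩
        rw [e] at hxM
        have : z = 1 := by
          rw [← hx]
          exact (QuotientGroup.eq_one_iff x).2 (Subgroup.mem_subgroupOf.2 hxM)
        rw [this, orderOf_one] at hz1
        exact hq.one_lt.ne hz1
      · have hzKb : Subgroup.zpowers z = Kb := by
          refine le_antisymm (Subgroup.zpowers_le.2 hzK) ?_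
          rintro _ ⟨x, hx, rfl⟩
          have hxM : (x : G) ∈ M := e.symm ▸ Subgroup.mem_subgroupOf.1 hx
          obtain ⟨x', hx', hxx⟩ := hxM
          rw [← Subtype.ext hxx]
          exact hx'
        have h1 : L.relIndex K = q := by
          have h2 : L.relIndex K = (L.subgroupOf H).relIndex (K.subgroupOf H) :=
            (Subgroup.relIndex_subgroupOf hKH).symm
          rw [h2, ← QuotientGroup.ker_mk' (L.subgroupOf H), Subgroup.relIndex_ker, ← hπ, ← hKb, ← hzKb,
            Nat.card_zpowers, hz1]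
        rw [h1] at hsq
        obtain ⟨r, hr⟩ := hsq
        exact (hq.eq_one_or_self_of_dvd r ⟨r, hr⟩).elim (fun e' => hq.one_lt.ne' (by rw [hr, e', mul_one]))
          fun e' => absurd hr (by rw [e']; nlinarith [hq.two_le])) (χ : G → ℂ) χ.2
  have := Fintype.ofFinite H
  have := Fintype.ofFinite B
  have h1 : (ψ : H → ℂ) 1 = 1 := by
    obtain ⟨d, ρ, hρ, hρeq⟩ := hres
    have := hρ
    have hd : Module.finrank ℂ (Fin d → ℂ) = 1 := finrank_eq_one_of_comm ρ fun a b => by
      rw [← map_mul, ← map_mul]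
      exact congrArg ρ (Subtype.ext (hB a a.2 b b.2))
    have h := congrFun hρeq 1
    rw [Representation.char_one, hd, Nat.cast_one] at h
    exact h.symm
  obtain ⟨lam, hlam⟩ := exists_hom_of_linear (isCharacter_of_isIrr hψ) h1
  exact ⟨H, lam, by rw [← hind, hlam]⟩

/-- The case of an abelian normal complement. -/
theorem derived_three_of_abelian_complement [Finite G] {m n q k : ℕ} (h : Deg3 m n G) (hq : q.Prime)
    (B : Subgroup G) [B.Normal] (hB : ∀ a ∈ B, ∀ b ∈ B, a * b = b * a) (hk : B.index = q ^ k) :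
    derivedSeries G 3 = ⊥ :=
  derived_three_of_monomial h fun χ => monomial_of_abelian_pgroup_quotient hq B hB hk χ

/-- A normal subgroup over the commutator subgroup with abelian derived subgroup. -/
theorem derived_three_of_twoDeg [Finite G] (N : Subgroup G) [N.Normal]
    (hG : derivedSeries G 2 ≤ ⁅N, N⁆) {c : ℕ} (h : TwoDegrees.TwoDeg c N) :
    derivedSeries G 3 = ⊥ := by
  classical
  have hab : ∀ a ∈ commutator N, ∀ b ∈ commutator N, a * b = b * a := by
    by_cases hna : ∃ a b : N, a * b ≠ b * a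
    · exact (TwoDegrees.structure_theorem h hna).2
    · push Not at hna
      exact fun a _ b _ => hna a b
  rw [derivedSeries_succ, eq_bot_iff, Subgroup.commutator_le]
  intro a ha b hb
  have e : ⁅N, N⁆ = (commutator N).map N.subtype := by
    rw [commutator_def, Subgroup.map_commutator, ← MonoidHom.range_eq_map, Subgroup.range_subtype]
  obtain ⟨a', ha', rfl⟩ := e ▸ hG ha
  obtain ⟨b', hb', rfl⟩ := e ▸ hG hb
  rw [Subgroup.mem_bot, commutatorElement_eq_one_iff_mul_comm]
  exact congrArg Subtype.val (hab a' ha' b' hb')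

theorem deg_pos [Finite G] (χ : IrrCharacter G) : 0 < charDegree (χ : G → ℂ) := by
  refine Nat.pos_of_ne_zero fun e => irr_one_ne_zero χ ?_
  rw [Block.ItoMichler.one_eq_cast, e, Nat.cast_zero]

/-- The case of a nonabelian quotient of prime power order by a normal complement. -/
theorem derived_three_of_nonabelian_pQuotient [Finite G] {m n q k : ℕ} (h : Deg3 m n G) (hq : q.Prime)
    (B : Subgroup G) [B.Normal] (hBc : (Nat.card B).Coprime q) (hk : B.index = q ^ k)
    (hna : ¬ commutator G ≤ B) : derivedSeries G 3 = ⊥ := by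
  classical
  by_cases hBab : ∀ a ∈ B, ∀ b ∈ B, a * b = b * a
  · exact derived_three_of_abelian_complement h hq B hBab hk
  have := Fintype.ofFinite G
  obtain ⟨χ, hχ⟩ : ∃ θ : IrrCharacter (G ⧸ B), (θ : G ⧸ B → ℂ) 1 ≠ 1 := by
    by_contra hall
    push Not at hall
    refine hna ?_
    have := Fintype.ofFinite (G ⧸ B)
    rw [commutator_def, Subgroup.commutator_le]
    intro a _ b _
    rw [← QuotientGroup.eq_one_iff,
      show ((⁅a, b⁆ : G) : G ⧸ B) = ⁅(a : G ⧸ B), (b : G ⧸ B)⁆ from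
        map_commutatorElement (QuotientGroup.mk' B) a b,
      commutatorElement_eq_one_iff_mul_comm]
    exact comm_of_degree_one hall _ _
  have hd1 : charDegree (χ : G ⧸ B → ℂ) ≠ 1 := fun e => hχ (by
    rw [Block.ItoMichler.one_eq_cast, e, Nat.cast_one])
  obtain ⟨a, -, ha⟩ := (Nat.dvd_prime_pow hq).1 (show charDegree (χ : G ⧸ B → ℂ) ∣ q ^ k by
    rw [← hk, Subgroup.index_eq_card]
    exact degree_dvd_card χ (Block.ItoMichler.one_eq_cast χ))
  wlog hm : m = q ^ a generalizing m n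
  · refine this h.symm ?_
    rcases (h.quotient B χ).resolve_left hd1 with e | e
    · exact absurd (e.symm.trans ha) hm
    · exact e.symm.trans ha
  have hm1 : ordCompl[q] m = 1 := by rw [hm]; exact Nat.ordCompl_self_pow hq
  have hB3 := h.pComplement hq B hBc hk
  rw [hm1] at hB3
  set c := ordCompl[q] n with hc
  have htwo : TwoDegrees.TwoDeg c B := fun θ => by
    rcases hB3 θ with e | e | e
    exacts [Or.inl e, Or.inl e, Or.inr e]
  have hc1 : c ≠ 1 := by
    intro e
    refine hBab fun x hx y hy => congrArg Subtype.val (?_ : (⟨x, hx⟩ : B) * ⟨y, hy⟩ = ⟨y, hy⟩ * ⟨x, hx⟩)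
    have := Fintype.ofFinite B
    exact comm_of_degree_one (fun θ => by
      rw [Block.ItoMichler.one_eq_cast]
      rcases htwo θ with e' | e' <;> simp [e', e]) _ _
  set D := ⁅B, B⁆ with hD
  -- the degrees modulo `D` are powers of `q`
  have hGD : TwoDegrees.TwoDeg m (G ⧸ D) := by
    intro θ
    rcases h.quotient D θ with e | e | e
    · exact Or.inl e
    · exact Or.inr e
    exfalso
    set Bb := B.map (QuotientGroup.mk' D)
    haveI : Bb.Normal := (inferInstance : B.Normal).map _ (QuotientGroup.mk'_surjective D)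
    have hBb : ∀ x ∈ Bb, ∀ y ∈ Bb, x * y = y * x := by
      rintro _ ⟨x, hx, rfl⟩ _ ⟨y, hy, rfl⟩
      rw [← commutatorElement_eq_one_iff_mul_comm, ← map_commutatorElement]
      exact (QuotientGroup.eq_one_iff _).2 (Subgroup.commutator_mem_commutator hx hy)
    have h1 := degree_dvd_index_abelian (G ⧸ D) Bb hBb _ θ.2 n
      (by rw [Block.ItoMichler.one_eq_cast, e])
    have h2 : Bb.index ∣ q ^ k := hk ▸ Subgroup.index_map_dvd _ (QuotientGroup.mk'_surjective D)
    obtain ⟨j, -, hj⟩ := (Nat.dvd_prime_pow hq).1 (h1.trans h2)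
    exact hc1 (by rw [hc, hj]; exact Nat.ordCompl_self_pow hq)
  have hG2 : derivedSeries G 2 ≤ ⁅B, B⁆ := by
    have hcomm : ∀ x ∈ commutator (G ⧸ D), ∀ y ∈ commutator (G ⧸ D), x * y = y * x := by
      by_cases hna' : ∃ x y : G ⧸ D, x * y ≠ y * x
      · exact (TwoDegrees.structure_theorem hGD hna').2
      · push Not at hna'
        exact fun x _ y _ => hna' x y
    rw [derivedSeries_succ, derivedSeries_one, Subgroup.commutator_le]
    intro x hx y hy
    rw [← QuotientGroup.eq_one_iff (N := D),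
      show ((⁅x, y⁆ : G) : G ⧸ D) = ⁅(x : G ⧸ D), (y : G ⧸ D)⁆ from
        map_commutatorElement (QuotientGroup.mk' D) x y,
      commutatorElement_eq_one_iff_mul_comm]
    have hmap : (commutator G).map (QuotientGroup.mk' D) ≤ commutator (G ⧸ D) := by
      rw [commutator_def, Subgroup.map_commutator]
      exact Subgroup.commutator_mono le_top le_top
    exact hcomm _ (hmap ⟨x, hx, rfl⟩) _ (hmap ⟨y, hy, rfl⟩)
  exact derived_three_of_twoDeg B hG2 htwo

/-- A product with a character of a quotient, for a character irreducible on the kernel. -/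
theorem exists_product_degree [Fintype G] (K : Subgroup G) [K.Normal] [Fintype K] (χ : IrrCharacter G)
    (hχ : IsIrrCharacter K (fun x : K => (χ : G → ℂ) x)) (β : IrrCharacter (G ⧸ K)) :
    ∃ ξ : IrrCharacter G, charDegree (ξ : G → ℂ) =
      charDegree (χ : G → ℂ) * charDegree (β : G ⧸ K → ℂ) := by
  have hβ' : IsIrrCharacter G (fun g : G => (β : G ⧸ K → ℂ) g) :=
    isIrrCharacter_comp_surjective β.2 (QuotientGroup.mk' K) (QuotientGroup.mk'_surjective K)
  let b : IrrCharacter G := ⟨_, hβ'⟩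
  have hconst : ∀ (x : K) (g : G), (b : G → ℂ) ((x : G) * g) = (b : G → ℂ) g := fun x g => by
    show (β : G ⧸ K → ℂ) (((x : G) * g : G) : G ⧸ K) = _
    rw [QuotientGroup.mk_mul, (QuotientGroup.eq_one_iff _).2 x.2, one_mul]
  set θ : G → ℂ := (χ : G → ℂ) * (b : G → ℂ) with hθ
  have hnorm : classInner θ θ = 1 := by
    have h1 : classInner θ θ = (Nat.card G : ℂ)⁻¹ *
        ∑ g : G, ((fun x => (χ : G → ℂ) x * conj ((χ : G → ℂ) x)) *
          (fun x => (b : G → ℂ) x * conj ((b : G → ℂ) x))) g := by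
      rw [classInner]
      congr 1
      refine Finset.sum_congr rfl fun g _ => ?_
      simp only [hθ, Pi.mul_apply, map_mul]
      ring
    rw [h1, ← sum_cosetAvg K, cosetAvg_mul_const K _ (fun n g => by simp only [hconst]),
      cosetAvg_self_eq_one K χ hχ]
    simpa [classInner] using classInner_irr_self b
  refine ⟨⟨θ, isIrr_of_isCharacter_norm_one (isCharacter_mul (isCharacter_irr χ) (isCharacter_irr b)) hnorm⟩,
    charDegree_of_eq ?_⟩
  show (χ : G → ℂ) 1 * (β : G ⧸ K → ℂ) ((1 : G) : G ⧸ K) = _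
  rw [QuotientGroup.mk_one, Block.ItoMichler.one_eq_cast, Block.ItoMichler.one_eq_cast, Nat.cast_mul]

/-- A nonabelian quotient of order a power of `r` makes `r` divide both degrees. -/
theorem dvd_of_pQuotient [Finite G] {m n r : ℕ} (h : Deg3 m n G) (hr : r.Prime) (K : Subgroup G)
    [K.Normal] (hP : IsPGroup r (G ⧸ K)) (hna : ¬ commutator G ≤ K) (χ : IrrCharacter G)
    (hχ : charDegree (χ : G → ℂ) ≠ 1) : r ∣ charDegree (χ : G → ℂ) := by
  classical
  have := Fintype.ofFinite G
  have := Fintype.ofFinite K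
  have := Fintype.ofFinite (G ⧸ K)
  have := Fact.mk hr
  by_contra hrd
  obtain ⟨β, hβ⟩ : ∃ β : IrrCharacter (G ⧸ K), (β : G ⧸ K → ℂ) 1 ≠ 1 := by
    by_contra hall
    push Not at hall
    refine hna ?_
    rw [commutator_def, Subgroup.commutator_le]
    intro a _ b _
    rw [← QuotientGroup.eq_one_iff,
      show ((⁅a, b⁆ : G) : G ⧸ K) = ⁅(a : G ⧸ K), (b : G ⧸ K)⁆ from
        map_commutatorElement (QuotientGroup.mk' K) a b,
      commutatorElement_eq_one_iff_mul_comm]
    exact comm_of_degree_one hall _ _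
  obtain ⟨k, hk⟩ := IsPGroup.iff_card.1 hP
  obtain ⟨θ, hθ⟩ := exists_irr_inner_ne_zero (isCharacter_comp (isCharacter_irr χ) K.subtype)
    (fun e => irr_one_ne_zero χ (by simpa using congrFun e 1))
  obtain ⟨⟨a, ha⟩, h2⟩ := ratio_dvd_index K χ.2 θ.2 hθ (Block.ItoMichler.one_eq_cast χ)
    (Block.ItoMichler.one_eq_cast θ)
  rw [ha, Nat.mul_div_cancel_left _ (deg_pos θ), Subgroup.index_eq_card, hk] at h2
  have ha1 : a = 1 := Nat.eq_one_of_dvd_coprimes
    (Nat.Coprime.pow_right k ((hr.coprime_iff_not_dvd.2 hrd).symm)) (Dvd.intro_left _ ha.symm) h2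
  have hirr : IsIrrCharacter K (fun x : K => (χ : G → ℂ) x) := by
    have hd := degree_le_of_constituent (isCharacter_comp (isCharacter_irr χ) K.subtype) θ hθ
      (a := charDegree (χ : G → ℂ)) (b := charDegree (θ : K → ℂ))
      (by simp [Block.ItoMichler.one_eq_cast]) (Block.ItoMichler.one_eq_cast θ)
    have e := hd.2 (by rw [ha, ha1, mul_one])
    have e' : (fun x : K => (χ : G → ℂ) x) = (θ : K → ℂ) := by
      funext x
      exact congrFun e x
    rw [e']
    exact θ.2
  obtain ⟨ξ, hξ⟩ := exists_product_degree K χ hirr β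
  have hβ1 : charDegree (β : G ⧸ K → ℂ) ≠ 1 := fun e => hβ (by
    rw [Block.ItoMichler.one_eq_cast, e, Nat.cast_one])
  obtain ⟨j, -, hj⟩ := (Nat.dvd_prime_pow hr).1 (show charDegree (β : G ⧸ K → ℂ) ∣ r ^ k by
    rw [← hk]
    exact degree_dvd_card β (Block.ItoMichler.one_eq_cast β))
  have hj0 : j ≠ 0 := fun e => hβ1 (by rw [hj, e, pow_zero])
  have hrβ : r ∣ charDegree (β : G ⧸ K → ℂ) := hj ▸ dvd_pow_self r hj0
  have hχ0 := deg_pos χ
  have hβ0 := deg_pos β
  have hβ2 : 2 ≤ charDegree (β : G ⧸ K → ℂ) := by omega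
  have hχ2 : 2 ≤ charDegree (χ : G → ℂ) := by omega
  have hg1 : charDegree (χ : G → ℂ) < charDegree (χ : G → ℂ) * charDegree (β : G ⧸ K → ℂ) :=
    lt_mul_of_one_lt_right hχ0 hβ2
  have hg2 : charDegree (β : G ⧸ K → ℂ) < charDegree (χ : G → ℂ) * charDegree (β : G ⧸ K → ℂ) :=
    lt_mul_of_one_lt_left hβ0 hχ2
  have hne : charDegree (χ : G → ℂ) ≠ charDegree (β : G ⧸ K → ℂ) := fun e => hrd (e ▸ hrβ)
  rcases h ξ with e | e | e <;> rcases h χ with e' | e' | e' <;>
    rcases h.quotient K β with e'' | e'' | e'' <;> omega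

/-- The case where all the normal complements contain the commutator subgroup. -/
theorem derived_three_main [Finite G] [Group.IsSolvable G] {m n : ℕ} (h : Deg3 m n G)
    (hm : 1 < m) (hn : 1 < n) (hna : ∃ a b : G, a * b ≠ b * a)
    (hocc : ∃ χ ψ : IrrCharacter G, charDegree (χ : G → ℂ) = m ∧ charDegree (ψ : G → ℂ) = n)
    (hall : ∀ q : ℕ, q.Prime → q ∣ m → q ∣ n → ∃ B : Subgroup G, B.Normal ∧ (Nat.card B).Coprime q ∧
      (∃ k, B.index = q ^ k) ∧ commutator G ≤ B) : derivedSeries G 3 = ⊥ := by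
  classical
  have := Fintype.ofFinite G
  -- the complement for all common primes
  obtain ⟨N, hNG, hNc, hNi⟩ : ∃ N : Subgroup G, commutator G ≤ N ∧
      (∀ q : ℕ, q.Prime → q ∣ m → q ∣ n → ¬ q ∣ Nat.card N) ∧
      ∀ r : ℕ, r.Prime → r ∣ N.index → r ∣ m ∧ r ∣ n := by
    suffices hs : ∀ s : Finset ℕ, (∀ q ∈ s, q.Prime ∧ q ∣ m ∧ q ∣ n) → ∃ N : Subgroup G,
        commutator G ≤ N ∧ (∀ q ∈ s, ¬ q ∣ Nat.card N) ∧ ∀ r : ℕ, r.Prime → r ∣ N.index → r ∈ s by
      obtain ⟨N, h1, h2, h3⟩ := hs (m.primeFactors ∩ n.primeFactors) fun q hq => by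
        simp only [Finset.mem_inter, Nat.mem_primeFactors] at hq
        exact ⟨hq.1.1, hq.1.2.1, hq.2.2.1⟩
      refine ⟨N, h1, fun q hq hqm hqn => h2 q ?_, fun r hr hd => ?_⟩
      · simp only [Finset.mem_inter, Nat.mem_primeFactors]
        exact ⟨⟨hq, hqm, by omega⟩, hq, hqn, by omega⟩
      · have h4 := h3 r hr hd
        simp only [Finset.mem_inter, Nat.mem_primeFactors] at h4
        exact ⟨h4.1.2.1, h4.2.2.1⟩
    intro s
    induction s using Finset.induction_on with
    | empty => exact fun _ => ⟨⊤, le_top, by simp, fun r hr hd => absurd (by simpa using hd) hr.ne_one⟩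
    | @insert a s _ ih =>
      intro hs
      obtain ⟨N, hN1, hN2, hN3⟩ := ih fun p hp => hs p (Finset.mem_insert_of_mem hp)
      obtain ⟨ha, ham, han⟩ := hs a (Finset.mem_insert_self _ _)
      obtain ⟨B, hBn, hBc, ⟨k, hk⟩, hBG⟩ := hall a ha ham han
      haveI := hBn
      refine ⟨N ⊓ B, le_inf hN1 hBG, fun p hp hd => ?_, fun r hr hd => ?_⟩
      · rcases Finset.mem_insert.1 hp with rfl | hp
        · exact (ha.coprime_iff_not_dvd.1 hBc.symm) (hd.trans (Subgroup.card_dvd_of_le inf_le_right))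
        · exact hN2 p hp (hd.trans (Subgroup.card_dvd_of_le inf_le_left))
      · rw [← Subgroup.relIndex_mul_index (inf_le_left : N ⊓ B ≤ N), hr.dvd_mul,
          Subgroup.inf_relIndex_left] at hd
        rcases hd with hd | hd
        · have h2 := hd.trans (Subgroup.relIndex_dvd_index_of_normal B N)
          rw [hk] at h2
          rw [(Nat.prime_dvd_prime_iff_eq hr ha).1 (hr.dvd_of_dvd_pow h2)]
          exact Finset.mem_insert_self _ _
        · exact Finset.mem_insert_of_mem (hN3 r hr hd)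
  -- the minimal nonabelian quotient
  obtain ⟨K, ⟨hKn, hKG⟩, hKmax⟩ := Set.Finite.exists_maximal
    (s := {K : Subgroup G | K.Normal ∧ ¬ commutator G ≤ K}) (Set.toFinite _)
    ⟨⊥, inferInstance, fun hb => by
      obtain ⟨a, b, hab⟩ := hna
      refine hab (commutatorElement_eq_one_iff_mul_comm.1 (Subgroup.mem_bot.1 (hb ?_)))
      rw [commutator_def]
      exact Subgroup.commutator_mem_commutator (Subgroup.mem_top a) (Subgroup.mem_top b)⟩
  haveI := hKn
  set π := QuotientGroup.mk' K with hπ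
  have hsur : Function.Surjective π := QuotientGroup.mk'_surjective K
  have hmapc : (commutator G).map π = commutator (G ⧸ K) := by
    rw [commutator_def, commutator_def, Subgroup.map_commutator, Subgroup.map_top_of_surjective π hsur]
  haveI : Group.IsSolvable (G ⧸ K) := Group.isSolvable_of_surjective hsur
  have hQna : commutator (G ⧸ K) ≠ ⊥ := by
    rw [← hmapc, ne_eq, Subgroup.map_eq_bot_iff, hπ, QuotientGroup.ker_mk']
    exact hKG
  have hQu : ∀ S : Subgroup (G ⧸ K), S.Normal → S ≠ ⊥ → commutator (G ⧸ K) ≤ S := by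
    intro S hS hSne
    rw [← hmapc, Subgroup.map_le_iff_le_comap]
    by_contra hc
    have hle : K ≤ S.comap π := fun x hx => by
      rw [Subgroup.mem_comap, hπ, QuotientGroup.mk'_apply, (QuotientGroup.eq_one_iff x).2 hx]
      exact one_mem _
    have he : S.comap π = K := le_antisymm (hKmax ⟨hS.comap π, hc⟩ hle) hle
    refine hSne ((Subgroup.eq_bot_iff_forall _).2 fun z hz => ?_)
    obtain ⟨x, rfl⟩ := hsur z
    have hx : x ∈ S.comap π := hz
    rw [he] at hx
    exact (QuotientGroup.eq_one_iff x).2 hx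
  have hnp : ∀ p : ℕ, p.Prime → ¬ IsPGroup p (G ⧸ K) := by
    intro r hr hP
    have hdvd := dvd_of_pQuotient h hr K hP hKG
    by_cases hboth : r ∣ m ∧ r ∣ n
    · obtain ⟨B, hBn, hBc, -, hBG⟩ := hall r hr hboth.1 hboth.2
      refine hKG (hBG.trans fun x hx => ?_)
      haveI := Fact.mk hr
      obtain ⟨k, hk⟩ := IsPGroup.iff_orderOf.1 hP (x : G ⧸ K)
      refine (QuotientGroup.eq_one_iff x).1 (orderOf_eq_one_iff.1 (Nat.eq_one_of_dvd_coprimes
        (hBc.pow_right k) ?_ (hk ▸ dvd_rfl)))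
      exact (orderOf_map_dvd π x).trans (by rw [← Subgroup.orderOf_mk x hx]; exact orderOf_dvd_natCard _)
    -- otherwise some degree is prime to `r`
    obtain ⟨χ, ψ, hχ, hψ⟩ := hocc
    exact hboth ⟨hχ ▸ hdvd χ (by omega), hψ ▸ hdvd ψ (by omega)⟩
  obtain ⟨p, d, hp, hcard, hpidx, hDab, hfree, hidxle⟩ := frobenius_facts hQna hQu hnp
  have := Fact.mk hp
  -- the inverse image of the kernel
  set L : Subgroup G := (commutator (G ⧸ K)).comap π with hL
  haveI hLn : L.Normal := (inferInstance : (commutator (G ⧸ K)).Normal).comap π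
  have hKL : K ≤ L := fun x hx => by
    rw [hL, Subgroup.mem_comap, hπ, QuotientGroup.mk'_apply, (QuotientGroup.eq_one_iff x).2 hx]
    exact one_mem _
  have hGL : commutator G ≤ L := by
    rw [hL, ← Subgroup.map_le_iff_le_comap, hmapc]
  have hLidx : L.index = (commutator (G ⧸ K)).index :=
    (commutator (G ⧸ K)).index_comap_of_surjective hsur
  have hf1 : L.index ≠ 1 := by
    rw [hLidx]
    intro e
    have htop := Subgroup.index_eq_one.1 e
    have hQab : ∀ x y : G ⧸ K, x * y = y * x := fun x y =>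
      hDab x (htop ▸ Subgroup.mem_top x) y (htop ▸ Subgroup.mem_top y)
    refine hQna ?_
    rw [commutator_def, Subgroup.commutator_eq_bot_iff_le_centralizer]
    exact fun x _ => Subgroup.mem_centralizer_iff.2 fun y _ => hQab y x
  set K' := K.subgroupOf L with hK'
  have hK'idx : K'.index = p ^ d := by
    rw [← hcard]
    show K.relIndex L = _
    have h1 : π.ker.relIndex L = Nat.card (L.map π) := Subgroup.relIndex_ker (K := L) π
    rw [show π.ker = K from QuotientGroup.ker_mk' K] at h1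
    rw [h1, hL, Subgroup.map_comap_eq_self_of_surjective hsur]
  have hK'ab : ∀ a b : L, a * b * a⁻¹ * b⁻¹ ∈ K' := fun a b => by
    refine Subgroup.mem_subgroupOf.2 ((QuotientGroup.eq_one_iff _).1 ?_)
    have hc := hDab _ (a.2 : π (a : G) ∈ commutator (G ⧸ K)) _ (b.2 : π (b : G) ∈ commutator (G ⧸ K))
    rw [← commutatorElement_eq_one_iff_mul_comm, ← map_commutatorElement] at hc
    simpa [commutatorElement_def, hπ] using hc
  have hK'inv : ∀ (y : G) (k : L), k ∈ K' → (MulAut.conjNormal y : L ≃* L) k ∈ K' := by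
    intro y k hk
    rw [hK', Subgroup.mem_subgroupOf, MulAut.conjNormal_apply]
    exact hKn.conj_mem _ (Subgroup.mem_subgroupOf.1 hk) y
  have hfreeL : ∀ y : G, y ∉ L → ∀ f : L →* ℂˣ, (∀ k ∈ K', f k = 1) →
      f.comp (MulAut.conjNormal y : L ≃* L).toMonoidHom = f → f = 1 := by
    intro y hy f hfK hfy
    let D := commutator (G ⧸ K)
    let α : D → D := fun v => ⟨(v : G ⧸ K)⁻¹ * (π y * v * (π y)⁻¹),
      D.mul_mem (D.inv_mem v.2) ((inferInstance : D.Normal).conj_mem _ v.2 _)⟩
    have hα : Function.Injective α := by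
      intro v w e
      have e' : (v : G ⧸ K)⁻¹ * (π y * v * (π y)⁻¹) = (w : G ⧸ K)⁻¹ * (π y * w * (π y)⁻¹) :=
        congrArg Subtype.val e
      have h1 : π y * ((v : G ⧸ K) * (w : G ⧸ K)⁻¹) * (π y)⁻¹ = (v : G ⧸ K) * (w : G ⧸ K)⁻¹ := by
        calc π y * ((v : G ⧸ K) * (w : G ⧸ K)⁻¹) * (π y)⁻¹
            = v * ((v : G ⧸ K)⁻¹ * (π y * v * (π y)⁻¹)) * (π y * w * (π y)⁻¹)⁻¹ := by group
          _ = v * ((w : G ⧸ K)⁻¹ * (π y * w * (π y)⁻¹)) * (π y * w * (π y)⁻¹)⁻¹ := by rw [e']
          _ = (v : G ⧸ K) * (w : G ⧸ K)⁻¹ := by group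
      have h2 := hfree (π y) (fun hm' => hy hm') _ (D.mul_mem v.2 (D.inv_mem w.2))
        (mul_inv_eq_iff_eq_mul.1 h1).symm
      exact Subtype.ext (mul_inv_eq_one.1 h2)
    refine MonoidHom.ext fun x => ?_
    obtain ⟨v, hv⟩ := Finite.injective_iff_surjective.1 hα ⟨π (x : G), x.2⟩
    obtain ⟨v', hv'⟩ := hsur (v : G ⧸ K)
    have hv'L : v' ∈ L := by rw [hL, Subgroup.mem_comap, hv']; exact v.2
    set w : L := ⟨v', hv'L⟩
    have hxk : x * ((w⁻¹ * (MulAut.conjNormal y : L ≃* L) w))⁻¹ ∈ K' := by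
      refine Subgroup.mem_subgroupOf.2 ((QuotientGroup.eq_one_iff _).1 ?_)
      show π _ = 1
      rw [Subgroup.coe_mul, map_mul, Subgroup.coe_inv, map_inv, Subgroup.coe_mul, map_mul,
        Subgroup.coe_inv, map_inv, MulAut.conjNormal_apply, map_mul, map_mul, map_inv, mul_inv_eq_one]
      rw [show π (w : G) = (v : G ⧸ K) from hv']
      exact (congrArg Subtype.val hv).symm
    have h3 := hfK _ hxk
    have h4 := DFunLike.congr_fun hfy w
    rw [MonoidHom.comp_apply, MulEquiv.coe_toMonoidHom] at h4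
    rw [map_mul, map_inv, map_mul, map_inv, h4, inv_mul_cancel, inv_one, mul_one] at h3
    exact h3
  have hle : L.index ≤ K'.index := by rw [hK'idx, hLidx, ← hcard]; exact hidxle
  have hconstr := exists_degree_mul_index L K' hK'ab hfreeL hK'inv hle
  have hpf : ¬ p ∣ L.index := hLidx ▸ hpidx
  -- the index is one of the degrees
  have hfd : L.index = m ∨ L.index = n := by
    obtain ⟨χ, hχ⟩ := hconstr ⟨fun _ => 1, isIrrCharacter_one⟩ (by
      rw [show charDegree (fun _ : L => (1 : ℂ)) = 1 by simp [charDegree]]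
      exact Nat.coprime_one_left _)
    rw [show charDegree (fun _ : L => (1 : ℂ)) = 1 by simp [charDegree], mul_one] at hχ
    exact (hχ ▸ h χ).resolve_left hf1
  wlog hfm : L.index = m generalizing m n
  · exact this h.symm hn hm ⟨hocc.choose_spec.choose, hocc.choose, hocc.choose_spec.choose_spec.symm⟩ (fun q hq h1 h2 => hall q hq h2 h1)
      (fun q hq h1 h2 => hNc q hq h2 h1) (fun r hr hd => (hNi r hr hd).symm) hfd.symm
      (hfd.resolve_left hfm)
  haveI hNn : N.Normal := TwoDegrees.normal_of_commutator_le hNG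
  set L1 := L ⊓ N with hL1
  haveI : L1.Normal := inferInstance
  -- the nonlinear degrees of `L1`
  have key : ∀ θ : IrrCharacter L1, charDegree (θ : L1 → ℂ) ≠ 1 →
      charDegree (θ : L1 → ℂ) ∣ n ∧ ∀ r : ℕ, r.Prime → r ∣ n / charDegree (θ : L1 → ℂ) → r ∣ m ∧ r ∣ n := by
    intro θ hθ
    set L1' := L1.subgroupOf L with hL1'
    have := Fintype.ofFinite L
    have := Fintype.ofFinite L1
    have := Fintype.ofFinite L1'
    let e : L1' ≃* L1 := Subgroup.subgroupOfEquivOfLe (inf_le_left : L1 ≤ L)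
    let θ' : IrrCharacter L1' := ⟨fun x => (θ : L1 → ℂ) (e x),
      isIrrCharacter_comp_surjective θ.2 e.toMonoidHom e.surjective⟩
    have hθd : charDegree (θ' : L1' → ℂ) = charDegree (θ : L1 → ℂ) := by
      refine charDegree_of_eq ?_
      show (θ : L1 → ℂ) (e 1) = _
      rw [map_one, Block.ItoMichler.one_eq_cast]
    obtain ⟨ψ, hψ⟩ := Block.ItoMichler.exists_irr_over L1' θ'
    obtain ⟨⟨a, ha⟩, ha'⟩ := ratio_dvd_index L1' ψ.2 θ'.2 hψ (Block.ItoMichler.one_eq_cast ψ)
      (Block.ItoMichler.one_eq_cast θ')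
    rw [hθd] at ha
    rw [hθd, ha, Nat.mul_div_cancel_left _ (deg_pos θ)] at ha'
    have hapi : ∀ r : ℕ, r.Prime → r ∣ a → r ∣ m ∧ r ∣ n := fun r hr hra => by
      refine hNi r hr ((hra.trans ha').trans ?_)
      show (L ⊓ N).relIndex L ∣ N.index
      rw [Subgroup.inf_relIndex_left]
      exact Subgroup.relIndex_dvd_index_of_normal N L
    obtain ⟨b, hb⟩ : ∃ b : ℕ, n = charDegree (θ : L1 → ℂ) * a * b ∧
        ∀ r : ℕ, r.Prime → r ∣ b → r ∣ m := by
      by_cases hpψ : p ∣ charDegree (ψ : L → ℂ)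
      · obtain ⟨χ, hχ⟩ := Block.ItoMichler.exists_irr_over L ψ
        obtain ⟨⟨b, hb⟩, hb'⟩ := ratio_dvd_index L χ.2 ψ.2 hχ (Block.ItoMichler.one_eq_cast χ)
          (Block.ItoMichler.one_eq_cast ψ)
        rw [hb, Nat.mul_div_cancel_left _ (deg_pos ψ), hfm] at hb'
        refine ⟨b, ?_, fun r hr hrb => hrb.trans hb'⟩
        have hpχ : p ∣ charDegree (χ : G → ℂ) := hb ▸ hpψ.mul_right b
        rcases h χ with e1 | e1 | e1
        · rw [e1] at hpχ; exact absurd hpχ hp.not_dvd_one
        · rw [e1, ← hfm] at hpχ; exact absurd hpχ hpf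
        · rw [← e1, hb, ha]
      · obtain ⟨χ, hχ⟩ := hconstr ψ (by
          rw [hK'idx]; exact ((hp.coprime_iff_not_dvd.2 hpψ).symm).pow_right d)
        refine ⟨m, ?_, fun r hr hrb => hrb⟩
        rw [hfm, ha] at hχ
        have h2 : charDegree (θ : L1 → ℂ) * a ≠ 1 := fun e1 => hθ (Nat.eq_one_of_mul_eq_one_right e1)
        rcases h χ with e1 | e1 | e1 <;> rw [e1] at hχ
        · have := Nat.eq_one_of_mul_eq_one_right hχ.symm
          omega
        · exact absurd ((Nat.mul_eq_left (by omega)).1 hχ.symm) h2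
        · rw [hχ]; ring
    refine ⟨⟨a * b, by rw [hb.1]; ring⟩, fun r hr hrd => ?_⟩
    rw [hb.1, mul_assoc, Nat.mul_div_cancel_left _ (deg_pos θ)] at hrd
    rcases hr.dvd_mul.1 hrd with hra | hrb
    · exact hapi r hr hra
    · exact ⟨hb.2 r hr hrb, hb.1 ▸ (hrb.mul_left _)⟩
  have hG2 : derivedSeries G 2 ≤ ⁅L1, L1⁆ := by
    rw [derivedSeries_succ, derivedSeries_one]
    exact Subgroup.commutator_mono (le_inf hGL hNG) (le_inf hGL hNG)
  by_cases hlin : ∀ θ : IrrCharacter L1, charDegree (θ : L1 → ℂ) = 1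
  · exact derived_three_of_twoDeg L1 hG2 (c := 1) fun θ => Or.inl (hlin θ)
  push Not at hlin
  obtain ⟨θ₀, hθ₀⟩ := hlin
  have hcopN : ∀ θ : IrrCharacter L1, ∀ r : ℕ, r.Prime → r ∣ m → r ∣ n → ¬ r ∣ charDegree (θ : L1 → ℂ) :=
    fun θ r hr h1 h2 hd => hNc r hr h1 h2 ((hd.trans
      (degree_dvd_card θ (Block.ItoMichler.one_eq_cast θ))).trans (Subgroup.card_dvd_of_le inf_le_right))
  have hdd : ∀ θ η : IrrCharacter L1, charDegree (θ : L1 → ℂ) ≠ 1 → charDegree (η : L1 → ℂ) ≠ 1 →
      charDegree (θ : L1 → ℂ) ∣ charDegree (η : L1 → ℂ) := by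
    intro θ η hθ hη
    obtain ⟨hη1, hη2⟩ := key η hη
    refine (Nat.coprime_of_dvd fun r hr hrθ hrd => ?_).dvd_of_dvd_mul_right
      ((Nat.mul_div_cancel' hη1).symm ▸ (key θ hθ).1)
    exact hcopN θ r hr (hη2 r hr hrd).1 (hη2 r hr hrd).2 hrθ
  exact derived_three_of_twoDeg L1 hG2 (c := charDegree (θ₀ : L1 → ℂ)) fun θ =>
    (em (charDegree (θ : L1 → ℂ) = 1)).imp_right fun hθ =>
      Nat.dvd_antisymm (hdd θ θ₀ hθ hθ₀) (hdd θ₀ θ hθ₀ hθ)

/-- A group with at most three degrees has derived length at most three. -/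
theorem derivedSeries_three [Finite G] {m n : ℕ} (h : Deg3 m n G) (hm : 1 < m) (hn : 1 < n)
    (hocc : ∃ χ ψ : IrrCharacter G, charDegree (χ : G → ℂ) = m ∧ charDegree (ψ : G → ℂ) = n) :
    derivedSeries G 3 = ⊥ := by
  classical
  haveI := isSolvable (Nat.card G) G rfl m n h
  obtain ⟨χ, ψ, hχ, hψ⟩ := hocc
  by_cases hq : ∃ (q : ℕ) (B : Subgroup G), q.Prime ∧ B.Normal ∧ (Nat.card B).Coprime q ∧
      (∃ k, B.index = q ^ k) ∧ ¬ commutator G ≤ B
  · obtain ⟨q, B, hq, hBn, hBc, ⟨k, hk⟩, hBG⟩ := hq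
    exact derived_three_of_nonabelian_pQuotient h hq B hBc hk hBG
  push Not at hq
  refine derived_three_main h hm hn ?_ ⟨χ, ψ, hχ, hψ⟩ fun q hq' hqm hqn => ?_
  · by_contra hc
    push Not at hc
    have := Fintype.ofFinite G
    refine absurd hm (not_lt.2 (le_of_eq ?_))
    rw [← hχ]
    refine charDegree_of_eq ?_
    rw [Nat.cast_one]
    exact degree_one_of_comm hc χ
  · obtain ⟨B, hBn, hBc, hk⟩ := Cfsg.Agent.S4456.result q hq' fun ξ hξ => by
      rcases h ξ with e | e | e
      · exact absurd e hξ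
      · exact e ▸ hqm
      · exact e ▸ hqn
    exact ⟨B, hBn, hBc, hk, hq q B hq' hBn hBc hk⟩

end CfsgLib.Char.ThreeDegrees
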