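import Cfsg.Agent.Lib.Char.SignedIrr

/-!
# The constituents of the induced lattice for the group `3³:2²`
-/

set_option autoImplicit false
set_option linter.unusedSectionVars false

namespace CfsgLib.Char.ThreeFour

open scoped ComplexConjugate
open Cfsg CfsgLib.Char CfsgLib.Char.Signed

universe u

variable {G : Type u} [Group G] [Fintype G]

local notation "gsub" => isGeneralizedCharacter_sub
local notation "gadd" => isGeneralizedCharacter_add

/-- The orthogonal projection on a list of signed irreducibles. -/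
noncomputable def proj (l : List (G → ℂ)) (f : G → ℂ) : G → ℂ :=
  (l.map fun a => (iq f a : ℂ) • a).sum

theorem proj_spec : ∀ {l : List (G → ℂ)}, Orth l → ∀ (f : G → ℂ), Gen f → Gen (proj l f) ∧
    ∀ g, Gen g → iq (proj l f) g = (l.map fun a => iq f a * iq a g).sum := by
  intro l
  induction l with
  | nil =>
    intro _ f hf
    refine ⟨isGeneralizedCharacter_zero, fun g hg => iq_eq _ ?_⟩
    simp [proj, classInner_zero_left]
  | cons a t ih =>
    intro hl f hf
    obtain ⟨hsg, hp⟩ := hl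
    rw [List.pairwise_cons] at hp
    have ha := hsg a List.mem_cons_self
    obtain ⟨ht, hti⟩ := ih ⟨fun b hb => hsg b (List.mem_cons_of_mem _ hb), hp.2⟩ f hf
    have e : proj (a :: t) f = (iq f a : ℂ) • a + proj t f := by simp [proj]
    rw [e]
    refine ⟨gadd (Gen.zsmul ha.gen _) ht, fun g hg => ?_⟩
    rw [iq_add_left (Gen.zsmul ha.gen _) ht hg, iq_smul_left ha.gen hg, hti g hg, List.map_cons,
      List.sum_cons]

theorem sum_map_eq_single {l : List (G → ℂ)} (hl : Orth l) (f : G → ℂ) {b : G → ℂ} (hb : b ∈ l) :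
    (l.map fun a => iq f a * iq a b).sum = iq f b := by
  induction l with
  | nil => simp at hb
  | cons a t ih =>
    obtain ⟨hsg, hp⟩ := hl
    rw [List.pairwise_cons] at hp
    rw [List.map_cons, List.sum_cons]
    rcases List.mem_cons.1 hb with rfl | hbt
    · have : (t.map fun a => iq f a * iq a b).sum = 0 := by
        refine List.sum_eq_zero fun x hx => ?_
        obtain ⟨c, hc, rfl⟩ := List.mem_map.1 hx
        rw [iq_comm (hsg c (List.mem_cons_of_mem _ hc)).gen (hsg b List.mem_cons_self).gen, hp.1 c hc,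
          mul_zero]
      rw [this, (hsg b List.mem_cons_self).iq_self]
      ring
    · rw [hp.1 b hbt, mul_zero, zero_add,
        ih ⟨fun c hc => hsg c (List.mem_cons_of_mem _ hc), hp.2⟩ hbt]

/-- The residual after projection. -/
noncomputable def res (l : List (G → ℂ)) (f : G → ℂ) : G → ℂ := f - proj l f

theorem res_gen {l : List (G → ℂ)} (hl : Orth l) {f : G → ℂ} (hf : Gen f) : Gen (res l f) :=
  gsub hf (proj_spec hl f hf).1

theorem iq_res_left {l : List (G → ℂ)} (hl : Orth l) {f g : G → ℂ} (hf : Gen f) (hg : Gen g) :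
    iq (res l f) g = iq f g - (l.map fun a => iq f a * iq a g).sum := by
  rw [res, iq_sub_left hf (proj_spec hl f hf).1 hg, (proj_spec hl f hf).2 g hg]

theorem iq_res_mem {l : List (G → ℂ)} (hl : Orth l) {f a : G → ℂ} (hf : Gen f) (ha : a ∈ l) :
    iq (res l f) a = 0 := by
  rw [iq_res_left hl hf (hl.1 a ha).gen, sum_map_eq_single hl f ha, sub_self]

theorem iq_res_res {l : List (G → ℂ)} (hl : Orth l) {f g : G → ℂ} (hf : Gen f) (hg : Gen g) :
    iq (res l f) (res l g) = iq f g - (l.map fun a => iq f a * iq a g).sum := by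
  have h0 : iq (res l f) (proj l g) = 0 := by
    rw [iq_comm (res_gen hl hf) (proj_spec hl g hg).1, (proj_spec hl g hg).2 _ (res_gen hl hf)]
    refine List.sum_eq_zero fun x hx => ?_
    obtain ⟨a, ha, rfl⟩ := List.mem_map.1 hx
    rw [iq_comm (hl.1 a ha).gen (res_gen hl hf), iq_res_mem hl hf ha, mul_zero]
  rw [show iq (res l f) (res l g) = iq (res l f) g - iq (res l f) (proj l g) from
    iq_sub_right (res_gen hl hf) hg (proj_spec hl g hg).1, h0, sub_zero, iq_res_left hl hf hg]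

/-- The trivial character. -/
abbrev one (G : Type u) : G → ℂ := fun _ => 1

theorem sg_one : Sg (one G) := Sg.of_irr ⟨_, isIrrCharacter_one⟩

/-- The inner products of the induced functions. -/
structure Table (B C E : Fin 3 → G → ℂ) : Prop where
  genB : ∀ j, Gen (B j)
  genC : ∀ j, Gen (C j)
  genE : ∀ j, Gen (E j)
  B1 : ∀ j, iq (B j) (one G) = 1
  C1 : ∀ j, iq (C j) (one G) = 0
  E1 : ∀ j, iq (E j) (one G) = 0
  BB : ∀ j k, iq (B j) (B k) = if j = k then 3 else 1
  CC : ∀ j k, iq (C j) (C k) = if j = k then 3 else 1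
  EE : ∀ j, iq (E j) (E j) = 3
  CB : ∀ j k, iq (C j) (B k) = if j = k then 0 else 1
  EB : ∀ j k, iq (E j) (B k) = if j = k then -1 else 0
  EC : ∀ j k, iq (E j) (C k) = if j = k then -1 else 0
  Bone : ∀ j, B j 1 = 0
  Cone : ∀ j, C j 1 = 0
  Eone : ∀ j, E j 1 = 0
  lin : ∀ v, Sg v → v 1 = 1 → (∀ j, iq (B j) v = 0) → (∀ j, iq (C j) v = 1) → False

/-- The constituents. -/
structure Decomp (B C E : Fin 3 → G → ℂ) (L P M R : Fin 3 → G → ℂ) : Prop where
  sgL : ∀ j, Sg (L j)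
  sgP : ∀ j, Sg (P j)
  sgM : ∀ j, Sg (M j)
  sgR : ∀ j, Sg (R j)
  eqB : ∀ j, B j = one G + L j - P j
  eqC : ∀ j, C j = L (j + 1) + L (j + 2) - M j
  eqE : ∀ j, E j = P j + M j - R j
  orthL : ∀ j k, j ≠ k → iq (L j) (L k) = 0
  L1 : ∀ j, iq (L j) (one G) = 0

variable {B C E : Fin 3 → G → ℂ}

theorem Table.pairs (h : Table B C E) (j : Fin 3) :
    ∃ a b : G → ℂ, Sg a ∧ Sg b ∧ iq a b = 0 ∧ B j = one G + a + b ∧
      iq a (one G) = 0 ∧ iq b (one G) = 0 ∧ a 1 + b 1 = -1 := by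
  have h1 : iq (one G) (one G) = 1 := sg_one.iq_self
  have hg : Gen (B j - one G) := gsub (h.genB j) sg_one.gen
  have h2 : iq (B j - one G) (B j - one G) = 2 := by
    rw [iq_sub_left (h.genB j) sg_one.gen hg, iq_sub_right (h.genB j) (h.genB j) sg_one.gen,
      iq_sub_right sg_one.gen (h.genB j) sg_one.gen, iq_comm sg_one.gen (h.genB j), h.BB, h.B1, h1,
      if_pos rfl]
    norm_num
  obtain ⟨a, b, ha, hb, hab, he⟩ := exists_pair hg h2
  have heq : B j = one G + a + b := by rw [add_assoc, ← he, add_sub_cancel]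
  have h0 : iq a (one G) + iq b (one G) = 0 := by
    rw [← iq_add_left ha.gen hb.gen sg_one.gen, ← he, iq_sub_left (h.genB j) sg_one.gen sg_one.gen,
      h.B1, h1, sub_self]
  have ha0 : iq a (one G) = 0 := by
    rcases ha.iq_cases sg_one with h' | ⟨h', e⟩ | ⟨h', e⟩
    · exact h'
    · rw [e, iq_comm sg_one.gen hb.gen] at hab; omega
    · rw [e, iq_neg_left sg_one.gen hb.gen, iq_comm sg_one.gen hb.gen] at hab; omega
  refine ⟨a, b, ha, hb, hab, heq, ha0, by omega, ?_⟩
  have := h.Bone j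
  rw [heq] at this
  simp only [Pi.add_apply, one] at this
  linear_combination this

theorem Table.cross (h : Table B C E) {j k : Fin 3} (hjk : j ≠ k) {a b a' b' : G → ℂ}
    (ha : Sg a) (hb : Sg b) (hab : iq a b = 0) (he : B j = one G + a + b)
    (ha1 : iq a (one G) = 0) (hb1 : iq b (one G) = 0) (hd : a 1 + b 1 = -1)
    (ha' : Sg a') (hb' : Sg b') (hab' : iq a' b' = 0) (he' : B k = one G + a' + b')
    (ha1' : iq a' (one G) = 0) (hb1' : iq b' (one G) = 0) (hd' : a' 1 + b' 1 = -1) :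
    iq a a' = 0 := by
  have hab1 : iq (one G) a = 0 := by rw [iq_comm sg_one.gen ha.gen]; exact ha1
  have hbb1 : iq (one G) b = 0 := by rw [iq_comm sg_one.gen hb.gen]; exact hb1
  have hsum : iq a a' + iq a b' + iq b a' + iq b b' = 0 := by
    have hBB := h.BB j k
    rw [if_neg hjk, he, he', iq_add_left (gadd sg_one.gen ha.gen) hb.gen
        (gadd (gadd sg_one.gen ha'.gen) hb'.gen),
      iq_add_left sg_one.gen ha.gen (gadd (gadd sg_one.gen ha'.gen) hb'.gen)] at hBB
    simp only [iq_add_right sg_one.gen (gadd sg_one.gen ha'.gen) hb'.gen,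
      iq_add_right ha.gen (gadd sg_one.gen ha'.gen) hb'.gen,
      iq_add_right hb.gen (gadd sg_one.gen ha'.gen) hb'.gen,
      iq_add_right sg_one.gen sg_one.gen ha'.gen, iq_add_right ha.gen sg_one.gen ha'.gen,
      iq_add_right hb.gen sg_one.gen ha'.gen, sg_one.iq_self, ha1, hb1,
      iq_comm sg_one.gen ha'.gen, iq_comm sg_one.gen hb'.gen, ha1', hb1'] at hBB
    omega
  rcases ha.iq_cases ha' with h' | ⟨h', e⟩ | ⟨h', e⟩
  · exact h'
  · exfalso
    subst e
    rw [hab', iq_comm hb.gen ha.gen, hab, h'] at hsum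
    rcases hb.iq_cases hb' with h'' | ⟨h'', -⟩ | ⟨h'', e'⟩
    · omega
    · omega
    · rw [e', Pi.neg_apply] at hd
      exact hb'.apply_one_ne (by linear_combination (hd' - hd) / 2)
  · exfalso
    subst e
    rw [iq_neg_left ha'.gen hb.gen, neg_eq_zero] at hab
    rw [iq_neg_left ha'.gen hb'.gen, hab', neg_zero, iq_comm hb.gen ha'.gen, hab, h'] at hsum
    rcases hb.iq_cases hb' with h'' | ⟨h'', e'⟩ | ⟨h'', -⟩
    · omega
    · rw [e', Pi.neg_apply] at hd
      exact ha'.apply_one_ne (by linear_combination (hd' - hd) / 2)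
    · omega

theorem Table.C_coeff (h : Table B C E) {a b : Fin 3 → G → ℂ}
    (hl : Orth [a 0, b 0, a 1, b 1, a 2, b 2]) (he : ∀ k, B k = one G + a k + b k) (j k : Fin 3) :
    (j = k → iq (C j) (a k) = 0 ∧ iq (C j) (b k) = 0) ∧
      (j ≠ k → (iq (C j) (a k) = 1 ∧ iq (C j) (b k) = 0) ∨
        (iq (C j) (a k) = 0 ∧ iq (C j) (b k) = 1)) := by
  have hsg : ∀ k, Sg (a k) ∧ Sg (b k) := by
    intro k
    fin_cases k <;> exact ⟨hl.1 _ (by simp), hl.1 _ (by simp)⟩
  have hsum : ∀ k, iq (C j) (a k) + iq (C j) (b k) = if j = k then 0 else 1 := by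
    intro k
    have := h.CB j k
    rw [he k, iq_add_right (h.genC j) (gadd sg_one.gen (hsg k).1.gen) (hsg k).2.gen,
      iq_add_right (h.genC j) sg_one.gen (hsg k).1.gen, h.C1] at this
    omega
  have hb := hl.bessel (h.genC j)
  rw [h.CC j j, if_pos rfl] at hb
  simp only [List.map_cons, List.map_nil, List.sum_cons, List.sum_nil] at hb
  have h0 := hsum 0
  have h1 := hsum 1
  have h2 := hsum 2
  have key : ∀ x x' y y' z z' : ℤ, x + x' = 0 → y + y' = 1 → z + z' = 1 →
      x ^ 2 + x' ^ 2 + (y ^ 2 + y' ^ 2) + (z ^ 2 + z' ^ 2) ≤ 3 →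
      (x = 0 ∧ x' = 0) ∧ ((y = 1 ∧ y' = 0) ∨ (y = 0 ∧ y' = 1)) ∧
        ((z = 1 ∧ z' = 0) ∨ (z = 0 ∧ z' = 1)) := by
    intro x x' y y' z z' hx hy hz hle
    have hu : ∀ u u' : ℤ, u + u' = 1 → 1 ≤ u ^ 2 + u' ^ 2 ∧
        (u ^ 2 + u' ^ 2 ≤ 2 → (u = 1 ∧ u' = 0) ∨ (u = 0 ∧ u' = 1)) := by
      intro u u' hu
      obtain rfl : u' = 1 - u := by omega
      refine ⟨by nlinarith [mul_self_nonneg (2 * u - 1)], fun hle => ?_⟩
      have : 0 ≤ u ∧ u ≤ 1 := ⟨by nlinarith, by nlinarith⟩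
      omega
    obtain rfl : x' = -x := by omega
    rw [neg_sq] at hle
    have hx0 : x = 0 := by
      by_contra hne
      have := sq_pos_of_ne_zero hne
      have := (hu y y' hy).1
      have := (hu z z' hz).1
      omega
    subst hx0
    have hy1 := (hu y y' hy).1
    have hz1 := (hu z z' hz).1
    exact ⟨⟨rfl, rfl⟩, (hu y y' hy).2 (by omega), (hu z z' hz).2 (by omega)⟩
  fin_cases j
  · obtain ⟨k0, k1, k2⟩ := key _ _ _ _ _ _ (by simpa using h0) (by simpa using h1) (by simpa using h2)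
      (by simp at hb ⊢; linarith)
    fin_cases k <;> simp <;> assumption
  · obtain ⟨k1, k2, k0⟩ := key _ _ _ _ _ _ (by simpa using h1) (by simpa using h2) (by simpa using h0)
      (by simp at hb ⊢; linarith)
    fin_cases k <;> simp <;> assumption
  · obtain ⟨k2, k0, k1⟩ := key _ _ _ _ _ _ (by simpa using h2) (by simpa using h0) (by simpa using h1)
      (by simp at hb ⊢; linarith)
    fin_cases k <;> simp <;> assumption

theorem Table.labelled (h : Table B C E) :
    ∃ a b : Fin 3 → G → ℂ, Orth [a 0, b 0, a 1, b 1, a 2, b 2] ∧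
      (∀ k, B k = one G + a k + b k) ∧ (∀ k, iq (a k) (one G) = 0 ∧ iq (b k) (one G) = 0) ∧
      (∀ k, a k 1 + b k 1 = -1) ∧
      iq (C 1) (a 0) = 1 ∧ iq (C 0) (a 1) = 1 ∧ iq (C 0) (a 2) = 1 := by
  choose a b ha hb hab he ha1 hb1 hd using h.pairs
  have hl : Orth [a 0, b 0, a 1, b 1, a 2, b 2] := by
    have hd' : ∀ k, b k 1 + a k 1 = -1 := fun k => by rw [add_comm]; exact hd k
    have hba : ∀ k, iq (b k) (a k) = 0 := fun k => by rw [iq_comm (hb k).gen (ha k).gen]; exact hab k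
    have he' : ∀ k, B k = one G + b k + a k := fun k => by rw [he k]; abel
    have aa : ∀ j k, j ≠ k → iq (a j) (a k) = 0 := fun j k hjk => h.cross hjk (ha j) (hb j) (hab j)
      (he j) (ha1 j) (hb1 j) (hd j) (ha k) (hb k) (hab k) (he k) (ha1 k) (hb1 k) (hd k)
    have ab : ∀ j k, j ≠ k → iq (a j) (b k) = 0 := fun j k hjk => h.cross hjk (ha j) (hb j) (hab j)
      (he j) (ha1 j) (hb1 j) (hd j) (hb k) (ha k) (hba k) (he' k) (hb1 k) (ha1 k) (hd' k)
    have ba : ∀ j k, j ≠ k → iq (b j) (a k) = 0 := fun j k hjk => h.cross hjk (hb j) (ha j) (hba j)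
      (he' j) (hb1 j) (ha1 j) (hd' j) (ha k) (hb k) (hab k) (he k) (ha1 k) (hb1 k) (hd k)
    have bb : ∀ j k, j ≠ k → iq (b j) (b k) = 0 := fun j k hjk => h.cross hjk (hb j) (ha j) (hba j)
      (he' j) (hb1 j) (ha1 j) (hd' j) (hb k) (ha k) (hba k) (he' k) (hb1 k) (ha1 k) (hd' k)
    refine ⟨by simp [ha, hb], ?_⟩
    simp [List.pairwise_cons, hab, aa, ab, ba, bb]
  have hc := fun j k (hjk : j ≠ k) => (h.C_coeff hl he j k).2 hjk
  have key : ∀ j k : Fin 3, j ≠ k → ∃ x y, ((x = a k ∧ y = b k) ∨ (x = b k ∧ y = a k)) ∧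
      iq (C j) x = 1 := by
    intro j k hjk
    rcases hc j k hjk with hh | hh
    · exact ⟨_, _, Or.inl ⟨rfl, rfl⟩, hh.1⟩
    · exact ⟨_, _, Or.inr ⟨rfl, rfl⟩, hh.2⟩
  obtain ⟨x0, y0, s0, hx0⟩ := key 1 0 (by decide)
  obtain ⟨x1, y1, s1, hx1⟩ := key 0 1 (by decide)
  obtain ⟨x2, y2, s2, hx2⟩ := key 0 2 (by decide)
  refine ⟨![x0, x1, x2], ![y0, y1, y2], ?_, ?_, ?_, ?_, hx0, hx1, hx2⟩
  · obtain ⟨hsg, hp⟩ := hl
    simp only [List.pairwise_cons, List.mem_cons, List.not_mem_nil, or_false, forall_eq_or_imp,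
      forall_eq, List.Pairwise.nil, and_true, false_implies, implies_true] at hp hsg
    obtain ⟨g1, g2, g3, g4, g5, g6⟩ := hsg
    have c := fun {p q : G → ℂ} (hp : Sg p) (hq : Sg q) (e : iq p q = 0) =>
      ((iq_comm hq.gen hp.gen).trans e : iq q p = 0)
    rcases s0 with ⟨rfl, rfl⟩ | ⟨rfl, rfl⟩ <;> rcases s1 with ⟨rfl, rfl⟩ | ⟨rfl, rfl⟩ <;>
      rcases s2 with ⟨rfl, rfl⟩ | ⟨rfl, rfl⟩ <;>
      refine ⟨by simp [ha, hb], ?_⟩ <;>
      simp [List.pairwise_cons, hp, hab, c g1 g2 (hab 0), c g3 g4 (hab 1), c g5 g6 (hab 2)]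
  · intro k
    fin_cases k
    · rcases s0 with ⟨rfl, rfl⟩ | ⟨rfl, rfl⟩ <;> simp [he] <;> abel
    · rcases s1 with ⟨rfl, rfl⟩ | ⟨rfl, rfl⟩ <;> simp [he] <;> abel
    · rcases s2 with ⟨rfl, rfl⟩ | ⟨rfl, rfl⟩ <;> simp [he] <;> abel
  · intro k
    fin_cases k
    · rcases s0 with ⟨rfl, rfl⟩ | ⟨rfl, rfl⟩ <;> simp [ha1, hb1]
    · rcases s1 with ⟨rfl, rfl⟩ | ⟨rfl, rfl⟩ <;> simp [ha1, hb1]
    · rcases s2 with ⟨rfl, rfl⟩ | ⟨rfl, rfl⟩ <;> simp [ha1, hb1]
  · intro k
    fin_cases k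
    · rcases s0 with ⟨rfl, rfl⟩ | ⟨rfl, rfl⟩ <;> simp [hd, add_comm]
    · rcases s1 with ⟨rfl, rfl⟩ | ⟨rfl, rfl⟩ <;> simp [hd, add_comm]
    · rcases s2 with ⟨rfl, rfl⟩ | ⟨rfl, rfl⟩ <;> simp [hd, add_comm]

/-- One disagreement of labels contradicts Bessel's inequality. -/
theorem flip_impossible (a0 a1 a2 n0 n1 n2 : ℤ) (h0 : n0 = -1 - a1 - a2)
    (h : (n1 = -a0 - a2 ∧ n2 = 1 + a0 - a1 ∧ n1 = n2 ∧
        a0 ^ 2 + (-1 - a0) ^ 2 + a1 ^ 2 + (0 - a1) ^ 2 + a2 ^ 2 + (0 - a2) ^ 2 + n0 ^ 2 + n2 ^ 2 ≤ 3) ∨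
      (n1 = -a0 - a2 ∧ n2 = -a0 + a1 ∧ n2 = n0 ∧
        a0 ^ 2 + (-1 - a0) ^ 2 + a1 ^ 2 + (0 - a1) ^ 2 + a2 ^ 2 + (0 - a2) ^ 2 + n1 ^ 2 + n0 ^ 2 ≤ 3) ∨
      (n1 = -a0 + a2 ∧ n2 = -a0 - a1 ∧ n1 = n0 ∧
        a0 ^ 2 + (-1 - a0) ^ 2 + a1 ^ 2 + (0 - a1) ^ 2 + a2 ^ 2 + (0 - a2) ^ 2 + n2 ^ 2 + n0 ^ 2 ≤ 3)) :
    False := by
  subst h0
  rcases h with ⟨rfl, rfl, he, hb⟩ | ⟨rfl, rfl, he, hb⟩ | ⟨rfl, rfl, he, hb⟩ <;>
  · have hl0 : -1 ≤ a0 := by nlinarith
    have hu0 : a0 ≤ 0 := by nlinarith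
    have hl1 : -1 ≤ a1 := by nlinarith
    have hu1 : a1 ≤ 1 := by nlinarith
    have hl2 : -1 ≤ a2 := by nlinarith
    have hu2 : a2 ≤ 1 := by nlinarith
    interval_cases a0 <;> interval_cases a1 <;> interval_cases a2 <;> first | omega | (norm_num at hb)

/-- The coefficients of `E j` in the agreed labelling. -/
theorem standard_coeff (x y z : ℤ) (hb : x ^ 2 + (1 + x) ^ 2 + 2 * y ^ 2 + 2 * z ^ 2 +
    (1 + y + z) ^ 2 + (x + z) ^ 2 + (x + y) ^ 2 ≤ 3) : x = 0 ∧ y = 0 ∧ z = 0 := by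
  have hl0 : -1 ≤ x := by nlinarith
  have hu0 : x ≤ 0 := by nlinarith
  have hl1 : -1 ≤ y := by nlinarith
  have hu1 : y ≤ 1 := by nlinarith
  have hl2 : -1 ≤ z := by nlinarith
  have hu2 : z ≤ 1 := by nlinarith
  interval_cases x <;> interval_cases y <;> interval_cases z <;> first | omega | (norm_num at hb)

theorem Table.decomp (h : Table B C E) :
    ∃ L P M R, Decomp B C E L P M R := by
  obtain ⟨a, b, hl, he, h1, hd, hc10, hc01, hc02⟩ := h.labelled
  set l := [a 0, b 0, a 1, b 1, a 2, b 2] with hldef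
  have hsg : ∀ k, Sg (a k) ∧ Sg (b k) := by
    intro k
    fin_cases k <;> exact ⟨hl.1 _ (by simp [hldef]), hl.1 _ (by simp [hldef])⟩
  have hcc := h.C_coeff hl he
  -- coefficients
  have c00 := (hcc 0 0).1 rfl
  have c11 := (hcc 1 1).1 rfl
  have c22 := (hcc 2 2).1 rfl
  have c10 : iq (C 1) (b 0) = 0 := by have := (hcc 1 0).2 (by decide); omega
  have c01 : iq (C 0) (b 1) = 0 := by have := (hcc 0 1).2 (by decide); omega
  have c02 : iq (C 0) (b 2) = 0 := by have := (hcc 0 2).2 (by decide); omega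
  set N : Fin 3 → G → ℂ := fun j => res l (C j) with hN
  have gN : ∀ j, Gen (N j) := fun j => res_gen hl (h.genC j)
  have hNN : ∀ j k, iq (N j) (N k) = (if j = k then 3 else 1) -
      (iq (C j) (a 0) * iq (C k) (a 0) + iq (C j) (b 0) * iq (C k) (b 0) +
       iq (C j) (a 1) * iq (C k) (a 1) + iq (C j) (b 1) * iq (C k) (b 1) +
       iq (C j) (a 2) * iq (C k) (a 2) + iq (C j) (b 2) * iq (C k) (b 2)) := by
    intro j k
    rw [hN, iq_res_res hl (h.genC j) (h.genC k), h.CC]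
    simp only [hldef, List.map_cons, List.map_nil, List.sum_cons, List.sum_nil]
    rw [iq_comm (hsg 0).1.gen (h.genC k), iq_comm (hsg 0).2.gen (h.genC k),
      iq_comm (hsg 1).1.gen (h.genC k), iq_comm (hsg 1).2.gen (h.genC k),
      iq_comm (hsg 2).1.gen (h.genC k), iq_comm (hsg 2).2.gen (h.genC k)]
    ring
  have hN0 : iq (N 0) (N 0) = 1 := by
    rw [hNN, c00.1, c00.2, hc01, c01, hc02, c02]; norm_num
  have hN1 : iq (N 1) (N 1) = 1 := by
    rw [hNN, hc10, c10, c11.1, c11.2]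
    rcases (hcc 1 2).2 (by decide) with ⟨e, e'⟩ | ⟨e, e'⟩ <;> rw [e, e'] <;> norm_num
  have hN2 : iq (N 2) (N 2) = 1 := by
    rw [hNN, c22.1, c22.2]
    rcases (hcc 2 0).2 (by decide) with ⟨e, e'⟩ | ⟨e, e'⟩ <;>
      rcases (hcc 2 1).2 (by decide) with ⟨f, f'⟩ | ⟨f, f'⟩ <;> rw [e, e', f, f'] <;> norm_num
  have sN : ∀ j, Sg (N j) := by
    intro j
    refine Sg.of_iq (gN j) ?_
    fin_cases j
    · exact hN0
    · exact hN1
    · exact hN2
  have hmem : ∀ j k, iq (N j) (a k) = 0 ∧ iq (N j) (b k) = 0 := fun j k => by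
    fin_cases k <;>
      exact ⟨iq_res_mem hl (h.genC j) (by simp [hldef]), iq_res_mem hl (h.genC j) (by simp [hldef])⟩
  have n01 : iq (N 0) (N 1) = 1 - iq (C 1) (a 2) := by
    rw [hNN, c00.1, c00.2, hc01, c01, hc02, c02, hc10, c10, c11.1, c11.2]; norm_num [Fin.ext_iff]
  have n02 : iq (N 0) (N 2) = 1 - iq (C 2) (a 1) := by
    rw [hNN, c00.1, c00.2, hc01, c01, hc02, c02, c22.1, c22.2]; norm_num [Fin.ext_iff]
  have n12 : iq (N 1) (N 2) = 1 - iq (C 2) (a 0) := by
    rw [hNN, hc10, c10, c11.1, c11.2, c22.1, c22.2]; norm_num [Fin.ext_iff]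
  -- coefficients of `E`
  have hEpair : ∀ j k, iq (E j) (a k) + iq (E j) (b k) = if j = k then -1 else 0 := by
    intro j k
    have := h.EB j k
    rw [he k, iq_add_right (h.genE j) (gadd sg_one.gen (hsg k).1.gen) (hsg k).2.gen,
      iq_add_right (h.genE j) sg_one.gen (hsg k).1.gen, h.E1] at this
    omega
  have hEN : ∀ j k, iq (E j) (N k) = (if j = k then -1 else 0) -
      (iq (C k) (a 0) * iq (E j) (a 0) + iq (C k) (b 0) * iq (E j) (b 0) +
       iq (C k) (a 1) * iq (E j) (a 1) + iq (C k) (b 1) * iq (E j) (b 1) +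
       iq (C k) (a 2) * iq (E j) (a 2) + iq (C k) (b 2) * iq (E j) (b 2)) := by
    intro j k
    rw [iq_comm (h.genE j) (gN k), hN, iq_res_left hl (h.genC k) (h.genE j),
      iq_comm (h.genC k) (h.genE j), h.EC]
    simp only [hldef, List.map_cons, List.map_nil, List.sum_cons, List.sum_nil]
    rw [iq_comm (hsg 0).1.gen (h.genE j), iq_comm (hsg 0).2.gen (h.genE j),
      iq_comm (hsg 1).1.gen (h.genE j), iq_comm (hsg 1).2.gen (h.genE j),
      iq_comm (hsg 2).1.gen (h.genE j), iq_comm (hsg 2).2.gen (h.genE j)]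
    ring
  obtain ⟨s2, hs2⟩ : ∃ s, iq (C 1) (a 2) = s := ⟨_, rfl⟩
  obtain ⟨s1, hs1⟩ : ∃ s, iq (C 2) (a 1) = s := ⟨_, rfl⟩
  obtain ⟨s0, hs0⟩ : ∃ s, iq (C 2) (a 0) = s := ⟨_, rfl⟩
  rw [hs2] at n01
  rw [hs1] at n02
  rw [hs0] at n12
  have hb2 : s2 + iq (C 1) (b 2) = 1 ∧ (s2 = 0 ∨ s2 = 1) := by
    have := (hcc 1 2).2 (by decide); omega
  have hb1 : s1 + iq (C 2) (b 1) = 1 ∧ (s1 = 0 ∨ s1 = 1) := by
    have := (hcc 2 1).2 (by decide); omega
  have hb0 : s0 + iq (C 2) (b 0) = 1 ∧ (s0 = 0 ∨ s0 = 1) := by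
    have := (hcc 2 0).2 (by decide); omega
  have heq : ∀ j k, iq (N j) (N k) = 1 → N j = N k := by
    intro j k hjk
    rcases (sN j).iq_cases (sN k) with h' | ⟨-, e⟩ | ⟨h', -⟩
    · omega
    · exact e
    · omega
  -- the six-plus-two Bessel inequality
  have hb8 : ∀ p q, iq (N p) (N q) = 0 →
      iq (E 0) (a 0) ^ 2 + iq (E 0) (b 0) ^ 2 + iq (E 0) (a 1) ^ 2 + iq (E 0) (b 1) ^ 2 +
        iq (E 0) (a 2) ^ 2 + iq (E 0) (b 2) ^ 2 + iq (E 0) (N p) ^ 2 + iq (E 0) (N q) ^ 2 ≤ 3 := by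
    intro p q hpq
    have hl8 : Orth (N p :: N q :: l) := by
      refine ⟨?_, ?_⟩
      · intro x hx
        rcases List.mem_cons.1 hx with rfl | hx
        · exact sN p
        rcases List.mem_cons.1 hx with rfl | hx
        · exact sN q
        · exact hl.1 x hx
      · rw [List.pairwise_cons, List.pairwise_cons]
        refine ⟨fun x hx => ?_, fun x hx => iq_res_mem hl (h.genC q) hx, hl.2⟩
        rcases List.mem_cons.1 hx with rfl | hx
        · exact hpq
        · exact iq_res_mem hl (h.genC p) hx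
    have := hl8.bessel (h.genE 0)
    rw [h.EE] at this
    simp only [hldef, List.map_cons, List.map_nil, List.sum_cons, List.sum_nil] at this
    linarith
  have e0 := hEpair 0 0
  have e1 := hEpair 0 1
  have e2 := hEpair 0 2
  have f0 := hEN 0 0
  have f1 := hEN 0 1
  have f2 := hEN 0 2
  rw [c00.1, c00.2, hc01, c01, hc02, c02, if_pos rfl] at f0
  rw [hc10, c10, c11.1, c11.2, hs2, eq_sub_of_add_eq' hb2.1, if_neg (by decide)] at f1
  rw [hs0, eq_sub_of_add_eq' hb0.1, hs1, eq_sub_of_add_eq' hb1.1, c22.1, c22.2,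
    if_neg (by decide)] at f2
  rw [if_pos rfl] at e0
  rw [if_neg (by decide)] at e1 e2
  have small : ∀ {x : ℤ}, x ^ 2 ≤ 3 → x = -1 ∨ x = 0 ∨ x = 1 := by
    intro x hx
    have h1 : -1 ≤ x := by nlinarith
    have h2 : x ≤ 1 := by nlinarith
    omega
  -- all labels agree
  have hall : s0 = 1 ∧ s1 = 1 ∧ s2 = 1 := by
    by_contra hne
    have single : ∀ p q r, iq (N p) (N q) = 0 → iq (E 0) (N r) = iq (E 0) (N q) →
        ((s0 = 0 ∧ s1 = 1 ∧ s2 = 1 ∧ p = 0 ∧ q = 2 ∧ r = 1) ∨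
          (s0 = 1 ∧ s1 = 0 ∧ s2 = 1 ∧ p = 1 ∧ q = 0 ∧ r = 2) ∨
          (s0 = 1 ∧ s1 = 1 ∧ s2 = 0 ∧ p = 2 ∧ q = 0 ∧ r = 1)) → False := by
      intro p q r hpq hr hcase
      have hb := hb8 p q hpq
      rcases hcase with ⟨rfl, rfl, rfl, rfl, rfl, rfl⟩ | ⟨rfl, rfl, rfl, rfl, rfl, rfl⟩ |
          ⟨rfl, rfl, rfl, rfl, rfl, rfl⟩
      · exact flip_impossible (iq (E 0) (a 0)) (iq (E 0) (a 1)) (iq (E 0) (a 2))
          (iq (E 0) (N 0)) (iq (E 0) (N 1)) (iq (E 0) (N 2)) (by linarith)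
          (Or.inl ⟨by linarith, by linarith, by linarith,
            by rw [eq_sub_of_add_eq' e0, eq_sub_of_add_eq' e1, eq_sub_of_add_eq' e2] at hb; linarith⟩)
      · exact flip_impossible (iq (E 0) (a 0)) (iq (E 0) (a 1)) (iq (E 0) (a 2))
          (iq (E 0) (N 0)) (iq (E 0) (N 1)) (iq (E 0) (N 2)) (by linarith)
          (Or.inr (Or.inl ⟨by linarith, by linarith, by linarith,
            by rw [eq_sub_of_add_eq' e0, eq_sub_of_add_eq' e1, eq_sub_of_add_eq' e2] at hb; linarith⟩))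
      · exact flip_impossible (iq (E 0) (a 0)) (iq (E 0) (a 1)) (iq (E 0) (a 2))
          (iq (E 0) (N 0)) (iq (E 0) (N 1)) (iq (E 0) (N 2)) (by linarith)
          (Or.inr (Or.inr ⟨by linarith, by linarith, by linarith,
            by rw [eq_sub_of_add_eq' e0, eq_sub_of_add_eq' e1, eq_sub_of_add_eq' e2] at hb; linarith⟩))
    rcases hb0.2 with rfl | rfl <;> rcases hb1.2 with rfl | rfl <;> rcases hb2.2 with rfl | rfl
    · -- all three differ
      have q01 := heq 0 1 (by omega)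
      have q02 := heq 0 2 (by omega)
      have k20 : iq (C 2) (b 0) = 1 := by omega
      have k21 : iq (C 2) (b 1) = 1 := by omega
      have k12 : iq (C 1) (b 2) = 1 := by omega
      have v : ∀ j, N j 1 = -(((iq (C j) (a 0) : ℂ) * a 0 1 + (iq (C j) (b 0) : ℂ) * b 0 1) +
          ((iq (C j) (a 1) : ℂ) * a 1 1 + (iq (C j) (b 1) : ℂ) * b 1 1) +
          ((iq (C j) (a 2) : ℂ) * a 2 1 + (iq (C j) (b 2) : ℂ) * b 2 1)) := by
        intro j
        simp only [hN, res, proj, hldef, List.map_cons, List.map_nil, List.sum_cons, List.sum_nil,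
          Pi.sub_apply, Pi.add_apply, Pi.smul_apply, smul_eq_mul, Pi.zero_apply, h.Cone]
        ring
      have hone : N 0 1 = 1 := by
        have v0 := v 0; have v1 := v 1; have v2 := v 2
        rw [c00.1, c00.2, hc01, c01, hc02, c02] at v0
        rw [hc10, c10, c11.1, c11.2, hs2, k12, ← q01] at v1
        rw [hs0, k20, hs1, k21, c22.1, c22.2, ← q02] at v2
        push_cast at v0 v1 v2
        linear_combination (v0 + v1 + v2 - hd 0 - hd 1 - hd 2) / 3
      have hN1' : iq (N 0) (one G) = 0 := by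
        rw [hN, iq_res_left hl (h.genC 0) sg_one.gen, h.C1]
        simp [hldef, h1]
      refine h.lin (N 0) (sN 0) hone (fun j => ?_) (fun j => ?_)
      · rw [he j, iq_add_left (gadd sg_one.gen (hsg j).1.gen) (hsg j).2.gen (gN 0),
          iq_add_left sg_one.gen (hsg j).1.gen (gN 0), iq_comm sg_one.gen (gN 0), hN1',
          iq_comm (hsg j).1.gen (gN 0), (hmem 0 j).1, iq_comm (hsg j).2.gen (gN 0), (hmem 0 j).2]
        norm_num
      · have : iq (N j) (N 0) = 1 := by
          fin_cases j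
          · exact hN0
          · show iq (N 1) (N 0) = 1
            rw [← q01]; exact hN0
          · show iq (N 2) (N 0) = 1
            rw [← q02]; exact hN0
        have e : iq (C j) (N 0) = iq (N j) (N 0) := by
          rw [iq_comm (h.genC j) (gN 0), show iq (N 0) (C j) = _ from
              iq_res_left hl (h.genC 0) (h.genC j),
            iq_comm (gN j) (gN 0), hN, iq_res_res hl (h.genC 0) (h.genC j)]
        rw [e]; exact this
    · -- two differ: impossible
      have q01 := heq 0 2 (by omega); have q02 := heq 1 2 (by omega)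
      rw [q01, ← q02, hN1] at n01
      omega
    · have q01 := heq 0 1 (by omega); have q02 := heq 1 2 (by omega)
      rw [← q02, ← q01, hN0] at n02
      omega
    · exact single 0 2 1 (by omega) (by rw [heq 1 2 (by omega)]) (by simp)
    · have q01 := heq 0 1 (by omega); have q02 := heq 0 2 (by omega)
      rw [← q01, ← q02, hN0] at n12
      omega
    · exact single 1 0 2 (by rw [iq_comm (gN 1) (gN 0)]; omega)
        (by rw [heq 0 2 (by omega)]) (by simp)
    · exact single 2 0 1 (by rw [iq_comm (gN 2) (gN 0)]; omega)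
        (by rw [heq 0 1 (by omega)]) (by simp)
    · exact hne ⟨rfl, rfl, rfl⟩
  obtain ⟨r0, r1, r2⟩ := hall
  -- coefficients of the `C`
  have hCv : ∀ j k, iq (C j) (b k) = 0 ∧ iq (C j) (a k) = if j = k then 0 else 1 := by
    intro j k
    fin_cases j <;> fin_cases k <;> refine ⟨?_, ?_⟩ <;> simp <;>
      first
        | exact c00.1 | exact c00.2 | exact c11.1 | exact c11.2 | exact c22.1 | exact c22.2
        | exact hc01 | exact hc02 | exact hc10 | exact c01 | exact c02 | exact c10 | omega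
  set P : Fin 3 → G → ℂ := fun k => -b k with hP
  set M : Fin 3 → G → ℂ := fun k => -N k with hM
  set R : Fin 3 → G → ℂ := fun k => P k + M k - E k with hR
  have sP : ∀ k, Sg (P k) := fun k => (hsg k).2.neg
  have sM : ∀ k, Sg (M k) := fun k => (sN k).neg
  have eqC : ∀ j, C j = a (j + 1) + a (j + 2) - M j := by
    intro j
    have e : C j = proj l (C j) + N j := (add_sub_cancel _ _).symm
    conv_lhs => rw [e]
    rw [hM]
    simp only [proj, hldef, List.map_cons, List.map_nil, List.sum_cons, List.sum_nil,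
      fun j k => (hCv j k).1, fun j k => (hCv j k).2, sub_neg_eq_add]
    fin_cases j <;> simp <;> abel
  refine ⟨a, P, M, R, fun k => (hsg k).1, sP, sM, fun j => ?_, fun k => by rw [he k]; simp [hP],
    eqC, fun k => by simp [hR], fun j k hjk => ?_, fun k => (h1 k).1⟩
  · have hPM : iq (P j) (M j) = 0 := by
      rw [hP, hM, iq_neg_left (hsg j).2.gen (sN j).neg.gen, iq_neg_right (hsg j).2.gen (gN j),
        iq_comm (hsg j).2.gen (gN j), (hmem j j).2]
      rfl
    -- Bessel on nine characters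
    have hx : iq (E j) (P j) = 1 ∧ iq (E j) (M j) = 1 := by
      have hl9 : Orth (N 0 :: N 1 :: N 2 :: l) := by
        refine ⟨?_, ?_⟩
        · intro x hx
          simp only [List.mem_cons] at hx
          rcases hx with rfl | rfl | rfl | hx
          · exact sN 0
          · exact sN 1
          · exact sN 2
          · exact hl.1 x hx
        · rw [List.pairwise_cons, List.pairwise_cons, List.pairwise_cons]
          refine ⟨fun x hx => ?_, fun x hx => ?_, fun x hx => iq_res_mem hl (h.genC 2) hx, hl.2⟩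
          · simp only [List.mem_cons] at hx
            rcases hx with rfl | rfl | hx
            · rw [n01]; omega
            · rw [n02]; omega
            · exact iq_res_mem hl (h.genC 0) hx
          · simp only [List.mem_cons] at hx
            rcases hx with rfl | hx
            · rw [n12]; omega
            · exact iq_res_mem hl (h.genC 1) hx
      have hb := hl9.bessel (h.genE j)
      rw [h.EE] at hb
      simp only [hldef, List.map_cons, List.map_nil, List.sum_cons, List.sum_nil] at hb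
      have g0 := hEN j 0
      have g1 := hEN j 1
      have g2 := hEN j 2
      simp only [fun j k => (hCv j k).1, fun j k => (hCv j k).2] at g0 g1 g2
      have p0 := hEpair j 0
      have p1 := hEpair j 1
      have p2 := hEpair j 2
      rw [hP, hM, iq_neg_right (h.genE j) (hsg j).2.gen, iq_neg_right (h.genE j) (gN j)]
      fin_cases j <;> simp at g0 g1 g2 p0 p1 p2 hb ⊢
      · obtain ⟨u, v, w⟩ := standard_coeff (iq (E 0) (a 0)) (iq (E 0) (a 1)) (iq (E 0) (a 2)) (by
          rw [eq_sub_of_add_eq' p0, eq_sub_of_add_eq' p1, eq_sub_of_add_eq' p2, g0, g1, g2] at hb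
          linear_combination hb)
        exact ⟨by omega, by omega⟩
      · obtain ⟨u, v, w⟩ := standard_coeff (iq (E 1) (a 1)) (iq (E 1) (a 2)) (iq (E 1) (a 0)) (by
          rw [eq_sub_of_add_eq' p0, eq_sub_of_add_eq' p1, eq_sub_of_add_eq' p2, g0, g1, g2] at hb
          linear_combination hb)
        exact ⟨by omega, by omega⟩
      · obtain ⟨u, v, w⟩ := standard_coeff (iq (E 2) (a 2)) (iq (E 2) (a 0)) (iq (E 2) (a 1)) (by
          rw [eq_sub_of_add_eq' p0, eq_sub_of_add_eq' p1, eq_sub_of_add_eq' p2, g0, g1, g2] at hb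
          linear_combination hb)
        exact ⟨by omega, by omega⟩
    refine Sg.of_iq (gsub (gadd (sP j).gen (sM j).gen) (h.genE j)) ?_
    rw [iq_sub_left (gadd (sP j).gen (sM j).gen) (h.genE j)
        (gsub (gadd (sP j).gen (sM j).gen) (h.genE j)),
      iq_sub_right (gadd (sP j).gen (sM j).gen) (gadd (sP j).gen (sM j).gen) (h.genE j),
      iq_sub_right (h.genE j) (gadd (sP j).gen (sM j).gen) (h.genE j),
      iq_add_left (sP j).gen (sM j).gen (gadd (sP j).gen (sM j).gen),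
      iq_add_left (sP j).gen (sM j).gen (h.genE j),
      iq_add_right (sP j).gen (sP j).gen (sM j).gen, iq_add_right (sM j).gen (sP j).gen (sM j).gen,
      iq_add_right (h.genE j) (sP j).gen (sM j).gen, (sP j).iq_self, (sM j).iq_self, hPM,
      iq_comm (sM j).gen (sP j).gen, hPM, iq_comm (sP j).gen (h.genE j),
      iq_comm (sM j).gen (h.genE j), hx.1, hx.2, h.EE]
    norm_num
  · have hp := hl.2
    simp only [hldef, List.pairwise_cons, List.mem_cons, List.not_mem_nil, or_false,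
      forall_eq_or_imp, forall_eq] at hp
    obtain ⟨⟨-, p01, -, p02, -⟩, -, ⟨-, p12, -⟩, -⟩ := hp
    have c := fun p q => iq_comm (hsg p).1.gen (hsg q).1.gen
    fin_cases j <;> fin_cases k <;>
      first
        | exact absurd rfl hjk
        | exact p01 | exact p02 | exact p12
        | exact (c _ _).trans p01 | exact (c _ _).trans p02 | exact (c _ _).trans p12

end CfsgLib.Char.ThreeFour
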