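import Mathlib.GroupTheory.SpecificGroups.Dihedral
import Mathlib.GroupTheory.Perm.Basic
import Mathlib.GroupTheory.NoncommCoprod
import Mathlib.Data.Fintype.Perm
import Mathlib.Tactic.FinCases

/-!
# The group of order 108: three dihedral groups of order 6 with an even number of reflections
-/

set_option autoImplicit false

namespace CfsgLib.Char.ThreeFour

/-- The dihedral group of order 6. -/
abbrev D3 := DihedralGroup 3

/-- The ambient product. -/
abbrev Amb := D3 × D3 × D3

/-- The sign character of `D3`. -/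
def sgn : D3 → ℤ
  | .r _ => 1
  | .sr _ => -1

/-- Three times the indicator of the rotations of order 3. -/
def cyc : D3 → ℤ
  | .r i => if i = 0 then 0 else 3
  | .sr _ => 0

/-- The character of degree 2. -/
def deg2 : D3 → ℤ
  | .r i => if i = 0 then 2 else -1
  | .sr _ => 0

/-- The coordinates. -/
def pr (j : Fin 3) (x : Amb) : D3 := if j = 0 then x.1 else if j = 1 then x.2.1 else x.2.2

/-- The product of the three signs is one. -/
def Ev (x : Amb) : Prop := sgn x.1 * sgn x.2.1 * sgn x.2.2 = 1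

instance : DecidablePred Ev := fun x => inferInstanceAs (Decidable (_ = (1 : ℤ)))

/-- The elements of the group. -/
def elts : Finset Amb := Finset.univ.filter Ev

/-- `1 + l_j - p_j`. -/
def fB (j : Fin 3) (x : Amb) : ℤ := cyc (pr j x)

/-- `l_k + l_l - m_j`. -/
def fC (j : Fin 3) (x : Amb) : ℤ := sgn (pr (j + 1) x) * cyc (pr j x)

/-- `p_j + m_j - q`. -/
def fE (j : Fin 3) (x : Amb) : ℤ := deg2 (pr j x) * cyc (pr (j + 1) x)

theorem card_elts : elts.card = 108 := by decide +kernel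

theorem sgn_mul : ∀ a b : D3, sgn (a * b) = sgn a * sgn b := by decide +kernel

theorem sgn_sq : ∀ a : D3, sgn a * sgn a = 1 := by decide +kernel

theorem conj_invariant : ∀ a b : D3,
    sgn (b * a * b⁻¹) = sgn a ∧ cyc (b * a * b⁻¹) = cyc a ∧ deg2 (b * a * b⁻¹) = deg2 a := by
  decide +kernel

theorem pow_six : ∀ a : D3, a * a * (a * a) * (a * a) = 1 := by decide +kernel

theorem amb_pow_six (x : Amb) : x ^ 6 = 1 := by
  have h : ∀ a : D3, a ^ 6 = 1 := fun a => by
    rw [show (6 : ℕ) = 2 + 2 + 2 from rfl, pow_add, pow_add, sq]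
    exact pow_six a
  ext <;> simp [h]

theorem pr_mul (j : Fin 3) (x y : Amb) : pr j (x * y) = pr j x * pr j y := by
  unfold pr
  split_ifs <;> rfl

theorem pr_inv (j : Fin 3) (x : Amb) : pr j x⁻¹ = (pr j x)⁻¹ := by
  unfold pr
  split_ifs <;> rfl

theorem fB_conj (j : Fin 3) (x y : Amb) : fB j (y * x * y⁻¹) = fB j x := by
  simp only [fB, pr_mul, pr_inv, (conj_invariant _ _).2.1]

theorem fC_conj (j : Fin 3) (x y : Amb) : fC j (y * x * y⁻¹) = fC j x := by
  simp only [fC, pr_mul, pr_inv, (conj_invariant _ _).1, (conj_invariant _ _).2.1]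

theorem fE_conj (j : Fin 3) (x y : Amb) : fE j (y * x * y⁻¹) = fE j x := by
  simp only [fE, pr_mul, pr_inv, (conj_invariant _ _).2.1, (conj_invariant _ _).2.2]

theorem supp_sq : ∀ x : Amb, ∀ j : Fin 3, x * x = 1 → fB j x = 0 ∧ fC j x = 0 ∧ fE j x = 0 := by
  decide +kernel

/-! ### Inner products -/

theorem sum_B : ∀ j : Fin 3, ∑ x ∈ elts, fB j x = 108 ∧ ∑ x ∈ elts, fC j x = 0 ∧
    ∑ x ∈ elts, fE j x = 0 := by decide +kernel

theorem sum_BB : ∀ j k : Fin 3, ∑ x ∈ elts, fB j x * fB k x = if j = k then 324 else 108 := by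
  decide +kernel

theorem sum_CC : ∀ j k : Fin 3, ∑ x ∈ elts, fC j x * fC k x = if j = k then 324 else 108 := by
  decide +kernel

theorem sum_EE : ∀ j : Fin 3, ∑ x ∈ elts, fE j x * fE j x = 324 := by decide +kernel

theorem sum_CB : ∀ j k : Fin 3, ∑ x ∈ elts, fC j x * fB k x = if j = k then 0 else 108 := by
  decide +kernel

theorem sum_EB : ∀ j k : Fin 3, ∑ x ∈ elts, fE j x * fB k x = if j = k then -108 else 0 := by
  decide +kernel

theorem sum_EC : ∀ j k : Fin 3, ∑ x ∈ elts, fE j x * fC k x = if j = k then -108 else 0 := by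
  decide +kernel

/-- The linear characters: trivial on the involution `j`. -/
def lin (j : Option (Fin 3)) (x : Amb) : ℤ :=
  match j with
  | none => 1
  | some j => sgn (pr j x)

theorem sum_lin : ∀ j : Option (Fin 3), ¬ ((∀ k, ∑ x ∈ elts, fB k x * lin j x = 0) ∧
    ∀ k, ∑ x ∈ elts, fC k x * lin j x = 108) := by decide +kernel

/-! ### Involutions -/

/-- The representatives of the three classes of involutions. -/
def inv (j : Fin 3) : Amb :=
  if j = 0 then (1, .sr 0, .sr 0) else if j = 1 then (.sr 0, 1, .sr 0) else (.sr 0, .sr 0, 1)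

/-- The conjugacy class of `inv j`. -/
def cls (j : Fin 3) : Finset Amb := elts.filter fun x => x * x = 1 ∧ x ≠ 1 ∧ sgn (pr j x) = 1

theorem inv_spec : ∀ j : Fin 3, Ev (inv j) ∧ inv j * inv j = 1 ∧ inv j ≠ 1 := by decide +kernel

theorem inv_mul : inv 0 * inv 1 = inv 2 := by decide +kernel

theorem sq_eq_one_cases : ∀ x ∈ elts, x * x = 1 → x ≠ 1 → ∃ j, x ∈ cls j := by decide +kernel

theorem cls_conj : ∀ j : Fin 3, ∀ x ∈ cls j, ∃ y ∈ elts, y * inv j * y⁻¹ = x := by decide +kernel

theorem cls_disjoint : ∀ j k : Fin 3, ∀ x ∈ cls j, x ∈ cls k → j = k := by decide +kernel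

theorem inv_mem_cls : ∀ j : Fin 3, inv j ∈ cls j := by decide +kernel

theorem decompose : ∀ x ∈ elts,
    x * x * x = 1 ∨ ∃ j, x * inv j * (x * inv j) * (x * inv j) = 1 := by decide +kernel

theorem cube_count : (elts.filter fun x => x * x * x = 1).card = 27 := by decide +kernel

theorem cube_inverted : ∀ x ∈ elts, x * x * x = 1 → ∃ a b c : Amb,
    a * a * a = 1 ∧ b * b * b = 1 ∧ c * c * c = 1 ∧ x = a * b * c ∧
    inv 1 * a * inv 1 = a⁻¹ ∧ inv 0 * b * inv 0 = b⁻¹ ∧ inv 0 * c * inv 0 = c⁻¹ := by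
  intro x hx h3
  refine ⟨(x.1, 1, 1), (1, x.2.1, 1), (1, 1, x.2.2), ?_⟩
  revert x
  decide +kernel

theorem cube_comm : ∀ a b : D3, a * a * a = 1 → b * b * b = 1 → a * b = b * a := by decide +kernel

theorem invo_moves : ∀ j : Fin 3, ∀ x ∈ cls j, ∃ y ∈ elts, y * y * y = 1 ∧
    y * x * y⁻¹ * x⁻¹ ≠ 1 ∧
    y * x * y⁻¹ * x⁻¹ * (y * x * y⁻¹ * x⁻¹) * (y * x * y⁻¹ * x⁻¹) = 1 := by decide +kernel

/-! ### The class sums -/

/-- `Σ f (y z)` over pairs of involutions from the classes in `S`. -/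
def pairSum (S : Finset (Fin 3)) (f : Amb → ℤ) : ℤ :=
  ∑ y ∈ S.biUnion cls, ∑ z ∈ S.biUnion cls, f (y * z)

theorem pairSum_zero : pairSum {0} (fB 0) = 0 ∧ pairSum {0} (fC 0) = 0 ∧
    pairSum {0} (fE 1) = 0 ∧ pairSum {0} (fE 2) = 0 ∧
    pairSum {0} (fB 1) ≠ 0 ∧ pairSum {0} (fB 2) ≠ 0 := by decide +kernel

theorem pairSum_two : pairSum {0, 1} (fB 1) = pairSum {0, 1} (fB 0) ∧
    pairSum {0, 1} (fB 2) = 4 * pairSum {0, 1} (fB 0) ∧
    pairSum {0, 1} (fC 0) = pairSum {0, 1} (fB 0) ∧
    pairSum {0, 1} (fC 2) = 0 ∧ pairSum {0, 1} (fE 2) = 0 ∧ pairSum {0, 1} (fB 0) ≠ 0 := by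
  decide +kernel

theorem pairSum_all : pairSum {0, 1, 2} (fB 1) = pairSum {0, 1, 2} (fB 0) ∧
    pairSum {0, 1, 2} (fB 2) = pairSum {0, 1, 2} (fB 0) ∧
    pairSum {0, 1, 2} (fC 0) = 0 ∧ pairSum {0, 1, 2} (fC 1) = 0 ∧ pairSum {0, 1, 2} (fC 2) = 0 ∧
    2 * pairSum {0, 1, 2} (fE 0) = pairSum {0, 1, 2} (fB 0) ∧
    pairSum {0, 1, 2} (fB 0) ≠ 0 := by decide +kernel

/-! ### Permutations of the coordinates -/

/-- Exchange of the first two coordinates. -/
def swap01 : Amb →* Amb :=
  { toFun := fun x => (x.2.1, x.1, x.2.2), map_one' := rfl, map_mul' := fun _ _ => rfl }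

/-- Exchange of the last two coordinates. -/
def swap12 : Amb →* Amb :=
  { toFun := fun x => (x.1, x.2.2, x.2.1), map_one' := rfl, map_mul' := fun _ _ => rfl }

theorem swap01_inv : swap01 (inv 0) = inv 1 ∧ swap01 (inv 1) = inv 0 ∧ swap01 (inv 2) = inv 2 := by
  decide +kernel

theorem swap12_inv : swap12 (inv 0) = inv 0 ∧ swap12 (inv 1) = inv 2 ∧ swap12 (inv 2) = inv 1 := by
  decide +kernel

theorem swap01_ev : ∀ x : Amb, Ev (swap01 x) ↔ Ev x := by decide +kernel

theorem swap12_ev : ∀ x : Amb, Ev (swap12 x) ↔ Ev x := by decide +kernel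

/-! ### As a permutation group of degree nine -/

/-- The action of `D3` on the block `j` of nine points. -/
def blockMap (j : Fin 3) (a : D3) (p : Fin 9) : Fin 9 :=
  if p.val / 3 = j.val then
    match a with
    | .r i => ⟨(3 * j.val + (p.val % 3 + i.val) % 3) % 9, Nat.mod_lt _ (by decide)⟩
    | .sr i => ⟨(3 * j.val + (10 - i.val - p.val % 3) % 3) % 9, Nat.mod_lt _ (by decide)⟩
  else p

theorem blockMap_mul : ∀ (j : Fin 3) (a b : D3) (p : Fin 9),
    blockMap j (a * b) p = blockMap j a (blockMap j b p) := by decide +kernel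

theorem blockMap_one : ∀ (j : Fin 3) (p : Fin 9), blockMap j 1 p = p := by decide +kernel

/-- The action as a homomorphism. -/
def block (j : Fin 3) : D3 →* Equiv.Perm (Fin 9) where
  toFun a :=
    { toFun := blockMap j a
      invFun := blockMap j a⁻¹
      left_inv := fun p => by rw [← blockMap_mul, inv_mul_cancel, blockMap_one]
      right_inv := fun p => by rw [← blockMap_mul, mul_inv_cancel, blockMap_one] }
  map_one' := Equiv.ext fun p => blockMap_one j p
  map_mul' a b := Equiv.ext fun p => blockMap_mul j a b p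

theorem block_comm : ∀ (j k : Fin 3), j ≠ k → ∀ (a b : D3) (p : Fin 9),
    blockMap j a (blockMap k b p) = blockMap k b (blockMap j a p) := by decide +kernel

theorem block_commute {j k : Fin 3} (h : j ≠ k) (a b : D3) : Commute (block j a) (block k b) :=
  Equiv.ext fun p => block_comm j k h a b p

/-- The action of the product on nine points. -/
def perm9 : Amb →* Equiv.Perm (Fin 9) :=
  MonoidHom.noncommCoprod (block 0)
    (MonoidHom.noncommCoprod (block 1) (block 2) fun a b => block_commute (by decide) a b)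
    fun a b => (block_commute (by decide) a b.1).mul_right (block_commute (by decide) a b.2)

theorem perm9_apply (x : Amb) (p : Fin 9) :
    perm9 x p = blockMap 0 x.1 (blockMap 1 x.2.1 (blockMap 2 x.2.2 p)) := rfl

theorem perm9_injective : Function.Injective perm9 := by
  have key : ∀ x : Amb, (∀ p : Fin 9, blockMap 0 x.1 (blockMap 1 x.2.1 (blockMap 2 x.2.2 p)) = p) →
      x = 1 := by decide +kernel
  refine (injective_iff_map_eq_one perm9).2 fun x hx => key x fun p => ?_
  rw [← perm9_apply, hx]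
  rfl

end CfsgLib.Char.ThreeFour
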