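import Cfsg.Agent.Lib.Char.Perm
import Cfsg.Agent.Lib.Char.ThreeFourModel
import Cfsg.Agent.Lib.Char.ThreeFourEmbed

/-!
# The group `3³:2²` with all centralizers of its 3-elements inside: linear characters

For each fusion pattern of the three classes of involutions, the class-algebra identities force
degree one.
-/

set_option autoImplicit false
set_option linter.unusedSectionVars false

namespace CfsgLib.Char.ThreeFour

open scoped ComplexConjugate
open Cfsg CfsgLib.Char CfsgLib.Char.Signed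

universe u

variable {G : Type u} [Group G] [Finite G]

/-- The hypotheses on the embedded subgroup. -/
structure Emb (H : Subgroup G) (φ : H →* Amb) : Prop where
  inj : Function.Injective φ
  mem : ∀ x : Amb, (∃ h : H, φ h = x) ↔ x ∈ elts
  cent : ∀ t : H, t * t * t = 1 → t ≠ 1 → Subgroup.centralizer ({(t : G)} : Set G) ≤ H
  norm : ∀ g : G, (∀ t : H, t * t * t = 1 → ∃ t' : H, t' * t' * t' = 1 ∧ (t' : G) = g * t * g⁻¹) →
    g ∈ H

variable {H : Subgroup G} {φ : H →* Amb}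

theorem Emb.pow_six (h : Emb H φ) (x : H) : x ^ 6 = 1 :=
  h.inj (by rw [map_pow, amb_pow_six, map_one])

theorem Emb.cube_iff (h : Emb H φ) (x : H) : x * x * x = 1 ↔ φ x * φ x * φ x = 1 := by
  rw [← map_mul, ← map_mul, map_eq_one_iff φ h.inj]

theorem Emb.sq_iff (h : Emb H φ) (x : H) : x * x = 1 ↔ φ x * φ x = 1 := by
  rw [← map_mul, map_eq_one_iff φ h.inj]

/-- An element of `H` mapped to `y`. -/
theorem Emb.lift (h : Emb H φ) {y : Amb} (hy : y ∈ elts) : ∃ x : H, φ x = y := (h.mem y).2 hy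

theorem Emb.map_mem (h : Emb H φ) (x : H) : φ x ∈ elts := (h.mem _).1 ⟨x, rfl⟩

theorem Emb.cube_comm (h : Emb H φ) {s t : H} (hs : s * s * s = 1) (ht : t * t * t = 1) :
    s * t = t * s := by
  rw [h.cube_iff] at hs ht
  apply h.inj
  rw [map_mul, map_mul]
  revert hs ht
  generalize φ s = p
  generalize φ t = q
  obtain ⟨a, b, c⟩ := p
  obtain ⟨a', b', c'⟩ := q
  intro hs ht
  simp only [Prod.mk_mul_mk, Prod.mk_eq_one] at hs ht ⊢
  rw [ThreeFour.cube_comm a a' hs.1 ht.1, ThreeFour.cube_comm b b' hs.2.1 ht.2.1,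
    ThreeFour.cube_comm c c' hs.2.2 ht.2.2]

/-- An element moving a non-trivial 3-element of `H` into `H` as a 3-element lies in `H`. -/
theorem Emb.mem_of_conj (h : Emb H φ) {g : G} {t t' : H} (ht : t * t * t = 1) (ht1 : t ≠ 1)
    (ht' : t' * t' * t' = 1) (e : g * t * g⁻¹ = t') : g ∈ H := by
  have ht'1 : t' ≠ 1 := by
    intro h1
    rw [h1, OneMemClass.coe_one] at e
    exact ht1 (Subtype.ext (conj_eq_one_iff.1 e))
  refine h.norm g fun s hs => ?_
  have hc : g * s * g⁻¹ ∈ Subgroup.centralizer ({(t' : G)} : Set G) := by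
    rw [Subgroup.mem_centralizer_singleton_iff, ← e]
    have := congrArg Subtype.val (h.cube_comm hs ht)
    simp only [Subgroup.coe_mul] at this
    calc g * ↑s * g⁻¹ * (g * ↑t * g⁻¹) = g * (↑s * ↑t) * g⁻¹ := by group
      _ = g * (↑t * ↑s) * g⁻¹ := by rw [this]
      _ = g * ↑t * g⁻¹ * (g * ↑s * g⁻¹) := by group
  refine ⟨⟨_, h.cent t' ht' ht'1 hc⟩, Subtype.ext ?_, rfl⟩
  have := congrArg Subtype.val hs
  simp only [Subgroup.coe_mul, OneMemClass.coe_one] at this ⊢
  calc g * ↑s * g⁻¹ * (g * ↑s * g⁻¹) * (g * ↑s * g⁻¹) = g * (↑s * ↑s * ↑s) * g⁻¹ := by group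
    _ = 1 := by rw [this]; group

theorem Emb.sq_cube (h : Emb H φ) (x : H) : x * x * (x * x) * (x * x) = 1 := by
  rw [← h.pow_six x]
  simp only [pow_succ, pow_zero, one_mul, mul_assoc]

variable [Fintype G]

/-- A class function of the model, pulled back and read in `ℂ`. -/
noncomputable def pull (φ : H →* Amb) (f : Amb → ℤ) : H → ℂ := fun x => (f (φ x) : ℂ)

theorem Emb.sum_pull (h : Emb H φ) [Fintype H] (f : Amb → ℤ) :
    ∑ x : H, f (φ x) = ∑ y ∈ elts, f y := by
  have e : Finset.univ.image φ = elts := by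
    ext y
    simpa using h.mem y
  rw [← e, Finset.sum_image fun a _ b _ hab => h.inj hab]

theorem Emb.card_eq (h : Emb H φ) : Nat.card H = 108 := by
  have := Fintype.ofFinite H
  have h1 := h.sum_pull fun _ => 1
  simp only [Finset.sum_const, card_elts, nsmul_eq_mul, mul_one] at h1
  rw [Nat.card_eq_fintype_card]
  exact_mod_cast h1

theorem Emb.classInner_pull (h : Emb H φ) [Fintype H] (f g : Amb → ℤ) :
    classInner (pull φ f) (pull φ g) = ((∑ y ∈ elts, f y * g y : ℤ) : ℂ) / 108 := by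
  rw [← h.sum_pull fun y => f y * g y]
  simp only [classInner, pull, map_intCast, h.card_eq]
  push_cast
  ring

theorem Emb.isClassFunction_pull (h : Emb H φ) {f : Amb → ℤ}
    (hf : ∀ x y, f (y * x * y⁻¹) = f x) : IsClassFunction H (pull φ f) := by
  intro a b
  simp only [pull, map_mul, map_inv, hf]

theorem Emb.indFun_apply (h : Emb H φ) {f : Amb → ℤ} (hf : ∀ x y, f (y * x * y⁻¹) = f x)
    (hs : ∀ x, x * x = 1 → f x = 0) {x : H} (hx : x * x ≠ 1) :
    indFun H (pull φ f) x = pull φ f x := by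
  classical
  have h1 : ∀ y : G, y ∉ H → extendByZero H (pull φ f) (y⁻¹ * x * y) = 0 := by
    intro y hy
    by_cases hm : y⁻¹ * (x : G) * y ∈ H
    · rw [extendByZero_mem H _ hm]
      by_contra hne
      set z : H := ⟨_, hm⟩
      have hz : z * z ≠ 1 := fun e => hne (by
        simp only [pull, hs _ ((h.sq_iff z).1 e), Int.cast_zero])
      refine hy (h.mem_of_conj (h.sq_cube z) hz (h.sq_cube x) ?_)
      simp only [Subgroup.coe_mul, z]
      group
    · exact extendByZero_not_mem H _ hm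
  have h2 : ∀ y : G, y ∈ H → extendByZero H (pull φ f) (y⁻¹ * x * y) = pull φ f x := by
    intro y hy
    rw [extendByZero_mem H _ (H.mul_mem (H.mul_mem (H.inv_mem hy) x.2) hy)]
    rw [show (⟨y⁻¹ * x * y, _⟩ : H) = (⟨y, hy⟩ : H)⁻¹ * x * (⟨y, hy⟩ : H)⁻¹⁻¹ from
      Subtype.ext (by simp), h.isClassFunction_pull hf]
  rw [indFun, Finset.sum_congr rfl (g := fun y => if y ∈ H then pull φ f x else 0) fun y _ => by
    split_ifs with hy
    · exact h2 y hy
    · exact h1 y hy]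
  rw [← Finset.sum_filter, Finset.sum_const, nsmul_eq_mul, ← Fintype.card_subtype,
    ← Nat.card_eq_fintype_card, ← mul_assoc, inv_mul_cancel₀ (by exact_mod_cast Nat.card_pos.ne'),
    one_mul]

theorem Emb.indFun_invol (h : Emb H φ) {f : Amb → ℤ} (hs : ∀ x, x * x = 1 → f x = 0) {g : G}
    (hg : g * g = 1) : indFun H (pull φ f) g = 0 := by
  rw [indFun, Finset.sum_eq_zero, mul_zero]
  intro y _
  by_cases hm : y⁻¹ * g * y ∈ H
  · rw [extendByZero_mem H _ hm]
    have e : (⟨_, hm⟩ : H) * ⟨_, hm⟩ = 1 := Subtype.ext (by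
      show y⁻¹ * g * y * (y⁻¹ * g * y) = 1
      rw [show y⁻¹ * g * y * (y⁻¹ * g * y) = y⁻¹ * (g * g) * y by group, hg]
      group)
    simp only [pull, hs _ ((h.sq_iff _).1 e), Int.cast_zero]
  · exact extendByZero_not_mem H _ hm

theorem Emb.classInner_indFun_pull (h : Emb H φ) {f g : Amb → ℤ}
    (hgc : ∀ x y, g (y * x * y⁻¹) = g x) (hfs : ∀ x, x * x = 1 → f x = 0)
    (hgs : ∀ x, x * x = 1 → g x = 0) :
    classInner (indFun H (pull φ f)) (indFun H (pull φ g)) =
      ((∑ y ∈ elts, f y * g y : ℤ) : ℂ) / 108 := by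
  have := Fintype.ofFinite H
  rw [classInner_indFun _ _ _ (isClassFunction_indFun _ _), ← h.classInner_pull]
  simp only [classInner]
  congr 1
  refine Finset.sum_congr rfl fun x _ => ?_
  by_cases hx : x * x = 1
  · simp only [pull, hfs _ ((h.sq_iff x).1 hx), Int.cast_zero, zero_mul]
  · rw [h.indFun_apply hgc hgs hx]

/-- The three families of functions on `G`. -/
noncomputable def Bf (φ : H →* Amb) (j : Fin 3) : G → ℂ := indFun H (pull φ (fB j))

/-- See `Bf`. -/
noncomputable def Cf (φ : H →* Amb) (j : Fin 3) : G → ℂ := indFun H (pull φ (fC j))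

/-- See `Bf`. -/
noncomputable def Ef (φ : H →* Amb) (j : Fin 3) : G → ℂ := indFun H (pull φ (fE j))

/-- The action of `D3` on three points. -/
def act3Map : D3 → ZMod 3 → ZMod 3
  | .r i, x => x + i
  | .sr i, x => -i - x

theorem act3Map_mul : ∀ (a b : D3) (x : ZMod 3), act3Map (a * b) x = act3Map a (act3Map b x) := by
  decide +kernel

theorem act3Map_one : ∀ x : ZMod 3, act3Map 1 x = x := by decide +kernel

/-- The action as a homomorphism. -/
def act3 : D3 →* Equiv.Perm (ZMod 3) where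
  toFun a :=
    { toFun := act3Map a
      invFun := act3Map a⁻¹
      left_inv := fun p => by rw [← act3Map_mul, inv_mul_cancel, act3Map_one]
      right_inv := fun p => by rw [← act3Map_mul, mul_inv_cancel, act3Map_one] }
  map_one' := Equiv.ext act3Map_one
  map_mul' a b := Equiv.ext fun p => act3Map_mul a b p

theorem act3_count : ∀ a : D3,
    deg2 a + 1 = ((Finset.univ.filter fun i => act3Map a i = i).card : ℤ) := by
  decide +kernel

theorem d3_values : sgn 1 = 1 ∧ deg2 1 = 2 ∧ sgn (.r 1) = 1 ∧ deg2 (.r 1) = -1 ∧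
    sgn (.r 2) = 1 ∧ deg2 (.r 2) = -1 ∧ sgn (.sr 0) = -1 ∧ deg2 (.sr 0) = 0 ∧
    sgn (.sr 1) = -1 ∧ deg2 (.sr 1) = 0 ∧ sgn (.sr 2) = -1 ∧ deg2 (.sr 2) = 0 := by
  decide +kernel

theorem isGeneralized_pull (f : D3 → ℤ) (π : H →* D3)
    (hf : Cfsg.IsGeneralizedCharacter D3 fun x => (f x : ℂ)) :
    Cfsg.IsGeneralizedCharacter H fun x => (f (π x) : ℂ) :=
  isGeneralizedCharacter_comp hf π

theorem d3_gen (f : D3 → ℤ) (hc : ∀ a b, f (b * a * b⁻¹) = f a)
    (hi : (∑ a, f a) % 6 = 0 ∧ (∑ a, f a * sgn a) % 6 = 0 ∧ (∑ a, f a * deg2 a) % 6 = 0) :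
    Cfsg.IsGeneralizedCharacter D3 fun x => (f x : ℂ) := by
  classical
  -- the three irreducible characters
  let sgnHom : D3 →* ℂˣ := (
    { toFun := fun a => ((sgn a : ℤ) : ℂ)
      map_one' := by norm_num [show sgn 1 = 1 from rfl]
      map_mul' := fun a b => by rw [sgn_mul]; push_cast; rfl } : D3 →* ℂ).toHomUnits
  have s1 : Cfsg.IsCharacter D3 fun _ => (1 : ℂ) := isCharacter_of_isIrr isIrrCharacter_one
  have s2 : Cfsg.IsCharacter D3 fun a => ((sgn a : ℤ) : ℂ) :=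
    isCharacter_of_isIrr (isIrrCharacter_lin sgnHom)
  have s3 : Cfsg.IsGeneralizedCharacter D3 fun a => ((deg2 a : ℤ) : ℂ) := by
    letI : MulAction D3 (ZMod 3) := MulAction.compHom _ act3
    have e : ∀ a : D3, ((deg2 a : ℤ) : ℂ) + 1 = permChar D3 (ZMod 3) a := by
      intro a
      rw [permChar, show Nat.card (MulAction.fixedBy (ZMod 3) a) =
        (Finset.univ.filter fun i => act3Map a i = i).card by
          rw [← Nat.card_eq_finsetCard]
          exact Nat.card_congr (Equiv.subtypeEquivRight fun i => by simp; rfl)]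
      exact_mod_cast act3_count a
    convert isGeneralizedCharacter_sub
      (isGeneralizedCharacter_of_isCharacter (isCharacter_permChar (G := D3) (X := ZMod 3)))
      (isGeneralizedCharacter_of_isCharacter s1) using 1
    funext a
    simp only [Pi.sub_apply, ← e a]
    ring
  obtain ⟨⟨p, hp⟩, ⟨q, hq⟩, ⟨r, hr⟩⟩ := hi.imp Int.dvd_of_emod_eq_zero
    (And.imp Int.dvd_of_emod_eq_zero Int.dvd_of_emod_eq_zero)
  have hexp : ∀ a, f a = p + q * sgn a + r * deg2 a := by
    have hrep : ∀ a : D3, a = 1 ∨ (∃ b, b * .r 1 * b⁻¹ = a) ∨ ∃ b, b * .sr 0 * b⁻¹ = a := by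
      decide +kernel
    have hu : (Finset.univ : Finset D3) =
        ({1, .r 1, .r 2, .sr 0, .sr 1, .sr 2} : Finset D3) := by decide +kernel
    have h2 : f (.r 2) = f (.r 1) := by
      rw [show (DihedralGroup.r 2 : D3) = .sr 0 * .r 1 * (.sr 0)⁻¹ by decide +kernel, hc]
    have h4 : f (.sr 1) = f (.sr 0) := by
      rw [show (DihedralGroup.sr 1 : D3) = .r 1 * .sr 0 * (.r 1)⁻¹ by decide +kernel, hc]
    have h5 : f (.sr 2) = f (.sr 0) := by
      rw [show (DihedralGroup.sr 2 : D3) = .r 2 * .sr 0 * (.r 2)⁻¹ by decide +kernel, hc]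
    have hsum : ∀ g : D3 → ℤ, ∑ a, g a =
        g 1 + (g (.r 1) + (g (.r 2) + (g (.sr 0) + (g (.sr 1) + g (.sr 2))))) := by
      intro g
      rw [hu, Finset.sum_insert (by decide), Finset.sum_insert (by decide),
        Finset.sum_insert (by decide), Finset.sum_insert (by decide),
        Finset.sum_insert (by decide), Finset.sum_singleton]
    obtain ⟨v1, v2, v3, v4, v5, v6, v7, v8, v9, v10, v11, v12⟩ := d3_values
    simp only [hsum, h2, h4, h5, v1, v2, v3, v4, v5, v6, v7, v8, v9, v10, v11, v12] at hp hq hr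
    intro a
    rcases hrep a with rfl | ⟨b, rfl⟩ | ⟨b, rfl⟩
    · rw [v1, v2]; omega
    · rw [hc, (conj_invariant _ b).1, (conj_invariant _ b).2.2, v3, v4]; omega
    · rw [hc, (conj_invariant _ b).1, (conj_invariant _ b).2.2, v7, v8]; omega
  have := isGeneralizedCharacter_add (isGeneralizedCharacter_add
    (isGeneralizedCharacter_zsmul (isGeneralizedCharacter_of_isCharacter s1) p)
    (isGeneralizedCharacter_zsmul (isGeneralizedCharacter_of_isCharacter s2) q))
    (isGeneralizedCharacter_zsmul s3 r)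
  convert this using 1
  funext a
  simp only [Pi.add_apply, Pi.smul_apply, smul_eq_mul, hexp a]
  push_cast
  ring

/-- A coordinate projection. -/
def prHom (j : Fin 3) : Amb →* D3 where
  toFun := pr j
  map_one' := by unfold pr; split_ifs <;> rfl
  map_mul' := pr_mul j

theorem Emb.gen (h : Emb H φ) (j : Fin 3) :
    Gen (Bf φ j) ∧ Gen (Cf φ j) ∧ Gen (Ef φ j) := by
  have := Fintype.ofFinite H
  have g : ∀ (f : D3 → ℤ), (∀ a b, f (b * a * b⁻¹) = f a) →
      ((∑ a, f a) % 6 = 0 ∧ (∑ a, f a * sgn a) % 6 = 0 ∧ (∑ a, f a * deg2 a) % 6 = 0) → ∀ k,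
      Cfsg.IsGeneralizedCharacter H fun x => (f (pr k (φ x)) : ℂ) := fun f hc hi k =>
    isGeneralized_pull f ((prHom k).comp φ) (d3_gen f hc hi)
  have cB := g cyc (fun a b => (conj_invariant a b).2.1) (by decide +kernel)
  have cS := g sgn (fun a b => (conj_invariant a b).1) (by decide +kernel)
  have cD := g deg2 (fun a b => (conj_invariant a b).2.2) (by decide +kernel)
  refine ⟨isGeneralizedCharacter_indFun H (cB j), isGeneralizedCharacter_indFun H ?_,
    isGeneralizedCharacter_indFun H ?_⟩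
  · convert isGeneralizedCharacter_mul (cS (j + 1)) (cB j) using 1
    funext x
    simp [pull, fC]
  · convert isGeneralizedCharacter_mul (cD j) (cB (j + 1)) using 1
    funext x
    simp [pull, fE]

theorem Emb.trivial_on_cubes (h : Emb H φ) {A : Type*} [CommGroup A] (lam : G →* A) {x : H}
    (hx : x * x * x = 1) : lam x = 1 := by
  obtain ⟨a, b, c, ha, hb, hc, he, ia, ib, ic⟩ :=
    cube_inverted (φ x) (h.map_mem x) ((h.cube_iff x).1 hx)
  have main : ∀ (p : Amb) (j : Fin 3), p ∈ elts → p * p * p = 1 → inv j * p * inv j = p⁻¹ →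
      ∀ y : H, φ y = p → lam y = 1 := by
    intro p j _ hp3 hpi y hy
    obtain ⟨i, hi⟩ := h.lift (show inv j ∈ elts from
      Finset.mem_filter.2 ⟨Finset.mem_univ _, (inv_spec j).1⟩)
    have e : i * y * i = y⁻¹ := h.inj (by rw [map_mul, map_mul, map_inv, hi, hy, hpi])
    have hi2 : i * i = 1 := (h.sq_iff i).2 (by rw [hi]; exact (inv_spec j).2.1)
    have e1 := congrArg (fun z : H => lam z) e
    simp only [Subgroup.coe_mul, Subgroup.coe_inv, map_mul, map_inv] at e1
    have e2 : lam i * lam i = 1 := by rw [← map_mul, ← Subgroup.coe_mul, hi2]; simp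
    have e3 : lam y * lam y * lam y = 1 := by
      rw [← map_mul, ← map_mul, ← Subgroup.coe_mul, ← Subgroup.coe_mul,
        (h.cube_iff y).2 (by rw [hy]; exact hp3)]
      simp
    have e4 : lam y = (lam y)⁻¹ := by
      rw [mul_comm (lam i), mul_assoc, e2, mul_one] at e1
      exact e1
    have e5 : lam y * lam y = 1 := mul_eq_one_iff_eq_inv.2 e4
    rwa [e5, one_mul] at e3
  have mema : ∀ p : Amb, p * p * p = 1 → p ∈ elts := by decide +kernel
  obtain ⟨ya, hya⟩ := h.lift (mema a ha)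
  obtain ⟨yb, hyb⟩ := h.lift (mema b hb)
  obtain ⟨yc, hyc⟩ := h.lift (mema c hc)
  have ex : x = ya * yb * yc := h.inj (by rw [map_mul, map_mul, hya, hyb, hyc, he])
  rw [ex, Subgroup.coe_mul, Subgroup.coe_mul, map_mul, map_mul, main a 1 (mema a ha) ha ia ya hya,
    main b 0 (mema b hb) hb ib yb hyb, main c 0 (mema c hc) hc ic yc hyc, one_mul, one_mul]

/-- The representative involution of class `j` in `H`. -/
noncomputable def Emb.rep (h : Emb H φ) (j : Fin 3) : H :=
  (h.lift (show inv j ∈ elts from Finset.mem_filter.2 ⟨Finset.mem_univ _, (inv_spec j).1⟩)).choose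

theorem Emb.phi_rep (h : Emb H φ) (j : Fin 3) : φ (h.rep j) = inv j :=
  (h.lift (show inv j ∈ elts from Finset.mem_filter.2 ⟨Finset.mem_univ _, (inv_spec j).1⟩)).choose_spec

theorem Emb.rep_sq (h : Emb H φ) (j : Fin 3) : (h.rep j : G) * (h.rep j : G) = 1 :=
  congrArg Subtype.val ((h.sq_iff (h.rep j)).2 (by rw [h.phi_rep]; exact (inv_spec j).2.1))

theorem Emb.rep_mul (h : Emb H φ) : h.rep 0 * h.rep 1 = h.rep 2 :=
  h.inj (by rw [map_mul, h.phi_rep, h.phi_rep, h.phi_rep, inv_mul])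

/-- A homomorphism to an abelian group is determined on `H` by the three involutions. -/
theorem Emb.hom_apply (h : Emb H φ) {A : Type*} [CommGroup A] (lam : G →* A) (x : H) :
    lam x = 1 ∨ ∃ j, lam x = lam (h.rep j) := by
  rcases decompose (φ x) (h.map_mem x) with hd | ⟨j, hd⟩
  · exact Or.inl (h.trivial_on_cubes lam ((h.cube_iff x).2 hd))
  · refine Or.inr ⟨j, ?_⟩
    have h1 := h.trivial_on_cubes lam (x := x * h.rep j) ((h.cube_iff _).2 (by
      rw [map_mul, h.phi_rep]; exact hd))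
    rw [Subgroup.coe_mul, map_mul] at h1
    have h2 : lam (h.rep j) * lam (h.rep j) = 1 := by rw [← map_mul, h.rep_sq, map_one]
    calc lam x = lam x * (lam (h.rep j) * lam (h.rep j)) := by rw [h2, mul_one]
      _ = lam (h.rep j) := by rw [← mul_assoc, h1, one_mul]

theorem Emb.hom_eq_one (h : Emb H φ) {A : Type*} [CommGroup A] (lam : G →* A)
    (h0 : lam (h.rep 0) = 1) (h1 : lam (h.rep 1) = 1) (x : H) : lam x = 1 := by
  rcases h.hom_apply lam x with e | ⟨j, e⟩
  · exact e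
  · have h2 : lam (h.rep 2) = 1 := by rw [← h.rep_mul, Subgroup.coe_mul, map_mul, h0, h1, one_mul]
    fin_cases j
    · exact e.trans h0
    · exact e.trans h1
    · exact e.trans h2

theorem Emb.table (h : Emb H φ) : Table (Bf φ) (Cf φ) (Ef φ) := by
  have := Fintype.ofFinite H
  have sB : ∀ j x, x * x = 1 → fB j x = 0 := fun j x hx => (supp_sq x j hx).1
  have sC : ∀ j x, x * x = 1 → fC j x = 0 := fun j x hx => (supp_sq x j hx).2.1
  have sE : ∀ j x, x * x = 1 → fE j x = 0 := fun j x hx => (supp_sq x j hx).2.2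
  have hone : ∀ f : Amb → ℤ, classInner (indFun H (pull φ f)) (one G) =
      ((∑ y ∈ elts, f y : ℤ) : ℂ) / 108 := by
    intro f
    rw [classInner_indFun H (pull φ f) (one G) (fun _ _ => rfl)]
    have := h.classInner_pull f fun _ => 1
    simp only [mul_one] at this
    rw [← this]
    congr 1
    funext x
    simp [pull, one]
  refine ⟨fun j => (h.gen j).1, fun j => (h.gen j).2.1, fun j => (h.gen j).2.2, fun j => ?_,
    fun j => ?_, fun j => ?_, fun j k => ?_, fun j k => ?_, fun j => ?_, fun j k => ?_,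
    fun j k => ?_, fun j k => ?_, fun j => h.indFun_invol (sB j) (mul_one 1),
    fun j => h.indFun_invol (sC j) (mul_one 1), fun j => h.indFun_invol (sE j) (mul_one 1),
    fun v hv hv1 hB hC => ?_⟩
  · exact iq_eq _ (by rw [Bf, hone, (sum_B j).1]; norm_num)
  · exact iq_eq _ (by rw [Cf, hone, (sum_B j).2.1]; norm_num)
  · exact iq_eq _ (by rw [Ef, hone, (sum_B j).2.2]; norm_num)
  · exact iq_eq _ (by rw [Bf, Bf, h.classInner_indFun_pull (fB_conj k) (sB j) (sB k), sum_BB]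
                      split_ifs <;> norm_num)
  · exact iq_eq _ (by rw [Cf, Cf, h.classInner_indFun_pull (fC_conj k) (sC j) (sC k), sum_CC]
                      split_ifs <;> norm_num)
  · exact iq_eq _ (by rw [Ef, h.classInner_indFun_pull (fE_conj j) (sE j) (sE j), sum_EE]
                      norm_num)
  · exact iq_eq _ (by rw [Cf, Bf, h.classInner_indFun_pull (fB_conj k) (sC j) (sB k), sum_CB]
                      split_ifs <;> norm_num)
  · exact iq_eq _ (by rw [Ef, Bf, h.classInner_indFun_pull (fB_conj k) (sE j) (sB k), sum_EB]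
                      split_ifs <;> norm_num)
  · exact iq_eq _ (by rw [Ef, Cf, h.classInner_indFun_pull (fC_conj k) (sE j) (sC k), sum_EC]
                      split_ifs <;> norm_num)
  · obtain ⟨lam, hlam⟩ := hv.exists_hom hv1
    have hsq : ∀ j, (lam (h.rep j) : ℂ) = 1 ∨ (lam (h.rep j) : ℂ) = -1 := fun j => by
      refine mul_self_eq_one_iff.1 ?_
      rw [← Units.val_mul, ← map_mul, h.rep_sq, map_one, Units.val_one]
    obtain ⟨o, ho⟩ : ∃ o, ∀ x : H, (lam x : ℂ) = (lin o (φ x) : ℂ) := by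
      have hcube : ∀ (o : Option (Fin 3)) (y : Amb), y * y * y = 1 → lin o y = 1 := by decide +kernel
      have hlin : ∀ (o : Option (Fin 3)) (y : Amb) (j : Fin 3), y * inv j * (y * inv j) * (y * inv j) = 1 →
          lin o y = lin o (inv j) := by decide +kernel
      have h2 : lam (h.rep 2) = lam (h.rep 0) * lam (h.rep 1) := by
        rw [← map_mul, ← Subgroup.coe_mul, h.rep_mul]
      have main : ∀ o : Option (Fin 3), (∀ j, (lam (h.rep j) : ℂ) = (lin o (inv j) : ℂ)) →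
          ∀ x : H, (lam x : ℂ) = (lin o (φ x) : ℂ) := by
        intro o hj x
        rcases decompose (φ x) (h.map_mem x) with hd | ⟨j, hd⟩
        · rw [h.trivial_on_cubes lam ((h.cube_iff x).2 hd), hcube o _ hd]
          norm_num
        · have h1 := h.trivial_on_cubes lam (x := x * h.rep j) ((h.cube_iff _).2 (by
            rw [map_mul, h.phi_rep]; exact hd))
          rw [Subgroup.coe_mul, map_mul] at h1
          rw [hlin o _ j hd, ← hj j]
          congr 1
          have h2' : lam (h.rep j) * lam (h.rep j) = 1 := by rw [← map_mul, h.rep_sq, map_one]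
          calc lam x = lam x * (lam (h.rep j) * lam (h.rep j)) := by rw [h2', mul_one]
            _ = lam (h.rep j) := by rw [← mul_assoc, h1, one_mul]
      have h2c : (lam (h.rep 2) : ℂ) = lam (h.rep 0) * lam (h.rep 1) := by rw [h2, Units.val_mul]
      have hm : ∀ o : Option (Fin 3), lin o (inv 2) = lin o (inv 0) * lin o (inv 1) := by
        decide +kernel
      have v : ∀ o : Option (Fin 3), ∀ a b : ℤ, lin o (inv 0) = a → lin o (inv 1) = b →
          (lam (h.rep 0) : ℂ) = a → (lam (h.rep 1) : ℂ) = b → ∃ o, ∀ x : H, (lam x : ℂ) = (lin o (φ x) : ℂ) := by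
        intro o a b ha hb ea eb
        refine ⟨o, main o fun j => ?_⟩
        fin_cases j
        · simpa [ha] using ea
        · simpa [hb] using eb
        · show (lam (h.rep 2) : ℂ) = ((lin o (inv 2) : ℤ) : ℂ)
          rw [h2c, ea, eb, hm, ha, hb]; push_cast; rfl
      rcases hsq 0 with e0 | e0 <;> rcases hsq 1 with e1 | e1
      · exact v none 1 1 rfl rfl (by simpa using e0) (by simpa using e1)
      · exact v (some 0) 1 (-1) (by decide +kernel) (by decide +kernel) (by simpa using e0)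
          (by simpa using e1)
      · exact v (some 1) (-1) 1 (by decide +kernel) (by decide +kernel) (by simpa using e0)
          (by simpa using e1)
      · exact v (some 2) (-1) (-1) (by decide +kernel) (by decide +kernel) (by simpa using e0)
          (by simpa using e1)
    have e : ∀ f : Amb → ℤ, classInner (indFun H (pull φ f)) v =
        ((∑ y ∈ elts, f y * lin o y : ℤ) : ℂ) / 108 := by
      intro f
      rw [classInner_indFun H (pull φ f) v (isClassFunction_of_isGeneralized hv.gen),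
        ← h.classInner_pull]
      congr 1
      funext x
      rw [← hlam]; exact ho x
    refine sum_lin o ⟨fun k => ?_, fun k => ?_⟩
    · have := (iq_spec (h.gen k).1 hv.gen).symm.trans (e (fB k))
      rw [hB] at this
      field_simp at this
      exact_mod_cast this.symm
    · have := (iq_spec (h.gen k).2.1 hv.gen).symm.trans (e (fC k))
      rw [hC] at this
      field_simp at this
      exact_mod_cast this.symm

/-- The class-algebra identity for a pulled-back function at the involution class of `i`. -/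
theorem Emb.qfun_pull (h : Emb H φ) (i : G) (hi : i * i = 1) (hi1 : i ≠ 1) (S : Finset (Fin 3))
    (hS : ∀ j, j ∈ S ↔ IsConj i (h.rep j : G)) :
    ∃ c : ℂ, c ≠ 0 ∧ ∀ f : Amb → ℤ, (∀ x, x * x = 1 → f x = 0) →
      qfun i (indFun H (pull φ f)) = c * (pairSum S f : ℂ) := by
  classical
  have := Fintype.ofFinite H
  refine ⟨(Nat.card G : ℂ) / ((Nat.card H : ℂ) * (Nat.card {x : G // IsConj i x} : ℂ) ^ 2), ?_, ?_⟩
  · have : Nonempty {x : G // IsConj i x} := ⟨⟨i, IsConj.refl i⟩⟩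
    exact div_ne_zero (by exact_mod_cast Nat.card_pos.ne')
      (mul_ne_zero (by exact_mod_cast Nat.card_pos.ne')
        (pow_ne_zero _ (by exact_mod_cast Nat.card_pos.ne')))
  intro f hf
  have hloc : ∀ x : H, pull φ f x ≠ 0 → ∀ y z : G, IsConj i y → IsConj i z → y * z = (x : G) →
      y ∈ H := by
    intro x hx y z hy hz hyz
    have hinv : ∀ w : G, IsConj i w → w * w = 1 := by
      intro w hw
      obtain ⟨g, rfl⟩ := isConj_iff.1 hw
      rw [show g * i * g⁻¹ * (g * i * g⁻¹) = g * (i * i) * g⁻¹ by group, hi]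
      group
    have hx2 : x * x ≠ 1 := fun e => hx (by simp only [pull, hf _ ((h.sq_iff x).1 e), Int.cast_zero])
    have hsq := h.sq_cube x
    refine h.mem_of_conj (t := x * x) (t' := (x * x)⁻¹) hsq hx2 ?_ ?_
    · rw [← mul_inv_rev, ← mul_inv_rev, inv_eq_one, ← mul_assoc]
      exact hsq
    · have hy2 := hinv y hy
      have hz2 := hinv z hz
      simp only [Subgroup.coe_mul, Subgroup.coe_inv, ← hyz]
      rw [inv_eq_of_mul_eq_one_right hy2, mul_inv_rev, mul_inv_rev,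
        inv_eq_of_mul_eq_one_right hy2, inv_eq_of_mul_eq_one_right hz2]
      calc y * (y * z * (y * z)) * y = (y * y) * z * (y * z) * y := by group
        _ = z * y * z * y := by rw [hy2]; group
        _ = z * y * (z * y) := by group
  obtain ⟨C, -, hC, he⟩ := qfun_indFun H i (pull φ f) hloc
  rw [he, hC]
  congr 1
  have hKiff : ∀ y : H, IsConj i (y : G) ↔ φ y ∈ S.biUnion cls := by
    intro y
    constructor
    · intro hy
      have hy2 : (y : G) * y = 1 := by
        obtain ⟨g, hg⟩ := isConj_iff.1 hy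
        rw [← hg, show g * i * g⁻¹ * (g * i * g⁻¹) = g * (i * i) * g⁻¹ by group, hi]
        group
      have hy1 : y ≠ 1 := by
        intro e
        rw [e, OneMemClass.coe_one] at hy
        exact hi1 (isConj_one_left.1 hy)
      obtain ⟨j, hj⟩ := sq_eq_one_cases (φ y) (h.map_mem y) ((h.sq_iff y).1 (Subtype.ext hy2))
        (fun e => hy1 (h.inj (e.trans (map_one φ).symm)))
      obtain ⟨w, hw, hwe⟩ := cls_conj j _ hj
      obtain ⟨w', rfl⟩ := h.lift hw
      refine Finset.mem_biUnion.2 ⟨j, (hS j).2 (hy.trans ?_), hj⟩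
      have : w' * h.rep j * w'⁻¹ = y := h.inj (by rw [map_mul, map_mul, map_inv, h.phi_rep, hwe])
      exact (isConj_iff.2 ⟨(w' : G), by rw [← this]; simp⟩).symm
    · intro hy
      obtain ⟨j, hjS, hj⟩ := Finset.mem_biUnion.1 hy
      obtain ⟨w, hw, hwe⟩ := cls_conj j _ hj
      obtain ⟨w', rfl⟩ := h.lift hw
      refine ((hS j).1 hjS).trans (isConj_iff.2 ⟨(w' : G), ?_⟩)
      have : w' * h.rep j * w'⁻¹ = y := h.inj (by rw [map_mul, map_mul, map_inv, h.phi_rep, hwe])
      rw [← this]; simp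
  rw [finsum_eq_sum_of_fintype, Fintype.sum_prod_type]
  have hsum : ∀ g : Amb → ℂ, ∑ y : {y : H // IsConj i (y : G)}, g (φ y.1) =
      ∑ a ∈ S.biUnion cls, g a := by
    intro g
    refine Finset.sum_bij (fun y _ => φ y.1) (fun y _ => (hKiff y.1).1 y.2)
      (fun a _ b _ e => Subtype.ext (h.inj e)) (fun a ha => ?_) fun _ _ => rfl
    have ha' : a ∈ elts := by
      obtain ⟨j, -, hj⟩ := Finset.mem_biUnion.1 ha
      exact (Finset.mem_filter.1 hj).1
    obtain ⟨y, rfl⟩ := h.lift ha'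
    exact ⟨⟨y, (hKiff y).2 ha⟩, Finset.mem_univ _, rfl⟩
  simp only [pairSum, pull, map_mul]
  rw [hsum fun a => ∑ y : {y : H // IsConj i (y : G)}, (f (a * φ y.1) : ℂ)]
  push_cast
  exact Finset.sum_congr rfl fun a _ => hsum fun b => (f (a * b) : ℂ)

/-! ### The three fusion patterns -/

theorem exists_values (h : Emb H φ) (i : G) (hi : i * i = 1) :
    ∃ (L : Fin 3 → G → ℂ), (∀ j, Sg (L j)) ∧ (∀ j k, j ≠ k → iq (L j) (L k) = 0) ∧
      (∀ j, iq (L j) (one G) = 0) ∧
      (∀ j, 1 + L j 1 ≠ 0 ∧ L (j + 1) 1 + L (j + 2) 1 ≠ 0 ∧ 1 + L j 1 + (L (j + 1) 1 + L (j + 2) 1) ≠ 0) ∧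
      (∀ j, qfun i (Bf φ j) = 1 + L j i ^ 2 / L j 1 - (1 + L j i) ^ 2 / (1 + L j 1)) ∧
      (∀ j, qfun i (Cf φ j) = L (j + 1) i ^ 2 / L (j + 1) 1 + L (j + 2) i ^ 2 / L (j + 2) 1 -
        (L (j + 1) i + L (j + 2) i) ^ 2 / (L (j + 1) 1 + L (j + 2) 1)) ∧
      ∀ j, qfun i (Ef φ j) = (1 + L j i) ^ 2 / (1 + L j 1) +
        (L (j + 1) i + L (j + 2) i) ^ 2 / (L (j + 1) 1 + L (j + 2) 1) -
        (1 + L j i + (L (j + 1) i + L (j + 2) i)) ^ 2 /
          (1 + L j 1 + (L (j + 1) 1 + L (j + 2) 1)) := by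
  obtain ⟨L, P, M, R, d⟩ := h.table.decomp
  have val : ∀ (g : G), g * g = 1 → ∀ j, P j g = 1 + L j g ∧ M j g = L (j + 1) g + L (j + 2) g ∧
      R j g = 1 + L j g + (L (j + 1) g + L (j + 2) g) := by
    intro g hg j
    have a := h.indFun_invol (f := fB j) (fun x hx => (supp_sq x j hx).1) hg
    have b := h.indFun_invol (f := fC j) (fun x hx => (supp_sq x j hx).2.1) hg
    have c := h.indFun_invol (f := fE j) (fun x hx => (supp_sq x j hx).2.2) hg
    rw [show indFun H (pull φ (fB j)) = Bf φ j from rfl, d.eqB] at a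
    rw [show indFun H (pull φ (fC j)) = Cf φ j from rfl, d.eqC] at b
    rw [show indFun H (pull φ (fE j)) = Ef φ j from rfl, d.eqE] at c
    simp only [Pi.add_apply, Pi.sub_apply, one] at a b c
    refine ⟨?_, ?_, ?_⟩
    · linear_combination -a
    · linear_combination -b
    · linear_combination -c - a - b
  refine ⟨L, d.sgL, d.orthL, d.L1, fun j => ⟨?_, ?_, ?_⟩, fun j => ?_, fun j => ?_, fun j => ?_⟩
  · rw [← (val 1 (mul_one 1) j).1]; exact (d.sgP j).apply_one_ne
  · rw [← (val 1 (mul_one 1) j).2.1]; exact (d.sgM j).apply_one_ne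
  · rw [← (val 1 (mul_one 1) j).2.2]; exact (d.sgR j).apply_one_ne
  · rw [d.eqB, qfun_sub, qfun_add, qfun_sg i sg_one, qfun_sg i (d.sgL j), qfun_sg i (d.sgP j),
      (val i hi j).1, (val 1 (mul_one 1) j).1]
    simp [one]
  · rw [d.eqC, qfun_sub, qfun_add, qfun_sg i (d.sgL _), qfun_sg i (d.sgL _), qfun_sg i (d.sgM j),
      (val i hi j).2.1, (val 1 (mul_one 1) j).2.1]
  · rw [d.eqE, qfun_sub, qfun_add, qfun_sg i (d.sgP j), qfun_sg i (d.sgM j), qfun_sg i (d.sgR j),
      (val i hi j).1, (val i hi j).2.1, (val i hi j).2.2, (val 1 (mul_one 1) j).1,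
      (val 1 (mul_one 1) j).2.1, (val 1 (mul_one 1) j).2.2]

theorem bf_identity {x d : ℂ} (hd : d ≠ 0) (hd1 : 1 + d ≠ 0) :
    1 + x ^ 2 / d - (1 + x) ^ 2 / (1 + d) = (x - d) ^ 2 / (d * (1 + d)) := by
  field_simp
  ring

theorem pair_identity {A B a b : ℂ} (ha : a ≠ 0) (hb : b ≠ 0) (hab : a + b ≠ 0) :
    A ^ 2 / a + B ^ 2 / b - (A + B) ^ 2 / (a + b) = (A * b - B * a) ^ 2 / (a * b * (a + b)) := by
  field_simp
  ring

theorem pair_zero {A B a b : ℂ} (ha : a ≠ 0) (hb : b ≠ 0) (hab : a + b ≠ 0)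
    (h : A ^ 2 / a + B ^ 2 / b - (A + B) ^ 2 / (a + b) = 0) : A * b = B * a := by
  rw [pair_identity ha hb hab, div_eq_zero_iff] at h
  exact sub_eq_zero.1 (eq_zero_of_pow_eq_zero
    (h.resolve_right (mul_ne_zero (mul_ne_zero ha hb) hab)))

/-- Case of an isolated class: a linear character with `i` in its kernel. -/
theorem case_single {x0 x1 x2 d0 d1 d2 : ℂ} (n0 : d0 ≠ 0) (n1 : d1 ≠ 0) (n2 : d2 ≠ 0)
    (m0 : 1 + d0 ≠ 0) (m1 : 1 + d1 ≠ 0) (m2 : 1 + d2 ≠ 0) (k0 : d1 + d2 ≠ 0)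
    (k1 : d2 + d0 ≠ 0) (k2 : d0 + d1 ≠ 0) (t1 : 1 + d1 + (d2 + d0) ≠ 0)
    (t2 : 1 + d2 + (d0 + d1) ≠ 0)
    (b0 : 1 + x0 ^ 2 / d0 - (1 + x0) ^ 2 / (1 + d0) = 0)
    (b1 : 1 + x1 ^ 2 / d1 - (1 + x1) ^ 2 / (1 + d1) ≠ 0)
    (b2 : 1 + x2 ^ 2 / d2 - (1 + x2) ^ 2 / (1 + d2) ≠ 0)
    (c0 : x1 ^ 2 / d1 + x2 ^ 2 / d2 - (x1 + x2) ^ 2 / (d1 + d2) = 0)
    (e1 : (1 + x1) ^ 2 / (1 + d1) + (x2 + x0) ^ 2 / (d2 + d0) -
      (1 + x1 + (x2 + x0)) ^ 2 / (1 + d1 + (d2 + d0)) = 0)
    (e2 : (1 + x2) ^ 2 / (1 + d2) + (x0 + x1) ^ 2 / (d0 + d1) -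
      (1 + x2 + (x0 + x1)) ^ 2 / (1 + d2 + (d0 + d1)) = 0) : d0 = 1 ∧ x0 = 1 := by
  rw [bf_identity n0 m0, div_eq_zero_iff] at b0
  have hx0 : x0 = d0 := sub_eq_zero.1 (eq_zero_of_pow_eq_zero
    (b0.resolve_right (mul_ne_zero n0 m0)))
  subst hx0
  have hx1 : x1 - d1 ≠ 0 := fun h => b1 (by rw [bf_identity n1 m1, h]; simp)
  have hx2 : x2 - d2 ≠ 0 := fun h => b2 (by rw [bf_identity n2 m2, h]; simp)
  have hc := pair_zero n1 n2 k0 c0
  have g1 := pair_zero m1 k1 t1 e1
  have g2 := pair_zero m2 k2 t2 e2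
  have f1 : (d1 * x0 - d2) * (x1 - d1) = 0 := by linear_combination d1 * g1 - (1 + d1) * hc
  have f2 : (d2 * x0 - d1) * (x2 - d2) = 0 := by linear_combination d2 * g2 + (1 + d2) * hc
  have p1 := (mul_eq_zero.1 f1).resolve_right hx1
  have p2 := (mul_eq_zero.1 f2).resolve_right hx2
  have p3 : (x0 - 1) * (1 + x0) * d1 = 0 := by linear_combination x0 * p1 + p2
  have : x0 = 1 := sub_eq_zero.1 ((mul_eq_zero.1 ((mul_eq_zero.1 p3).resolve_right n1)).resolve_right m0)
  exact ⟨this, this⟩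

/-- Case of two fused classes: two linear characters agreeing there. -/
theorem case_two {x0 x1 x2 d0 d1 d2 w : ℂ} (hw : w ≠ 0) (n0 : d0 ≠ 0) (n1 : d1 ≠ 0) (n2 : d2 ≠ 0)
    (m0 : 1 + d0 ≠ 0) (m1 : 1 + d1 ≠ 0) (m2 : 1 + d2 ≠ 0) (k0 : d1 + d2 ≠ 0)
    (k2 : d0 + d1 ≠ 0) (t2 : 1 + d2 + (d0 + d1) ≠ 0)
    (b0 : 1 + x0 ^ 2 / d0 - (1 + x0) ^ 2 / (1 + d0) = w)
    (b1 : 1 + x1 ^ 2 / d1 - (1 + x1) ^ 2 / (1 + d1) = w)
    (b2 : 1 + x2 ^ 2 / d2 - (1 + x2) ^ 2 / (1 + d2) = 4 * w)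
    (c0 : x1 ^ 2 / d1 + x2 ^ 2 / d2 - (x1 + x2) ^ 2 / (d1 + d2) = w)
    (c2 : x0 ^ 2 / d0 + x1 ^ 2 / d1 - (x0 + x1) ^ 2 / (d0 + d1) = 0)
    (e2 : (1 + x2) ^ 2 / (1 + d2) + (x0 + x1) ^ 2 / (d0 + d1) -
      (1 + x2 + (x0 + x1)) ^ 2 / (1 + d2 + (d0 + d1)) = 0) :
    d0 = 1 ∧ d1 = 1 ∧ x0 = x1 := by
  have hc := pair_zero n0 n1 k2 c2
  have g := pair_zero m2 k2 t2 e2
  rw [bf_identity n0 m0] at b0
  rw [bf_identity n1 m1] at b1
  rw [bf_identity n2 m2] at b2
  rw [pair_identity n1 n2 k0] at c0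
  have hr : x0 - d0 ≠ 0 := fun h => hw (by rw [← b0, h]; simp)
  have hr2 : (x0 - d0) ^ 2 ≠ 0 := pow_ne_zero _ hr
  have r1 : (x1 - d1) * d0 = (x0 - d0) * d1 := by linear_combination -hc
  have hdd : d1 = d0 := by
    have e := b1.trans b0.symm
    rw [div_eq_div_iff (mul_ne_zero n1 m1) (mul_ne_zero n0 m0)] at e
    have e2 : (x0 - d0) ^ 2 * d1 * (d1 - d0) = 0 := by
      linear_combination (d0 : ℂ) * e - ((x1 - d1) * d0 + (x0 - d0) * d1) * (1 + d0) * r1
    rcases mul_eq_zero.1 e2 with e3 | e3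
    · exact absurd e3 (mul_ne_zero hr2 n1)
    · exact sub_eq_zero.1 e3
  subst hdd
  have hx : x1 = x0 := sub_eq_zero.1 ((mul_eq_zero.1
    (show (x1 - x0) * d1 = 0 by linear_combination -hc)).resolve_right n1)
  subst hx
  have g' : (1 + x2) * d1 = x1 * (1 + d2) := by linear_combination g / 2
  have r2 : (x2 - d2) * d1 = (x1 - d1) * (1 + d2) := by linear_combination g'
  have eA : (1 + d2) * (1 + d1) = 4 * d1 * d2 := by
    have e := b2.trans (congrArg (fun z => 4 * z) b0.symm)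
    rw [mul_div_assoc', div_eq_div_iff (mul_ne_zero n2 m2) (mul_ne_zero n1 m1)] at e
    refine mul_left_cancel₀ (mul_ne_zero hr2 (mul_ne_zero n1 m2)) ?_
    linear_combination d1 ^ 2 * e - ((x2 - d2) * d1 + (x1 - d1) * (1 + d2)) * d1 * (1 + d1) * r2
  have r3 : x1 * d2 - x2 * d1 = -(x1 - d1) := by linear_combination -g'
  have eB : 1 + d1 = d2 * (d1 + d2) := by
    have e := c0.trans b0.symm
    rw [r3, div_eq_div_iff (mul_ne_zero (mul_ne_zero n1 n2) k0) (mul_ne_zero n1 m1)] at e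
    refine mul_left_cancel₀ (mul_ne_zero hr2 n1) ?_
    linear_combination e
  have e3 : (d2 - 1) * (d2 + d1 + 1) = 0 := by linear_combination -eB
  rcases mul_eq_zero.1 e3 with h | h
  · have hd2 : d2 = 1 := sub_eq_zero.1 h
    subst hd2
    have : d1 = 1 := by linear_combination (-1 / 2 : ℂ) * eA
    exact ⟨this, this, rfl⟩
  · exfalso
    have hd2 : d2 = -(d1 + 1) := by linear_combination h
    subst hd2
    have : 3 * d1 * (1 + d1) = 0 := by linear_combination eA
    exact mul_ne_zero (mul_ne_zero (by norm_num) n1) m1 this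

/-- Case of three fused classes. -/
theorem case_all {x0 x1 x2 d0 d1 d2 w : ℂ} (hw : w ≠ 0) (n0 : d0 ≠ 0) (n1 : d1 ≠ 0) (n2 : d2 ≠ 0)
    (m0 : 1 + d0 ≠ 0) (m1 : 1 + d1 ≠ 0) (m2 : 1 + d2 ≠ 0) (k0 : d1 + d2 ≠ 0)
    (k1 : d2 + d0 ≠ 0) (k2 : d0 + d1 ≠ 0) (t0 : 1 + d0 + (d1 + d2) ≠ 0)
    (b0 : 1 + x0 ^ 2 / d0 - (1 + x0) ^ 2 / (1 + d0) = w)
    (b1 : 1 + x1 ^ 2 / d1 - (1 + x1) ^ 2 / (1 + d1) = w)
    (b2 : 1 + x2 ^ 2 / d2 - (1 + x2) ^ 2 / (1 + d2) = w)
    (c1 : x2 ^ 2 / d2 + x0 ^ 2 / d0 - (x2 + x0) ^ 2 / (d2 + d0) = 0)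
    (c2 : x0 ^ 2 / d0 + x1 ^ 2 / d1 - (x0 + x1) ^ 2 / (d0 + d1) = 0)
    (e0 : 2 * ((1 + x0) ^ 2 / (1 + d0) + (x1 + x2) ^ 2 / (d1 + d2) -
      (1 + x0 + (x1 + x2)) ^ 2 / (1 + d0 + (d1 + d2))) = w) : d0 = 1 := by
  rw [bf_identity n0 m0] at b0
  rw [bf_identity n1 m1] at b1
  rw [bf_identity n2 m2] at b2
  rw [pair_identity m0 k0 t0] at e0
  have hc1 := pair_zero n2 n0 k1 c1
  have hc2 := pair_zero n0 n1 k2 c2
  have hr : x0 - d0 ≠ 0 := fun h => hw (by rw [← b0, h]; simp)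
  have hr2 : (x0 - d0) ^ 2 ≠ 0 := pow_ne_zero _ hr
  have same : ∀ {x d : ℂ}, d ≠ 0 → 1 + d ≠ 0 → x * d0 = x0 * d →
      (x - d) ^ 2 / (d * (1 + d)) = w → d = d0 ∧ x = x0 := by
    intro x d n m hc b
    have e := b.trans b0.symm
    rw [div_eq_div_iff (mul_ne_zero n m) (mul_ne_zero n0 m0)] at e
    have r : (x - d) * d0 = (x0 - d0) * d := by linear_combination hc
    have e2 : (x0 - d0) ^ 2 * d * (d - d0) = 0 := by
      linear_combination (d0 : ℂ) * e - ((x - d) * d0 + (x0 - d0) * d) * (1 + d0) * r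
    have hd : d = d0 := by
      rcases mul_eq_zero.1 e2 with e3 | e3
      · exact absurd e3 (mul_ne_zero hr2 n)
      · exact sub_eq_zero.1 e3
    subst hd
    exact ⟨rfl, mul_right_cancel₀ n hc⟩
  obtain ⟨rfl, rfl⟩ := same n1 m1 hc2.symm b1
  obtain ⟨rfl, rfl⟩ := same n2 m2 hc1 b2
  rw [← b0, show (1 + x2) * (d2 + d2) - (x2 + x2) * (1 + d2) = -2 * (x2 - d2) by ring,
    mul_div_assoc', div_eq_div_iff (mul_ne_zero (mul_ne_zero m0 k0) t0) (mul_ne_zero n0 m0)] at e0
  have h3 : (x2 - d2) ^ 2 * (d2 * (1 + d2)) * (d2 - 1) = 0 := by linear_combination (-1 / 6 : ℂ) * e0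
  exact sub_eq_zero.1 ((mul_eq_zero.1 h3).resolve_left (mul_ne_zero hr2 (mul_ne_zero n0 m0)))

end CfsgLib.Char.ThreeFour
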