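import Cfsg.Agent.Lib.Char.ThreeFourCases
import Cfsg.Agent.Lib.Char.ThompsonWielandt
import Cfsg.Agent.Lib.Coprime.Core
import Cfsg.Agent.Lib.Coprime.Action
import Mathlib.GroupTheory.Transfer

/-!
# A strongly 3-embedded subgroup `3³:2²` is the whole group
-/

set_option autoImplicit false
set_option linter.unusedSectionVars false

namespace CfsgLib.Char.ThreeFour

open Cfsg CfsgLib.Char CfsgLib.Char.Signed CfsgLib.Char.TW

universe u

/-! ### The subgroup of the model -/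

/-- The group of order 108 inside the ambient product. -/
def evSub : Subgroup Amb where
  carrier := {x | Ev x}
  one_mem' := by decide
  mul_mem' := fun {a b} (ha : Ev a) (hb : Ev b) => by
    simp only [Ev, Set.mem_setOf_eq, Prod.fst_mul, Prod.snd_mul, sgn_mul] at ha hb ⊢
    linear_combination (sgn b.1 * sgn b.2.1 * sgn b.2.2) * ha + hb
  inv_mem' := fun {a} (ha : Ev a) => by
    have key : ∀ x : Amb, Ev x → Ev x⁻¹ := by decide +kernel
    exact key a ha

/-- Generators. -/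
def genSet : Set Amb :=
  {(.r 1, 1, 1), (1, .r 1, 1), (1, 1, .r 1), (.sr 0, .sr 0, 1), (.sr 0, 1, .sr 0)}

theorem elts_word : ∀ x : Amb, Ev x → ∃ (a b c : Fin 3) (d e : Fin 2),
    x = ((.r 1, 1, 1) : Amb) ^ a.val * ((1, .r 1, 1) : Amb) ^ b.val *
      ((1, 1, .r 1) : Amb) ^ c.val * ((.sr 0, .sr 0, 1) : Amb) ^ d.val *
      ((.sr 0, 1, .sr 0) : Amb) ^ e.val := by decide +kernel

theorem closure_genSet : Subgroup.closure genSet = evSub := by
  refine le_antisymm ((Subgroup.closure_le _).2 ?_) fun x hx => ?_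
  · intro x hx
    simp only [genSet, Set.mem_insert_iff, Set.mem_singleton_iff] at hx
    rcases hx with rfl | rfl | rfl | rfl | rfl <;> exact (show Ev _ by decide)
  · obtain ⟨a, b, c, d, e, rfl⟩ := elts_word x hx
    refine Subgroup.mul_mem _ (Subgroup.mul_mem _ (Subgroup.mul_mem _ (Subgroup.mul_mem _ ?_ ?_) ?_) ?_) ?_ <;>
      exact Subgroup.pow_mem _ (Subgroup.subset_closure (by simp [genSet])) _

theorem perm9_gens :
    perm9 (.r 1, 1, 1) = Equiv.swap (0 : Fin 9) 1 * Equiv.swap 1 2 ∧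
    perm9 (1, .r 1, 1) = Equiv.swap (3 : Fin 9) 4 * Equiv.swap 4 5 ∧
    perm9 (1, 1, .r 1) = Equiv.swap (6 : Fin 9) 7 * Equiv.swap 7 8 ∧
    perm9 (.sr 0, .sr 0, 1) = Equiv.swap (0 : Fin 9) 1 * Equiv.swap 3 4 ∧
    perm9 (.sr 0, 1, .sr 0) = Equiv.swap (0 : Fin 9) 1 * Equiv.swap 6 7 := by
  refine ⟨?_, ?_, ?_, ?_, ?_⟩ <;> refine Equiv.ext fun p => ?_ <;> rw [perm9_apply] <;>
    revert p <;> decide +kernel

theorem closure_gens9 :
    evSub.map perm9 = Subgroup.closure ({Equiv.swap (0 : Fin 9) 1 * Equiv.swap 1 2,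
      Equiv.swap (3 : Fin 9) 4 * Equiv.swap 4 5, Equiv.swap (6 : Fin 9) 7 * Equiv.swap 7 8,
      Equiv.swap (0 : Fin 9) 1 * Equiv.swap 3 4, Equiv.swap (0 : Fin 9) 1 * Equiv.swap 6 7} :
        Set (Equiv.Perm (Fin 9))) := by
  obtain ⟨e1, e2, e3, e4, e5⟩ := perm9_gens
  rw [← closure_genSet, MonoidHom.map_closure]
  congr 1
  simp only [genSet, Set.image_insert_eq, Set.image_singleton, e1, e2, e3, e4, e5]

variable {G : Type u} [Group G] [Finite G] {H : Subgroup G} {φ : H →* Amb}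

/-! ### Relabelling -/

theorem Emb.comp (h : Emb H φ) {s : Amb →* Amb} (hs : ∀ x, s (s x) = x)
    (he : ∀ x, Ev (s x) ↔ Ev x) : Emb H (s.comp φ) where
  inj := fun a b e => h.inj (by simpa [hs] using congrArg s e)
  mem := fun x => by
    constructor
    · rintro ⟨y, rfl⟩
      refine Finset.mem_filter.2 ⟨Finset.mem_univ _, (he _).2 ?_⟩
      exact (Finset.mem_filter.1 (h.map_mem y)).2
    · intro hx
      obtain ⟨y, hy⟩ := h.lift (y := s x) (Finset.mem_filter.2
        ⟨Finset.mem_univ _, (he x).2 (Finset.mem_filter.1 hx).2⟩)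
      exact ⟨y, by rw [MonoidHom.comp_apply, hy, hs]⟩
  cent := h.cent
  norm := h.norm

variable [Fintype G]

theorem swap01_swap01 (x : Amb) : swap01 (swap01 x) = x := rfl

theorem swap12_swap12 (x : Amb) : swap12 (swap12 x) = x := rfl

theorem Emb.rep_comp (h : Emb H φ) {s : Amb →* Amb} (h' : Emb H (s.comp φ)) {j k : Fin 3}
    (e : s (inv k) = inv j) : h'.rep j = h.rep k :=
  h'.inj (by rw [h'.phi_rep, MonoidHom.comp_apply, h.phi_rep, e])

/-! ### Global consequences -/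

/-- The set of elements of order dividing three is the Sylow 3-subgroup `T`. -/
structure Sylow3 (H : Subgroup G) (T : Subgroup G) : Prop where
  le : T ≤ H
  card : Nat.card T = 27
  norm : Subgroup.normalizer (T : Set G) = H
  mem : ∀ t : H, (t : G) ∈ T ↔ t * t * t = 1

variable {T : Subgroup G}

theorem Sylow3.isPGroup (hT : Sylow3 H T) : IsPGroup 3 T :=
  IsPGroup.of_card (n := 3) (by rw [hT.card]; norm_num)

theorem Emb.sylow (h : Emb H φ) (hT : Sylow3 H T) :
    ∃ S : Sylow 3 G, (S : Subgroup G) = T := by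
  have : Fact (Nat.Prime 3) := ⟨Nat.prime_three⟩
  refine ⟨⟨T, hT.isPGroup, fun {Q} hQ hle => (eq_of_inf_normalizer_le hQ hle ?_).symm⟩, rfl⟩
  rw [hT.norm]
  rintro x ⟨hxQ, hxH⟩
  obtain ⟨n, hn⟩ := hQ ⟨x, hxQ⟩
  have hx : (⟨x, hxH⟩ : H) ^ 3 ^ n = 1 := Subtype.ext (congrArg (fun z : Q => (z : G)) hn)
  have h6 := h.pow_six ⟨x, hxH⟩
  have hd : orderOf (⟨x, hxH⟩ : H) ∣ 3 := by
    have h1 := Nat.dvd_gcd (orderOf_dvd_of_pow_eq_one hx) (orderOf_dvd_of_pow_eq_one h6)
    refine h1.trans ?_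
    have h2 : Nat.Coprime (3 ^ n) 2 := Nat.Coprime.pow_left _ (by norm_num)
    rw [show 6 = 2 * 3 from rfl, h2.symm.gcd_mul_left_cancel_right 3]
    exact Nat.gcd_dvd_right _ _
  refine (hT.mem ⟨x, hxH⟩).2 ?_
  have := orderOf_dvd_iff_pow_eq_one.1 hd
  simpa [pow_succ, mul_assoc] using this

/-- A homomorphism to an abelian group trivial on `H` is trivial. -/
theorem Emb.hom_trivial (h : Emb H φ) (hT : Sylow3 H T) {A : Type*} [CommGroup A] (lam : G →* A)
    (hl : ∀ x : H, lam x = 1) : lam = 1 := by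
  have : Fact (Nat.Prime 3) := ⟨Nat.prime_three⟩
  obtain ⟨S, hS⟩ := h.sylow hT
  have hle : H ≤ lam.ker := fun x hx => hl ⟨x, hx⟩
  have hTK : (S : Subgroup G) ≤ lam.ker := by rw [hS]; exact hT.le.trans hle
  have := Sylow.normalizer_sup_eq_top (S.subtype hTK)
  rw [Sylow.coe_subtype, Subgroup.map_subgroupOf_eq_of_le hTK, hS, hT.norm,
    sup_eq_right.2 hle] at this
  ext g
  exact MonoidHom.mem_ker.1 (this ▸ Subgroup.mem_top g)

theorem Emb.hom_eq (h : Emb H φ) (hT : Sylow3 H T) {A : Type*} [CommGroup A] (f g : G →* A)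
    (h0 : f (h.rep 0) = g (h.rep 0)) (h1 : f (h.rep 1) = g (h.rep 1)) : f = g := by
  have := h.hom_trivial hT (f * g⁻¹) (h.hom_eq_one _ (by simp [h0]) (by simp [h1]))
  ext x
  have := DFunLike.congr_fun this x
  simpa [mul_inv_eq_one] using this

theorem Emb.not_conj_zero_one (h : Emb H φ) (hT : Sylow3 H T) :
    ¬ IsConj (h.rep 0 : G) (h.rep 1) := by
  intro c01
  set i : G := (h.rep 0 : G) with hidef
  have hi1 : i ≠ 1 := fun e => (inv_spec 0).2.2 (by
    rw [← h.phi_rep 0, show h.rep 0 = 1 from Subtype.ext e, map_one])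
  have hi := h.rep_sq 0
  obtain ⟨L, hsg, horth, hL1, hne, hB, hC, hE⟩ := exists_values h i hi
  obtain ⟨n0, n1, n2⟩ := And.intro (hsg 0).apply_one_ne
    (And.intro (hsg 1).apply_one_ne (hsg 2).apply_one_ne)
  obtain ⟨a0, b0, c0⟩ := hne 0
  obtain ⟨a1, b1, c1⟩ := hne 1
  obtain ⟨a2, b2, c2⟩ := hne 2
  simp only [show (0 : Fin 3) + 1 = 1 from rfl, show (0 : Fin 3) + 2 = 2 from rfl,
    show (1 : Fin 3) + 1 = 2 from rfl, show (1 : Fin 3) + 2 = 0 from rfl,
    show (2 : Fin 3) + 1 = 0 from rfl, show (2 : Fin 3) + 2 = 1 from rfl] at b0 c0 b1 c1 b2 c2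
  have sB : ∀ j, ∀ x : Amb, x * x = 1 → fB j x = 0 := fun j x hx => (supp_sq x j hx).1
  have sC : ∀ j, ∀ x : Amb, x * x = 1 → fC j x = 0 := fun j x hx => (supp_sq x j hx).2.1
  have sE : ∀ j, ∀ x : Amb, x * x = 1 → fE j x = 0 := fun j x hx => (supp_sq x j hx).2.2
  have eC0 := hC 0
  have eC1 := hC 1
  have eC2 := hC 2
  have eE0 := hE 0
  have eE2 := hE 2
  simp only [show (0 : Fin 3) + 1 = 1 from rfl, show (0 : Fin 3) + 2 = 2 from rfl,
    show (1 : Fin 3) + 1 = 2 from rfl, show (1 : Fin 3) + 2 = 0 from rfl,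
    show (2 : Fin 3) + 1 = 0 from rfl, show (2 : Fin 3) + 2 = 1 from rfl] at eC0 eC1 eC2 eE0 eE2
  have eB0 := hB 0
  have eB1 := hB 1
  have eB2 := hB 2
  by_cases c02 : IsConj i (h.rep 2 : G)
  · obtain ⟨c, hc, hq⟩ := h.qfun_pull i hi hi1 {0, 1, 2} (fun j => by
      fin_cases j
      · exact iff_of_true (by decide) (IsConj.refl i)
      · exact iff_of_true (by decide) c01
      · exact iff_of_true (by decide) c02)
    obtain ⟨p1, p2, p3, p4, p5, p6, p7⟩ := pairSum_all
    have hw : (c * (pairSum {0, 1, 2} (fB 0) : ℂ)) ≠ 0 := mul_ne_zero hc (by exact_mod_cast p7)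
    rw [Bf, hq _ (sB 0)] at eB0
    rw [Bf, hq _ (sB 1), p1] at eB1
    rw [Bf, hq _ (sB 2), p2] at eB2
    rw [Cf, hq _ (sC 1), p4, Int.cast_zero, mul_zero] at eC1
    rw [Cf, hq _ (sC 2), p5, Int.cast_zero, mul_zero] at eC2
    rw [Ef, hq _ (sE 0)] at eE0
    rw [← p6] at eB0 eB1 eB2 hw
    push_cast at eB0 eB1 eB2 hw
    have hd := case_all hw n0 n1 n2 a0 a1 a2 b0 b1 b2 c0 eB0.symm eB1.symm eB2.symm eC1.symm
      eC2.symm (by rw [← eE0]; ring)
    obtain ⟨lam, hlam⟩ := (hsg 0).exists_hom hd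
    have e1 : lam (h.rep 0) = lam (h.rep 1) := isConj_iff_eq.1 (lam.map_isConj c01)
    have e2 : lam (h.rep 0) = lam (h.rep 2) := isConj_iff_eq.1 (lam.map_isConj c02)
    have e3 : lam (h.rep 0) = 1 := by
      rw [← h.rep_mul, Subgroup.coe_mul, map_mul, ← e1] at e2
      simpa using e2
    have hl := h.hom_trivial hT lam (h.hom_eq_one lam e3 (e1 ▸ e3))
    have hone : L 0 = one G := funext fun g => by rw [← hlam, hl]; simp [one]
    have := hL1 0
    rw [hone, sg_one.iq_self] at this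
    exact one_ne_zero this
  · obtain ⟨c, hc, hq⟩ := h.qfun_pull i hi hi1 {0, 1} (fun j => by
      fin_cases j
      · exact iff_of_true (by decide) (IsConj.refl i)
      · exact iff_of_true (by decide) c01
      · exact iff_of_false (by decide) c02)
    obtain ⟨p1, p2, p3, p4, p5, p6⟩ := pairSum_two
    have hw : (c * (pairSum {0, 1} (fB 0) : ℂ)) ≠ 0 := mul_ne_zero hc (by exact_mod_cast p6)
    rw [Bf, hq _ (sB 0)] at eB0
    rw [Bf, hq _ (sB 1), p1] at eB1
    rw [Bf, hq _ (sB 2), p2] at eB2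
    rw [Cf, hq _ (sC 0), p3] at eC0
    rw [Cf, hq _ (sC 2), p4, Int.cast_zero, mul_zero] at eC2
    rw [Ef, hq _ (sE 2), p5, Int.cast_zero, mul_zero] at eE2
    push_cast at eB2
    obtain ⟨hd0, hd1, hx⟩ := case_two hw n0 n1 n2 a0 a1 a2 b0 b2 c2 eB0.symm eB1.symm
      (by rw [← eB2]; ring) eC0.symm eC2.symm eE2.symm
    obtain ⟨lam, hlam⟩ := (hsg 0).exists_hom hd0
    obtain ⟨mu, hmu⟩ := (hsg 1).exists_hom hd1
    have e0 : lam (h.rep 0) = mu (h.rep 0) := Units.ext (by rw [hlam, hmu]; exact hx)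
    have e1 : lam (h.rep 1) = mu (h.rep 1) := by
      rw [← isConj_iff_eq.1 (lam.map_isConj c01), ← isConj_iff_eq.1 (mu.map_isConj c01)]
      exact e0
    have heq : L 0 = L 1 := funext fun g => by rw [← hlam, ← hmu, h.hom_eq hT lam mu e0 e1]
    have := horth 0 1 (by decide)
    rw [heq, (hsg 1).iq_self] at this
    exact one_ne_zero this

theorem Emb.exists_lam (h : Emb H φ) (hT : Sylow3 H T) (n1 : ¬ IsConj (h.rep 0 : G) (h.rep 1))
    (n2 : ¬ IsConj (h.rep 0 : G) (h.rep 2)) :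
    ∃ lam : G →* ℂˣ, lam (h.rep 0) = 1 ∧ lam (h.rep 1) ≠ 1 := by
  set i : G := (h.rep 0 : G) with hidef
  have hi1 : i ≠ 1 := fun e => (inv_spec 0).2.2 (by
    rw [← h.phi_rep 0, show h.rep 0 = 1 from Subtype.ext e, map_one])
  have hi := h.rep_sq 0
  obtain ⟨L, hsg, horth, hL1, hne, hB, hC, hE⟩ := exists_values h i hi
  obtain ⟨a0, b0, c0⟩ := hne 0
  obtain ⟨a1, b1, c1⟩ := hne 1
  obtain ⟨a2, b2, c2⟩ := hne 2
  have eC0 := hC 0
  have eE1 := hE 1
  have eE2 := hE 2
  simp only [show (0 : Fin 3) + 1 = 1 from rfl, show (0 : Fin 3) + 2 = 2 from rfl,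
    show (1 : Fin 3) + 1 = 2 from rfl, show (1 : Fin 3) + 2 = 0 from rfl,
    show (2 : Fin 3) + 1 = 0 from rfl, show (2 : Fin 3) + 2 = 1 from rfl] at b0 c0 b1 c1 b2 c2 eC0 eE1 eE2
  have eB0 := hB 0
  have eB1 := hB 1
  have eB2 := hB 2
  obtain ⟨c, hc, hq⟩ := h.qfun_pull i hi hi1 {0} (fun j => by
    fin_cases j
    · exact iff_of_true (by decide) (IsConj.refl i)
    · exact iff_of_false (by decide) n1
    · exact iff_of_false (by decide) n2)
  obtain ⟨p1, p2, p3, p4, p5, p6⟩ := pairSum_zero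
  rw [Bf, hq _ (fun x hx => (supp_sq x 0 hx).1), p1, Int.cast_zero, mul_zero] at eB0
  rw [Bf, hq _ (fun x hx => (supp_sq x 1 hx).1)] at eB1
  rw [Bf, hq _ (fun x hx => (supp_sq x 2 hx).1)] at eB2
  rw [Cf, hq _ (fun x hx => (supp_sq x 0 hx).2.1), p2, Int.cast_zero, mul_zero] at eC0
  rw [Ef, hq _ (fun x hx => (supp_sq x 1 hx).2.2), p3, Int.cast_zero, mul_zero] at eE1
  rw [Ef, hq _ (fun x hx => (supp_sq x 2 hx).2.2), p4, Int.cast_zero, mul_zero] at eE2
  obtain ⟨hd, hx⟩ := case_single (hsg 0).apply_one_ne (hsg 1).apply_one_ne (hsg 2).apply_one_ne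
    a0 a1 a2 b0 b1 b2 c1 c2 eB0.symm
    (eB1 ▸ mul_ne_zero hc (by exact_mod_cast p5)) (eB2 ▸ mul_ne_zero hc (by exact_mod_cast p6))
    eC0.symm eE1.symm eE2.symm
  obtain ⟨lam, hlam⟩ := (hsg 0).exists_hom hd
  refine ⟨lam, Units.ext (by rw [hlam, Units.val_one]; exact hx), fun e1 => ?_⟩
  have e0 : lam (h.rep 0) = 1 := Units.ext (by rw [hlam, Units.val_one]; exact hx)
  have hl := h.hom_trivial hT lam (h.hom_eq_one lam e0 e1)
  have hone : L 0 = one G := funext fun g => by rw [← hlam, hl]; simp [one]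
  have := hL1 0
  rw [hone, sg_one.iq_self] at this
  exact one_ne_zero this

omit [Fintype G] in
theorem Emb.eq_top (h : Emb H φ) (hT : Sylow3 H T) : H = ⊤ := by
  have := Fintype.ofFinite G
  have : Fact (Nat.Prime 3) := ⟨Nat.prime_three⟩
  -- the three classes of involutions do not fuse
  have h01 : Emb H (swap01.comp φ) := h.comp swap01_swap01 swap01_ev
  have h12 : Emb H (swap12.comp φ) := h.comp swap12_swap12 swap12_ev
  have h120 : Emb H (swap12.comp (swap01.comp φ)) := h01.comp swap12_swap12 swap12_ev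
  have r0 : h01.rep 0 = h.rep 1 := h.rep_comp h01 swap01_inv.2.1
  have r1 : h01.rep 1 = h.rep 0 := h.rep_comp h01 swap01_inv.1
  have r2 : h01.rep 2 = h.rep 2 := h.rep_comp h01 swap01_inv.2.2
  have n01 := h.not_conj_zero_one hT
  have n02 : ¬ IsConj (h.rep 0 : G) (h.rep 2) := by
    have := h12.not_conj_zero_one hT
    rwa [h.rep_comp h12 swap12_inv.1, h.rep_comp h12 swap12_inv.2.2] at this
  have n12 : ¬ IsConj (h.rep 1 : G) (h.rep 2) := by
    have := h120.not_conj_zero_one hT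
    rwa [h01.rep_comp h120 swap12_inv.1, h01.rep_comp h120 swap12_inv.2.2, r0, r2] at this
  obtain ⟨l0, l00, l01⟩ := h.exists_lam hT n01 n02
  obtain ⟨l1, l11, l10⟩ := h01.exists_lam hT
    (by rw [r0, r1]; exact fun e => n01 e.symm) (by rw [r0, r2]; exact n12)
  rw [r0] at l11
  rw [r1] at l10
  set N := l0.ker ⊓ l1.ker with hNdef
  have hTN : T ≤ N := fun t ht =>
    ⟨h.trivial_on_cubes l0 ((hT.mem ⟨t, hT.le ht⟩).1 ht),
      h.trivial_on_cubes l1 ((hT.mem ⟨t, hT.le ht⟩).1 ht)⟩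
  have hNH : ∀ x : H, (x : G) ∈ N → (x : G) ∈ T := by
    intro x hx
    rw [hNdef, Subgroup.mem_inf, MonoidHom.mem_ker, MonoidHom.mem_ker] at hx
    obtain ⟨x0, x1⟩ := hx
    refine (hT.mem x).2 ?_
    rcases decompose (φ x) (h.map_mem x) with hd | ⟨j, hd⟩
    · exact (h.cube_iff x).2 hd
    · exfalso
      have hx : (x * h.rep j) * (x * h.rep j) * (x * h.rep j) = 1 :=
        (h.cube_iff _).2 (by rw [map_mul, h.phi_rep]; exact hd)
      have y0 := h.trivial_on_cubes l0 hx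
      have y1 := h.trivial_on_cubes l1 hx
      rw [Subgroup.coe_mul, map_mul, x0, one_mul] at y0
      rw [Subgroup.coe_mul, map_mul, x1, one_mul] at y1
      fin_cases j
      · exact l10 y1
      · exact l01 y0
      · have e : l0 (h.rep 2) = 1 := y0
        rw [← h.rep_mul, Subgroup.coe_mul, map_mul, l00, one_mul] at e
        exact l01 e
  -- Burnside in `N`
  obtain ⟨S, hS⟩ := h.sylow hT
  have hSN : (S : Subgroup G) ≤ N := by rw [hS]; exact hTN
  set P : Sylow 3 N := S.subtype hSN with hPdef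
  have hPT : ∀ x : N, x ∈ P ↔ (x : G) ∈ T := fun x => by
    rw [hPdef, ← SetLike.mem_coe, ← SetLike.mem_coe, ← hS]
    exact Iff.rfl
  have hP : Subgroup.normalizer ((P : Subgroup N) : Set N) ≤
      Subgroup.centralizer ((P : Subgroup N) : Set N) := by
    intro x hx
    have hxH : (x : G) ∈ H := by
      rw [← hT.norm, Subgroup.mem_normalizer_iff]
      intro t
      constructor
      · intro ht
        exact (hPT _).1 ((Subgroup.mem_normalizer_iff.1 hx ⟨t, hTN ht⟩).1 ((hPT _).2 ht))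
      · intro ht
        have htN : t ∈ N := by
          have := N.mul_mem (N.mul_mem (N.inv_mem x.2) (hTN ht)) x.2
          rwa [show (x : G)⁻¹ * (x * t * (x : G)⁻¹) * x = t by group] at this
        exact (hPT _).1 ((Subgroup.mem_normalizer_iff.1 hx ⟨t, htN⟩).2 ((hPT _).2 ht))
    have hx3 := (hT.mem ⟨_, hxH⟩).1 (hNH ⟨_, hxH⟩ x.2)
    refine Subgroup.mem_centralizer_iff.2 fun y hy => ?_
    have hyT := (hPT y).1 hy
    have hc := h.cube_comm ((hT.mem ⟨y, hT.le hyT⟩).1 hyT) hx3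
    refine Subtype.ext ?_
    simpa only [Subgroup.coe_mul] using congrArg Subtype.val hc
  -- the `3'`-core of `N` is trivial
  have := Coprime.pPrimeCore_characteristic (G := N) 3
  set Q := (Cfsg.pPrimeCore 3 N).map N.subtype with hQdef
  have hQn : Q.Normal := inferInstance
  have hQcop : (Nat.card Q).Coprime 3 := by
    rw [hQdef, Subgroup.card_map_of_injective N.subtype_injective]
    exact Coprime.pPrimeCore_coprime Nat.prime_three
  have hQH : Q ≤ H := by
    have hcomm : IsMulCommutative T := ⟨⟨fun a b => Subtype.ext (by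
      simpa only [Subgroup.coe_mul] using congrArg Subtype.val
        (h.cube_comm ((hT.mem ⟨a, hT.le a.2⟩).1 a.2) ((hT.mem ⟨b, hT.le b.2⟩).1 b.2)))⟩⟩
    refine Coprime.le_of_centralizers_le (A := T) (K := Q) ?_ ?_ ?_ ?_
    · intro hcyc
      obtain ⟨g, hg⟩ := IsCyclic.exists_ofOrder_eq_natCard (α := T)
      have h3 : g ^ 3 = 1 := by
        have := congrArg Subtype.val ((hT.mem ⟨g, hT.le g.2⟩).1 g.2)
        refine Subtype.ext ?_
        simpa [pow_succ, mul_assoc] using this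
      have := Nat.le_of_dvd (by norm_num) (orderOf_dvd_of_pow_eq_one h3)
      rw [hg, hT.card] at this
      omega
    · rw [Subgroup.normalizer_eq_top Q]; exact le_top
    · rw [hT.card, show 27 = 3 ^ 3 from rfl]
      exact Nat.Coprime.pow_left _ hQcop.symm
    · intro a ha ha1
      exact inf_le_right.trans (h.cent ⟨a, hT.le ha⟩ ((hT.mem ⟨a, hT.le ha⟩).1 ha)
        fun e => ha1 (congrArg Subtype.val e))
  have hQbot : Q = ⊥ := by
    rw [Subgroup.eq_bot_iff_forall]
    intro x hxQ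
    have h3 : ∀ z : H, (z : G) ∈ Q → z * z * z = 1 → z = 1 := by
      intro z hz e
      refine Subtype.ext ?_
      have e' : (⟨z, hz⟩ : Q) ^ 3 = 1 := Subtype.ext (by
        have := congrArg Subtype.val e
        simpa [pow_succ, mul_assoc] using this)
      have h1 := orderOf_dvd_of_pow_eq_one e'
      have h2 := Nat.dvd_gcd (orderOf_dvd_natCard (⟨z, hz⟩ : Q)) h1
      rw [hQcop.gcd_eq_one, Nat.dvd_one, orderOf_eq_one_iff] at h2
      exact (congrArg Subtype.val h2 : _)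
    set y : H := ⟨x, hQH hxQ⟩ with hy
    have hy2 : y * y = 1 := by
      refine h3 (y * y) ?_ (h.sq_cube y)
      exact Q.mul_mem hxQ hxQ
    by_contra hne
    obtain ⟨j, hj⟩ := sq_eq_one_cases (φ y) (h.map_mem y) ((h.sq_iff y).1 hy2)
      fun e => hne (congrArg Subtype.val (h.inj (e.trans (map_one φ).symm) : y = 1))
    obtain ⟨w, hw, -, hz1, hz3⟩ := invo_moves j _ hj
    obtain ⟨w', rfl⟩ := h.lift hw
    have hz : ((w' * y * w'⁻¹ * y⁻¹ : H) : G) ∈ Q := by
      simp only [Subgroup.coe_mul, Subgroup.coe_inv]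
      exact Q.mul_mem (hQn.conj_mem x hxQ _) (Q.inv_mem hxQ)
    have := h3 _ hz ((h.cube_iff _).2 (by simpa only [map_mul, map_inv] using hz3))
    exact hz1 (by simpa only [map_mul, map_inv, map_one] using congrArg φ this)
  have hcore : Cfsg.pPrimeCore 3 N = ⊥ :=
    (Subgroup.map_eq_bot_iff_of_injective _ N.subtype_injective).1 hQbot
  have hK : (MonoidHom.transferSylow P hP).ker = ⊥ := le_bot_iff.1 (hcore ▸
    Coprime.le_pPrimeCore_of_not_dvd Nat.prime_three
      (MonoidHom.not_dvd_card_ker_transferSylow P hP))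
  have hPtop : (P : Subgroup N) = ⊤ := by
    have := MonoidHom.ker_transferSylow_isComplement' P hP
    rw [hK] at this
    exact Subgroup.isComplement'_bot_left.1 this
  have hNT : N = T := le_antisymm (fun x hx => (hPT ⟨x, hx⟩).1 (by
    show (⟨x, hx⟩ : N) ∈ (P : Subgroup N)
    rw [hPtop]; exact Subgroup.mem_top _)) hTN
  have hn : N.Normal := inferInstance
  rw [← hT.norm, ← hNT]
  exact Subgroup.normalizer_eq_top N

omit [Fintype G] in
/-- **A strongly 3-embedded `3³:2²` is the whole group.** -/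
theorem eq_top_of_mulEquiv (H : Subgroup G) (e : H ≃* evSub.map perm9) (T : Subgroup G)
    (hTH : T ≤ H) (hT : Nat.card T = 27) (hN : Subgroup.normalizer (T : Set G) = H)
    (hC : ∀ t ∈ T, t ≠ 1 → Subgroup.centralizer ({t} : Set G) ≤ H) : H = ⊤ := by
  classical
  have := Fintype.ofFinite G
  let e' : H ≃* evSub := e.trans (evSub.equivMapOfInjective perm9 perm9_injective).symm
  let φ : H →* Amb := evSub.subtype.comp (e' : H →* evSub)
  have hinj : Function.Injective φ := fun a b h => e'.injective (Subtype.ext h)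
  have hmemφ : ∀ x : Amb, (∃ h : H, φ h = x) ↔ x ∈ elts := by
    intro x
    constructor
    · rintro ⟨h, rfl⟩
      exact Finset.mem_filter.2 ⟨Finset.mem_univ _, (e' h).2⟩
    · intro hx
      exact ⟨e'.symm ⟨x, (Finset.mem_filter.1 hx).2⟩, by simp [φ]⟩
  have hcube : ∀ t : H, t * t * t = 1 ↔ φ t * φ t * φ t = 1 := fun t => by
    rw [← map_mul, ← map_mul, map_eq_one_iff φ hinj]
  have hmem : ∀ t : H, (t : G) ∈ T ↔ t * t * t = 1 := by
    have := Fintype.ofFinite H
    let A : Finset H := Finset.univ.filter fun t => t * t * t = 1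
    let B : Finset H := Finset.univ.filter fun t => (t : G) ∈ T
    have hBA : B ⊆ A := by
      intro t ht
      obtain ⟨-, ht⟩ := Finset.mem_filter.1 ht
      refine Finset.mem_filter.2 ⟨Finset.mem_univ _, ?_⟩
      have h27 : t ^ 27 = 1 := by
        refine Subtype.ext ?_
        have := congrArg Subtype.val (pow_card_eq_one' (x := (⟨t, ht⟩ : T)))
        rw [hT] at this
        simpa using this
      have h6 : t ^ 6 = 1 := hinj (by rw [map_pow, amb_pow_six, map_one])
      have h3 : t ^ 3 = 1 := by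
        rw [show 3 = Nat.gcd 27 6 from rfl]
        exact pow_gcd_eq_one.2 ⟨h27, h6⟩
      simpa [pow_succ, mul_assoc] using h3
    have hA : A.card ≤ 27 := by
      rw [← cube_count]
      refine Finset.card_le_card_of_injOn φ (fun t ht => ?_) hinj.injOn
      obtain ⟨-, ht⟩ := Finset.mem_filter.1 ht
      exact Finset.mem_filter.2 ⟨(hmemφ _).1 ⟨t, rfl⟩, (hcube t).1 ht⟩
    have hB : B.card = 27 := by
      rw [← hT, ← Nat.card_eq_finsetCard]
      refine Nat.card_congr ⟨fun t => ⟨t.1, (Finset.mem_filter.1 t.2).2⟩,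
        fun t => ⟨⟨t.1, hTH t.2⟩, Finset.mem_filter.2 ⟨Finset.mem_univ _, t.2⟩⟩,
        fun t => rfl, fun t => rfl⟩
    have hAB := Finset.eq_of_subset_of_card_le hBA (by omega)
    intro t
    have := Finset.ext_iff.1 hAB t
    simpa [A, B] using this
  refine Emb.eq_top (φ := φ) ⟨hinj, hmemφ, fun t ht ht1 => hC t ((hmem t).2 ht)
    fun e => ht1 (Subtype.ext e), fun g hg => ?_⟩ ⟨hTH, hT, hN, hmem⟩
  rw [← hN, Subgroup.mem_normalizer_iff]
  have hmove : ∀ t ∈ T, g * t * g⁻¹ ∈ T := by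
    intro t ht
    obtain ⟨t', ht', e⟩ := hg ⟨t, hTH ht⟩ ((hmem ⟨t, hTH ht⟩).1 ht)
    simp only at e
    rw [← e]
    exact (hmem t').2 ht'
  let f : T → T := fun t => ⟨g * t * g⁻¹, hmove t t.2⟩
  have hf : Function.Surjective f := Finite.surjective_of_injective fun a b e =>
    Subtype.ext (mul_left_cancel (mul_right_cancel (congrArg Subtype.val e)))
  intro t
  refine ⟨hmove t, fun ht => ?_⟩
  obtain ⟨s, hs⟩ := hf ⟨_, ht⟩
  have := mul_left_cancel (mul_right_cancel (congrArg Subtype.val hs))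
  exact this ▸ s.2

end CfsgLib.Char.ThreeFour
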