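import Cfsg.Agent.Lib.Char.TwoCounts
import Cfsg.Agent.Lib.Char.Induction
import Cfsg.Prelude.Def_ParabolicCharacters

/-!
# Common machinery for the principal series of `GL(2, q)` and `SL(2, q)`
-/

set_option autoImplicit false
set_option linter.unusedSectionVars false
set_option linter.style.haveILetI false

namespace CfsgLib.Char.TwoChars

open Matrix Cfsg CfsgLib.Char
open scoped ComplexConjugate

/-! ### induction along a transversal -/

theorem indFun_transversal {G : Type*} [Group G] [Fintype G] (H : Subgroup G) (θ : H → ℂ)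
    (hθ : ∀ h k : H, θ (k⁻¹ * h * k) = θ h) {I : Type*} [Fintype I] (r : I → G)
    (hr : Function.Bijective fun p : I × H => r p.1 * p.2) (g : G) :
    indFun H θ g = ∑ i, extendByZero H θ ((r i)⁻¹ * g * r i) := by
  classical
  have := Fintype.ofFinite H
  have hH : (Nat.card H : ℂ) ≠ 0 := by exact_mod_cast Nat.card_pos.ne'
  have hinv : ∀ (k : H) (y : G), extendByZero H θ ((k : G)⁻¹ * y * k) = extendByZero H θ y := by
    intro k y
    by_cases hy : y ∈ H
    · rw [extendByZero_mem H θ hy, extendByZero_mem H θ (H.mul_mem (H.mul_mem (H.inv_mem k.2) hy) k.2)]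
      exact hθ ⟨y, hy⟩ k
    · rw [extendByZero_not_mem H θ hy, extendByZero_not_mem H θ]
      intro h
      refine hy ?_
      have := H.mul_mem (H.mul_mem k.2 h) (H.inv_mem k.2)
      simpa [mul_assoc] using this
  rw [indFun, ← Fintype.sum_bijective _ hr (fun p => extendByZero H θ ((r p.1 * p.2)⁻¹ * g * (r p.1 * p.2))) _
      (fun p => rfl), Fintype.sum_prod_type, Finset.mul_sum]
  refine Finset.sum_congr rfl fun i _ => ?_
  have : ∀ k : H, extendByZero H θ ((r i * k)⁻¹ * g * (r i * k)) = extendByZero H θ ((r i)⁻¹ * g * r i) := by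
    intro k
    rw [← hinv k ((r i)⁻¹ * g * r i)]
    congr 1
    group
  rw [Finset.sum_congr rfl fun k _ => this k, Finset.sum_const, Finset.card_univ, nsmul_eq_mul,
    ← Nat.card_eq_fintype_card]
  field_simp

theorem fixedPoint_transversal {G : Type*} [Group G] (H : Subgroup G) {I : Type*} [Fintype I] (r : I → G)
    (hr : Function.Bijective fun p : I × H => r p.1 * p.2) (g : G) :
    fixedPointCharacter H g = (Nat.card {i : I // (r i)⁻¹ * g * r i ∈ H} : ℂ) := by
  rw [fixedPointCharacter]
  congr 1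
  let e : I → G ⧸ H := fun i => QuotientGroup.mk (r i)
  have he : Function.Bijective e := by
    refine ⟨fun i j h => ?_, fun x => ?_⟩
    · have h' := QuotientGroup.eq.1 h
      have := hr.1 (a₁ := (i, ⟨_, h'⟩)) (a₂ := (j, 1)) (by simp)
      exact congrArg Prod.fst this
    · obtain ⟨y, rfl⟩ := QuotientGroup.mk_surjective x
      obtain ⟨p, hp⟩ := hr.2 y
      exact ⟨p.1, by rw [← hp]; exact (QuotientGroup.mk_mul_of_mem _ p.2.2).symm⟩
  refine (Nat.card_congr (Equiv.subtypeEquiv (Equiv.ofBijective e he) fun i => ?_)).symm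
  show _ ↔ g • (QuotientGroup.mk (r i) : G ⧸ H) = QuotientGroup.mk (r i)
  rw [MulAction.Quotient.smul_mk, smul_eq_mul, eq_comm, QuotientGroup.eq, mul_assoc]

variable {F : Type*} [Field F] [Fintype F]

local notation "M2" => Matrix (Fin 2) (Fin 2) F
local notation "qF" => Fintype.card F

/-! ### the value formula -/

/-- The quadratic whose roots are the finite fixed lines. -/
def lineQuad (M : M2) (c : F) : F := M 1 0 * c ^ 2 + (M 1 1 - M 0 0) * c - M 0 1

open scoped Classical in
/-- The value of the principal series attached to `f` at `M`. -/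
noncomputable def psVal (f : F → F → ℂ) (M : M2) : ℂ :=
  (if M 1 0 = 0 then f (M 0 0) (M 1 1) else 0) +
    ∑ c : F, if lineQuad M c = 0 then f (M 1 0 * c + M 1 1) (M 0 0 - M 1 0 * c) else 0

theorem brv_entries (M : M2) (c : F) :
    (!![0, 1; -1, c] * M * !![c, -1; 1, 0]) = !![M 1 0 * c + M 1 1, -M 1 0; lineQuad M c, M 0 0 - M 1 0 * c] := by
  ext i j
  fin_cases i <;> fin_cases j <;> simp [Matrix.mul_apply, Matrix.vecMul, dotProduct, Fin.sum_univ_two, lineQuad] <;> ring

theorem psVal_ne (f : F → F → ℂ) {M : M2} (h0 : M 1 0 = 0) (h : M 0 0 ≠ M 1 1) :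
    psVal f M = f (M 0 0) (M 1 1) + f (M 1 1) (M 0 0) := by
  classical
  rw [psVal, if_pos h0, Finset.sum_eq_single (M 0 1 / (M 1 1 - M 0 0))]
  · have hne : M 1 1 - M 0 0 ≠ 0 := sub_ne_zero.2 h.symm
    rw [if_pos (by simp [lineQuad, h0]; field_simp; ring), h0, zero_mul, zero_add, sub_zero]
  · intro c _ hc
    refine if_neg fun he => hc ?_
    have hne : M 1 1 - M 0 0 ≠ 0 := sub_ne_zero.2 h.symm
    simp [lineQuad, h0] at he
    field_simp
    linear_combination he
  · simp

theorem psVal_jordan (f : F → F → ℂ) {M : M2} (h0 : M 1 0 = 0) (h : M 0 0 = M 1 1) (h1 : M 0 1 ≠ 0) :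
    psVal f M = f (M 0 0) (M 1 1) := by
  classical
  rw [psVal, if_pos h0, Finset.sum_eq_zero, add_zero]
  intro c _
  rw [if_neg]
  simp [lineQuad, h0, h, h1]

theorem psVal_scalar (f : F → F → ℂ) {M : M2} (h0 : M 1 0 = 0) (h : M 0 0 = M 1 1) (h1 : M 0 1 = 0) :
    psVal f M = ((qF : ℂ) + 1) * f (M 0 0) (M 1 1) := by
  classical
  rw [psVal, if_pos h0]
  simp [lineQuad, h0, h, h1]
  ring

theorem psVal_ell (f : F → F → ℂ) {M : M2} (h : TwoClasses.IsEll M) : psVal f M = 0 := by
  classical
  rw [psVal, if_neg (TwoClasses.isEll_lower h), Finset.sum_eq_zero, add_zero]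
  intro c _
  rw [if_neg]
  intro he
  refine TwoClasses.isEll_no_root h (M 1 0 * c + M 1 1) ?_
  simp only [Matrix.trace_fin_two, Matrix.det_fin_two, lineQuad] at he ⊢
  linear_combination (M 1 0) * he

theorem sum_psVal_upper (f : F → F → ℂ) (a d : F) :
    ∑ x : F, psVal f !![a, x; 0, d] = (qF : ℂ) * (f a d + f d a) := by
  classical
  by_cases h : a = d
  · subst h
    rw [← Finset.add_sum_erase _ _ (Finset.mem_univ 0), psVal_scalar f (by simp) (by simp) (by simp),
      Finset.sum_congr rfl fun x hx => psVal_jordan f (M := !![a, x; 0, a]) (by simp) (by simp)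
        (by simpa using (Finset.mem_erase.1 hx).1)]
    have hq : 1 ≤ qF := Fintype.card_pos
    simp [Finset.card_univ, Nat.cast_sub hq]
    ring
  · rw [Finset.sum_congr rfl fun x _ => psVal_ne f (M := !![a, x; 0, d]) (by simp) (by simpa using h)]
    simp [Finset.card_univ]
    ring

/-! ### multiplicative characters -/

variable [DecidableEq F]

theorem mulChar_pow (α : MulChar F ℂ) (a : Fˣ) : α a ^ Fintype.card Fˣ = 1 := by
  rw [← map_pow, ← Units.val_pow_eq_pow_val, pow_card_eq_one, Units.val_one, map_one]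

theorem norm_mulChar (α : MulChar F ℂ) {a : F} (ha : a ≠ 0) : ‖α a‖ = 1 :=
  norm_eq_one_of_pow_eq_one' Fintype.card_ne_zero (mulChar_pow α (Units.mk0 a ha))

theorem conj_mulChar (α : MulChar F ℂ) (a : F) : conj (α a) = α⁻¹ a := by
  rw [MulChar.inv_apply']
  by_cases ha : a = 0
  · subst ha
    rw [_root_.inv_zero, MulChar.map_zero, map_zero]
  · refine (conj_eq_inv_of_pow_eq_one Fintype.card_ne_zero (mulChar_pow α (Units.mk0 a ha))).trans ?_
    refine (eq_inv_of_mul_eq_one_left ?_).symm
    show α a⁻¹ * α a = 1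
    rw [← map_mul, inv_mul_cancel₀ ha, map_one]

theorem card_mulChar : Nat.card (MulChar F ℂ) = qF - 1 := by
  rw [MulChar.card_eq_card_units_of_hasEnoughRootsOfUnity, Nat.card_units, Nat.card_eq_fintype_card]

noncomputable instance fintypeMulCharC : Fintype (MulChar F ℂ) := Fintype.ofFinite _

theorem sum_mulChar_units (α : MulChar F ℂ) [Decidable (α = 1)] :
    ∑ a : Fˣ, α a = if α = 1 then ((qF - 1 : ℕ) : ℂ) else 0 := by
  classical
  split_ifs with h
  · subst h
    simp [MulChar.one_apply_coe, Finset.card_univ, Fintype.card_units]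
  · obtain ⟨b, hb⟩ := MulChar.ne_one_iff.1 h
    refine eq_zero_of_mul_eq_self_left hb ?_
    rw [Finset.mul_sum]
    exact Fintype.sum_bijective (fun a : Fˣ => b * a) (Group.mulLeft_bijective b)
      (fun a : Fˣ => α b * α a) (fun a : Fˣ => α a) fun a => by simp only [Units.val_mul, map_mul]

theorem sum_mulChar_conj (α β : MulChar F ℂ) [Decidable (α = β)] :
    ∑ a : Fˣ, α a * conj (β a) = if α = β then ((qF - 1 : ℕ) : ℂ) else 0 := by
  classical
  have : α = β ↔ α * β⁻¹ = 1 := mul_inv_eq_one.symm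
  simp only [conj_mulChar, ← MulChar.mul_apply, this]
  exact sum_mulChar_units (α * β⁻¹)

theorem sum_chars_apply (a : Fˣ) :
    ∑ α : MulChar F ℂ, α a = if a = 1 then ((qF - 1 : ℕ) : ℂ) else 0 := by
  classical
  split_ifs with h
  · subst h
    simp [← card_mulChar (F := F), Nat.card_eq_fintype_card]
  · obtain ⟨β, hβ⟩ := MulChar.exists_apply_ne_one_of_hasEnoughRootsOfUnity F ℂ (a := (a : F))
      (fun he => h (Units.ext he))
    refine eq_zero_of_mul_eq_self_left hβ ?_
    rw [Finset.mul_sum]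
    exact Fintype.sum_bijective (fun α : MulChar F ℂ => β * α) (Group.mulLeft_bijective β)
      (fun α : MulChar F ℂ => β (a : F) * α a) (fun α : MulChar F ℂ => α a) fun α => (MulChar.mul_apply _ _ _).symm

/-- A function orthogonal to all characters vanishes. -/
theorem fourier_zero (h : Fˣ → ℂ) (hh : ∀ α : MulChar F ℂ, ∑ a : Fˣ, α a * h a = 0) (b : Fˣ) : h b = 0 := by
  classical
  have e : ∑ α : MulChar F ℂ, conj (α b) * ∑ a : Fˣ, α a * h a = ((qF - 1 : ℕ) : ℂ) * h b := by
    simp only [Finset.mul_sum]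
    rw [Finset.sum_comm, Finset.sum_eq_single b]
    · have hone : ∀ α : MulChar F ℂ, conj (α b) * (α b * h b) = h b := fun α => by
        rw [← mul_assoc, conj_mulChar, ← MulChar.mul_apply, inv_mul_cancel, MulChar.one_apply_coe, one_mul]
      rw [Finset.sum_congr rfl fun α _ => hone α, Finset.sum_const, Finset.card_univ, ← Nat.card_eq_fintype_card,
        card_mulChar, nsmul_eq_mul]
    · intro a _ ha
      have hz : ∀ α : MulChar F ℂ, conj (α b) * (α a * h a) = h a * α ((b⁻¹ * a : Fˣ) : F) := fun α => by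
        rw [conj_mulChar, MulChar.inv_apply', Units.val_mul, map_mul, Units.val_inv_eq_inv_val]
        ring
      rw [Finset.sum_congr rfl fun α _ => hz α, ← Finset.mul_sum, sum_chars_apply,
        if_neg (fun he => ha (inv_mul_eq_one.1 he).symm), mul_zero]
    · simp
  simp only [hh, mul_zero, Finset.sum_const_zero] at e
  have hq : 0 < qF - 1 := Nat.sub_pos_of_lt Fintype.one_lt_card
  exact (mul_eq_zero.1 e.symm).resolve_left (by exact_mod_cast hq.ne')

/-- An algebraic integer that is rational is an integer. -/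
theorem exists_int_of_rat {z : ℂ} (hz : IsIntegral ℤ z) {a : ℤ} {b : ℕ} (hb : b ≠ 0) (h : (b : ℂ) * z = a) :
    ∃ m : ℤ, z = m := by
  have e : z = (((a : ℚ) / b : ℚ) : ℂ) := by
    have : (b : ℂ) ≠ 0 := by exact_mod_cast hb
    push_cast
    field_simp
    linear_combination h
  have h' : IsIntegral ℤ ((a : ℚ) / b) := by
    rw [← isIntegral_algebraMap_iff (algebraMap ℚ ℂ).injective (A := ℚ) (B := ℂ)]
    rw [eq_ratCast, ← e]; exact hz
  obtain ⟨m, hm⟩ := IsIntegrallyClosed.isIntegral_iff.1 h'
  exact ⟨m, by rw [e, ← hm]; simp⟩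

variable {G : Type*} [Group G] [Fintype G]

theorem classInner_eq_card_mul {φ ψ : G → ℂ} {c : ℂ} (h : ∑ g, φ g * conj (ψ g) = (Nat.card G : ℂ) * c) :
    classInner φ ψ = c := by
  rw [classInner, h, ← mul_assoc, inv_mul_cancel₀ (card_ne_zero' (G := G)), one_mul]

end CfsgLib.Char.TwoChars
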