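import Mathlib

/-!
# Conjugacy classes of `GL(2, q)` and `SL(2, q)`
-/

set_option autoImplicit false
set_option linter.unusedSectionVars false
set_option linter.style.haveILetI false

namespace CfsgLib.Char.TwoClasses

open Matrix

variable {F : Type*} [Field F]

/-- The square `F`-matrices of size two. -/
local notation "M2" => Matrix (Fin 2) (Fin 2) F
/-- `SL(2, F)`. -/
local notation "S2" => Matrix.SpecialLinearGroup (Fin 2) F

/-- The determinant of `[v, M v]`. -/
def qf2 (M : M2) (v : Fin 2 → F) : F :=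
  M 1 0 * v 0 ^ 2 + (M 1 1 - M 0 0) * v 0 * v 1 - M 0 1 * v 1 ^ 2

/-- The matrix with columns `v`, `M v`. -/
def orbMat (M : M2) (v : Fin 2 → F) : M2 :=
  !![v 0, M 0 0 * v 0 + M 0 1 * v 1; v 1, M 1 0 * v 0 + M 1 1 * v 1]

theorem det_orbMat (M : M2) (v : Fin 2 → F) : (orbMat M v).det = qf2 M v := by
  simp [orbMat, qf2, Matrix.det_fin_two]
  ring

/-- Scalar matrices. -/
def IsScalar2 (M : M2) : Prop := M 0 1 = 0 ∧ M 1 0 = 0 ∧ M 0 0 = M 1 1

theorem isScalar2_iff (M : M2) : IsScalar2 M ↔ ∃ c : F, M = c • (1 : M2) := by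
  constructor
  · rintro ⟨h1, h2, h3⟩
    exact ⟨M 0 0, by ext i j; fin_cases i <;> fin_cases j <;> simp [h1, h2, h3]⟩
  · rintro ⟨c, rfl⟩
    simp [IsScalar2]

/-- The companion matrix of `X² - t X + d`. -/
def comp2 (t d : F) : M2 := !![0, -d; 1, t]

theorem comp2_not_scalar (t d : F) : ¬ IsScalar2 (comp2 t d) := fun h => by
  simpa [comp2] using h.2.1

theorem trace_comp2 (t d : F) : (comp2 t d).trace = t := by simp [comp2, Matrix.trace_fin_two]

theorem det_comp2 (t d : F) : (comp2 t d).det = d := by simp [comp2, Matrix.det_fin_two]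

theorem mul_orbMat (M : M2) (v : Fin 2 → F) : M * orbMat M v = orbMat M v * comp2 M.trace M.det := by
  ext i j
  fin_cases i <;> fin_cases j <;>
    simp [orbMat, comp2, Matrix.mul_apply, Fin.sum_univ_two, Matrix.det_fin_two, Matrix.trace_fin_two] <;> ring

theorem exists_qf_ne_zero {M : M2} (h : ¬ IsScalar2 M) : ∃ v, qf2 M v ≠ 0 := by
  by_contra hc
  push Not at hc
  have h1 := hc ![1, 0]
  have h2 := hc ![0, 1]
  have h3 := hc ![1, 1]
  simp [qf2] at h1 h2 h3
  exact h ⟨h2, h1, by linear_combination (h1 - h2 - h3)⟩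

/-- Two cyclic matrices with equal characteristic polynomial. -/
theorem exists_conj_matrix {M N : M2} {v w : Fin 2 → F} (hv : qf2 M v ≠ 0)
    (ht : M.trace = N.trace) (hd : M.det = N.det) :
    ∃ X : M2, X.det = qf2 N w / qf2 M v ∧ X * M = N * X := by
  have hu : IsUnit (orbMat M v).det := by rw [det_orbMat]; exact isUnit_iff_ne_zero.2 hv
  refine ⟨orbMat N w * (orbMat M v)⁻¹, ?_, ?_⟩
  · rw [Matrix.det_mul, Matrix.det_nonsing_inv, det_orbMat, det_orbMat, Ring.inverse_eq_inv', div_eq_mul_inv]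
  · have hM : M = orbMat M v * comp2 M.trace M.det * (orbMat M v)⁻¹ := by
      rw [← mul_orbMat, Matrix.mul_nonsing_inv_cancel_right _ _ hu]
    calc orbMat N w * (orbMat M v)⁻¹ * M
        = orbMat N w * (orbMat M v)⁻¹ * (orbMat M v * comp2 M.trace M.det * (orbMat M v)⁻¹) := by rw [← hM]
      _ = orbMat N w * comp2 M.trace M.det * (orbMat M v)⁻¹ := by
          simp only [Matrix.mul_assoc]
          rw [Matrix.nonsing_inv_mul_cancel_left _ _ hu]
      _ = N * (orbMat N w * (orbMat M v)⁻¹) := by rw [ht, hd, ← mul_orbMat, Matrix.mul_assoc]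

theorem qf2_conj {M N X : M2} (h : X * M = N * X) (v : Fin 2 → F) :
    qf2 N (X *ᵥ v) = X.det * qf2 M v := by
  rw [← det_orbMat, ← det_orbMat, ← Matrix.det_mul]
  congr 1
  have h00 := congrFun (congrFun h 0) 0
  have h01 := congrFun (congrFun h 0) 1
  have h10 := congrFun (congrFun h 1) 0
  have h11 := congrFun (congrFun h 1) 1
  simp [Matrix.mul_apply, Fin.sum_univ_two] at h00 h01 h10 h11
  ext i j
  fin_cases i <;> fin_cases j <;>
    simp [orbMat, Matrix.mul_apply, Matrix.mulVec, dotProduct, Fin.sum_univ_two] <;>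
    first
      | linear_combination -(v 0) * h00 - (v 1) * h01
      | linear_combination -(v 0) * h10 - (v 1) * h11

/-! ### general linear group -/

theorem gl_isConj_iff {g h : GL (Fin 2) F} (hg : ¬ IsScalar2 g.1) :
    IsConj g h ↔ ¬ IsScalar2 h.1 ∧ g.1.trace = h.1.trace ∧ g.1.det = h.1.det := by
  constructor
  · rw [isConj_iff]
    rintro ⟨c, rfl⟩
    refine ⟨fun hs => hg ?_, ?_, ?_⟩
    · rw [isScalar2_iff] at hs ⊢
      obtain ⟨a, ha⟩ := hs
      refine ⟨a, ?_⟩
      have : c * g * c⁻¹ = Matrix.GeneralLinearGroup.mk'' (a • (1 : M2)) (by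
          rw [← ha]; exact (Matrix.isUnit_iff_isUnit_det _).1 (c * g * c⁻¹).isUnit) := Units.ext ha
      calc g.1 = (c⁻¹ * (c * g * c⁻¹) * c).1 := by congr 1; group
        _ = (c⁻¹).1 * (a • (1 : M2)) * c.1 := by rw [this]; rfl
        _ = a • (1 : M2) := by
          rw [Matrix.mul_smul, mul_one, Matrix.smul_mul, ← Units.val_mul, inv_mul_cancel, Units.val_one]
    · simp only [Units.val_mul]
      rw [Matrix.trace_mul_comm, ← mul_assoc, ← Units.val_mul, inv_mul_cancel, Units.val_one, one_mul]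
    · simp only [Units.val_mul, Matrix.det_mul]
      rw [mul_comm c.1.det, mul_assoc, ← Matrix.det_mul, ← Units.val_mul, mul_inv_cancel, Units.val_one,
        Matrix.det_one, mul_one]
  · rintro ⟨hh, ht, hd⟩
    obtain ⟨v, hv⟩ := exists_qf_ne_zero hg
    obtain ⟨w, hw⟩ := exists_qf_ne_zero hh
    obtain ⟨X, hX, hc⟩ := exists_conj_matrix (w := w) hv ht hd
    exact ⟨toUnits (Matrix.GeneralLinearGroup.mk'' X (by rw [hX]; exact isUnit_iff_ne_zero.2 (div_ne_zero hw hv))),
      Units.ext hc⟩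

/-- Scalar element. -/
def scal (c : Fˣ) : GL (Fin 2) F :=
  Units.map (algebraMap F M2).toMonoidHom c

theorem scal_val (c : Fˣ) : (scal c).1 = (c : F) • (1 : M2) :=
  Algebra.algebraMap_eq_smul_one _

theorem scal_comm (c : Fˣ) (g : GL (Fin 2) F) : scal c * g = g * scal c :=
  Units.ext (Algebra.commutes (c : F) g.1)

theorem isConj_scal_iff (c : Fˣ) (g : GL (Fin 2) F) : IsConj (scal c) g ↔ g = scal c := by
  rw [isConj_iff]
  constructor
  · rintro ⟨x, rfl⟩
    rw [← scal_comm, mul_inv_cancel_right]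
  · rintro rfl
    exact ⟨1, by group⟩

/-- The companion element. -/
noncomputable def compGL (t : F) (d : Fˣ) : GL (Fin 2) F :=
  Matrix.GeneralLinearGroup.mk'' (comp2 t d) (by rw [det_comp2]; exact d.isUnit)

theorem card_conjClasses_gl [Fintype F] :
    Nat.card (ConjClasses (GL (Fin 2) F)) = Fintype.card F ^ 2 - 1 := by
  classical
  let f : Fˣ ⊕ (F × Fˣ) → ConjClasses (GL (Fin 2) F) :=
    Sum.elim (fun c => ConjClasses.mk (scal c)) (fun p => ConjClasses.mk (compGL p.1 p.2))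
  have hns : ∀ t : F, ∀ d : Fˣ, ¬ IsScalar2 (compGL t d).1 := fun t d => comp2_not_scalar t d
  have hb : Function.Bijective f := by
    refine ⟨?_, fun C => ?_⟩
    · rintro (c | ⟨t, d⟩) (c' | ⟨t', d'⟩) h <;> simp only [f, Sum.elim_inl, Sum.elim_inr,
        ConjClasses.mk_eq_mk_iff_isConj] at h
      · have := congrArg (fun x : GL (Fin 2) F => x.1 0 0) ((isConj_scal_iff c _).1 h)
        simp only [scal_val] at this
        simp at this
        rw [Units.ext this]
      · exact absurd ((isScalar2_iff _).2 ⟨(c : F), by rw [(isConj_scal_iff c _).1 h, scal_val]⟩) (hns t' d')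
      · exact absurd ((isScalar2_iff _).2 ⟨(c' : F), by rw [(isConj_scal_iff c' _).1 h.symm, scal_val]⟩) (hns t d)
      · obtain ⟨-, h1, h2⟩ := (gl_isConj_iff (hns t d)).1 h
        rw [compGL, compGL] at h1 h2
        change (comp2 t (d : F)).trace = (comp2 t' (d' : F)).trace at h1
        change (comp2 t (d : F)).det = (comp2 t' (d' : F)).det at h2
        rw [trace_comp2, trace_comp2] at h1
        rw [det_comp2, det_comp2] at h2
        rw [h1, Units.ext h2]
    · induction C using ConjClasses.forall_isConj.mpr with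
      | _ g =>
        by_cases hg : IsScalar2 g.1
        · have h0 : g.1 0 0 ≠ 0 := fun h => by
            have := ((Matrix.isUnit_iff_isUnit_det _).1 g.isUnit)
            simp [Matrix.det_fin_two, hg.1, hg.2.1, ← hg.2.2, h] at this
          refine ⟨Sum.inl (Units.mk0 _ h0), congrArg ConjClasses.mk (Units.ext ?_)⟩
          rw [scal_val]
          ext i j
          fin_cases i <;> fin_cases j <;> simp [hg.1, hg.2.1, hg.2.2]
        · refine ⟨Sum.inr (g.1.trace, Matrix.GeneralLinearGroup.det g),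
            ConjClasses.mk_eq_mk_iff_isConj.2 ((gl_isConj_iff hg).2
              ⟨hns _ _, (trace_comp2 _ _).symm, ?_⟩).symm⟩
          exact (det_comp2 _ _).symm
  rw [← Nat.card_eq_of_bijective f hb, Nat.card_sum, Nat.card_prod, Nat.card_units, Nat.card_eq_fintype_card]
  have := Fintype.card_pos (α := F)
  obtain ⟨k, hk⟩ := Nat.exists_eq_add_of_le this
  rw [hk]
  simp only [Nat.succ_eq_add_one, zero_add, Nat.add_sub_cancel_left]
  ring_nf
  omega

/-! ### values of the quadratic form -/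

/-- The discriminant of a matrix of determinant one. -/
def dsc (t : F) : F := t ^ 2 - 4

theorem qf2_surj [Fintype F] {M : M2} (h : M.trace ^ 2 - 4 * M.det ≠ 0 ∨ ringChar F = 2)
    (hM : ¬ IsScalar2 M) {c : F} (hc : c ≠ 0) : ∃ v, qf2 M v = c := by
  classical
  by_cases hA : M 1 0 = 0
  · by_cases hB : M 1 1 - M 0 0 = 0
    · rcases h with h | h
      · refine absurd ?_ h
        simp only [Matrix.trace_fin_two, Matrix.det_fin_two, hA]
        linear_combination (M 1 1 - M 0 0) * hB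
      · have hC : M 0 1 ≠ 0 := fun h0 => hM ⟨h0, hA, (sub_eq_zero.1 hB).symm⟩
        obtain ⟨s, hs⟩ := FiniteField.isSquare_of_char_two h (-c / M 0 1)
        exact ⟨![0, s], by simp [qf2, hA, hB, pow_two, ← hs]; field_simp⟩
    · exact ⟨![(c + M 0 1) / (M 1 1 - M 0 0), 1], by simp [qf2, hA]; field_simp; ring⟩
  · by_cases h2 : ringChar F = 2
    · obtain ⟨s, hs⟩ := FiniteField.isSquare_of_char_two h2 (c / M 1 0)
      exact ⟨![s, 0], by simp [qf2, pow_two, ← hs]; field_simp⟩
    · have hD := h.resolve_right h2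
      have h20 : (2 : F) ≠ 0 := Ring.two_ne_zero h2
      set D := M.trace ^ 2 - 4 * M.det with hDdef
      obtain ⟨x, y, hxy⟩ := FiniteField.exists_root_sum_quadratic
        (f := Polynomial.X ^ 2 - Polynomial.C (4 * M 1 0 * c))
        (g := Polynomial.C (-D) * Polynomial.X ^ 2)
        (Polynomial.degree_X_pow_sub_C (by decide) _)
        (by rw [Polynomial.degree_C_mul_X_pow _ (neg_ne_zero.2 hD)]; rfl)
        (by
          have := FiniteField.odd_card_of_char_ne_two (F := F) h2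
          omega)
      simp at hxy
      refine ⟨![(x - (M 1 1 - M 0 0) * y) / (2 * M 1 0), y], ?_⟩
      simp only [hDdef, Matrix.trace_fin_two, Matrix.det_fin_two] at hxy
      simp [qf2]
      field_simp
      linear_combination hxy

theorem qf2_sq_class {M : M2} (h : M.trace ^ 2 - 4 * M.det = 0) (h2 : (2 : F) ≠ 0) (hM : ¬ IsScalar2 M)
    (v w : Fin 2 → F) : IsSquare (qf2 M v * qf2 M w) := by
  simp only [Matrix.trace_fin_two, Matrix.det_fin_two] at h
  by_cases hA : M 1 0 = 0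
  · have hB : M 1 1 - M 0 0 = 0 := pow_eq_zero_iff two_ne_zero |>.1 (by rw [hA] at h; linear_combination h)
    exact ⟨M 0 1 * v 1 * w 1, by simp only [qf2, hA, hB]; ring⟩
  · refine ⟨(2 * M 1 0 * v 0 + (M 1 1 - M 0 0) * v 1) * (2 * M 1 0 * w 0 + (M 1 1 - M 0 0) * w 1) / (4 * M 1 0), ?_⟩
    have e : ∀ u : Fin 2 → F, 4 * M 1 0 * qf2 M u = (2 * M 1 0 * u 0 + (M 1 1 - M 0 0) * u 1) ^ 2 := fun u => by
      simp only [qf2]
      linear_combination -(u 1) ^ 2 * h
    have h4 : (4 : F) ≠ 0 := by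
      rw [show (4 : F) = 2 * 2 by norm_num]; exact mul_ne_zero h2 h2
    field_simp
    linear_combination (4 * M 1 0 * qf2 M w) * e v + (2 * M 1 0 * v 0 + (M 1 1 - M 0 0) * v 1) ^ 2 * e w

/-! ### special linear group -/

theorem sl_scalar_iff (g : S2) : IsScalar2 g.1 ↔ ∃ ε : F, ε ^ 2 = 1 ∧ g.1 = ε • (1 : M2) := by
  refine ⟨fun h => ?_, fun ⟨ε, _, h⟩ => (isScalar2_iff _).2 ⟨ε, h⟩⟩
  obtain ⟨ε, hε⟩ := (isScalar2_iff _).1 h
  refine ⟨ε, ?_, hε⟩
  have := g.det_coe
  rw [hε, Matrix.det_smul, Matrix.det_one, mul_one, Fintype.card_fin] at this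
  exact this

theorem sl_isConj_of_value {g h : S2} {v w : Fin 2 → F} (hv : qf2 g.1 v ≠ 0) (hvw : qf2 h.1 w = qf2 g.1 v)
    (ht : g.1.trace = h.1.trace) : IsConj g h := by
  obtain ⟨X, hX, hc⟩ := exists_conj_matrix (w := w) hv ht (g.det_coe.trans h.det_coe.symm)
  rw [hvw, div_self hv] at hX
  exact ⟨toUnits (⟨X, hX⟩ : S2), Subtype.ext hc⟩

theorem sl_conj_spec {g h : S2} (hc : IsConj g h) :
    g.1.trace = h.1.trace ∧ (IsScalar2 g.1 ↔ IsScalar2 h.1) ∧
      ∀ v, ∃ w, qf2 h.1 w = qf2 g.1 v := by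
  obtain ⟨c, rfl⟩ := isConj_iff.1 hc
  refine ⟨?_, ?_, fun v => ?_⟩
  · simp only [Matrix.SpecialLinearGroup.coe_mul]
    rw [Matrix.trace_mul_comm, ← mul_assoc, ← Matrix.SpecialLinearGroup.coe_mul, inv_mul_cancel,
      Matrix.SpecialLinearGroup.coe_one, one_mul]
  · rw [isScalar2_iff, isScalar2_iff]
    constructor
    · rintro ⟨a, ha⟩
      refine ⟨a, ?_⟩
      simp only [Matrix.SpecialLinearGroup.coe_mul, ha, Matrix.mul_smul, Matrix.smul_mul, mul_one]
      rw [← Matrix.SpecialLinearGroup.coe_mul, mul_inv_cancel, Matrix.SpecialLinearGroup.coe_one]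
    · rintro ⟨a, ha⟩
      refine ⟨a, ?_⟩
      calc g.1 = ((c⁻¹ * (c * g * c⁻¹) * c : S2)).1 := congrArg Subtype.val (show g = c⁻¹ * (c * g * c⁻¹) * c by group)
        _ = a • (1 : M2) := by
          rw [Matrix.SpecialLinearGroup.coe_mul, Matrix.SpecialLinearGroup.coe_mul, ha, Matrix.mul_smul, mul_one,
            Matrix.smul_mul, ← Matrix.SpecialLinearGroup.coe_mul, inv_mul_cancel, Matrix.SpecialLinearGroup.coe_one]
  · refine ⟨c.1 *ᵥ v, ?_⟩
    have h : c.1 * g.1 = (c * g * c⁻¹).1 * c.1 := by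
      rw [← Matrix.SpecialLinearGroup.coe_mul, ← Matrix.SpecialLinearGroup.coe_mul, inv_mul_cancel_right]
    rw [qf2_conj h, c.det_coe, one_mul]

variable [Fintype F]

theorem sl_isConj_of_trace {g h : S2} (hg : ¬ IsScalar2 g.1) (hh : ¬ IsScalar2 h.1)
    (ht : g.1.trace = h.1.trace) (hd : dsc g.1.trace ≠ 0 ∨ ringChar F = 2) : IsConj g h := by
  obtain ⟨v, hv⟩ := exists_qf_ne_zero hg
  obtain ⟨w, hw⟩ := qf2_surj (M := h.1)
    (hd.imp_left fun hd => by rw [← ht, h.det_coe, mul_one]; exact hd) hh hv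
  exact sl_isConj_of_value hv hw ht

theorem sl_isConj_iff_zero_disc (h2 : (2 : F) ≠ 0) {g h : S2} (hg : ¬ IsScalar2 g.1) (hh : ¬ IsScalar2 h.1)
    (ht : g.1.trace = h.1.trace) (hd : dsc g.1.trace = 0) {v w : Fin 2 → F} (hv : qf2 g.1 v ≠ 0)
    (hw : qf2 h.1 w ≠ 0) : IsConj g h ↔ IsSquare (qf2 g.1 v * qf2 h.1 w) := by
  have hdh : h.1.trace ^ 2 - 4 * h.1.det = 0 := by rw [← ht, h.det_coe, mul_one]; exact hd
  constructor
  · intro hc
    obtain ⟨w', hw'⟩ := (sl_conj_spec hc).2.2 v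
    rw [← hw']
    exact qf2_sq_class hdh h2 hh w' w
  · rintro ⟨s, hs⟩
    have hs0 : s ≠ 0 := fun h0 => mul_ne_zero hv hw (by rw [hs, h0, mul_zero])
    refine sl_isConj_of_value (w := (qf2 g.1 v / s) • w) hv ?_ ht
    have : qf2 h.1 ((qf2 g.1 v / s) • w) = (qf2 g.1 v / s) ^ 2 * qf2 h.1 w := by
      simp only [qf2, Pi.smul_apply, smul_eq_mul]; ring
    rw [this]
    field_simp
    linear_combination hs

end CfsgLib.Char.TwoClasses
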