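import Cfsg.Agent.Lib.Char.TwoClasses

/-!
# Counting in `SL(2, qF)`: trace fibres and conjugacy classes
-/

set_option autoImplicit false
set_option linter.unusedSectionVars false
set_option linter.style.haveILetI false

namespace CfsgLib.Char.TwoClasses

open Matrix

variable {F : Type*} [Field F] [Fintype F]

local notation "M2" => Matrix (Fin 2) (Fin 2) F
local notation "S2" => Matrix.SpecialLinearGroup (Fin 2) F
local notation "qF" => Fintype.card F

theorem two_ne_zero_of_odd (hodd : Odd qF) : (2 : F) ≠ 0 := by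
  refine Ring.two_ne_zero fun h => ?_
  have := FiniteField.even_card_of_char_two h
  rcases hodd with ⟨k, hk⟩
  omega

theorem ringChar_ne_two_of_odd (hodd : Odd qF) : ringChar F ≠ 2 := fun h => by
  have := FiniteField.even_card_of_char_two h
  rcases hodd with ⟨k, hk⟩
  omega

/-- The companion element of `SL₂`. -/
def compSL (t : F) : S2 := ⟨comp2 t 1, det_comp2 t 1⟩

theorem compSL_trace (t : F) : (compSL t).1.trace = t := trace_comp2 t 1

/-- A non-scalar unipotent-type element. -/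
def jor (ε : {e : F // e ^ 2 = 1}) (δ : F) : S2 :=
  ⟨!![ε.1, δ; 0, ε.1], by simp [Matrix.det_fin_two, ← sq, ε.2]⟩

/-- A central element. -/
def ctr (ε : {e : F // e ^ 2 = 1}) : S2 := jor ε 0

theorem ctr_scalar (ε : {e : F // e ^ 2 = 1}) : IsScalar2 (ctr ε).1 := by
  simp [ctr, jor, IsScalar2]

theorem jor_not_scalar (ε : {e : F // e ^ 2 = 1}) {δ : F} (h : δ ≠ 0) : ¬ IsScalar2 (jor ε δ).1 :=
  fun hs => h (by simpa [jor] using hs.1)

theorem jor_trace (ε : {e : F // e ^ 2 = 1}) (δ : F) : (jor ε δ).1.trace = 2 * ε.1 := by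
  simp [jor, Matrix.trace_fin_two]; ring

theorem eq_ctr_of_scalar {g : S2} (h : IsScalar2 g.1) : ∃ ε, g = ctr ε := by
  obtain ⟨ε, hε, hg⟩ := (sl_scalar_iff g).1 h
  exact ⟨⟨ε, hε⟩, Subtype.ext (hg.trans (by ext i j; fin_cases i <;> fin_cases j <;> simp [ctr, jor]))⟩

theorem ctr_isConj_iff (ε : {e : F // e ^ 2 = 1}) (g : S2) : IsConj (ctr ε) g ↔ g = ctr ε := by
  refine ⟨fun h => ?_, fun h => h ▸ IsConj.refl _⟩
  obtain ⟨c, rfl⟩ := isConj_iff.1 h
  have hc : c * ctr ε = ctr ε * c := Subtype.ext (by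
    show c.1 * (ctr ε).1 = (ctr ε).1 * c.1
    ext i j
    fin_cases i <;> fin_cases j <;> simp [ctr, jor, Matrix.mul_apply, Fin.sum_univ_two] <;> ring)
  rw [hc, mul_inv_cancel_right]

theorem two_mul_injective (hodd : Odd qF) : Function.Injective fun x : F => 2 * x :=
  fun _ _ h => mul_left_cancel₀ (two_ne_zero_of_odd hodd) h

theorem card_sq_one (hodd : Odd qF) : Nat.card {e : F // e ^ 2 = 1} = 2 := by
  classical
  have h2 := two_ne_zero_of_odd hodd
  have hne : (1 : F) ≠ -1 := fun h => h2 (by linear_combination h)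
  rw [Nat.card_congr (Equiv.subtypeEquivRight (q := fun e : F => e ∈ ({1, -1} : Finset F)) fun e => by
    rw [sq_eq_one_iff]; simp), Nat.card_eq_fintype_card, Fintype.card_coe, Finset.card_pair hne]

theorem dsc_eq_zero_iff (hodd : Odd qF) (t : F) : dsc t = 0 ↔ ∃ ε : {e : F // e ^ 2 = 1}, t = 2 * ε.1 := by
  have h2 := two_ne_zero_of_odd hodd
  constructor
  · intro h
    simp only [dsc] at h
    exact ⟨⟨t / 2, by field_simp; linear_combination h⟩, by field_simp⟩
  · rintro ⟨ε, rfl⟩
    simp only [dsc]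
    linear_combination 4 * ε.2

theorem card_dsc_zero (hodd : Odd qF) : Nat.card {t : F // dsc t = 0} = 2 := by
  rw [← card_sq_one hodd]
  refine (Nat.card_eq_of_bijective (fun ε : {e : F // e ^ 2 = 1} => ⟨2 * ε.1, (dsc_eq_zero_iff hodd _).2 ⟨ε, rfl⟩⟩)
    ⟨fun a b h => Subtype.ext (two_mul_injective hodd (congrArg Subtype.val h)), fun t => ?_⟩).symm
  obtain ⟨ε, hε⟩ := (dsc_eq_zero_iff hodd t.1).1 t.2
  exact ⟨ε, Subtype.ext hε.symm⟩

theorem qf2_jor (ε : {e : F // e ^ 2 = 1}) (δ : F) : qf2 (jor ε δ).1 ![0, 1] = -δ := by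
  simp [qf2, jor]

theorem jor_isConj_iff (hodd : Odd qF) (ε : {e : F // e ^ 2 = 1}) {δ δ' : F} (h : δ ≠ 0) (h' : δ' ≠ 0) :
    IsConj (jor ε δ) (jor ε δ') ↔ IsSquare (δ * δ') := by
  rw [sl_isConj_iff_zero_disc (two_ne_zero_of_odd hodd) (jor_not_scalar ε h) (jor_not_scalar ε h')
      (by rw [jor_trace, jor_trace]) (by rw [jor_trace]; exact (dsc_eq_zero_iff hodd _).2 ⟨ε, rfl⟩)
      (v := ![0, 1]) (w := ![0, 1]) (by rw [qf2_jor]; exact neg_ne_zero.2 h)
      (by rw [qf2_jor]; exact neg_ne_zero.2 h'), qf2_jor, qf2_jor, neg_mul_neg]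

theorem isSquare_mul_cases {ν : F} (hν : ¬ IsSquare ν) (a : F) (ha : a ≠ 0) :
    IsSquare a ∨ IsSquare (ν * a) := by
  classical
  by_cases h : IsSquare a
  · exact Or.inl h
  · right
    have h1 := quadraticChar_neg_one_iff_not_isSquare.2 h
    have h2 := quadraticChar_neg_one_iff_not_isSquare.2 hν
    have hν0 : ν ≠ 0 := fun h0 => hν (h0 ▸ IsSquare.zero)
    exact (quadraticChar_one_iff_isSquare (mul_ne_zero hν0 ha)).1 (by rw [map_mul, h1, h2]; norm_num)

/-- Every non-scalar element with vanishing discriminant is conjugate to a standard one. -/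
theorem exists_jor (hodd : Odd qF) {ν : F} (hν : ¬ IsSquare ν) {g : S2} (hg : ¬ IsScalar2 g.1)
    (hd : dsc g.1.trace = 0) : ∃ ε, IsConj g (jor ε 1) ∨ IsConj g (jor ε ν) := by
  obtain ⟨ε, hε⟩ := (dsc_eq_zero_iff hodd _).1 hd
  obtain ⟨v, hv⟩ := exists_qf_ne_zero hg
  have hν0 : ν ≠ 0 := fun h0 => hν (h0 ▸ IsSquare.zero)
  refine ⟨ε, (isSquare_mul_cases hν (-qf2 g.1 v) (neg_ne_zero.2 hv)).imp ?_ ?_⟩ <;> intro h
  · rw [sl_isConj_iff_zero_disc (two_ne_zero_of_odd hodd) hg (jor_not_scalar ε one_ne_zero)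
      (by rw [jor_trace, hε]) hd hv (w := ![0, 1]) (by rw [qf2_jor]; simp), qf2_jor]
    simpa using h
  · rw [sl_isConj_iff_zero_disc (two_ne_zero_of_odd hodd) hg (jor_not_scalar ε hν0)
      (by rw [jor_trace, hε]) hd hv (w := ![0, 1]) (by rw [qf2_jor]; simpa using hν0), qf2_jor]
    rw [mul_neg, mul_comm]
    simpa using h

theorem card_conjClasses_sl_odd (hodd : Odd qF) : Nat.card (ConjClasses S2) = qF + 4 := by
  classical
  obtain ⟨ν, hν⟩ := FiniteField.exists_nonsquare (ringChar_ne_two_of_odd hodd)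
  have hν0 : ν ≠ 0 := fun h0 => hν (h0 ▸ IsSquare.zero)
  let δ : Bool → F := fun b => cond b ν 1
  have hδ : ∀ b, δ b ≠ 0 := by rintro (_ | _) <;> simp [δ, hν0]
  let f : ({e : F // e ^ 2 = 1} ⊕ {t : F // ¬ dsc t = 0}) ⊕ ({e : F // e ^ 2 = 1} × Bool) → ConjClasses S2 :=
    Sum.elim (Sum.elim (fun ε => ConjClasses.mk (ctr ε)) (fun t => ConjClasses.mk (compSL t.1)))
      (fun p => ConjClasses.mk (jor p.1 (δ p.2)))
  have hcn : ∀ t : F, ¬ IsScalar2 (compSL t).1 := fun t => comp2_not_scalar t 1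
  have hzero : ∀ (ε : {e : F // e ^ 2 = 1}) x, dsc (jor ε x).1.trace = 0 := fun ε x => by
    rw [jor_trace]; exact (dsc_eq_zero_iff hodd _).2 ⟨ε, rfl⟩
  have hb : Function.Bijective f := by
    refine ⟨?_, fun C => ?_⟩
    · rintro ((a | a) | a) ((b | b) | b) h <;> simp only [f, Sum.elim_inl, Sum.elim_inr,
        ConjClasses.mk_eq_mk_iff_isConj] at h
      · have := congrArg (fun x : S2 => x.1 0 0) ((ctr_isConj_iff a _).1 h)
        simp [ctr, jor] at this
        rw [Subtype.ext this]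
      · exact absurd ((sl_conj_spec h).2.1.1 (ctr_scalar a)) (hcn _)
      · exact absurd ((sl_conj_spec h).2.1.1 (ctr_scalar a)) (jor_not_scalar _ (hδ _))
      · exact absurd ((sl_conj_spec h).2.1.2 (ctr_scalar b)) (hcn _)
      · have := (sl_conj_spec h).1
        rw [compSL_trace, compSL_trace] at this
        rw [Subtype.ext this]
      · exact absurd (hzero b.1 (δ b.2)) (by rw [← (sl_conj_spec h).1, compSL_trace]; exact a.2)
      · exact absurd ((sl_conj_spec h).2.1.2 (ctr_scalar b)) (jor_not_scalar _ (hδ _))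
      · exact absurd (hzero a.1 (δ a.2)) (by rw [(sl_conj_spec h).1, compSL_trace]; exact b.2)
      · obtain ⟨ε, x⟩ := a
        obtain ⟨ε', y⟩ := b
        have ht := (sl_conj_spec h).1
        rw [jor_trace, jor_trace] at ht
        obtain rfl := Subtype.ext (two_mul_injective hodd ht)
        have hsq := (jor_isConj_iff hodd ε (hδ x) (hδ y)).1 h
        cases x <;> cases y <;> first | rfl | (exfalso; simp [δ] at hsq; exact hν hsq)
    · induction C using ConjClasses.forall_isConj.mpr with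
      | _ g =>
        by_cases hg : IsScalar2 g.1
        · obtain ⟨ε, rfl⟩ := eq_ctr_of_scalar hg
          exact ⟨Sum.inl (Sum.inl ε), rfl⟩
        · by_cases hd : dsc g.1.trace = 0
          · obtain ⟨ε, h | h⟩ := exists_jor hodd hν hg hd
            · exact ⟨Sum.inr (ε, false), ConjClasses.mk_eq_mk_iff_isConj.2 h.symm⟩
            · exact ⟨Sum.inr (ε, true), ConjClasses.mk_eq_mk_iff_isConj.2 h.symm⟩
          · exact ⟨Sum.inl (Sum.inr ⟨_, hd⟩), ConjClasses.mk_eq_mk_iff_isConj.2
              (sl_isConj_of_trace hg (hcn _) (compSL_trace _).symm (Or.inl hd)).symm⟩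
  rw [← Nat.card_eq_of_bijective f hb, Nat.card_sum, Nat.card_sum, Nat.card_prod, card_sq_one hodd,
    Nat.card_eq_fintype_card (α := Bool), Fintype.card_bool]
  have h := Nat.card_congr (Equiv.sumCompl fun t : F => dsc t = 0)
  rw [Nat.card_sum, card_dsc_zero hodd, Nat.card_eq_fintype_card (α := F)] at h
  omega

theorem sq_eq_one_char_two [CharP F 2] {e : F} (h : e ^ 2 = 1) : e = 1 :=
  CharTwo.sq_injective (by simpa using h)

theorem card_conjClasses_sl_even [CharP F 2] : Nat.card (ConjClasses S2) = qF + 1 := by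
  classical
  have h2 : ringChar F = 2 := ringChar.eq F 2
  let f : Option F → ConjClasses S2 := fun o => o.elim 1 fun t => ConjClasses.mk (compSL t)
  have hcn : ∀ t : F, ¬ IsScalar2 (compSL t).1 := fun t => comp2_not_scalar t 1
  have hone : ∀ {g : S2}, IsScalar2 g.1 → g = 1 := fun {g} hg => by
    obtain ⟨ε, hε, h⟩ := (sl_scalar_iff g).1 hg
    exact Subtype.ext (by rw [h, sq_eq_one_char_two hε, one_smul]; rfl)
  have hs1 : IsScalar2 (1 : S2).1 := by simp [IsScalar2]
  have hb : Function.Bijective f := by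
    refine ⟨?_, fun C => ?_⟩
    · rintro (_ | a) (_ | b) h <;> simp only [f, Option.elim_none, Option.elim_some] at h
      · rfl
      · exact absurd ((sl_conj_spec (ConjClasses.mk_eq_mk_iff_isConj.1 h)).2.1.1 hs1) (hcn _)
      · exact absurd ((sl_conj_spec (ConjClasses.mk_eq_mk_iff_isConj.1 h)).2.1.2 hs1) (hcn _)
      · have := (sl_conj_spec (ConjClasses.mk_eq_mk_iff_isConj.1 h)).1
        rw [compSL_trace, compSL_trace] at this
        rw [this]
    · induction C using ConjClasses.forall_isConj.mpr with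
      | _ g =>
        by_cases hg : IsScalar2 g.1
        · exact ⟨none, by rw [hone hg]; rfl⟩
        · exact ⟨some _, ConjClasses.mk_eq_mk_iff_isConj.2
            (sl_isConj_of_trace hg (hcn _) (compSL_trace _).symm (Or.inr h2)).symm⟩
  rw [← Nat.card_eq_of_bijective f hb, Nat.card_eq_fintype_card, Fintype.card_option]

/-! ### trace fibres -/

theorem card_mul_eq (k : F) [DecidableEq F] :
    Nat.card {p : F × F // p.1 * p.2 = k} = (qF - 1) + if k = 0 then qF else 0 := by
  have e1 : Nat.card {p : F × F // p.1 * p.2 = k ∧ p.1 ≠ 0} = qF - 1 := by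
    rw [Nat.card_congr (show {p : F × F // p.1 * p.2 = k ∧ p.1 ≠ 0} ≃ Fˣ from
      { toFun := fun p => Units.mk0 p.1.1 p.2.2
        invFun := fun u => ⟨((u : F), k / (u : F)), ⟨by field_simp, u.ne_zero⟩⟩
        left_inv := fun p => Subtype.ext (Prod.ext rfl (by
          have h1 := p.2.1; have h2 := p.2.2; simp only [Units.val_mk0]; field_simp; linear_combination -h1))
        right_inv := fun u => Units.ext rfl }), Nat.card_units, Nat.card_eq_fintype_card]
  have e0 : Nat.card {p : F × F // p.1 * p.2 = k ∧ ¬ p.1 ≠ 0} = if k = 0 then qF else 0 := by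
    split_ifs with hk
    · rw [Nat.card_congr (show {p : F × F // p.1 * p.2 = k ∧ ¬ p.1 ≠ 0} ≃ F from
        { toFun := fun p => p.1.2
          invFun := fun x => ⟨(0, x), by simp [hk]⟩
          left_inv := fun p => Subtype.ext (Prod.ext (not_not.1 p.2.2).symm rfl)
          right_inv := fun x => rfl }), Nat.card_eq_fintype_card]
    · have : IsEmpty {p : F × F // p.1 * p.2 = k ∧ ¬ p.1 ≠ 0} := ⟨fun p => hk (by
        rw [← p.2.1, not_not.1 p.2.2, zero_mul])⟩
      exact Nat.card_of_isEmpty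
  rw [← e1, ← e0, ← Nat.card_sum]
  exact Nat.card_congr (((Equiv.subtypeSubtypeEquivSubtypeInter _ _).symm.sumCongr
    (Equiv.subtypeSubtypeEquivSubtypeInter _ _).symm).trans (Equiv.sumCompl _)).symm

/-- Size of a trace fibre, in terms of the number of roots of `a² - t a + 1`. -/
theorem card_trace_fibre [DecidableEq F] (t : F) :
    Nat.card {g : S2 // g.1.trace = t} + qF = qF ^ 2 + qF * Nat.card {a : F // a * (t - a) = 1} := by
  have e : {g : S2 // g.1.trace = t} ≃ Σ a : F, {p : F × F // p.1 * p.2 = a * (t - a) - 1} :=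
    { toFun := fun g => ⟨g.1.1 0 0, (g.1.1 0 1, g.1.1 1 0), by
        have h := g.1.det_coe; have ht := g.2
        rw [Matrix.det_fin_two] at h
        rw [Matrix.trace_fin_two] at ht
        show g.1.1 0 1 * g.1.1 1 0 = g.1.1 0 0 * (t - g.1.1 0 0) - 1
        linear_combination -h + g.1.1 0 0 * ht⟩
      invFun := fun x => ⟨⟨!![x.1, x.2.1.1; x.2.1.2, t - x.1], by
        rw [Matrix.det_fin_two_of]; linear_combination -x.2.2⟩, by simp [Matrix.trace_fin_two]⟩
      left_inv := fun g => Subtype.ext (Subtype.ext (by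
        have ht := g.2
        rw [Matrix.trace_fin_two] at ht
        ext i j
        fin_cases i <;> fin_cases j <;> simp <;> linear_combination -ht))
      right_inv := fun x => by
        obtain ⟨a, ⟨b, c⟩, h⟩ := x
        rfl }
  rw [Nat.card_congr e, Nat.card_sigma]
  simp only [card_mul_eq, Finset.sum_add_distrib, Finset.sum_const, Finset.card_univ, smul_eq_mul,
    Finset.sum_ite, Finset.sum_const_zero, add_zero]
  rw [Nat.card_eq_fintype_card, Fintype.card_subtype,
    show (Finset.univ.filter fun x : F => x * (t - x) - 1 = 0) = Finset.univ.filter (fun x : F => x * (t - x) = 1) from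
      Finset.filter_congr fun x _ => sub_eq_zero]
  have := Fintype.card_pos (α := F)
  obtain ⟨k, hk⟩ := Nat.exists_eq_add_of_le this
  rw [hk]
  simp only [Nat.succ_eq_add_one, zero_add, Nat.add_sub_cancel_left]
  ring

/-- `M` has no eigenvector. -/
def IsEll (M : M2) : Prop := ∀ (c : F) (v : Fin 2 → F), v ≠ 0 → M.mulVec v ≠ c • v

theorem isEll_no_root {M : M2} (h : IsEll M) (a : F) : a ^ 2 - M.trace * a + M.det ≠ 0 := by
  intro h0
  obtain ⟨v, hv, hv'⟩ := Matrix.exists_mulVec_eq_zero_iff.2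
    (show (M - a • (1 : M2)).det = 0 by
      simp [Matrix.det_fin_two, Matrix.trace_fin_two] at h0 ⊢
      linear_combination h0)
  rw [Matrix.sub_mulVec, Matrix.smul_mulVec, Matrix.one_mulVec, sub_eq_zero] at hv'
  exact h a v hv hv'

theorem isEll_lower {M : M2} (h : IsEll M) : M 1 0 ≠ 0 := fun h0 =>
  isEll_no_root h (M 0 0) (by simp [Matrix.trace_fin_two, Matrix.det_fin_two, h0]; ring)

theorem isEll_not_scalar {M : M2} (h : IsEll M) : ¬ IsScalar2 M := fun hs => isEll_lower h hs.2.1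

theorem isEll_of_no_root {M : M2} (h : ∀ a : F, a ^ 2 - M.trace * a + M.det ≠ 0) : IsEll M := by
  intro c v hv he
  refine h c ?_
  have := Matrix.exists_mulVec_eq_zero_iff.1 ⟨v, hv, show (M - c • (1 : M2)) *ᵥ v = 0 by
    rw [Matrix.sub_mulVec, Matrix.smul_mulVec, Matrix.one_mulVec, he, sub_self]⟩
  simp [Matrix.det_fin_two, Matrix.trace_fin_two] at this ⊢
  linear_combination this

theorem isEll_dsc (hodd : Odd qF) {g : S2} (h : IsEll g.1) : ¬ IsSquare (dsc g.1.trace) := by
  rintro ⟨s, hs⟩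
  have h2 := two_ne_zero_of_odd hodd
  refine isEll_no_root h ((g.1.trace + s) / 2) ?_
  simp only [dsc] at hs
  rw [g.det_coe]
  field_simp
  linear_combination -hs

theorem isEll_dsc_ne (hodd : Odd qF) {g : S2} (h : IsEll g.1) : dsc g.1.trace ≠ 0 :=
  fun h0 => isEll_dsc hodd h (h0 ▸ IsSquare.zero)

theorem card_trace_fibre_ell [DecidableEq F] {g : S2} (h : IsEll g.1) :
    Nat.card {x : S2 // x.1.trace = g.1.trace} + qF = qF ^ 2 := by
  have : IsEmpty {a : F // a * (g.1.trace - a) = 1} := ⟨fun a => isEll_no_root h a.1 (by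
    rw [g.det_coe]; linear_combination -a.2)⟩
  rw [card_trace_fibre, Nat.card_of_isEmpty, mul_zero, add_zero]

theorem card_trace_fibre_two [DecidableEq F] (ε : {e : F // e ^ 2 = 1}) :
    Nat.card {x : S2 // x.1.trace = 2 * ε.1} = qF ^ 2 := by
  have h : Nat.card {a : F // a * (2 * ε.1 - a) = 1} = 1 := by
    rw [Nat.card_eq_one_iff_unique]
    exact ⟨⟨fun a b => Subtype.ext (by
      have ha : (a.1 - ε.1) ^ 2 = 0 := by linear_combination -a.2 + ε.2
      have hb : (b.1 - ε.1) ^ 2 = 0 := by linear_combination -b.2 + ε.2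
      rw [pow_eq_zero_iff two_ne_zero, sub_eq_zero] at ha hb
      rw [ha, hb])⟩, ⟨⟨ε.1, by linear_combination ε.2⟩⟩⟩
  have := card_trace_fibre (t := 2 * ε.1) (F := F)
  rw [h] at this
  omega

end CfsgLib.Char.TwoClasses
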