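import Cfsg.Agent.Lib.Char.Correspondence
import Cfsg.Agent.Lib.Char.InvariantAbove
import Cfsg.Agent.Lib.Char.ExtendCriteria
import Cfsg.Agent.Lib.Char.ExtendChar
import Cfsg.Agent.Lib.Char.DegreePrimePower
import Cfsg.Agent.Lib.Char.NilMonomial
import Cfsg.Agent.Lib.Block.ItoMichler
import Cfsg.Agent.S4456

/-!
# Groups with two character degrees

If the degrees of `G` are `1` and `m`, then `G` has an abelian normal subgroup of index `m`, or `m`
is a prime power and `G` is the product of a `p`-group and an abelian group; in both cases `G'` is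
abelian.
-/

set_option autoImplicit false
set_option linter.unusedSectionVars false
set_option linter.style.haveILetI false

namespace CfsgLib.Char.TwoDegrees

open Cfsg CfsgLib
open scoped ComplexConjugate commutatorElement

universe u

variable {G : Type u} [Group G] [Finite G] {m : ℕ}

/-- All degrees are `1` or `m`. -/
def TwoDeg (m : ℕ) (G : Type u) [Group G] : Prop :=
  ∀ χ : IrrCharacter G, charDegree (χ : G → ℂ) = 1 ∨ charDegree (χ : G → ℂ) = m

theorem charDegree_of_eq {f : G → ℂ} {d : ℕ} (h : f 1 = (d : ℂ)) : charDegree f = d := by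
  simp [charDegree, h]

theorem TwoDeg.quotient (h : TwoDeg m G) (N : Subgroup G) [N.Normal] : TwoDeg m (G ⧸ N) :=
  fun θ => h ⟨fun g => (θ : G ⧸ N → ℂ) g, isIrrCharacter_comp_surjective θ.2 (QuotientGroup.mk' N)
    (QuotientGroup.mk'_surjective N)⟩

theorem exists_degree_m (h : TwoDeg m G) (hna : ∃ a b : G, a * b ≠ b * a) :
    ∃ χ : IrrCharacter G, charDegree (χ : G → ℂ) = m := by
  by_contra hall
  push Not at hall
  obtain ⟨a, b, hab⟩ := hna
  refine hab (comm_of_degree_one (fun χ => ?_) a b)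
  rw [Block.ItoMichler.one_eq_cast χ, (h χ).resolve_right (hall χ), Nat.cast_one]

theorem degree_eq_one_or (h : TwoDeg m G) {f : G → ℂ} (hf : IsIrrCharacter G f) {d : ℕ}
    (hd : f 1 = (d : ℂ)) : d = 1 ∨ d = m := by
  have := h ⟨f, hf⟩
  rwa [charDegree_of_eq hd] at this

/-- The function of a linear character. -/
noncomputable def lf {N : Subgroup G} (lam : N →* ℂˣ) : N → ℂ := fun n => (lam n : ℂ)

theorem mem_stab_iff {N : Subgroup G} [hN : N.Normal] (lam : N →* ℂˣ) (g : G) :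
    g ∈ inertia N (lf lam) ↔ lam.comp (MulAut.conjNormal g : N ≃* N).toMonoidHom = lam := by
  rw [mem_inertia]
  have e : ∀ n : N, conjFun N (lf lam) g n = (lam ((MulAut.conjNormal g : N ≃* N) n) : ℂ) := fun n => by
    simp only [conjFun, lf]
    exact congrArg (fun z : N => (lam z : ℂ)) (Subtype.ext (MulAut.conjNormal_apply g n).symm)
  constructor
  · intro h
    refine MonoidHom.ext fun n => Units.ext ?_
    exact (e n).symm.trans (congrFun h n)
  · intro h
    funext n
    rw [e n]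
    exact congrArg (fun z : ℂˣ => (z : ℂ)) (DFunLike.congr_fun h n)

theorem eq_of_forall_hom {N : Subgroup G} (hab : ∀ a ∈ N, ∀ b ∈ N, a * b = b * a) {x y : N}
    (h : ∀ lam : N →* ℂˣ, lam x = lam y) : x = y := by
  letI : CommGroup N := { (inferInstance : Group N) with
    mul_comm := fun a b => Subtype.ext (hab a a.2 b b.2) }
  by_contra hne
  obtain ⟨lam, hl⟩ := CommGroup.exists_apply_ne_one_of_hasEnoughRootsOfUnity N ℂ
    (fun e => hne (inv_mul_eq_one.1 e) : x⁻¹ * y ≠ 1)
  exact hl (by rw [map_mul, map_inv, h lam, inv_mul_cancel])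

theorem stab_index_dvd (h : TwoDeg m G) (N : Subgroup G) [N.Normal] (lam : N →* ℂˣ)
    (hT : inertia N (lf lam) ≠ ⊤) : (inertia N (lf lam)).index ∣ m := by
  classical
  have := Fintype.ofFinite G
  have := Fintype.ofFinite N
  obtain ⟨χ, hχ⟩ := Block.ItoMichler.exists_irr_over N ⟨lf lam, isIrrCharacter_lin lam⟩
  have h1 : (inertia N (lf lam)).index ∣ charDegree (χ : G → ℂ) :=
    (Block.ItoMichler.dvd_of_constituent N χ ⟨lf lam, isIrrCharacter_lin lam⟩ hχ).2
  rcases h χ with e | e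
  · rw [e] at h1
    exact absurd (Subgroup.index_eq_one.1 (Nat.dvd_one.1 h1)) hT
  · exact e ▸ h1

theorem stab_facts (h : TwoDeg m G) (N : Subgroup G) [hN : N.Normal]
    (hcop : (Nat.card N).Coprime N.index) (lam : N →* ℂˣ) (hT : inertia N (lf lam) ≠ ⊤) :
    N ≤ inertia N (lf lam) ∧ (inertia N (lf lam)).index = m ∧
      ∀ a ∈ inertia N (lf lam), ∀ b ∈ inertia N (lf lam), a * b * a⁻¹ * b⁻¹ ∈ N := by
  classical
  have := Fintype.ofFinite G
  have := Fintype.ofFinite N
  set T := inertia N (lf lam) with hTdef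
  have := Fintype.ofFinite T
  have hNT : N ≤ T := le_inertia N (isClassFunction_irr ⟨lf lam, isIrrCharacter_lin lam⟩)
  set N' := N.subgroupOf T
  have := Fintype.ofFinite N'
  set lam' : N' →* ℂˣ := lam.comp (Subgroup.subgroupOfEquivOfLe hNT).toMonoidHom with hlam'
  obtain ⟨f, hf⟩ : ∃ f : T →* ℂˣ, ∀ n : N', (f n : ℂ) = (lam' n : ℂ) := by
    refine exists_linear_ext (N := N') (fun n => (lam' n : ℂ))
      ⟨isCharacter_of_isIrr (isIrrCharacter_lin lam'), by simp⟩ (fun g n => ?_) fun q hq hqi hqo => ?_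
    · have h1 := congrFun ((mem_inertia N (lf lam) (g : G)).1 g.2) ⟨((n : T) : G), Subgroup.mem_subgroupOf.1 n.2⟩
      exact h1
    · refine absurd (Nat.eq_one_of_dvd_coprimes hcop ?_ ?_) hq.ne_one
      · rw [← Nat.card_congr (Subgroup.subgroupOfEquivOfLe hNT).toEquiv]
        rw [orderOf_fun_hom] at hqo
        exact hqo.trans (orderOf_dvd_of_pow_eq_one (MonoidHom.ext fun x => by
          rw [MonoidHom.pow_apply, ← map_pow, pow_card_eq_one', map_one, MonoidHom.one_apply]))
      · exact hqi.trans (Dvd.intro _ (Subgroup.relIndex_mul_index hNT))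
  have hβ : ∀ β : IrrCharacter (T ⧸ N'),
      T.index * charDegree (β : T ⧸ N' → ℂ) = 1 ∨ T.index * charDegree (β : T ⧸ N' → ℂ) = m := by
    intro β
    let b' : IrrCharacter T := ⟨fun t : T => (β : T ⧸ N' → ℂ) (t : T ⧸ N'),
      isIrrCharacter_comp_surjective β.2 (QuotientGroup.mk' N') (QuotientGroup.mk'_surjective N')⟩
    let ψ : IrrCharacter T := ⟨_, isIrrCharacter_mul_linear b' f⟩
    have hval : (fun n : N => (ψ : T → ℂ) (Subgroup.inclusion hNT n)) =
        (β : T ⧸ N' → ℂ) 1 • lf lam := by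
      funext n
      have h2 := hf ⟨Subgroup.inclusion hNT n, Subgroup.mem_subgroupOf.2 n.2⟩
      have h3 : ((Subgroup.inclusion hNT n : T) : T ⧸ N') = 1 :=
        (QuotientGroup.eq_one_iff _).2 (Subgroup.mem_subgroupOf.2 n.2)
      simp only [ψ, b', Pi.smul_apply, smul_eq_mul, h3]
      rw [h2, mul_comm]
      rfl
    have hne : classInner (fun n : N => (ψ : T → ℂ) (Subgroup.inclusion hNT n)) (lf lam) ≠ 0 := by
      rw [hval, classInner_smul_left,
        show classInner (lf lam) (lf lam) = 1 from classInner_irr_self ⟨lf lam, isIrrCharacter_lin lam⟩,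
        mul_one]
      exact irr_one_ne_zero β
    have hirr := (correspondence_irr N (θ := lf lam) (isIrrCharacter_lin lam) hNT ψ hne).1
    refine degree_eq_one_or h hirr (d := T.index * charDegree (β : T ⧸ N' → ℂ)) ?_
    rw [indFun_one, Nat.cast_mul, ← Block.ItoMichler.one_eq_cast β]
    simp [ψ, b']
    exact Or.inl rfl
  have hidx1 : T.index ≠ 1 := fun e => hT (Subgroup.index_eq_one.1 e)
  have hTm : T.index = m := by
    have h0 : charDegree (fun _ : T ⧸ N' => (1 : ℂ)) = 1 := by simp [charDegree]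
    rcases hβ ⟨_, isIrrCharacter_one⟩ with e | e <;> rw [h0, mul_one] at e
    · exact absurd e hidx1
    · exact e
  refine ⟨hNT, hTm, fun a ha b hb => ?_⟩
  have hlin : ∀ β : IrrCharacter (T ⧸ N'), (β : T ⧸ N' → ℂ) 1 = 1 := fun β => by
    rw [Block.ItoMichler.one_eq_cast β]
    rcases hβ β with e | e
    · exact absurd (Nat.eq_one_of_mul_eq_one_right e) hidx1
    · rw [hTm] at e
      rw [Nat.eq_of_mul_eq_mul_left (Nat.pos_of_ne_zero (hTm ▸ Subgroup.index_ne_zero_of_finite))
        (e.trans (mul_one m).symm), Nat.cast_one]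
  have hc := comm_of_degree_one hlin ((⟨a, ha⟩ : T) : T ⧸ N') ((⟨b, hb⟩ : T) : T ⧸ N')
  have h4 : (((⟨a, ha⟩ * ⟨b, hb⟩ * ⟨a, ha⟩⁻¹ * ⟨b, hb⟩⁻¹ : T)) : T ⧸ N') = 1 := by
    rw [QuotientGroup.mk_mul, QuotientGroup.mk_mul, QuotientGroup.mk_mul, QuotientGroup.mk_inv,
      QuotientGroup.mk_inv, hc]
    group
  exact Subgroup.mem_subgroupOf.1 ((QuotientGroup.eq_one_iff _).1 h4)

theorem normal_of_commutator_le {T : Subgroup G} (h : commutator G ≤ T) : T.Normal := ⟨fun t ht g => by
  have h1 : ⁅g, t⁆ ∈ T := h (by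
    rw [commutator_def]
    exact Subgroup.commutator_mem_commutator (Subgroup.mem_top g) (Subgroup.mem_top t))
  have h2 := T.mul_mem h1 ht
  rwa [commutatorElement_def, inv_mul_cancel_right] at h2⟩

theorem comm_eq_one_of_coprime {H : Type*} [Group H] [Finite H] (a b : H) {k n : ℕ}
    (hcop : Nat.Coprime k n) (hn : ⁅a, b⁆ ^ n = 1) (hc : ∀ x : H, Commute ⁅a, b⁆ x)
    (hk : Commute (a ^ k) b) : a * b = b * a := by
  have h1 : ∀ i : ℕ, ⁅a ^ i, b⁆ = ⁅a, b⁆ ^ i := by
    intro i
    induction i with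
    | zero => simp
    | succ i ih =>
      calc ⁅a ^ (i + 1), b⁆ = a ^ i * ⁅a, b⁆ * (a ^ i)⁻¹ * ⁅a ^ i, b⁆ := by
            simp only [commutatorElement_def, pow_succ]; group
        _ = ⁅a, b⁆ * ⁅a, b⁆ ^ i := by rw [← (hc (a ^ i)).eq, mul_inv_cancel_right, ih]
        _ = ⁅a, b⁆ ^ (i + 1) := (pow_succ' _ _).symm
  have h2 : ⁅a, b⁆ ^ k = 1 := by
    rw [← h1, commutatorElement_eq_one_iff_mul_comm]
    exact hk.eq
  have h3 : ⁅a, b⁆ = 1 := orderOf_eq_one_iff.1 (Nat.eq_one_of_dvd_coprimes hcop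
    (orderOf_dvd_of_pow_eq_one h2) (orderOf_dvd_of_pow_eq_one hn))
  exact commutatorElement_eq_one_iff_mul_comm.1 h3

/-- Either the abelian coprime normal subgroup is central, or some abelian normal subgroup has
index `m`. -/
theorem central_or_exists (h : TwoDeg m G) (N : Subgroup G) [hN : N.Normal]
    (hab : ∀ a ∈ N, ∀ b ∈ N, a * b = b * a) (hcop : (Nat.card N).Coprime N.index)
    (hnorm : ∀ T : Subgroup G, N ≤ T → T.index = m → (∀ a ∈ T, ∀ b ∈ T, a * b * a⁻¹ * b⁻¹ ∈ N) →
      commutator G ≤ T) :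
    N ≤ Subgroup.center G ∨
      ∃ A : Subgroup G, A.Normal ∧ (∀ a ∈ A, ∀ b ∈ A, a * b = b * a) ∧ A.index = m := by
  classical
  by_cases hall : ∀ lam : N →* ℂˣ, inertia N (lf lam) = ⊤
  · refine Or.inl fun n hn => Subgroup.mem_center_iff.2 fun g => ?_
    have h1 : (MulAut.conjNormal g : N ≃* N) ⟨n, hn⟩ = ⟨n, hn⟩ := eq_of_forall_hom hab fun lam =>
      DFunLike.congr_fun ((mem_stab_iff lam g).1 (hall lam ▸ Subgroup.mem_top g)) _
    have h2 := congrArg Subtype.val h1
    rw [MulAut.conjNormal_apply] at h2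
    exact mul_inv_eq_iff_eq_mul.1 h2
  push Not at hall
  obtain ⟨lam, hlam⟩ := hall
  right
  obtain ⟨hNT, hTm, hTab⟩ := stab_facts h N hcop lam hlam
  set T := inertia N (lf lam) with hTdef
  have hGT := hnorm T hNT hTm hTab
  have hTn : T.Normal := normal_of_commutator_le hGT
  refine ⟨T, hTn, ?_, hTm⟩
  set cj : G → (N →* ℂˣ) → (N →* ℂˣ) := fun g μ =>
    μ.comp (MulAut.conjNormal g : N ≃* N).toMonoidHom with hcj
  have cj_mul : ∀ (a b : G) (μ : N →* ℂˣ), cj (a * b) μ = cj b (cj a μ) := fun a b μ =>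
    MonoidHom.ext fun n => by simp [cj, map_mul]
  have cj_prod : ∀ (g : G) (μ ν : N →* ℂˣ), cj g (μ * ν) = cj g μ * cj g ν := fun g μ ν =>
    MonoidHom.mul_comp μ ν _
  have cj_pow : ∀ (g : G) (μ : N →* ℂˣ) (i : ℕ), cj g (μ ^ i) = cj g μ ^ i := fun g μ i =>
    MonoidHom.ext fun n => by simp [cj]
  have cj_inv : ∀ (g : G) (μ : N →* ℂˣ), cj g μ⁻¹ = (cj g μ)⁻¹ := fun g μ =>
    MonoidHom.ext fun n => by simp [cj]
  have cj_N : ∀ n ∈ N, ∀ μ : N →* ℂˣ, cj n μ = μ := fun n hn μ => MonoidHom.ext fun x => by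
    refine congrArg μ (Subtype.ext ?_)
    rw [MulEquiv.coe_toMonoidHom, MulAut.conjNormal_apply, hab n hn x x.2, mul_inv_cancel_right]
  have cj_coset : ∀ (a b : G), a⁻¹ * b ∈ N → ∀ μ : N →* ℂˣ, cj a μ = cj b μ := fun a b hn μ => by
    conv_rhs => rw [← mul_inv_cancel_left a b, cj_mul, cj_N _ hn]
  -- averaging over `T / N`
  set N' := N.subgroupOf T with hN'
  let Q := T ⧸ N'
  letI := Fintype.ofFinite Q
  set r := Fintype.card Q with hr
  have cj_out : ∀ (t : T) (μ : N →* ℂˣ),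
      cj (((t : Q).out : T) : G) μ = cj (t : G) μ := fun t μ => by
    refine cj_coset _ _ ?_ μ
    have h1 : ((t : Q).out)⁻¹ * t ∈ N' := QuotientGroup.eq.1 (QuotientGroup.out_eq' _)
    exact Subgroup.mem_subgroupOf.1 h1
  set F : (N →* ℂˣ) → (N →* ℂˣ) := fun μ => ∏ q : Q, cj ((q.out : T) : G) μ with hF
  have F_mul : ∀ μ ν, F (μ * ν) = F μ * F ν := fun μ ν => by
    simp only [hF, cj_prod, Finset.prod_mul_distrib]
  have F_inv : ∀ μ, F μ⁻¹ = (F μ)⁻¹ := fun μ => by
    simp only [hF, cj_inv]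
    exact Finset.prod_inv_distrib (f := fun q : Q => cj ((q.out : T) : G) μ)
  have F_pow : ∀ μ (i : ℕ), F (μ ^ i) = F μ ^ i := fun μ i => by
    simp only [hF, cj_pow, Finset.prod_pow]
  have F_fix : ∀ μ, (∀ s : T, cj (s : G) μ = μ) → F μ = μ ^ r := fun μ hμ => by
    simp only [hF, hμ, Finset.prod_const, Finset.card_univ, hr]
  have cj_prods : ∀ (g : G) (φ : Q → (N →* ℂˣ)), cj g (∏ q, φ q) = ∏ q, cj g (φ q) := fun g φ => by
    refine MonoidHom.ext fun n => ?_
    simp [cj, MonoidHom.finset_prod_apply]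
  have F_T : ∀ (s : T) μ, cj (s : G) (F μ) = F μ := fun s μ => by
    simp only [hF, cj_prods, ← cj_mul]
    refine Fintype.prod_equiv (Equiv.mulRight (s : Q)) _ _ fun q => ?_
    rw [Equiv.coe_mulRight]
    have e : q * (s : Q) = ((q.out * s : T) : Q) := by rw [QuotientGroup.mk_mul, QuotientGroup.out_eq']
    show cj _ μ = cj (((q * (s : Q) : Q).out : T) : G) μ
    rw [e, cj_out, Subgroup.coe_mul]
  have F_conj : ∀ (g : G) μ, cj g (F μ) = F (cj g μ) := fun g μ => by
    simp only [hF, cj_prods, ← cj_mul]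
    let φ : T → Q := fun t => ((⟨g⁻¹ * t * g, by
      simpa using hTn.conj_mem (t : G) t.2 g⁻¹⟩ : T) : Q)
    refine Fintype.prod_bijective (fun q : Q => φ q.out) ?_ _ _ fun q => ?_
    · refine Finite.injective_iff_bijective.1 fun q q' e => ?_
      have h1 : (g⁻¹ * (q.out : T) * g)⁻¹ * (g⁻¹ * (q'.out : T) * g) ∈ N :=
        Subgroup.mem_subgroupOf.1 (QuotientGroup.eq.1 e)
      have h2 : ((q.out : T) : G)⁻¹ * (q'.out : T) ∈ N := by
        have := hN.conj_mem _ h1 g
        rwa [show g * ((g⁻¹ * (q.out : T) * g)⁻¹ * (g⁻¹ * (q'.out : T) * g)) * g⁻¹ =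
          ((q.out : T) : G)⁻¹ * (q'.out : T) by group] at this
      rw [← QuotientGroup.out_eq' q, ← QuotientGroup.out_eq' q']
      exact QuotientGroup.eq.2 (Subgroup.mem_subgroupOf.2 h2)
    · simp only [φ]
      conv_rhs => rw [cj_mul, cj_out, ← cj_mul]
      refine congrArg (fun z => cj z μ) ?_
      simp only [← mul_assoc, mul_inv_cancel, one_mul]
  have hrcop : (Nat.card N).Coprime r := by
    refine hcop.coprime_dvd_right ?_
    rw [hr, ← Nat.card_eq_fintype_card, ← Subgroup.index_eq_card]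
    exact Dvd.intro _ (Subgroup.relIndex_mul_index hNT)
  have pow_inj : ∀ μ ν : N →* ℂˣ, μ ^ r = ν ^ r → μ = ν := fun μ ν e => by
    have hexp : ∀ μ : N →* ℂˣ, μ ^ Nat.card N = 1 := fun μ => MonoidHom.ext fun x => by
      rw [MonoidHom.pow_apply, ← map_pow, pow_card_eq_one', map_one, MonoidHom.one_apply]
    have h1 : (μ / ν) ^ r = 1 := (div_pow μ ν r).trans (div_eq_one.2 e)
    exact div_eq_one.1 (orderOf_eq_one_iff.1 (Nat.eq_one_of_dvd_coprimes hrcop
      (orderOf_dvd_of_pow_eq_one (hexp _)) (orderOf_dvd_of_pow_eq_one h1)))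
  have hlamT : ∀ s : T, cj (s : G) lam = lam := fun s => (mem_stab_iff lam (s : G)).1 s.2
  have hfixall : ∀ (μ : N →* ℂˣ) (s : T), cj (s : G) μ = μ := by
    intro μ
    set μ₂ := μ ^ r * (F μ)⁻¹ with hμ₂
    have hF2 : F μ₂ = 1 := by
      rw [hμ₂, F_mul, F_pow, F_inv, F_fix (F μ) fun s => F_T s μ]
      exact mul_inv_cancel (G := N →* ℂˣ) _
    have hsub : ∀ g ∈ inertia N (lf (lam * μ₂)), g ∈ T ∧ cj g μ₂ = μ₂ := by
      intro g hg
      have h1 : cj g (lam * μ₂) = lam * μ₂ := (mem_stab_iff _ g).1 hg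
      have h2 := F_conj g (lam * μ₂)
      have h2' : F (lam * μ₂) = lam ^ r := by
        rw [F_mul, hF2, F_fix lam hlamT]
        exact mul_one (M := N →* ℂˣ) _
      rw [h1, h2', cj_pow] at h2
      have h3 : cj g lam = lam := pow_inj _ _ h2
      rw [cj_prod, h3] at h1
      exact ⟨(mem_stab_iff lam g).2 h3, mul_left_cancel h1⟩
    have hne : inertia N (lf (lam * μ₂)) ≠ ⊤ := fun e =>
      hlam (eq_top_iff.2 fun g _ => (hsub g (e ▸ Subgroup.mem_top g)).1)
    have hidx := (stab_facts h N hcop _ hne).2.1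
    have heq : inertia N (lf (lam * μ₂)) = T := by
      have hle : inertia N (lf (lam * μ₂)) ≤ T := fun g hg => (hsub g hg).1
      have h2 := Subgroup.relIndex_mul_index hle
      rw [hTm, hidx] at h2
      refine le_antisymm hle (Subgroup.relIndex_eq_one.1 ?_)
      exact Nat.eq_of_mul_eq_mul_right (Nat.pos_of_ne_zero (hTm ▸ Subgroup.index_ne_zero_of_finite))
        (h2.trans (one_mul m).symm)
    intro s
    have h3 : cj (s : G) μ₂ = μ₂ := (hsub _ (heq.ge s.2)).2
    rw [hμ₂, cj_prod, cj_inv, F_T, cj_pow] at h3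
    exact pow_inj _ _ (mul_right_cancel h3)
  have hcent : ∀ s ∈ T, ∀ n ∈ N, s * n = n * s := by
    intro s hs n hn
    have h1 : (MulAut.conjNormal s : N ≃* N) ⟨n, hn⟩ = ⟨n, hn⟩ := eq_of_forall_hom hab fun μ =>
      DFunLike.congr_fun (hfixall μ ⟨s, hs⟩) _
    have h2 := congrArg Subtype.val h1
    rw [MulAut.conjNormal_apply] at h2
    exact mul_inv_eq_iff_eq_mul.1 h2
  intro a ha b hb
  have hc : ⁅(⟨a, ha⟩ : T), (⟨b, hb⟩ : T)⁆ ∈ N' := Subgroup.mem_subgroupOf.2 (hTab a ha b hb)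
  have hk : (⟨a, ha⟩ : T) ^ r ∈ N' := by
    have : N'.index = r := by rw [Subgroup.index_eq_card, hr, Nat.card_eq_fintype_card]
    exact this ▸ Subgroup.pow_index_mem N' _
  have hcN : ∀ z : T, z ∈ N' → ∀ x : T, Commute z x := fun z hz x =>
    Subtype.ext (hcent x x.2 z (Subgroup.mem_subgroupOf.1 hz)).symm
  have hn' : ⁅(⟨a, ha⟩ : T), (⟨b, hb⟩ : T)⁆ ^ Nat.card N = 1 := by
    rw [← Nat.card_congr (Subgroup.subgroupOfEquivOfLe hNT).toEquiv]
    exact congrArg Subtype.val (pow_card_eq_one' (x := (⟨_, hc⟩ : N')))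
  exact congrArg Subtype.val (comm_eq_one_of_coprime (⟨a, ha⟩ : T) ⟨b, hb⟩ hrcop.symm hn'
    (fun x => hcN _ hc x) (hcN _ hk _))

/-- In a nilpotent group an abelian subgroup of index `m` contains the commutator subgroup. -/
theorem commutator_le_of_abelian_index (h : TwoDeg m G) [Group.IsNilpotent G]
    (hna : ∃ a b : G, a * b ≠ b * a) (B : Subgroup G) (hB : ∀ a ∈ B, ∀ b ∈ B, a * b = b * a)
    (hBm : B.index = m) : commutator G ≤ B := by
  classical
  set L : Subgroup G := ⁅commutator G, ⊤⁆ with hL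
  haveI : L.Normal := Subgroup.commutator_normal _ _
  have hRna : ∃ a b : G ⧸ L, a * b ≠ b * a := by
    by_contra hc
    push Not at hc
    have hle : commutator G ≤ L := by
      rw [commutator_def, Subgroup.commutator_le]
      intro a _ b _
      rw [← QuotientGroup.eq_one_iff]
      have : ((⁅a, b⁆ : G) : G ⧸ L) = ⁅(a : G ⧸ L), (b : G ⧸ L)⁆ :=
        map_commutatorElement (QuotientGroup.mk' L) a b
      rw [this, commutatorElement_eq_one_iff_mul_comm]
      exact hc _ _
    have hstable : ∀ n, commutator G ≤ Subgroup.lowerCentralSeries (⊤ : Subgroup G) n := by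
      intro n
      induction n with
      | zero => simp
      | succ n ih =>
        rw [Subgroup.lowerCentralSeries_succ]
        exact hle.trans (Subgroup.commutator_mono ih le_top)
    obtain ⟨n, hn⟩ := nilpotent_iff_lowerCentralSeries.1 (inferInstance : Group.IsNilpotent G)
    obtain ⟨a, b, hab⟩ := hna
    refine hab (commutatorElement_eq_one_iff_mul_comm.1 (Subgroup.mem_bot.1 ?_))
    refine hn ▸ hstable n ?_
    rw [commutator_def]
    exact Subgroup.commutator_mem_commutator (Subgroup.mem_top a) (Subgroup.mem_top b)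
  have := Fintype.ofFinite (G ⧸ L)
  obtain ⟨χ, hχ⟩ := exists_degree_m (h.quotient L) hRna
  set π := QuotientGroup.mk' L
  set Y := B.map π ⊔ Subgroup.center (G ⧸ L) with hY
  have hYc : ∀ x ∈ Y, ∀ y ∈ Y, x * y = y * x := by
    have hbc : B.map π ≤ Subgroup.centralizer (B.map π : Set (G ⧸ L)) := by
      rintro _ ⟨a, ha, rfl⟩
      rw [Subgroup.mem_centralizer_iff]
      rintro _ ⟨b, hb, rfl⟩
      rw [← map_mul, ← map_mul, hB b hb a ha]
    have hYC : Y ≤ Subgroup.centralizer (Y : Set (G ⧸ L)) := by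
      refine sup_le ?_ (Subgroup.center_le_centralizer _)
      intro x hx
      rw [Subgroup.mem_centralizer_iff]
      intro y hy
      have hy' : y ∈ Subgroup.centralizer ({x} : Set (G ⧸ L)) := by
        refine (sup_le (fun z hz => ?_) (Subgroup.center_le_centralizer _) : Y ≤ _) hy
        rw [Subgroup.mem_centralizer_iff]
        intro w hw
        rw [Set.mem_singleton_iff.1 hw]
        exact Subgroup.mem_centralizer_iff.1 (hbc hz) x hx
      exact (Subgroup.mem_centralizer_singleton_iff.1 hy')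
    intro x hx y hy
    exact Subgroup.mem_centralizer_iff.1 (hYC hy) x hx
  have h1 : m ≤ Y.index :=
    degree_le_index χ.2 Y hYc (by rw [Block.ItoMichler.one_eq_cast χ, hχ])
  have h2 : (B.map π).index ∣ m := hBm ▸ Subgroup.index_map_dvd _ (QuotientGroup.mk'_surjective L)
  have hm0 : 0 < m := hBm ▸ Nat.pos_of_ne_zero Subgroup.index_ne_zero_of_finite
  have h3 : Y.index ∣ (B.map π).index := Subgroup.index_dvd_of_le le_sup_left
  have hYm : Y.index = m := le_antisymm (Nat.le_of_dvd hm0 (h3.trans h2)) h1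
  have hBm' : (B.map π).index = m := Nat.dvd_antisymm h2 (hYm ▸ h3)
  have hcle : Subgroup.center (G ⧸ L) ≤ B.map π := by
    have h4 : (B.map π).relIndex Y * Y.index = (B.map π).index := Subgroup.relIndex_mul_index le_sup_left
    rw [hYm, hBm'] at h4
    exact le_sup_right.trans (Subgroup.relIndex_eq_one.1 (Nat.eq_of_mul_eq_mul_right hm0 (h4.trans (one_mul m).symm)))
  have hLB : L ≤ B := by
    have h5 : (B ⊔ L).index = m := by
      rw [← hBm', Subgroup.index_map, QuotientGroup.ker_mk',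
        MonoidHom.range_eq_top.2 (QuotientGroup.mk'_surjective L), Subgroup.index_top, mul_one]
    have h4 : B.relIndex (B ⊔ L) * (B ⊔ L).index = B.index := Subgroup.relIndex_mul_index le_sup_left
    rw [h5, hBm] at h4
    exact le_sup_right.trans (Subgroup.relIndex_eq_one.1 (Nat.eq_of_mul_eq_mul_right hm0 (h4.trans (one_mul m).symm)))
  intro c hc
  have hcc : (c : G ⧸ L) ∈ Subgroup.center (G ⧸ L) := by
    rw [Subgroup.mem_center_iff]
    intro x
    obtain ⟨y, rfl⟩ := QuotientGroup.mk_surjective x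
    have : ((⁅c, y⁆ : G) : G ⧸ L) = 1 :=
      (QuotientGroup.eq_one_iff _).2 (Subgroup.commutator_mem_commutator hc (Subgroup.mem_top y))
    have e : ((⁅c, y⁆ : G) : G ⧸ L) = ⁅(c : G ⧸ L), (y : G ⧸ L)⁆ := map_commutatorElement π c y
    rw [e, commutatorElement_eq_one_iff_mul_comm] at this
    exact this.symm
  obtain ⟨b, hb, hbc⟩ := hcle hcc
  have h6 : b⁻¹ * c ∈ L := QuotientGroup.eq.1 hbc
  have := B.mul_mem hb (hLB h6)
  rwa [mul_inv_cancel_left] at this

end CfsgLib.Char.TwoDegrees
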