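import Cfsg.Agent.Lib.Char.TwoDegrees

/-!
# The structure of groups with two character degrees
-/

set_option autoImplicit false
set_option linter.unusedSectionVars false
set_option linter.style.haveILetI false

namespace CfsgLib.Char.TwoDegrees

open Cfsg CfsgLib
open scoped ComplexConjugate commutatorElement

universe u

variable {G : Type u} [Group G] [Finite G] {m : ℕ}

/-- In a nilpotent group with two degrees the commutator subgroup is abelian. -/
theorem commutator_comm_of_nilpotent [Group.IsNilpotent G] (h : TwoDeg m G) :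
    ∀ a ∈ commutator G, ∀ b ∈ commutator G, a * b = b * a := by
  classical
  have := Fintype.ofFinite G
  have := Fintype.ofFinite (IrrCharacter G)
  suffices hk : ∀ (χ : IrrCharacter G), ∀ y ∈ ⁅commutator G, commutator G⁆,
      (χ : G → ℂ) y = (χ : G → ℂ) 1 by
    intro a ha b hb
    have hy := Subgroup.commutator_mem_commutator ha hb
    refine commutatorElement_eq_one_iff_mul_comm.1 ?_
    by_contra hne
    have h1 := sum_irr_mul_conj (G := G) ⁅a, b⁆ 1
    rw [if_neg (fun e => hne (isConj_one_left.1 e))] at h1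
    have h2 := sum_irr_mul_conj (G := G) 1 1
    rw [if_pos (IsConj.refl _)] at h2
    rw [Finset.sum_congr rfl fun χ _ => by rw [hk χ _ hy], h2] at h1
    exact Nat.cast_ne_zero.2 Nat.card_pos.ne' h1
  intro χ y hy
  obtain ⟨U, lam, hU⟩ := nilpotent_monomial G (χ : G → ℂ) χ.2
  have := Fintype.ofFinite U
  have hdU : (χ : G → ℂ) 1 = (U.index : ℂ) := by
    rw [hU, indFun_one, map_one, Units.val_one, mul_one]
  -- the commutator subgroup lies in `U`
  have hle : ∀ g ∈ commutator G, ∀ x : G, x⁻¹ * g * x ∈ U := by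
    intro g hg x
    rcases Nat.eq_or_lt_of_le (Nat.one_le_iff_ne_zero.2 (Subgroup.index_ne_zero_of_finite (H := U))) with h1 | h1
    · rw [Subgroup.index_eq_one.1 h1.symm]; exact Subgroup.mem_top _
    set f := indFun U (fun _ => (1 : ℂ)) with hf
    have hfc : IsCharacter G f := isCharacter_indFun U (isCharacter_of_isIrr isIrrCharacter_one)
    choose k hk using classInner_char_irr_nat hfc
    let one : IrrCharacter G := ⟨fun _ => 1, isIrrCharacter_one⟩
    have hexp : ∀ z : G, f z = ∑ ψ : IrrCharacter G, (k ψ : ℂ) * (ψ : G → ℂ) z := fun z => by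
      conv_lhs => rw [classFun_expand (isClassFunction_of_isCharacter hfc)]
      simp [hk, Finset.sum_apply]
    have hk1 : k one = 1 := by
      have h : classInner f (one : G → ℂ) = 1 := by
        rw [hf, classInner_indFun U _ _ (isClassFunction_irr one)]
        exact classInner_irr_self (⟨fun _ => 1, isIrrCharacter_one⟩ : IrrCharacter U)
      exact_mod_cast (hk one).symm.trans h
    have hone : charDegree (one : G → ℂ) = 1 := by simp [one, charDegree]
    have hsum : U.index = ∑ ψ : IrrCharacter G, k ψ * charDegree (ψ : G → ℂ) := by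
      have h := hexp 1
      rw [show f 1 = (U.index : ℂ) by rw [hf, indFun_one, mul_one]] at h
      simp only [Block.ItoMichler.one_eq_cast] at h
      exact_mod_cast h
    have hm : U.index = m := by
      rcases h χ with e | e <;> rw [charDegree_of_eq hdU] at e
      · omega
      · exact e
    have hker : ∀ ψ : IrrCharacter G, k ψ ≠ 0 → (ψ : G → ℂ) g = (ψ : G → ℂ) 1 := by
      intro ψ hψ
      have hlin : (ψ : G → ℂ) 1 = 1 := by
        rw [Block.ItoMichler.one_eq_cast ψ]
        rcases h ψ with e | e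
        · rw [e, Nat.cast_one]
        · exfalso
          have hne : one ≠ ψ := fun e' => by rw [← e', hone] at e; omega
          have h2 := Finset.sum_le_sum_of_subset (f := fun ψ => k ψ * charDegree (ψ : G → ℂ))
            (Finset.subset_univ ({one, ψ} : Finset (IrrCharacter G)))
          rw [Finset.sum_pair hne, hk1, hone, ← hsum, e, hm] at h2
          have : m ≤ k ψ * m := Nat.le_mul_of_pos_left _ (Nat.pos_of_ne_zero hψ)
          omega
      obtain ⟨μ, hμ⟩ := linearCharEquiv.surjective
        (⟨ψ, hlin⟩ : {χ : IrrCharacter G // (χ : G → ℂ) 1 = 1})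
      have e : ∀ z, (ψ : G → ℂ) z = (μ z : ℂ) := fun z =>
        (congrFun (congrArg (fun z => ((z.1 : IrrCharacter G) : G → ℂ)) hμ) z).symm
      rw [e, e, map_one, MonoidHom.mem_ker.1 (Abelianization.commutator_subset_ker μ hg)]
    have hfg : f g = (U.index : ℂ) := by
      rw [hexp g, show (U.index : ℂ) = f 1 by rw [hf, indFun_one, mul_one], hexp 1]
      refine Finset.sum_congr rfl fun ψ _ => ?_
      by_cases h0 : k ψ = 0
      · simp [h0]
      · rw [hker ψ h0]
    rw [hf, indFun, inv_mul_eq_iff_eq_mul₀ (Nat.cast_ne_zero.2 Nat.card_pos.ne'), ← Nat.cast_mul,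
      U.card_mul_index] at hfg
    by_contra hx
    have h3 : (Finset.univ.filter fun z : G => z⁻¹ * g * z ∈ U).card = Fintype.card G := by
      rw [Finset.sum_congr rfl (g := fun z : G => if z⁻¹ * g * z ∈ U then (1 : ℂ) else 0)
        fun z _ => ?_, Finset.sum_boole, Nat.card_eq_fintype_card] at hfg
      · exact_mod_cast hfg
      · split_ifs with h
        · exact extendByZero_mem U _ h
        · exact extendByZero_not_mem U _ h
    have : x ∈ Finset.univ.filter fun z : G => z⁻¹ * g * z ∈ U := by
      rw [Finset.eq_univ_of_card _ h3]; exact Finset.mem_univ x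
    exact hx (Finset.mem_filter.1 this).2
  have hGU : commutator G ≤ U := fun g hg => by simpa using hle g hg 1
  rw [hdU, hU, indFun, Finset.sum_congr rfl (g := fun _ => (1 : ℂ)) fun x _ => ?_, Finset.sum_const,
    Finset.card_univ, nsmul_eq_mul, mul_one, ← Nat.card_eq_fintype_card, ← U.card_mul_index,
    Nat.cast_mul, ← mul_assoc, inv_mul_cancel₀ (Nat.cast_ne_zero.2 Nat.card_pos.ne'), one_mul]
  have hy' : x⁻¹ * y * x ∈ ⁅commutator G, commutator G⁆ := by
    simpa using (Subgroup.commutator_normal (commutator G) (commutator G)).conj_mem y hy x⁻¹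
  rw [extendByZero_mem U _ (hGU (Subgroup.commutator_le_left _ _ hy'))]
  have hz : ⁅commutator G, commutator G⁆ ≤ ((lam.ker).map U.subtype) := by
    rw [Subgroup.commutator_le]
    intro a ha b hb
    refine ⟨⁅(⟨a, hGU ha⟩ : U), (⟨b, hGU hb⟩ : U)⁆, ?_, by simp [commutatorElement_def]⟩
    rw [SetLike.mem_coe, MonoidHom.mem_ker, map_commutatorElement, commutatorElement_eq_one_iff_mul_comm]
    exact mul_comm _ _
  obtain ⟨w, hw, e⟩ := hz hy'
  rw [show (⟨x⁻¹ * y * x, _⟩ : U) = w from Subtype.ext e.symm, MonoidHom.mem_ker.1 hw, Units.val_one]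

/-- The quotient by an abelian subgroup of index `m` is abelian. -/
theorem commutator_le_of_index (h : TwoDeg m G) (A : Subgroup G) [A.Normal] (hA : A.index = m) :
    commutator G ≤ A := by
  classical
  have := Fintype.ofFinite (IrrCharacter (G ⧸ A))
  have hlin : ∀ θ : IrrCharacter (G ⧸ A), (θ : G ⧸ A → ℂ) 1 = 1 := by
    intro θ
    rw [Block.ItoMichler.one_eq_cast θ]
    by_contra hne
    have hd : charDegree (θ : G ⧸ A → ℂ) = m := (h.quotient A θ).resolve_left fun e => hne (by rw [e, Nat.cast_one])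
    have h1 := sum_degree_sq (G := G ⧸ A)
    simp only [Block.ItoMichler.one_eq_cast] at h1
    norm_cast at h1
    have h2 := Finset.single_le_sum (f := fun ψ : IrrCharacter (G ⧸ A) => charDegree (ψ : G ⧸ A → ℂ) ^ 2)
      (fun ψ _ => Nat.zero_le _) (Finset.mem_univ θ)
    rw [h1, hd, ← Subgroup.index_eq_card, hA] at h2
    rcases Nat.lt_or_ge m 2 with h3 | h3
    · interval_cases m
      · exact Subgroup.index_ne_zero_of_finite hA
      · exact hne (by rw [hd, Nat.cast_one])
    · nlinarith
  rw [commutator_def, Subgroup.commutator_le]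
  intro a _ b _
  rw [← QuotientGroup.eq_one_iff,
    show ((⁅a, b⁆ : G) : G ⧸ A) = ⁅(a : G ⧸ A), (b : G ⧸ A)⁆ from
      map_commutatorElement (QuotientGroup.mk' A) a b,
    commutatorElement_eq_one_iff_mul_comm]
  exact comm_of_degree_one hlin _ _

theorem exists_pi_complement (h : TwoDeg m G)
    (habp : ∀ p : ℕ, p.Prime → p ∣ m → ∀ N : Subgroup G, N.Normal → (Nat.card N).Coprime p →
      (∃ k, N.index = p ^ k) → commutator G ≤ N) (s : Finset ℕ) (hs : ∀ p ∈ s, p.Prime ∧ p ∣ m) :
    ∃ N : Subgroup G, commutator G ≤ N ∧ (∀ p ∈ s, ¬ p ∣ Nat.card N) ∧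
      ∀ r : ℕ, r.Prime → r ∣ N.index → r ∈ s := by
  induction s using Finset.induction_on with
  | empty => exact ⟨⊤, le_top, by simp, fun r hr hd => absurd (by simpa using hd) hr.ne_one⟩
  | @insert a s _ ih =>
    obtain ⟨N, hN1, hN2, hN3⟩ := ih fun p hp => hs p (Finset.mem_insert_of_mem hp)
    obtain ⟨ha, ham⟩ := hs a (Finset.mem_insert_self _ _)
    obtain ⟨K, hKn, hKc, hKi⟩ := Agent.S4456.result a ha fun χ hχ => by
      rw [(h χ).resolve_left hχ]; exact ham
    haveI := hKn
    have hK := habp a ha ham K hKn hKc hKi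
    refine ⟨N ⊓ K, le_inf hN1 hK, fun p hp hd => ?_, fun r hr hd => ?_⟩
    · rcases Finset.mem_insert.1 hp with rfl | hp
      · exact (ha.coprime_iff_not_dvd.1 hKc.symm) (hd.trans (Subgroup.card_dvd_of_le inf_le_right))
      · exact hN2 p hp (hd.trans (Subgroup.card_dvd_of_le inf_le_left))
    · rw [← Subgroup.relIndex_mul_index (inf_le_left : N ⊓ K ≤ N), hr.dvd_mul,
        Subgroup.inf_relIndex_left] at hd
      rcases hd with hd | hd
      · obtain ⟨k, hk⟩ := hKi
        have h2 := hd.trans (Subgroup.relIndex_dvd_index_of_normal K N)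
        rw [hk] at h2
        rw [(Nat.prime_dvd_prime_iff_eq hr ha).1 (hr.dvd_of_dvd_pow h2)]
        exact Finset.mem_insert_self _ _
      · exact Finset.mem_insert_of_mem (hN3 r hr hd)

/-- The structure theorem. -/
theorem structure_theorem (h : TwoDeg m G) (hna : ∃ a b : G, a * b ≠ b * a) :
    ((∃ A : Subgroup G, A.Normal ∧ (∀ a ∈ A, ∀ b ∈ A, a * b = b * a) ∧ A.index = m) ∨
      ∃ p e : ℕ, p.Prime ∧ m = p ^ e ∧ ∃ P A : Subgroup G, P.Normal ∧ A.Normal ∧ IsPGroup p P ∧
        (∀ a ∈ A, ∀ b ∈ A, a * b = b * a) ∧ P ⊓ A = ⊥ ∧ P ⊔ A = ⊤) ∧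
    ∀ a ∈ commutator G, ∀ b ∈ commutator G, a * b = b * a := by
  classical
  obtain ⟨χ₀, hχ₀⟩ := exists_degree_m h hna
  have hm0 : m ≠ 0 := by
    obtain ⟨d, hd, hd1⟩ := isIrrCharacter_degree χ₀.2
    rw [← hχ₀, charDegree_of_eq hd1]
    omega
  have hA : (∃ A : Subgroup G, A.Normal ∧ (∀ a ∈ A, ∀ b ∈ A, a * b = b * a) ∧ A.index = m) →
      ∀ a ∈ commutator G, ∀ b ∈ commutator G, a * b = b * a := by
    rintro ⟨A, hAn, hAab, hAm⟩ a ha b hb
    haveI := hAn
    exact hAab a (commutator_le_of_index h A hAm ha) b (commutator_le_of_index h A hAm hb)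
  by_cases hcase : ∀ p : ℕ, p.Prime → p ∣ m → ∀ N : Subgroup G, N.Normal → (Nat.card N).Coprime p →
      (∃ k, N.index = p ^ k) → commutator G ≤ N
  · obtain ⟨N, hN1, hN2, hN3⟩ := exists_pi_complement h hcase m.primeFactors fun p hp =>
      ⟨Nat.prime_of_mem_primeFactors hp, Nat.dvd_of_mem_primeFactors hp⟩
    haveI : N.Normal := normal_of_commutator_le hN1
    have hcopm : (Nat.card N).Coprime m := Nat.coprime_of_dvd fun k hk hk1 hk2 =>
      hN2 k (Nat.mem_primeFactors.2 ⟨hk, hk2, hm0⟩) hk1
    have hNab : ∀ a ∈ N, ∀ b ∈ N, a * b = b * a := by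
      have := Fintype.ofFinite G
      have := Fintype.ofFinite N
      intro a ha b hb
      refine congrArg Subtype.val (comm_of_degree_one (fun θ : IrrCharacter N => ?_) ⟨a, ha⟩ ⟨b, hb⟩)
      obtain ⟨χ, hχ⟩ := Block.ItoMichler.exists_irr_over N θ
      have h1 := (Block.ItoMichler.dvd_of_constituent N χ θ hχ).1
      have h2 : charDegree (θ : N → ℂ) ∣ Nat.card N :=
        degree_dvd_card θ (Block.ItoMichler.one_eq_cast θ)
      rw [Block.ItoMichler.one_eq_cast θ]
      rcases h χ with e | e <;> rw [e] at h1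
      · rw [Nat.dvd_one.1 h1, Nat.cast_one]
      · rw [Nat.eq_one_of_dvd_coprimes hcopm h2 h1, Nat.cast_one]
    have hcop : (Nat.card N).Coprime N.index := Nat.coprime_of_dvd fun k hk hk1 hk2 =>
      hN2 k (hN3 k hk hk2) hk1
    have hres : ∃ A : Subgroup G, A.Normal ∧ (∀ a ∈ A, ∀ b ∈ A, a * b = b * a) ∧ A.index = m := by
      refine (central_or_exists h N hNab hcop fun T hT _ _ => hN1.trans hT).resolve_left fun hc => ?_
      obtain ⟨a, b, hab⟩ := hna
      have hab' : ⁅a, b⁆ ∈ N := hN1 (by
        rw [commutator_def]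
        exact Subgroup.commutator_mem_commutator (Subgroup.mem_top a) (Subgroup.mem_top b))
      refine hab (comm_eq_one_of_coprime a b hcop.symm
        (congrArg Subtype.val (pow_card_eq_one' (x := (⟨_, hab'⟩ : N))))
        (fun x => (Subgroup.mem_center_iff.1 (hc hab') x).symm)
        ((Subgroup.mem_center_iff.1 (hc (Subgroup.pow_index_mem N a)) b).symm))
    exact ⟨Or.inl hres, hA hres⟩
  · push Not at hcase
    obtain ⟨p, hp, hpm, K, hKn, hKc, ⟨k, hk⟩, hKG⟩ := hcase
    haveI := hKn
    haveI := Fact.mk hp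
    have hQna : ∃ a b : G ⧸ K, a * b ≠ b * a := by
      by_contra hc
      push Not at hc
      refine hKG ?_
      rw [commutator_def, Subgroup.commutator_le]
      intro a _ b _
      rw [← QuotientGroup.eq_one_iff,
        show ((⁅a, b⁆ : G) : G ⧸ K) = ⁅(a : G ⧸ K), (b : G ⧸ K)⁆ from
          map_commutatorElement (QuotientGroup.mk' K) a b,
        commutatorElement_eq_one_iff_mul_comm]
      exact hc _ _
    have hQp : IsPGroup p (G ⧸ K) := IsPGroup.of_card (n := k) (by rw [← Subgroup.index_eq_card, hk])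
    obtain ⟨θ, hθ⟩ := exists_degree_m (h.quotient K) hQna
    have hmdvd : m ∣ p ^ k := by
      rw [← hθ, ← hk, Subgroup.index_eq_card]
      exact degree_dvd_card θ (Block.ItoMichler.one_eq_cast θ)
    obtain ⟨e, -, he⟩ := (Nat.dvd_prime_pow hp).1 hmdvd
    obtain ⟨A, hAn, hAab, hAc, l, hl⟩ := exists_abelian_complement_of_degrees hp fun χ => by
      rcases h χ with e' | e'
      · exact ⟨0, by rw [Block.ItoMichler.one_eq_cast χ, e']; simp⟩
      · exact ⟨e, by rw [Block.ItoMichler.one_eq_cast χ, e', he]; simp⟩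
    haveI := hAn
    have hGAp : IsPGroup p (G ⧸ A) := IsPGroup.of_card (n := l) (by rw [← Subgroup.index_eq_card, hl])
    haveI : Group.IsNilpotent (G ⧸ A) := hGAp.isNilpotent
    have hAcop : (Nat.card A).Coprime A.index := by rw [hl]; exact hAc.pow_right l
    -- `A ≤ K`
    have hAK : A ≤ K := fun a ha => by
      rw [← QuotientGroup.eq_one_iff, ← orderOf_eq_one_iff]
      refine Nat.eq_one_of_dvd_coprimes ((hAc.pow_right k).coprime_dvd_left ?_) dvd_rfl ?_
      · exact (orderOf_map_dvd (QuotientGroup.mk' K) a).trans (by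
          rw [← Subgroup.orderOf_mk a ha]; exact orderOf_dvd_natCard _)
      · rw [← hk, Subgroup.index_eq_card]; exact orderOf_dvd_natCard _
    have hQ'na : ∃ a b : G ⧸ A, a * b ≠ b * a := by
      by_contra hc
      push Not at hc
      refine hKG (le_trans ?_ hAK)
      rw [commutator_def, Subgroup.commutator_le]
      intro a _ b _
      rw [← QuotientGroup.eq_one_iff,
        show ((⁅a, b⁆ : G) : G ⧸ A) = ⁅(a : G ⧸ A), (b : G ⧸ A)⁆ from
          map_commutatorElement (QuotientGroup.mk' A) a b,
        commutatorElement_eq_one_iff_mul_comm]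
      exact hc _ _
    rcases central_or_exists h A hAab hAcop (fun T hAT hTm hTab => by
        have hB := commutator_le_of_abelian_index (h.quotient A) hQ'na (T.map (QuotientGroup.mk' A)) (by
          rintro _ ⟨a, ha, rfl⟩ _ ⟨b, hb, rfl⟩
          rw [← commutatorElement_eq_one_iff_mul_comm, ← map_commutatorElement]
          exact (QuotientGroup.eq_one_iff _).2 (hTab a ha b hb)) (by
          rw [Subgroup.index_map, QuotientGroup.ker_mk', sup_eq_left.2 hAT,
            MonoidHom.range_eq_top.2 (QuotientGroup.mk'_surjective A), Subgroup.index_top, mul_one, hTm])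
        intro c hc
        have h1 : (c : G ⧸ A) ∈ commutator (G ⧸ A) := by
          rw [← QuotientGroup.mk'_apply, commutator_def]
          have h2 := Subgroup.mem_map_of_mem (QuotientGroup.mk' A) hc
          rw [commutator_def, Subgroup.map_commutator] at h2
          exact Subgroup.commutator_mono le_top le_top h2
        obtain ⟨t, ht, htc⟩ := hB h1
        have h3 : t⁻¹ * c ∈ A := QuotientGroup.eq.1 htc
        have := T.mul_mem ht (hAT h3)
        rwa [mul_inv_cancel_left] at this) with hc | hres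
    · refine ⟨Or.inr ⟨p, e, hp, he, ?_⟩, ?_⟩
      · obtain ⟨P⟩ : Nonempty (Sylow p G) := inferInstance
        have hdisj : (P : Subgroup G) ⊓ A = ⊥ := by
          refine Subgroup.inf_eq_bot_of_coprime ?_
          obtain ⟨i, hi⟩ := IsPGroup.iff_card.1 P.2
          rw [hi]
          exact Nat.Coprime.pow_left i hAc.symm
        have htop : (P : Subgroup G) ⊔ A = ⊤ := by
          refine Subgroup.eq_top_of_card_eq _ (Nat.dvd_antisymm (Subgroup.card_subgroup_dvd_card _) ?_)
          rw [← A.card_mul_index]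
          refine Nat.Coprime.mul_dvd_of_dvd_of_dvd hAcop (Subgroup.card_dvd_of_le le_sup_right) ?_
          refine dvd_trans ?_ (Subgroup.card_dvd_of_le le_sup_left)
          rw [P.card_eq_multiplicity, hl]
          exact pow_dvd_pow p ((hp.pow_dvd_iff_le_factorization Nat.card_pos.ne').1
            (hl ▸ Subgroup.index_dvd_card A))
        refine ⟨P, A, ?_, hAn, P.2, hAab, hdisj, htop⟩
        refine ⟨fun x hx g => ?_⟩
        have hg : g ∈ ((P : Subgroup G) ⊔ A) := htop ▸ Subgroup.mem_top g
        have hN : (P : Subgroup G) ⊔ A ≤ Subgroup.normalizer ((P : Subgroup G) : Set G) :=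
          sup_le Subgroup.le_normalizer (le_trans (fun a ha => Subgroup.mem_centralizer_iff.2 fun y _ =>
            Subgroup.mem_center_iff.1 (hc ha) y) (Subgroup.centralizer_le_normalizer _))
        exact (Subgroup.mem_normalizer_iff.1 (hN hg) x).1 hx
      · haveI : Group.IsNilpotent G := Subgroup.isNilpotent_of_ker_le_center (QuotientGroup.mk' A)
          (by rw [QuotientGroup.ker_mk']; exact hc)
        exact commutator_comm_of_nilpotent h
    · exact ⟨Or.inl hres, hA hres⟩

end CfsgLib.Char.TwoDegrees
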