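import Cfsg.Agent.Lib.Char.DerangementComponents
import Cfsg.Agent.Lib.Invol.CyclicCentralizer
import Mathlib.GroupTheory.Sylow

/-!
# Doubly transitive groups of degree `2 mod 4`

The minimal normal subgroup is simple and doubly transitive. The Sylow 2-subgroup `U` of its point
stabilizer fixes exactly two points, because the group induced on the fixed points by its
normalizer has a normal subgroup of odd order and index 2.
-/

set_option autoImplicit false
set_option linter.unusedSectionVars false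
set_option linter.style.haveILetI false

namespace CfsgLib.Char.TwoModFour

open MulAction Subgroup CfsgLib.Char.ExtremelyType

universe u v

variable {G : Type u} [Group G] [Finite G] {Ω : Type v} [MulAction G Ω] [Finite Ω] [FaithfulSMul G Ω]

/-- A regular normal subgroup of a doubly transitive group is solvable. -/
theorem free_solvable (h2 : IsMultiplyPretransitive G Ω 2) {N : Subgroup G} [hN : N.Normal] (α : Ω)
    (hfree : ∀ x ∈ N, x • α = α → x = 1) : Group.IsSolvable N := by
  classical
  have hinj : ∀ x ∈ N, ∀ y ∈ N, x • α = y • α → x = y := fun x hx y hy e =>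
    (inv_mul_eq_one.1 (hfree _ (mul_mem (inv_mem hy) hx) (by rw [mul_smul, e, inv_smul_smul]))).symm
  by_cases h0 : Nat.card N = 1
  · haveI : Subsingleton N := (Nat.card_eq_one_iff_unique.1 h0).1
    exact Group.isSolvable_of_comm fun a b => Subsingleton.elim _ _
  obtain ⟨p, hp, hpN⟩ := Nat.exists_prime_and_dvd h0
  haveI := Fact.mk hp
  obtain ⟨x, hx⟩ := exists_prime_orderOf_dvd_card' p hpN
  have hx1 : (x : G) • α ≠ α := fun e => hp.ne_one (by
    rw [← hx, ← Subgroup.orderOf_coe, hfree x x.2 e, orderOf_one])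
  have hpg : IsPGroup p N := by
    intro y
    by_cases hy1 : y = 1
    · exact ⟨0, by rw [hy1, one_pow]⟩
    have hyα : (y : G) • α ≠ α := fun e => hy1 (Subtype.ext (hfree y y.2 e))
    obtain ⟨g, hg1, hg2⟩ := (is_two_pretransitive_iff.1 h2) (Ne.symm hx1) (Ne.symm hyα)
    have he : g * x * g⁻¹ = (y : G) := by
      refine hinj _ (hN.conj_mem x x.2 g) _ y.2 ?_
      rw [mul_smul, mul_smul, inv_smul_eq_iff.2 hg1.symm, hg2]
    refine ⟨1, Subtype.ext ?_⟩
    rw [pow_one, SubgroupClass.coe_pow, ← he, conj_pow, ← SubgroupClass.coe_pow, ← hx,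
      pow_orderOf_eq_one, OneMemClass.coe_one, mul_one, mul_inv_cancel]
  haveI := hpg.isNilpotent
  infer_instance

/-- A group of order twice an odd number has a subgroup consisting of its elements of odd order. -/
theorem exists_odd_half {Q : Type u} [Group Q] [Finite Q] (m : ℕ) (hm : Odd m)
    (hQ : Nat.card Q = 2 * m) :
    ∃ H : Subgroup Q, H.index = 2 ∧ ∀ x : Q, x ∈ H ↔ x ^ m = 1 := by
  haveI := Fact.mk Nat.prime_two
  let S : Sylow 2 Q := default
  have hS : Nat.card (S : Subgroup Q) = 2 := by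
    rw [S.card_eq_multiplicity, hQ, Nat.factorization_mul (by norm_num) hm.pos.ne',
      Finsupp.add_apply, Nat.Prime.factorization_self Nat.prime_two,
      Nat.factorization_eq_zero_of_not_dvd (fun h => (Nat.not_even_iff_odd.2 hm) (even_iff_two_dvd.2 h))]
    norm_num
  haveI : IsCyclic (S : Subgroup Q) := isCyclic_of_prime_card hS
  obtain ⟨H, hH⟩ := CfsgLib.Invol.exists_index_two_of_cyclic (hQ ▸ even_two_mul m) S inferInstance
  have hcard : Nat.card H = m := by
    have := H.card_mul_index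
    rw [hH, hQ] at this
    omega
  refine ⟨H, hH, fun x => ⟨fun hx => ?_, fun hx => ?_⟩⟩
  · have h1 : (⟨x, hx⟩ : H) ^ m = 1 := by rw [← hcard]; exact pow_card_eq_one'
    exact congrArg Subtype.val h1
  · obtain ⟨j, hj⟩ := hm
    have h1 : x ^ (2 * j) ∈ H := by rw [pow_mul]; exact pow_mem (Subgroup.sq_mem_of_index_two hH x) j
    have h2 : x * x ^ (2 * j) ∈ H := by rw [← pow_succ', ← hj, hx]; exact one_mem H
    simpa using mul_mem h2 (inv_mem h1)

variable [Fintype Ω]

/-- The normal subgroup is doubly transitive. -/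
theorem two_transitive_normal (h2 : IsMultiplyPretransitive G Ω 2)
    (hn : Fintype.card Ω % 4 = 2) {M : Subgroup G} [hM : M.Normal] (hMt : IsPretransitive M Ω) :
    IsMultiplyPretransitive M Ω 2 := by
  classical
  haveI := Fact.mk Nat.prime_two
  haveI := hMt
  haveI : Nonempty Ω := Fintype.card_pos_iff.1 (by omega)
  obtain ⟨a⟩ := ‹Nonempty Ω›
  let Ma : Subgroup G := M ⊓ stabilizer G a
  have hMcard : Nat.card M = Fintype.card Ω * Nat.card Ma := by
    rw [← Nat.card_eq_fintype_card, ← index_stabilizer_of_transitive M a,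
      ← Subgroup.card_mul_index (stabilizer M a), mul_comm]
    congr 1
    refine Nat.card_congr
      { toFun := fun x => ⟨x.1, Subgroup.mem_inf.2 ⟨x.1.2, x.2⟩⟩
        invFun := fun x => ⟨⟨x.1, (Subgroup.mem_inf.1 x.2).1⟩, (Subgroup.mem_inf.1 x.2).2⟩
        left_inv := fun x => rfl
        right_inv := fun x => rfl }
  have hfac : (Nat.card M).factorization 2 = (Nat.card Ma).factorization 2 + 1 := by
    rw [hMcard, Nat.factorization_mul Fintype.card_ne_zero Nat.card_pos.ne', Finsupp.add_apply,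
      add_comm]
    congr 1
    obtain ⟨j, hj⟩ : ∃ j, Fintype.card Ω = 2 * j ∧ Odd j :=
      ⟨Fintype.card Ω / 2, by omega, by rw [Nat.odd_iff]; omega⟩
    rw [hj.1, Nat.factorization_mul (by norm_num) hj.2.pos.ne', Finsupp.add_apply,
      Nat.Prime.factorization_self Nat.prime_two,
      Nat.factorization_eq_zero_of_not_dvd
        (fun h => (Nat.not_even_iff_odd.2 hj.2) (even_iff_two_dvd.2 h))]
  let S : Sylow 2 Ma := default
  set U : Subgroup G := (S : Subgroup Ma).map Ma.subtype with hU
  have hUcard : Nat.card U = 2 ^ (Nat.card Ma).factorization 2 := by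
    rw [hU, card_map_of_injective Ma.subtype_injective, S.card_eq_multiplicity]
  have hUMa : U ≤ Ma := map_subtype_le _
  have hUp : IsPGroup 2 U := IsPGroup.of_card hUcard
  let F : Set Ω := {z | ∀ u ∈ U, u • z = z}
  have haF : a ∈ F := fun u hu => (Subgroup.mem_inf.1 (hUMa hu)).2
  have hRF : ∀ r ∈ normalizer (U : Set G), ∀ z ∈ F, r • z ∈ F := by
    intro r hr z hz u hu
    have h1 : r⁻¹ * u * r ∈ U := by
      have := (mem_normalizer_iff.1 (inv_mem hr) u).1 hu
      rwa [inv_inv] at this
    have h2 := hz _ h1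
    rw [mul_smul, mul_smul, inv_smul_eq_iff] at h2
    exact h2
  -- Witt's lemma
  have hWitt : ∀ c ∈ F, c ≠ a → ∀ d ∈ F, d ≠ a →
      ∃ r ∈ normalizer (U : Set G), r • a = a ∧ r • c = d := by
    intro c hc hca d hd hda
    obtain ⟨g, hga, hgc⟩ := (is_two_pretransitive_iff.1 h2) (Ne.symm hca) (Ne.symm hda)
    let L : Subgroup G := Ma ⊓ stabilizer G d
    have h1 : U ≤ L := fun u hu => Subgroup.mem_inf.2 ⟨hUMa hu, hd u hu⟩
    have h2' : U.map (MulAut.conj g).toMonoidHom ≤ L := by
      rintro _ ⟨u, hu, rfl⟩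
      show g * u * g⁻¹ ∈ L
      refine Subgroup.mem_inf.2 ⟨Subgroup.mem_inf.2
        ⟨hM.conj_mem u (Subgroup.mem_inf.1 (hUMa hu)).1 g, ?_⟩, ?_⟩
      · rw [mem_stabilizer_iff, mul_smul, mul_smul, inv_smul_eq_iff.2 hga.symm, haF u hu, hga]
      · rw [mem_stabilizer_iff, mul_smul, mul_smul, inv_smul_eq_iff.2 hgc.symm, hc u hu, hgc]
    have hLfac : (Nat.card L).factorization 2 = (Nat.card Ma).factorization 2 := by
      refine le_antisymm ((Nat.factorization_le_iff_dvd Nat.card_pos.ne' Nat.card_pos.ne').2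
        (card_dvd_of_le inf_le_left) 2) ?_
      refine (Nat.prime_two.pow_dvd_iff_le_factorization Nat.card_pos.ne').1 ?_
      rw [← hUcard]
      exact card_dvd_of_le h1
    let P₁ : Sylow 2 L := Sylow.ofCard (U.subgroupOf L) (by
      rw [Nat.card_congr (subgroupOfEquivOfLe h1).toEquiv, hUcard, hLfac])
    let P₂ : Sylow 2 L := Sylow.ofCard ((U.map (MulAut.conj g).toMonoidHom).subgroupOf L) (by
      rw [Nat.card_congr (subgroupOfEquivOfLe h2').toEquiv,
        card_map_of_injective (MulAut.conj g).injective, hUcard, hLfac])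
    obtain ⟨l, hl⟩ := MulAction.exists_smul_eq L P₂ P₁
    have hl' := congrArg (fun P : Sylow 2 L => (P : Subgroup L)) hl
    simp only [Sylow.coe_subgroup_smul, P₁, P₂, Sylow.coe_ofCard] at hl'
    have hlg : ∀ u ∈ U, ((l : G) * g) * u * ((l : G) * g)⁻¹ ∈ U := by
      intro u hu
      have hmem : g * u * g⁻¹ ∈ L := h2' (mem_map_of_mem _ hu)
      have h3 : l * ⟨_, hmem⟩ * l⁻¹ ∈ U.subgroupOf L := by
        rw [← hl']
        exact Subgroup.smul_mem_pointwise_smul _ (MulAut.conj l) _
          (mem_subgroupOf.2 (mem_map_of_mem _ hu))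
      have h4 := mem_subgroupOf.1 h3
      simpa [mul_assoc] using h4
    have hnorm : (l : G) * g ∈ normalizer (U : Set G) := by
      rw [mem_normalizer_iff]
      intro x
      refine ⟨hlg x, fun hx => ?_⟩
      obtain ⟨y, hy⟩ := (Finite.surjective_of_injective
        (f := fun y : U => (⟨_, hlg y.1 y.2⟩ : U)) fun y z e => Subtype.ext
          (mul_left_cancel (mul_right_cancel (congrArg Subtype.val e)))) ⟨_, hx⟩
      have := mul_left_cancel (mul_right_cancel (congrArg Subtype.val hy))
      exact this ▸ y.2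
    exact ⟨_, hnorm, by
      rw [mul_smul, hga]; exact (Subgroup.mem_inf.1 (Subgroup.mem_inf.1 l.2).1).2, by
      rw [mul_smul, hgc]; exact (Subgroup.mem_inf.1 l.2).2⟩
  -- a 2-element of `M` swapping
  obtain ⟨t, htM, htN, htU, hta⟩ : ∃ t ∈ M, t ∈ normalizer (U : Set G) ∧ t * t ∈ U ∧ t • a ≠ a := by
    have hUM : U ≤ M := hUMa.trans inf_le_left
    have hp1 : IsPGroup 2 (U.subgroupOf M) :=
      IsPGroup.of_card (n := (Nat.card Ma).factorization 2)
        (by rw [Nat.card_congr (subgroupOfEquivOfLe hUM).toEquiv, hUcard])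
    obtain ⟨T, hT⟩ := hp1.exists_le_sylow
    have hTcard : Nat.card (T : Subgroup M) = 2 * Nat.card U := by
      rw [T.card_eq_multiplicity, hfac, hUcard, pow_succ, mul_comm]
    have hidx : (U.subgroupOf M).relIndex (T : Subgroup M) = 2 := by
      have h1 := Subgroup.card_mul_index ((U.subgroupOf M).subgroupOf (T : Subgroup M))
      rw [Nat.card_congr (subgroupOfEquivOfLe hT).toEquiv,
        Nat.card_congr (subgroupOfEquivOfLe hUM).toEquiv, hTcard, mul_comm 2] at h1
      exact Nat.eq_of_mul_eq_mul_left Nat.card_pos h1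
    obtain ⟨x, hxT, hxU⟩ : ∃ x : M, x ∈ T ∧ (x : G) ∉ U := by
      by_contra hno
      push Not at hno
      have hle : (T : Subgroup M) ≤ U.subgroupOf M := fun x hx => mem_subgroupOf.2 (hno x hx)
      rw [relIndex_eq_one.2 hle] at hidx
      omega
    haveI hn' : ((U.subgroupOf M).subgroupOf (T : Subgroup M)).Normal :=
      Subgroup.normal_of_index_eq_two hidx
    refine ⟨x, x.2, ?_, ?_, fun e => hxU ?_⟩
    · have key : ∀ z : M, z ∈ T → ∀ u ∈ U, (z : G) * u * (z : G)⁻¹ ∈ U := by
        intro z hz u hu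
        have := hn'.conj_mem ⟨⟨u, hUM hu⟩, hT (mem_subgroupOf.2 hu)⟩
          (mem_subgroupOf.2 (mem_subgroupOf.2 hu)) ⟨z, hz⟩
        exact mem_subgroupOf.1 (mem_subgroupOf.1 this)
      rw [mem_normalizer_iff]
      refine fun u => ⟨key x hxT u, fun hu => ?_⟩
      have := key x⁻¹ (inv_mem hxT) _ hu
      simpa [mul_assoc] using this
    · have := Subgroup.sq_mem_of_index_two (H := (U.subgroupOf M).subgroupOf (T : Subgroup M)) hidx ⟨x, hxT⟩
      have := mem_subgroupOf.1 (mem_subgroupOf.1 this)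
      simpa [sq] using this
    · -- then `T` would fix `a`
      have hTa : (T : Subgroup M).map M.subtype ≤ Ma := by
        rintro _ ⟨z, hz, rfl⟩
        refine Subgroup.mem_inf.2 ⟨z.2, ?_⟩
        by_cases hzU : (z : G) ∈ U
        · exact (Subgroup.mem_inf.1 (hUMa hzU)).2
        · have hmul := (Subgroup.mul_mem_iff_of_index_two
            (H := (U.subgroupOf M).subgroupOf (T : Subgroup M)) hidx
            (a := ⟨x, hxT⟩) (b := ⟨z, hz⟩)).2
            ⟨fun h => absurd (mem_subgroupOf.1 (mem_subgroupOf.1 h)) hxU,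
              fun h => absurd (mem_subgroupOf.1 (mem_subgroupOf.1 h)) hzU⟩
          have h3 := haF _ (mem_subgroupOf.1 (mem_subgroupOf.1 hmul))
          have h3' : ((x : G) * z) • a = a := h3
          rw [mul_smul] at h3'
          rw [mem_stabilizer_iff]
          exact MulAction.injective (x : G) (h3'.trans e.symm)
      exfalso
      have h5 := card_dvd_of_le hTa
      rw [card_map_of_injective M.subtype_injective, hTcard, hUcard, ← pow_succ'] at h5
      have := (Nat.prime_two.pow_dvd_iff_le_factorization Nat.card_pos.ne').1 h5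
      omega
  set b := t • a with hb
  have hbF : b ∈ F := hRF t htN a haF
  -- the normalizer in `M` and its half
  let NM : Subgroup G := M ⊓ normalizer (U : Set G)
  have hUNM : U ≤ NM := le_inf (hUMa.trans inf_le_left) Subgroup.le_normalizer
  haveI : (U.subgroupOf NM).Normal := ⟨fun u hu x => mem_subgroupOf.2
    ((mem_normalizer_iff.1 (Subgroup.mem_inf.1 x.2).2 u).1 (mem_subgroupOf.1 hu))⟩
  have htNM : t ∈ NM := Subgroup.mem_inf.2 ⟨htM, htN⟩
  let π := QuotientGroup.mk' (U.subgroupOf NM)
  obtain ⟨m, hm, hmodd⟩ : ∃ m, Nat.card (NM ⧸ U.subgroupOf NM) = 2 * m ∧ Odd m := by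
    have hcard : Nat.card NM = Nat.card (NM ⧸ U.subgroupOf NM) * Nat.card U := by
      rw [Subgroup.card_eq_card_quotient_mul_card_subgroup (U.subgroupOf NM),
        Nat.card_congr (subgroupOfEquivOfLe hUNM).toEquiv]
    have heven : 2 ∣ Nat.card (NM ⧸ U.subgroupOf NM) := by
      have h1 : orderOf (π ⟨t, htNM⟩) = 2 := by
        refine orderOf_eq_prime ?_ ?_
        · rw [← map_pow, QuotientGroup.mk'_apply, QuotientGroup.eq_one_iff, mem_subgroupOf]
          simpa [sq] using htU
        · rw [QuotientGroup.mk'_apply, ne_eq, QuotientGroup.eq_one_iff, mem_subgroupOf]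
          exact fun h => hta (haF t h)
      exact h1 ▸ orderOf_dvd_natCard _
    obtain ⟨m, hm⟩ := heven
    refine ⟨m, hm, Nat.not_even_iff_odd.1 fun he => ?_⟩
    obtain ⟨j, rfl⟩ := he.two_dvd
    have h5 : 2 ^ ((Nat.card Ma).factorization 2 + 2) ∣ Nat.card M := by
      refine dvd_trans ⟨j, ?_⟩ (card_dvd_of_le (inf_le_left : NM ≤ M))
      rw [hcard, hm, hUcard]
      ring
    have := (Nat.prime_two.pow_dvd_iff_le_factorization Nat.card_pos.ne').1 h5
    omega
  obtain ⟨H, hH2, hHmem⟩ := exists_odd_half m hmodd hm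
  let K : Subgroup NM := H.comap π
  have hKidx : K.index = 2 := by
    rw [Subgroup.index_comap_of_surjective _ (QuotientGroup.mk'_surjective _), hH2]
  have hKmem : ∀ x : NM, x ∈ K ↔ (x : G) ^ m ∈ U := by
    intro x
    rw [mem_comap, hHmem, ← map_pow, QuotientGroup.mk'_apply, QuotientGroup.eq_one_iff, mem_subgroupOf,
      SubgroupClass.coe_pow]
  have hconjK : ∀ r ∈ normalizer (U : Set G), ∀ x : NM, x ∈ K →
      ∃ y : NM, y ∈ K ∧ (y : G) = r * x * r⁻¹ := by
    intro r hr x hx
    have hmem : r * (x : G) * r⁻¹ ∈ NM := Subgroup.mem_inf.2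
      ⟨hM.conj_mem _ (Subgroup.mem_inf.1 x.2).1 r,
        mul_mem (mul_mem hr (Subgroup.mem_inf.1 x.2).2) (inv_mem hr)⟩
    refine ⟨⟨_, hmem⟩, ?_, rfl⟩
    rw [hKmem]
    show (r * (x : G) * r⁻¹) ^ m ∈ U
    rw [conj_pow]
    exact (mem_normalizer_iff.1 hr _).1 ((hKmem x).1 hx)
  have hFeven : 2 ∣ Nat.card F := by
    have h1 := hUp.card_modEq_card_fixedPoints Ω
    have e : MulAction.fixedPoints U Ω = F := by
      ext z
      exact ⟨fun h u hu => h ⟨u, hu⟩, fun h u => h u u.2⟩
    rw [e, Nat.card_eq_fintype_card (α := Ω)] at h1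
    rw [← Nat.modEq_zero_iff_dvd]
    exact h1.symm.trans (by unfold Nat.ModEq; omega)
  have hKfix : ∀ x : NM, x ∈ K → (x : G) • a = a := by
    by_contra hno
    push Not at hno
    obtain ⟨x, hx, hxa⟩ := hno
    have hxF : (x : G) • a ∈ F := hRF _ (Subgroup.mem_inf.1 x.2).2 a haF
    have horb : MulAction.orbit K a = F := by
      ext z
      constructor
      · rintro ⟨y, rfl⟩
        exact hRF _ (Subgroup.mem_inf.1 y.1.2).2 a haF
      · intro hz
        by_cases hza : z = a
        · rw [hza]; exact MulAction.mem_orbit_self a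
        obtain ⟨r, hr, hra, hrz⟩ := hWitt _ hxF hxa z hz hza
        obtain ⟨y, hy, hye⟩ := hconjK r hr x hx
        refine ⟨⟨y, hy⟩, ?_⟩
        show (y : G) • a = z
        rw [hye, mul_smul, mul_smul, inv_smul_eq_iff.2 hra.symm, hrz]
    have h1 := Nat.card_congr (MulAction.orbitProdStabilizerEquivGroup K a)
    rw [Nat.card_prod, horb] at h1
    have hKcard : Nat.card K = m * Nat.card U := by
      have h3 := K.card_mul_index
      rw [hKidx, Subgroup.card_eq_card_quotient_mul_card_subgroup (U.subgroupOf NM), hm,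
        Nat.card_congr (subgroupOfEquivOfLe hUNM).toEquiv, mul_assoc] at h3
      omega
    have hUstab : Nat.card U ∣ Nat.card (stabilizer K a) := by
      let f : U →* stabilizer K a :=
        { toFun := fun u => ⟨⟨⟨u.1, hUNM u.2⟩, (hKmem _).2 (pow_mem u.2 m)⟩, haF u u.2⟩
          map_one' := rfl
          map_mul' := fun _ _ => rfl }
      refine Subgroup.card_dvd_of_injective f fun u v e => Subtype.ext ?_
      exact congrArg (fun z : stabilizer K a => ((z.1 : NM) : G)) e
    obtain ⟨j, hj⟩ := hUstab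
    have h4 : Nat.card F * j = m := Nat.eq_of_mul_eq_mul_right (Nat.card_pos : 0 < Nat.card U)
      (by rw [← hKcard, ← h1, hj]; ring)
    exact (Nat.not_even_iff_odd.2 hmodd) (even_iff_two_dvd.2 (h4 ▸ hFeven.mul_right j))
  have hNMa : ∀ x : NM, (x : G) • a = a ∨ (x : G) • a = b := by
    intro x
    by_cases hx : x ∈ K
    · exact Or.inl (hKfix x hx)
    right
    have htK : (⟨t, htNM⟩ : NM) ∉ K := fun h => hta (hKfix _ h)
    have hmul : (⟨t, htNM⟩ : NM)⁻¹ * x ∈ K := (Subgroup.mul_mem_iff_of_index_two hKidx).2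
      ⟨fun h => absurd ((inv_mem_iff).1 h) htK, fun h => absurd h hx⟩
    have := hKfix _ hmul
    rw [Subgroup.coe_mul, Subgroup.coe_inv, mul_smul, inv_smul_eq_iff] at this
    exact this
  have hF : ∀ c ∈ F, c = a ∨ c = b := by
    intro c hc
    by_cases hca : c = a
    · exact Or.inl hca
    obtain ⟨r, hr, hra, hrc⟩ := hWitt b hbF hta c hc hca
    have hmem : r * t * r⁻¹ ∈ NM := Subgroup.mem_inf.2
      ⟨hM.conj_mem t htM r, mul_mem (mul_mem hr htN) (inv_mem hr)⟩
    have h1 : (r * t * r⁻¹) • a = c := by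
      rw [mul_smul, mul_smul, inv_smul_eq_iff.2 hra.symm, hrc]
    rcases hNMa ⟨_, hmem⟩ with h | h
    · exact absurd (h1.symm.trans h) hca
    · exact Or.inr (h1.symm.trans h)
  -- parity of the orbits of the point stabilizer
  have horb : ∀ c, c ≠ a → c ∈ MulAction.orbit Ma b := by
    intro c hc
    by_contra hno
    have hfix : ∀ z : Ω, ∀ y : MulAction.orbit Ma z,
        y ∈ MulAction.fixedPoints (S : Subgroup Ma) (MulAction.orbit Ma z) ↔ (y : Ω) ∈ F := by
      intro z y
      constructor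
      · intro h u hu
        obtain ⟨s, hs, rfl⟩ := hu
        exact congrArg Subtype.val (h ⟨s, hs⟩)
      · intro h s
        exact Subtype.ext (h _ (mem_map_of_mem _ s.2))
    have hodd1 : Nat.card (MulAction.orbit Ma b) % 2 = 1 := by
      have h1 := S.isPGroup'.card_modEq_card_fixedPoints (MulAction.orbit Ma b)
      have h2 : Nat.card (MulAction.fixedPoints (S : Subgroup Ma) (MulAction.orbit Ma b)) = 1 := by
        rw [Nat.card_eq_one_iff_unique]
        refine ⟨⟨fun p q => ?_⟩, ⟨⟨⟨b, MulAction.mem_orbit_self b⟩, (hfix b _).2 hbF⟩⟩⟩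
        have key : ∀ p : MulAction.fixedPoints (S : Subgroup Ma) (MulAction.orbit Ma b),
            ((p : MulAction.orbit Ma b) : Ω) = b := fun p => by
          rcases hF _ ((hfix b _).1 p.2) with e | e
          · exfalso
            obtain ⟨u, hu⟩ := (p : MulAction.orbit Ma b).2
            have hua : (u : G) • a = a := (Subgroup.mem_inf.1 u.2).2
            exact hta (MulAction.injective (u : G) ((show (u : G) • b = a from hu.trans e).trans hua.symm))
          · exact e
        exact Subtype.ext (Subtype.ext ((key p).trans (key q).symm))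
      rw [h2] at h1
      exact h1
    have heven : Nat.card (MulAction.orbit Ma c) % 2 = 0 := by
      have h1 := S.isPGroup'.card_modEq_card_fixedPoints (MulAction.orbit Ma c)
      have h2 : Nat.card (MulAction.fixedPoints (S : Subgroup Ma) (MulAction.orbit Ma c)) = 0 := by
        haveI : IsEmpty (MulAction.fixedPoints (S : Subgroup Ma) (MulAction.orbit Ma c)) := ⟨fun p => by
          rcases hF _ ((hfix c _).1 p.2) with e | e
          · obtain ⟨u, hu⟩ := (p : MulAction.orbit Ma c).2
            have hua : (u : G) • a = a := (Subgroup.mem_inf.1 u.2).2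
            exact hc (MulAction.injective (u : G) ((show (u : G) • c = a from hu.trans e).trans hua.symm))
          · refine hno ?_
            have h := (p : MulAction.orbit Ma c).2
            rw [e] at h
            rw [MulAction.orbit_eq_iff.2 h]
            exact MulAction.mem_orbit_self c⟩
        exact Nat.card_of_isEmpty
      rw [h2] at h1
      exact h1
    obtain ⟨g, hga, hgb⟩ := (is_two_pretransitive_iff.1 h2) (Ne.symm hta) (Ne.symm hc)
    have hMag : ∀ u : G, u ∈ Ma → g * u * g⁻¹ ∈ Ma := fun u hu => Subgroup.mem_inf.2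
      ⟨hM.conj_mem u (Subgroup.mem_inf.1 hu).1 g, by
        rw [mem_stabilizer_iff, mul_smul, mul_smul, inv_smul_eq_iff.2 hga.symm,
          mem_stabilizer_iff.1 (Subgroup.mem_inf.1 hu).2, hga]⟩
    have hMag' : ∀ u : G, u ∈ Ma → g⁻¹ * u * g ∈ Ma := fun u hu => Subgroup.mem_inf.2
      ⟨by have := hM.conj_mem u (Subgroup.mem_inf.1 hu).1 g⁻¹; rwa [inv_inv] at this, by
        rw [mem_stabilizer_iff, mul_smul, mul_smul, hga, mem_stabilizer_iff.1 (Subgroup.mem_inf.1 hu).2,
          inv_smul_eq_iff.2 hga.symm]⟩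
    have himg : (fun z => g • z) '' MulAction.orbit Ma b = MulAction.orbit Ma c := by
      ext z
      constructor
      · rintro ⟨_, ⟨u, rfl⟩, rfl⟩
        refine ⟨⟨_, hMag u u.2⟩, ?_⟩
        show (g * (u : G) * g⁻¹) • c = g • (u : G) • b
        rw [mul_smul, mul_smul, ← hgb, inv_smul_smul]
      · rintro ⟨u, rfl⟩
        refine ⟨_, ⟨⟨_, hMag' u u.2⟩, rfl⟩, ?_⟩
        show g • ((g⁻¹ * (u : G) * g) • b) = (u : G) • c
        rw [mul_smul, mul_smul, smul_inv_smul, hgb]
    have heq : Nat.card (MulAction.orbit Ma c) = Nat.card (MulAction.orbit Ma b) := by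
      rw [← himg, Nat.card_image_of_injective (MulAction.injective g)]
    omega
  rw [is_two_pretransitive_iff]
  intro x y z w hxy hzw
  obtain ⟨g₁, hg₁⟩ := exists_smul_eq M x a
  obtain ⟨g₂, hg₂⟩ := exists_smul_eq M z a
  have e1 : g₁ • y ≠ a := fun e => hxy (MulAction.injective g₁ (hg₁.trans e.symm))
  have e2 : g₂ • w ≠ a := fun e => hzw (MulAction.injective g₂ (hg₂.trans e.symm))
  obtain ⟨u, hu⟩ := horb _ e1
  obtain ⟨v, hv⟩ := horb _ e2
  refine ⟨g₂⁻¹ * (⟨v, (Subgroup.mem_inf.1 v.2).1⟩ * ⟨u, (Subgroup.mem_inf.1 u.2).1⟩⁻¹) * g₁, ?_, ?_⟩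
  · rw [mul_smul, mul_smul, mul_smul, hg₁]
    rw [inv_smul_eq_iff, hg₂, show (⟨(u : G), (Subgroup.mem_inf.1 u.2).1⟩ : M)⁻¹ • a = a from
      inv_smul_eq_iff.2 (Subgroup.mem_inf.1 u.2).2.symm]
    exact (Subgroup.mem_inf.1 v.2).2
  · rw [mul_smul, mul_smul, mul_smul, ← hu, inv_smul_eq_iff]
    rw [show (⟨(u : G), (Subgroup.mem_inf.1 u.2).1⟩ : M)⁻¹ • (u • b) = b from inv_smul_smul (u : G) b]
    exact hv

/-- **Degree `2 mod 4`.** -/
theorem simple_two_transitive_minimal_normal (h2 : IsMultiplyPretransitive G Ω 2)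
    (hn : Fintype.card Ω % 4 = 2) (hn2 : 2 < Fintype.card Ω) :
    ∃ M : Subgroup G, M.Normal ∧ M ≠ ⊥ ∧ (∀ N : Subgroup G, N.Normal → N ≠ ⊥ → M ≤ N) ∧
      IsSimpleGroup ↥M ∧ IsMultiplyPretransitive ↥M Ω 2 ∧
      Subgroup.centralizer (M : Set G) = ⊥ := by
  classical
  haveI := h2
  haveI hprim : IsPreprimitive G Ω := isPreprimitive_of_is_two_pretransitive h2
  haveI : Nontrivial Ω := Fintype.one_lt_card_iff_nontrivial.1 (by omega)
  obtain ⟨α, ω, hαω⟩ := exists_pair_ne Ω
  have htop : (⊤ : Subgroup G) ≠ ⊥ := by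
    intro e
    obtain ⟨g, hg⟩ := MulAction.exists_smul_eq G α ω
    have h1 : g = 1 := by rw [← mem_bot, ← e]; exact mem_top g
    rw [h1, one_smul] at hg
    exact hαω hg
  obtain ⟨M, hMn, hMb, -, hMmin⟩ :=
    CfsgLib.Coprime.exists_minimal_normal_le (N := (⊤ : Subgroup G)) htop
  have hMN : MinNormal M := ⟨hMn, hMb, hMmin⟩
  haveI := hMn
  have htr : ∀ {K : Type u} [Group K] [MulAction K Ω] [FaithfulSMul K Ω] [IsPreprimitive K Ω]
      (N : Subgroup K) [N.Normal], N ≠ ⊥ → IsPretransitive N Ω := by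
    intro K _ _ _ _ N _ hN
    refine IsQuasiPreprimitive.isPretransitive_of_normal fun e => hN ?_
    rw [eq_bot_iff_forall]
    intro n hn'
    refine eq_of_smul_eq_smul fun x : Ω => ?_
    rw [one_smul]
    exact Set.eq_univ_iff_forall.1 e x ⟨n, hn'⟩
  haveI hMt := htr M hMb
  have hnab : ¬ ∀ x ∈ M, ∀ y ∈ M, x * y = y * x := by
    intro hab
    have hfree : ∀ x ∈ M, x • α = α → x = 1 := by
      intro x hx e
      refine eq_of_smul_eq_smul fun w : Ω => ?_
      obtain ⟨y, rfl⟩ := MulAction.exists_smul_eq M α w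
      show x • (y : G) • α = (1 : G) • (y : G) • α
      rw [one_smul, ← mul_smul, hab x hx y y.2, mul_smul, e]
    haveI : Group.IsSolvable M :=
      Group.isSolvable_of_comm fun a b => Subtype.ext (hab a a.2 b b.2)
    obtain ⟨r, hr, hexp⟩ := (CfsgLib.Coprime.minimal_normal_solvable hMb hMmin).2
    haveI := Fact.mk hr
    have hpg : IsPGroup r M := fun x => ⟨1, Subtype.ext (by
      rw [SubgroupClass.coe_pow, pow_one]; exact hexp x x.2)⟩
    obtain ⟨e, he⟩ := hpg.exists_card_eq
    have hcard : Nat.card M = Fintype.card Ω := by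
      rw [← Nat.card_eq_fintype_card]
      refine Nat.card_congr (Equiv.ofBijective (fun x : M => (x : G) • α) ⟨fun x y hxy => Subtype.ext
        (inv_mul_eq_one.1 (hfree _ (mul_mem (inv_mem y.2) x.2) (by
          rw [mul_smul, show (x : G) • α = (y : G) • α from hxy, inv_smul_smul]))).symm,
        fun z => MulAction.exists_smul_eq M α z⟩)
    rw [he] at hcard
    rcases hr.eq_two_or_odd with rfl | hodd
    · rcases e with _ | _ | e
      · omega
      · omega
      · rw [pow_succ, pow_succ] at hcard; omega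
    · have : (r ^ e) % 2 = 1 := by rw [Nat.pow_mod, hodd, one_pow, Nat.one_mod]
      omega
  have hcent : Subgroup.centralizer (M : Set G) = ⊥ := by
    by_contra hC
    haveI : (Subgroup.centralizer (M : Set G)).Normal := Subgroup.normal_centralizer
    haveI hCt := htr (Subgroup.centralizer (M : Set G)) hC
    refine hMN.not_isSolvable hnab (free_solvable h2 (N := M) α fun x hx e => ?_)
    refine eq_of_smul_eq_smul fun w : Ω => ?_
    obtain ⟨y, rfl⟩ := MulAction.exists_smul_eq (Subgroup.centralizer (M : Set G)) α w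
    show x • (y : G) • α = (1 : G) • (y : G) • α
    rw [one_smul, ← mul_smul, Subgroup.mem_centralizer_iff.1 y.2 x hx, mul_smul, e]
  have hM2 := two_transitive_normal h2 hn hMt
  refine ⟨M, hMn, hMb, fun N hN hNb => ?_, ?_, hM2, hcent⟩
  · haveI := hN
    rcases hMmin (M ⊓ N) inferInstance inf_le_left with e | e
    · exfalso
      refine hNb (le_bot_iff.1 (hcent ▸ fun n hn' => Subgroup.mem_centralizer_iff.2 fun x hx => ?_))
      have h1 := commutator_le_inf (X := M) (Y := N)
        (le_normalizer_of_conj fun a _ y hy => hN.conj_mem y hy a)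
        (le_normalizer_of_conj fun a _ y hy => hMn.conj_mem y hy a) hx hn'
      rw [e, mem_bot, mul_inv_eq_one, mul_inv_eq_iff_eq_mul] at h1
      exact h1
    · exact inf_eq_left.1 e
  by_contra hs
  obtain ⟨T, hT⟩ := exists_minIn hMb
  have hc : Conf G M T := ⟨hMN, hcent, hT, hs⟩
  obtain ⟨k, hk⟩ : ∃ k : G, cj k T ≠ T := by
    by_contra hall
    push Not at hall
    have hTN : T = M := by rw [← hc.sup_eq]; simp only [hall, ciSup_const]
    apply hs
    haveI : Nontrivial M := (nontrivial_iff_ne_bot M).2 hMb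
    refine ⟨fun U hU => ?_⟩
    rcases hc.simple 1 (U := U.map M.subtype) (by rw [cj_one, hTN]; exact map_subtype_le U)
      (le_normalizer_of_conj fun x hx y hy => by
        obtain ⟨u, hu, rfl⟩ := hy
        rw [cj_one, hTN] at hx
        exact ⟨⟨x, hx⟩ * u * ⟨x, hx⟩⁻¹, hU.conj_mem u hu _, rfl⟩) with e | e
    · left; exact (map_eq_bot_iff_of_injective _ M.subtype_injective).1 e
    · right
      rw [cj_one, hTN] at e
      exact map_injective M.subtype_injective (by rw [e, ← MonoidHom.range_eq_map, range_subtype])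
  haveI := hM2
  haveI : IsPreprimitive M Ω := isPreprimitive_of_is_two_pretransitive hM2
  have hnorm : ∀ X, MinIn M X → (X.subgroupOf M).Normal := fun X hX => ⟨fun x hx y =>
    mem_subgroupOf.2 (conj_mem_of_le_normalizer hX.norm y.2 (mem_subgroupOf.1 hx))⟩
  haveI := hnorm T hT
  haveI := hnorm _ (hT.conj k)
  have hne : ∀ X : Subgroup G, MinIn M X → X.subgroupOf M ≠ ⊥ := fun X hX e => hX.ne (by
    rw [← map_subgroupOf_eq_of_le hX.le, e, Subgroup.map_bot])
  haveI hXt := htr (K := M) ((cj k T).subgroupOf M) (hne _ (hT.conj k))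
  have hsolv := free_solvable (G := M) hM2 (N := T.subgroupOf M) α fun x hx e => by
    refine eq_of_smul_eq_smul fun w : Ω => ?_
    obtain ⟨y, rfl⟩ := MulAction.exists_smul_eq ((cj k T).subgroupOf M) α w
    show x • (y : M) • α = (1 : M) • (y : M) • α
    have hxy : x * (y : M) = (y : M) * x := Subtype.ext
      ((hT.conj k).commute hT hk (mem_subgroupOf.1 y.2) (mem_subgroupOf.1 hx)).symm.eq
    rw [one_smul, ← mul_smul, hxy, mul_smul, e]
  refine DerangementComponents.Conf.not_isSolvable hc 1 ?_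
  rw [cj_one]
  haveI := hsolv
  exact Group.isSolvable_of_surjective (f := (subgroupOfEquivOfLe hT.le).toMonoidHom)
    (subgroupOfEquivOfLe hT.le).surjective

end CfsgLib.Char.TwoModFour
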