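import Cfsg.Agent.Lib.Coprime.UniqueOrderP
import Cfsg.Agent.Lib.Coprime.FpfAction
import Cfsg.Agent.Lib.Coprime.Component
import Cfsg.Agent.Lib.Coprime.Fitting
import Cfsg.Agent.Lib.Invol.QuaternionSection
import Cfsg.Agent.Lib.Invol.GLTwoThree
import Cfsg.Agent.Lib.CFun.PNilpotent
import Mathlib.GroupTheory.SemidirectProduct
import Mathlib.GroupTheory.SchurZassenhaus

/-!
# Solvable transitive automorphism groups with `p`-groups as point stabilizers

`not_dvd_commutator`: such a group has derived subgroup of order prime to `p`.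
-/

set_option autoImplicit false
set_option linter.style.haveILetI false
set_option linter.unusedSectionVars false

namespace CfsgLib.Char.TwoNonzeroSolvable

open Subgroup CfsgLib.Coprime
open scoped commutatorElement

universe u v

variable {p : ℕ} [hp : Fact p.Prime] {H : Type u} [Group H] [Finite H] {V : Type v} [Group V]
  [Finite V] {φ : H →* MulAut V}

/-- The centre of the quaternion group of order eight has exponent two. -/
theorem quaternion_center_sq :
    ∀ q : QuaternionGroup 2, (∀ w, q * w = w * q) → q * q = 1 := by decide +kernel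

/-- Equal residues of prime powers. -/
theorem eq_one_of_two_primes {r : ℕ} [hr : Fact r.Prime] (hne : r ≠ p) {g : H} {a b : ℕ}
    (ha : g ^ r ^ a = 1) (hb : orderOf g = p ^ b) : g = 1 := by
  rcases Nat.eq_zero_or_pos b with rfl | h0
  · exact orderOf_eq_one_iff.mp (by rw [hb, pow_zero])
  · have h1 : p ∣ r ^ a := (dvd_pow_self p h0.ne').trans (hb ▸ orderOf_dvd_of_pow_eq_one ha)
    exact absurd ((Nat.prime_dvd_prime_iff_eq hp.out hr.out).mp (hp.out.dvd_of_dvd_pow h1)).symm hne

/-- A subgroup of order a power of another prime has a single subgroup of prime order. -/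
theorem uniqueOrderP_of_stab [Nontrivial V]
    (hstab : ∀ v : V, v ≠ 1 → ∀ h : H, φ h v = v → ∃ k, orderOf h = p ^ k) {r : ℕ}
    [hr : Fact r.Prime] (hne : r ≠ p) {R : Subgroup H} (hR : IsPGroup r R) : UniqueOrderP r R := by
  let f : R →* SemidirectProduct V H φ := SemidirectProduct.inr.comp R.subtype
  have hf : Function.Injective f := SemidirectProduct.inr_injective.comp R.subtype_injective
  let K : Subgroup (SemidirectProduct V H φ) := (SemidirectProduct.inl : V →* _).range
  haveI : K.Normal := by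
    show (SemidirectProduct.inl : V →* SemidirectProduct V H φ).range.Normal
    rw [SemidirectProduct.range_inl_eq_ker_rightHom]
    infer_instance
  haveI : Finite (SemidirectProduct V H φ) := Finite.of_equiv _ SemidirectProduct.equivProd.symm
  have hA : f.range ≤ normalizer (K : Set (SemidirectProduct V H φ)) := by
    rw [normalizer_eq_top]; exact le_top
  have hK : K ≠ ⊥ := by
    obtain ⟨v, hv⟩ := exists_ne (1 : V)
    intro h
    have h1 : SemidirectProduct.inl v ∈ K := ⟨v, rfl⟩
    rw [h, mem_bot] at h1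
    exact hv (SemidirectProduct.inl_injective (h1.trans (map_one _).symm))
  have hfpf : IsFpfOn f.range K := by
    rintro _ ⟨x, rfl⟩ hx1
    rw [eq_bot_iff]
    rintro _ ⟨⟨v, rfl⟩, hv⟩
    rw [mem_bot]
    by_contra hne1
    have hv1 : v ≠ 1 := fun e => hne1 (by rw [e, map_one])
    have h1 : f x * SemidirectProduct.inl v * (f x)⁻¹ = SemidirectProduct.inl v :=
      mul_inv_eq_iff_eq_mul.2 (mem_centralizer_singleton_iff.1 hv).symm
    have h2 : φ (x : H) v = v := SemidirectProduct.inl_injective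
      ((SemidirectProduct.inl_aut (x : H) v).trans (by simpa [f, map_inv] using h1))
    obtain ⟨b, hb⟩ := hstab v hv1 _ h2
    obtain ⟨a, ha⟩ := hR x
    have hx : (x : H) = 1 := eq_one_of_two_primes hne (congrArg Subtype.val ha) hb
    exact hx1 (by rw [show x = 1 from Subtype.ext hx, map_one])
  have hu : UniqueOrderP r (⊤ : Subgroup f.range) :=
    isCyclic_of_uniqueOrderP_fpf hA hfpf hK ⊤
      ((hR.of_equiv (MonoidHom.ofInjective hf)).of_equiv Subgroup.topEquiv.symm)
  intro x y hx hy hx1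
  let e : R ≃* (⊤ : Subgroup f.range) := (MonoidHom.ofInjective hf).trans Subgroup.topEquiv.symm
  obtain ⟨m, hm⟩ := hu (e x) (e y) (by rw [← map_pow, hx, map_one]) (by rw [← map_pow, hy, map_one])
    fun h => hx1 (e.injective (h.trans (map_one e).symm))
  exact ⟨m, e.injective ((map_zpow e x m).trans hm)⟩

/-- No normal `p`-subgroup. -/
theorem pCore_eq_bot [Nontrivial V] (hφ : Function.Injective φ) (hV : IsPGroup p V)
    (htr : ∀ v w : V, v ≠ 1 → w ≠ 1 → ∃ h, φ h v = w) : Cfsg.pCore p H = ⊥ := by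
  classical
  haveI := pCore_normal' (G := H) p
  set P := Cfsg.pCore p H
  letI act : MulAction P V :=
    { smul := fun a v => φ (a : H) v
      one_smul := fun v => by show φ ((1 : P) : H) v = v; simp
      mul_smul := fun a b v => by
        show φ ((a * b : P) : H) v = φ (a : H) (φ (b : H) v)
        simp }
  have hone : (1 : V) ∈ MulAction.fixedPoints P V := fun a => map_one (φ (a : H))
  obtain ⟨j, hj0, hj⟩ := hV.nontrivial_iff_card.1 (inferInstance : Nontrivial V)
  obtain ⟨v, hv, hv1⟩ := (pCore_isPGroup (G := H) p).exists_fixed_point_of_prime_dvd_card_of_fixed_point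
    (α := V) (hj ▸ dvd_pow_self p hj0.ne') hone
  refine eq_bot_iff.2 fun a ha => mem_bot.2 (hφ ?_)
  rw [map_one]
  refine MulEquiv.ext fun w => ?_
  by_cases hw : w = 1
  · rw [hw, map_one, map_one]
  · obtain ⟨g, rfl⟩ := htr v w (Ne.symm hv1) hw
    have h1 : φ (g⁻¹ * a * g) v = v :=
      hv ⟨g⁻¹ * a * g, by simpa using ‹P.Normal›.conj_mem a ha g⁻¹⟩
    calc φ a (φ g v) = φ g (φ (g⁻¹ * a * g) v) := by
          rw [← MulAut.mul_apply, ← map_mul, ← MulAut.mul_apply, ← map_mul]
          congr 2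
          group
      _ = φ g v := by rw [h1]

/-- The Fitting subgroup has order prime to `p`. -/
theorem not_dvd_fitting (hbot : Cfsg.pCore p H = ⊥) : ¬ p ∣ Nat.card (Cfsg.fittingSubgroup H) := by
  intro hd
  haveI := fitting_normal (G := H)
  haveI := fitting_isNilpotent (G := H)
  let P : Sylow p (Cfsg.fittingSubgroup H) := default
  haveI : (P : Subgroup (Cfsg.fittingSubgroup H)).Normal :=
    (Group.isNilpotent_of_finite_tfae.out 0 3 rfl rfl).1 inferInstance p hp P
  haveI : (P : Subgroup (Cfsg.fittingSubgroup H)).Characteristic :=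
    P.characteristic_of_normal inferInstance
  haveI := map_subtype_normal_of_characteristic (Cfsg.fittingSubgroup H)
    (P : Subgroup (Cfsg.fittingSubgroup H))
  have h1 := le_pCore (P.isPGroup'.map (Cfsg.fittingSubgroup H).subtype)
  rw [hbot, le_bot_iff, Subgroup.map_eq_bot_iff_of_injective _ (Subgroup.subtype_injective _)] at h1
  exact P.ne_bot_of_dvd_card hd h1

/-- The derived group centralizes the cyclic cores. -/
theorem commutator_centralizes_cyclic {R : Subgroup H} [R.Normal] (hR : IsCyclic R) :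
    commutator H ≤ centralizer (R : Set H) := by
  intro g hg
  have hcomm : ∀ a b : MulAut R, a * b = b * a := fun a b =>
    (IsCyclic.mulAutMulEquiv R).injective (by rw [map_mul, map_mul, mul_comm])
  letI : CommGroup (MulAut R) := { (inferInstance : Group (MulAut R)) with mul_comm := hcomm }
  have h1 : (MulAut.conjNormal (H := R)) g = 1 :=
    MonoidHom.mem_ker.1 (Abelianization.commutator_subset_ker (MulAut.conjNormal (H := R)) hg)
  refine mem_centralizer_iff.2 fun r hr => ?_
  have h2 := congrArg (fun σ : MulAut R => ((σ ⟨r, hr⟩ : R) : H)) h1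
  simp only [MulAut.conjNormal_apply, MulAut.one_apply] at h2
  exact (mul_inv_eq_iff_eq_mul.1 h2).symm

/-- A solvable transitive group of automorphisms with `p`-groups as stabilizers. -/
theorem not_dvd_commutator [Group.IsSolvable H] [Nontrivial V] (hφ : Function.Injective φ)
    (hV : IsPGroup p V)
    (hstab : ∀ v : V, v ≠ 1 → ∀ h : H, φ h v = v → ∃ k, orderOf h = p ^ k)
    (htr : ∀ v w : V, v ≠ 1 → w ≠ 1 → ∃ h, φ h v = w) :
    ¬ p ∣ Nat.card (commutator H) := by
  classical
  intro hdvd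
  have hbot := pCore_eq_bot hφ hV htr
  have hFp := not_dvd_fitting (p := p) hbot
  haveI : ∀ r : ℕ, (Cfsg.pCore r H).Normal := fun r => pCore_normal' r
  -- odd cores
  have hodd : ∀ r : Nat.Primes, (r : ℕ) ≠ 2 →
      commutator H ≤ centralizer (Cfsg.pCore (r : ℕ) H : Set H) := by
    intro r hr2
    haveI : Fact (r : ℕ).Prime := ⟨r.2⟩
    rcases eq_or_ne (r : ℕ) p with h | h
    · rw [h, hbot]
      exact fun g _ => mem_centralizer_iff.2 fun x hx => by
        rw [SetLike.mem_coe, mem_bot] at hx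
        rw [hx, one_mul, mul_one]
    · exact commutator_centralizes_cyclic (isCyclic_of_unique_odd hr2 (pCore_isPGroup _)
        (uniqueOrderP_of_stab hstab h (pCore_isPGroup _)))
  -- an element of order `p`
  obtain ⟨y, hy⟩ := exists_prime_orderOf_dvd_card' (G := commutator H) p hdvd
  have hyo : orderOf (y : H) = p := by rw [Subgroup.orderOf_coe, hy]
  have hF : ∀ g ∈ commutator H, g ∈ centralizer (Cfsg.pCore 2 H : Set H) →
      g ∈ Cfsg.fittingSubgroup H := by
    intro g hg h2
    refine centralizer_fitting_le ?_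
    have hle : Cfsg.fittingSubgroup H ≤ centralizer ({g} : Set H) := by
      rw [fitting_eq_iSup_pCore]
      refine iSup_le fun r x hx => mem_centralizer_singleton_iff.2 ?_
      rcases eq_or_ne (r : ℕ) 2 with h | h
      · exact mem_centralizer_iff.1 h2 x (h ▸ hx)
      · exact mem_centralizer_iff.1 (hodd r h hg) x hx
    exact mem_centralizer_iff.2 fun x hx => mem_centralizer_singleton_iff.1 (hle hx)
  have hynot : ∀ g ∈ commutator H, orderOf g = p → g ∉ centralizer (Cfsg.pCore 2 H : Set H) := by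
    intro g hg hgo h2
    exact hFp (hgo ▸ Subgroup.orderOf_dvd_natCard _ (hF g hg h2))
  -- so `p` is odd and the `2`-core is the quaternion group
  have hp2 : p ≠ 2 := by
    rintro rfl
    refine hynot y y.2 hyo ?_
    rw [hbot]
    exact mem_centralizer_iff.2 fun x hx => by
      rw [SetLike.mem_coe, mem_bot] at hx
      rw [hx, one_mul, mul_one]
  haveI : Fact (Nat.Prime 2) := ⟨Nat.prime_two⟩
  obtain ⟨R, hR⟩ : ∃ R, R = Cfsg.pCore 2 H := ⟨_, rfl⟩
  haveI hRn : R.Normal := by rw [hR]; exact pCore_normal' 2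
  have hR2 : IsPGroup 2 R := by rw [hR]; exact pCore_isPGroup 2
  set ψ : H →* MulAut R := MulAut.conjNormal with hψ
  have hker : ∀ g, ψ g = 1 ↔ g ∈ centralizer (R : Set H) := by
    intro g
    constructor
    · intro h
      refine mem_centralizer_iff.2 fun r hr => ?_
      have h2 := congrArg (fun σ : MulAut R => ((σ ⟨r, hr⟩ : R) : H)) h
      simp only [hψ, MulAut.conjNormal_apply, MulAut.one_apply] at h2
      exact (mul_inv_eq_iff_eq_mul.1 h2).symm
    · intro h
      refine MulEquiv.ext fun r => Subtype.ext ?_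
      simp only [hψ, MulAut.conjNormal_apply, MulAut.one_apply]
      rw [← mem_centralizer_iff.1 h r r.2, mul_inv_cancel_right]
  have hord : ∀ g ∈ commutator H, orderOf g = p → orderOf (ψ g) = p := fun g hg hgo =>
    orderOf_eq_prime (by rw [← map_pow, ← hgo, pow_orderOf_eq_one, map_one])
      fun h => hynot g hg hgo (hR ▸ (hker g).1 h)
  have hodd' : Odd p := hp.out.odd_of_ne_two hp2
  have hu := uniqueOrderP_of_stab (p := p) hstab (Ne.symm hp2) hR2
  obtain ⟨n, ⟨e₀⟩⟩ : ∃ n : ℕ, Nonempty (R ≃* QuaternionGroup (2 ^ n)) := by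
    refine (cyclic_or_quaternion_of_unique_two hR2 hu).resolve_left fun hc => ?_
    have h1 := hord y y.2 hyo
    rw [Invol.aut_eq_one_of_cyclic_two_group hR2 (ψ y) hodd' (by rw [← h1, pow_orderOf_eq_one]),
      orderOf_one] at h1
    exact hp.out.ne_one h1.symm
  haveI : NeZero (2 ^ n) := ⟨by positivity⟩
  obtain ⟨hR8, ⟨u₀, v₀, huv⟩, hσ3⟩ := Invol.quaternion_subgroup_of_aut hR2 e₀.toMonoidHom
    e₀.injective (ψ y) hodd' (by rw [← hord y y.2 hyo, pow_orderOf_eq_one])
    (fun h => hynot y y.2 hyo (hR ▸ (hker _).1 h))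
  obtain rfl : p = 3 :=
    (Nat.prime_dvd_prime_iff_eq hp.out Nat.prime_three).1
      (hord y y.2 hyo ▸ orderOf_dvd_of_pow_eq_one hσ3)
  have hn : n = 1 := by
    have h := Nat.card_congr e₀.toEquiv
    rw [hR8, Nat.card_eq_fintype_card, QuaternionGroup.card] at h
    have h2 : 2 ^ n = 2 := by omega
    exact Nat.pow_right_injective le_rfl (h2.trans (pow_one 2).symm)
  subst hn
  let e : R ≃* QuaternionGroup 2 := e₀
  haveI : Finite (MulAut R) := Finite.of_injective (fun σ => ⇑σ) DFunLike.coe_injective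
  set A := ψ.range with hA
  have hA24 : Nat.card A ≤ 24 := by
    refine (Subgroup.card_le_card_group A).trans ?_
    rw [Nat.card_congr (MulAut.congr e).toEquiv]
    exact GLTwoThree.card_mulAut_le
  let f : R →* A := ψ.rangeRestrict.comp R.subtype
  have hfker : f.ker ≤ center R := fun r hr => mem_center_iff.2 fun s => Subtype.ext
    (mem_centralizer_iff.1 ((hker (r : H)).1 (congrArg Subtype.val (MonoidHom.mem_ker.1 hr))) s s.2)
  have hf4 : 4 ∣ Nat.card f.range := by
    obtain ⟨j, hj⟩ := IsPGroup.iff_card.1 (hR2.to_quotient f.ker)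
    rw [Nat.card_congr (QuotientGroup.quotientKerEquivRange f).toEquiv] at hj
    rcases j with _ | _ | j
    · exfalso
      haveI : Subsingleton f.range := (Nat.card_eq_one_iff_unique.1 (by rw [hj]; rfl)).1
      haveI : IsCyclic f.range := isCyclic_of_subsingleton
      exact huv (commutative_of_cyclic_center_quotient f.rangeRestrict
        (by rwa [f.ker_rangeRestrict]) u₀ v₀)
    · exfalso
      haveI : IsCyclic f.range := isCyclic_of_prime_card (p := 2) (by rw [hj]; rfl)
      exact huv (commutative_of_cyclic_center_quotient f.rangeRestrict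
        (by rwa [f.ker_rangeRestrict]) u₀ v₀)
    · exact ⟨2 ^ j, by rw [hj]; ring⟩
  have hy3 : 3 ∣ Nat.card A := hord y y.2 hyo ▸ Subgroup.orderOf_dvd_natCard A ⟨(y : H), rfl⟩
  have hA12 : Nat.card A = 12 ∨ Nat.card A = 24 := by
    have h4 : 4 ∣ Nat.card A := hf4.trans (Subgroup.card_subgroup_dvd_card _)
    have := Nat.card_pos (α := A)
    omega
  -- the centre of `R` has exponent two
  have hz : ∀ a : R, a ∈ center R → a * a = 1 := by
    intro a ha
    refine e.injective ?_
    rw [map_mul, map_one]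
    refine quaternion_center_sq _ fun w => ?_
    obtain ⟨w, rfl⟩ := e.surjective w
    rw [← map_mul, ← map_mul, mem_center_iff.1 ha w]
  -- elements of order three with one image are equal
  have hinj : ∀ g₁ ∈ commutator H, ∀ g₂ ∈ commutator H, orderOf g₁ = 3 → orderOf g₂ = 3 →
      ψ g₁ = ψ g₂ → g₁ = g₂ := by
    intro g₁ hg₁ g₂ hg₂ h1 h2 he
    set k := g₁⁻¹ * g₂ with hk
    have hkC : k ∈ centralizer (R : Set H) := (hker k).1 (by rw [hk, map_mul, map_inv, he, inv_mul_cancel])
    have hkF : k ∈ Cfsg.fittingSubgroup H := hF k (mul_mem (inv_mem hg₁) hg₂) (hR ▸ hkC)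
    set O : Subgroup H := ⨆ r : {r : Nat.Primes // (r : ℕ) ≠ 2}, Cfsg.pCore ((r : Nat.Primes) : ℕ) H with hO
    have hFRO : Cfsg.fittingSubgroup H ≤ R ⊔ O := by
      rw [fitting_eq_iSup_pCore]
      refine iSup_le fun r => ?_
      rcases eq_or_ne (r : ℕ) 2 with h | h
      · rw [h, ← hR]; exact le_sup_left
      · exact le_sup_of_le_right (le_iSup_of_le ⟨r, h⟩ le_rfl)
    obtain ⟨a, ha, b, hb, hab⟩ := mem_sup_of_normal_left.1 (hFRO hkF)
    have hOg : O ≤ centralizer ({g₁} : Set H) := iSup_le fun r x hx =>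
      mem_centralizer_singleton_iff.2 (mem_centralizer_iff.1 (hodd r.1 r.2 hg₁) x hx)
    have hOR : O ≤ centralizer (R : Set H) := by
      refine iSup_le fun r x hx => mem_centralizer_iff.2 fun s hs => ?_
      haveI : Fact ((r : Nat.Primes) : ℕ).Prime := ⟨r.1.2⟩
      exact (commute_of_normal_of_disjoint _ _ hRn (pCore_normal' _)
        (IsPGroup.disjoint_of_ne 2 _ (Ne.symm r.2) _ _ hR2 (pCore_isPGroup _)) s x hs hx).eq
    have haC : a ∈ centralizer (R : Set H) := by
      have : a = k * b⁻¹ := by rw [← hab, mul_inv_cancel_right]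
      rw [this]
      exact mul_mem hkC (inv_mem (hOR hb))
    have ha2 : (⟨a, ha⟩ : R) * ⟨a, ha⟩ = 1 := hz _ (mem_center_iff.2 fun s => Subtype.ext
      (mem_centralizer_iff.1 haC s s.2))
    have hga : g₁ * a * g₁⁻¹ = a := by
      by_cases ha1 : (⟨a, ha⟩ : R) = 1
      · rw [show a = 1 from congrArg Subtype.val ha1, mul_one, mul_inv_cancel]
      · have hsq : ((ψ g₁) ⟨a, ha⟩) ^ 2 = 1 := by rw [← map_pow, pow_two, ha2, map_one]
        obtain ⟨i, hi⟩ := hu ⟨a, ha⟩ ((ψ g₁) ⟨a, ha⟩) (by rw [pow_two, ha2]) hsq ha1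
        have hψa : ((ψ g₁) ⟨a, ha⟩ : R) ≠ 1 := fun h => ha1 ((ψ g₁).injective (h.trans (map_one _).symm))
        have hcases : (⟨a, ha⟩ : R) ^ i = 1 ∨ (⟨a, ha⟩ : R) ^ i = ⟨a, ha⟩ := by
          rcases Int.even_or_odd' i with ⟨t, rfl | rfl⟩
          · exact Or.inl (by rw [zpow_mul, zpow_ofNat, pow_two, ha2, one_zpow])
          · exact Or.inr (by rw [zpow_add, zpow_mul, zpow_ofNat, pow_two, ha2, one_zpow, one_mul, zpow_one])
        rcases hcases with h | h
        · exact absurd (hi.symm.trans h) hψa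
        · exact congrArg Subtype.val (hi.symm.trans h)
    have hcomm : Commute g₁ k := by
      rw [← hab]
      exact Commute.mul_right (mul_inv_eq_iff_eq_mul.1 hga)
        (mem_centralizer_singleton_iff.1 (hOg hb)).symm
    have hk3 : k ^ 3 = 1 := by
      have h12 : Commute g₁ g₂ := by
        have h := (Commute.refl g₁).mul_right hcomm
        rwa [hk, mul_inv_cancel_left] at h
      rw [hk, h12.inv_left.mul_pow, inv_pow, show g₁ ^ 3 = 1 by rw [← h1, pow_orderOf_eq_one],
        show g₂ ^ 3 = 1 by rw [← h2, pow_orderOf_eq_one], inv_one, one_mul]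
    by_contra hne
    have hk1 : k ≠ 1 := fun h => hne (inv_mul_eq_one.1 h)
    exact hFp (orderOf_eq_prime hk3 hk1 ▸ Subgroup.orderOf_dvd_natCard _ hkF)
  -- the Sylow subgroups of the derived group
  obtain ⟨y₀, hy₀D, hy₀⟩ : ∃ g ∈ commutator H, orderOf g = 3 := ⟨y, y.2, hyo⟩
  set D := commutator H with hD
  let ψD : D →* A := ψ.rangeRestrict.comp D.subtype
  haveI : Finite (Sylow 3 D) := inferInstance
  let P : Sylow 3 D := default
  have hA3 : ∀ Q : Subgroup A, IsPGroup 3 Q → Nat.card Q ∣ 3 := by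
    intro Q hQ
    obtain ⟨j, hj⟩ := IsPGroup.iff_card.1 hQ
    have hd := Subgroup.card_subgroup_dvd_card Q
    rw [hj] at hd ⊢
    rcases j with _ | _ | j
    · simp
    · simp
    · exfalso
      have h9 : 9 ∣ Nat.card A := dvd_trans ⟨3 ^ j, by ring⟩ hd
      omega
  have hPinj : ∀ (Q : Subgroup D), IsPGroup 3 Q →
      Function.Injective (ψD.comp Q.subtype) := by
    intro Q hQ
    refine (injective_iff_map_eq_one _).2 fun g hg => ?_
    by_contra hg1
    obtain ⟨j, hj⟩ := IsPGroup.iff_orderOf.1 hQ g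
    have hj0 : j ≠ 0 := fun h => hg1 (orderOf_eq_one_iff.1 (by rw [hj, h, pow_zero]))
    obtain ⟨g', hg'⟩ : ∃ g' : zpowers g, orderOf g' = 3 :=
      exists_prime_orderOf_dvd_card' 3 (by rw [Nat.card_zpowers, hj]; exact dvd_pow_self 3 hj0)
    obtain ⟨i, hi⟩ := mem_zpowers_iff.1 g'.2
    have ho : orderOf (((g' : Q) : D) : H) = 3 := by
      rw [Subgroup.orderOf_coe, Subgroup.orderOf_coe, Subgroup.orderOf_coe, hg']
    have h1 : ψ (((g' : Q) : D) : H) = 1 := by
      have h2 : (ψD.comp Q.subtype) (g' : Q) = 1 := by rw [← hi, map_zpow, hg, one_zpow]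
      exact congrArg Subtype.val h2
    exact hynot _ ((g' : Q) : D).2 ho (hR ▸ (hker _).1 h1)
  have hP3 : ∀ Q : Sylow 3 D, Nat.card Q = 3 := by
    intro Q
    refine Nat.dvd_antisymm ?_ ?_
    · rw [Nat.card_congr (MonoidHom.ofInjective (hPinj Q Q.isPGroup')).toEquiv]
      exact hA3 _ (Q.isPGroup'.of_equiv (MonoidHom.ofInjective (hPinj Q Q.isPGroup')))
    · exact Q.dvd_card_of_dvd_card hdvd
  -- at most four of them
  have hm : Nat.card (Sylow 3 D) ≤ 4 := by
    have hAP : ∀ Q : Sylow 3 A, Nat.card Q = 3 := fun Q =>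
      Nat.dvd_antisymm (hA3 _ Q.isPGroup') (Q.dvd_card_of_dvd_card hy3)
    have hlift : ∀ Q : Sylow 3 D, ∃ S : Sylow 3 A, (S : Subgroup A) = (Q : Subgroup D).map ψD := by
      intro Q
      obtain ⟨S, hS⟩ := (Q.isPGroup'.map ψD).exists_le_sylow
      refine ⟨S, (Subgroup.eq_of_le_of_card_ge hS ?_).symm⟩
      have h5 := Nat.card_congr (MonoidHom.ofInjective (hPinj Q Q.isPGroup')).toEquiv
      rw [MonoidHom.range_comp, Subgroup.range_subtype, hP3 Q] at h5
      rw [hAP]
      exact h5.le
    choose S hS using hlift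
    refine (Nat.card_le_card_of_injective S fun Q₁ Q₂ h => Sylow.ext ?_).trans ?_
    · have hmap : (Q₁ : Subgroup D).map ψD = (Q₂ : Subgroup D).map ψD := by rw [← hS, ← hS, h]
      refine Subgroup.eq_of_le_of_card_ge (fun g hg => ?_) (by rw [hP3, hP3])
      by_cases hg1 : g = 1
      · rw [hg1]; exact one_mem _
      · obtain ⟨g₂, hg₂, he⟩ := hmap ▸ Subgroup.mem_map_of_mem ψD hg
        have ho1 : orderOf (g : H) = 3 := by
          rw [Subgroup.orderOf_coe]
          refine orderOf_eq_prime ?_ hg1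
          have := pow_card_eq_one' (G := (Q₁ : Subgroup D)) (x := ⟨g, hg⟩)
          rw [hP3] at this
          exact congrArg Subtype.val this
        have hg21 : g₂ ≠ 1 := fun h' => by
          rw [h', map_one] at he
          exact hynot _ g.2 ho1 (hR ▸ (hker _).1 (congrArg Subtype.val he.symm))
        have ho2 : orderOf (g₂ : H) = 3 := by
          rw [Subgroup.orderOf_coe]
          refine orderOf_eq_prime ?_ hg21
          have := pow_card_eq_one' (G := (Q₂ : Subgroup D)) (x := ⟨g₂, hg₂⟩)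
          rw [hP3] at this
          exact congrArg Subtype.val this
        exact (Subtype.ext (hinj _ g.2 _ g₂.2 ho1 ho2 (congrArg Subtype.val he.symm)) : g = g₂) ▸ hg₂
    · let S₀ : Sylow 3 A := default
      have h1 := S₀.card_dvd_index
      have h2 := card_sylow_modEq_one (p := 3) (G := A)
      have h3 := (S₀ : Subgroup A).card_mul_index
      rw [hAP] at h3
      have hi : (S₀ : Subgroup A).index = 4 ∨ (S₀ : Subgroup A).index = 8 := by omega
      have h5 : Nat.card (Sylow 3 A) ≤ 8 := by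
        rcases hi with hi | hi <;> rw [hi] at h1 <;>
          exact (Nat.le_of_dvd (by norm_num) h1).trans (by norm_num)
      unfold Nat.ModEq at h2
      rcases hi with hi | hi <;> rw [hi] at h1
      · exact Nat.le_of_dvd (by norm_num) h1
      · interval_cases Nat.card (Sylow 3 A) <;> omega
  -- each vector is fixed by exactly one of them
  let fixS : Sylow 3 D → Subgroup V := fun Q =>
    ⨅ g ∈ (Q : Subgroup D), (φ (g : H)).toMonoidHom.eqLocus (MonoidHom.id V)
  have hmemfix : ∀ Q v, v ∈ fixS Q ↔ ∀ g ∈ (Q : Subgroup D), φ (g : H) v = v := fun Q v => by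
    simp only [fixS, Subgroup.mem_iInf]
    exact Iff.rfl
  letI actH : MulAction H V := MulAction.compHom V φ
  have hsmul : ∀ (h : H) (v : V), h • v = φ h v := fun _ _ => rfl
  have hst : ∀ v : V, v ≠ 1 → IsPGroup 3 (MulAction.stabilizer H v) ∧
      (MulAction.stabilizer H v).index = Nat.card V - 1 := by
    intro v hv
    refine ⟨IsPGroup.iff_orderOf.2 fun g => ?_, ?_⟩
    · obtain ⟨k, hk⟩ := hstab v hv g g.2
      exact ⟨k, by rw [← Subgroup.orderOf_coe]; exact hk⟩
    · rw [MulAction.index_stabilizer, show MulAction.orbit H v = {w : V | w ≠ 1} from ?_,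
        show {w : V | w ≠ 1} = ({1} : Set V)ᶜ from rfl, Set.ncard_compl, Set.ncard_singleton]
      ext w
      constructor
      · rintro ⟨h, rfl⟩
        exact fun h' => hv ((φ h).injective (h'.trans (map_one _).symm))
      · intro hw
        exact htr v w hv hw
  obtain ⟨c, hc0, hc⟩ := hV.nontrivial_iff_card.1 (inferInstance : Nontrivial V)
  have hexists : ∀ v : V, v ≠ 1 → ∃ Q : Sylow 3 D, v ∈ fixS Q := by
    intro v hv
    obtain ⟨hS3, hSi⟩ := hst v hv
    have hnd : ¬ 3 ∣ (MulAction.stabilizer H v).index := by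
      rw [hSi, hc]
      intro hd
      have := dvd_pow_self 3 hc0.ne'
      have h1 : 0 < 3 ^ c := by positivity
      omega
    obtain ⟨g, hg⟩ := MulAction.exists_smul_eq H (hS3.toSylow hnd)
      ((P.isPGroup'.map D.subtype).exists_le_sylow).choose
    have hP := ((P.isPGroup'.map D.subtype).exists_le_sylow).choose_spec
    refine ⟨MulAut.conjNormal (H := D) g⁻¹ • P, (hmemfix _ _).2 fun d hd => ?_⟩
    have hd' : MulAut.conjNormal (H := D) g d ∈ (P : Subgroup D) := by
      rw [Sylow.pointwise_smul_def, Subgroup.mem_pointwise_smul_iff_inv_smul_mem] at hd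
      simpa using hd
    have h1 := hP (Subgroup.mem_map_of_mem D.subtype hd')
    rw [← hg, Sylow.coe_subgroup_smul, Subgroup.mem_pointwise_smul_iff_inv_smul_mem] at h1
    simp only [Subgroup.coe_subtype, MulAut.conjNormal_apply, MulAut.smul_def, MulAut.inv_apply,
      MulAut.conj_symm_apply] at h1
    rw [show g⁻¹ * (g * (d : H) * g⁻¹) * g = (d : H) by group] at h1
    exact h1
  have hdisj : ∀ (Q₁ Q₂ : Sylow 3 D) (v : V), v ≠ 1 → v ∈ fixS Q₁ → v ∈ fixS Q₂ → Q₁ = Q₂ := by
    intro Q₁ Q₂ v hv h1 h2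
    obtain ⟨hS3, -⟩ := hst v hv
    have hW : IsPGroup 3 ((MulAction.stabilizer H v).subgroupOf D) := hS3.comap_subtype
    have e1 : (Q₁ : Subgroup D) = (MulAction.stabilizer H v).subgroupOf D :=
      (Q₁.is_maximal' hW fun g hg => Subgroup.mem_subgroupOf.2 ((hmemfix _ _).1 h1 g hg)).symm
    have e2 : (Q₂ : Subgroup D) = (MulAction.stabilizer H v).subgroupOf D :=
      (Q₂.is_maximal' hW fun g hg => Subgroup.mem_subgroupOf.2 ((hmemfix _ _).1 h2 g hg)).symm
    exact Sylow.ext (e1.trans e2.symm)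
  -- all fixed subgroups have one order
  have hfixcard : ∀ Q : Sylow 3 D, Nat.card (fixS Q) = Nat.card (fixS P) := by
    intro Q
    obtain ⟨d, rfl⟩ := MulAction.exists_smul_eq D P Q
    refine Nat.card_congr ((φ (d : H)).toEquiv.subtypeEquiv fun v => ?_).symm
    rw [hmemfix, hmemfix]
    constructor
    · intro h g hg
      rw [Sylow.coe_subgroup_smul, Subgroup.mem_pointwise_smul_iff_inv_smul_mem] at hg
      have h1 := h _ hg
      simp only [MulAut.smul_def, MulAut.inv_apply, MulAut.conj_symm_apply, Subgroup.coe_mul,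
        Subgroup.coe_inv, map_mul, map_inv, MulAut.mul_apply] at h1
      have h2 := congrArg (φ (d : H)) h1
      simpa using h2
    · intro h g hg
      have h1 := h ((MulAut.conj d) g) (by
        rw [Sylow.coe_subgroup_smul]
        exact Subgroup.smul_mem_pointwise_smul g _ _ hg)
      simp only [MulAut.conj_apply, Subgroup.coe_mul, Subgroup.coe_inv, map_mul, map_inv,
        MulAut.mul_apply] at h1
      have h2 := congrArg ((φ (d : H))⁻¹) h1
      simpa using h2
  -- the count
  have hcount : Nat.card V - 1 = Nat.card (Sylow 3 D) * (Nat.card (fixS P) - 1) := by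
    have h1 : Nat.card {v : V // v ≠ 1} = Nat.card (Σ Q : Sylow 3 D, {v : fixS Q // v ≠ 1}) := by
      refine (Nat.card_eq_of_bijective
        (fun x : Σ Q : Sylow 3 D, {v : fixS Q // v ≠ 1} =>
          (⟨(x.2.1 : V), fun h => x.2.2 (Subtype.ext h)⟩ : {v : V // v ≠ 1})) ⟨?_, ?_⟩).symm
      · rintro ⟨Q₁, ⟨⟨v, hv⟩, hv1⟩⟩ ⟨Q₂, ⟨⟨w, hw⟩, hw1⟩⟩ h
        obtain rfl : v = w := congrArg Subtype.val h
        obtain rfl := hdisj Q₁ Q₂ v (fun h' => hv1 (Subtype.ext h')) hv hw
        rfl
      · rintro ⟨v, hv⟩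
        obtain ⟨Q, hQ⟩ := hexists v hv
        exact ⟨⟨Q, ⟨⟨v, hQ⟩, fun h => hv (congrArg Subtype.val h)⟩⟩, rfl⟩
    have hone : ∀ (X : Type v) [Finite X] (a : X), Nat.card {x : X // x ≠ a} = Nat.card X - 1 := by
      intro X _ a
      have : Nat.card {x : X // x ≠ a} = ({a} : Set X)ᶜ.ncard := (Nat.card_coe_set_eq _)
      rw [this, Set.ncard_compl, Set.ncard_singleton]
    haveI := Fintype.ofFinite (Sylow 3 D)
    rw [← hone V 1, h1, Nat.card_sigma, Finset.sum_congr rfl fun Q _ =>
      (hone (fixS Q) 1).trans (by rw [hfixcard]), Finset.sum_const, Finset.card_univ,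
      Nat.card_eq_fintype_card (α := Sylow 3 D), smul_eq_mul]
  have hlt : Nat.card (fixS P) < Nat.card V := by
    refine lt_of_le_of_ne (Subgroup.card_le_card_group _) fun h => ?_
    obtain ⟨g, hg, hg1⟩ := (P : Subgroup D).bot_or_exists_ne_one.resolve_left
      fun hb => by have := hP3 P; rw [hb, Subgroup.card_bot] at this; omega
    refine hg1 (Subtype.ext (hφ ?_))
    rw [OneMemClass.coe_one, map_one]
    exact MulEquiv.ext fun v => (hmemfix _ _).1 (((Subgroup.card_eq_iff_eq_top _).1 h).ge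
      (Subgroup.mem_top v)) g hg
  have hV9 : Nat.card V = 9 := by
    obtain ⟨a, ha⟩ := IsPGroup.iff_card.1 (hV.to_subgroup (fixS P))
    have h0 := Nat.card_pos (α := fixS P)
    have hm1 : Nat.card (Sylow 3 D) % 3 = 1 := card_sylow_modEq_one (p := 3) (G := D)
    have hm4 : Nat.card (Sylow 3 D) = 1 ∨ Nat.card (Sylow 3 D) = 4 := by omega
    rcases hm4 with h | h <;> rw [h] at hcount
    · omega
    · rw [ha] at hcount hlt h0
      rw [hc] at hcount hlt ⊢
      have hac : a < c := (Nat.pow_lt_pow_iff_right (by norm_num)).1 hlt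
      have h30 : 0 < 3 ^ c := by positivity
      rcases Nat.lt_or_ge a 2 with ha2 | ha2
      · interval_cases a <;> omega
      · exfalso
        have d1 : (3 : ℕ) ^ 2 ∣ 3 ^ a := pow_dvd_pow 3 ha2
        have d2 : (3 : ℕ) ^ 2 ∣ 3 ^ c := pow_dvd_pow 3 (ha2.trans hac.le)
        omega
  -- the contradiction
  obtain ⟨v, hv⟩ := exists_ne (1 : V)
  obtain ⟨hS3, hSi⟩ := hst v hv
  rw [hV9] at hSi
  obtain ⟨s, hs⟩ := IsPGroup.iff_card.1 hS3
  have hH : Nat.card H = 3 ^ s * 8 := by
    rw [← (MulAction.stabilizer H v).card_mul_index, hs, hSi]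
  have hO : ∀ r : Nat.Primes, (r : ℕ) ≠ 2 → Cfsg.pCore (r : ℕ) H = ⊥ := by
    intro r hr
    haveI : Fact (r : ℕ).Prime := ⟨r.2⟩
    rcases eq_or_ne (r : ℕ) 3 with h | h
    · rw [h]; exact hbot
    obtain ⟨j, hj⟩ := IsPGroup.iff_card.1 (pCore_isPGroup (G := H) (r : ℕ))
    rcases Nat.eq_zero_or_pos j with rfl | hj0
    · exact Subgroup.card_eq_one.1 (by rw [hj, pow_zero])
    · exfalso
      have h1 : (r : ℕ) ∣ 3 ^ s * 8 := (dvd_pow_self _ hj0.ne').trans
        (hj ▸ hH ▸ Subgroup.card_subgroup_dvd_card _)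
      rcases r.2.dvd_mul.1 h1 with h2 | h2
      · exact h ((Nat.prime_dvd_prime_iff_eq r.2 Nat.prime_three).1 (r.2.dvd_of_dvd_pow h2))
      · rw [show 8 = 2 ^ 3 from rfl] at h2
        exact hr ((Nat.prime_dvd_prime_iff_eq r.2 Nat.prime_two).1 (r.2.dvd_of_dvd_pow h2))
  have hFR : Cfsg.fittingSubgroup H ≤ R := by
    rw [fitting_eq_iSup_pCore]
    refine iSup_le fun r => ?_
    rcases eq_or_ne (r : ℕ) 2 with h | h
    · rw [h, ← hR]
    · rw [hO r h]; exact bot_le
  have hCR : centralizer (R : Set H) ≤ R := fun g hg => hFR (centralizer_fitting_le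
    (centralizer_le (SetLike.coe_subset_coe.2 hFR) hg))
  have hSinj : Function.Injective (ψ.rangeRestrict.comp (MulAction.stabilizer H v).subtype) := by
    refine (injective_iff_map_eq_one _).2 fun g hg => Subtype.ext ?_
    obtain ⟨a, ha⟩ := hR2 ⟨(g : H), hCR ((hker _).1 (congrArg Subtype.val hg))⟩
    obtain ⟨k, hk⟩ := hstab v hv g g.2
    exact eq_one_of_two_primes (p := 3) (by norm_num) (congrArg Subtype.val ha) hk
  have hs1 : 3 ^ s ∣ 3 := by
    rw [← hs, Nat.card_congr (MonoidHom.ofInjective hSinj).toEquiv]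
    exact hA3 _ (hS3.of_equiv (MonoidHom.ofInjective hSinj))
  have hidx : R.index ∣ 3 := by
    have h1 := R.card_mul_index
    rw [hR8, hH] at h1
    have h2 : R.index = 3 ^ s := by omega
    rwa [h2]
  have hDR : D ≤ R := by
    haveI : IsCyclic (H ⧸ R) := by
      rcases (Nat.dvd_prime Nat.prime_three).1 hidx with h | h <;> rw [R.index_eq_card] at h
      · haveI : Subsingleton (H ⧸ R) := (Nat.card_eq_one_iff_unique.1 h).1
        exact isCyclic_of_subsingleton
      · exact isCyclic_of_prime_card (p := 3) h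
    letI : CommGroup (H ⧸ R) := IsCyclic.commGroup
    intro g hg
    exact (QuotientGroup.eq_one_iff g).1
      (MonoidHom.mem_ker.1 (Abelianization.commutator_subset_ker (QuotientGroup.mk' R) hg))
  have h38 : 3 ∣ 8 := by
    have h := Subgroup.orderOf_dvd_natCard R (hDR hy₀D)
    rwa [hy₀, hR8] at h
  norm_num at h38

/-- A group whose derived group has order prime to `p`. -/
theorem complement_and_abelian_sylow (hd : ¬ p ∣ Nat.card (commutator H)) :
    Cfsg.HasNormalPComplement p H ∧ ∀ Q : Sylow p H, IsMulCommutative (Q : Subgroup H) := by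
  classical
  refine ⟨CFun.hasNormalPComplement_of_quotient (commutator H) hd ?_, fun Q => ⟨⟨fun a b => ?_⟩⟩⟩
  · let P : Sylow p (Abelianization H) := default
    obtain ⟨K, hK⟩ := Subgroup.exists_left_complement'_of_coprime (N := (P : Subgroup (Abelianization H)))
      P.card_coprime_index
    have hc : ∀ a b : Abelianization H, a * b = b * a := mul_comm
    refine ⟨P, K, ⟨fun k hk g => ?_⟩, hK⟩
    have e : g * k * g⁻¹ = k := mul_inv_eq_iff_eq_mul.2 (hc g k)
    exact (congrArg (· ∈ K) e).mpr hk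
  · obtain ⟨i, hi⟩ := IsPGroup.iff_orderOf.1 Q.isPGroup' ⁅a, b⁆
    refine commutatorElement_eq_one_iff_mul_comm.1 (orderOf_eq_one_iff.1 ?_)
    rw [hi]
    rcases Nat.eq_zero_or_pos i with rfl | hi0
    · rw [pow_zero]
    · refine absurd ((dvd_pow_self p hi0.ne').trans ?_) hd
      rw [← hi, ← Subgroup.orderOf_coe]
      exact Subgroup.orderOf_dvd_natCard _ (Subgroup.commutator_mem_commutator
        (Subgroup.mem_top _) (Subgroup.mem_top _))

end CfsgLib.Char.TwoNonzeroSolvable
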