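import Mathlib
import Cfsg.Agent.Lib.Char.TwoS5Data

/-!
# The double cover 2.S₅ with a unique involution as a subgroup of GL(4,7)

It acts without fixed points: every element of even order has `-1` as a power, and the geometric sum of
an element of order 3 or 5 vanishes.
-/

set_option autoImplicit false

namespace CfsgLib.Char.TwoS5

open Matrix

/-- `4 × 4` matrices modulo 7. -/
abbrev Mat := Matrix (Fin 4) (Fin 4) (ZMod 7)

/-- An octal digit. -/
def digit (x t : Nat) : Nat := x / 8 ^ t % 8

/-- The matrix with a given code. -/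
def toMat (x : Nat) : Mat := fun i j => ((digit x (4 * i.val + j.val) : Nat) : ZMod 7)

/-- The code of `1`. -/
def oneCode : Nat := 35185445863425

/-- The code of `-1`. -/
def negCode : Nat := 211112675180550

/-- The position of `-1`. -/
def negPos : Nat := 3

/-- One entry of a product. -/
def entryMul (x y t : Nat) : Nat :=
  digit x (4 * (t / 4)) * digit y (t % 4) + digit x (4 * (t / 4) + 1) * digit y (4 + t % 4) +
    digit x (4 * (t / 4) + 2) * digit y (8 + t % 4) + digit x (4 * (t / 4) + 3) * digit y (12 + t % 4)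

/-- Product check. -/
def chk (x y z : Nat) : Bool := (List.range 16).all fun t => entryMul x y t % 7 == digit z t % 7

theorem toMat_mul_of_chk {x y z : Nat} (h : chk x y z = true) : toMat x * toMat y = toMat z := by
  ext i j
  have ht := List.all_eq_true.mp h (4 * i.val + j.val) (List.mem_range.mpr (by omega))
  rw [beq_iff_eq] at ht
  have h1 : (4 * i.val + j.val) / 4 = i.val := by omega
  have h2 : (4 * i.val + j.val) % 4 = j.val := by omega
  unfold entryMul at ht
  rw [h1, h2] at ht
  have hz : toMat z i j = ((digit z (4 * i.val + j.val) % 7 : Nat) : ZMod 7) := (ZMod.natCast_mod _ 7).symm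
  rw [hz, ← ht, ZMod.natCast_mod, Matrix.mul_apply, Fin.sum_univ_four]
  simp [toMat]

theorem toMat_one : toMat oneCode = 1 := by decide +kernel

theorem toMat_negCode : toMat negCode = -1 := by decide +kernel

/-- The code at a position. -/
def el (k : Nat) : Nat := elts.getD k 0

/-- A code of a matrix different from `1`. -/
def neOne (x : Nat) : Bool := !((List.range 16).all fun t => digit x t % 7 == digit oneCode t % 7)

theorem toMat_ne_one {x : Nat} (h : neOne x = true) : toMat x ≠ 1 := by
  intro he
  unfold neOne at h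
  rw [Bool.not_eq_true', List.all_eq_false] at h
  obtain ⟨t, ht, hne⟩ := h
  rw [List.mem_range] at ht
  rw [beq_iff_eq, ← ZMod.natCast_eq_natCast_iff'] at hne
  have := congrFun (congrFun (he.trans toMat_one.symm) ⟨t / 4, by omega⟩) ⟨t % 4, Nat.mod_lt _ (by omega)⟩
  simp only [toMat] at this
  rw [show 4 * (t / 4) + t % 4 = t from Nat.div_add_mod t 4] at this
  exact hne this

/-- The parent certificate. -/
def okParent : Bool :=
  (List.range 239).all fun t => (parent.getD t (0, false)).1 ≤ t &&
    chk (el (parent.getD t (0, false)).1) (if (parent.getD t (0, false)).2 then genB else genA) (el (t + 1))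

/-- The successor certificate. -/
def okSucc : Bool :=
  (List.range 240).all fun i => (succ.getD i (0, 0)).1 < 240 && (succ.getD i (0, 0)).2 < 240 &&
    chk (el i) genA (el (succ.getD i (0, 0)).1) && chk (el i) genB (el (succ.getD i (0, 0)).2)

/-- The possible orders. -/
def allowed : List Nat := [1, 2, 3, 4, 5, 6, 8, 10, 12]

/-- The order of the element at a position. -/
def ordN (i : Nat) : Nat := (powers.getD i []).length - 1

/-- The position of a power. -/
def pw (i j : Nat) : Nat := (powers.getD i []).getD j 0

/-- The power certificate. -/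
def okPow : Bool :=
  (List.range 240).all fun i => allowed.contains (ordN i) && pw i 0 == 0 && pw i (ordN i) == 0 &&
    ((List.range (ordN i)).all fun j => chk (el (pw i j)) (el i) (el (pw i (j + 1))) &&
      (j == 0 || neOne (el (pw i j)))) &&
    (!(ordN i % 2 == 0) || el (pw i (ordN i / 2)) == negCode) &&
    (!(ordN i == 3 || ordN i == 5) || (List.range 16).all fun t =>
      (((List.range (ordN i)).map fun j => digit (el (pw i j)) t).sum % 7 == 0))

theorem okParent_true : okParent = true := by decide +kernel

theorem okSucc_true : okSucc = true := by decide +kernel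

theorem okPow_true : okPow = true := by decide +kernel

theorem el_zero : el 0 = oneCode := by decide +kernel

theorem el_negPos : el negPos = negCode := by decide +kernel

theorem orders_occur : (allowed.all fun n => (List.range 240).any fun i => ordN i == n) = true := by
  decide +kernel

/-- The underlying set of matrices. -/
def carrierSet : Set Mat := Set.range fun i : Fin 240 => toMat (el i.val)

theorem el_mem {i : Nat} (h : i < 240) : toMat (el i) ∈ carrierSet := ⟨⟨i, h⟩, rfl⟩

theorem one_mem' : (1 : Mat) ∈ carrierSet := by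
  rw [← toMat_one, ← el_zero]
  exact el_mem (by norm_num)

theorem gen_mul_mem {x : Mat} (hx : x ∈ carrierSet) (b : Bool) :
    x * toMat (if b then genB else genA) ∈ carrierSet := by
  obtain ⟨⟨i, hi⟩, rfl⟩ := hx
  have h := List.all_eq_true.mp okSucc_true i (List.mem_range.mpr hi)
  simp only [Bool.and_eq_true, decide_eq_true_eq] at h
  obtain ⟨⟨⟨h1, h2⟩, h3⟩, h4⟩ := h
  show toMat (el i) * _ ∈ carrierSet
  cases b
  · rw [if_neg Bool.false_ne_true, toMat_mul_of_chk h3]; exact el_mem h1
  · rw [if_pos rfl, toMat_mul_of_chk h4]; exact el_mem h2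

theorem mul_mem' {x y : Mat} (hx : x ∈ carrierSet) (hy : y ∈ carrierSet) : x * y ∈ carrierSet := by
  obtain ⟨⟨i, hi⟩, rfl⟩ := hy
  show x * toMat (el i) ∈ carrierSet
  induction i using Nat.strong_induction_on with
  | _ i ih =>
    cases i with
    | zero => rw [el_zero, toMat_one, mul_one]; exact hx
    | succ t =>
      have h := List.all_eq_true.mp okParent_true t (List.mem_range.mpr (by omega))
      simp only [Bool.and_eq_true, decide_eq_true_eq] at h
      rw [← toMat_mul_of_chk h.2, ← mul_assoc]
      exact gen_mul_mem (ih _ (by omega) (by omega)) _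

theorem pow_mem' {x : Mat} (hx : x ∈ carrierSet) (n : Nat) : x ^ n ∈ carrierSet := by
  induction n with
  | zero => rw [pow_zero]; exact one_mem'
  | succ n ih => rw [pow_succ]; exact mul_mem' ih hx

/-- The facts recorded for one element. -/
theorem element_facts {i : Nat} (hi : i < 240) :
    ordN i ∈ allowed ∧ orderOf (toMat (el i)) = ordN i ∧
      (ordN i % 2 = 0 → toMat (el i) ^ (ordN i / 2) = -1) ∧
      ((ordN i = 3 ∨ ordN i = 5) → ∑ j ∈ Finset.range (ordN i), toMat (el i) ^ j = 0) := by
  have h := List.all_eq_true.mp okPow_true i (List.mem_range.mpr hi)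
  simp only [Bool.and_eq_true, beq_iff_eq, List.contains_iff_mem] at h
  obtain ⟨⟨⟨⟨⟨hall, h0⟩, hn⟩, hstep⟩, heven⟩, hodd⟩ := h
  have hpos : 0 < ordN i := by
    rcases Nat.eq_zero_or_pos (ordN i) with h' | h'
    · rw [h'] at hall; simp [allowed] at hall
    · exact h'
  have hs : ∀ j < ordN i, chk (el (pw i j)) (el i) (el (pw i (j + 1))) = true ∧
      (j = 0 ∨ neOne (el (pw i j)) = true) := fun j hj => by
    have := List.all_eq_true.mp hstep j (List.mem_range.mpr hj)
    simpa [Bool.and_eq_true, Bool.or_eq_true] using this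
  have hp : ∀ j, j ≤ ordN i → toMat (el i) ^ j = toMat (el (pw i j)) := by
    intro j
    induction j with
    | zero => intro _; rw [pow_zero, h0, el_zero, toMat_one]
    | succ j ih => intro hj; rw [pow_succ, ih (by omega), toMat_mul_of_chk (hs j (by omega)).1]
  refine ⟨hall, (orderOf_eq_iff hpos).mpr ⟨by rw [hp _ le_rfl, hn, el_zero, toMat_one], fun m hm hm0 => ?_⟩,
    fun he => ?_, fun ho => ?_⟩
  · rw [hp m (by omega)]
    exact toMat_ne_one ((hs m hm).2.resolve_left (by omega))
  · rw [hp _ (Nat.div_le_self _ _), ← toMat_negCode]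
    have : el (pw i (ordN i / 2)) = negCode := by simpa [he] using heven
    rw [this]
  · ext a b
    rw [Matrix.sum_apply, Matrix.zero_apply]
    rw [Finset.sum_congr rfl fun j hj => by rw [hp j (Finset.mem_range.mp hj).le]]
    have h1 : (!(ordN i == 3 || ordN i == 5)) = false := by rcases ho with h' | h' <;> simp [h']
    rw [h1, Bool.false_or, List.all_eq_true] at hodd
    have h2 := hodd (4 * a.val + b.val) (List.mem_range.mpr (by omega))
    rw [beq_iff_eq] at h2
    have h3 : ((List.range (ordN i)).map fun j => digit (el (pw i j)) (4 * a.val + b.val)).sum =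
        ∑ j ∈ Finset.range (ordN i), digit (el (pw i j)) (4 * a.val + b.val) := rfl
    rw [h3] at h2
    have h4 := (ZMod.natCast_eq_zero_iff _ 7).mpr (Nat.dvd_of_mod_eq_zero h2)
    rw [Nat.cast_sum] at h4
    exact h4

/-- The group `2.S₅⁻`. -/
def bincover : Subgroup (GL (Fin 4) (ZMod 7)) where
  carrier := {g | (g : Mat) ∈ carrierSet}
  mul_mem' := fun {a b} ha hb => by
    show ((a * b : GL (Fin 4) (ZMod 7)) : Mat) ∈ carrierSet
    rw [Units.val_mul]; exact mul_mem' ha hb
  one_mem' := by
    show ((1 : GL (Fin 4) (ZMod 7)) : Mat) ∈ carrierSet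
    rw [Units.val_one]; exact one_mem'
  inv_mem' := fun {a} ha => by
    show ((a⁻¹ : GL (Fin 4) (ZMod 7)) : Mat) ∈ carrierSet
    have h : a⁻¹ = a ^ (orderOf a - 1) := by
      apply inv_eq_of_mul_eq_one_right
      rw [← pow_succ', Nat.sub_add_cancel (orderOf_pos a), pow_orderOf_eq_one]
    rw [h, Units.val_pow_eq_pow_val]
    exact pow_mem' ha _

/-- `-1` in `bincover`. -/
def negElt : bincover :=
  ⟨-1, by show ((-1 : GL (Fin 4) (ZMod 7)) : Mat) ∈ carrierSet
          rw [Units.val_neg, Units.val_one, ← toMat_negCode, ← el_negPos]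
          exact el_mem (by decide)⟩

theorem coe_coe_injective : Function.Injective fun g : bincover => ((g : GL (Fin 4) (ZMod 7)) : Mat) :=
  fun _ _ h => Subtype.ext (Units.ext h)

/-- Everything we need about an element of `2.S₅⁻`. -/
theorem facts (g : bincover) :
    orderOf g ∈ allowed ∧ (orderOf g % 2 = 0 → g ^ (orderOf g / 2) = negElt) ∧
      ((orderOf g = 3 ∨ orderOf g = 5) →
        ∑ j ∈ Finset.range (orderOf g), ((g : GL (Fin 4) (ZMod 7)) : Mat) ^ j = 0) := by
  obtain ⟨⟨i, hi⟩, hgi⟩ := g.2
  obtain ⟨h1, h2, h3, h4⟩ := element_facts hi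
  have he : ((g : GL (Fin 4) (ZMod 7)) : Mat) = toMat (el i) := hgi.symm
  have ho : orderOf g = ordN i := by rw [← Subgroup.orderOf_coe, ← orderOf_units, he, h2]
  rw [ho]
  refine ⟨h1, fun h => coe_coe_injective ?_, fun h => by rw [he]; exact h4 h⟩
  simp only [SubgroupClass.coe_pow, Units.val_pow_eq_pow_val]
  rw [he, h3 h]
  simp [negElt]

theorem exists_orderOf {n : Nat} (hn : n ∈ allowed) : ∃ g : bincover, orderOf g = n := by
  have h := List.all_eq_true.mp orders_occur n hn
  rw [List.any_eq_true] at h
  obtain ⟨i, hi, hin⟩ := h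
  rw [List.mem_range] at hi
  rw [beq_iff_eq] at hin
  obtain ⟨h1, h2, -, -⟩ := element_facts hi
  have hpos : 0 < orderOf (toMat (el i)) := by
    rw [h2]; rcases Nat.eq_zero_or_pos (ordN i) with h' | h'
    · rw [h'] at h1; simp [allowed] at h1
    · exact h'
  let u : GL (Fin 4) (ZMod 7) :=
    Units.ofPowEqOne (toMat (el i)) _ (pow_orderOf_eq_one _) hpos.ne'
  refine ⟨⟨u, show (u : Mat) ∈ carrierSet from el_mem hi⟩, ?_⟩
  rw [← Subgroup.orderOf_coe, ← orderOf_units]
  exact h2.trans hin

theorem negElt_commute (g : bincover) : negElt * g = g * negElt := by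
  apply coe_coe_injective
  simp [negElt]

theorem negElt_ne_one : negElt ≠ 1 := by
  intro h
  have h1 : ((-1 : GL (Fin 4) (ZMod 7)) : Mat) = 1 := congrArg (fun g : bincover => ((g : GL (Fin 4) (ZMod 7)) : Mat)) h
  rw [Units.val_neg, Units.val_one] at h1
  exact absurd h1 (by decide +kernel)

theorem negElt_mul_self : negElt * negElt = 1 := by
  apply coe_coe_injective
  simp [negElt]

end CfsgLib.Char.TwoS5
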