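import Cfsg.Agent.Lib.Char.Counting
import Cfsg.Agent.Lib.Char.Clifford
import Cfsg.Agent.Lib.Char.Extend
import Cfsg.Agent.Lib.Char.CyclicTIBasic

/-!
# Groups `K ⋊ W₁` in which every non-identity element of `W₁` has the same centralizer `W₂` in `K`
-/

set_option autoImplicit false
set_option linter.unusedSectionVars false

namespace CfsgLib.Char

open scoped ComplexConjugate
open Representation Module Cfsg

universe u

variable {L : Type u} [Group L] [Finite L]

/-- A coprime element moving a finite set into itself has a non-identity power fixing a point. -/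
theorem exists_power_fix {x : L} (hx1 : x ≠ 1) (s : Set L) (hinv : ∀ a ∈ s, x * a * x⁻¹ ∈ s)
    (hcop : Nat.Coprime (orderOf x) (Nat.card s)) :
    ∃ y ∈ Subgroup.zpowers x, y ≠ 1 ∧ ∃ a ∈ s, y * a * y⁻¹ = a := by
  classical
  set o := orderOf x with ho
  have ho1 : o ≠ 1 := fun e => hx1 (orderOf_eq_one_iff.mp e)
  have hq : o.minFac.Prime := Nat.minFac_prime ho1
  have := Fact.mk hq
  have hoq : o / o.minFac * o.minFac = o := Nat.div_mul_cancel o.minFac_dvd
  let y := x ^ (o / o.minFac)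
  have hinvk : ∀ (k : ℕ), ∀ a ∈ s, x ^ k * a * (x ^ k)⁻¹ ∈ s := by
    intro k
    induction k with
    | zero => simp
    | succ k ih =>
      intro a ha
      have e : x ^ (k + 1) * a * (x ^ (k + 1))⁻¹ = x * (x ^ k * a * (x ^ k)⁻¹) * x⁻¹ := by
        rw [pow_succ']; simp [mul_assoc]
      exact e ▸ hinv _ (ih a ha)
  let f : s → s := fun a => ⟨y * a * y⁻¹, hinvk _ a a.2⟩
  have hf : Function.Bijective f := Finite.injective_iff_bijective.mp fun a b e =>
    Subtype.ext (by simpa [f] using congrArg Subtype.val e)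
  let σ : Equiv.Perm s := Equiv.ofBijective f hf
  have hpow : ∀ (k : ℕ) (a : s), (((σ ^ k) a : s) : L) = y ^ k * a * (y ^ k)⁻¹ := by
    intro k a
    induction k with
    | zero => simp
    | succ k ih =>
      rw [pow_succ', Equiv.Perm.mul_apply]
      show y * ↑((σ ^ k) a) * y⁻¹ = _
      rw [ih, pow_succ']
      simp [mul_assoc]
  let _ : Fintype s := Fintype.ofFinite s
  have hndvd : ¬ o.minFac ∣ Fintype.card s := fun h => by
    rw [← Nat.card_eq_fintype_card] at h
    exact hq.one_lt.ne' (Nat.eq_one_of_dvd_one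
      (hcop.gcd_eq_one ▸ Nat.dvd_gcd o.minFac_dvd h))
  obtain ⟨a, ha⟩ := Equiv.Perm.exists_fixed_point_of_prime (p := o.minFac) (n := 1) hndvd (σ := σ) (by
    have hy : y ^ o.minFac = 1 := by
      show (x ^ (o / o.minFac)) ^ o.minFac = 1
      rw [← pow_mul, hoq]
      exact pow_orderOf_eq_one x
    refine Equiv.ext fun a => Subtype.ext ?_
    rw [pow_one, hpow, hy]
    simp)
  refine ⟨y, Subgroup.pow_mem _ (Subgroup.mem_zpowers x) _, fun e => ?_, a, a.2,
    congrArg Subtype.val ha⟩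
  have hpos : 0 < o := orderOf_pos x
  have h2 : o ≤ o / o.minFac := Nat.le_of_dvd
    (Nat.div_pos (Nat.minFac_le hpos) hq.pos) (orderOf_dvd_of_pow_eq_one e)
  exact absurd h2 (not_le.mpr (Nat.div_lt_self hpos hq.one_lt))

section Classes

variable (K W₂ : Subgroup L) [hK : K.Normal] {x : L} (hx1 : x ≠ 1)
  (hx : Nat.Coprime (orderOf x) (Nat.card K))
  (hC : ∀ y ∈ Subgroup.zpowers x, y ≠ 1 → K ⊓ Subgroup.centralizer ({y} : Set L) = W₂)
include hx1 hx hC

theorem centralizes_of_mem {w : L} (hw : w ∈ W₂) : w ∈ K ∧ x * w * x⁻¹ = w := by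
  rw [← hC x (Subgroup.mem_zpowers x) hx1] at hw
  refine ⟨hw.1, ?_⟩
  rw [← Subgroup.mem_centralizer_singleton_iff.mp hw.2, mul_inv_cancel_right]

theorem fixed_class_meets (C : ConjClasses K)
    (hfix : ConjClasses.map (MulEquiv.toMonoidHom (MulAut.conjNormal x : MulAut K)) C = C) :
    ∃ w : K, (w : L) ∈ W₂ ∧ ConjClasses.mk w = C := by
  classical
  obtain ⟨k, rfl⟩ := ConjClasses.exists_rep C
  let s : Set L := Subtype.val '' {j : K | IsConj k j}
  have hinv : ∀ a ∈ s, x * a * x⁻¹ ∈ s := by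
    rintro _ ⟨j, hj, rfl⟩
    refine ⟨MulAut.conjNormal x j, ?_, MulAut.conjNormal_apply x j⟩
    have h1 : IsConj k (MulAut.conjNormal x k) :=
      (ConjClasses.mk_eq_mk_iff_isConj.mp (show ConjClasses.mk (MulAut.conjNormal x k) = ConjClasses.mk k
        from hfix)).symm
    exact h1.trans ((MulEquiv.toMonoidHom (MulAut.conjNormal x : MulAut K)).map_isConj hj)
  have hcard : Nat.card s ∣ Nat.card K := by
    rw [Nat.card_image_of_injective Subtype.val_injective]
    show Nat.card {j : K // IsConj k j} ∣ _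
    let _ := Fintype.ofFinite K
    rw [card_isConj k]
    exact Subgroup.index_dvd_card _
  obtain ⟨y, hy, hy1, a, ⟨j, hj, rfl⟩, hfix'⟩ :=
    exists_power_fix hx1 s hinv (hx.coprime_dvd_right hcard)
  refine ⟨j, ?_, ConjClasses.mk_eq_mk_iff_isConj.mpr hj.symm⟩
  rw [← hC y hy hy1]
  exact ⟨j.2, Subgroup.mem_centralizer_singleton_iff.mpr (mul_inv_eq_iff_eq_mul.mp hfix').symm⟩

theorem fixed_classes_le :
    Nat.card {C : ConjClasses K //
      ConjClasses.map (MulEquiv.toMonoidHom (MulAut.conjNormal x : MulAut K)) C = C} ≤ Nat.card W₂ := by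
  choose w hw hmk using fun C : {C : ConjClasses K //
      ConjClasses.map (MulEquiv.toMonoidHom (MulAut.conjNormal x : MulAut K)) C = C} =>
    fixed_class_meets K W₂ hx1 hx hC C.1 C.2
  exact Nat.card_le_card_of_injective (fun C => (⟨_, hw C⟩ : W₂)) fun C C' e => by
    refine Subtype.ext ?_
    rw [← hmk C, ← hmk C', show w C = w C' from Subtype.ext (congrArg Subtype.val e :)]

theorem eq_of_isConj_of_mem (hcomm : ∀ a ∈ W₂, ∀ b ∈ W₂, a * b = b * a) {w w' : K}
    (hw : (w : L) ∈ W₂) (hw' : (w' : L) ∈ W₂) (h : IsConj w w') : w = w' := by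
  classical
  obtain ⟨k₀, hk₀⟩ := isConj_iff.mp h
  let s : Set L := Subtype.val '' {k : K | k * w * k⁻¹ = w'}
  have hinv : ∀ a ∈ s, x * a * x⁻¹ ∈ s := by
    rintro _ ⟨k, hk, rfl⟩
    refine ⟨MulAut.conjNormal x k, ?_, MulAut.conjNormal_apply x k⟩
    have e1 : MulAut.conjNormal x w = w := Subtype.ext (by
      rw [MulAut.conjNormal_apply]; exact (centralizes_of_mem K W₂ hx1 hx hC hw).2)
    have e2 : MulAut.conjNormal x w' = w' := Subtype.ext (by
      rw [MulAut.conjNormal_apply]; exact (centralizes_of_mem K W₂ hx1 hx hC hw').2)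
    have := congrArg (MulAut.conjNormal x : MulAut K) (hk : k * w * k⁻¹ = w')
    rw [map_mul, map_mul, map_inv, e1, e2] at this
    exact this
  have hcard : Nat.card s ∣ Nat.card K := by
    rw [Nat.card_image_of_injective Subtype.val_injective]
    have e : {k : K | k * w * k⁻¹ = w'} ≃ Subgroup.centralizer ({w} : Set K) :=
      (Equiv.mulLeft k₀⁻¹).subtypeEquiv fun k => by
        rw [Subgroup.mem_centralizer_singleton_iff, Equiv.coe_mulLeft, Set.mem_ofPred_eq, ← hk₀]
        constructor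
        · intro h'
          calc k₀⁻¹ * k * w = k₀⁻¹ * (k * w * k⁻¹) * k := by group
            _ = k₀⁻¹ * (k₀ * w * k₀⁻¹) * k := by rw [h']
            _ = w * (k₀⁻¹ * k) := by group
        · intro h'
          calc k * w * k⁻¹ = k₀ * (k₀⁻¹ * k * w) * k⁻¹ := by group
            _ = k₀ * (w * (k₀⁻¹ * k)) * k⁻¹ := by rw [h']
            _ = k₀ * w * k₀⁻¹ := by group
    rw [Nat.card_congr e]
    exact Subgroup.card_subgroup_dvd_card _
  obtain ⟨y, hy, hy1, a, ⟨k, hk, rfl⟩, hfix'⟩ :=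
    exists_power_fix hx1 s hinv (hx.coprime_dvd_right hcard)
  have hkW : (k : L) ∈ W₂ := by
    rw [← hC y hy hy1]
    exact ⟨k.2, Subgroup.mem_centralizer_singleton_iff.mpr (mul_inv_eq_iff_eq_mul.mp hfix').symm⟩
  rw [← (hk : k * w * k⁻¹ = w')]
  refine Subtype.ext ?_
  simp only [Subgroup.coe_mul, InvMemClass.coe_inv]
  rw [hcomm _ hkW _ hw, mul_inv_cancel_right]

theorem card_fixed_classes (hcomm : ∀ a ∈ W₂, ∀ b ∈ W₂, a * b = b * a) :
    Nat.card {C : ConjClasses K //
      ConjClasses.map (MulEquiv.toMonoidHom (MulAut.conjNormal x : MulAut K)) C = C} = Nat.card W₂ := by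
  refine le_antisymm (fixed_classes_le K W₂ hx1 hx hC) ?_
  have hfix : ∀ w : W₂, ConjClasses.map (MulEquiv.toMonoidHom (MulAut.conjNormal x : MulAut K))
      (ConjClasses.mk ⟨w, (centralizes_of_mem K W₂ hx1 hx hC w.2).1⟩) =
        ConjClasses.mk ⟨w, (centralizes_of_mem K W₂ hx1 hx hC w.2).1⟩ := fun w =>
    congrArg ConjClasses.mk (Subtype.ext
      ((MulAut.conjNormal_apply x _).trans (centralizes_of_mem K W₂ hx1 hx hC w.2).2))
  exact Nat.card_le_card_of_injective (fun w : W₂ => (⟨_, hfix w⟩ : {C : ConjClasses K //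
    ConjClasses.map (MulEquiv.toMonoidHom (MulAut.conjNormal x : MulAut K)) C = C})) fun w w' e =>
    Subtype.ext (congrArg Subtype.val (eq_of_isConj_of_mem K W₂ hx1 hx hC hcomm w.2 w'.2
      (ConjClasses.mk_eq_mk_iff_isConj.mp (congrArg Subtype.val e))) :)

end Classes

/-- The hypotheses: `L = K ⋊ W₁` with cyclic coprime `W₁`, all of whose non-identity elements have
centralizer `W₂` in `K`. -/
structure TypePLike (K W₁ W₂ : Subgroup L) : Prop where
  normal : K.Normal
  disj : K ⊓ W₁ = ⊥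
  sup : K ⊔ W₁ = ⊤
  ne₁ : W₁ ≠ ⊥
  cyc₁ : IsCyclic W₁
  hall : Nat.Coprime (Nat.card W₁) W₁.index
  ne₂ : W₂ ≠ ⊥
  cyc₂ : IsCyclic W₂
  le : W₂ ≤ K
  cent : ∀ x ∈ W₁, x ≠ 1 → K ⊓ Subgroup.centralizer ({x} : Set L) = W₂

variable {K W₁ W₂ : Subgroup L}

namespace TypePLike

variable (h : TypePLike K W₁ W₂)
include h

theorem exists_factor (g : L) : ∃ k ∈ K, ∃ c ∈ W₁, g = k * c := by
  have := h.normal
  have hg : g ∈ K ⊔ W₁ := h.sup ▸ Subgroup.mem_top g
  obtain ⟨k, hk, c, hc, e⟩ := Subgroup.mem_sup_of_normal_left.mp hg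
  exact ⟨k, hk, c, hc, e.symm⟩

theorem eq_of_mem_quot {a b : L} (ha : a ∈ W₁) (hb : b ∈ W₁) (hab : a⁻¹ * b ∈ K) : a = b := by
  have : a⁻¹ * b ∈ K ⊓ W₁ := ⟨hab, W₁.mul_mem (W₁.inv_mem ha) hb⟩
  rw [h.disj, Subgroup.mem_bot] at this
  exact inv_mul_eq_one.mp this

/-- The retraction onto `W₁`. -/
theorem exists_proj : ∃ π : L →* W₁, (∀ c : W₁, π c = c) ∧ ∀ g, π g = 1 ↔ g ∈ K := by
  have := h.normal
  let f : W₁ →* L ⧸ K := (QuotientGroup.mk' K).comp W₁.subtype
  have hf : Function.Bijective f := by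
    refine ⟨fun a b e => Subtype.ext (h.eq_of_mem_quot a.2 b.2 (QuotientGroup.eq.mp e)), fun q => ?_⟩
    obtain ⟨g, rfl⟩ := QuotientGroup.mk_surjective q
    obtain ⟨k, hk, c, hc, rfl⟩ := h.exists_factor g
    refine ⟨⟨c, hc⟩, ?_⟩
    show (c : L ⧸ K) = (k : L) * c
    rw [(QuotientGroup.eq_one_iff k).mpr hk, one_mul]
  let e := MulEquiv.ofBijective f hf
  refine ⟨e.symm.toMonoidHom.comp (QuotientGroup.mk' K), fun c => e.symm_apply_apply c, fun g => ?_⟩
  rw [MonoidHom.comp_apply, MulEquiv.coe_toMonoidHom, MulEquiv.map_eq_one_iff]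
  exact QuotientGroup.eq_one_iff g

theorem index_K : K.index = Nat.card W₁ := by
  have := h.normal
  obtain ⟨π, hπ, hker⟩ := h.exists_proj
  have : K = π.ker := Subgroup.ext fun g => (hker g).symm
  rw [this, Subgroup.index_ker, MonoidHom.range_eq_top.mpr (fun c => ⟨c, hπ c⟩ : Function.Surjective π), Subgroup.card_top]

theorem card_K : Nat.card K = W₁.index := by
  have h1 := K.index_mul_card
  have h2 := W₁.index_mul_card
  rw [h.index_K, ← h2, mul_comm] at h1
  exact Nat.eq_of_mul_eq_mul_right Nat.card_pos h1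

theorem coprime_card : Nat.Coprime (Nat.card W₁) (Nat.card K) := h.card_K ▸ h.hall

theorem coprime_card_two : Nat.Coprime (Nat.card W₁) (Nat.card W₂) :=
  h.coprime_card.coprime_dvd_right (Subgroup.card_dvd_of_le h.le)

theorem comm_two : ∀ a ∈ W₂, ∀ b ∈ W₂, a * b = b * a := fun a ha b hb => by
  have := h.cyc₂
  exact congrArg Subtype.val (IsMulCommutative.is_comm.comm (⟨a, ha⟩ : W₂) ⟨b, hb⟩)

theorem commute_factors : ∀ a ∈ W₁, ∀ b ∈ W₂, a * b = b * a := by
  intro a ha b hb
  rcases eq_or_ne a 1 with rfl | hne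
  · simp
  rw [← h.cent a ha hne] at hb
  exact (Subgroup.mem_centralizer_singleton_iff.mp hb.2).symm

theorem disj_factors : W₁ ⊓ W₂ = ⊥ := by
  rw [eq_bot_iff, ← h.disj]
  exact fun g hg => ⟨h.le hg.2, hg.1⟩

theorem isCyclic_sup : IsCyclic ↥(W₁ ⊔ W₂) := by
  have := h.cyc₁
  have := h.cyc₂
  have : IsCyclic (W₁ × W₂) := Group.isCyclic_prod_iff.mpr ⟨inferInstance, inferInstance, h.coprime_card_two⟩
  exact isCyclic_of_surjective (prodHom h.commute_factors)
    (prodHom_bijective h.disj_factors h.commute_factors).2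

theorem comm_sup (a b : ↥(W₁ ⊔ W₂)) : a * b = b * a := by
  have := h.isCyclic_sup
  exact IsMulCommutative.is_comm.comm a b

/-- Elements of `W` outside `W₂` are conjugate only inside `W`. -/
theorem ti_outside {v g : L} (hv : v ∈ W₁ ⊔ W₂) (hv2 : v ∉ W₂) (hgv : g * v * g⁻¹ ∈ W₁ ⊔ W₂)
    (hgv2 : g * v * g⁻¹ ∉ W₂) : g ∈ W₁ ⊔ W₂ := by
  have := h.normal
  obtain ⟨π, hπ, hker⟩ := h.exists_proj
  obtain ⟨k, hk, c, hc, rfl⟩ := h.exists_factor g
  obtain ⟨a, b, ha, hb, hab⟩ := exists_decomp h.disj_factors h.commute_factors ⟨v, hv⟩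
  obtain ⟨a', b', ha', hb', hab'⟩ := exists_decomp h.disj_factors h.commute_factors ⟨_, hgv⟩
  replace hab : (a : L) * b = v := congrArg Subtype.val hab
  replace hab' : (a' : L) * b' = k * c * v * (k * c)⁻¹ := congrArg Subtype.val hab'
  have hcv : c * v * c⁻¹ = v := by
    have := congrArg Subtype.val (h.comm_sup ⟨c, Subgroup.mem_sup_left hc⟩ ⟨v, hv⟩)
    simp only [Subgroup.coe_mul] at this
    rw [this, mul_inv_cancel_right]
  have hconj : k * ((a : L) * b) * k⁻¹ = a' * b' := by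
    rw [hab, hab', show k * c * v * (k * c)⁻¹ = k * (c * v * c⁻¹) * k⁻¹ by group, hcv]
  have haa : (a : L) = a' := by
    have e := congrArg π hconj
    rw [map_mul, map_mul, map_mul, map_mul, map_inv, (hker k).mpr hk, (hker b).mpr (h.le hb),
      (hker b').mpr (h.le hb'), one_mul, mul_one, mul_one, inv_one, mul_one] at e
    rw [hπ ⟨a, ha⟩, hπ ⟨a', ha'⟩] at e
    exact congrArg (fun z : W₁ => (z : L)) e
  have ha1 : (a : L) ≠ 1 := fun e => hv2 (by rw [← hab, e, one_mul]; exact hb)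
  obtain ⟨t, ht1, ht2⟩ := Nat.chineseRemainder h.coprime_card_two 1 0
  have hpow : ∀ (a : L), a ∈ W₁ → ∀ (b : L), b ∈ W₂ → (a * b) ^ t = a := by
    intro a ha b hb
    rw [(show Commute a b from h.commute_factors a ha b hb).mul_pow]
    have e1 : a ^ t = a := by
      have hd : orderOf a ∣ Nat.card W₁ := Subgroup.orderOf_dvd_natCard W₁ ha
      conv_rhs => rw [← pow_one a]
      exact pow_eq_pow_iff_modEq.mpr (ht1.of_dvd hd)
    have e2 : b ^ t = 1 := by
      have hd : orderOf b ∣ Nat.card W₂ := Subgroup.orderOf_dvd_natCard W₂ hb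
      exact orderOf_dvd_iff_pow_eq_one.mp (hd.trans (Nat.modEq_zero_iff_dvd.mp ht2))
    rw [e1, e2, mul_one]
  have hka : k * (a : L) * k⁻¹ = a := by
    conv_lhs => rw [← hpow _ ha _ hb]
    rw [← conj_pow, hconj, hpow _ ha' _ hb', haa]
  have hkW : k ∈ W₂ := by
    rw [← h.cent _ ha ha1]
    exact ⟨hk, Subgroup.mem_centralizer_singleton_iff.mpr (mul_inv_eq_iff_eq_mul.mp hka)⟩
  exact mul_mem (Subgroup.mem_sup_right hkW) (Subgroup.mem_sup_left hc)

theorem selfNormalizing : IsSelfNormalizingCyclic W₁ W₂ := by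
  refine ⟨h.ne₁, h.ne₂, h.disj_factors, h.commute_factors, h.isCyclic_sup, fun X hX hne => ?_⟩
  obtain ⟨v, hv⟩ := hne
  refine le_antisymm (fun g hg => ?_) fun w hw => ?_
  · have hgv := (Subgroup.mem_set_normalizer_iff.mp hg v).mp hv
    exact h.ti_outside (hX hv).1 (fun e => (hX hv).2 (Or.inr e)) (hX hgv).1
      fun e => (hX hgv).2 (Or.inr e)
  · have hfix : ∀ n ∈ (W₁ ⊔ W₂ : Subgroup L), w * n * w⁻¹ = n := fun n hn => by
      have := congrArg Subtype.val (h.comm_sup ⟨w, hw⟩ ⟨n, hn⟩)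
      simp only [Subgroup.coe_mul] at this
      rw [this, mul_inv_cancel_right]
    rw [Subgroup.mem_set_normalizer_iff]
    intro n
    refine ⟨fun hn => by rw [hfix n (hX hn).1]; exact hn, fun hn => ?_⟩
    have hn' : n ∈ W₁ ⊔ W₂ := by
      have := mul_mem (mul_mem (inv_mem hw) (hX hn).1) hw
      simpa [mul_assoc] using this
    rwa [hfix n hn'] at hn

theorem card_fixed_irr [Fintype K] (c : W₁) (hc : c ≠ 1) :
    Nat.card {θ : IrrCharacter K // haveI := h.normal; conjFun K (θ : K → ℂ) (c : L) = θ} =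
      Nat.card W₂ := by
  have := h.normal
  have hc1 : (c : L) ≠ 1 := fun e => hc (Subtype.ext e)
  have hcop : Nat.Coprime (orderOf (c : L)) (Nat.card K) :=
    h.coprime_card.coprime_dvd_left (Subgroup.orderOf_dvd_natCard W₁ c.2)
  rw [← card_fixed_classes K W₂ hc1 hcop
    (fun y hy => h.cent y ((Subgroup.zpowers_le.mpr c.2) hy)) h.comm_two,
    card_fixed_classes_aut]
  refine Nat.card_congr (Equiv.subtypeEquivRight fun θ => ?_)
  have e : ((θ : K → ℂ) ∘ (MulAut.conjNormal (c : L) : MulAut K)) = conjFun K (θ : K → ℂ) (c : L) :=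
    funext fun k => congrArg (θ : K → ℂ) (Subtype.ext (MulAut.conjNormal_apply (c : L) k))
  rw [e]

theorem fixed_iff (θ : IrrCharacter K) (c : W₁) (hc : c ≠ 1) :
    haveI := h.normal
    conjFun K (θ : K → ℂ) (c : L) = θ ↔ ∀ x ∈ W₁, conjFun K (θ : K → ℂ) x = θ := by
  have := h.normal
  refine ⟨fun hθ => ?_, fun hθ => hθ c c.2⟩
  have := h.cyc₁
  let _ := Fintype.ofFinite K
  obtain ⟨g, hg⟩ := IsCyclic.exists_generator (α := W₁)
  have hg1 : g ≠ 1 := fun e => hc (by
    obtain ⟨n, hn⟩ := Subgroup.mem_zpowers_iff.mp (hg c)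
    rw [← hn, e, one_zpow])
  have hall : ∀ φ : IrrCharacter K, conjFun K (φ : K → ℂ) (g : L) = φ →
      ∀ x ∈ W₁, conjFun K (φ : K → ℂ) x = φ := by
    intro φ hφ x hx
    obtain ⟨n, hn⟩ := Subgroup.mem_zpowers_iff.mp (hg ⟨x, hx⟩)
    rw [← mem_inertia, show x = (g : L) ^ n from (congrArg Subtype.val hn).symm.trans (by simp)]
    exact Subgroup.zpow_mem _ hφ n
  let F : {φ : IrrCharacter K // conjFun K (φ : K → ℂ) (g : L) = φ} →
      {φ : IrrCharacter K // conjFun K (φ : K → ℂ) (c : L) = φ} :=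
    fun φ => ⟨φ.1, hall φ.1 φ.2 c c.2⟩
  have hF : Function.Injective F := fun a b e =>
    Subtype.ext (congrArg (fun z : {φ : IrrCharacter K // conjFun K (φ : K → ℂ) (c : L) = φ} => z.1) e)
  have hbij := (Nat.bijective_iff_injective_and_card F).mpr
    ⟨hF, by rw [h.card_fixed_irr g hg1, h.card_fixed_irr c hc]⟩
  obtain ⟨φ, hφ⟩ := hbij.2 ⟨θ, hθ⟩
  have e : φ.1 = θ := congrArg Subtype.val hφ
  exact e ▸ hall φ.1 φ.2

theorem card_invariant :
    haveI := h.normal
    Nat.card {θ : IrrCharacter K // ∀ x ∈ W₁, conjFun K (θ : K → ℂ) x = θ} = Nat.card W₂ := by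
  have := h.normal
  let _ := Fintype.ofFinite K
  obtain ⟨c, hc⟩ := (Subgroup.bot_or_exists_ne_one W₁).resolve_left h.ne₁
  rw [← h.card_fixed_irr ⟨c, hc.1⟩ fun e => hc.2 (congrArg Subtype.val e)]
  exact Nat.card_congr (Equiv.subtypeEquivRight fun θ =>
    (h.fixed_iff θ ⟨c, hc.1⟩ fun e => hc.2 (congrArg Subtype.val e)).symm)

theorem indFun_irr [Fintype L] {θ : K → ℂ} (hθ : IsIrrCharacter K θ)
    (hmove : haveI := h.normal; ∃ x ∈ W₁, conjFun K θ x ≠ θ) :
    IsIrrCharacter L (indFun K θ) := by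
  classical
  have := h.normal
  let _ := Fintype.ofFinite K
  have hIc := isCharacter_indFun K (isCharacter_of_isIrr hθ)
  refine isIrr_of_isCharacter_norm_one hIc ?_
  rw [classInner_indFun K θ _ (isClassFunction_indFun K θ)]
  have hstab : ∀ x : L, conjFun K θ x = θ ↔ x ∈ K := by
    intro x
    refine ⟨fun hx => ?_, fun hx =>
      le_inertia K (isClassFunction_of_isCharacter (isCharacter_of_isIrr hθ)) hx⟩
    obtain ⟨k, hk, c, hc, rfl⟩ := h.exists_factor x
    rcases eq_or_ne c 1 with rfl | hc1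
    · simpa using hk
    exfalso
    have hcθ : conjFun K θ c = θ := by
      rw [conjFun_mul, (mem_inertia K θ k).mp
        (le_inertia K (isClassFunction_of_isCharacter (isCharacter_of_isIrr hθ)) hk)] at hx
      exact hx
    obtain ⟨y, hy, hyne⟩ := hmove
    exact hyne ((h.fixed_iff ⟨θ, hθ⟩ ⟨c, hc⟩ fun e => hc1 (congrArg Subtype.val e)).mp hcθ y hy)
  rw [← classInner_conj, classInner_restrict_indFun K hθ hθ,
    Nat.card_congr (Equiv.subtypeEquivRight hstab)]
  rw [map_mul, map_inv₀, map_natCast]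
  exact inv_mul_cancel₀ (by exact_mod_cast Nat.card_pos.ne')

theorem indFun_invariant [Fintype L] {θ : K → ℂ} (hθ : IsIrrCharacter K θ)
    (hinv : haveI := h.normal; ∀ x ∈ W₁, conjFun K θ x = θ) :
    ∃ C : Finset (L → ℂ), C.card = Nat.card W₁ ∧ (∀ μ ∈ C, IsIrrCharacter L μ) ∧
      indFun K θ = ∑ μ ∈ C, μ := by
  classical
  have := h.normal
  have := h.cyc₁
  let _ := Fintype.ofFinite K
  obtain ⟨π, hπ, hker⟩ := h.exists_proj
  have hall : ∀ g : L, conjFun K θ g = θ := by
    intro g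
    obtain ⟨k, hk, c, hc, rfl⟩ := h.exists_factor g
    rw [← mem_inertia]
    exact mul_mem (le_inertia K (isClassFunction_of_isCharacter (isCharacter_of_isIrr hθ)) hk)
      (hinv c hc)
  obtain ⟨d, ρ, hρ, rfl⟩ := hθ
  have hcyc : IsCyclic (L ⧸ K) :=
    isCyclic_of_surjective ((QuotientGroup.mk' K).comp W₁.subtype) fun q => by
      obtain ⟨g, rfl⟩ := QuotientGroup.mk_surjective q
      refine ⟨π g, ?_⟩
      show ((π g : L) : L ⧸ K) = g
      refine QuotientGroup.eq.mpr ((hker _).mp ?_)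
      rw [map_mul, map_inv, hπ, inv_mul_cancel]
  obtain ⟨σ, hσ⟩ := extends_of_cyclic K ρ (fun g n => congrFun (hall g) n) hcyc
  let _ : CommGroup W₁ := IsCyclic.commGroup
  have := finite_dual (K := W₁)
  let _ := Fintype.ofFinite (W₁ →* ℂˣ)
  let f : (W₁ →* ℂˣ) → L → ℂ := fun l => lc (l.comp π) * σ.character
  have hcardD : Fintype.card (W₁ →* ℂˣ) = Nat.card W₁ := by
    rw [← Nat.card_eq_fintype_card, CommGroup.card_monoidHom_of_hasEnoughRootsOfUnity W₁ ℂ]
  have hrest : ∀ k : K, σ.character k = ρ.character k := fun k =>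
    congrArg (LinearMap.trace ℂ _) (hσ k)
  have hsum : indFun K ρ.character = ∑ l, f l := by
    funext g
    simp only [f, Finset.sum_apply, Pi.mul_apply, ← Finset.sum_mul, lc_apply, MonoidHom.comp_apply]
    by_cases hg : g ∈ K
    · have e : indFun K ρ.character g = (Nat.card W₁ : ℂ) * ρ.character ⟨g, hg⟩ := by
        have e0 : ∀ x : L, ρ.character ⟨x * g * x⁻¹, h.normal.conj_mem g hg x⟩ = ρ.character ⟨g, hg⟩ :=
          fun x => congrFun (hall x) ⟨g, hg⟩
        show indFun K ρ.character ((⟨g, hg⟩ : K) : L) = _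
        rw [indFun_normal_mem]
        simp only [e0, Finset.sum_const, Finset.card_univ, nsmul_eq_mul]
        rw [← Nat.card_eq_fintype_card, ← K.index_mul_card, h.index_K, Nat.cast_mul]
        field_simp [show (Nat.card K : ℂ) ≠ 0 from by exact_mod_cast Nat.card_pos.ne']
      rw [e, (hker g).mpr hg]
      simp [hcardD, ← hrest ⟨g, hg⟩]
    · rw [indFun_normal_not_mem K _ hg]
      obtain ⟨l₀, hl₀⟩ := CommGroup.exists_apply_ne_one_of_hasEnoughRootsOfUnity W₁ ℂ
        (fun e => hg ((hker g).mp e))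
      set S := ∑ l : W₁ →* ℂˣ, ((l (π g) : ℂˣ) : ℂ) with hS
      have hz : ((l₀ (π g) : ℂˣ) : ℂ) * S = S := by
        rw [hS, Finset.mul_sum]
        exact Fintype.sum_equiv (Equiv.mulLeft l₀) _ _ fun l => by simp
      have : S = 0 := by
        by_contra h0
        exact hl₀ (Units.ext (mul_right_cancel₀ h0 (hz.trans (one_mul S).symm)))
      rw [this, zero_mul]
  have hfchar : ∀ l, IsCharacter L (f l) := fun l =>
    isCharacter_mul (isCharacter_of_isIrr (isIrrCharacter_lc _)) (isCharacter_character σ)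
  have hres : ∀ l, (fun k : K => f l k) = ρ.character := fun l => funext fun k => by
    simp [f, lc, (hker k).mpr k.2, hrest]
  have hfirr : ∀ l, IsIrrCharacter L (f l) := by
    intro l
    have hsum1 := classInner_indFun K ρ.character (f l) (isClassFunction_of_isCharacter (hfchar l))
    rw [hres, classInner_irr_self ⟨_, d, ρ, hρ, rfl⟩] at hsum1
    refine isIrr_of_isCharacter_norm_one (hfchar l) ?_
    choose m hm using fun l' => classInner_isCharacter (hfchar l') (hfchar l)
    rw [hsum, classInner_sum_left] at hsum1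
    simp only [hm] at hsum1
    have hnat : ∑ l', m l' = 1 := by exact_mod_cast hsum1
    have h0 : m l ≠ 0 := by
      intro e
      have hz := hm l
      rw [e, Nat.cast_zero] at hz
      have := congrFun (hres l) 1
      rw [OneMemClass.coe_one, classInner_self_eq_zero hz, Pi.zero_apply] at this
      exact irr_one_ne_zero ⟨_, d, ρ, hρ, rfl⟩ this.symm
    have := Finset.single_le_sum (f := m) (fun _ _ => Nat.zero_le _) (Finset.mem_univ l)
    rw [hm, show m l = 1 by omega, Nat.cast_one]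
  have hinj : Function.Injective f := by
    intro l l' e
    have hsum1 := classInner_indFun K ρ.character (f l) (isClassFunction_of_isCharacter (hfchar l))
    rw [hres, classInner_irr_self ⟨_, d, ρ, hρ, rfl⟩] at hsum1
    rw [hsum, classInner_sum_left] at hsum1
    by_contra hne
    choose m hm using fun l'' => classInner_isCharacter (hfchar l'') (hfchar l)
    simp only [hm] at hsum1
    have hnat : ∑ l'', m l'' = 1 := by exact_mod_cast hsum1
    have hpair : m l + m l' ≤ 1 := hnat ▸ (Finset.sum_pair hne).symm.le.trans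
      (Finset.sum_le_sum_of_subset (Finset.subset_univ _))
    have h1 : ∀ l'', f l'' = f l → m l'' = 1 := fun l'' e'' => by
      have hz := hm l''
      rw [e'', classInner_irr_self ⟨_, hfirr l⟩] at hz
      exact_mod_cast hz.symm
    rw [h1 l rfl, h1 l' e.symm] at hpair
    omega
  refine ⟨Finset.univ.image f, ?_, ?_, ?_⟩
  · rw [Finset.card_image_of_injective _ hinj, Finset.card_univ, hcardD]
  · intro μ hμ
    obtain ⟨l, -, rfl⟩ := Finset.mem_image.mp hμ
    exact hfirr l
  · rw [hsum, Finset.sum_image hinj.injOn]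

end TypePLike

end CfsgLib.Char
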