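import Cfsg.Agent.Lib.Char.TypePLike
import Cfsg.Agent.Lib.Char.Exceptional

/-!
# Exceptional characters of `K ⋊ W₁` attached to the linear characters of `W₁ × W₂`
-/

set_option autoImplicit false
set_option linter.unusedSectionVars false

namespace CfsgLib.Char

open scoped ComplexConjugate
open Representation Module Cfsg

universe u

variable {L : Type u} [Group L] [Fintype L] {K W₁ W₂ : Subgroup L}

namespace TypePLike

variable (h : TypePLike K W₁ W₂)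
include h

theorem snc : IsSelfNormalizingCyclic W₁ W₂ := h.selfNormalizing

theorem indFun_apply_outside {f : ↥(W₁ ⊔ W₂) → ℂ}
    (hf : ∀ w : ↥(W₁ ⊔ W₂), (w : L) ∈ W₂ → f w = 0) (v : ↥(W₁ ⊔ W₂))
    (hv : (v : L) ∉ W₂) : indFun (W₁ ⊔ W₂) f v = f v := by
  classical
  have hin : ∀ x : L, extendByZero (W₁ ⊔ W₂) f (x⁻¹ * v * x) =
      if x ∈ W₁ ⊔ W₂ then f v else 0 := by
    intro x
    split_ifs with hx
    · have hm := (W₁ ⊔ W₂).mul_mem ((W₁ ⊔ W₂).mul_mem ((W₁ ⊔ W₂).inv_mem hx) v.2) hx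
      rw [extendByZero_mem _ f hm,
        show (⟨_, hm⟩ : ↥(W₁ ⊔ W₂)) = (⟨x, hx⟩ : ↥(W₁ ⊔ W₂))⁻¹ * v * ⟨x, hx⟩ from rfl,
        mul_assoc, h.comm_sup v, inv_mul_cancel_left]
    · by_cases hm : x⁻¹ * (v : L) * x ∈ W₁ ⊔ W₂
      · rw [extendByZero_mem _ f hm]
        refine hf _ ?_
        by_contra hc
        refine hx ?_
        have := h.ti_outside (g := x⁻¹) v.2 hv (by rwa [inv_inv]) (by rwa [inv_inv])
        simpa using inv_mem this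
      · exact extendByZero_not_mem _ f hm
  rw [indFun, Finset.sum_congr rfl fun x _ => hin x, ← Finset.sum_filter, Finset.sum_const,
    nsmul_eq_mul, ← Fintype.card_subtype, ← Nat.card_eq_fintype_card, ← mul_assoc,
    inv_mul_cancel₀ (by exact_mod_cast Nat.card_pos.ne'), one_mul]

theorem classInner_ind_outside [Fintype ↥(W₁ ⊔ W₂)] {f f' : ↥(W₁ ⊔ W₂) → ℂ}
    (hf : ∀ w : ↥(W₁ ⊔ W₂), (w : L) ∈ W₂ → f w = 0)
    (hf' : ∀ w : ↥(W₁ ⊔ W₂), (w : L) ∈ W₂ → f' w = 0) :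
    classInner (indFun (W₁ ⊔ W₂) f) (indFun (W₁ ⊔ W₂) f') = classInner f f' := by
  rw [classInner_indFun _ _ _ (isClassFunction_indFun _ _)]
  simp only [classInner]
  congr 1
  refine Finset.sum_congr rfl fun w _ => ?_
  by_cases hw : (w : L) ∈ W₂
  · rw [hf w hw, zero_mul, zero_mul]
  · rw [h.indFun_apply_outside hf' w hw]

theorem diff_vanish {φ φ' ψ : ↥(W₁ ⊔ W₂) →* ℂˣ} (hφ : φ ∈ trivOn _ W₂) (hφ' : φ' ∈ trivOn _ W₂)
    (w : ↥(W₁ ⊔ W₂)) (hw : (w : L) ∈ W₂) : (lc (φ * ψ) - lc (φ' * ψ)) w = 0 := by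
  simp [lc, hφ w hw, hφ' w hw]

theorem vanish_of_perp_diff [Fintype ↥(W₁ ⊔ W₂)] (f : ↥(W₁ ⊔ W₂) → ℂ)
    (hperp : ∀ φ ∈ trivOn (W₁ ⊔ W₂) W₂, ∀ ψ ∈ trivOn (W₁ ⊔ W₂) W₁,
      classInner f (lc (φ * ψ) - lc (1 * ψ)) = 0)
    (v : ↥(W₁ ⊔ W₂)) (hv : (v : L) ∉ W₂) : f v = 0 := by
  classical
  have hW := h.snc
  have := finite_dual (K := ↥(W₁ ⊔ W₂))
  have := Fintype.ofFinite (↥(W₁ ⊔ W₂) →* ℂˣ)
  have := Fintype.ofFinite (IrrCharacter ↥(W₁ ⊔ W₂))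
  let e : (↥(W₁ ⊔ W₂) →* ℂˣ) ≃ IrrCharacter ↥(W₁ ⊔ W₂) :=
    linearCharEquiv.trans (Equiv.subtypeUnivEquiv (degree_one_of_comm h.comm_sup))
  have hexp : f v = ∑ ω : ↥(W₁ ⊔ W₂) →* ℂˣ, classInner f (lc ω) * (ω v : ℂ) := by
    rw [congrFun (classFun_expand (snc_isClassFunction hW f)) v, Finset.sum_apply]
    exact (Fintype.sum_equiv e _ _ fun ω => rfl).symm
  have hbij : Function.Bijective
      (fun p : trivOn (W₁ ⊔ W₂) W₂ × trivOn (W₁ ⊔ W₂) W₁ => (p.1 : ↥(W₁ ⊔ W₂) →* ℂˣ) * p.2) := by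
    refine ⟨fun p q e => ?_, fun ω => ?_⟩
    · obtain ⟨e1, e2⟩ := trivOn_mul_inj h.disj_factors h.commute_factors p.1.2 q.1.2 p.2.2 q.2.2 e
      exact Prod.ext (Subtype.ext e1) (Subtype.ext e2)
    · obtain ⟨φ, hφ, ψ, hψ, e⟩ := exists_trivOn_mul h.disj_factors h.commute_factors ω
      exact ⟨(⟨φ, hφ⟩, ⟨ψ, hψ⟩), e⟩
  rw [hexp, ← Fintype.sum_bijective _ hbij _ _ fun p => rfl, Fintype.sum_prod_type]
  have hs1 := sum_trivOn_snd h.disj_factors h.commute_factors (snc_mul_comm_fst hW) hv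
  have hterm : ∀ (φ : trivOn (W₁ ⊔ W₂) W₂) (ψ : trivOn (W₁ ⊔ W₂) W₁),
      classInner f (lc (↑φ * ↑ψ)) * (((φ : ↥(W₁ ⊔ W₂) →* ℂˣ) * ↑ψ) v : ℂ) =
        ((φ : ↥(W₁ ⊔ W₂) →* ℂˣ) v : ℂ) *
          (classInner f (lc (1 * (ψ : ↥(W₁ ⊔ W₂) →* ℂˣ))) * ((ψ : ↥(W₁ ⊔ W₂) →* ℂˣ) v : ℂ)) := by
    intro φ ψ
    have e := hperp _ φ.2 _ ψ.2
    rw [classInner_sub_right, sub_eq_zero] at e
    rw [e, MonoidHom.mul_apply, Units.val_mul]
    ring
  simp only [hterm, ← Finset.mul_sum, ← Finset.sum_mul, hs1, zero_mul]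

theorem exists_exceptional (hodd : Odd (Nat.card ↥(W₁ ⊔ W₂))) :
    ∃ (μ : (↥(W₁ ⊔ W₂) →* ℂˣ) → (L → ℂ)) (δ : (↥(W₁ ⊔ W₂) →* ℂˣ) → ℂ), Function.Injective μ ∧
      (∀ ω, IsIrrCharacter L (μ ω)) ∧ (∀ ω, δ ω = 1 ∨ δ ω = -1) ∧
      (∀ ω ω' : ↥(W₁ ⊔ W₂) →* ℂˣ, (∀ w : ↥(W₁ ⊔ W₂), (w : L) ∈ W₂ → ω w = ω' w) →
        δ ω = δ ω' ∧ indFun (W₁ ⊔ W₂) (fun w => (ω w : ℂ) - (ω' w : ℂ)) = δ ω • (μ ω - μ ω')) ∧
      (∀ ω, ∀ w : ↥(W₁ ⊔ W₂), (w : L) ∉ W₂ → μ ω w = δ ω * (ω w : ℂ)) ∧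
      (∀ θ : L → ℂ, IsIrrCharacter L θ → (∀ ω, θ ≠ μ ω) →
        ∀ w : ↥(W₁ ⊔ W₂), (w : L) ∉ W₂ → θ w = 0) ∧
      ∀ ω, ∃ n : ℤ, μ ω 1 - δ ω = n * (Nat.card W₁ : ℂ) := by
  classical
  have hW := h.snc
  let _ : Fintype ↥(W₁ ⊔ W₂) := Fintype.ofFinite _
  have := finite_dual (K := ↥(W₁ ⊔ W₂))
  let Φ := trivOn (W₁ ⊔ W₂) W₂
  let Ψ := trivOn (W₁ ⊔ W₂) W₁
  let _ : Fintype Φ := Fintype.ofFinite _
  let _ : Fintype Ψ := Fintype.ofFinite _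
  rw [snc_card hW, Nat.odd_mul] at hodd
  have cΦ : Fintype.card Φ = Nat.card W₁ := by
    rw [← Nat.card_eq_fintype_card,
      card_trivOn_snd h.disj_factors h.commute_factors (snc_mul_comm_fst hW)]
  have hm2 : 1 < Fintype.card Φ := by
    rw [cΦ]; exact (Subgroup.one_lt_card_iff_ne_bot W₁).mpr h.ne₁
  let e := Fintype.equivFin Φ
  let D : Φ → Φ → Ψ → ↥(W₁ ⊔ W₂) → ℂ := fun a b ψ =>
    lc ((a : ↥(W₁ ⊔ W₂) →* ℂˣ) * (ψ : ↥(W₁ ⊔ W₂) →* ℂˣ)) - lc ((b : ↥(W₁ ⊔ W₂) →* ℂˣ) * (ψ : ↥(W₁ ⊔ W₂) →* ℂˣ))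
  have hpair : ∀ (a : Φ) (ψ : Ψ) (c : Φ) (ψ' : Ψ),
      classInner (lc ((a : ↥(W₁ ⊔ W₂) →* ℂˣ) * (ψ : ↥(W₁ ⊔ W₂) →* ℂˣ))) (lc ((c : ↥(W₁ ⊔ W₂) →* ℂˣ) * (ψ' : ↥(W₁ ⊔ W₂) →* ℂˣ))) =
        if a = c ∧ ψ = ψ' then 1 else 0 := by
    intro a ψ c ψ'
    rw [classInner_lc]
    refine if_congr ⟨fun q => ?_, fun q => by rw [q.1, q.2]⟩ rfl rfl
    obtain ⟨q1, q2⟩ := trivOn_mul_inj h.disj_factors h.commute_factors a.2 c.2 ψ.2 ψ'.2 q
    exact ⟨Subtype.ext q1, Subtype.ext q2⟩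
  have hgram : ∀ a b ψ c d ψ', classInner (indFun (W₁ ⊔ W₂) (D a b ψ))
      (indFun (W₁ ⊔ W₂) (D c d ψ')) =
        (if a = c ∧ ψ = ψ' then 1 else 0) - (if a = d ∧ ψ = ψ' then 1 else 0) -
          ((if b = c ∧ ψ = ψ' then 1 else 0) - (if b = d ∧ ψ = ψ' then 1 else 0)) := by
    intro a b ψ c d ψ'
    rw [h.classInner_ind_outside (h.diff_vanish a.2 b.2) (h.diff_vanish c.2 d.2)]
    simp only [D, classInner_sub_left, classInner_sub_right, hpair]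
    ring
  have hex : ∀ ψ : Ψ, ∃ ε : ℂ, (ε = 1 ∨ ε = -1) ∧ ∃ M : Φ → (L → ℂ),
      (∀ a, IsIrrCharacter L (M a)) ∧ Function.Injective M ∧
      ∀ a b, indFun (W₁ ⊔ W₂) (D a b ψ) = ε • (M a - M b) := by
    intro ψ
    have hgen : ∀ a b, IsGeneralizedCharacter ↥(W₁ ⊔ W₂) (D a b ψ) := fun a b =>
      ⟨_, _, isCharacter_of_isIrr (isIrrCharacter_lc _), isCharacter_of_isIrr (isIrrCharacter_lc _), rfl⟩
    obtain ⟨ε, hε, M, hM, hMi, hMe⟩ := exceptional_of_isometry (e 1)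
      (fun i => indFun (W₁ ⊔ W₂) (D (e.symm i) 1 ψ)) (by simp [D, indFun_zero])
      (fun i => isGeneralizedCharacter_indFun _ (hgen _ _))
      (fun i => by simp [indFun_one, D, lc]) fun i j hi hj => by
        have hi' : e.symm i ≠ 1 := fun q => hi (by rw [← q, Equiv.apply_symm_apply])
        have hj' : (1 : Φ) ≠ e.symm j := fun q => hj (by rw [q, Equiv.apply_symm_apply])
        rw [hgram]
        simp only [and_true, if_neg hi', if_neg hj', e.symm.injective.eq_iff, eq_self, if_true]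
        split_ifs <;> norm_num
    refine ⟨ε, hε, fun a => M (e a), fun a => hM _, hMi.comp e.injective, fun a b => ?_⟩
    have ea := hMe (e a)
    have eb := hMe (e b)
    simp only [Equiv.symm_apply_apply] at ea eb
    rw [show D a b ψ = D a 1 ψ - D b 1 ψ by simp only [D]; abel, indFun_sub, ea, eb, ← smul_sub,
      sub_sub_sub_cancel_right]
  choose ε hε M hM hMi hMD using hex
  have hεε : ∀ ψ, ε ψ * ε ψ = 1 := fun ψ => by rcases hε ψ with q | q <;> simp [q]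
  have hεc : ∀ ψ, conj (ε ψ) = ε ψ := fun ψ => by rcases hε ψ with q | q <;> simp [q]
  have hinner : ∀ ψ a ψ' c, classInner (M ψ a) (M ψ' c) = if M ψ a = M ψ' c then 1 else 0 := by
    intro ψ a ψ' c
    have := classInner_irr (⟨_, hM ψ a⟩ : IrrCharacter L) ⟨_, hM ψ' c⟩
    simpa only [Subtype.mk.injEq] using this
  have hMinj : ∀ ψ a ψ' c, M ψ a = M ψ' c → a = c ∧ ψ = ψ' := by
    intro ψ a ψ' c q
    rcases eq_or_ne ψ ψ' with rfl | hne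
    · exact ⟨hMi ψ q, rfl⟩
    exfalso
    obtain ⟨b, hb⟩ := Fintype.exists_ne_of_one_lt_card hm2 a
    obtain ⟨d, hd⟩ := Fintype.exists_ne_of_one_lt_card hm2 c
    have g := hgram a b ψ c d ψ'
    rw [hMD, hMD, classInner_smul_left, classInner_smul_right, classInner_sub_left,
      classInner_sub_right, classInner_sub_right] at g
    simp only [hne, and_false, if_false, sub_zero] at g
    have n1 : M ψ a ≠ M ψ' d := fun q' => hd (hMi ψ' (q.symm.trans q')).symm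
    have n2 : M ψ b ≠ M ψ' c := fun q' => hb (hMi ψ (q'.trans q.symm))
    rw [hinner, hinner, hinner, hinner, if_pos q, if_neg n1, if_neg n2] at g
    rcases hε ψ with q1 | q1 <;> rcases hε ψ' with q2 | q2 <;> rw [q1, q2] at g <;>
      split_ifs at g <;> norm_num at g
  have hbij : Function.Bijective (fun p : Φ × Ψ => (p.1 : ↥(W₁ ⊔ W₂) →* ℂˣ) * p.2) := by
    refine ⟨fun p q e => ?_, fun ω => ?_⟩
    · obtain ⟨e1, e2⟩ := trivOn_mul_inj h.disj_factors h.commute_factors p.1.2 q.1.2 p.2.2 q.2.2 e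
      exact Prod.ext (Subtype.ext e1) (Subtype.ext e2)
    · obtain ⟨φ, hφ, ψ, hψ, e⟩ := exists_trivOn_mul h.disj_factors h.commute_factors ω
      exact ⟨(⟨φ, hφ⟩, ⟨ψ, hψ⟩), e⟩
  let P := Equiv.ofBijective _ hbij
  have hP : ∀ p : Φ × Ψ, P p = (p.1 : ↥(W₁ ⊔ W₂) →* ℂˣ) * p.2 := fun p => rfl
  let μ : (↥(W₁ ⊔ W₂) →* ℂˣ) → (L → ℂ) := fun ω => M (P.symm ω).2 (P.symm ω).1
  let δ : (↥(W₁ ⊔ W₂) →* ℂˣ) → ℂ := fun ω => ε (P.symm ω).2
  have hval : ∀ p : Φ × Ψ, ∀ w : ↥(W₁ ⊔ W₂), (w : L) ∉ W₂ →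
      M p.2 p.1 w = ε p.2 * ((P p) w : ℂ) := by
    intro p w hw
    have hz := h.vanish_of_perp_diff
      ((fun w : ↥(W₁ ⊔ W₂) => ε p.2 * M p.2 p.1 w) - lc (P p)) ?_ w hw
    · simp only [Pi.sub_apply, lc_apply, sub_eq_zero] at hz
      rw [← hz, ← mul_assoc, hεε, one_mul]
    intro φ hφ ψ hψ
    have e1 : lc (φ * ψ) - lc (1 * ψ) = D ⟨φ, hφ⟩ 1 ⟨ψ, hψ⟩ := rfl
    have e2 : (fun w : ↥(W₁ ⊔ W₂) => ε p.2 * M p.2 p.1 w) =
        ε p.2 • fun w : ↥(W₁ ⊔ W₂) => M p.2 p.1 w := rfl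
    rw [e1, classInner_sub_left, e2, classInner_smul_left,
      ← classInner_indFun_right (W₁ ⊔ W₂) _ _
        (isClassFunction_of_isCharacter (isCharacter_of_isIrr (hM _ _))),
      hMD, classInner_smul_right, classInner_sub_right, hinner, hinner]
    simp only [D, classInner_sub_right, hP]
    erw [hpair p.1 p.2 ⟨φ, hφ⟩ ⟨ψ, hψ⟩, hpair p.1 p.2 1 ⟨ψ, hψ⟩]
    have hiff : ∀ a b, M p.2 p.1 = M b a ↔ p.1 = a ∧ p.2 = b := fun a b =>
      ⟨fun q => hMinj _ _ _ _ q, fun q => by rw [q.1, q.2]⟩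
    simp only [hiff, hεc]
    by_cases q : p.2 = ⟨ψ, hψ⟩
    · simp only [q, and_true]
      rw [← mul_assoc, hεε, one_mul, sub_self]
    · simp [q]
  refine ⟨μ, δ, fun ω ω' q => ?_, fun ω => hM _ _, fun ω => hε _, ?_, ?_, ?_, ?_⟩
  · obtain ⟨q1, q2⟩ := hMinj _ _ _ _ q
    exact P.symm.injective (Prod.ext q1 q2)
  · intro ω ω' hag
    obtain ⟨⟨a, ψ⟩, rfl⟩ := P.surjective ω
    obtain ⟨⟨b, ψ'⟩, rfl⟩ := P.surjective ω'
    have hψψ : ψ = ψ' := by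
      refine Subtype.ext (MonoidHom.ext fun w => ?_)
      obtain ⟨x, y, hx, hy, rfl⟩ := exists_decomp h.disj_factors h.commute_factors w
      have := hag y hy
      rw [hP, hP, MonoidHom.mul_apply, MonoidHom.mul_apply, a.2 y hy, b.2 y hy, one_mul, one_mul] at this
      rw [map_mul, map_mul, ψ.2 x hx, ψ'.2 x hx, this]
    subst hψψ
    simp only [μ, δ, Equiv.symm_apply_apply]
    exact ⟨trivial, hMD ψ a b⟩
  · intro ω w hw
    have := hval (P.symm ω) w hw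
    rwa [Equiv.apply_symm_apply] at this
  · intro θ hθ hne w hw
    refine h.vanish_of_perp_diff (fun w : ↥(W₁ ⊔ W₂) => θ w) ?_ w hw
    intro φ hφ ψ hψ
    rw [show lc (φ * ψ) - lc (1 * ψ) = D ⟨φ, hφ⟩ 1 ⟨ψ, hψ⟩ from rfl,
      ← classInner_indFun_right (W₁ ⊔ W₂) _ _
        (isClassFunction_of_isCharacter (isCharacter_of_isIrr hθ)),
      hMD, classInner_smul_right, classInner_sub_right]
    have hz : ∀ a b, classInner θ (M b a) = 0 := fun a b => by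
      refine classInner_irr_ne (χ := ⟨θ, hθ⟩) (ψ := ⟨_, hM b a⟩) fun q => ?_
      have q' : θ = M b a := congrArg Subtype.val q
      refine hne (P (a, b)) ?_
      simpa [μ] using q'
    rw [hz, hz, sub_self, mul_zero]
  · intro ω
    let _ : Fintype W₁ := Fintype.ofFinite _
    let ι : W₁ →* ↥(W₁ ⊔ W₂) := Subgroup.inclusion le_sup_left
    obtain ⟨z, hz⟩ := classInner_generalized_int
      (isGeneralizedCharacter_of_isCharacter (isCharacter_comp (isCharacter_of_isIrr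
        (hM (P.symm ω).2 (P.symm ω).1)) W₁.subtype))
      (isGeneralizedCharacter_of_isCharacter (isCharacter_of_isIrr (isIrrCharacter_lc (ω.comp ι))))
    refine ⟨z - (if δ ω = 1 then 1 else -1), ?_⟩
    have hδ : (((if δ ω = 1 then 1 else -1 : ℤ)) : ℂ) = δ ω := by
      rcases hε (P.symm ω).2 with q | q <;> simp only [δ, q] <;> norm_num
    rw [Int.cast_sub, hδ, ← hz]
    have hsum : ∑ c : W₁, μ ω c * conj (lc (ω.comp ι) c) =
        μ ω 1 + ((Nat.card W₁ : ℂ) - 1) * δ ω := by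
      rw [← Finset.add_sum_erase _ _ (Finset.mem_univ 1)]
      congr 1
      · simp [lc]
      · rw [Finset.sum_congr rfl (g := fun _ => δ ω) fun c hc => ?_, Finset.sum_const,
          Finset.card_erase_of_mem (Finset.mem_univ 1), Finset.card_univ, nsmul_eq_mul,
          ← Nat.card_eq_fintype_card, Nat.cast_sub Nat.card_pos, Nat.cast_one]
        have hcW : ((ι c : ↥(W₁ ⊔ W₂)) : L) ∉ W₂ := fun q => by
          have : (c : L) ∈ W₁ ⊓ W₂ := ⟨c.2, q⟩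
          rw [h.disj_factors, Subgroup.mem_bot] at this
          exact (Finset.mem_erase.mp hc).1 (Subtype.ext this)
        have := hval (P.symm ω) (ι c) hcW
        rw [Equiv.apply_symm_apply] at this
        show μ ω ((ι c : ↥(W₁ ⊔ W₂)) : L) * conj ((ω (ι c) : ℂ)) = δ ω
        simp only [μ, δ]
        rw [this, mul_assoc]
        have hn : ((ω (ι c) : ℂˣ) : ℂ) * conj ((ω (ι c) : ℂˣ) : ℂ) = 1 := by
          have hp : ((ω (ι c) : ℂˣ) : ℂ) ^ Nat.card ↥(W₁ ⊔ W₂) = 1 := by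
            rw [← Units.val_pow_eq_pow_val, ← map_pow, pow_card_eq_one', map_one, Units.val_one]
          rw [conj_eq_inv_of_pow_eq_one Nat.card_pos.ne' hp, mul_inv_cancel₀ (Units.ne_zero _)]
        rw [hn, mul_one]
    have e : classInner (fun c : W₁ => M (P.symm ω).2 (P.symm ω).1 c) (lc (ω.comp ι)) =
        (Nat.card W₁ : ℂ)⁻¹ * (μ ω 1 + ((Nat.card W₁ : ℂ) - 1) * δ ω) := by
      rw [← hsum]; rfl
    change _ = (classInner (fun c : W₁ => M (P.symm ω).2 (P.symm ω).1 c) (lc (ω.comp ι)) - δ ω) *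
      (Nat.card W₁ : ℂ)
    rw [e]
    field_simp [show (Nat.card W₁ : ℂ) ≠ 0 from by exact_mod_cast Nat.card_pos.ne']
    ring

end TypePLike

end CfsgLib.Char
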