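import Cfsg.Agent.Lib.Char.Product
import Cfsg.Agent.Lib.Char.Linear
import Cfsg.Agent.Lib.Char.Integrality
import Cfsg.Agent.Lib.Char.ExtendChar
import Mathlib.GroupTheory.GroupAction.Quotient
import Mathlib.Algebra.Order.Chebyshev

/-!
# A uniformly centralized Sylow subgroup: multiplicities in a character

`P` is abelian, every nontrivial element has centralizer `P × V`. For an irreducible character the
multiplicity characters of `P` in it satisfy a strict quadratic bound (the special classes cover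
less than the whole norm), and they are permuted freely by the normalizer.
-/

set_option autoImplicit false
set_option linter.unusedSectionVars false

namespace CfsgLib.Char.UniformCent

open scoped ComplexConjugate
open Cfsg CfsgLib.Char

universe u

variable {G : Type u} [Group G]

/-- The centralizer of every nontrivial element of `P` is `P × V`. -/
structure Uniform (P V : Subgroup G) : Prop where
  comm : ∀ a ∈ P, ∀ b ∈ P, a * b = b * a
  cent : ∀ x ∈ P, x ≠ 1 → Subgroup.centralizer ({x} : Set G) = Subgroup.centralizer (P : Set G)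
  vc : ∀ v ∈ V, ∀ u ∈ P, u * v = v * u
  surj : ∀ c ∈ Subgroup.centralizer (P : Set G), ∃ u ∈ P, ∃ v ∈ V, c = u * v
  cop : (Nat.card P).Coprime (Nat.card V)

variable {P V : Subgroup G}

theorem mem_cent_iff {x c : G} : c ∈ Subgroup.centralizer ({x} : Set G) ↔ c * x = x * c :=
  Subgroup.mem_centralizer_singleton_iff

namespace Uniform

theorem mul_mem_cent (h : Uniform P V) {u v : G} (hu : u ∈ P) (hv : v ∈ V) :
    u * v ∈ Subgroup.centralizer (P : Set G) := by
  rw [Subgroup.mem_centralizer_iff]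
  intro w hw
  rw [← mul_assoc, h.comm w hw u hu, mul_assoc, h.vc v hv w hw, mul_assoc]

theorem unique (h : Uniform P V) {u u' v v' : G} (hu : u ∈ P) (hu' : u' ∈ P) (hv : v ∈ V) (hv' : v' ∈ V)
    (e : u * v = u' * v') : u = u' ∧ v = v' := by
  have h1 : u'⁻¹ * u = v' * v⁻¹ := by
    rw [inv_mul_eq_iff_eq_mul, ← mul_assoc, ← e, mul_inv_cancel_right]
  have hP : u'⁻¹ * u ∈ P := P.mul_mem (P.inv_mem hu') hu
  have hV : u'⁻¹ * u ∈ V := h1 ▸ V.mul_mem hv' (V.inv_mem hv)
  have h2 : u'⁻¹ * u = 1 := orderOf_eq_one_iff.mp (Nat.eq_one_of_dvd_coprimes h.cop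
    (Subgroup.orderOf_dvd_natCard _ hP) (Subgroup.orderOf_dvd_natCard _ hV))
  have h3 : u = u' := (inv_mul_eq_one.mp h2).symm
  exact ⟨h3, mul_left_cancel (h3 ▸ e)⟩

/-- An element of the centralizer killed by `|P|` lies in `P`. -/
theorem mem_of_pow (h : Uniform P V) {c : G} (hc : c ∈ Subgroup.centralizer (P : Set G))
    (hp : c ^ Nat.card P = 1) : c ∈ P := by
  obtain ⟨u, hu, v, hv, rfl⟩ := h.surj c hc
  rw [(show Commute u v from h.vc v hv u hu).mul_pow, show u ^ Nat.card P = 1 from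
    orderOf_dvd_iff_pow_eq_one.mp (Subgroup.orderOf_dvd_natCard _ hu), one_mul] at hp
  have : v = 1 := orderOf_eq_one_iff.mp (Nat.eq_one_of_dvd_coprimes h.cop
    (orderOf_dvd_of_pow_eq_one hp) (Subgroup.orderOf_dvd_natCard _ hv))
  simpa [this] using hu

/-- An element of the centralizer killed by `|V|` lies in `V`. -/
theorem mem_of_pow' (h : Uniform P V) {c : G} (hc : c ∈ Subgroup.centralizer (P : Set G))
    (hp : c ^ Nat.card V = 1) : c ∈ V := by
  obtain ⟨u, hu, v, hv, rfl⟩ := h.surj c hc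
  rw [(show Commute u v from h.vc v hv u hu).mul_pow, show v ^ Nat.card V = 1 from
    orderOf_dvd_iff_pow_eq_one.mp (Subgroup.orderOf_dvd_natCard _ hv), mul_one] at hp
  have : u = 1 := orderOf_eq_one_iff.mp (Nat.eq_one_of_dvd_coprimes h.cop
    (Subgroup.orderOf_dvd_natCard _ hu) (orderOf_dvd_of_pow_eq_one hp))
  simpa [this] using hv

theorem conj_cent {g : G} (hg : g ∈ Subgroup.normalizer (P : Set G)) {c : G}
    (hc : c ∈ Subgroup.centralizer (P : Set G)) : g * c * g⁻¹ ∈ Subgroup.centralizer (P : Set G) := by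
  rw [Subgroup.mem_centralizer_iff] at hc ⊢
  intro w hw
  have hw' : g⁻¹ * w * g ∈ P := by simpa using (Subgroup.mem_normalizer_iff.mp (inv_mem hg) w).mp hw
  calc w * (g * c * g⁻¹) = g * (g⁻¹ * w * g * c) * g⁻¹ := by group
    _ = g * (c * (g⁻¹ * w * g)) * g⁻¹ := by rw [hc _ hw']
    _ = g * c * g⁻¹ * w := by group

theorem conj_V (h : Uniform P V) {g v : G} (hg : g ∈ Subgroup.normalizer (P : Set G)) (hv : v ∈ V) :
    g * v * g⁻¹ ∈ V :=
  h.mem_of_pow' (conj_cent hg (by simpa using h.mul_mem_cent (P.one_mem) hv)) (by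
    rw [conj_pow, show v ^ Nat.card V = 1 from
      orderOf_dvd_iff_pow_eq_one.mp (Subgroup.orderOf_dvd_natCard _ hv)]; simp)

theorem mem_normalizer_of_conj [Finite G] (h : Uniform P V) {g u : G} (hu : u ∈ P) (hu1 : u ≠ 1)
    (hgu : g * u * g⁻¹ ∈ P) : g ∈ Subgroup.normalizer (P : Set G) := by
  have hu' : g * u * g⁻¹ ≠ 1 := fun e => hu1 (conj_eq_one_iff.mp e)
  have hmap : ∀ w ∈ P, g * w * g⁻¹ ∈ P := by
    intro w hw
    refine h.mem_of_pow ?_ ?_
    · rw [← h.cent _ hgu hu', mem_cent_iff]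
      calc g * w * g⁻¹ * (g * u * g⁻¹) = g * (w * u) * g⁻¹ := by group
        _ = g * (u * w) * g⁻¹ := by rw [h.comm w hw u hu]
        _ = g * u * g⁻¹ * (g * w * g⁻¹) := by group
    · rw [conj_pow, show w ^ Nat.card P = 1 from
        orderOf_dvd_iff_pow_eq_one.mp (Subgroup.orderOf_dvd_natCard _ hw)]; simp
  have he : P.map (MulAut.conj g).toMonoidHom = P :=
    Subgroup.eq_of_le_of_card_ge (by rintro _ ⟨w, hw, rfl⟩; exact hmap w hw)
      (by rw [Nat.card_congr (P.equivMapOfInjective (MulAut.conj g).toMonoidHom (MulAut.conj g).injective).toEquiv])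
  rw [Subgroup.mem_normalizer_iff]
  intro w
  refine ⟨hmap w, fun hw => ?_⟩
  have hw' : g * w * g⁻¹ ∈ P.map (MulAut.conj g).toMonoidHom := he.symm ▸ hw
  obtain ⟨z, hz, e⟩ := hw'
  have e' : g * z * g⁻¹ = g * w * g⁻¹ := e
  rw [mul_right_cancel_iff, mul_right_inj] at e'
  exact e' ▸ hz

/-- The classes `u v`, `u ≠ 1`, fuse only under the normalizer. -/
theorem conj_eq [Finite G] (h : Uniform P V) {g u u' v v' : G} (hu : u ∈ P) (hu' : u' ∈ P) (hv : v ∈ V)
    (hv' : v' ∈ V) (hu1 : u ≠ 1) (e : g * (u * v) * g⁻¹ = u' * v') :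
    g ∈ Subgroup.normalizer (P : Set G) ∧ g * u * g⁻¹ = u' ∧ g * v * g⁻¹ = v' := by
  obtain ⟨m, hm1, hm0⟩ := Nat.chineseRemainder h.cop 1 0
  have hpu : ∀ w ∈ P, w ^ m = w := fun w hw => by
    conv_rhs => rw [← pow_one w]
    exact pow_eq_pow_iff_modEq.mpr (hm1.of_dvd (Subgroup.orderOf_dvd_natCard _ hw))
  have hpv : ∀ w ∈ V, w ^ m = 1 := fun w hw => orderOf_dvd_iff_pow_eq_one.mp
    ((Subgroup.orderOf_dvd_natCard _ hw).trans (Nat.modEq_zero_iff_dvd.mp hm0))
  have e1 := congrArg (· ^ m) e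
  simp only [conj_pow, (show Commute u v from h.vc v hv u hu).mul_pow,
    (show Commute u' v' from h.vc v' hv' u' hu').mul_pow, hpu u hu, hpu u' hu', hpv v hv, hpv v' hv',
    mul_one] at e1
  refine ⟨h.mem_normalizer_of_conj hu hu1 (e1 ▸ hu'), e1, mul_left_cancel (a := u') ?_⟩
  rw [← e, ← e1]
  group

theorem cent_le_normalizer : Subgroup.centralizer (P : Set G) ≤ Subgroup.normalizer (P : Set G) := by
  intro c hc
  rw [Subgroup.mem_centralizer_iff] at hc
  rw [Subgroup.mem_normalizer_iff]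
  intro w
  refine ⟨fun hw => by rw [← hc w hw, mul_inv_cancel_right]; exact hw, fun hw => ?_⟩
  have h2 : c * w * c⁻¹ = w := by
    have h3 := hc _ hw
    rw [inv_mul_cancel_right] at h3
    exact (mul_left_cancel (a := c) h3).symm
  rwa [h2] at hw

end Uniform

variable [Fintype G] [Fintype P] [Fintype V]

theorem card_cent (h : Uniform P V) :
    Nat.card (Subgroup.centralizer (P : Set G)) = Nat.card P * Nat.card V := by
  rw [← Nat.card_prod]
  refine (Nat.card_congr (Equiv.ofBijective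
    (fun a : P × V => (⟨a.1 * a.2, h.mul_mem_cent a.1.2 a.2.2⟩ : Subgroup.centralizer (P : Set G)))
    ⟨fun a b e => ?_, fun c => ?_⟩)).symm
  · obtain ⟨e1, e2⟩ := h.unique a.1.2 b.1.2 a.2.2 b.2.2 (congrArg Subtype.val e)
    exact Prod.ext (Subtype.ext e1) (Subtype.ext e2)
  · obtain ⟨u, hu, v, hv, e⟩ := h.surj c c.2
    exact ⟨(⟨u, hu⟩, ⟨v, hv⟩), Subtype.ext e.symm⟩

/-- The union of the conjugates of the special classes. -/
noncomputable def specialSet (P V : Subgroup G) : Finset G := by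
  classical
  exact Finset.univ.filter fun z => ∃ g u v, u ∈ P ∧ u ≠ 1 ∧ v ∈ V ∧ g * (u * v) * g⁻¹ = z

open scoped Classical in
/-- The sum of a class function over the special classes. -/
theorem card_mul_sum_special (h : Uniform P V) {f : G → ℂ} (hf : IsClassFunction G f) :
    (Nat.card (Subgroup.normalizer (P : Set G)) : ℂ) * ∑ z ∈ specialSet P V, f z =
      (Nat.card G : ℂ) * ∑ a ∈ (Finset.univ : Finset (P × V)).filter (fun a => a.1 ≠ 1),
        f ((a.1 : G) * a.2) := by
  set T := (Finset.univ : Finset (P × V)).filter (fun a => a.1 ≠ 1) with hT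
  set N := Subgroup.normalizer (P : Set G)
  let π : G × (P × V) → G := fun a => a.1 * ((a.2.1 : G) * a.2.2) * a.1⁻¹
  have hmem : ∀ a ∈ (Finset.univ : Finset G) ×ˢ T, π a ∈ specialSet P V := by
    rintro ⟨g, u, v⟩ ha
    have hu : u ≠ 1 := (Finset.mem_filter.mp (Finset.mem_product.mp ha).2).2
    simp only [specialSet, Finset.mem_filter, Finset.mem_univ, true_and]
    exact ⟨g, u, v, u.2, fun e => hu (Subtype.ext e), v.2, rfl⟩
  have hfib : ∀ z ∈ specialSet P V,
      (((Finset.univ : Finset G) ×ˢ T).filter fun a => π a = z).card = Nat.card N := by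
    intro z hz
    simp only [specialSet, Finset.mem_filter, Finset.mem_univ, true_and] at hz
    obtain ⟨g₀, u₀, v₀, hu₀, hu1, hv₀, rfl⟩ := hz
    rw [Nat.card_eq_fintype_card, ← Finset.card_univ]
    have key : ∀ a ∈ ((Finset.univ : Finset G) ×ˢ T).filter
        (fun a => π a = g₀ * (u₀ * v₀) * g₀⁻¹),
        g₀⁻¹ * a.1 ∈ N ∧ g₀⁻¹ * a.1 * a.2.1 * (g₀⁻¹ * a.1)⁻¹ = u₀ ∧
          g₀⁻¹ * a.1 * a.2.2 * (g₀⁻¹ * a.1)⁻¹ = v₀ := by
      rintro ⟨g, u, v⟩ ha
      obtain ⟨ha, e⟩ := Finset.mem_filter.mp ha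
      have hu : u ≠ 1 := (Finset.mem_filter.mp (Finset.mem_product.mp ha).2).2
      refine h.conj_eq u.2 hu₀ v.2 hv₀ (fun e => hu (Subtype.ext e)) ?_
      have e' : g * ((u : G) * v) * g⁻¹ = g₀ * (u₀ * v₀) * g₀⁻¹ := e
      calc g₀⁻¹ * g * ((u : G) * v) * (g₀⁻¹ * g)⁻¹ = g₀⁻¹ * (g * ((u : G) * v) * g⁻¹) * g₀ := by group
        _ = u₀ * v₀ := by rw [e']; group
    refine Finset.card_bij' (fun a ha => (⟨g₀⁻¹ * a.1, (key a ha).1⟩ : N))
      (fun n _ => (g₀ * n, (⟨(n : G)⁻¹ * u₀ * n, by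
          simpa using (Subgroup.mem_normalizer_iff.mp (inv_mem n.2) u₀).mp hu₀⟩,
        ⟨(n : G)⁻¹ * v₀ * n, by simpa using h.conj_V (inv_mem n.2) hv₀⟩)))
      (fun _ _ => Finset.mem_univ _) ?_ ?_ ?_
    · intro n _
      refine Finset.mem_filter.mpr ⟨Finset.mem_product.mpr ⟨Finset.mem_univ _,
        Finset.mem_filter.mpr ⟨Finset.mem_univ _, fun e => ?_⟩⟩, ?_⟩
      · have e' : (n : G)⁻¹ * u₀ * n = 1 := congrArg Subtype.val e
        exact hu1 ((conj_eq_one_iff (a := (n : G)⁻¹)).mp (by simpa using e'))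
      · show g₀ * n * ((n : G)⁻¹ * u₀ * n * ((n : G)⁻¹ * v₀ * n)) * (g₀ * n)⁻¹ = _
        group
    · rintro ⟨g, u, v⟩ ha
      obtain ⟨-, e1, e2⟩ := key _ ha
      refine Prod.ext (mul_inv_cancel_left g₀ g) (Prod.ext (Subtype.ext ?_) (Subtype.ext ?_))
      · show (g₀⁻¹ * g)⁻¹ * u₀ * (g₀⁻¹ * g) = u
        rw [← e1]; group
      · show (g₀⁻¹ * g)⁻¹ * v₀ * (g₀⁻¹ * g) = v
        rw [← e2]; group
    · intro n _
      exact Subtype.ext (inv_mul_cancel_left g₀ n)
  have h1 : ∑ a ∈ (Finset.univ : Finset G) ×ˢ T, f (π a) =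
      (Nat.card N : ℂ) * ∑ z ∈ specialSet P V, f z := by
    rw [← Finset.sum_fiberwise_of_maps_to hmem, Finset.mul_sum]
    refine Finset.sum_congr rfl fun z hz => ?_
    rw [Finset.sum_congr rfl (g := fun _ => f z) fun a ha => congrArg f (Finset.mem_filter.mp ha).2,
      Finset.sum_const, hfib z hz, nsmul_eq_mul]
  rw [← h1, Finset.sum_product, Finset.sum_congr rfl (g := fun _ => ∑ a ∈ T, f ((a.1 : G) * a.2))
    fun g _ => Finset.sum_congr rfl fun a _ => hf _ g, Finset.sum_const, Finset.card_univ, nsmul_eq_mul,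
    Nat.card_eq_fintype_card]

theorem one_notMem_special (h : Uniform P V) : (1 : G) ∉ specialSet P V := by
  intro hm
  simp only [specialSet, Finset.mem_filter, Finset.mem_univ, true_and] at hm
  obtain ⟨g, u, v, hu, hu1, hv, e⟩ := hm
  exact hu1 (h.unique hu P.one_mem hv V.one_mem (by simpa using conj_eq_one_iff.mp e)).1

/-! ### Multiplicity characters -/

/-- The multiplicity of the character `l` of `P` along `v`. -/
noncomputable def th (χ : G → ℂ) (l : IrrCharacter P) (v : G) : ℂ :=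
  classInner (fun u : P => χ ((u : G) * v)) (l : P → ℂ)

theorem irr_mul_P (h : Uniform P V) (l : IrrCharacter P) (a b : P) :
    (l : P → ℂ) (a * b) = (l : P → ℂ) a * (l : P → ℂ) b := by
  obtain ⟨f, hf⟩ := exists_hom_of_linear (isCharacter_irr l)
    (degree_one_of_comm (fun x y : P => Subtype.ext (h.comm x x.2 y y.2)) l)
  rw [hf]
  simp

theorem norm_irr_P (h : Uniform P V) (l : IrrCharacter P) (a : P) : ‖(l : P → ℂ) a‖ = 1 := by
  obtain ⟨f, hf⟩ := exists_hom_of_linear (isCharacter_irr l)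
    (degree_one_of_comm (fun x y : P => Subtype.ext (h.comm x x.2 y y.2)) l)
  rw [hf]
  exact norm_eq_one_of_pow_eq_one' (Nat.card_pos (α := P)).ne' (by
    rw [← Units.val_pow_eq_pow_val, ← map_pow, pow_card_eq_one', map_one, Units.val_one])

theorem classFun_P (h : Uniform P V) (f : P → ℂ) : IsClassFunction P f := fun a b => by
  rw [show b * a * b⁻¹ = a from Subtype.ext (by
    show (b : G) * a * (b : G)⁻¹ = a
    rw [h.comm b b.2 a a.2, mul_inv_cancel_right])]

/-- The inclusion of `P × V`. -/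
def emb (h : Uniform P V) : P × V →* G where
  toFun a := (a.1 : G) * a.2
  map_one' := by simp
  map_mul' a b := by
    show (a.1 : G) * b.1 * ((a.2 : G) * b.2) = (a.1 : G) * a.2 * ((b.1 : G) * b.2)
    rw [mul_assoc, mul_assoc, ← mul_assoc (b.1 : G), h.vc _ a.2.2 _ b.1.2, mul_assoc]

theorem th_isCharacter (h : Uniform P V) {χ : G → ℂ} (hχ : IsCharacter G χ) (l : IrrCharacter P) :
    IsCharacter V (fun v : V => th χ l v) := by
  classical
  have := Fintype.ofFinite (IrrCharacter V)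
  have hcf : IsClassFunction V (fun v : V => th χ l v) := fun a b => by
    simp only [th, classInner]
    congr 1
    refine Finset.sum_congr rfl fun u _ => ?_
    congr 1
    rw [show (u : G) * ((b * a * b⁻¹ : V) : G) = (b : G) * ((u : G) * a) * (b : G)⁻¹ by
      show (u : G) * ((b : G) * a * (b : G)⁻¹) = _
      rw [← mul_assoc, ← mul_assoc, h.vc _ b.2 _ u.2]
      group]
    exact isClassFunction_of_isCharacter hχ _ _
  have hcoef : ∀ φ : IrrCharacter V, ∃ k : ℕ, classInner (fun v : V => th χ l v) (φ : V → ℂ) = k := by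
    intro φ
    obtain ⟨k, hk⟩ := classInner_char_irr_nat (isCharacter_comp hχ (emb h)) ⟨_, isIrrCharacter_prod l φ⟩
    refine ⟨k, hk ▸ ?_⟩
    simp only [classInner, th, Nat.card_prod, Nat.cast_mul, mul_inv, Fintype.sum_prod_type, map_mul,
      Finset.sum_mul, Finset.mul_sum, emb, MonoidHom.coe_mk, OneHom.coe_mk, Function.comp]
    rw [Finset.sum_comm]
    exact Finset.sum_congr rfl fun _ _ => Finset.sum_congr rfl fun _ _ => by ring
  choose k hk using hcoef
  rw [classFun_expand hcf]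
  refine isCharacter_sum _ _ fun φ _ => ?_
  rw [hk, Nat.cast_smul_eq_nsmul]
  exact isCharacter_natSmul (isCharacter_irr φ) _

theorem th_expand (h : Uniform P V) [Fintype (IrrCharacter P)] (χ : G → ℂ) (u : P) (v : G) :
    χ ((u : G) * v) = ∑ l : IrrCharacter P, th χ l v * (l : P → ℂ) u := by
  have := congrFun (classFun_expand (classFun_P h fun w : P => χ ((w : G) * v))) u
  simpa [th, Finset.sum_apply] using this

theorem th_parseval (h : Uniform P V) [Fintype (IrrCharacter P)] (χ : G → ℂ) (v : G) :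
    ∑ u : P, ‖χ ((u : G) * v)‖ ^ 2 = Nat.card P * ∑ l : IrrCharacter P, ‖th χ l v‖ ^ 2 := by
  have h1 := classInner_expand (f := fun w : P => χ ((w : G) * v)) (classFun_P h fun w : P => χ ((w : G) * v))
  rw [classInner_self] at h1
  simp only [Complex.mul_conj', ← Complex.ofReal_pow, ← Complex.ofReal_sum] at h1
  rw [Complex.ofReal_inj] at h1
  rw [show (∑ l : IrrCharacter P, ‖th χ l v‖ ^ 2) = _ from h1.symm, ← mul_assoc,
    mul_inv_cancel₀ (by exact_mod_cast Nat.card_pos.ne'), one_mul]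

/-- The multiplicity as a natural number. -/
noncomputable def mult (χ : G → ℂ) (l : IrrCharacter P) : ℕ := ⌊(th χ l 1).re⌋₊

theorem th_one (h : Uniform P V) {χ : G → ℂ} (hχ : IsCharacter G χ) (l : IrrCharacter P) :
    th χ l 1 = (mult χ l : ℂ) := by
  obtain ⟨d, hd⟩ := isCharacter_degree (th_isCharacter h hχ l)
  have hd' : th χ l 1 = (d : ℂ) := by simpa using hd
  rw [mult, hd', Complex.natCast_re, Nat.floor_natCast]

theorem norm_th_le (h : Uniform P V) {χ : G → ℂ} (hχ : IsCharacter G χ) (l : IrrCharacter P)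
    {v : G} (hv : v ∈ V) : ‖th χ l v‖ ≤ mult χ l := by
  obtain ⟨n, ρ, hρ⟩ := th_isCharacter h hχ l
  have h1 : (mult χ l : ℂ) = n := by
    rw [← th_one h hχ l]
    have := congrFun hρ 1
    rw [Representation.char_one, Module.finrank_fin_fun] at this
    simpa using this.symm
  have h2 := norm_char_le ρ (⟨v, hv⟩ : V)
  rw [hρ, Module.finrank_fin_fun] at h2
  have h3 : mult χ l = n := by exact_mod_cast h1
  simpa [h3] using h2

/-- The norm of a multiplicity character. -/
noncomputable def wt (V : Subgroup G) [Fintype V] (χ : G → ℂ) (l : IrrCharacter P) : ℕ :=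
  ⌊(classInner (fun v : V => th χ l v) (fun v : V => th χ l v)).re⌋₊

theorem wt_spec (h : Uniform P V) {χ : G → ℂ} (hχ : IsCharacter G χ) (l : IrrCharacter P) :
    ∑ v : V, ‖th χ l v‖ ^ 2 = Nat.card V * (wt V χ l : ℝ) := by
  obtain ⟨d, hd⟩ := classInner_isCharacter (th_isCharacter h hχ l) (th_isCharacter h hχ l)
  rw [wt, hd, Complex.natCast_re, Nat.floor_natCast]
  rw [classInner_self, ← Complex.ofReal_natCast, Complex.ofReal_inj] at hd
  rw [← hd, ← mul_assoc, mul_inv_cancel₀ (by exact_mod_cast Nat.card_pos.ne'), one_mul]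

theorem wt_pos (h : Uniform P V) {χ : G → ℂ} (hχ : IsCharacter G χ) {l : IrrCharacter P}
    (hl : mult χ l ≠ 0) : 1 ≤ wt V χ l := by
  by_contra h0
  have hs := wt_spec h hχ l
  rw [Nat.lt_one_iff.mp (not_le.mp h0), Nat.cast_zero, mul_zero,
    Finset.sum_eq_zero_iff_of_nonneg fun v _ => sq_nonneg _] at hs
  have := hs 1 (Finset.mem_univ _)
  rw [OneMemClass.coe_one, th_one h hχ l] at this
  exact hl (by simpa using this)

/-- A multiplicity character of norm one has mean at most one. -/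
theorem sum_th_le (h : Uniform P V) {χ : G → ℂ} (hχ : IsCharacter G χ) {l : IrrCharacter P}
    (hl : wt V χ l = 1) : ∃ j : ℕ, j ≤ 1 ∧ ∑ v : V, th χ l v = (Nat.card V : ℂ) * j := by
  classical
  have hn : classInner (fun v : V => th χ l v) (fun v : V => th χ l v) = 1 := by
    rw [classInner_self, wt_spec h hχ l, hl, Nat.cast_one, mul_one,
      inv_mul_cancel₀ (by exact_mod_cast Nat.card_pos.ne'), Complex.ofReal_one]
  have hirr := isIrr_of_isCharacter_norm_one (th_isCharacter h hχ l) hn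
  have h1 := classInner_irr (⟨_, hirr⟩ : IrrCharacter V) ⟨_, isIrrCharacter_one⟩
  simp only [classInner, map_one, mul_one] at h1
  rw [inv_mul_eq_iff_eq_mul₀ (by exact_mod_cast Nat.card_pos.ne')] at h1
  split_ifs at h1
  · exact ⟨1, le_rfl, by rw [h1, Nat.cast_one]⟩
  · exact ⟨0, zero_le_one, by rw [h1, Nat.cast_zero]⟩

/-- The characters of `P` occurring in `χ`. -/
noncomputable def supp (P : Subgroup G) [Fintype P] [Fintype (IrrCharacter P)] (χ : G → ℂ) : Finset (IrrCharacter P) := by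
  classical
  exact Finset.univ.filter fun l => mult χ l ≠ 0

theorem mem_supp [Fintype (IrrCharacter P)] {χ : G → ℂ} {l : IrrCharacter P} :
    l ∈ supp P χ ↔ mult χ l ≠ 0 := by
  classical
  simp only [supp, Finset.mem_filter, Finset.mem_univ, true_and]

theorem th_eq_zero (h : Uniform P V) [Fintype (IrrCharacter P)] {χ : G → ℂ} (hχ : IsCharacter G χ)
    {l : IrrCharacter P} (hl : l ∉ supp P χ) {v : G} (hv : v ∈ V) : th χ l v = 0 := by
  rw [mem_supp, not_not] at hl
  have := norm_th_le h hχ l hv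
  rw [hl, Nat.cast_zero] at this
  exact norm_le_zero_iff.mp this

theorem sum_mult (h : Uniform P V) [Fintype (IrrCharacter P)] {χ : G → ℂ} (hχ : IsCharacter G χ) :
    χ 1 = ((∑ l ∈ supp P χ, mult χ l : ℕ) : ℂ) := by
  have := th_expand h χ 1 1
  rw [OneMemClass.coe_one, one_mul] at this
  rw [this, Nat.cast_sum, supp, Finset.sum_filter]
  refine Finset.sum_congr rfl fun l _ => ?_
  rw [th_one h hχ l, degree_one_of_comm (fun x y : P => Subtype.ext (h.comm x x.2 y y.2)) l, mul_one]
  split_ifs with hm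
  · rfl
  · rw [not_not.mp hm, Nat.cast_zero]

/-- The norm on the special classes lost: `(|P| - |supp|) * weight`. -/
theorem card_mul_wt_le (h : Uniform P V) [Fintype (IrrCharacter P)] {χ : G → ℂ}
    (hχ : IsCharacter G χ) :
    (Nat.card P : ℝ) * (Nat.card V * ∑ l ∈ supp P χ, (wt V χ l : ℝ)) ≤
      (supp P χ).card * (Nat.card V * ∑ l ∈ supp P χ, (wt V χ l : ℝ)) +
        ((∑ v : V, ∑ u : P, ‖χ ((u : G) * v)‖ ^ 2) - ∑ v : V, ‖χ v‖ ^ 2) := by
  have hW : ∀ v : V, ∑ l : IrrCharacter P, ‖th χ l v‖ ^ 2 = ∑ l ∈ supp P χ, ‖th χ l v‖ ^ 2 := fun v =>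
    (Finset.sum_subset (Finset.subset_univ _) fun l _ hl => by
      rw [th_eq_zero h hχ hl v.2]; simp).symm
  have hA : (Nat.card V : ℝ) * ∑ l ∈ supp P χ, (wt V χ l : ℝ) = ∑ v : V, ∑ l ∈ supp P χ, ‖th χ l v‖ ^ 2 := by
    rw [Finset.sum_comm, Finset.mul_sum]
    exact Finset.sum_congr rfl fun l _ => (wt_spec h hχ l).symm
  have hB : ∀ v : V, ‖χ v‖ ^ 2 ≤ (supp P χ).card * ∑ l ∈ supp P χ, ‖th χ l v‖ ^ 2 := by
    intro v
    have hv : χ v = ∑ l ∈ supp P χ, th χ l v := by
      have := th_expand h χ 1 v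
      rw [OneMemClass.coe_one, one_mul] at this
      rw [this, ← Finset.sum_subset (Finset.subset_univ (supp P χ)) fun l _ hl => by
        rw [th_eq_zero h hχ hl v.2, zero_mul]]
      exact Finset.sum_congr rfl fun l _ => by
        rw [degree_one_of_comm (fun x y : P => Subtype.ext (h.comm x x.2 y y.2)) l, mul_one]
    rw [hv]
    exact le_trans (pow_le_pow_left₀ (norm_nonneg _) (norm_sum_le _ _) 2)
      sq_sum_le_card_mul_sum_sq
  have hC : ∑ v : V, ‖χ v‖ ^ 2 ≤ (supp P χ).card * ∑ v : V, ∑ l ∈ supp P χ, ‖th χ l v‖ ^ 2 := by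
    rw [Finset.mul_sum]
    exact Finset.sum_le_sum fun v _ => hB v
  rw [hA, Finset.sum_congr rfl fun (v : V) _ => th_parseval h χ (v : G), ← Finset.mul_sum,
    Finset.sum_congr rfl fun v _ => hW v]
  linarith

open scoped Classical in
theorem sum_T_eq (h : Uniform P V) {M : Type*} [AddCommGroup M] (f : G → M) :
    ∑ a ∈ (Finset.univ : Finset (P × V)).filter (fun a => a.1 ≠ 1), f ((a.1 : G) * a.2) =
      (∑ v : V, ∑ u : P, f ((u : G) * v)) - ∑ v : V, f v := by
  rw [eq_sub_iff_add_eq, Finset.sum_comm (s := (Finset.univ : Finset V))]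
  have h1 : ∑ a ∈ (Finset.univ : Finset (P × V)).filter (fun a => ¬ a.1 ≠ 1), f ((a.1 : G) * a.2) =
      ∑ v : V, f v := by
    refine Finset.sum_bij' (fun a _ => a.2) (fun v _ => (1, v)) (fun _ _ => Finset.mem_univ _)
      (fun _ _ => by simp) (fun a ha => ?_) (fun _ _ => rfl) (fun a ha => ?_)
    · exact Prod.ext (not_not.mp (Finset.mem_filter.mp ha).2).symm rfl
    · rw [not_not.mp (Finset.mem_filter.mp ha).2, OneMemClass.coe_one, one_mul]
  rw [← h1, Finset.sum_filter_add_sum_filter_not, Fintype.sum_prod_type]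

/-- The key bound for an irreducible character. -/
theorem irr_bound (h : Uniform P V) [Fintype (IrrCharacter P)] (χ : IrrCharacter G) {e : ℕ}
    (he : Nat.card (Subgroup.normalizer (P : Set G)) = e * (Nat.card P * Nat.card V)) :
    Nat.card P * ∑ l ∈ supp P (χ : G → ℂ), wt V (χ : G → ℂ) l <
      (supp P (χ : G → ℂ)).card * (∑ l ∈ supp P (χ : G → ℂ), wt V (χ : G → ℂ) l) + e * Nat.card P := by
  classical
  set f : G → ℂ := fun g => ((‖(χ : G → ℂ) g‖ ^ 2 : ℝ) : ℂ) with hf
  have h1 := card_mul_sum_special h (f := f) fun a b => by simp only [hf, isClassFunction_irr χ a b]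
  simp only [hf, ← Complex.ofReal_sum, ← Complex.ofReal_natCast, ← Complex.ofReal_mul, Complex.ofReal_inj] at h1
  rw [sum_T_eq h (fun g => ‖(χ : G → ℂ) g‖ ^ 2)] at h1
  have h2 := card_mul_wt_le h (isCharacter_irr χ) (V := V) (P := P)
  have hnorm : ∑ g : G, ‖(χ : G → ℂ) g‖ ^ 2 = Nat.card G := by
    have := classInner_irr_self χ
    rw [classInner_self, Complex.ofReal_eq_one, inv_mul_eq_one₀ (by exact_mod_cast Nat.card_pos.ne')] at this
    exact this.symm
  have h3 : ∑ z ∈ specialSet P V, ‖(χ : G → ℂ) z‖ ^ 2 < (Nat.card G : ℝ) := by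
    rw [← hnorm]
    refine Finset.sum_lt_sum_of_subset (Finset.subset_univ _) (Finset.mem_univ (1 : G))
      (one_notMem_special h) ?_ fun g _ _ => sq_nonneg _
    exact pow_pos (norm_pos_iff.mpr (irr_one_ne_zero χ)) 2
  have hN : (0 : ℝ) < Nat.card (Subgroup.normalizer (P : Set G)) := by exact_mod_cast Nat.card_pos
  have hG : (0 : ℝ) < Nat.card G := by exact_mod_cast Nat.card_pos
  set X := (∑ v : V, ∑ u : P, ‖(χ : G → ℂ) ((u : G) * v)‖ ^ 2) - ∑ v : V, ‖(χ : G → ℂ) v‖ ^ 2
  have h4 : X < (Nat.card (Subgroup.normalizer (P : Set G)) : ℝ) := by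
    have := mul_lt_mul_of_pos_left h3 hN
    rw [h1] at this
    rw [mul_comm _ (Nat.card G : ℝ)] at this
    exact lt_of_mul_lt_mul_left this hG.le
  rw [he] at h4
  push_cast at h4
  have hV : (0 : ℝ) < Nat.card V := by exact_mod_cast Nat.card_pos
  have h5 : ((Nat.card P * ∑ l ∈ supp P (χ : G → ℂ), wt V (χ : G → ℂ) l : ℕ) : ℝ) <
      (((supp P (χ : G → ℂ)).card * (∑ l ∈ supp P (χ : G → ℂ), wt V (χ : G → ℂ) l) +
        e * Nat.card P : ℕ) : ℝ) := by
    push_cast
    nlinarith
  exact_mod_cast h5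

/-! ### The normalizer orbits -/

/-- Transport of a character of `P` by an element of the normalizer. -/
noncomputable instance instActionIrr :
    MulAction (Subgroup.normalizer (P : Set G)) (IrrCharacter P) where
  smul n l := ⟨fun u => (l : P → ℂ) (P.normalizerMonoidHom n⁻¹ u),
    isIrrCharacter_comp_surjective l.2 (P.normalizerMonoidHom n⁻¹).toMonoidHom
      (P.normalizerMonoidHom n⁻¹).surjective⟩
  one_smul l := Subtype.ext (funext fun u => by
    show (l : P → ℂ) (P.normalizerMonoidHom 1⁻¹ u) = _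
    rw [inv_one, map_one]; rfl)
  mul_smul a b l := Subtype.ext (funext fun u => by
    show (l : P → ℂ) (P.normalizerMonoidHom (a * b)⁻¹ u) =
      (l : P → ℂ) (P.normalizerMonoidHom b⁻¹ (P.normalizerMonoidHom a⁻¹ u))
    rw [mul_inv_rev, map_mul]; rfl)

theorem smul_apply (n : Subgroup.normalizer (P : Set G)) (l : IrrCharacter P) (u : P) :
    ((n • l : IrrCharacter P) : P → ℂ) u = (l : P → ℂ) (P.normalizerMonoidHom n⁻¹ u) := rfl

/-- The trivial character of `P`. -/
noncomputable def triv : IrrCharacter P := ⟨fun _ => 1, isIrrCharacter_one⟩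

theorem eq_triv_of_fixed (h : Uniform P V) {n : Subgroup.normalizer (P : Set G)}
    (hn : (n : G) ∉ Subgroup.centralizer (P : Set G)) {l : IrrCharacter P} (hl : n • l = l) :
    l = triv := by
  have hn' : ((n⁻¹ : Subgroup.normalizer (P : Set G)) : G) ∉ Subgroup.centralizer (P : Set G) :=
    fun hc => hn (by simpa using inv_mem hc)
  set m := n⁻¹
  let φ : P → P := fun u => u⁻¹ * P.normalizerMonoidHom m u
  have hinj : Function.Injective φ := by
    intro a b hab
    by_contra hne
    have hw : ((a * b⁻¹ : P) : G) ≠ 1 := fun e => hne (mul_inv_eq_one.mp (Subtype.ext e))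
    have e : (a : G)⁻¹ * ((m : G) * a * (m : G)⁻¹) = (b : G)⁻¹ * ((m : G) * b * (m : G)⁻¹) :=
      congrArg Subtype.val hab
    have hm : (m : G) * b * (m : G)⁻¹ ∈ P := (Subgroup.mem_normalizer_iff.mp m.2 _).mp b.2
    have e2 : (m : G) * ((a * b⁻¹ : P) : G) * (m : G)⁻¹ = ((a * b⁻¹ : P) : G) := by
      have e3 : (m : G) * a * (m : G)⁻¹ = (a : G) * ((b : G)⁻¹ * ((m : G) * b * (m : G)⁻¹)) := by
        rw [← e, mul_inv_cancel_left]
      calc (m : G) * ((a : G) * (b : G)⁻¹) * (m : G)⁻¹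
          = (m : G) * a * (m : G)⁻¹ * ((m : G) * b * (m : G)⁻¹)⁻¹ := by group
        _ = (a : G) * (b : G)⁻¹ := by rw [e3]; group
    refine hn' ?_
    rw [← h.cent _ (a * b⁻¹ : P).2 hw, mem_cent_iff]
    exact mul_inv_eq_iff_eq_mul.mp e2
  have hsurj : Function.Surjective φ := Finite.surjective_of_injective hinj
  refine Subtype.ext (funext fun u => ?_)
  obtain ⟨w, rfl⟩ := hsurj u
  have e := congrFun (congrArg Subtype.val hl) w
  rw [smul_apply] at e
  show (l : P → ℂ) (w⁻¹ * P.normalizerMonoidHom m w) = 1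
  rw [irr_mul_P h, show (l : P → ℂ) (P.normalizerMonoidHom m w) = (l : P → ℂ) w from e,
    ← irr_mul_P h, inv_mul_cancel,
    degree_one_of_comm (fun x y : P => Subtype.ext (h.comm x x.2 y y.2)) l]

theorem smul_triv (n : Subgroup.normalizer (P : Set G)) : n • (triv : IrrCharacter P) = triv := rfl

theorem card_orbit (h : Uniform P V) {l : IrrCharacter P} (hl : l ≠ triv) :
    Nat.card (MulAction.orbit (Subgroup.normalizer (P : Set G)) l) =
      (Subgroup.centralizer (P : Set G)).relIndex (Subgroup.normalizer (P : Set G)) := by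
  show Nat.card (MulAction.orbit (Subgroup.normalizer (P : Set G)) l) =
    ((Subgroup.centralizer (P : Set G)).subgroupOf (Subgroup.normalizer (P : Set G))).index
  rw [← show MulAction.stabilizer (Subgroup.normalizer (P : Set G)) l =
      (Subgroup.centralizer (P : Set G)).subgroupOf (Subgroup.normalizer (P : Set G)) from ?_,
    MulAction.index_stabilizer]
  · rfl
  · ext n
    rw [MulAction.mem_stabilizer_iff, Subgroup.mem_subgroupOf]
    refine ⟨fun e => by_contra fun hn => hl (eq_triv_of_fixed h hn e), fun hc => ?_⟩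
    refine Subtype.ext (funext fun u => ?_)
    rw [smul_apply]
    refine congrArg _ (Subtype.ext ?_)
    show ((n : G))⁻¹ * u * ((n : G))⁻¹⁻¹ = u
    rw [inv_inv, mul_assoc, Subgroup.mem_centralizer_iff.mp hc u u.2, inv_mul_cancel_left]

theorem mult_smul {χ : G → ℂ} (hχ : IsClassFunction G χ) (n : Subgroup.normalizer (P : Set G))
    (l : IrrCharacter P) : mult χ (n • l) = mult χ l := by
  unfold mult
  congr 2
  simp only [th, classInner, mul_one]
  congr 1
  refine Fintype.sum_equiv (P.normalizerMonoidHom n⁻¹).toEquiv _ _ fun u => ?_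
  rw [smul_apply]
  congr 1
  exact (hχ (u : G) ((n⁻¹ : Subgroup.normalizer (P : Set G)) : G)).symm

/-- The orbit as a finite set. -/
noncomputable def orb [Fintype (IrrCharacter P)] (l : IrrCharacter P) : Finset (IrrCharacter P) := by
  classical
  exact Finset.univ.filter fun k => k ∈ MulAction.orbit (Subgroup.normalizer (P : Set G)) l

theorem mem_orb [Fintype (IrrCharacter P)] {l k : IrrCharacter P} :
    k ∈ orb l ↔ k ∈ MulAction.orbit (Subgroup.normalizer (P : Set G)) l := by simp [orb]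

theorem orb_card (h : Uniform P V) [Fintype (IrrCharacter P)] {l : IrrCharacter P} (hl : l ≠ triv) :
    (orb l).card = (Subgroup.centralizer (P : Set G)).relIndex (Subgroup.normalizer (P : Set G)) := by
  rw [← card_orbit h hl, ← Nat.card_eq_finsetCard]
  exact Nat.card_congr (Equiv.subtypeEquivRight fun k => mem_orb)

theorem orb_subset [Fintype (IrrCharacter P)] {χ : G → ℂ} (hχ : IsClassFunction G χ)
    {l : IrrCharacter P} (hl : l ∈ supp P χ) (hlt : l ≠ triv) :
    orb l ⊆ supp P χ ∧ triv ∉ orb l ∧ ∀ k ∈ orb l, mult χ k = mult χ l := by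
  have h1 : ∀ k ∈ orb l, mult χ k = mult χ l := fun k hk => by
    obtain ⟨n, rfl⟩ := mem_orb.mp hk
    exact mult_smul hχ n l
  refine ⟨fun k hk => mem_supp.mpr (h1 k hk ▸ mem_supp.mp hl), fun ht => ?_, h1⟩
  obtain ⟨n, hn⟩ := mem_orb.mp ht
  exact hlt (by rw [← inv_smul_smul n l, show n • l = triv from hn, smul_triv])

open scoped Classical in
theorem dvd_card_stable (h : Uniform P V) [Fintype (IrrCharacter P)] (s : Finset (IrrCharacter P))
    (ht : triv ∉ s) (hs : ∀ l ∈ s, orb l ⊆ s) :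
    (Subgroup.centralizer (P : Set G)).relIndex (Subgroup.normalizer (P : Set G)) ∣ s.card := by
  induction s using Finset.strongInduction with
  | _ s ih =>
    rcases s.eq_empty_or_nonempty with rfl | ⟨l, hl⟩
    · simp
    have hlt : l ≠ triv := fun e => ht (e ▸ hl)
    have hmem : l ∈ orb l := mem_orb.mpr (MulAction.mem_orbit_self l)
    have h1 := ih (s \ orb l) (Finset.sdiff_ssubset (hs l hl) ⟨l, hmem⟩)
      (fun hm => ht (Finset.mem_sdiff.mp hm).1) (fun k hk j hj => by
        obtain ⟨hks, hko⟩ := Finset.mem_sdiff.mp hk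
        refine Finset.mem_sdiff.mpr ⟨hs k hks hj, fun hjl => hko (mem_orb.mpr ?_)⟩
        rw [← MulAction.orbit_eq_iff.mpr (mem_orb.mp hjl), MulAction.orbit_eq_iff.mpr (mem_orb.mp hj)]
        exact MulAction.mem_orbit_self k)
    rw [← Finset.card_sdiff_add_card_eq_card (hs l hl), orb_card h hlt]
    exact dvd_add h1 dvd_rfl

open scoped Classical in
/-- The relative index divides `|P| - 1`. -/
theorem dvd_card_sub_one (h : Uniform P V) [Fintype (IrrCharacter P)] :
    (Subgroup.centralizer (P : Set G)).relIndex (Subgroup.normalizer (P : Set G)) ∣ Nat.card P - 1 := by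
  have hcard : Fintype.card (IrrCharacter P) = Nat.card P := by
    have h1 := sum_degree_sq (G := P)
    simp only [degree_one_of_comm (fun x y : P => Subtype.ext (h.comm x x.2 y y.2)), one_pow,
      Finset.sum_const, Finset.card_univ, nsmul_eq_mul, mul_one] at h1
    exact_mod_cast h1
  have h2 := dvd_card_stable h (Finset.univ.erase (triv : IrrCharacter P)) (Finset.notMem_erase _ _)
    (fun l hl k hk => Finset.mem_erase.mpr ⟨fun e => by
      obtain ⟨n, hn⟩ := mem_orb.mp hk
      exact (Finset.mem_erase.mp hl).1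
        (by rw [← inv_smul_smul n l, show n • l = triv from hn.trans e, smul_triv]), Finset.mem_univ _⟩)
  rwa [Finset.card_erase_of_mem (Finset.mem_univ _), Finset.card_univ, hcard] at h2

end CfsgLib.Char.UniformCent
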