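import Mathlib

/-!
# Uniform partitions fixed by a permutation of prime order
-/

set_option autoImplicit false

namespace CfsgLib.Char.UniformPartition

open Equiv

variable {α β : Type*}

/-- The number of moved points. -/
noncomputable def mv (σ : Perm α) : ℕ := Nat.card {x // σ x ≠ x}

theorem mv_eq [Fintype α] [DecidableEq α] (σ : Perm α) : mv σ = σ.support.card := by
  rw [mv, Nat.card_eq_fintype_card, Fintype.card_subtype]
  rfl

theorem mv_permCongr (e : α ≃ β) (σ : Perm α) : mv (e.permCongr σ) = mv σ := by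
  refine (Nat.card_congr (e.subtypeEquiv fun x => ?_)).symm
  simp [Equiv.permCongr_apply, e.injective.eq_iff]

theorem mv_sumCongr [Finite α] [Finite β] (σ : Perm α) (τ : Perm β) :
    mv (σ.sumCongr τ) = mv σ + mv τ := by
  rw [mv, mv, mv, ← Nat.card_sum]
  refine Nat.card_congr ((Equiv.subtypeSum).trans (Equiv.sumCongr (Equiv.subtypeEquivRight fun x => ?_)
    (Equiv.subtypeEquivRight fun x => ?_))) <;> simp

theorem mv_refl : mv (Equiv.refl α : Perm α) = 0 := by
  rw [mv]
  have : IsEmpty {x // (Equiv.refl α : Perm α) x ≠ x} := ⟨fun x => x.2 rfl⟩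
  exact Nat.card_of_isEmpty

theorem mv_eq_zero [Finite α] {σ : Perm α} (h : σ = 1) : mv σ = 0 := h ▸ mv_refl

theorem mv_sigma {ι : Type*} [Fintype ι] {γ : ι → Type*} [∀ i, Finite (γ i)]
    (σ : ∀ i, Perm (γ i)) : mv (Equiv.sigmaCongrRight σ) = ∑ i, mv (σ i) := by
  simp only [mv]
  rw [← Nat.card_sigma]
  exact Nat.card_congr
    { toFun := fun x => ⟨x.1.1, x.1.2, fun h => x.2 (by
        obtain ⟨⟨i, y⟩, hy⟩ := x
        show Sigma.mk i (σ i y) = ⟨i, y⟩
        rw [h])⟩
      invFun := fun x => ⟨⟨x.1, x.2.1⟩, fun h => x.2.2 (eq_of_heq (Sigma.mk.inj_iff.1 h).2)⟩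
      left_inv := fun _ => rfl
      right_inv := fun _ => rfl }

theorem cycleType_eq [Fintype α] [DecidableEq α] {r : ℕ} (hr : r.Prime) {σ : Perm α}
    (h : σ ^ r = 1) : ∃ n, σ.cycleType = Multiset.replicate n r ∧ mv σ = n * r := by
  rcases eq_or_ne σ 1 with rfl | h1
  · exact ⟨0, by simp, by simp [mv_eq]⟩
  · have : Fact r.Prime := ⟨hr⟩
    have ho : orderOf σ = r := orderOf_eq_prime h h1
    obtain ⟨n, hn⟩ := Perm.cycleType_prime_order (σ := σ) (ho.symm ▸ hr)
    rw [ho] at hn
    exact ⟨n + 1, hn, by rw [mv_eq, ← Perm.sum_cycleType, hn, Multiset.sum_replicate, smul_eq_mul]⟩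

theorem dvd_mv [Finite α] {r : ℕ} (hr : r.Prime) {σ : Perm α} (h : σ ^ r = 1) : r ∣ mv σ := by
  classical
  have : Fintype α := Fintype.ofFinite α
  obtain ⟨n, -, hn⟩ := cycleType_eq hr h
  exact hn ▸ dvd_mul_left r n

theorem isConj_of_mv [Fintype α] [DecidableEq α] {r : ℕ} (hr : r.Prime) {σ τ : Perm α}
    (hσ : σ ^ r = 1) (hτ : τ ^ r = 1) (h : mv σ = mv τ) : IsConj σ τ := by
  obtain ⟨n, hn, hn'⟩ := cycleType_eq hr hσ
  obtain ⟨m, hm, hm'⟩ := cycleType_eq hr hτ
  rw [hn', hm'] at h
  rw [Perm.isConj_iff_cycleType_eq, hn, hm, Nat.eq_of_mul_eq_mul_right hr.pos h]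

/-- Shift of `i` cycles of length `r`, fixing `m` further points. -/
def shift (i r m : ℕ) : Perm ((Fin i × ZMod r) ⊕ Fin m) :=
  Equiv.sumCongr (Equiv.prodCongr (Equiv.refl _) (Equiv.addRight 1)) (Equiv.refl _)

theorem shift_pow (i r m : ℕ) : shift i r m ^ r = 1 := by
  have : ∀ n : ℕ, ∀ x, (shift i r m ^ n) x = Sum.map (fun p : Fin i × ZMod r => (p.1, p.2 + n)) id x := by
    intro n
    induction n with
    | zero => rintro (x | x) <;> simp
    | succ n ih =>
      intro x
      rw [pow_succ', Perm.mul_apply, ih]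
      rcases x with x | x <;> simp [shift, add_assoc]
  refine Equiv.ext fun x => ?_
  rw [this]
  rcases x with x | x <;> simp

theorem mv_shift (i r m : ℕ) [Fact (1 < r)] : mv (shift i r m) = i * r := by
  rw [shift, show (Equiv.sumCongr (Equiv.prodCongr (Equiv.refl (Fin i)) (Equiv.addRight (1 : ZMod r)))
    (Equiv.refl (Fin m))) = Equiv.Perm.sumCongr _ _ from rfl]
  have : NeZero r := ⟨by have := (Fact.out : 1 < r); omega⟩
  rw [mv_sumCongr, mv_refl, add_zero, mv]
  rw [Nat.card_congr (Equiv.subtypeUnivEquiv fun x => ?_), Nat.card_prod, Nat.card_fin, Nat.card_zmod]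
  intro h
  have := congrArg Prod.snd h
  simp at this

theorem exists_perm (α : Type*) [Finite α] {r i : ℕ} (hr : r.Prime) (h : i * r ≤ Nat.card α) :
    ∃ σ : Perm α, σ ^ r = 1 ∧ mv σ = i * r := by
  have : Fact (1 < r) := ⟨hr.one_lt⟩
  have : NeZero r := ⟨hr.ne_zero⟩
  obtain ⟨e⟩ : Nonempty ((Fin i × ZMod r) ⊕ Fin (Nat.card α - i * r) ≃ α) := by
    refine Finite.card_eq.1 ?_
    simp; omega
  exact ⟨e.permCongrHom (shift i r _), by rw [← map_pow, shift_pow, map_one],
    by show mv (e.permCongr _) = _; rw [mv_permCongr, mv_shift]⟩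

/-- Distribute `T` among `d` slots of capacity `A`. -/
theorem exists_distribution (A : ℕ) : ∀ (d T : ℕ), T ≤ d * A →
    ∃ i : Fin d → ℕ, (∀ j, i j ≤ A) ∧ ∑ j, i j = T := by
  intro d
  induction d with
  | zero => exact fun T h => ⟨fun _ => 0, fun j => j.elim0, by simp at h ⊢; omega⟩
  | succ d ih =>
    intro T h
    rw [Nat.succ_mul] at h
    obtain ⟨i, hi, hs⟩ := ih (T - min T A) (by omega)
    refine ⟨Fin.cons (min T A) i, fun j => ?_, ?_⟩
    · refine Fin.cases ?_ (fun j => ?_) j
      · simp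
      · simpa using hi j
    · rw [Fin.sum_univ_succ]; simp [hs]

/-- A model permutation preserving a uniform partition. -/
theorem exists_fixed_partition {a b r c k : ℕ} (hr : r.Prime) (hc : r * c ≤ b) (hk1 : a * c ≤ k)
    (hk2 : k ≤ a * c + (b - r * c) * (a / r)) {σ : Perm (Fin (a * b))} (hσ : σ ^ r = 1)
    (hm : mv σ = k * r) :
    ∃ f : Fin (a * b) → Fin b, (∀ j, Nat.card {x : Fin (a * b) // f x = j} = a) ∧
      ∃ π : Perm (Fin b), ∀ x, f (σ x) = π (f x) := by
  classical
  have : Fact (1 < r) := ⟨hr.one_lt⟩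
  have : NeZero r := ⟨hr.ne_zero⟩
  set d := b - r * c with hd
  obtain ⟨i, hi, hsum⟩ := exists_distribution (a / r) d (k - a * c) (by omega)
  choose ρ hρ hρm using fun j => exists_perm (Fin a) (r := r) hr (i := i j)
    (by rw [Nat.card_fin]; exact (Nat.mul_le_mul_right r (hi j)).trans (Nat.div_mul_le_self a r))
  -- blocks: `c` cycles of blocks and `d` fixed blocks
  let π₀ : Perm ((Fin c × ZMod r) ⊕ Fin d) := shift c r d
  let τ : Perm (((Fin c × ZMod r) × Fin a) ⊕ (Σ _ : Fin d, Fin a)) :=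
    Equiv.Perm.sumCongr (Equiv.prodCongr (Equiv.prodCongr (Equiv.refl _) (Equiv.addRight 1))
      (Equiv.refl _)) (Equiv.sigmaCongrRight ρ)
  let g : ((Fin c × ZMod r) × Fin a) ⊕ (Σ _ : Fin d, Fin a) → (Fin c × ZMod r) ⊕ Fin d :=
    Sum.map Prod.fst Sigma.fst
  have hg : ∀ y, g (τ y) = π₀ (g y) := by
    rintro (y | y) <;> rfl
  have hτm : mv τ = k * r := by
    rw [show τ = Equiv.Perm.sumCongr _ _ from rfl, mv_sumCongr, mv_sigma, mv]
    rw [Nat.card_congr (Equiv.subtypeUnivEquiv fun x h => by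
      have := congrArg (fun p => p.1.2) h; simp at this)]
    rw [Nat.card_prod, Nat.card_prod, Nat.card_fin, Nat.card_fin, Nat.card_zmod,
      Finset.sum_congr rfl fun j _ => hρm j, ← Finset.sum_mul, hsum]
    rw [Nat.sub_mul, show c * r * a = a * c * r by ring]
    have := Nat.mul_le_mul_right r hk1
    omega
  have hτr : τ ^ r = 1 := by
    have h1 : ∀ (n : ℕ) y, (τ ^ n) y = Sum.map (fun p : (Fin c × ZMod r) × Fin a =>
        ((p.1.1, p.1.2 + n), p.2)) (fun p : Σ _ : Fin d, Fin a => ⟨p.1, (ρ p.1 ^ n) p.2⟩) y := by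
      intro n
      induction n with
      | zero => rintro (y | y) <;> simp
      | succ n ih =>
        intro y
        rw [pow_succ', Perm.mul_apply, ih]
        rcases y with y | y
        · simp [τ, add_assoc]
        · simp [τ, pow_succ']
    refine Equiv.ext fun y => ?_
    rw [h1]
    rcases y with y | y <;> simp [hρ]
  obtain ⟨eB⟩ : Nonempty ((Fin c × ZMod r) ⊕ Fin d ≃ Fin b) := by
    refine Finite.card_eq.1 ?_
    simp [hd, mul_comm c r]; omega
  obtain ⟨eX⟩ : Nonempty ((((Fin c × ZMod r) × Fin a) ⊕ (Σ _ : Fin d, Fin a)) ≃ Fin (a * b)) := by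
    refine Finite.card_eq.1 ?_
    simp [Nat.card_sum, Nat.card_prod, Nat.card_sigma]
    rw [← add_mul, mul_comm a b, hd, mul_comm c r]
    congr 1; omega
  have hfib : ∀ j, Nat.card {y // g y = j} = a := by
    rintro (j | j)
    · rw [Nat.card_congr (show {y // g y = Sum.inl j} ≃ Fin a from
        { toFun := fun y => match y with
            | ⟨Sum.inl p, _⟩ => p.2
            | ⟨Sum.inr _, h⟩ => nomatch h
          invFun := fun x => ⟨Sum.inl (j, x), rfl⟩
          left_inv := by
            rintro ⟨p | p, h⟩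
            · simp only [g, Sum.map_inl, Sum.inl.injEq] at h
              subst h; rfl
            · cases h
          right_inv := fun x => rfl }), Nat.card_fin]
    · rw [Nat.card_congr (show {y // g y = Sum.inr j} ≃ Fin a from
        { toFun := fun y => match y with
            | ⟨Sum.inr p, _⟩ => p.2
            | ⟨Sum.inl _, h⟩ => nomatch h
          invFun := fun x => ⟨Sum.inr ⟨j, x⟩, rfl⟩
          left_inv := by
            rintro ⟨p | p, h⟩
            · cases h
            · simp only [g, Sum.map_inr, Sum.inr.injEq] at h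
              subst h; rfl
          right_inv := fun x => rfl }), Nat.card_fin]
  have hc1 : (eX.permCongrHom τ) ^ r = 1 := by rw [← map_pow, hτr, map_one]
  obtain ⟨u, hu⟩ := isConj_iff.1 (isConj_of_mv hr hσ hc1
    (by show mv σ = mv (eX.permCongr τ); rw [mv_permCongr, hτm, hm]))
  refine ⟨fun x => eB (g (eX.symm (u x))), fun j => ?_, eB.permCongr π₀, fun x => ?_⟩
  · rw [Nat.card_congr (show {x // eB (g (eX.symm (u x))) = j} ≃ {y // g y = eB.symm j} from
      (u.trans eX.symm).subtypeEquiv fun x => by simp [Equiv.eq_symm_apply]), hfib]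
  · have h2 : u (σ x) = eX (τ (eX.symm (u x))) := by
      have := Equiv.ext_iff.1 hu (u x)
      simpa using this
    simp [h2, hg]

/-- The moved points of a permutation preserving a uniform partition. -/
theorem exists_count {a b r k : ℕ} (hr : r.Prime) (ha : 0 < a) {σ : Perm (Fin (a * b))}
    (hσ : σ ^ r = 1) (hm : mv σ = k * r) (f : Fin (a * b) → Fin b)
    (hf : ∀ j, Nat.card {x : Fin (a * b) // f x = j} = a) (π : Perm (Fin b))
    (hπ : ∀ x, f (σ x) = π (f x)) :
    ∃ c, r * c ≤ b ∧ a * c ≤ k ∧ k ≤ a * c + (b - r * c) * (a / r) := by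
  classical
  have hsurj : ∀ j, ∃ x, f x = j := fun j => by
    by_contra h
    push Not at h
    have : IsEmpty {x // f x = j} := ⟨fun x => h x.1 x.2⟩
    have := hf j
    rw [Nat.card_of_isEmpty] at this
    omega
  have hpow : ∀ (n : ℕ) x, f ((σ ^ n) x) = (π ^ n) (f x) := by
    intro n
    induction n with
    | zero => simp
    | succ n ih => intro x; rw [pow_succ', pow_succ', Perm.mul_apply, Perm.mul_apply, hπ, ih]
  have hπr : π ^ r = 1 := Equiv.ext fun j => by
    obtain ⟨x, rfl⟩ := hsurj j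
    rw [← hpow, hσ]; rfl
  obtain ⟨c, hc⟩ := dvd_mv hr hπr
  refine ⟨c, ?_, ?_⟩
  · rw [← hc]
    exact (Finite.card_subtype_le _).trans_eq (Nat.card_fin b)
  have hsplit : ∑ j, Nat.card {x // σ x ≠ x ∧ f x = j} = k * r := by
    rw [← hm, mv, ← Nat.card_sigma]
    exact Nat.card_congr
      { toFun := fun p => ⟨p.2.1, p.2.2.1⟩
        invFun := fun x => ⟨f x.1, x.1, x.2, rfl⟩
        left_inv := by rintro ⟨j, x, h1, rfl⟩; rfl
        right_inv := fun x => rfl }
  have hmoved : ∀ j, π j ≠ j → Nat.card {x // σ x ≠ x ∧ f x = j} = a := by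
    intro j hj
    refine Eq.trans ?_ (hf j)
    exact Nat.card_congr (Equiv.subtypeEquivRight fun x =>
      ⟨fun h => h.2, fun h => ⟨fun e => hj (by rw [← h, ← hπ, e]), h⟩⟩)
  have hfix : ∀ j, π j = j → ∃ i, i ≤ a / r ∧ Nat.card {x // σ x ≠ x ∧ f x = j} = i * r := by
    intro j hj
    have hst : ∀ x, f (σ x) = j ↔ f x = j := fun x =>
      ⟨fun h => π.injective (by rw [← hπ, h, hj]), fun h => by rw [hπ, h, hj]⟩
    let σ' : Perm {x // f x = j} := σ.subtypePerm hst
    have h' : σ' ^ r = 1 := by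
      refine Equiv.ext fun x => Subtype.ext ?_
      rw [Perm.subtypePerm_pow]
      simp [hσ]
    obtain ⟨i, hi⟩ := dvd_mv hr h'
    have e : Nat.card {x // σ x ≠ x ∧ f x = j} = mv σ' := Nat.card_congr
      { toFun := fun x => ⟨⟨x.1, x.2.2⟩, fun h => x.2.1 (congrArg Subtype.val h)⟩
        invFun := fun x => ⟨x.1.1, fun h => x.2 (Subtype.ext h), x.1.2⟩
        left_inv := fun x => rfl
        right_inv := fun x => rfl }
    refine ⟨i, ?_, by rw [e, hi, mul_comm]⟩
    rw [Nat.le_div_iff_mul_le hr.pos, mul_comm, ← hi]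
    exact (Finite.card_subtype_le _).trans_eq (hf j)
  have hcardπ : (Finset.univ.filter fun j => π j ≠ j).card = r * c := by
    rw [← hc, mv, Nat.card_eq_fintype_card, Fintype.card_subtype]
  choose i hi using fun (j : {j // π j = j}) => hfix j.1 j.2
  rw [← Finset.sum_filter_add_sum_filter_not Finset.univ (fun j => π j ≠ j),
    Finset.sum_congr rfl fun j hj => hmoved j (Finset.mem_filter.1 hj).2, Finset.sum_const,
    smul_eq_mul, hcardπ] at hsplit
  have hrest : ∑ j ∈ Finset.univ.filter (fun j => ¬ π j ≠ j), Nat.card {x // σ x ≠ x ∧ f x = j} =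
      (∑ j : {j // π j = j}, i j) * r := by
    rw [Finset.sum_mul, Finset.sum_congr rfl fun j _ => ((hi j).2).symm]
    exact Finset.sum_subtype (p := fun j => π j = j) _ (by simp)
      (fun j => Nat.card {x // σ x ≠ x ∧ f x = j})
  rw [hrest, show r * c * a = a * c * r by ring, ← add_mul] at hsplit
  have hk := Nat.eq_of_mul_eq_mul_right hr.pos hsplit
  have hle : ∑ j : {j // π j = j}, i j ≤ (b - r * c) * (a / r) := by
    refine (Finset.sum_le_card_nsmul _ _ _ fun j _ => (hi j).1).trans ?_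
    rw [smul_eq_mul, Finset.card_univ, Fintype.card_subtype]
    refine Nat.mul_le_mul_right _ ?_
    have := Finset.card_filter_add_card_filter_not (s := (Finset.univ : Finset (Fin b)))
      (fun j => π j ≠ j)
    rw [hcardπ, Finset.card_univ, Fintype.card_fin] at this
    simp only [not_not] at this
    omega
  omega

end CfsgLib.Char.UniformPartition
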