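import Mathlib
import Cfsg.Prelude.Def_Classical
import Cfsg.Agent.Lib.Char.GaloisSixteen

/-!
# The unital of `SU(3,4)` and its code over the field with five elements

The 65 isotropic points of the hermitian plane over the field with sixteen elements, the space of
functions on them with values in `ZMod 5` whose sum over every polar line vanishes, and the fact
that only the constants in it are fixed modulo constants by an element of order 13.
-/

set_option autoImplicit false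

namespace CfsgLib.Char.Unital

open Matrix

/-- Vectors of the natural module. -/
abbrev V3 := Fin 3 → K16

/-- The group `SU(3,4)` over the concrete field. -/
abbrev SU4 := ↥(Cfsg.SU 3 K16 4)

/-- The matrix action on vectors. -/
def ap (g : SU4) (v : V3) : V3 := g.1.1 *ᵥ v

/-- The hermitian form. -/
abbrev hf (u v : V3) : K16 := Cfsg.hermForm 3 K16 4 u v

theorem hf_ap (g : SU4) (u v : V3) : hf (ap g u) (ap g v) = hf u v := g.2 u v

theorem ap_mul (g g' : SU4) (v : V3) : ap (g * g') v = ap g (ap g' v) :=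
  (Matrix.mulVec_mulVec v g.1.1 g'.1.1).symm

theorem ap_one (v : V3) : ap 1 v = v := Matrix.one_mulVec v

theorem hf_expand (u v : V3) : hf u v = u 0 * v 0 ^ 4 + u 1 * v 1 ^ 4 + u 2 * v 2 ^ 4 :=
  Fin.sum_univ_three _

theorem hf_smul_left (c : K16) (u v : V3) : hf (c • u) v = c * hf u v := by
  simp only [hf_expand, Pi.smul_apply, smul_eq_mul]; ring

theorem hf_smul_right (c : K16) (u v : V3) : hf u (c • v) = c ^ 4 * hf u v := by
  simp only [hf_expand, Pi.smul_apply, smul_eq_mul]; ring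

/-- The representative with first non-zero coordinate one. -/
def nrm (v : V3) : V3 :=
  if v 0 ≠ 0 then (v 0)⁻¹ • v else if v 1 ≠ 0 then (v 1)⁻¹ • v
    else if v 2 ≠ 0 then (v 2)⁻¹ • v else 0

theorem exists_nrm {v : V3} (hv : v ≠ 0) : ∃ c : K16, c ≠ 0 ∧ nrm v = c • v := by
  by_cases h0 : v 0 ≠ 0
  · exact ⟨(v 0)⁻¹, inv_ne_zero h0, by simp [nrm, h0]⟩
  by_cases h1 : v 1 ≠ 0
  · exact ⟨(v 1)⁻¹, inv_ne_zero h1, by simp [nrm, h0, h1]⟩
  by_cases h2 : v 2 ≠ 0
  · exact ⟨(v 2)⁻¹, inv_ne_zero h2, by simp [nrm, h0, h1, h2]⟩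
  exfalso; apply hv; funext i; push Not at h0 h1 h2
  fin_cases i <;> assumption

theorem nrm_smul {c : K16} (hc : c ≠ 0) (v : V3) : nrm (c • v) = nrm v := by
  unfold nrm
  simp only [Pi.smul_apply, smul_eq_mul, mul_ne_zero_iff_left hc, ne_eq]
  split_ifs <;> simp_all [smul_smul, _root_.mul_inv_rev, mul_assoc]

/-- The list of isotropic points. -/
def wordL : List (ℕ × ℕ × ℕ) := [(0, 1, 1), (0, 1, 8), (0, 1, 10), (0, 1, 12), (0, 1, 15), (1, 0, 1), (1, 0, 8), (1, 0, 10), (1, 0, 12), (1, 0, 15), (1, 1, 0), (1, 2, 4), (1, 2, 5), (1, 2, 6), (1, 2, 9), (1, 2, 14), (1, 3, 4), (1, 3, 5), (1, 3, 6), (1, 3, 9), (1, 3, 14), (1, 4, 2), (1, 4, 3), (1, 4, 7), (1, 4, 11), (1, 4, 13), (1, 5, 2), (1, 5, 3), (1, 5, 7), (1, 5, 11), (1, 5, 13), (1, 6, 2), (1, 6, 3), (1, 6, 7), (1, 6, 11), (1, 6, 13), (1, 7, 4), (1, 7, 5), (1, 7, 6), (1, 7, 9), (1, 7, 14), (1, 8, 0), (1, 9, 2), (1, 9, 3), (1, 9, 7), (1, 9, 11), (1, 9, 13), (1, 10, 0),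 (1, 11, 4), (1, 11, 5), (1, 11, 6), (1, 11, 9), (1, 11, 14), (1, 12, 0), (1, 13, 4), (1, 13, 5), (1, 13, 6), (1, 13, 9), (1, 13, 14), (1, 14, 2), (1, 14, 3), (1, 14, 7), (1, 14, 11), (1, 14, 13), (1, 15, 0)]

/-- The vector with the given codes. -/
def ofCode (w : ℕ × ℕ × ℕ) : V3 := ![K16.ofNat w.1, K16.ofNat w.2.1, K16.ofNat w.2.2]

/-- The isotropic points, as normalised vectors. -/
def vecs (i : Fin 65) : V3 := ofCode (wordL.getD i.val (0, 0, 0))

theorem vecs_injective : Function.Injective vecs := by decide +kernel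

theorem vecs_spec : ∀ i, nrm (vecs i) = vecs i ∧ vecs i ≠ 0 ∧ hf (vecs i) (vecs i) = 0 := by
  decide +kernel

theorem normal_forms {v : V3} (hn : nrm v = v) (hv : v ≠ 0) :
    (∃ a b, v = ![1, a, b]) ∨ (∃ a, v = ![0, 1, a]) ∨ v = ![0, 0, 1] := by
  by_cases h0 : v 0 = 0
  · by_cases h1 : v 1 = 0
    · have h2 : v 2 ≠ 0 := fun h2 => hv (by funext i; fin_cases i <;> assumption)
      refine Or.inr (Or.inr ?_)
      have := congrFun hn 2
      simp [nrm, h0, h1, h2] at this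
      funext i; fin_cases i <;> simp [h0, h1, ← this]
    · refine Or.inr (Or.inl ⟨v 2, ?_⟩)
      have := congrFun hn 1
      simp [nrm, h0, h1] at this
      funext i; fin_cases i <;> simp [h0, ← this]
  · refine Or.inl ⟨v 1, v 2, ?_⟩
    have := congrFun hn 0
    simp [nrm, h0] at this
    funext i; fin_cases i <;> simp [← this]

theorem vecs_complete {v : V3} (hn : nrm v = v) (hv : v ≠ 0) (h : hf v v = 0) : ∃ i, vecs i = v := by
  have h1 : ∀ a b : K16, hf ![1, a, b] ![1, a, b] = 0 → ∃ i, vecs i = ![1, a, b] := by decide +kernel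
  have h2 : ∀ a : K16, hf ![0, 1, a] ![0, 1, a] = 0 → ∃ i, vecs i = ![0, 1, a] := by decide +kernel
  have h3 : hf ![0, 0, 1] ![0, 0, 1] = 0 → ∃ i, vecs i = ![0, 0, 1] := by decide +kernel
  rcases normal_forms hn hv with ⟨a, b, rfl⟩ | ⟨a, rfl⟩ | rfl
  exacts [h1 a b h, h2 a h, h3 h]

/-- An isotropic point. -/
abbrev Pt := {v : V3 // ∃ i, vecs i = v}

instance : Finite Pt := Subtype.finite

theorem nrm_ap_mem (g : SU4) (p : Pt) : ∃ i, vecs i = nrm (ap g p.1) := by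
  obtain ⟨i, hi⟩ := p.2
  obtain ⟨hn, hne, h0⟩ := vecs_spec i
  rw [← hi]
  have hne' : ap g (vecs i) ≠ 0 := fun h => hne (by
    have := congrArg (ap g⁻¹) h
    rwa [← ap_mul, inv_mul_cancel, ap_one, show ap g⁻¹ 0 = 0 from Matrix.mulVec_zero _] at this)
  obtain ⟨c, hc, hcv⟩ := exists_nrm hne'
  refine vecs_complete ?_ ?_ ?_
  · conv_lhs => rw [hcv, nrm_smul hc]
  · rw [hcv]; exact smul_ne_zero hc hne'
  · rw [hcv, hf_smul_left, hf_smul_right, hf_ap, h0, mul_zero, mul_zero]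

instance : SMul SU4 Pt := ⟨fun g p => ⟨nrm (ap g p.1), nrm_ap_mem g p⟩⟩

theorem smul_val (g : SU4) (p : Pt) : (g • p).1 = nrm (ap g p.1) := rfl

instance : MulAction SU4 Pt where
  one_smul p := by
    obtain ⟨i, hi⟩ := p.2
    apply Subtype.ext
    rw [smul_val, ap_one, ← hi, (vecs_spec i).1]
  mul_smul g g' p := by
    apply Subtype.ext
    rw [smul_val, smul_val, smul_val, ap_mul]
    by_cases h : ap g' p.1 = 0
    · rw [h, show ap g 0 = 0 from Matrix.mulVec_zero _]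
      simp [nrm, ap]
    · obtain ⟨c, hc, hcv⟩ := exists_nrm h
      conv_rhs => rw [hcv, show ap g (c • ap g' p.1) = c • ap g (ap g' p.1) from
        Matrix.mulVec_smul _ _ _, nrm_smul hc]

/-- The numbering of the points. -/
noncomputable def ptEquiv : Fin 65 ≃ Pt :=
  Equiv.ofBijective (fun i => ⟨vecs i, i, rfl⟩)
    ⟨fun _ _ h => vecs_injective (congrArg Subtype.val h), fun p => p.2.imp fun _ h => Subtype.ext h⟩

theorem ptEquiv_val (i : Fin 65) : (ptEquiv i).1 = vecs i := rfl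

noncomputable instance : Fintype Pt := Fintype.ofFinite Pt

/-- Functions on the points with sum zero on every polar line. -/
noncomputable def code : AddSubgroup (Pt → ZMod 5) where
  carrier := {f | ∀ u : V3, hf u u ≠ 0 → ∑ p : Pt, (if hf p.1 u = 0 then f p else 0) = 0}
  zero_mem' u _ := by simp
  add_mem' {f f'} hf1 hf2 u hu := by
    have := (hf1 u hu)
    simp only [Pi.add_apply, ite_add_zero, Finset.sum_add_distrib, hf1 u hu, hf2 u hu, add_zero]
  neg_mem' {f} hf1 u hu := by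
    refine Eq.trans ?_ (neg_eq_zero.2 (hf1 u hu))
    rw [← Finset.sum_neg_distrib]
    exact Finset.sum_congr rfl fun p _ => by split <;> simp

theorem code_smul {f : Pt → ZMod 5} (hf1 : f ∈ code) (g : SU4) : (fun p => f (g⁻¹ • p)) ∈ code := by
  intro u hu
  have key : ∀ q : Pt, hf (g • q).1 u = 0 ↔ hf q.1 (ap g⁻¹ u) = 0 := by
    intro q
    obtain ⟨i, hi⟩ := q.2
    have hne' : ap g q.1 ≠ 0 := fun h => (vecs_spec i).2.1 (by
      have := congrArg (ap g⁻¹) h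
      rw [← ap_mul, inv_mul_cancel, ap_one, show ap g⁻¹ 0 = 0 from Matrix.mulVec_zero _] at this
      rw [hi, this])
    obtain ⟨c, hc, hcv⟩ := exists_nrm hne'
    have h := hf_ap g q.1 (ap g⁻¹ u)
    rw [← ap_mul, mul_inv_cancel, ap_one] at h
    rw [smul_val, hcv, hf_smul_left, h, mul_eq_zero]
    simp [hc]
  refine Eq.trans ?_ (hf1 (ap g⁻¹ u) (by rw [hf_ap]; exact hu))
  rw [← Equiv.sum_comp (MulAction.toPerm g)]
  exact Finset.sum_congr rfl fun q _ => by
    simp only [MulAction.toPerm_apply, key, inv_smul_smul]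

theorem const_mem_code_aux : ∀ u : V3, nrm u = u → hf u u ≠ 0 →
    (Finset.univ.filter fun i : Fin 65 => hf (vecs i) u = 0).card % 5 = 0 := by
  intro u hn hu
  have h1 : ∀ a b : K16, hf ![1, a, b] ![1, a, b] ≠ 0 →
      (Finset.univ.filter fun i : Fin 65 => hf (vecs i) ![1, a, b] = 0).card % 5 = 0 := by
    decide +kernel
  have h2 : ∀ a : K16, hf ![0, 1, a] ![0, 1, a] ≠ 0 →
      (Finset.univ.filter fun i : Fin 65 => hf (vecs i) ![0, 1, a] = 0).card % 5 = 0 := by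
    decide +kernel
  have h3 : hf ![0, 0, 1] ![0, 0, 1] ≠ 0 →
      (Finset.univ.filter fun i : Fin 65 => hf (vecs i) ![0, 0, 1] = 0).card % 5 = 0 := by
    decide +kernel
  have hv : u ≠ 0 := fun h => hu (by rw [h, hf_expand]; simp)
  rcases normal_forms hn hv with ⟨a, b, rfl⟩ | ⟨a, rfl⟩ | rfl
  exacts [h1 a b hu, h2 a hu, h3 hu]

theorem sum_line_normalise {u : V3} (hu : hf u u ≠ 0) : ∃ u', nrm u' = u' ∧ hf u' u' ≠ 0 ∧
    ∀ v, hf v u = 0 ↔ hf v u' = 0 := by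
  have hv : u ≠ 0 := fun h => hu (by rw [h, hf_expand]; simp)
  obtain ⟨c, hc, hcv⟩ := exists_nrm hv
  refine ⟨nrm u, by conv_lhs => rw [hcv, nrm_smul hc], ?_, fun v => ?_⟩
  · rw [hcv, hf_smul_left, hf_smul_right]; simp [hc, hu]
  · rw [hcv, hf_smul_right]; simp [hc]

theorem sum_line_eq (f : Pt → ZMod 5) (u : V3) :
    ∑ p : Pt, (if hf p.1 u = 0 then f p else 0) =
      ∑ i : Fin 65, if hf (vecs i) u = 0 then f (ptEquiv i) else 0 := by
  rw [← ptEquiv.sum_comp]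
  rfl

theorem const_mem_code (c : ZMod 5) : (fun _ : Pt => c) ∈ code := by
  intro u hu
  obtain ⟨u', hn, hu', hiff⟩ := sum_line_normalise hu
  simp only [hiff]
  rw [sum_line_eq (fun _ => c), ← Finset.sum_filter, Finset.sum_const]
  obtain ⟨k, hk⟩ := Nat.dvd_of_mod_eq_zero (const_mem_code_aux u' hn hu')
  rw [hk, mul_nsmul', ← Nat.cast_smul_eq_nsmul (ZMod 5), show ((5 : ℕ) : ZMod 5) = 0 from rfl,
    zero_smul]

/-- A non-constant element of the code. -/
def fL : List (ZMod 5) := [0, 3, 3, 4, 0, 2, 1, 0, 2, 0, 0, 1, 4, 0, 2, 3, 1, 3, 0, 1, 0, 0, 0, 4, 3, 3, 0, 1, 3, 2, 4, 2, 0, 4, 4, 0, 1, 1, 4, 2, 2, 0, 3, 4, 4, 1, 3, 0, 2, 2, 1, 0, 0, 0, 0, 0, 0, 0, 0, 0, 0, 0, 0, 0, 0]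

/-- The same, as a function on points. -/
noncomputable def fPt (p : Pt) : ZMod 5 := fL.getD (ptEquiv.symm p).val 0

theorem fPt_mem : fPt ∈ code := by
  intro u hu
  obtain ⟨u', hn, hu', hiff⟩ := sum_line_normalise hu
  simp only [hiff, sum_line_eq, fPt, Equiv.symm_apply_apply]
  have h1 : ∀ a b : K16, hf ![1, a, b] ![1, a, b] ≠ 0 →
      (∑ i : Fin 65, if hf (vecs i) ![1, a, b] = 0 then fL.getD i.val 0 else 0) = 0 := by
    decide +kernel
  have h2 : ∀ a : K16, hf ![0, 1, a] ![0, 1, a] ≠ 0 →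
      (∑ i : Fin 65, if hf (vecs i) ![0, 1, a] = 0 then fL.getD i.val 0 else 0) = 0 := by
    decide +kernel
  have h3 : hf ![0, 0, 1] ![0, 0, 1] ≠ 0 →
      (∑ i : Fin 65, if hf (vecs i) ![0, 0, 1] = 0 then fL.getD i.val 0 else 0) = 0 := by
    decide +kernel
  have hv : u' ≠ 0 := fun h => hu' (by rw [h, hf_expand]; simp)
  rcases normal_forms hn hv with ⟨a, b, rfl⟩ | ⟨a, rfl⟩ | rfl
  exacts [h1 a b hu', h2 a hu', h3 hu']

theorem fPt_not_const : fPt (ptEquiv 0) ≠ fPt (ptEquiv 1) := by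
  simp only [fPt, Equiv.symm_apply_apply]
  decide

theorem mem_su_of_mul {A : Matrix.SpecialLinearGroup (Fin 3) K16}
    (hA : A.1ᵀ * A.1.map (fun x => x ^ 4) = 1) : A ∈ Cfsg.SU 3 K16 4 := by
  intro u v
  show hf (A.1 *ᵥ u) (A.1 *ᵥ v) = hf u v
  have e := fun i j => congrFun (congrFun hA i) j
  simp only [Matrix.mul_apply, Matrix.map_apply, Matrix.transpose_apply, Fin.sum_univ_three] at e
  simp only [hf_expand, Matrix.mulVec, dotProduct, Fin.sum_univ_three, K16.pow_four_add, mul_pow]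
  linear_combination (norm := skip) u 0 * v 0 ^ 4 * e 0 0 + u 0 * v 1 ^ 4 * e 0 1 +
    u 0 * v 2 ^ 4 * e 0 2 + u 1 * v 0 ^ 4 * e 1 0 + u 1 * v 1 ^ 4 * e 1 1 + u 1 * v 2 ^ 4 * e 1 2 +
    u 2 * v 0 ^ 4 * e 2 0 + u 2 * v 1 ^ 4 * e 2 1 + u 2 * v 2 ^ 4 * e 2 2
  simp [Matrix.one_apply]
  ring

/-- The element of `SU(3,4)` with the given matrix. -/
def mkSU (A : Matrix (Fin 3) (Fin 3) K16) (hd : A.det = 1)
    (hA : Aᵀ * A.map (fun x => x ^ 4) = 1) : SU4 :=
  ⟨⟨A, hd⟩, mem_su_of_mul hA⟩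

/-- An element of order 13. -/
def g13 : SU4 :=
  mkSU (Matrix.of ![![K16.ofNat 3, K16.ofNat 8, K16.ofNat 3],
    ![K16.ofNat 12, K16.ofNat 2, K16.ofNat 3], ![K16.ofNat 11, K16.ofNat 3, K16.ofNat 10]])
    (by decide +kernel) (by decide +kernel)

def nxtL : List (Fin 65) := [29, 36, 19, 60, 6, 1, 51, 17, 34, 61, 20, 63, 54, 49, 5, 45, 41, 57, 7, 3, 27, 64, 2, 52, 21, 8, 9, 15, 37, 42, 25, 0, 16, 22, 26, 12, 38, 56, 13, 18, 50, 10, 48, 23, 53, 31, 39, 14, 32, 55, 28, 47, 40, 62, 11, 58, 35, 44, 4, 24, 30, 33, 59, 43, 46]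
def prvL : List (Fin 65) := [31, 5, 22, 19, 58, 14, 4, 18, 25, 26, 41, 54, 35, 38, 47, 27, 32, 7, 39, 2, 10, 24, 33, 43, 59, 30, 34, 20, 50, 0, 60, 45, 48, 61, 8, 56, 1, 28, 36, 46, 52, 16, 29, 63, 57, 15, 64, 51, 42, 13, 40, 6, 23, 44, 12, 49, 37, 17, 55, 62, 3, 9, 53, 11, 21]
def orbL : List (Fin 5) := [0, 1, 2, 2, 1, 1, 1, 3, 2, 2, 0, 4, 4, 1, 1, 0, 0, 3, 3, 2, 0, 3, 2, 4, 3, 2, 2, 0, 4, 0, 2, 0, 0, 2, 2, 4, 1, 4, 1, 3, 4, 0, 0, 4, 3, 0, 3, 1, 0, 1, 4, 1, 4, 3, 4, 1, 4, 3, 1, 3, 2, 2, 3, 4, 3]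
def powL : List ℕ := [0, 0, 0, 2, 7, 12, 8, 0, 6, 9, 7, 0, 11, 3, 11, 10, 5, 1, 12, 1, 8, 8, 12, 3, 7, 5, 8, 9, 7, 1, 4, 12, 4, 11, 7, 10, 1, 8, 2, 11, 5, 6, 2, 2, 3, 11, 10, 10, 3, 4, 6, 9, 4, 4, 12, 5, 9, 2, 6, 6, 3, 10, 5, 1, 9]
def repL : List (Fin 65) := [0, 1, 2, 7, 11]

theorem nxt_spec : ∀ i : Fin 65, nrm (ap g13 (vecs i)) = vecs (nxtL.getD i.val 0) := by
  decide +kernel

theorem orbit_tables : ∀ i : Fin 65, (powL.getD i.val 0 = 0 → repL.getD (orbL.getD i.val 0).val 0 = i) ∧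
    (powL.getD i.val 0 ≠ 0 → nxtL.getD (prvL.getD i.val 0).val 0 = i ∧
      orbL.getD (prvL.getD i.val 0).val 0 = orbL.getD i.val 0 ∧
      powL.getD (prvL.getD i.val 0).val 0 + 1 = powL.getD i.val 0) := by
  decide +kernel

theorem eq_rep {f : Fin 65 → ZMod 5} (h : ∀ i : Fin 65, f (nxtL.getD i.val 0) = f i) (i : Fin 65) :
    f i = f (repL.getD (orbL.getD i.val 0).val 0) := by
  suffices ∀ n (j : Fin 65), powL.getD j.val 0 = n →
      f j = f (repL.getD (orbL.getD j.val 0).val 0) from this _ i rfl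
  intro n
  induction n with
  | zero => intro j hj; rw [(orbit_tables j).1 hj]
  | succ n ih =>
    intro j hj
    obtain ⟨h1, h2, h3⟩ := (orbit_tables j).2 (by omega)
    conv_lhs => rw [← h1, h, ih _ (by omega), h2]

theorem solve_orbit_equations : ∀ a b c d e : ZMod 5, a + a + b + d + d = 0 → b + b + d + c + c = 0 →
    c + a + a + d + d = 0 → e + a + b + b + e = 0 → b = a ∧ c = a ∧ d = a ∧ e = a := by
  decide +kernel

theorem filter_line_a : (Finset.univ.filter fun i : Fin 65 => hf (vecs i) ![0, 0, 1] = 0) =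
    {10, 41, 47, 53, 64} := by decide +kernel

theorem filter_line_b : (Finset.univ.filter fun i : Fin 65 => hf (vecs i) ![0, 1, 0] = 0) =
    {5, 6, 7, 8, 9} := by decide +kernel

theorem filter_line_c : (Finset.univ.filter fun i : Fin 65 =>
    hf (vecs i) ![0, 1, K16.ofNat 2] = 0) = {25, 27, 31, 44, 62} := by decide +kernel

theorem filter_line_d : (Finset.univ.filter fun i : Fin 65 =>
    hf (vecs i) ![0, 1, K16.ofNat 4] = 0) = {12, 20, 36, 51, 56} := by decide +kernel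

/-- Only constants of the code are fixed by `g13`. -/
theorem const_of_fixed {f : Pt → ZMod 5} (hf1 : f ∈ code) (hfix : ∀ p, f (g13 • p) = f p) :
    ∀ p, f p = f (ptEquiv 0) := by
  let F := fun i => f (ptEquiv i)
  have hN : ∀ i : Fin 65, F (nxtL.getD i.val 0) = F i := fun i => by
    have h := hfix (ptEquiv i)
    rwa [show g13 • ptEquiv i = ptEquiv (nxtL.getD i.val 0) from Subtype.ext (nxt_spec i)] at h
  have line : ∀ u : V3, hf u u ≠ 0 → ∀ s, (Finset.univ.filter fun i : Fin 65 => hf (vecs i) u = 0) = s →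
      ∑ i ∈ s, F i = 0 := by
    intro u hu s hs
    rw [← hs, Finset.sum_filter, ← sum_line_eq]
    exact hf1 u hu
  have hR := eq_rep hN
  have ea := line _ (by decide +kernel) _ filter_line_a
  have eb := line _ (by decide +kernel) _ filter_line_b
  have ec := line _ (by decide +kernel) _ filter_line_c
  have ed := line _ (by decide +kernel) _ filter_line_d
  simp (config := {decide := true}) only [Finset.sum_insert, Finset.sum_singleton, Finset.mem_insert,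
    Finset.mem_singleton, not_false_eq_true, ← add_assoc] at ea eb ec ed
  rw [hR 10, hR 41, hR 47, hR 53, hR 64] at ea
  rw [hR 5, hR 6, hR 7, hR 8, hR 9] at eb
  rw [hR 25, hR 27, hR 31, hR 44, hR 62] at ec
  rw [hR 12, hR 20, hR 36, hR 51, hR 56] at ed
  obtain ⟨h1, h2, h3, h4⟩ := solve_orbit_equations (F 0) (F 1) (F 2) (F 7) (F 11) ea eb ec ed
  intro p
  obtain ⟨i, rfl⟩ := ptEquiv.surjective p
  have hi : repL.getD (orbL.getD i.val 0).val 0 ∈ ({0, 1, 2, 7, 11} : Finset (Fin 65)) := by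
    have : ∀ o : Fin 5, repL.getD o.val 0 ∈ ({0, 1, 2, 7, 11} : Finset (Fin 65)) := by decide
    exact this _
  show F i = F 0
  rw [hR i]
  simp only [Finset.mem_insert, Finset.mem_singleton] at hi
  rcases hi with h | h | h | h | h <;> rw [h] <;> first | rfl | assumption

end CfsgLib.Char.Unital
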