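import Mathlib
import Cfsg.Agent.Lib.Char.UnitalFive

/-!
# The group `SU(3,4)`: order, centre, some elements, Sylow 13-subgroups
-/

set_option autoImplicit false

namespace CfsgLib.Char.Unital

open Matrix

/-- First unit vector. -/
def e0 : V3 := ![1, 0, 0]

instance unitalVecAction : MulAction SU4 V3 where
  smul g v := ap g v
  one_smul := ap_one
  mul_smul := ap_mul

/-- The conjugate of the cross product. -/
def cross (u v : V3) : V3 :=
  ![(u 1 * v 2 + u 2 * v 1) ^ 4, (u 2 * v 0 + u 0 * v 2) ^ 4, (u 0 * v 1 + u 1 * v 0) ^ 4]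

theorem two_eq_zero : (2 : K16) = 0 := by decide +kernel

theorem lagrange_two {R : Type*} [CommRing R] (h2 : (2 : R) = 0) {a b c x y z a' b' c' x' y' z' : R}
    (hu : a * a' + b * b' + c * c' = 1) (hv : x * x' + y * y' + z * z' = 1)
    (hvu : x * a' + y * b' + z * c' = 0) :
    (b * z + c * y) * (b' * z' + c' * y') + (c * x + a * z) * (c' * x' + a' * z') +
      (a * y + b * x) * (a' * y' + b' * x') = 1 := by
  linear_combination (x * x' + y * y' + z * z') * hu + hv -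
    (a * x' + b * y' + c * z') * hvu +
    (b * z * c' * y' + c * y * b' * z' + c * x * a' * z' + a * z * c' * x' + a * y * b' * x' +
      b * x * a' * y') * h2

theorem su_of_frame {u v : V3} (hu : hf u u = 1) (hv : hf v v = 1) (hvu : hf v u = 0) :
    ∃ g : SU4, (∀ i, g.1.1 i 0 = u i) ∧ (∀ i, g.1.1 i 1 = v i) := by
  have huv : hf u v = 0 := by
    have h := congrArg (fun x : K16 => x ^ 4) hvu
    simp only [hf_expand, K16.pow_four_add, mul_pow, K16.pow_four_pow_four] at h ⊢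
    rw [zero_pow (by norm_num)] at h
    linear_combination h
  obtain ⟨a, b, c, rfl⟩ : ∃ a b c, u = ![a, b, c] :=
    ⟨u 0, u 1, u 2, by funext i; fin_cases i <;> rfl⟩
  obtain ⟨x, y, z, rfl⟩ : ∃ x y z, v = ![x, y, z] :=
    ⟨v 0, v 1, v 2, by funext i; fin_cases i <;> rfl⟩
  rw [hf_expand] at hu hv hvu huv
  replace hu : a * a ^ 4 + b * b ^ 4 + c * c ^ 4 = 1 := hu
  replace hv : x * x ^ 4 + y * y ^ 4 + z * z ^ 4 = 1 := hv
  replace hvu : x * a ^ 4 + y * b ^ 4 + z * c ^ 4 = 0 := hvu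
  replace huv : a * x ^ 4 + b * y ^ 4 + c * z ^ 4 = 0 := huv
  let A : Matrix (Fin 3) (Fin 3) K16 := Matrix.of ![![a, x, (b * z + c * y) ^ 4],
    ![b, y, (c * x + a * z) ^ 4], ![c, z, (a * y + b * x) ^ 4]]
  have hL := lagrange_two two_eq_zero hu hv hvu
  have hd : A.det = 1 := by
    rw [Matrix.det_fin_three]
    show a * y * (a * y + b * x) ^ 4 - a * (c * x + a * z) ^ 4 * z - x * b * (a * y + b * x) ^ 4 +
      x * (c * x + a * z) ^ 4 * c + (b * z + c * y) ^ 4 * b * z - (b * z + c * y) ^ 4 * y * c = 1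
    simp only [K16.pow_four_add, mul_pow]
    linear_combination hL - (a * z * (c ^ 4 * x ^ 4 + a ^ 4 * z ^ 4) +
      b * x * (a ^ 4 * y ^ 4 + b ^ 4 * x ^ 4) + c * y * (b ^ 4 * z ^ 4 + c ^ 4 * y ^ 4)) * two_eq_zero
  have hd0 : a * (b * z + c * y) + b * (c * x + a * z) + c * (a * y + b * x) = 0 := by
    linear_combination (a * b * z + a * c * y + b * c * x) * two_eq_zero
  have hd1 : x * (b * z + c * y) + y * (c * x + a * z) + z * (a * y + b * x) = 0 := by
    linear_combination (x * b * z + x * c * y + a * y * z) * two_eq_zero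
  have hd2 : (b * z + c * y) ^ 4 * a ^ 4 + (c * x + a * z) ^ 4 * b ^ 4 + (a * y + b * x) ^ 4 * c ^ 4
      = 0 := by
    have h := congrArg (fun t : K16 => t ^ 4) hd0
    simp only [K16.pow_four_add, mul_pow] at h ⊢
    rw [zero_pow (by norm_num)] at h
    linear_combination h
  have hd3 : (b * z + c * y) ^ 4 * x ^ 4 + (c * x + a * z) ^ 4 * y ^ 4 + (a * y + b * x) ^ 4 * z ^ 4
      = 0 := by
    have h := congrArg (fun t : K16 => t ^ 4) hd1
    simp only [K16.pow_four_add, mul_pow] at h ⊢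
    rw [zero_pow (by norm_num)] at h
    linear_combination h
  have hL' : (b * z + c * y) ^ 4 * ((b * z + c * y) ^ 4) ^ 4 +
      (c * x + a * z) ^ 4 * ((c * x + a * z) ^ 4) ^ 4 +
      (a * y + b * x) ^ 4 * ((a * y + b * x) ^ 4) ^ 4 = 1 := by
    simp only [K16.pow_four_pow_four]
    simp only [K16.pow_four_add, mul_pow]
    linear_combination hL
  have hA : Aᵀ * A.map (fun x => x ^ 4) = 1 := by
    refine Matrix.ext fun i j => ?_
    simp only [Matrix.mul_apply, Fin.sum_univ_three, Matrix.transpose_apply, Matrix.map_apply]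
    fin_cases i <;> fin_cases j
    · exact hu
    · exact huv
    · show a * ((b * z + c * y) ^ 4) ^ 4 + b * ((c * x + a * z) ^ 4) ^ 4 +
        c * ((a * y + b * x) ^ 4) ^ 4 = 0
      rw [K16.pow_four_pow_four, K16.pow_four_pow_four, K16.pow_four_pow_four, hd0]
    · exact hvu
    · exact hv
    · show x * ((b * z + c * y) ^ 4) ^ 4 + y * ((c * x + a * z) ^ 4) ^ 4 +
        z * ((a * y + b * x) ^ 4) ^ 4 = 0
      rw [K16.pow_four_pow_four, K16.pow_four_pow_four, K16.pow_four_pow_four, hd1]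
    · exact hd2
    · exact hd3
    · exact hL'
  exact ⟨mkSU A hd hA, fun i => by fin_cases i <;> rfl, fun i => by fin_cases i <;> rfl⟩

theorem unit_extend_normal : (∀ a b : K16, hf ![1, a, b] ![1, a, b] ≠ 0 → ∃ c d : K16,
      hf ![1, c, d] ![1, a, b] = 0 ∧ hf ![1, c, d] ![1, c, d] ≠ 0 ∨
      hf ![0, 1, c] ![1, a, b] = 0 ∧ hf ![0, 1, c] ![0, 1, c] ≠ 0 ∨
      hf ![0, 0, 1] ![1, a, b] = 0) ∧
    (∀ a : K16, hf ![0, 1, a] ![0, 1, a] ≠ 0 →
      hf ![1, 0, 0] ![0, 1, a] = 0) ∧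
    hf ![1, 0, 0] ![0, 0, 1] = 0 := by
  decide +kernel

theorem exists_fifth_root_inv : ∀ x : K16, x ^ 4 = x → x ≠ 0 → ∃ c : K16, c * c ^ 4 * x = 1 := by
  decide +kernel

theorem hf_self_fixed (v : V3) : hf v v ^ 4 = hf v v := by
  simp only [hf_expand, K16.pow_four_add, mul_pow, K16.pow_four_pow_four]
  ring

theorem exists_orth_unit {u : V3} (hu : hf u u = 1) : ∃ v, hf v v = 1 ∧ hf v u = 0 := by
  suffices ∃ w, hf w w ≠ 0 ∧ hf w u = 0 by
    obtain ⟨w, hw, hwu⟩ := this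
    obtain ⟨c, hc⟩ := exists_fifth_root_inv _ (hf_self_fixed w) hw
    exact ⟨c • w, by rw [hf_smul_left, hf_smul_right, ← mul_assoc, hc],
      by rw [hf_smul_left, hwu, mul_zero]⟩
  obtain ⟨u', hn, hu', hiff⟩ := sum_line_normalise (u := u) (by rw [hu]; exact one_ne_zero)
  simp only [hiff]
  have hne : u' ≠ 0 := fun h => hu' (by rw [h, hf_expand]; simp)
  have e1 : hf ![1, 0, 0] ![1, 0, 0] ≠ 0 := by decide +kernel
  have e3 : hf ![0, 0, 1] ![0, 0, 1] ≠ 0 := by decide +kernel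
  rcases normal_forms hn hne with ⟨a, b, rfl⟩ | ⟨a, rfl⟩ | rfl
  · obtain ⟨c, d, h | h | h⟩ := unit_extend_normal.1 a b hu'
    exacts [⟨_, h.2, h.1⟩, ⟨_, h.2, h.1⟩, ⟨_, e3, h⟩]
  · exact ⟨_, e1, unit_extend_normal.2.1 a hu'⟩
  · exact ⟨_, e1, unit_extend_normal.2.2⟩

theorem ap_col (g : SU4) (i : Fin 3) : ap g (Pi.single i 1) = fun r => g.1.1 r i := by
  funext r
  simp [ap, Matrix.mulVec_single_one]

theorem e0_eq : e0 = Pi.single 0 1 := by decide +kernel

theorem orbit_e0 : MulAction.orbit SU4 e0 = {v | hf v v = 1} := by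
  ext v
  refine ⟨?_, fun hv => ?_⟩
  · rintro ⟨g, rfl⟩
    show hf (ap g e0) (ap g e0) = 1
    rw [hf_ap]; decide +kernel
  · obtain ⟨w, hw, hwv⟩ := exists_orth_unit hv
    obtain ⟨g, hg, -⟩ := su_of_frame hv hw hwv
    refine ⟨g, ?_⟩
    show ap g e0 = v
    rw [e0_eq, ap_col]
    exact funext hg

theorem ncard_unit : {v : V3 | hf v v = 1}.ncard = 1040 := by
  have h : Set.ncard {t : K16 × K16 × K16 | t.1 * t.1 ^ 4 + t.2.1 * t.2.1 ^ 4 + t.2.2 * t.2.2 ^ 4 = 1}
      = 1040 := by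
    rw [Set.ncard_eq_toFinset_card']
    decide +kernel
  rw [← h]
  refine Set.ncard_congr (fun v _ => (v 0, v 1, v 2)) (fun v hv => ?_) (fun v w _ _ h => ?_) ?_
  · exact (hf_expand v v).symm.trans hv
  · simp only [Prod.mk.injEq] at h
    funext i; fin_cases i
    exacts [h.1, h.2.1, h.2.2]
  · rintro ⟨a, b, c⟩ ht
    exact ⟨![a, b, c], (hf_expand _ _).trans ht, rfl⟩

theorem eq_one_of_fix (g : SU4) (h0 : ap g e0 = e0) (h1 : ap g (Pi.single 1 1) = Pi.single 1 1) :
    g = 1 := by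
  have h := hf_ap g
  rw [e0_eq, ap_col] at h0
  rw [ap_col] at h1
  have c := fun r => congrFun h0 r
  have d := fun r => congrFun h1 r
  have p := h (Pi.single 2 1) (Pi.single 0 1)
  have q := h (Pi.single 2 1) (Pi.single 1 1)
  rw [ap_col, ap_col] at p q
  simp [hf_expand, c, d, Pi.single_apply] at p q
  have hdet := g.1.2
  rw [Matrix.det_fin_three] at hdet
  simp [c, d, Pi.single_apply, p, q] at hdet
  apply Subtype.ext; apply Subtype.ext
  refine Matrix.ext fun r s => ?_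
  fin_cases s
  · fin_cases r <;> simp [c, Pi.single_apply]
  · fin_cases r <;> simp [d, Pi.single_apply]
  · fin_cases r <;> simp [p, q, hdet]

/-- Unit vectors orthogonal to the first one. -/
def Fib : Type := {t : K16 × K16 // t.1 * t.1 ^ 4 + t.2 * t.2 ^ 4 = 1}

instance : Fintype Fib := Subtype.fintype _

theorem card_stab : Nat.card (MulAction.stabilizer SU4 e0) = 60 := by
  have hcard : Nat.card Fib = 60 := by
    rw [Nat.card_eq_fintype_card]; decide +kernel
  rw [← hcard]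
  have key : ∀ g : MulAction.stabilizer SU4 e0, ap g.1 e0 = e0 := fun g => g.2
  have key2 : ∀ g : MulAction.stabilizer SU4 e0, g.1.1.1 0 1 = 0 ∧
      g.1.1.1 1 1 * g.1.1.1 1 1 ^ 4 + g.1.1.1 2 1 * g.1.1.1 2 1 ^ 4 = 1 := by
    intro g
    have h0 : ap g.1 (Pi.single 0 1) = Pi.single 0 1 := by simpa only [← e0_eq] using key g
    rw [ap_col] at h0
    have p := hf_ap g.1 (Pi.single 1 1) (Pi.single 0 1)
    have q := hf_ap g.1 (Pi.single 1 1) (Pi.single 1 1)
    rw [ap_col, ap_col] at p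
    rw [ap_col] at q
    simp [hf_expand, congrFun h0, Pi.single_apply] at p q
    exact ⟨p, by simpa [p] using q⟩
  refine Nat.card_eq_of_bijective (fun g => ⟨(g.1.1.1 1 1, g.1.1.1 2 1), (key2 g).2⟩)
    ⟨fun g g' h => ?_, fun t => ?_⟩
  · obtain ⟨h1, h2⟩ := Prod.mk.inj (congrArg Subtype.val h)
    refine Subtype.ext (inv_mul_eq_one.1 (eq_one_of_fix _ ?_ ?_))
    · have h3 := congrArg (ap g.1⁻¹) (key g)
      rw [← ap_mul, inv_mul_cancel, ap_one] at h3
      rw [ap_mul, key g', ← h3]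
    · rw [ap_mul, show ap g'.1 (Pi.single 1 1) = ap g.1 (Pi.single 1 1) by
        rw [ap_col, ap_col]; funext r; fin_cases r
        exacts [(key2 g').1.trans (key2 g).1.symm, h1.symm, h2.symm],
        ← ap_mul, inv_mul_cancel, ap_one]
  · obtain ⟨⟨a, b⟩, ht⟩ := t
    obtain ⟨g, hg0, hg1⟩ := su_of_frame (u := e0) (v := ![0, a, b]) (by decide +kernel)
      (by rw [hf_expand]; simpa using ht) (by simp [hf_expand, e0])
    refine ⟨⟨g, ?_⟩, Subtype.ext (Prod.ext (hg1 1) (hg1 2))⟩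
    show ap g e0 = e0
    rw [e0_eq, ap_col, ← e0_eq]
    exact funext hg0

theorem card_su4 : Nat.card SU4 = 62400 := by
  rw [← Subgroup.index_mul_card (MulAction.stabilizer SU4 e0), MulAction.index_stabilizer]
  have h : (MulAction.orbit SU4 e0).ncard = 1040 := by
    have h' := orbit_e0
    rw [show MulAction.orbit SU4 e0 = {v | hf v v = 1} from h', ncard_unit]
  exact (congrArg₂ (· * ·) h card_stab).trans rfl

/-- An element of order 10. -/
def g10 : SU4 :=
  mkSU (Matrix.of ![![K16.ofNat 1, K16.ofNat 15, K16.ofNat 8],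
    ![K16.ofNat 2, K16.ofNat 10, K16.ofNat 2], ![K16.ofNat 3, K16.ofNat 1, K16.ofNat 7]])
    (by decide +kernel) (by decide +kernel)

/-- An element of order 15. -/
def g15 : SU4 :=
  mkSU (Matrix.of ![![K16.ofNat 14, K16.ofNat 5, K16.ofNat 15],
    ![K16.ofNat 6, K16.ofNat 8, K16.ofNat 6], ![K16.ofNat 10, K16.ofNat 6, K16.ofNat 5]])
    (by decide +kernel) (by decide +kernel)

theorem sq_entries {g : SU4} {M : Matrix (Fin 3) (Fin 3) K16} (h : g.1.1 * g.1.1 = M) :
    (g ^ 2).1.1 = M := by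
  rw [sq]; exact h

end CfsgLib.Char.Unital
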