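import Mathlib
import Cfsg.Agent.Lib.Char.UnitalGroup
import Cfsg.Agent.Lib.Char.SemiSpectrum

/-!
# A module of `SU(3,4)` in characteristic five without fixed vectors for elements of order 13
-/

set_option autoImplicit false

namespace CfsgLib.Char.Unital

theorem g13_ne_one : g13 ≠ 1 := fun h => by
  have : g13.1.1 0 0 = (1 : SU4).1.1 0 0 := by rw [h]
  revert this
  decide +kernel

theorem pow_val_two (g : SU4) : (g ^ 2).1.1 = g.1.1 * g.1.1 := by rw [sq]; rfl

theorem pow_val_add (g : SU4) {m n : ℕ} {A B C : Matrix (Fin 3) (Fin 3) K16} (hA : (g ^ m).1.1 = A)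
    (hB : (g ^ n).1.1 = B) (hC : A * B = C) : (g ^ (m + n)).1.1 = C := by
  rw [pow_add, ← hC, ← hA, ← hB]; rfl

/-- A matrix from its codes. -/
def ofCodes (a b c d e f g h i : ℕ) : Matrix (Fin 3) (Fin 3) K16 :=
  Matrix.of ![![K16.ofNat a, K16.ofNat b, K16.ofNat c], ![K16.ofNat d, K16.ofNat e, K16.ofNat f],
    ![K16.ofNat g, K16.ofNat h, K16.ofNat i]]

theorem orderOf_g13 : orderOf g13 = 13 := by
  haveI : Fact (Nat.Prime 13) := ⟨by norm_num⟩
  refine orderOf_eq_prime ?_ g13_ne_one
  have h1 : (g13 ^ 1).1.1 = ofCodes 3 8 3 12 2 3 11 3 10 := by rw [pow_one]; decide +kernel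
  have h2 := pow_val_add g13 h1 h1 (C := ofCodes 1 13 3 2 11 12 11 12 3) (by decide +kernel)
  have h4 := pow_val_add g13 h2 h2 (C := ofCodes 6 12 5 10 15 12 14 12 4) (by decide +kernel)
  have h8 := pow_val_add g13 h4 h4 (C := ofCodes 5 15 5 1 4 9 14 9 15) (by decide +kernel)
  have h5 := pow_val_add g13 h4 h1 (C := ofCodes 4 1 9 8 5 14 4 14 8) (by decide +kernel)
  have h13 := pow_val_add g13 h8 h5 (C := 1) (by decide +kernel)
  exact Subtype.ext (Subtype.ext h13)

theorem orderOf_g10 : orderOf g10 = 10 := by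
  have h1 : (g10 ^ 1).1.1 = ofCodes 1 15 8 2 10 2 3 1 7 := by rw [pow_one]; decide +kernel
  have h2 := pow_val_add g10 h1 h1 (C := ofCodes 7 11 8 3 7 10 8 15 15) (by decide +kernel)
  have h4 := pow_val_add g10 h2 h2 (C := ofCodes 4 1 14 15 4 4 14 6 10) (by decide +kernel)
  have h5 := pow_val_add g10 h4 h1 (C := ofCodes 7 13 8 11 0 6 15 6 6) (by decide +kernel)
  have h10 := pow_val_add g10 h5 h5 (C := 1) (by decide +kernel)
  refine orderOf_eq_of_pow_and_pow_div_prime (by norm_num) (Subtype.ext (Subtype.ext h10)) ?_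
  intro p hp hdvd h
  have : p = 2 ∨ p = 5 := by
    have := Nat.le_of_dvd (by norm_num) hdvd
    interval_cases p <;> first | omega | norm_num at hp
  rcases this with rfl | rfl
  · have e : (g10 ^ 5).1.1 = (1 : SU4).1.1 := by rw [show (10 : ℕ) / 2 = 5 from rfl] at h; rw [h]
    rw [h5] at e; revert e; decide +kernel
  · have e : (g10 ^ 2).1.1 = (1 : SU4).1.1 := by rw [show (10 : ℕ) / 5 = 2 from rfl] at h; rw [h]
    rw [h2] at e; revert e; decide +kernel

theorem orderOf_g15 : orderOf g15 = 15 := by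
  have h1 : (g15 ^ 1).1.1 = ofCodes 14 5 15 6 8 6 10 6 5 := by rw [pow_one]; decide +kernel
  have h2 := pow_val_add g15 h1 h1 (C := ofCodes 10 9 14 14 6 12 5 12 9) (by decide +kernel)
  have h3 := pow_val_add g15 h2 h1 (C := ofCodes 3 2 12 13 8 11 8 11 3) (by decide +kernel)
  have h5 := pow_val_add g15 h3 h2 (C := ofCodes 11 11 12 3 7 12 8 12 12) (by decide +kernel)
  have h10 := pow_val_add g15 h5 h5 rfl
  have h15 := pow_val_add g15 h10 h5 (C := 1) (by decide +kernel)
  refine orderOf_eq_of_pow_and_pow_div_prime (by norm_num) (Subtype.ext (Subtype.ext h15)) ?_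
  intro p hp hdvd h
  have : p = 3 ∨ p = 5 := by
    have := Nat.le_of_dvd (by norm_num) hdvd
    interval_cases p <;> first | omega | norm_num at hp
  rcases this with rfl | rfl
  · have e : (g15 ^ 5).1.1 = (1 : SU4).1.1 := by rw [show (15 : ℕ) / 3 = 5 from rfl] at h; rw [h]
    rw [h5] at e; revert e; decide +kernel
  · have e : (g15 ^ 3).1.1 = (1 : SU4).1.1 := by rw [show (15 : ℕ) / 5 = 3 from rfl] at h; rw [h]
    rw [h3] at e; revert e; decide +kernel

theorem factorization_thirteen : (Nat.card SU4).factorization 13 = 1 := by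
  haveI : Fact (Nat.Prime 13) := ⟨by norm_num⟩
  rw [card_su4, show 62400 = 13 * 4800 from rfl, Nat.factorization_mul (by norm_num) (by norm_num),
    Finsupp.add_apply, Nat.Prime.factorization_self Fact.out,
    Nat.factorization_eq_zero_of_not_dvd (by norm_num : ¬ 13 ∣ 4800)]

theorem exists_conj_mem_zpowers {x : SU4} (hx : orderOf x = 13) :
    ∃ y : SU4, y * g13 * y⁻¹ ∈ Subgroup.zpowers x := by
  haveI : Fact (Nat.Prime 13) := ⟨by norm_num⟩
  have hc : ∀ g : SU4, orderOf g = 13 →
      Nat.card (Subgroup.zpowers g) = 13 ^ (Nat.card SU4).factorization 13 := fun g hg => by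
    rw [Nat.card_zpowers, hg, factorization_thirteen, pow_one]
  obtain ⟨y, hy⟩ := MulAction.exists_smul_eq SU4 (Sylow.ofCard _ (hc _ orderOf_g13))
    (Sylow.ofCard _ (hc _ hx))
  refine ⟨y, ?_⟩
  have h : (y • (Sylow.ofCard _ (hc _ orderOf_g13)) : Sylow 13 SU4).toSubgroup =
      Subgroup.zpowers x := by rw [hy]; rfl
  rw [← h, Sylow.coe_subgroup_smul, Subgroup.pointwise_smul_def]
  exact ⟨g13, Subgroup.mem_zpowers g13, rfl⟩

theorem const_of_fixed_shift {f : Pt → ZMod 5} (hf1 : f ∈ code) {c : ZMod 5}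
    (hfix : ∀ p, f (g13 • p) = f p + c) : ∀ p, f p = f (ptEquiv 0) := by
  have hn : ∀ (n : ℕ) (p : Pt), f (g13 ^ n • p) = f p + n • c := by
    intro n
    induction n with
    | zero => simp
    | succ n ih => intro p; rw [pow_succ', mul_smul, hfix, ih, succ_nsmul, add_assoc]
  have h := hn 13 (ptEquiv 0)
  rw [← orderOf_g13, pow_orderOf_eq_one, one_smul, orderOf_g13, left_eq_add, nsmul_eq_mul] at h
  have hc : c = 0 := by
    have : ∀ c : ZMod 5, ((13 : ℕ) : ZMod 5) * c = 0 → c = 0 := by decide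
    exact this c h
  exact const_of_fixed hf1 fun p => by rw [hfix, hc, add_zero]

/-- The code, with its action. -/
noncomputable instance : SMul SU4 code :=
  ⟨fun g f => ⟨fun p => f.1 (g⁻¹ • p), code_smul f.2 g⟩⟩

theorem code_smul_val (g : SU4) (f : code) (p : Pt) : (g • f).1 p = f.1 (g⁻¹ • p) := rfl

noncomputable instance : DistribMulAction SU4 code where
  one_smul f := Subtype.ext (funext fun p => by rw [code_smul_val, inv_one, one_smul])
  mul_smul g g' f := Subtype.ext (funext fun p => by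
    simp only [code_smul_val, mul_inv_rev, mul_smul])
  smul_zero g := rfl
  smul_add g f f' := rfl

/-- The constants in the code. -/
noncomputable def consts : AddSubgroup code where
  carrier := {f | ∀ p, f.1 p = f.1 (ptEquiv 0)}
  zero_mem' _ := rfl
  add_mem' {f f'} h h' p := by simp [h p, h' p]
  neg_mem' {f} h p := by simp [h p]

theorem smul_sub_mem {g : SU4} {f : code} (hf1 : f ∈ consts) : g • f = f :=
  Subtype.ext (funext fun p => by rw [code_smul_val, hf1 _, hf1 p])

/-- The module: the code modulo constants. -/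
abbrev Md := code ⧸ consts

noncomputable instance : SMul SU4 Md :=
  ⟨fun g => QuotientAddGroup.map consts consts (DistribSMul.toAddMonoidHom code g)
    fun f hf1 => by
      show g • f ∈ consts
      rw [smul_sub_mem hf1]; exact hf1⟩

theorem md_smul_mk (g : SU4) (f : code) : g • (f : Md) = ((g • f : code) : Md) := rfl

noncomputable instance : DistribMulAction SU4 Md where
  one_smul x := by
    induction x using QuotientAddGroup.induction_on with
    | H f => rw [md_smul_mk, one_smul]
  mul_smul g g' x := by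
    induction x using QuotientAddGroup.induction_on with
    | H f => rw [md_smul_mk, md_smul_mk, md_smul_mk, mul_smul]
  smul_zero g := map_zero _
  smul_add g x y := map_add _ x y

theorem md_nsmul_five (x : Md) : 5 • x = 0 := by
  induction x using QuotientAddGroup.induction_on with
  | H f =>
    rw [← QuotientAddGroup.mk_nsmul]
    have : (5 • f : code) = 0 := Subtype.ext (funext fun p => by
      show 5 • f.1 p = 0
      rw [← Nat.cast_smul_eq_nsmul (ZMod 5), show ((5 : ℕ) : ZMod 5) = 0 from rfl, zero_smul])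
    rw [this]; rfl

instance : Finite Md := Quotient.finite _

theorem md_nontrivial : Nontrivial Md := by
  refine ⟨⟨((⟨fPt, fPt_mem⟩ : code) : Md), 0, fun h => fPt_not_const ?_⟩⟩
  rw [QuotientAddGroup.eq_zero_iff] at h
  exact (h (ptEquiv 1)).symm

theorem eq_zero_of_g13_fixed {x : Md} (h : g13 • x = x) : x = 0 := by
  induction x using QuotientAddGroup.induction_on with
  | H f =>
    rw [md_smul_mk, QuotientAddGroup.eq_iff_sub_mem] at h
    rw [QuotientAddGroup.eq_zero_iff]
    refine const_of_fixed_shift f.2 (c := -((g13 • f - f).1 (ptEquiv 0))) fun p => ?_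
    have h1 := h (g13 • p)
    simp only [AddSubgroup.coe_sub, Pi.sub_apply, code_smul_val, inv_smul_smul] at h1 ⊢
    linear_combination -h1

theorem eq_zero_of_fixed {g : SU4} (hg : orderOf g = 13) {x : Md} (h : g • x = x) : x = 0 := by
  obtain ⟨y, n, hn⟩ := exists_conj_mem_zpowers hg
  have hgn : (g ^ n) • x = x := (MulAction.stabilizer SU4 x).zpow_mem (MulAction.mem_stabilizer_iff.2 h) n
  have hn' : g ^ n = y * g13 * y⁻¹ := hn
  rw [hn'] at hgn
  have h1 : g13 • (y⁻¹ • x) = y⁻¹ • x := by
    conv_rhs => rw [← hgn, ← mul_smul, ← mul_assoc, ← mul_assoc, inv_mul_cancel, one_mul, mul_smul]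
  exact (smul_eq_zero_iff_eq y⁻¹).1 (eq_zero_of_g13_fixed h1)

end CfsgLib.Char.Unital
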