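import Mathlib
import Cfsg.Agent.Lib.Char.UnitalModule

/-!
# Groups with the prime graph of `PSU(3,4)`
-/

set_option autoImplicit false

namespace CfsgLib.Char.Unital

open Matrix

theorem center_su4 : Subgroup.center SU4 = ⊥ := by
  refine (Subgroup.eq_bot_iff_forall _).2 fun A hA => ?_
  have hd : ∀ i j : Fin 3, i ≠ j → ((![K16.ofNat 8, K16.ofNat 8 ^ 4, 1] : V3) j -
      (![K16.ofNat 8, K16.ofNat 8 ^ 4, 1] : V3) i) ≠ 0 := by decide +kernel
  let d : SU4 := mkSU (Matrix.diagonal ![K16.ofNat 8, K16.ofNat 8 ^ 4, 1]) (by decide +kernel)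
    (by decide +kernel)
  let P : SU4 := mkSU (Matrix.of ![![0, 1, 0], ![0, 0, 1], ![1, 0, 0]]) (by decide +kernel)
    (by decide +kernel)
  have h1 : A.1.1 * d.1.1 = d.1.1 * A.1.1 :=
    congrArg (fun g : SU4 => g.1.1) (Subgroup.mem_center_iff.1 hA d).symm
  have h2 : A.1.1 * P.1.1 = P.1.1 * A.1.1 :=
    congrArg (fun g : SU4 => g.1.1) (Subgroup.mem_center_iff.1 hA P).symm
  have hoff : ∀ i j : Fin 3, i ≠ j → A.1.1 i j = 0 := by
    intro i j hij
    have h := congrFun (congrFun h1 i) j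
    simp only [d, mkSU, Matrix.mul_diagonal, Matrix.diagonal_mul] at h
    refine (mul_eq_zero.1 ?_).resolve_right (hd i j hij)
    linear_combination h
  have h01 := congrFun (congrFun h2 0) 1
  have h12 := congrFun (congrFun h2 1) 2
  simp [P, mkSU, Matrix.mul_apply, Fin.sum_univ_three] at h01 h12
  have hu := hf_ap A (Pi.single 0 1) (Pi.single 0 1)
  rw [ap_col] at hu
  simp [hf_expand, hoff 1 0 (by decide), hoff 2 0 (by decide), Pi.single_apply] at hu
  have hdet := A.1.2
  rw [Matrix.det_fin_three] at hdet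
  simp [hoff 0 1 (by decide), hoff 0 2 (by decide), hoff 1 0 (by decide), hoff 1 2 (by decide),
    hoff 2 0 (by decide), hoff 2 1 (by decide), ← h01, ← h12] at hdet
  have key : ∀ a : K16, a * a ^ 4 = 1 → a * a * a = 1 → a = 1 := by decide +kernel
  have h00 : A.1.1 0 0 = 1 := key _ hu hdet
  apply Subtype.ext; apply Subtype.ext
  refine Matrix.ext fun i j => ?_
  by_cases hij : i = j
  · subst hij
    fin_cases i <;> simp [h00, ← h01, ← h12]
  · simp [hoff i j hij, Matrix.one_apply, hij]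

section transfer

variable {K L : Type*} [Field K] [Field L]

theorem map_mem_su (n q : ℕ) (e : K ≃+* L) {A : Matrix.SpecialLinearGroup (Fin n) K}
    (hA : A ∈ Cfsg.SU n K q) :
    Matrix.SpecialLinearGroup.map e.toRingHom A ∈ Cfsg.SU n L q := by
  intro u v
  obtain ⟨u, rfl⟩ : ∃ u', u = e ∘ u' := ⟨e.symm ∘ u, by funext i; simp⟩
  obtain ⟨v, rfl⟩ : ∃ v', v = e ∘ v' := ⟨e.symm ∘ v, by funext i; simp⟩
  have h := congrArg e (hA u v)
  simp only [Cfsg.hermForm, map_sum, map_mul, map_pow] at h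
  refine Eq.trans ?_ h
  simp only [Cfsg.hermForm, Cfsg.slToMat, MonoidHom.coe_comp, Units.coeHom_apply, Function.comp_apply,
    Matrix.SpecialLinearGroup.toGL, Matrix.mulVec, dotProduct, map_sum, map_mul]
  rfl

/-- A field isomorphism gives an isomorphism of the special unitary groups. -/
noncomputable def suEquiv (n q : ℕ) (e : K ≃+* L) : ↥(Cfsg.SU n K q) ≃* ↥(Cfsg.SU n L q) where
  toFun A := ⟨_, map_mem_su n q e A.2⟩
  invFun A := ⟨_, map_mem_su n q e.symm A.2⟩
  left_inv A := Subtype.ext (Subtype.ext (Matrix.ext fun i j => e.symm_apply_apply _))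
  right_inv A := Subtype.ext (Subtype.ext (Matrix.ext fun i j => e.apply_symm_apply _))
  map_mul' A B := Subtype.ext (map_mul (Matrix.SpecialLinearGroup.map e.toRingHom) A.1 B.1)

end transfer

theorem exists_psu_equiv {F : Type*} [Field F] [Fintype F] (hF : Fintype.card F = 16) :
    Nonempty (Cfsg.PSU 3 F 4 ≃* SU4) := by
  obtain ⟨e⟩ : Nonempty (K16 ≃+* F) :=
    ⟨FiniteField.ringEquivOfCardEq (K16.card_eq.trans hF.symm)⟩
  let E := suEquiv 3 4 e
  have hc : Subgroup.center ↥(Cfsg.SU 3 F 4) = ⊥ := by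
    refine (Subgroup.eq_bot_iff_forall _).2 fun A hA => ?_
    have : E.symm A ∈ Subgroup.center SU4 := by
      rw [Subgroup.mem_center_iff] at hA ⊢
      intro B
      apply E.injective
      simpa using hA (E B)
    rw [center_su4, Subgroup.mem_bot] at this
    simpa using congrArg E this
  exact ⟨((QuotientGroup.quotientMulEquivOfEq hc).trans QuotientGroup.quotientBot).trans E.symm⟩

theorem prime_graph_extension {F : Type*} [Field F] [Fintype F] (hF : Fintype.card F = 16) (N : ℕ) :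
    ∃ (H : Type) (_ : Group H) (_ : Finite H), N < Nat.card H ∧
      ((∀ p : ℕ, p.Prime → (p ∣ Nat.card (Cfsg.PSU 3 F 4) ↔ p ∣ Nat.card H)) ∧
      (∀ p q : ℕ, p.Prime → q.Prime → p ≠ q →
        ((∃ g : (Cfsg.PSU 3 F 4), orderOf g = p * q) ↔ (∃ g : H, orderOf g = p * q)))) := by
  obtain ⟨E⟩ := exists_psu_equiv hF
  haveI := md_nontrivial
  haveI : Finite SU4 := inferInstance
  let W := Fin (N + 1) → Md
  let H := Semi SU4 W
  haveI : Finite H := Finite.of_equiv _ (SemidirectProduct.equivProd).symm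
  have hcard : Nat.card H = Nat.card Md ^ (N + 1) * 62400 := by
    show Nat.card (Semi SU4 W) = _
    rw [SemidirectProduct.card, card_su4, show Nat.card (Multiplicative W) = Nat.card W from rfl,
      Nat.card_fun, Nat.card_fin]
  have h2 : 2 ≤ Nat.card Md := Finite.one_lt_card
  refine ⟨H, inferInstance, inferInstance, ?_, fun p hp => ?_, fun p q hp hq hpq => ⟨?_, ?_⟩⟩
  · rw [hcard]
    have h3 : N + 1 < 2 ^ (N + 1) := Nat.lt_two_pow_self
    have h4 := Nat.pow_le_pow_left h2 (N + 1)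
    nlinarith
  · rw [Nat.card_congr E.toEquiv, card_su4, hcard]
    refine ⟨fun h => dvd_mul_of_dvd_right h _, fun h => ?_⟩
    rcases hp.dvd_mul.1 h with h | h
    · obtain ⟨x, hx⟩ := @exists_prime_addOrderOf_dvd_card' Md _ _ p ⟨hp⟩ (hp.dvd_of_dvd_pow h)
      have h5 : p ∣ 5 := hx ▸ addOrderOf_dvd_of_nsmul_eq_zero (md_nsmul_five x)
      exact h5.trans (by norm_num)
    · exact h
  · rintro ⟨g, hg⟩
    refine ⟨SemidirectProduct.inr (E g), ?_⟩
    rw [orderOf_injective _ SemidirectProduct.inr_injective, MulEquiv.orderOf_eq, hg]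
  · rintro ⟨x, hx⟩
    suffices ∃ g : SU4, orderOf g = p * q by
      obtain ⟨g, hg⟩ := this
      exact ⟨E.symm g, by rw [MulEquiv.orderOf_eq, hg]⟩
    rw [semiPair_eta x, orderOf_semiPair] at hx
    set c := x.right
    set w := ∑ i ∈ Finset.range (orderOf c), c ^ i • x.left.toAdd with hw
    have hd : addOrderOf w ∣ 5 := addOrderOf_dvd_of_nsmul_eq_zero (funext fun i => md_nsmul_five (w i))
    rcases (Nat.dvd_prime (by norm_num : Nat.Prime 5)).1 hd with h1 | h5
    · exact ⟨c, by rw [← hx, h1, mul_one]⟩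
    rw [h5] at hx
    have h5p : p = 5 ∨ q = 5 := by
      rcases (Nat.Prime.dvd_mul (by norm_num : Nat.Prime 5)).1 ⟨_, (mul_comm _ _).trans hx |>.symm⟩ with h | h
      · exact Or.inl ((Nat.prime_dvd_prime_iff_eq (by norm_num) hp).1 h).symm
      · exact Or.inr ((Nat.prime_dvd_prime_iff_eq (by norm_num) hq).1 h).symm
    obtain ⟨r, hr, hrc, hr5, hpq'⟩ : ∃ r, r.Prime ∧ orderOf c = r ∧ r ≠ 5 ∧ p * q = 5 * r := by
      rcases h5p with rfl | rfl
      · exact ⟨q, hq, by linarith, hpq.symm, rfl⟩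
      · exact ⟨p, hp, by linarith, hpq, by ring⟩
    have hr2 : r ∣ 62400 := by rw [← hrc, ← card_su4]; exact orderOf_dvd_natCard c
    have : r = 2 ∨ r = 3 ∨ r = 13 := by
      rw [show (62400 : ℕ) = 2 ^ 6 * 3 * 5 ^ 2 * 13 from rfl] at hr2
      rcases hr.dvd_mul.1 hr2 with h | h
      rcases hr.dvd_mul.1 h with h | h
      rcases hr.dvd_mul.1 h with h | h
      · exact Or.inl ((Nat.prime_dvd_prime_iff_eq hr Nat.prime_two).1 (hr.dvd_of_dvd_pow h))
      · exact Or.inr (Or.inl ((Nat.prime_dvd_prime_iff_eq hr Nat.prime_three).1 h))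
      · exact absurd ((Nat.prime_dvd_prime_iff_eq hr Nat.prime_five).1 (hr.dvd_of_dvd_pow h)) hr5
      · exact Or.inr (Or.inr ((Nat.prime_dvd_prime_iff_eq hr (by norm_num)).1 h))
    rcases this with rfl | rfl | rfl
    · exact ⟨g10, by rw [hpq', orderOf_g10]⟩
    · exact ⟨g15, by rw [hpq', orderOf_g15]⟩
    · exfalso
      have hfix : c • w = w := smul_geom_sum_smul x.left.toAdd c
      have h0 : w = 0 := funext fun i => eq_zero_of_fixed hrc (congrFun hfix i)
      rw [h0, addOrderOf_zero] at h5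
      omega

end CfsgLib.Char.Unital
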