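import Cfsg.Agent.Lib.Char.TwoDegrees
import Cfsg.Agent.Lib.Char.Gallagher
import Cfsg.Agent.Lib.Coprime.FpfAction
import Cfsg.Agent.Lib.Coprime.Primitive
import Cfsg.Agent.Lib.Invol.CharTwo
import Cfsg.Agent.Lib.Solv.AbelianHallMinimal.Basic

/-!
# Vanishing elements of order divisible by `p` in solvable groups

A `p`-element acting nontrivially on a normal `p'`-subgroup `N`, inside an abelian `p`-subgroup `A`
with `AN` normal, is a vanishing element together with its whole coset modulo `N`.  If the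
vanishing elements of order divisible by `p` all have the same `p'`-part of the order and none is
the `p`-th power of another, a solvable group with trivial `p`-core has Sylow `p`-subgroups of
order at most `p`.
-/

set_option autoImplicit false
set_option linter.unusedSectionVars false
set_option linter.style.haveILetI false

namespace CfsgLib.Char.VanishingP

open Cfsg CfsgLib
open scoped ComplexConjugate commutatorElement

universe u v

/-- Some irreducible character is zero at `g`. -/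
def Vanishes {G : Type u} [Group G] (g : G) : Prop :=
  ∃ χ : IrrCharacter G, (χ : G → ℂ) g = 0

theorem vanishes_of_map {G : Type u} [Group G] [Finite G] {Q : Type u} [Group Q] [Finite Q]
    (f : G →* Q) (hf : Function.Surjective f) {g : G} (h : Vanishes (f g)) : Vanishes g := by
  obtain ⟨χ, hχ⟩ := h
  exact ⟨⟨fun x => (χ : Q → ℂ) (f x), isIrrCharacter_comp_surjective χ.2 f hf⟩, hχ⟩

/-- A coprime abelian group of operators on an abelian group has an orbit with pointwise kernel
stabilizer. -/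
theorem exists_regular {A : Type v} [Group A] [Finite A] {V : Type u} [CommGroup V] [Finite V]
    [MulDistribMulAction A V] (hab : ∀ a b : A, a * b = b * a) {e : ℕ} (he : ∀ x : V, x ^ e = 1)
    (hcop : (Nat.card A).Coprime e) :
    ∃ v : V, ∀ a : A, a • v = v → ∀ w : V, a • w = w := by
  classical
  have := Fintype.ofFinite A
  obtain ⟨v, hv⟩ := Finite.exists_min fun v : V => Nat.card (MulAction.stabilizer A v)
  refine ⟨v, fun s hs w => ?_⟩
  by_contra hsw
  set S := MulAction.stabilizer A v with hS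
  set u := (s • w) / w with hu
  have hcop' : ∀ {k : ℕ} (x : V), k ∣ Nat.card A → x ^ k = 1 → x = 1 := fun x hk hx =>
    orderOf_eq_one_iff.1 (Nat.eq_one_of_dvd_coprimes (hcop.coprime_dvd_left hk)
      (orderOf_dvd_of_pow_eq_one hx) (orderOf_dvd_of_pow_eq_one (he x)))
  have hsu : s • u ≠ u := by
    intro h
    have hk : ∀ k : ℕ, (s ^ k) • w = u ^ k * w := by
      intro k
      induction k with
      | zero => simp
      | succ k ih =>
        rw [pow_succ', mul_smul, ih, smul_mul', smul_pow', h, pow_succ, mul_assoc]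
        congr 1
        rw [hu, div_mul_cancel]
    have h1 := hk (orderOf s)
    rw [pow_orderOf_eq_one, one_smul, right_eq_mul] at h1
    exact hsw (div_eq_one.1 (hu ▸ hcop' u (orderOf_dvd_natCard s) h1))
  let P : V → V := fun x => ∏ t : S, (t : A) • x
  have hPv : P v = v ^ Nat.card S := by
    simp only [P]
    rw [Finset.prod_congr rfl fun (t : S) _ => (t.2 : (t : A) • v = v), Finset.prod_const,
      Finset.card_univ, Nat.card_eq_fintype_card]
  have hPu : P u = 1 := by
    simp only [P, hu, smul_div', Finset.prod_div_distrib, ← mul_smul]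
    refine div_eq_one.2 ?_
    exact Fintype.prod_equiv (Equiv.mulRight (⟨s, hs⟩ : S)) _ _ fun t => by simp
  have hPmul : ∀ x y : V, P (x * y) = P x * P y := fun x y => by
    simp only [P, smul_mul', Finset.prod_mul_distrib]
  have hPcomm : ∀ (b : A) (x : V), b • P x = P (b • x) := fun b x => by
    simp only [P, Finset.smul_prod', ← mul_smul]
    exact Finset.prod_congr rfl fun t _ => by rw [hab b t]
  have hle : MulAction.stabilizer A (v * u) ≤ S := by
    intro b hb
    have h1 := hPcomm b (v * u)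
    rw [MulAction.mem_stabilizer_iff.1 hb, hPmul, hPv, hPu, mul_one, smul_pow'] at h1
    have h2 : ((b • v) / v) ^ Nat.card S = 1 := by rw [div_pow, h1, div_self']
    exact MulAction.mem_stabilizer_iff.2 (div_eq_one.1 (hcop' _ S.card_subgroup_dvd_card h2))
  have hlt : MulAction.stabilizer A (v * u) < S := by
    refine lt_of_le_of_ne hle fun h => hsu ?_
    have h1 : s • (v * u) = v * u := MulAction.mem_stabilizer_iff.1 (h ▸ hs)
    rwa [smul_mul', MulAction.mem_stabilizer_iff.1 hs, mul_right_inj] at h1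
  exact absurd (hv (v * u)) (not_le.2 (Set.ncard_lt_ncard (SetLike.coe_ssubset_coe.2 hlt) (Set.toFinite _)))

/-- A `p`-element in the join of a normal subgroup with a normal `p'`-subgroup lies in the former. -/
theorem mem_of_mem_sup {G : Type u} [Group G] [Finite G] {p : ℕ} (H N : Subgroup G) [H.Normal]
    [N.Normal] (hN : (Nat.card N).Coprime p) {a : G} (ha : ∃ k, orderOf a = p ^ k)
    (hmem : a ∈ H ⊔ N) : a ∈ H := by
  obtain ⟨k, hk⟩ := ha
  obtain ⟨h, hh, n, hn, rfl⟩ := Subgroup.mem_sup_of_normal_left.1 hmem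
  rw [← QuotientGroup.eq_one_iff (N := H), ← orderOf_eq_one_iff]
  refine Nat.eq_one_of_dvd_coprimes (hN.pow_right k) ?_
    (hk ▸ orderOf_map_dvd (QuotientGroup.mk' H) (h * n))
  rw [QuotientGroup.mk_mul, (QuotientGroup.eq_one_iff h).2 hh, one_mul]
  exact (orderOf_map_dvd (QuotientGroup.mk' H) n).trans
    (by rw [← Subgroup.orderOf_mk n hn]; exact orderOf_dvd_natCard _)

theorem vanishes_mul_core : ∀ (c : ℕ) (G : Type u) [Group G] [Finite G], Nat.card G = c →
    ∀ (p : ℕ) [Fact p.Prime] (N A : Subgroup G) [N.Normal] [Group.IsSolvable N],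
      (Nat.card N).Coprime p → IsPGroup p A → (∀ x ∈ A, ∀ y ∈ A, x * y = y * x) → (A ⊔ N).Normal →
      ∀ a ∈ A, a ∉ Subgroup.centralizer (N : Set G) → ∀ k ∈ N, Vanishes (a * k) := by
  intro c
  induction c using Nat.strong_induction_on with
  | _ c ih =>
  intro G _ _ hc p _ N A _ _ hNp hA hAab hX a ha hac k hk
  subst hc
  classical
  have := Fintype.ofFinite G
  have hNne : N ≠ ⊥ := by
    rintro rfl
    exact hac (Subgroup.mem_centralizer_iff.2 fun x hx => by
      rw [SetLike.mem_coe, Subgroup.mem_bot] at hx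
      simp [hx])
  obtain ⟨U, ⟨hUn, hUN, hUne⟩, hUmin⟩ := Set.Finite.exists_minimal
    (s := {U : Subgroup G | U.Normal ∧ U ≤ N ∧ U ≠ ⊥}) (Set.toFinite _)
    ⟨N, inferInstance, le_rfl, hNne⟩
  have := hUn
  haveI : Group.IsSolvable U :=
    Group.isSolvable_of_isSolvable_injective (Subgroup.inclusion_injective hUN)
  have hUab := (Coprime.minimal_normal_solvable hUne fun K hK hle =>
    (em (K = ⊥)).imp_right fun hne => le_antisymm hle (hUmin ⟨hK, hle.trans hUN, hne⟩ hle)).1
  set π := QuotientGroup.mk' U with hπ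
  have hsur : Function.Surjective π := QuotientGroup.mk'_surjective U
  haveI hNb : (N.map π).Normal := (inferInstance : N.Normal).map π hsur
  set M := (Subgroup.centralizer (N.map π : Set (G ⧸ U))).comap π with hM
  haveI : M.Normal := (Subgroup.normal_centralizer (H := N.map π)).comap π
  by_cases haM : a ∈ M
  swap
  · have hlt : Nat.card (G ⧸ U) < Nat.card G := by
      rw [← Subgroup.index_eq_card]
      have h1 := U.card_mul_index
      have := Subgroup.one_lt_card_iff_ne_bot U |>.2 hUne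
      have := Nat.pos_of_ne_zero (Subgroup.index_ne_zero_of_finite (H := U))
      nlinarith
    haveI : Group.IsSolvable (N.map π) := Group.isSolvable_of_surjective
      (f := π.subgroupMap N) (π.subgroupMap_surjective N)
    refine vanishes_of_map π hsur ?_
    rw [map_mul]
    refine ih _ hlt (G ⧸ U) rfl p (N.map π) (A.map π) ?_ (hA.map π) ?_ ?_ (π a) ⟨a, ha, rfl⟩
      (fun h => haM h) (π k) ⟨k, hk, rfl⟩
    · exact hNp.coprime_dvd_left (Subgroup.card_map_dvd N π)
    · rintro _ ⟨x, hx, rfl⟩ _ ⟨y, hy, rfl⟩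
      rw [← map_mul, ← map_mul, hAab x hx y hy]
    · rw [← Subgroup.map_sup]
      exact hX.map π hsur
  -- now `a` is trivial on `N / U`
  set A0 := A ⊓ M with hA0
  have hA0N : A0 ≤ Subgroup.normalizer (N : Set G) := by
    rw [Subgroup.normalizer_eq_top]; exact le_top
  have hA0p : IsPGroup p A0 := hA.to_le inf_le_left
  obtain ⟨j, hj⟩ := IsPGroup.iff_card.1 hA0p
  have hcopN : (Nat.card A0).Coprime (Nat.card N) := by rw [hj]; exact (hNp.pow_right j).symm
  have hcomm : ⁅N, A0⁆ ≤ U := by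
    rw [Subgroup.commutator_le]
    intro x hx b hb
    have h1 := Subgroup.mem_centralizer_iff.1 (Subgroup.mem_comap.1 hb.2) (π x) ⟨x, hx, rfl⟩
    rw [← commutatorElement_eq_one_iff_mul_comm, ← map_commutatorElement] at h1
    exact (QuotientGroup.eq_one_iff _).1 h1
  have hdec : N ≤ U ⊔ (N ⊓ Subgroup.centralizer (A0 : Set G)) := by
    conv_lhs => rw [← Coprime.commutator_sup_centralizer hA0N hcopN (Or.inr inferInstance)]
    exact sup_le_sup_right hcomm _
  -- the action on the linear characters of `U`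
  have := Fintype.ofFinite U
  let lin : (U →* ℂˣ) → IrrCharacter U := fun f => ⟨_, isIrrCharacter_lin f⟩
  have : Finite (U →* ℂˣ) := Finite.of_injective lin fun f f' h => MonoidHom.ext fun n =>
    Units.ext (congrFun (congrArg Subtype.val h) n)
  letI : MulDistribMulAction A0 (U →* ℂˣ) :=
    { smul := fun b f => f.comp (MulAut.conjNormal ((b : G)⁻¹) : U ≃* U).toMonoidHom
      one_smul := fun f => MonoidHom.ext fun x => congrArg f (Subtype.ext (by simp))
      mul_smul := fun b b' f => MonoidHom.ext fun x => congrArg f (Subtype.ext (by simp [mul_assoc]))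
      smul_mul := fun b f f' => MonoidHom.ext fun x => rfl
      smul_one := fun b => MonoidHom.ext fun x => rfl }
  obtain ⟨μ, hμ⟩ := exists_regular (A := A0) (V := U →* ℂˣ)
    (fun x y => Subtype.ext (hAab x x.2.1 y y.2.1)) (e := Nat.card U)
    (fun f => MonoidHom.ext fun x => by
      rw [MonoidHom.pow_apply, ← map_pow, pow_card_eq_one', map_one, MonoidHom.one_apply])
    (hcopN.coprime_dvd_right (Subgroup.card_dvd_of_le hUN))
  set T := inertia U (TwoDegrees.lf μ) with hT
  have hUT : U ≤ T := le_inertia U (isClassFunction_irr (lin μ))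
  -- an element of `A0` fixing `μ` centralizes `N`
  have hfix : ∀ b ∈ A0, b ∈ T → b ∈ Subgroup.centralizer (N : Set G) := by
    intro b hb hbT
    have hb' := (TwoDegrees.mem_stab_iff μ b⁻¹).1 (inv_mem hbT)
    have hall := hμ ⟨b, hb⟩ hb'
    refine Subgroup.mem_centralizer_iff.2 fun x hx => ?_
    obtain ⟨u, hu, z, hz, rfl⟩ := Subgroup.mem_sup_of_normal_left.1 (hdec hx)
    have hu' : (MulAut.conjNormal b⁻¹ : U ≃* U) ⟨u, hu⟩ = ⟨u, hu⟩ :=
      TwoDegrees.eq_of_forall_hom hUab fun f => DFunLike.congr_fun (hall f) ⟨u, hu⟩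
    have hu2 : b⁻¹ * u * b = u := by
      have := congrArg Subtype.val hu'
      simpa [MulAut.conjNormal_apply] using this
    have hz' : b * z = z * b := Subgroup.mem_centralizer_iff.1 hz.2 b hb
    have hu3 : u * b = b * u := by
      conv_rhs => rw [← hu2]
      group
    rw [mul_assoc, ← hz', ← mul_assoc, hu3, mul_assoc]
  -- a character over `μ`
  obtain ⟨χ, hχ⟩ := Block.ItoMichler.exists_irr_over U (lin μ)
  obtain ⟨ψ, -, hind⟩ := exists_inertia_correspondent U χ.2 (lin μ).2 hχ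
  refine ⟨χ, ?_⟩
  rw [hind, indFun, Finset.sum_eq_zero, mul_zero]
  intro y _
  refine extendByZero_not_mem _ _ fun hy => ?_
  have hyX : y⁻¹ * (a * k) * y ∈ A ⊔ N := by
    have := hX.conj_mem _ (Subgroup.mul_mem_sup ha hk) y⁻¹
    simpa using this
  obtain ⟨b, hb, z, hz, hbz⟩ := Subgroup.mem_sup_of_normal_right.1 hyX
  have hbp : ∃ i, orderOf b = p ^ i := by
    obtain ⟨i, hi⟩ := IsPGroup.iff_orderOf.1 hA ⟨b, hb⟩
    exact ⟨i, by rw [← hi, Subgroup.orderOf_mk]⟩
  have hbM : b ∈ M := by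
    refine mem_of_mem_sup M N hNp hbp ?_
    rw [show b = (y⁻¹ * a * y) * ((y⁻¹ * k * y) * z⁻¹) by
      calc b = (b * z) * z⁻¹ := by group
        _ = _ := by rw [hbz]; group]
    refine Subgroup.mul_mem_sup ?_ ?_
    · simpa using (inferInstance : M.Normal).conj_mem a haM y⁻¹
    · refine N.mul_mem ?_ (N.inv_mem hz)
      simpa using (inferInstance : N.Normal).conj_mem k hk y⁻¹
  -- decompose `z`
  obtain ⟨u, hu, w, hw, rfl⟩ := Subgroup.mem_sup_of_normal_left.1 (hdec hz)
  rw [← hbz] at hy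
  have hbu : b * u * b⁻¹ ∈ T := hUT (hUn.conj_mem u hu b)
  have hbw : b * w ∈ T := by
    have := T.mul_mem (T.inv_mem hbu) hy
    rwa [show (b * u * b⁻¹)⁻¹ * (b * (u * w)) = b * w by group] at this
  have hbcw : Commute b w := Subgroup.mem_centralizer_iff.1 hw.2 b ⟨hb, hbM⟩
  have hbT : b ∈ T := by
    obtain ⟨i, hi⟩ := hbp
    have hw0 : w ^ Nat.card N = 1 := by
      have := pow_card_eq_one' (x := (⟨w, hw.1⟩ : N))
      exact congrArg Subtype.val this
    obtain ⟨m, hm⟩ := exists_pow_eq_self_of_coprime (x := b) (n := Nat.card N)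
      (by rw [hi]; exact hNp.pow_right i)
    rw [← hm, show b ^ Nat.card N = (b * w) ^ Nat.card N by rw [hbcw.mul_pow, hw0, mul_one]]
    exact T.pow_mem (T.pow_mem hbw _) _
  have hbC := hfix b ⟨hb, hbM⟩ hbT
  refine hac ?_
  haveI : (Subgroup.centralizer (N : Set G)).Normal := Subgroup.normal_centralizer
  obtain ⟨i, hi⟩ := IsPGroup.iff_orderOf.1 hA ⟨a, ha⟩
  refine mem_of_mem_sup _ N hNp ⟨i, by rw [← hi, Subgroup.orderOf_mk]⟩ ?_
  rw [show a = (y * b * y⁻¹) * ((y * (u * w) * y⁻¹) * k⁻¹) by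
    calc a = y * (y⁻¹ * (a * k) * y) * y⁻¹ * k⁻¹ := by group
      _ = _ := by rw [← hbz]; group]
  refine Subgroup.mul_mem_sup ?_ ?_
  · exact (inferInstance : (Subgroup.centralizer (N : Set G)).Normal).conj_mem b hbC y
  · exact N.mul_mem ((inferInstance : N.Normal).conj_mem _ hz y) (N.inv_mem hk)

/-- The coset `aN` consists of vanishing elements. -/
theorem vanishes_mul {G : Type u} [Group G] [Finite G] {p : ℕ} [Fact p.Prime] (N A : Subgroup G)
    [N.Normal] [Group.IsSolvable N] (hNp : (Nat.card N).Coprime p) (hA : IsPGroup p A)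
    (hAab : ∀ x ∈ A, ∀ y ∈ A, x * y = y * x) (hX : (A ⊔ N).Normal) {a : G} (ha : a ∈ A)
    (hac : a ∉ Subgroup.centralizer (N : Set G)) {k : G} (hk : k ∈ N) : Vanishes (a * k) :=
  vanishes_mul_core _ G rfl p N A hNp hA hAab hX a ha hac k hk

/-- Over a normal subgroup of order `p`, an element conjugate to its whole coset vanishes. -/
theorem vanishes_of_coset {Q : Type u} [Group Q] [Finite Q] (Z : Subgroup Q) [Z.Normal]
    (hZ : Z ≠ ⊥) {y : Q} (hy : ∀ z ∈ Z, ∃ w : Q, z * y = w * y * w⁻¹) : Vanishes y := by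
  classical
  have := Fintype.ofFinite Q
  have := Fintype.ofFinite Z
  have := Fintype.ofFinite (IrrCharacter Q)
  obtain ⟨χ, hχ⟩ : ∃ χ : IrrCharacter Q, cosetAvg Z (χ : Q → ℂ) ≠ (χ : Q → ℂ) := by
    by_contra hall
    push Not at hall
    obtain ⟨z, hz⟩ := Subgroup.ne_bot_iff_exists_ne_one.1 hZ
    have hker : ∀ χ : IrrCharacter Q, (χ : Q → ℂ) z = (χ : Q → ℂ) 1 := fun χ => by
      have h1 := cosetAvg_mul_left Z (χ : Q → ℂ) z 1
      rw [mul_one, hall χ] at h1
      exact h1
    have e1 := sum_irr_mul_conj (G := Q) (z : Q) 1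
    rw [if_neg (fun e => hz (Subtype.ext (isConj_one_left.1 e)))] at e1
    have e2 := sum_irr_mul_conj (G := Q) 1 1
    rw [if_pos (IsConj.refl _)] at e2
    rw [Finset.sum_congr rfl fun χ _ => by rw [hker χ], e2] at e1
    exact Nat.cast_ne_zero.2 Nat.card_pos.ne' e1
  refine ⟨χ, ?_⟩
  have h0 := congrFun ((cosetAvg_irr Z χ).resolve_left hχ) y
  simp only [cosetAvg, Pi.zero_apply] at h0
  rw [Finset.sum_congr rfl fun (z : Z) _ => ?_, Finset.sum_const, Finset.card_univ, nsmul_eq_mul,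
    ← Nat.card_eq_fintype_card, ← mul_assoc,
    inv_mul_cancel₀ (Nat.cast_ne_zero.2 Nat.card_pos.ne'), one_mul] at h0
  · exact h0
  · obtain ⟨w, hw⟩ := hy z z.2
    have h1 := isClassFunction_irr χ y w
    rw [← hw] at h1
    exact h1

/-- The main bound. -/
theorem card_sylow_le {G : Type u} [Group G] [Finite G] [Group.IsSolvable G] {p : ℕ}
    [hp : Fact p.Prime] (hO : Cfsg.pCore p G = ⊥)
    (hsame : ∀ g h : G, p ∣ orderOf g → p ∣ orderOf h → Vanishes g → Vanishes h →
      ordCompl[p] (orderOf g) = ordCompl[p] (orderOf h))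
    (hpow : ∀ g : G, p ∣ orderOf g → Vanishes g → p ∣ orderOf (g ^ p) → ¬ Vanishes (g ^ p))
    (P : Sylow p G) : Nat.card (P : Subgroup G) ≤ p := by
  classical
  by_cases hP : (P : Subgroup G) = ⊥
  · rw [hP, Subgroup.card_bot]; exact hp.out.one_lt.le
  set N := Cfsg.pPrimeCore p G with hN
  haveI hNn : N.Normal := Subgroup.sSup_normal _ (fun _ h => h.1)
  have hNp : (Nat.card N).Coprime p :=
    (hp.out.coprime_iff_not_dvd.2 (Coprime.pPrimeCore_not_dvd hp.out)).symm
  haveI : Group.IsSolvable N :=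
    Group.isSolvable_of_isSolvable_injective N.subtype_injective
  have hCN : Subgroup.centralizer (N : Set G) ≤ N :=
    Solv.AbHall.centralizer_pPrimeCore_le_self hO
  have hPN : (P : Subgroup G) ⊓ N = ⊥ := by
    refine Subgroup.inf_eq_bot_of_coprime ?_
    obtain ⟨i, hi⟩ := IsPGroup.iff_card.1 P.2
    rw [hi]
    exact (hNp.pow_right i).symm
  have hnc : ∀ {a : G}, a ∈ (P : Subgroup G) → a ≠ 1 → a ∉ Subgroup.centralizer (N : Set G) :=
    fun ha ha1 hc => ha1 (Subgroup.mem_bot.1 (hPN ▸ ⟨ha, hCN hc⟩))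
  have hN1 : N ≠ ⊥ := by
    intro e
    obtain ⟨a, ha⟩ := Subgroup.ne_bot_iff_exists_ne_one.1 hP
    refine hnc a.2 (fun h => ha (Subtype.ext h)) (Subgroup.mem_centralizer_iff.2 fun x hx => ?_)
    rw [SetLike.mem_coe, e, Subgroup.mem_bot] at hx
    simp [hx]
  set π := QuotientGroup.mk' N with hπ
  have hsur : Function.Surjective π := QuotientGroup.mk'_surjective N
  have hinj : ∀ {x : G}, x ∈ (P : Subgroup G) → π x = 1 → x = 1 := fun hx h =>
    Subgroup.mem_bot.1 (hPN ▸ ⟨hx, (QuotientGroup.eq_one_iff _).1 h⟩)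
  -- the `p`-core of the quotient
  set Xb := Cfsg.pCore p (G ⧸ N) with hXb
  haveI hXbn : Xb.Normal := Coprime.pCore_normal' p
  haveI : Group.IsSolvable (G ⧸ N) := Group.isSolvable_of_surjective hsur
  have hCX : Subgroup.centralizer (Xb : Set (G ⧸ N)) ≤ Xb :=
    Invol.centralizer_pCore_le_of_solvable (Coprime.pPrimeCore_quotient_eq_bot hp.out)
  have hPb : Xb ≤ (P : Subgroup G).map π := by
    exact (Coprime.pCore_isPGroup (G := G ⧸ N) p).le_sylow_of_normal (P.mapSurjective hsur)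
  set P0 := (P : Subgroup G) ⊓ Xb.comap π with hP0
  have hP0N : P0.map π = Xb := by
    refine le_antisymm (Subgroup.map_le_iff_le_comap.2 inf_le_right) fun x hx => ?_
    obtain ⟨u, hu, rfl⟩ := hPb hx
    exact ⟨u, ⟨hu, hx⟩, rfl⟩
  have hP0p : IsPGroup p P0 := P.2.to_le inf_le_left
  have hP0ne : P0 ≠ ⊥ := by
    intro e
    rw [e, Subgroup.map_bot] at hP0N
    obtain ⟨a, ha⟩ := Subgroup.ne_bot_iff_exists_ne_one.1 hP
    have hmem : π a ∈ Xb := hCX (Subgroup.mem_centralizer_iff.2 fun x hx => by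
      rw [SetLike.mem_coe, ← hP0N, Subgroup.mem_bot] at hx
      simp [hx])
    rw [← hP0N, Subgroup.mem_bot] at hmem
    exact ha (Subtype.ext (hinj a.2 hmem))
  -- the centre of `P0`
  set Z := (Subgroup.center P0).map P0.subtype with hZ
  have hZP0 : Z ≤ P0 := Subgroup.map_subtype_le _
  have hZab : ∀ x ∈ Z, ∀ y ∈ Z, x * y = y * x := by
    rintro _ ⟨x, -, rfl⟩ _ ⟨y, hy, rfl⟩
    exact congrArg Subtype.val (Subgroup.mem_center_iff.1 hy x)
  have hZcent : ∀ x ∈ Z, ∀ y ∈ P0, x * y = y * x := by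
    rintro _ ⟨x, hx, rfl⟩ y hy
    exact (congrArg Subtype.val (Subgroup.mem_center_iff.1 hx ⟨y, hy⟩)).symm
  haveI hP0nil := hP0p.isNilpotent
  have hZne : Z ≠ ⊥ := by
    intro e
    rw [hZ, Subgroup.map_eq_bot_iff_of_injective _ P0.subtype_injective] at e
    haveI : Nontrivial P0 := (Subgroup.nontrivial_iff_ne_bot P0).2 hP0ne
    haveI := hP0p.center_nontrivial
    exact (Subgroup.nontrivial_iff_ne_bot _).1 inferInstance e
  have hdecomp : ∀ {g : G}, π g ∈ Xb → ∃ u ∈ P0, ∃ k ∈ N, g = u * k := by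
    intro g hg
    obtain ⟨u, hu, he⟩ := hP0N.ge hg
    exact ⟨u, hu, u⁻¹ * g, QuotientGroup.eq.1 he, (mul_inv_cancel_left u g).symm⟩
  have hZmap : ∀ z ∈ Z, ∀ g : G, π (g * z * g⁻¹) ∈ Z.map π := by
    intro z hz g
    have hx : π (g * z * g⁻¹) ∈ Xb := by
      rw [map_mul, map_mul, map_inv]
      exact hXbn.conj_mem _ (hP0N ▸ Subgroup.mem_map_of_mem π (hZP0 hz)) _
    obtain ⟨u, hu, he⟩ := hP0N.ge hx
    refine ⟨u, ⟨⟨u, hu⟩, Subgroup.mem_center_iff.2 fun w => Subtype.ext ?_, rfl⟩, he⟩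
    show (w : G) * u = u * w
    -- conjugate back to `z`
    have hw : π (g⁻¹ * w * g) ∈ Xb := by
      have := hXbn.conj_mem _ (hP0N ▸ Subgroup.mem_map_of_mem π w.2) (π g)⁻¹
      simpa [map_mul] using this
    obtain ⟨w', hw', he'⟩ := hP0N.ge hw
    have h1 : π (w : G) * π u = π u * π (w : G) := by
      have h2 := congrArg π (hZcent z hz w' hw')
      rw [map_mul, map_mul, he'] at h2
      rw [he]
      simp only [map_mul, map_inv] at h2 ⊢
      calc π (w : G) * (π g * π z * (π g)⁻¹)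
          = π g * ((π g)⁻¹ * π (w : G) * π g * π z) * (π g)⁻¹ := by group
        _ = π g * (π z * ((π g)⁻¹ * π (w : G) * π g)) * (π g)⁻¹ := by rw [h2]
        _ = π g * π z * (π g)⁻¹ * π (w : G) := by group
    rw [← map_mul, ← map_mul] at h1
    have h3 : ((w : G) * u)⁻¹ * (u * w) ∈ (P : Subgroup G) ⊓ N :=
      ⟨(P : Subgroup G).mul_mem ((P : Subgroup G).inv_mem ((P : Subgroup G).mul_mem w.2.1 hu.1))
        ((P : Subgroup G).mul_mem hu.1 w.2.1), QuotientGroup.eq.1 h1⟩
    rw [hPN, Subgroup.mem_bot, inv_mul_eq_one] at h3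
    exact h3
  haveI hZbn : (Z.map π).Normal := ⟨by
    rintro _ ⟨z, hz, rfl⟩ x
    obtain ⟨g, rfl⟩ := hsur x
    have := hZmap z hz g
    rwa [map_mul, map_mul, map_inv] at this⟩
  have hZNn : (Z ⊔ N).Normal := by
    have e : Z ⊔ N = (Z.map π).comap π := by rw [Subgroup.comap_map_eq, hπ, QuotientGroup.ker_mk']
    rw [e]
    exact hZbn.comap π
  have hpdvd : ∀ {a : G}, a ∈ (P : Subgroup G) → a ≠ 1 → ∀ {k : G}, k ∈ N → p ∣ orderOf (a * k) := by
    intro a ha ha1 k hk
    refine dvd_trans ?_ (orderOf_map_dvd π (a * k))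
    rw [map_mul, show π k = 1 from (QuotientGroup.eq_one_iff k).2 hk, mul_one]
    obtain ⟨i, hi⟩ := IsPGroup.iff_orderOf.1 (P.2.map π) ⟨π a, a, ha, rfl⟩
    rw [← Subgroup.orderOf_coe] at hi
    rcases Nat.eq_zero_or_pos i with rfl | hi0
    · exact absurd (hinj ha (orderOf_eq_one_iff.1 (by simpa using hi))) ha1
    · exact hi ▸ dvd_pow_self p hi0.ne'
  have hZvan : ∀ {a : G}, a ∈ Z → a ≠ 1 → ∀ {k : G}, k ∈ N → Vanishes (a * k) := fun ha ha1 _ hk =>
    vanishes_mul N Z hNp (hP0p.to_le hZP0) hZab hZNn ha (hnc (hZP0 ha).1 ha1) hk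
  -- every vanishing element of order divisible by `p` is a `p`-element
  have hpel : ∀ g : G, p ∣ orderOf g → Vanishes g → ordCompl[p] (orderOf g) = 1 := by
    intro g hg hgv
    obtain ⟨z, hz⟩ := Subgroup.ne_bot_iff_exists_ne_one.1 hZne
    have hz1 : (z : G) ≠ 1 := fun e => hz (Subtype.ext e)
    have hzP : (z : G) ∈ (P : Subgroup G) := (hZP0 z.2).1
    have hv := hZvan z.2 hz1 (one_mem N)
    have hd := hpdvd hzP hz1 (one_mem N)
    rw [mul_one] at hv hd
    rw [hsame g z hg hd hgv hv]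
    obtain ⟨i, hi⟩ := IsPGroup.iff_orderOf.1 P.2 ⟨z, hzP⟩
    rw [Subgroup.orderOf_mk] at hi
    rw [hi]
    exact Nat.ordCompl_self_pow hp.out
  -- elements whose coset vanishes act without fixed points
  have hfpf : ∀ a ∈ (P : Subgroup G), a ≠ 1 → (∀ k ∈ N, Vanishes (a * k)) →
      N ⊓ Subgroup.centralizer {a} = ⊥ := by
    intro a ha ha1 hv
    refine (Subgroup.eq_bot_iff_forall _).2 fun k hk => ?_
    have hc : Commute a k := (Subgroup.mem_centralizer_singleton_iff.1 hk.2).symm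
    obtain ⟨i, hi⟩ := IsPGroup.iff_orderOf.1 P.2 ⟨a, ha⟩
    rw [Subgroup.orderOf_mk] at hi
    have hkN : orderOf k ∣ Nat.card N := by
      rw [← Subgroup.orderOf_mk k hk.1]; exact orderOf_dvd_natCard _
    have hcop : (orderOf a).Coprime (orderOf k) := by
      rw [hi]; exact ((hNp.coprime_dvd_left hkN).pow_right i).symm
    have h1 := hpel (a * k) (hpdvd ha ha1 hk.1) (hv k hk.1)
    rw [hc.orderOf_mul_eq_mul_orderOf_of_coprime hcop, Nat.ordCompl_mul, hi,
      Nat.ordCompl_self_pow hp.out, one_mul,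
      (Nat.ordCompl_eq_self_iff_zero_or_not_dvd _ hp.out).2 (Or.inr fun h =>
        hp.out.coprime_iff_not_dvd.1 hNp.symm (h.trans hkN))] at h1
    exact orderOf_eq_one_iff.1 h1
  -- and have order `p`
  have hexp : ∀ a ∈ (P : Subgroup G), a ≠ 1 → Vanishes a → a ^ p ∈ Z → a ^ p = 1 := by
    intro a ha ha1 hv hZ'
    by_contra hne
    have h1 := hpdvd ha ha1 (one_mem N)
    have h2 := hpdvd ((P : Subgroup G).pow_mem ha p) hne (one_mem N)
    rw [mul_one] at h1 h2
    have h3 := hZvan hZ' hne (one_mem N)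
    rw [mul_one] at h3
    exact hpow a h1 hv h2 h3
  have hvan1 : ∀ a : G, (∀ k ∈ N, Vanishes (a * k)) → Vanishes a := fun a h => by
    simpa using h 1 (one_mem N)
  have hcyc : ∀ E : Subgroup G, E ≤ (P : Subgroup G) → (∀ x ∈ E, ∀ y ∈ E, x * y = y * x) →
      (∀ a ∈ E, a ≠ 1 → ∀ k ∈ N, Vanishes (a * k)) → (∀ a ∈ E, a ^ p = 1) →
      Nat.card E ≤ p := by
    intro E hE hEab hEv hEp
    haveI : IsMulCommutative E := ⟨⟨fun x y => Subtype.ext (hEab x x.2 y y.2)⟩⟩
    have hnor : E ≤ Subgroup.normalizer (N : Set G) := by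
      rw [Subgroup.normalizer_eq_top]; exact le_top
    haveI hc := Coprime.IsFpfOn.isCyclic (A := E) (K := N) hnor
      (fun a ha ha1 => hfpf a (hE ha) ha1 (hEv a ha ha1)) hN1
    obtain ⟨g, hg⟩ := IsCyclic.exists_ofOrder_eq_natCard (α := E)
    rw [← hg]
    refine Nat.le_of_dvd hp.out.pos (orderOf_dvd_of_pow_eq_one (Subtype.ext ?_))
    simpa using hEp g g.2
  have hZexp : ∀ a ∈ Z, a ^ p = 1 := by
    intro a ha
    by_cases ha1 : a = 1
    · rw [ha1, one_pow]
    · refine hexp a (hZP0 ha).1 ha1 ?_ (Z.pow_mem ha p)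
      simpa using hZvan ha ha1 (one_mem N)
  have hZcard : Nat.card Z = p := by
    refine le_antisymm (hcyc Z (fun x hx => (hZP0 hx).1) hZab (fun a ha ha1 k hk => hZvan ha ha1 hk) hZexp) ?_
    obtain ⟨i, hi⟩ := IsPGroup.iff_card.1 (hP0p.to_le hZP0)
    rw [hi]
    refine Nat.le_self_pow (fun e => hZne ?_) p
    rw [e, pow_zero] at hi
    exact Subgroup.card_eq_one.1 hi
  -- `P0` is abelian
  have hP0Z : P0 ≤ Z := by
    by_contra hne
    set Zc := Subgroup.center P0
    have hntop : Zc ≠ ⊤ := fun e => hne fun x hx =>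
      ⟨⟨x, hx⟩, show (⟨x, hx⟩ : P0) ∈ Zc from e ▸ Subgroup.mem_top _, rfl⟩
    haveI : Nontrivial (P0 ⧸ Zc) := by
      rw [← Finite.one_lt_card_iff_nontrivial, ← Subgroup.index_eq_card]
      have h0 := Subgroup.index_ne_zero_of_finite (H := Zc)
      have h1 : Zc.index ≠ 1 := fun h => hntop (Subgroup.index_eq_one.1 h)
      omega
    haveI := (hP0p.to_quotient Zc).center_nontrivial
    obtain ⟨yb, hyb⟩ := exists_ne (1 : Subgroup.center (P0 ⧸ Zc))
    obtain ⟨y, hy⟩ := QuotientGroup.mk_surjective (yb : P0 ⧸ Zc)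
    have hyZ : (y : G) ∉ Z := by
      rintro ⟨x, hx, hxy⟩
      refine hyb (Subtype.ext ?_)
      rw [← hy, ← Subtype.ext hxy]
      exact (QuotientGroup.eq_one_iff x).2 hx
    have hcomm : ∀ w ∈ P0, ⁅(y : G), w⁆ ∈ Z := by
      intro w hw
      refine ⟨⁅y, ⟨w, hw⟩⁆, ?_, by simp [commutatorElement_def]⟩
      show ⁅y, (⟨w, hw⟩ : P0)⁆ ∈ Zc
      rw [← QuotientGroup.eq_one_iff, ← QuotientGroup.mk'_apply, map_commutatorElement,
        commutatorElement_eq_one_iff_mul_comm, QuotientGroup.mk'_apply, QuotientGroup.mk'_apply, hy]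
      exact (Subgroup.mem_center_iff.1 yb.2 _).symm
    -- such elements vanish with their cosets
    have hvan : ∀ x : G, x ∈ P0 → x ∉ Z → (∀ w ∈ P0, ⁅x, w⁆ ∈ Z) → ∀ k ∈ N, Vanishes (x * k) := by
      intro x hx hxZ hxc k hk
      refine vanishes_of_map π hsur ?_
      rw [map_mul, show π k = 1 from (QuotientGroup.eq_one_iff k).2 hk, mul_one]
      refine vanishes_of_coset (Z.map π) ?_ ?_
      · intro e
        obtain ⟨z, hz⟩ := Subgroup.ne_bot_iff_exists_ne_one.1 hZne
        have h1 : π z ∈ Z.map π := Subgroup.mem_map_of_mem π z.2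
        rw [e, Subgroup.mem_bot] at h1
        exact hz (Subtype.ext (hinj (hZP0 z.2).1 h1))
      obtain ⟨w, hw, hxw⟩ : ∃ w ∈ P0, ⁅x, w⁆ ≠ 1 := by
        by_contra hall
        push Not at hall
        exact hxZ ⟨⟨x, hx⟩, Subgroup.mem_center_iff.2 fun w =>
          Subtype.ext (commutatorElement_eq_one_iff_mul_comm.1 (hall w w.2)).symm, rfl⟩
      set c := ⁅x, w⁆⁻¹ with hc
      have hcZ : c ∈ Z := inv_mem (hxc w hw)
      have hstep : w * x * w⁻¹ = c * x := by rw [hc, commutatorElement_def]; group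
      have hcx : Commute c x := hZcent c hcZ x hx
      have hcw : Commute c w := hZcent c hcZ w hw
      have hiter : ∀ i : ℕ, w ^ i * x * (w ^ i)⁻¹ = c ^ i * x := by
        intro i
        induction i with
        | zero => simp
        | succ i ih =>
          calc w ^ (i + 1) * x * (w ^ (i + 1))⁻¹ = w * (w ^ i * x * (w ^ i)⁻¹) * w⁻¹ := by group
            _ = (w * c ^ i) * x * w⁻¹ := by rw [ih]; group
            _ = c ^ i * (w * x * w⁻¹) := by rw [(hcw.pow_left i).eq.symm]; group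
            _ = c ^ (i + 1) * x := by rw [hstep, pow_succ]; group
      rintro _ ⟨z, hz, rfl⟩
      obtain ⟨i, hi⟩ : ∃ i : ℕ, (⟨c, hcZ⟩ : Z) ^ i = ⟨z, hz⟩ :=
        mem_powers_of_prime_card hZcard fun e => hxw (inv_eq_one.1 (congrArg Subtype.val e))
      refine ⟨π (w ^ i), ?_⟩
      rw [← map_mul, ← map_inv, ← map_mul, ← map_mul, hiter,
        show z = c ^ i from (congrArg Subtype.val hi).symm]
    -- `y` has order `p`
    have hyp : (y : G) ∈ (P : Subgroup G) := y.2.1
    have hy1 : (y : G) ≠ 1 := fun e => hyZ (e ▸ one_mem Z)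
    have hyv := hvan y y.2 hyZ hcomm
    have hypZ : (y : G) ^ p ∈ Z := by
      refine ⟨y ^ p, Subgroup.mem_center_iff.2 fun w => Subtype.ext ?_, by simp⟩
      set c := ⁅(y : G), (w : G)⁆⁻¹ with hc
      have hcZ : c ∈ Z := inv_mem (hcomm w w.2)
      have hstep : (w : G) * y * (w : G)⁻¹ = c * y := by rw [hc, commutatorElement_def]; group
      have h1 : (w : G) * (y : G) ^ p * (w : G)⁻¹ = (y : G) ^ p := by
        rw [← conj_pow, hstep, Commute.mul_pow (hZcent c hcZ y y.2), hZexp c hcZ, one_mul]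
      simpa using mul_inv_eq_iff_eq_mul.1 h1
    have hypow := hexp y hyp hy1 (hvan1 _ hyv) hypZ
    set E := Z ⊔ Subgroup.zpowers (y : G) with hE
    have hEle : E ≤ P0 := sup_le hZP0 (Subgroup.zpowers_le.2 y.2)
    have hEdec : ∀ x ∈ E, ∃ z ∈ Z, ∃ i : ℤ, x = z * (y : G) ^ i := by
      intro x hx
      have hnor : Subgroup.zpowers (y : G) ≤ Subgroup.normalizer (Z : Set G) :=
        Subgroup.zpowers_le.2 (Subgroup.centralizer_le_normalizer _
          (Subgroup.mem_centralizer_iff.2 fun z hz => hZcent z hz y y.2))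
      obtain ⟨z, hz, t, ht, rfl⟩ := Coprime.mem_sup_exists hnor (hE ▸ hx)
      obtain ⟨i, rfl⟩ := Subgroup.mem_zpowers_iff.1 ht
      exact ⟨z, hz, i, rfl⟩
    have hyc : ∀ z ∈ Z, ∀ i : ℤ, Commute z ((y : G) ^ i) := fun z hz i =>
      (show Commute z (y : G) from hZcent z hz y y.2).zpow_right i
    have hEab : ∀ x ∈ E, ∀ x' ∈ E, x * x' = x' * x := by
      intro x hx x' hx'
      obtain ⟨z, hz, i, rfl⟩ := hEdec x hx
      obtain ⟨z', hz', i', rfl⟩ := hEdec x' hx'
      exact ((show Commute z z' from hZab z hz z' hz').mul_right (hyc z hz i')).mul_left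
        (((hyc z' hz' i).symm).mul_right ((Commute.refl (y : G)).zpow_zpow i i'))
    have hEexp : ∀ x ∈ E, x ^ p = 1 := by
      intro x hx
      obtain ⟨z, hz, i, rfl⟩ := hEdec x hx
      rw [(hyc z hz i).mul_pow, hZexp z hz, one_mul, ← zpow_natCast, ← zpow_mul, mul_comm, zpow_mul,
        zpow_natCast, hypow, one_zpow]
    have hEcomm : ∀ x ∈ E, ∀ w ∈ P0, ⁅x, w⁆ ∈ Z := by
      intro x hx w hw
      let S : Subgroup P0 := (Subgroup.center (P0 ⧸ Zc)).comap (QuotientGroup.mk' Zc)
      have hle : E ≤ S.map P0.subtype := by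
        refine sup_le (Subgroup.map_mono fun t ht => ?_) (Subgroup.zpowers_le.2 ⟨y, ?_, rfl⟩)
        · rw [Subgroup.mem_comap, QuotientGroup.mk'_apply, (QuotientGroup.eq_one_iff t).2 ht]
          exact one_mem _
        · rw [SetLike.mem_coe, Subgroup.mem_comap, QuotientGroup.mk'_apply, hy]
          exact yb.2
      obtain ⟨x', hx', rfl⟩ := hle hx
      refine ⟨⁅x', ⟨w, hw⟩⁆, ?_, by simp [commutatorElement_def]⟩
      show ⁅x', (⟨w, hw⟩ : P0)⁆ ∈ Zc
      rw [← QuotientGroup.eq_one_iff, ← QuotientGroup.mk'_apply, map_commutatorElement,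
        commutatorElement_eq_one_iff_mul_comm]
      exact (Subgroup.mem_center_iff.1 (Subgroup.mem_comap.1 hx') _).symm
    have hcard := hcyc E (hEle.trans inf_le_left) hEab (fun x hx hx1 k hk => by
      by_cases hxZ : x ∈ Z
      · exact hZvan hxZ hx1 hk
      · exact hvan x (hEle hx) hxZ (hEcomm x hx) k hk) hEexp
    have hEZ : Z = E := Subgroup.eq_of_le_of_card_ge le_sup_left (by rw [hZcard]; exact hcard)
    exact hyZ (hEZ ▸ Subgroup.mem_sup_right (Subgroup.mem_zpowers _))
  -- `P` centralizes `Z`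
  have hPle : (P : Subgroup G) ≤ P0 := by
    intro x hx
    haveI := P.2.isNilpotent
    haveI hP0P : (P0.subgroupOf (P : Subgroup G)).Normal := by
      have : P0.subgroupOf (P : Subgroup G) = (Xb.comap π).subgroupOf (P : Subgroup G) := by
        ext t; simp [hP0, Subgroup.mem_subgroupOf]
      rw [this]
      exact (hXbn.comap π).subgroupOf _
    have hne : P0.subgroupOf (P : Subgroup G) ≠ ⊥ := by
      rw [ne_eq, Subgroup.subgroupOf_eq_bot, disjoint_iff, inf_eq_left.2 inf_le_left]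
      exact hP0ne
    obtain ⟨w, hw⟩ := Subgroup.ne_bot_iff_exists_ne_one.1
      (Coprime.nilpotent_inf_center_ne_bot (P0.subgroupOf (P : Subgroup G)) hne)
    have hwZ : ((w : (P : Subgroup G)) : G) ∈ Z := hP0Z w.2.1
    refine ⟨hx, hCX (Subgroup.mem_centralizer_iff.2 fun t ht => ?_)⟩
    obtain ⟨v, hv, rfl⟩ := hP0N.ge ht
    obtain ⟨i, hi⟩ : ∃ i : ℕ, (⟨_, hwZ⟩ : Z) ^ i = ⟨v, hP0Z hv⟩ :=
      mem_powers_of_prime_card hZcard fun e => hw (Subtype.ext (Subtype.ext (congrArg Subtype.val e : ((w : (P : Subgroup G)) : G) = 1)))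
    have h1 : Commute x ((w : (P : Subgroup G)) : G) :=
      congrArg Subtype.val (Subgroup.mem_center_iff.1 w.2.2 ⟨x, hx⟩)
    have h2 : Commute x v := by
      rw [show v = ((w : (P : Subgroup G)) : G) ^ i from (congrArg Subtype.val hi).symm]
      exact h1.pow_right i
    rw [← map_mul, ← map_mul, h2.eq]
  exact (Subgroup.card_le_of_le (hPle.trans hP0Z)).trans hZcard.le

/-- All vanishing elements of order divisible by `p` have order `b`: modulo the `p`-core the Sylow
`p`-subgroup has order at most `p`. -/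
theorem card_map_sylow_le {G : Type u} [Group G] [Finite G] [Group.IsSolvable G] {p : ℕ}
    [hp : Fact p.Prime] {b : ℕ} (hb : ∀ g : G, p ∣ orderOf g → Vanishes g → orderOf g = b)
    [(Cfsg.pCore p G).Normal] (P : Sylow p G) :
    Nat.card ((P : Subgroup G).map (QuotientGroup.mk' (Cfsg.pCore p G))) ≤ p := by
  set π := QuotientGroup.mk' (Cfsg.pCore p G) with hπ
  have hsur : Function.Surjective π := QuotientGroup.mk'_surjective _
  haveI : Group.IsSolvable (G ⧸ Cfsg.pCore p G) := Group.isSolvable_of_surjective hsur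
  -- lifting
  have hlift : ∀ g : G, p ∣ orderOf (π g) → Vanishes (π g) → orderOf g = b := fun g hd hv =>
    hb g (hd.trans (orderOf_map_dvd π g)) (vanishes_of_map π hsur hv)
  have hcompl : ∀ g : G, ordCompl[p] (orderOf (π g)) = ordCompl[p] (orderOf g) := by
    intro g
    obtain ⟨c, hc⟩ := orderOf_map_dvd π g
    have hmem : g ^ orderOf (π g) ∈ Cfsg.pCore p G := by
      rw [← QuotientGroup.eq_one_iff, QuotientGroup.mk_pow]
      exact pow_orderOf_eq_one (π g)
    obtain ⟨i, hi⟩ := IsPGroup.iff_orderOf.1 (Coprime.pCore_isPGroup (G := G) p) ⟨_, hmem⟩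
    rw [Subgroup.orderOf_mk, orderOf_pow, Nat.gcd_eq_right ⟨c, hc⟩, hc,
      Nat.mul_div_cancel_left _ (orderOf_pos (π g))] at hi
    rw [hc, hi, Nat.ordCompl_mul, Nat.ordCompl_self_pow hp.out, mul_one]
  refine card_sylow_le (Coprime.pCore_quotient_eq_bot p) (fun x y hx hy hvx hvy => ?_)
    (fun x hx hvx hxp hvxp => ?_) (P.mapSurjective hsur)
  · obtain ⟨g, rfl⟩ := hsur x
    obtain ⟨h, rfl⟩ := hsur y
    rw [hcompl, hcompl, hlift g hx hvx, hlift h hy hvy]
  · obtain ⟨g, rfl⟩ := hsur x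
    have h1 := hlift g hx hvx
    rw [← map_pow] at hxp hvxp
    have h2 := hlift (g ^ p) hxp hvxp
    have hd : p ∣ orderOf g := hx.trans (orderOf_map_dvd π g)
    rw [orderOf_pow_of_dvd hp.out.ne_zero hd, h1] at h2
    have := Nat.div_lt_self (h1 ▸ orderOf_pos g) hp.out.one_lt
    omega

end CfsgLib.Char.VanishingP
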