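import Mathlib

/-!
# The wreath product of a group of order three with the symmetric group on three points

`Gens G` records five elements satisfying the relations of that group of order 162.
`Gens.equiv` identifies two groups of order 162 carrying nondegenerate generators.
-/

set_option autoImplicit false

namespace CfsgLib.Char.WreathThree

abbrev V : Type := ZMod 3 × ZMod 3 × ZMod 3

abbrev T : Type := V × ZMod 3 × ZMod 2

def rot (n : V) : V := (n.2.2, n.1, n.2.1)

def sw (n : V) : V := (n.1, n.2.2, n.2.1)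

def mulT (x y : T) : T :=
  (x.1 + rot^[x.2.1.val] (sw^[x.2.2.val] y.1),
    x.2.1 + (if x.2.2 = 0 then y.2.1 else -y.2.1), x.2.2 + y.2.2)

theorem pow_val_add {G : Type*} [Monoid G] {n : ℕ} [NeZero n] {x : G} (hx : x ^ n = 1)
    (a b : ZMod n) : x ^ (a + b).val = x ^ a.val * x ^ b.val := by
  rw [ZMod.val_add, ← pow_add, ← pow_eq_pow_mod _ hx]

theorem z3 : ∀ i : ZMod 3, i = 0 ∨ i = 1 ∨ i = 2 := by decide

theorem z2 : ∀ i : ZMod 2, i = 0 ∨ i = 1 := by decide

structure Gens (G : Type*) [Group G] where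
  A : G
  B : G
  C : G
  s : G
  t : G
  hA : A ^ 3 = 1
  hB : B ^ 3 = 1
  hC : C ^ 3 = 1
  hs : s ^ 3 = 1
  ht : t ^ 2 = 1
  hAB : A * B = B * A
  hAC : A * C = C * A
  hBC : B * C = C * B
  sA : s * A = B * s
  sB : s * B = C * s
  sC : s * C = A * s
  tA : t * A = A * t
  tB : t * B = C * t
  tC : t * C = B * t
  tS : t * s = s ^ 2 * t

namespace Gens

variable {G : Type*} [Group G] (d : Gens G)

def vec (n : V) : G := d.A ^ n.1.val * d.B ^ n.2.1.val * d.C ^ n.2.2.val

theorem vec_zero : d.vec 0 = 1 := by simp [vec]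

theorem vec_add (m n : V) : d.vec (m + n) = d.vec m * d.vec n := by
  have h1 : Commute d.A d.B := d.hAB
  have h2 : Commute d.A d.C := d.hAC
  have h3 : Commute d.B d.C := d.hBC
  simp only [vec, Prod.fst_add, Prod.snd_add, pow_val_add d.hA, pow_val_add d.hB, pow_val_add d.hC]
  have e1 : Commute (d.A ^ n.1.val) (d.B ^ m.2.1.val) := h1.pow_pow _ _
  have e2 : Commute (d.A ^ n.1.val) (d.C ^ m.2.2.val) := h2.pow_pow _ _
  have e3 : Commute (d.B ^ n.2.1.val) (d.C ^ m.2.2.val) := h3.pow_pow _ _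
  calc d.A ^ m.1.val * d.A ^ n.1.val * (d.B ^ m.2.1.val * d.B ^ n.2.1.val) *
        (d.C ^ m.2.2.val * d.C ^ n.2.2.val)
      = d.A ^ m.1.val * (d.A ^ n.1.val * d.B ^ m.2.1.val) *
        (d.B ^ n.2.1.val * d.C ^ m.2.2.val) * d.C ^ n.2.2.val := by simp only [mul_assoc]
    _ = d.A ^ m.1.val * d.B ^ m.2.1.val * (d.A ^ n.1.val * d.C ^ m.2.2.val) *
        d.B ^ n.2.1.val * d.C ^ n.2.2.val := by rw [e1.eq, e3.eq]; simp only [mul_assoc]
    _ = d.A ^ m.1.val * d.B ^ m.2.1.val * d.C ^ m.2.2.val *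
        (d.A ^ n.1.val * d.B ^ n.2.1.val * d.C ^ n.2.2.val) := by
      rw [e2.eq]; simp only [mul_assoc]

theorem s_vec (n : V) : d.s * d.vec n = d.vec (rot n) * d.s := by
  have h1 : SemiconjBy d.s d.A d.B := d.sA
  have h2 : SemiconjBy d.s d.B d.C := d.sB
  have h3 : SemiconjBy d.s d.C d.A := d.sC
  have h := ((h1.pow_right n.1.val).mul_right (h2.pow_right n.2.1.val)).mul_right
    (h3.pow_right n.2.2.val)
  refine h.eq.trans ?_
  congr 1
  have k1 : Commute d.A d.B := d.hAB
  have k2 : Commute d.A d.C := d.hAC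
  simp only [vec, rot]
  rw [mul_assoc (d.A ^ _) (d.B ^ _) (d.C ^ _)]
  exact (Commute.mul_right (k1.pow_pow _ _) (k2.pow_pow _ _)).eq.symm

theorem t_vec (n : V) : d.t * d.vec n = d.vec (sw n) * d.t := by
  have h1 : SemiconjBy d.t d.A d.A := d.tA
  have h2 : SemiconjBy d.t d.B d.C := d.tB
  have h3 : SemiconjBy d.t d.C d.B := d.tC
  have h := ((h1.pow_right n.1.val).mul_right (h2.pow_right n.2.1.val)).mul_right
    (h3.pow_right n.2.2.val)
  refine h.eq.trans ?_
  congr 1
  have k3 : Commute d.B d.C := d.hBC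
  simp only [vec, sw]
  rw [mul_assoc, mul_assoc, (k3.pow_pow _ _).eq]

theorem s_pow_vec (i : ℕ) (n : V) : d.s ^ i * d.vec n = d.vec (rot^[i] n) * d.s ^ i := by
  induction i generalizing n with
  | zero => simp
  | succ i ih =>
    rw [pow_succ, mul_assoc, d.s_vec, ← mul_assoc, ih, Function.iterate_succ_apply, mul_assoc]

theorem t_pow_vec (i : ℕ) (n : V) : d.t ^ i * d.vec n = d.vec (sw^[i] n) * d.t ^ i := by
  induction i generalizing n with
  | zero => simp
  | succ i ih =>
    rw [pow_succ, mul_assoc, d.t_vec, ← mul_assoc, ih, Function.iterate_succ_apply, mul_assoc]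

theorem t_pow_s (k : ZMod 2) (i : ZMod 3) :
    d.t ^ k.val * d.s ^ i.val = d.s ^ (if k = 0 then i else -i).val * d.t ^ k.val := by
  rcases (show k = 0 ∨ k = 1 by revert k; decide) with rfl | rfl
  · simp
  · have h1 : SemiconjBy d.t d.s (d.s ^ 2) := d.tS
    have e : (-i).val % 3 = (2 * i.val) % 3 := by revert i; decide
    have hval : (1 : ZMod 2).val = 1 := rfl
    rw [if_neg (by decide), hval, pow_one, (h1.pow_right i.val).eq, ← pow_mul,
      pow_eq_pow_mod _ d.hs, ← e, ← pow_eq_pow_mod _ d.hs]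

def toFun (x : T) : G := d.vec x.1 * d.s ^ x.2.1.val * d.t ^ x.2.2.val

theorem toFun_mul (x y : T) : d.toFun (mulT x y) = d.toFun x * d.toFun y := by
  obtain ⟨n, i, k⟩ := x
  obtain ⟨m, j, l⟩ := y
  simp only [toFun, mulT, vec_add, pow_val_add d.hs, pow_val_add d.ht]
  symm
  calc d.vec n * d.s ^ i.val * d.t ^ k.val * (d.vec m * d.s ^ j.val * d.t ^ l.val)
      = d.vec n * d.s ^ i.val * (d.t ^ k.val * d.vec m) * d.s ^ j.val * d.t ^ l.val := by
        simp only [mul_assoc]
    _ = d.vec n * (d.s ^ i.val * d.vec (sw^[k.val] m)) * (d.t ^ k.val * d.s ^ j.val) *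
          d.t ^ l.val := by rw [d.t_pow_vec]; simp only [mul_assoc]
    _ = d.vec n * d.vec (rot^[i.val] (sw^[k.val] m)) *
          (d.s ^ i.val * d.s ^ (if k = 0 then j else -j).val) *
          (d.t ^ k.val * d.t ^ l.val) := by
        rw [d.s_pow_vec, d.t_pow_s]; simp only [mul_assoc]

theorem toFun_injective (hv : ∀ n, d.vec n = 1 → n = 0) (hs : ∀ n, d.vec n ≠ d.s)
    (ht : ∀ n (i : ZMod 3), d.vec n * d.s ^ i.val ≠ d.t) : Function.Injective d.toFun := by
  have hinj : Function.Injective d.vec := by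
    intro m n h
    refine eq_of_sub_eq_zero (hv _ ?_)
    have := d.vec_add (m - n) n
    rw [sub_add_cancel, h] at this
    exact mul_eq_right.mp this.symm
  have hpow : ∀ (i : ZMod 3) (n : V), d.vec n = d.s ^ i.val → i = 0 := by
    intro i n h
    rcases (z3 i) with rfl | rfl | rfl
    · rfl
    · exact absurd (h.trans (pow_one _)) (hs n)
    · refine absurd ?_ (hs (n + n))
      rw [d.vec_add, h, ← pow_add]
      show d.s ^ (2 + 2) = d.s
      rw [pow_eq_pow_mod _ d.hs, pow_one]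
  have hsame : ∀ (n m : V) (i j : ZMod 3),
      d.vec n * d.s ^ i.val = d.vec m * d.s ^ j.val → n = m ∧ i = j := by
    intro n m i j h
    have h0 : i - j = 0 := by
      refine hpow _ (-n + m) ?_
      have hn : d.vec (-n) = (d.vec n)⁻¹ := by
        rw [eq_inv_iff_mul_eq_one, ← d.vec_add, neg_add_cancel, d.vec_zero]
      have e := pow_val_add d.hs (i - j) j
      rw [sub_add_cancel] at e
      rw [e] at h
      rw [d.vec_add, hn]
      have h' : d.vec n * d.s ^ (i - j).val = d.vec m := by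
        rw [← mul_left_inj (d.s ^ j.val), mul_assoc]; exact h
      rw [← h', inv_mul_cancel_left]
    rw [sub_eq_zero] at h0
    subst h0
    exact ⟨hinj (mul_right_cancel h), rfl⟩
  have hk : ∀ (n m : V) (i j : ZMod 3),
      d.vec n * d.s ^ i.val * d.t ≠ d.vec m * d.s ^ j.val := by
    intro n m i j h
    have hsolve : ∃ z : V × ZMod 3, d.toFun (mulT (n, i, 0) (z.1, z.2, 0)) = d.toFun (m, j, 0) := by
      obtain ⟨a, ha⟩ : ∃ a, rot^[i.val] a = m - n := by
        refine ⟨rot^[(-i).val] (m - n), ?_⟩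
        rw [← Function.iterate_add_apply]
        rcases (z3 i) with rfl | rfl | rfl <;> rfl
      refine ⟨(a, j - i), ?_⟩
      simp [mulT, ha]
    obtain ⟨⟨a, b⟩, hz⟩ := hsolve
    rw [toFun_mul] at hz
    simp only [toFun, ZMod.val_zero, pow_zero, mul_one] at hz
    exact ht a b (mul_left_cancel (hz.trans h.symm))
  rintro ⟨n, i, k⟩ ⟨m, j, l⟩ h
  simp only [toFun] at h
  have h1 : (1 : ZMod 2).val = 1 := rfl
  rcases (z2 k) with rfl | rfl <;>
    rcases (z2 l) with rfl | rfl <;>
    simp only [ZMod.val_zero, h1, pow_zero, pow_one, mul_one] at h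
  · obtain ⟨rfl, rfl⟩ := hsame _ _ _ _ h; rfl
  · exact absurd h.symm (hk _ _ _ _)
  · exact absurd h (hk _ _ _ _)
  · obtain ⟨rfl, rfl⟩ := hsame _ _ _ _ (mul_right_cancel h); rfl

theorem card_T : Nat.card T = 162 := by
  simp [Nat.card_eq_fintype_card]

theorem equiv {H : Type*} [Group H] [Finite G] [Finite H] (e : Gens H)
    (hG : Nat.card G ≤ 162) (hH : Nat.card H ≤ 162)
    (hd : Function.Injective d.toFun) (he : Function.Injective e.toFun) :
    Nonempty (G ≃* H) := by
  have hb : Function.Bijective d.toFun :=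
    hd.bijective_of_nat_card_le (by rw [card_T]; exact hG)
  have hb' : Function.Bijective e.toFun :=
    he.bijective_of_nat_card_le (by rw [card_T]; exact hH)
  let a : G ≃ H := (Equiv.ofBijective _ hb).symm.trans (Equiv.ofBijective _ hb')
  refine ⟨{ a with map_mul' := ?_ }⟩
  intro g g'
  obtain ⟨x, rfl⟩ := hb.2 g
  obtain ⟨y, rfl⟩ := hb.2 g'
  show a _ = a _ * a _
  have ha : ∀ x, a (d.toFun x) = e.toFun x := fun x => by
    show (Equiv.ofBijective _ hb') ((Equiv.ofBijective _ hb).symm (d.toFun x)) = _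
    rw [show d.toFun x = Equiv.ofBijective _ hb x from rfl, Equiv.symm_apply_apply]
    rfl
  rw [← d.toFun_mul, ha, ha, ha, e.toFun_mul]

end Gens

end CfsgLib.Char.WreathThree
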