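import Mathlib

/-!
# Presentations of groups with cyclic Sylow subgroups
-/

set_option autoImplicit false
set_option linter.style.haveILetI false

open scoped commutatorElement

namespace CfsgLib.Char

theorem zgroup_presentation {G : Type*} [Group G] [Finite G] [IsZGroup G] :
    ∃ (x y : G) (n m r : ℕ), Subgroup.closure {x, y} = ⊤ ∧ orderOf x = n ∧ orderOf y = m ∧
      x⁻¹ * y * x = y ^ r ∧ Nat.Coprime (r - 1) m ∧ Nat.Coprime n m ∧ 1 ≤ r ∧ r ^ n % m = 1 % m := by
  obtain ⟨H, hH⟩ := Subgroup.exists_right_complement'_of_coprime (IsZGroup.coprime_commutator_index (G := G))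
  haveI : IsCyclic (commutator G) := IsZGroup.isCyclic_commutator G
  haveI : IsCyclic (G ⧸ commutator G) := IsZGroup.isCyclic_abelianization
  haveI : IsCyclic H := isCyclic_of_surjective (hH.symm.QuotientMulEquiv).toMonoidHom
    (hH.symm.QuotientMulEquiv).surjective
  obtain ⟨x0, hx0⟩ := IsCyclic.exists_ofOrder_eq_natCard (α := H)
  obtain ⟨y0, hy0⟩ := IsCyclic.exists_ofOrder_eq_natCard (α := commutator G)
  set x : G := Subtype.val x0 with hxdef
  set y : G := Subtype.val y0 with hydef
  have hxn : orderOf x = Nat.card H := by rw [hxdef, Subgroup.orderOf_coe, hx0]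
  have hym : orderOf y = Nat.card (commutator G) := by rw [hydef, Subgroup.orderOf_coe, hy0]
  have hzy : Subgroup.zpowers y = commutator G :=
    Subgroup.eq_of_le_of_card_ge (Subgroup.zpowers_le.2 y0.2) (by rw [Nat.card_zpowers, hym])
  have hzx : Subgroup.zpowers x = H :=
    Subgroup.eq_of_le_of_card_ge (Subgroup.zpowers_le.2 x0.2) (by rw [Nat.card_zpowers, hxn])
  have hmem : x⁻¹ * y * x ∈ Subgroup.zpowers y := by
    rw [hzy]
    have := Subgroup.Normal.conj_mem (inferInstance : (commutator G).Normal) y y0.2 x⁻¹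
    rwa [inv_inv] at this
  obtain ⟨r0, hr0⟩ : ∃ k : ℕ, y ^ k = x⁻¹ * y * x :=
    ((isOfFinOrder_of_finite y).mem_powers_iff_mem_zpowers.2 hmem)
  set m := orderOf y with hm
  set n := orderOf x with hn
  set r := r0 + m with hr
  have hmpos : 0 < m := orderOf_pos y
  have hr1 : 1 ≤ r := by omega
  have hxy : x⁻¹ * y * x = y ^ r := by rw [hr, pow_add, hr0, hm, pow_orderOf_eq_one, mul_one]
  have hclos : Subgroup.closure {x, y} = ⊤ := by
    rw [eq_top_iff, ← hH.sup_eq_top, ← hzx, ← hzy]
    refine sup_le (Subgroup.zpowers_le.2 ?_) (Subgroup.zpowers_le.2 ?_) <;> exact Subgroup.subset_closure (by simp)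
  refine ⟨x, y, n, m, r, hclos, rfl, rfl, hxy, ?_, ?_, hr1, ?_⟩
  · -- the quotient by `⟨y ^ (r - 1)⟩` is abelian
    set M := Subgroup.zpowers (y ^ (r - 1)) with hM
    have hconj : x⁻¹ * y ^ (r - 1) * x = (y ^ (r - 1)) ^ r := by
      have h := conj_pow (i := r - 1) (a := x⁻¹) (b := y)
      rw [inv_inv, hxy] at h
      rw [← h, ← pow_mul, ← pow_mul, mul_comm]
    have hnorm : M.Normal := by
      rw [← Subgroup.normalizer_eq_top_iff, eq_top_iff, ← hclos, Subgroup.closure_le]
      rintro z (rfl | rfl)
      · refine Subgroup.mem_normalizer_iff''.2 fun w => ?_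
        have hfwd : ∀ w ∈ M, x⁻¹ * w * x ∈ M := fun w hw => by
          obtain ⟨k, rfl⟩ := Subgroup.mem_zpowers_iff.1 hw
          have h := conj_zpow (i := k) (a := x⁻¹) (b := y ^ (r - 1))
          rw [inv_inv, hconj] at h
          rw [← h]
          exact zpow_mem (pow_mem (Subgroup.mem_zpowers _) _) _
        refine ⟨hfwd w, fun hw => ?_⟩
        have hit : ∀ k : ℕ, ∀ v ∈ M, (x ^ k)⁻¹ * v * x ^ k ∈ M := fun k => by
          induction k with
          | zero => intro v hv; simpa using hv
          | succ k ih =>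
            intro v hv
            have := hfwd _ (ih v hv)
            rw [pow_succ, mul_inv_rev]
            convert this using 1
            group
        have := hit (n - 1) _ hw
        have hx1 : x ^ (n - 1) = x⁻¹ := by
          rw [eq_inv_iff_mul_eq_one, ← pow_succ, Nat.sub_add_cancel (orderOf_pos x), pow_orderOf_eq_one]
        rw [hx1] at this
        convert this using 1
        group
      · refine Subgroup.mem_normalizer_iff''.2 fun w => ?_
        have hc : ∀ v ∈ M, Commute y v := fun v hv => by
          obtain ⟨k, rfl⟩ := Subgroup.mem_zpowers_iff.1 hv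
          exact ((Commute.refl y).pow_right _).zpow_right _
        refine ⟨fun hw => by rwa [mul_assoc, ← (hc w hw).eq, inv_mul_cancel_left], fun hw => ?_⟩
        have := hc _ hw
        have e : y⁻¹ * w * y = w := by
          have h2 := this.eq
          simp only [← mul_assoc, mul_inv_cancel, one_mul] at h2
          exact (mul_right_cancel h2).symm
        rwa [e] at hw
    haveI := hnorm
    have hcomm : ⁅x, y⁆ ∈ M ∧ commutator G ≤ M := by
      have hq : ∀ a b : G ⧸ M, a * b = b * a := by
        have hxyq : (QuotientGroup.mk' M x) * QuotientGroup.mk' M y = QuotientGroup.mk' M y * QuotientGroup.mk' M x := by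
          rw [← map_mul, ← map_mul]
          refine (QuotientGroup.mk'_eq_mk' M).2 ⟨y ^ (r - 1), Subgroup.mem_zpowers _, ?_⟩
          have e : y * x = x * (y ^ (r - 1) * y) := by
            rw [← pow_succ, Nat.sub_add_cancel hr1, ← hxy]; group
          rw [e, mul_assoc, ← pow_succ', ← pow_succ]
        intro a b
        have htop : Subgroup.closure (QuotientGroup.mk' M '' {x, y}) = ⊤ := by
          rw [← MonoidHom.map_closure, hclos, Subgroup.map_top_of_surjective _ (QuotientGroup.mk'_surjective M)]
        have hc := Subgroup.isMulCommutative_closure (k := QuotientGroup.mk' M '' {x, y}) (by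
          rintro _ ⟨u, hu, rfl⟩ _ ⟨v, hv, rfl⟩
          rcases hu with rfl | rfl <;> rcases hv with rfl | rfl <;> first | rfl | exact hxyq | exact hxyq.symm)
        rw [htop] at hc
        exact congrArg Subtype.val (hc.is_comm.comm (⟨a, trivial⟩ : (⊤ : Subgroup (G ⧸ M))) ⟨b, trivial⟩)
      have hle : commutator G ≤ M := by
        rw [commutator_eq_closure, Subgroup.closure_le]
        rintro _ ⟨a, b, rfl⟩
        show ⁅a, b⁆ ∈ M
        rw [← QuotientGroup.eq_one_iff (N := M), ← QuotientGroup.mk'_apply, map_commutatorElement,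
          commutatorElement_eq_one_iff_mul_comm]
        exact hq _ _
      exact ⟨hle (Subgroup.commutator_mem_commutator (Subgroup.mem_top x) (Subgroup.mem_top y)), hle⟩
    have h1 : orderOf (y ^ (r - 1)) = m := by
      refine Nat.dvd_antisymm (orderOf_pow_dvd _) ?_
      rw [hm, ← Nat.card_zpowers y, ← Nat.card_zpowers (y ^ (r - 1)), hzy]
      exact Subgroup.card_dvd_of_le hcomm.2
    rw [(isOfFinOrder_of_finite y).orderOf_pow] at h1
    rw [← hm] at h1
    have hg : Nat.gcd m (r - 1) ≠ 0 := (Nat.gcd_pos_of_pos_left _ hmpos).ne'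
    have := Nat.eq_mul_of_div_eq_left (Nat.gcd_dvd_left m (r - 1)) h1
    have hg1 : Nat.gcd m (r - 1) = 1 := by nlinarith
    exact Nat.Coprime.symm hg1
  · rw [hxn, hym, ← hH.symm.index_eq_card]
    exact (IsZGroup.coprime_commutator_index (G := G)).symm
  · have hit : ∀ k : ℕ, (x ^ k)⁻¹ * y * x ^ k = y ^ (r ^ k) := fun k => by
      induction k with
      | zero => simp
      | succ k ih =>
        have h := conj_pow (i := r ^ k) (a := x⁻¹) (b := y)
        rw [inv_inv, hxy, ← pow_mul] at h
        calc (x ^ (k + 1))⁻¹ * y * x ^ (k + 1) = x⁻¹ * ((x ^ k)⁻¹ * y * x ^ k) * x := by rw [pow_succ]; group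
          _ = y ^ (r ^ (k + 1)) := by rw [ih, ← h, pow_succ, mul_comm]
    have h := hit n
    rw [pow_orderOf_eq_one, inv_one, one_mul, mul_one] at h
    nth_rewrite 1 [← pow_one y] at h
    exact (pow_eq_pow_iff_modEq.1 h).symm

end CfsgLib.Char
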