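import Cfsg.Agent.Lib.Char.ZassenhausOdd
import Cfsg.Agent.Lib.Char.Orthogonality

/-!
# Counting in Zassenhaus groups with two-point stabilizer of odd order
-/

set_option autoImplicit false
set_option linter.unusedSectionVars false

namespace CfsgLib.Char.ZassenhausOdd

open Cfsg MulAction Subgroup CfsgLib.Char

variable {G Ω : Type*} [Group G] [Finite G] [MulAction G Ω] [Fintype Ω]

theorem card_fixedPair (hZ : IsZassenhausGroup G Ω) {a b : Ω} (hab : a ≠ b) :
    Nat.card (Σ g : G, {p : Ω × Ω // p.1 ≠ p.2 ∧ g • p.1 = p.1 ∧ g • p.2 = p.2}) = Nat.card G := by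
  classical
  haveI := Fintype.ofFinite G
  have e : (Σ g : G, {p : Ω × Ω // p.1 ≠ p.2 ∧ g • p.1 = p.1 ∧ g • p.2 = p.2}) ≃
      (Σ p : {p : Ω × Ω // p.1 ≠ p.2}, pairStab G p.1.1 p.1.2) :=
    { toFun := fun x => ⟨⟨x.2.1, x.2.2.1⟩, ⟨x.1, x.2.2.2⟩⟩
      invFun := fun x => ⟨x.2.1, ⟨x.1.1, x.1.2, x.2.2⟩⟩
      left_inv := fun _ => rfl
      right_inv := fun _ => rfl }
  rw [Nat.card_congr e, Nat.card_sigma,
    Finset.sum_congr rfl (fun p _ => card_pairStab_eq hZ hab p.2), Finset.sum_const, Finset.card_univ,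
    smul_eq_mul, card_group hZ hab]
  congr 1
  rw [Fintype.card_subtype]
  have : (Finset.univ.filter fun p : Ω × Ω => p.1 ≠ p.2) = (Finset.univ : Finset Ω).offDiag := by
    ext p; simp
  rw [this, Finset.offDiag_card, Finset.card_univ, Nat.mul_sub, mul_one]

/-- Twice the number of fixed-point-free elements. -/
theorem two_mul_card_fpf (hZ : IsZassenhausGroup G Ω) {a b : Ω} (hab : a ≠ b) :
    2 * Nat.card {g : G // ∀ c : Ω, g • c ≠ c} + (Fintype.card Ω - 1) * Fintype.card Ω =
      Nat.card G + 2 * (Fintype.card Ω - 1) := by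
  classical
  haveI := Fintype.ofFinite G
  haveI := hZ.1
  have h3 := zassenhaus_three_le hZ
  let F : G → Finset Ω := fun g => Finset.univ.filter fun c => g • c = c
  have h1 : ∑ g : G, (F g).card = Nat.card G := by
    haveI := isPretransitive_of hZ
    haveI : Nonempty Ω := ⟨a⟩
    haveI : Subsingleton (orbitRel.Quotient G Ω) := ⟨fun x y => by
      induction x using Quotient.inductionOn' with | _ x =>
      induction y using Quotient.inductionOn' with | _ y =>
      exact Quotient.sound' (exists_smul_eq G y x)⟩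
    haveI : Nonempty (orbitRel.Quotient G Ω) := ⟨Quotient.mk'' a⟩
    haveI := Fintype.ofFinite (orbitRel.Quotient G Ω)
    have h := MulAction.sum_card_fixedBy_eq_card_orbits_mul_card_group G Ω
    rw [← Nat.card_eq_fintype_card (α := Quotient (orbitRel G Ω)),
      (Nat.card_eq_one_iff_unique (α := orbitRel.Quotient G Ω)).2 ⟨inferInstance, inferInstance⟩,
      one_mul] at h
    rw [Nat.card_eq_fintype_card, ← h]
    refine Finset.sum_congr rfl fun g _ => ?_
    rw [Fintype.card_of_subtype (F g) (fun c => by simp [F, MulAction.mem_fixedBy])]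
  have h2 : ∑ g : G, ((F g).card * (F g).card - (F g).card) = Nat.card G := by
    have h := card_fixedPair hZ hab
    rw [Nat.card_sigma] at h
    refine Eq.trans ?_ h
    refine Finset.sum_congr rfl fun g _ => ?_
    rw [Nat.card_eq_fintype_card, Fintype.card_subtype, ← Finset.offDiag_card]
    congr 1
    ext p
    simp only [Finset.mem_offDiag, Finset.mem_filter, Finset.mem_univ, true_and, F]
    tauto
  have hle : ∀ g : G, g ≠ 1 → (F g).card ≤ 2 := by
    intro g hg
    by_contra hlt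
    obtain ⟨x, y, z, hx, hy, hz, hxy, hxz, hyz⟩ := Finset.two_lt_card_iff.1 (not_le.1 hlt)
    simp only [F, Finset.mem_filter, Finset.mem_univ, true_and] at hx hy hz
    exact hg (hZ.2.2.1 g x y z hxy hyz hxz hx hy hz)
  set n := Fintype.card Ω
  have h0 : ∀ g : G, (if (F g).card = 0 then 2 else 0) + 2 * (F g).card +
      (if g = 1 then n * n - 3 * n + 2 else 0) = 2 + ((F g).card * (F g).card - (F g).card) := by
    intro g
    by_cases hg : g = 1
    · subst hg
      have hF : (F 1).card = n := by simp [F, n]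
      rw [hF, if_pos rfl, if_neg (by omega)]
      have : 3 * n ≤ n * n := Nat.mul_le_mul_right n h3
      omega
    · rw [if_neg hg]
      have := hle g hg
      interval_cases (F g).card <;> simp
  have hs := Finset.sum_congr (rfl : (Finset.univ : Finset G) = _) (fun g _ => h0 g)
  rw [Finset.sum_add_distrib, Finset.sum_add_distrib, Finset.sum_add_distrib, h2, ← Finset.mul_sum,
    h1, Finset.sum_ite_eq' Finset.univ (1 : G), if_pos (Finset.mem_univ _), Finset.sum_const,
    Finset.card_univ, ← Nat.card_eq_fintype_card (α := G), ← Finset.sum_filter,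
    Finset.sum_const, smul_eq_mul, smul_eq_mul] at hs
  have hfp : (Finset.univ.filter fun g : G => (F g).card = 0).card =
      Nat.card {g : G // ∀ c : Ω, g • c ≠ c} := by
    rw [Nat.card_eq_fintype_card, Fintype.card_subtype]
    congr 1
    ext g
    simp [F, Finset.filter_eq_empty_iff]
  rw [hfp] at hs
  have : 3 * n ≤ n * n := Nat.mul_le_mul_right n h3
  rw [Nat.sub_mul, one_mul]
  omega

theorem swap_count (hZ : IsZassenhausGroup G Ω) {a b : Ω} (hab : a ≠ b) [IsSimpleGroup G]
    (hodd : Odd (Nat.card (pairStab G a b))) {c d : Ω} (hcd : c ≠ d) :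
    Nat.card {x : G // orderOf x = 2 ∧ x • c = d} = Nat.card (pairStab G a b) := by
  obtain ⟨w, hwc, hwd⟩ := exists_map_pair hZ hcd hcd.symm
  have hodd' : Odd (Nat.card (pairStab G c d)) := by rwa [card_pairStab_eq hZ hab hcd]
  rw [← card_pairStab_eq hZ hab hcd]
  have hsw : ∀ u : pairStab G c d, (w * u.1) • c = d ∧ (w * u.1) • d = c := fun u =>
    ⟨by rw [mul_smul, u.2.1, hwc], by rw [mul_smul, u.2.2, hwd]⟩
  refine (Nat.card_congr (Equiv.ofBijective (fun u : pairStab G c d =>
    (⟨w * u.1, (swap_inverts hZ hcd hodd' (hsw u).1 (hsw u).2).2, (hsw u).1⟩ :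
      {x : G // orderOf x = 2 ∧ x • c = d})) ⟨fun u v h => ?_, fun x => ?_⟩)).symm
  · exact Subtype.ext (mul_left_cancel (congrArg Subtype.val h))
  · have hxd : x.1 • d = c := by
      have h : x.1 • x.1 • c = c := by
        rw [← mul_smul, ← pow_two]
        exact (congrArg (fun n => x.1 ^ n • c) x.2.1.symm).trans (by simp [pow_orderOf_eq_one])
      exact (congrArg (x.1 • ·) x.2.2).symm.trans h
    exact ⟨⟨w⁻¹ * x.1, by show (w⁻¹ * x.1) • c = c; rw [mul_smul, x.2.2, inv_smul_eq_iff, hwc],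
      by show (w⁻¹ * x.1) • d = d; rw [mul_smul, hxd, inv_smul_eq_iff, hwd]⟩,
      Subtype.ext (mul_inv_cancel_left w x.1)⟩

theorem card_fixed_involution (hZ : IsZassenhausGroup G Ω) {a b : Ω} (hab : a ≠ b)
    (hodd : Odd (Nat.card (pairStab G a b))) {x : G} (hx : orderOf x = 2) :
    Nat.card {c : Ω // x • c = c} = Fintype.card Ω % 2 := by
  classical
  haveI : Fact (Nat.Prime 2) := ⟨Nat.prime_two⟩
  have hP : IsPGroup 2 (Subgroup.zpowers x) :=
    IsPGroup.of_card (n := 1) (by rw [Nat.card_zpowers, hx, pow_one])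
  have h := hP.card_modEq_card_fixedPoints Ω
  have e : Nat.card (MulAction.fixedPoints (Subgroup.zpowers x) Ω) = Nat.card {c : Ω // x • c = c} :=
    Nat.card_congr (Equiv.subtypeEquivRight fun c =>
      ⟨fun hc => hc ⟨x, mem_zpowers x⟩, fun hc => fun ⟨y, i, hy⟩ => by
        subst hy
        exact (MulAction.mem_stabilizer_iff.1 (Subgroup.zpow_mem (stabilizer G c) hc i) :)⟩)
  rw [e, Nat.card_eq_fintype_card (α := Ω)] at h
  have hle : Nat.card {c : Ω // x • c = c} ≤ 1 := by
    rw [Finite.card_le_one_iff_subsingleton]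
    exact ⟨fun c d => Subtype.ext (orderOf_ne_two_of_two_fixed hZ hab hodd hx c.2 d.2)⟩
  rw [← Nat.mod_eq_of_lt (show Nat.card {c : Ω // x • c = c} < 2 by omega)]
  exact h.symm

/-- The number of involutions. -/
theorem card_involutions (hZ : IsZassenhausGroup G Ω) {a b : Ω} (hab : a ≠ b) [IsSimpleGroup G]
    (hodd : Odd (Nat.card (pairStab G a b))) :
    Nat.card {x : G // orderOf x = 2} * (Fintype.card Ω - Fintype.card Ω % 2) =
      Fintype.card Ω * (Fintype.card Ω - 1) * Nat.card (pairStab G a b) := by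
  classical
  haveI := Fintype.ofFinite G
  have e : (Σ x : {x : G // orderOf x = 2}, {c : Ω // ¬ x.1 • c = c}) ≃
      (Σ p : {p : Ω × Ω // p.1 ≠ p.2}, {x : G // orderOf x = 2 ∧ x • p.1.1 = p.1.2}) :=
    { toFun := fun z => ⟨⟨(z.2.1, z.1.1 • z.2.1), Ne.symm z.2.2⟩, ⟨z.1.1, z.1.2, rfl⟩⟩
      invFun := fun z => ⟨⟨z.2.1, z.2.2.1⟩, ⟨z.1.1.1, fun h => z.1.2 (h.symm.trans z.2.2.2)⟩⟩
      left_inv := fun _ => rfl
      right_inv := by
        rintro ⟨⟨⟨c, d⟩, hcd⟩, ⟨x, hx, hxd⟩⟩
        dsimp only at hxd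
        subst hxd
        rfl }
  have h := Nat.card_congr e
  rw [Nat.card_sigma, Nat.card_sigma, Finset.sum_congr rfl (fun p _ => swap_count hZ hab hodd p.2),
    Finset.sum_const] at h
  have h2 : ∀ x : {x : G // orderOf x = 2},
      Nat.card {c : Ω // ¬ x.1 • c = c} = Fintype.card Ω - Fintype.card Ω % 2 := fun x => by
    rw [Nat.card_eq_fintype_card, Fintype.card_subtype_compl, ← Nat.card_eq_fintype_card
      (α := {c : Ω // x.1 • c = c}), card_fixed_involution hZ hab hodd x.2]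
  rw [Finset.sum_congr rfl (fun x _ => h2 x), Finset.sum_const, Finset.card_univ, Finset.card_univ,
    smul_eq_mul, smul_eq_mul, ← Nat.card_eq_fintype_card (α := {x : G // orderOf x = 2})] at h
  rw [h]
  congr 1
  rw [Fintype.card_subtype]
  have : (Finset.univ.filter fun p : Ω × Ω => p.1 ≠ p.2) = (Finset.univ : Finset Ω).offDiag := by
    ext p; simp
  rw [this, Finset.offDiag_card, Finset.card_univ, Nat.mul_sub, mul_one]

theorem isConj_involutions (hZ : IsZassenhausGroup G Ω) {a b : Ω} (hab : a ≠ b) [IsSimpleGroup G]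
    (hodd : Odd (Nat.card (pairStab G a b))) {x y : G} (hx : orderOf x = 2) (hy : orderOf y = 2) :
    IsConj x y := by
  have hmove : ∀ z : G, orderOf z = 2 → ∃ z' : G, IsConj z z' ∧ z' • a = b ∧ z' • b = a := by
    intro z hz
    obtain ⟨c, hc⟩ : ∃ c : Ω, z • c ≠ c := by
      by_contra! hall
      haveI := hZ.1
      have : z = 1 := eq_of_smul_eq_smul (fun c : Ω => by rw [one_smul, hall c])
      rw [this, orderOf_one] at hz
      omega
    obtain ⟨g, hg1, hg2⟩ := exists_map_pair hZ (Ne.symm hc) hab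
    refine ⟨g * z * g⁻¹, isConj_iff.2 ⟨g, rfl⟩, ?_, ?_⟩
    · rw [mul_smul, mul_smul, ← hg1, inv_smul_smul, hg2]
    · rw [mul_smul, mul_smul, ← hg2, inv_smul_smul, ← mul_smul z z, ← pow_two, ← hz, pow_orderOf_eq_one,
        one_smul, hg1]
  obtain ⟨x', hx', hxa, hxb⟩ := hmove x hx
  obtain ⟨y', hy', hya, hyb⟩ := hmove y hy
  refine hx'.trans (IsConj.trans ?_ hy'.symm)
  obtain ⟨hinv, -⟩ := swap_inverts hZ hab hodd hxa hxb
  have hu : x'⁻¹ * y' ∈ pairStab G a b := by
    refine ⟨?_, ?_⟩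
    · show (x'⁻¹ * y') • a = a
      rw [mul_smul, hya, inv_smul_eq_iff, hxa]
    · show (x'⁻¹ * y') • b = b
      rw [mul_smul, hyb, inv_smul_eq_iff, hxb]
  obtain ⟨k, hk⟩ := exists_pow_eq_self_of_coprime (x := (⟨_, hu⟩ : pairStab G a b)) (n := 2)
    ((Nat.prime_two.coprime_iff_not_dvd).2 fun h => Nat.not_even_iff_odd.2 hodd
      (even_iff_two_dvd.2 (h.trans (orderOf_dvd_natCard _))))
  set v : G := (x'⁻¹ * y') ^ k with hv
  have hvv : v * v = x'⁻¹ * y' := by
    rw [hv, ← pow_add, ← two_mul, pow_mul]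
    exact congrArg Subtype.val hk
  refine isConj_iff.2 ⟨v⁻¹, ?_⟩
  have h := hinv v (pow_mem hu k)
  calc v⁻¹ * x' * v⁻¹⁻¹ = (x'⁻¹ * v * x') * x' * v := by rw [h, inv_inv]
    _ = x'⁻¹ * v * (x' * x') * v := by group
    _ = x'⁻¹ * (v * v) := by
      rw [← pow_two, ← (swap_inverts hZ hab hodd hxa hxb).2, pow_orderOf_eq_one, mul_one, mul_assoc]
    _ = x'⁻¹ * x'⁻¹ * y' := by rw [hvv, mul_assoc]
    _ = y' := by
      rw [← mul_inv_rev, ← pow_two, ← (swap_inverts hZ hab hodd hxa hxb).2, pow_orderOf_eq_one, inv_one,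
        one_mul]

end CfsgLib.Char.ZassenhausOdd
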