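import Cfsg.Agent.Lib.Char.ZassenhausCount

/-!
# Involutions in the kernel of a point stabilizer of a Zassenhaus group
-/

set_option autoImplicit false
set_option linter.unusedSectionVars false

namespace CfsgLib.Char.ZassenhausOdd

open Cfsg MulAction Subgroup CfsgLib.Char

variable {G Ω : Type*} [Group G] [Finite G] [MulAction G Ω] [Fintype Ω]
variable {a b : Ω} {H : Subgroup G}

theorem kernel_index (hZ : IsZassenhausGroup G Ω) (hab : a ≠ b) (hHa : H ≤ stabilizer G a)
    (hHcard : Nat.card H + 1 = Fintype.card Ω)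
    (hHfix : ∀ u ∈ H, u ≠ 1 → ∀ c : Ω, u • c = c → c = a) :
    (H.subgroupOf (stabilizer G a)).index = Nat.card (pairStab G a b) := by
  rw [(isComplement_kernel hZ hab hHa hHcard hHfix).index_eq_card,
    Nat.card_congr (subgroupOfEquivOfLe (inf_le_left : pairStab G a b ≤ _)).toEquiv]

theorem involution_mem_kernel (hZ : IsZassenhausGroup G Ω) (hab : a ≠ b) (hHa : H ≤ stabilizer G a)
    (hHcard : Nat.card H + 1 = Fintype.card Ω)
    (hHfix : ∀ u ∈ H, u ≠ 1 → ∀ c : Ω, u • c = c → c = a)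
    (hodd : Odd (Nat.card (pairStab G a b))) {x : G} (hx : orderOf x = 2) (hxa : x • a = a) :
    x ∈ H := by
  haveI hn : (H.subgroupOf (stabilizer G a)).Normal :=
    normal_subgroupOf_of_le_normalizer (point_kernel_ti hZ a H hHa hHcard hHfix).2.ge
  set q : stabilizer G a ⧸ H.subgroupOf (stabilizer G a) :=
    QuotientGroup.mk' _ (⟨x, hxa⟩ : stabilizer G a) with hq
  have h1 : orderOf q ∣ 2 := by
    rw [hq, ← hx, ← Subgroup.orderOf_mk x (show x ∈ stabilizer G a from hxa)]
    exact orderOf_map_dvd _ _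
  have h2 : orderOf q ∣ Nat.card (pairStab G a b) := by
    rw [← kernel_index hZ hab hHa hHcard hHfix, Subgroup.index_eq_card]
    exact orderOf_dvd_natCard q
  have h3 : q = 1 := by
    rw [← orderOf_eq_one_iff]
    rcases (Nat.dvd_prime Nat.prime_two).1 h1 with h | h
    · exact h
    · rw [h] at h2
      exact absurd (even_iff_two_dvd.2 h2) (Nat.not_even_iff_odd.2 hodd)
  rw [hq, QuotientGroup.mk'_apply, QuotientGroup.eq_one_iff] at h3
  exact h3

variable [IsSimpleGroup G]

theorem card_involutions_point (hZ : IsZassenhausGroup G Ω) (hab : a ≠ b)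
    (hodd : Odd (Nat.card (pairStab G a b))) (hn : Odd (Fintype.card Ω)) (c : Ω) :
    Nat.card {x : G // orderOf x = 2 ∧ x • c = c} = Nat.card (pairStab G a b) := by
  classical
  haveI := Fintype.ofFinite G
  haveI := isPretransitive_of hZ
  have hI := card_involutions hZ hab hodd
  rw [Nat.odd_iff] at hn
  rw [hn] at hI
  have hfix : ∀ x : {x : G // orderOf x = 2}, ∃! c : Ω, x.1 • c = c := by
    intro x
    have h := card_fixed_involution hZ hab hodd x.2
    rw [hn] at h
    obtain ⟨hs, ⟨⟨d, hd⟩⟩⟩ := Nat.card_eq_one_iff_unique.1 h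
    exact ⟨d, hd, fun y hy => congrArg Subtype.val (hs.elim (⟨y, hy⟩ : {c : Ω // x.1 • c = c}) ⟨d, hd⟩)⟩
  choose f hf hfu using hfix
  have e : {x : G // orderOf x = 2} ≃ Σ d : Ω, {x : G // orderOf x = 2 ∧ x • d = d} :=
    { toFun := fun x => ⟨f x, ⟨x.1, x.2, hf x⟩⟩
      invFun := fun z => ⟨z.2.1, z.2.2.1⟩
      left_inv := fun _ => rfl
      right_inv := by
        rintro ⟨d, x, hx, hxd⟩
        obtain rfl := hfu ⟨x, hx⟩ d hxd
        rfl }
  have hconst : ∀ d : Ω, Nat.card {x : G // orderOf x = 2 ∧ x • d = d} =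
      Nat.card {x : G // orderOf x = 2 ∧ x • c = c} := by
    intro d
    obtain ⟨g, hg⟩ := exists_smul_eq G d c
    refine Nat.card_congr ((MulAut.conj g).toEquiv.subtypeEquiv fun x => ?_)
    show orderOf x = 2 ∧ x • d = d ↔ orderOf (g * x * g⁻¹) = 2 ∧ (g * x * g⁻¹) • c = c
    rw [← MulAut.conj_apply, MulEquiv.orderOf_eq, MulAut.conj_apply, mul_smul, mul_smul,
      show g⁻¹ • c = d by rw [inv_smul_eq_iff, hg], ← hg, smul_left_cancel_iff]
  rw [Nat.card_congr e, Nat.card_sigma, Finset.sum_congr rfl (fun d _ => hconst d), Finset.sum_const,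
    Finset.card_univ, smul_eq_mul] at hI
  have h3 := zassenhaus_three_le hZ
  refine Nat.eq_of_mul_eq_mul_left (show 0 < Fintype.card Ω * (Fintype.card Ω - 1) from
    Nat.mul_pos (by omega) (by omega)) ?_
  calc _ = Fintype.card Ω * Nat.card {x : G // orderOf x = 2 ∧ x • c = c} * (Fintype.card Ω - 1) := by
        ring
    _ = _ := hI

theorem involutions_commute (hZ : IsZassenhausGroup G Ω) (hab : a ≠ b) (hHa : H ≤ stabilizer G a)
    (hHcard : Nat.card H + 1 = Fintype.card Ω)
    (hHfix : ∀ u ∈ H, u ≠ 1 → ∀ c : Ω, u • c = c → c = a)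
    (hodd : Odd (Nat.card (pairStab G a b))) {x y : G} (hx : orderOf x = 2) (hy : orderOf y = 2)
    (hxa : x • a = a) (hya : y • a = a) : x * y = y * x := by
  classical
  haveI : Fact (Nat.Prime 2) := ⟨Nat.prime_two⟩
  have hmem := fun {v : G} (h1 : orderOf v = 2) (h2 : v • a = a) =>
    involution_mem_kernel hZ hab hHa hHcard hHfix hodd h1 h2
  have hnorm := (point_kernel_ti hZ a H hHa hHcard hHfix).2
  have hfpf := isFpfOn_kernel hab hZ hHa hHfix
  have hcop := hfpf.coprime (inf_le_left.trans hnorm.ge)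
  have heven : 2 ∣ Nat.card H := hx ▸ Subgroup.orderOf_dvd_natCard H (hmem hx hxa)
  have hn : Odd (Fintype.card Ω) := by
    rw [← hHcard]
    exact (even_iff_two_dvd.2 heven).add_one
  set J := {v : G // orderOf v = 2 ∧ v • a = a} with hJ
  have hJc : Nat.card J = Nat.card (pairStab G a b) := card_involutions_point hZ hab hodd hn a
  -- a Sylow 2-subgroup of the kernel and an involution in its centre
  obtain ⟨P⟩ : Nonempty (Sylow 2 H) := inferInstance
  obtain ⟨z, hzP, hzo, hzc⟩ : ∃ z : G, z ∈ (P : Subgroup H).map H.subtype ∧ orderOf z = 2 ∧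
      ∀ v ∈ (P : Subgroup H).map H.subtype, z * v = v * z := by
    have hne : Nontrivial (P : Subgroup H) := by
      rw [← Finite.one_lt_card_iff_nontrivial]
      exact lt_of_lt_of_le Nat.one_lt_two
        (Nat.le_of_dvd Nat.card_pos (P.dvd_card_of_dvd_card heven))
    haveI := hne
    haveI := P.2.center_nontrivial
    obtain ⟨k, hk⟩ := IsPGroup.iff_card.1 (P.2.to_subgroup (Subgroup.center (P : Subgroup H)))
    have hk0 : k ≠ 0 := fun e => absurd
      (Finite.one_lt_card (α := Subgroup.center (P : Subgroup H)))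
      (by rw [hk, e, pow_zero]; exact lt_irrefl 1)
    obtain ⟨⟨⟨z, hzP⟩, hzc⟩, hz⟩ := exists_prime_orderOf_dvd_card'
      (G := Subgroup.center (P : Subgroup H)) 2 (hk ▸ dvd_pow_self 2 hk0)
    refine ⟨z, ⟨z, hzP, rfl⟩, ?_, ?_⟩
    · rw [Subgroup.orderOf_coe]
      rwa [← Subgroup.orderOf_coe, ← Subgroup.orderOf_coe] at hz
    · rintro _ ⟨v, hv, rfl⟩
      exact congrArg (fun q : (P : Subgroup H) => ((q : H) : G))
        (Subgroup.mem_center_iff.1 hzc ⟨v, hv⟩).symm
  have hzH : z ∈ H := map_subtype_le _ hzP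
  have hza : z • a = a := hHa hzH
  have hz1 : z ≠ 1 := fun e => by rw [e, orderOf_one] at hzo; omega
  have hJmap : ∀ g ∈ stabilizer G a, orderOf (g * z * g⁻¹) = 2 ∧ (g * z * g⁻¹) • a = a :=
    fun g hg => ⟨by rw [← MulAut.conj_apply, MulEquiv.orderOf_eq, hzo],
      by rw [mul_smul, mul_smul, inv_smul_eq_iff.2 hg.symm, hza, hg]⟩
  -- the two-point stabilizer permutes the involutions fixing `a` transitively
  have hE : Function.Bijective (fun u : pairStab G a b =>
      (⟨u.1 * z * u.1⁻¹, hJmap u.1 u.2.1⟩ : J)) := by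
    rw [Nat.bijective_iff_injective_and_card]
    refine ⟨fun u v h => ?_, hJc.symm⟩
    have h' : u.1 * z * u.1⁻¹ = v.1 * z * v.1⁻¹ := congrArg Subtype.val h
    by_contra hne
    have hcomm : (v.1⁻¹ * u.1) * z * (v.1⁻¹ * u.1)⁻¹ = z := by
      calc _ = v.1⁻¹ * (u.1 * z * u.1⁻¹) * v.1 := by group
        _ = z := by rw [h']; group
    exact hz1 (hfpf.eq_one ((pairStab G a b).mul_mem (Subgroup.inv_mem _ v.2) u.2)
      (fun e => hne (Subtype.ext (inv_mul_eq_one.1 e).symm)) hzH hcomm)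
  -- the stabilizer of `z` is contained in the kernel
  set K := stabilizer G a with hK
  set HK : Subgroup K := H.subgroupOf K with hHK
  haveI hnK : HK.Normal := normal_subgroupOf_of_le_normalizer hnorm.ge
  letI act : MulAction K J :=
    { smul := fun g v => ⟨g.1 * v.1 * g.1⁻¹, by rw [← MulAut.conj_apply, MulEquiv.orderOf_eq, v.2.1],
        by rw [mul_smul, mul_smul, inv_smul_eq_iff.2 g.2.symm, v.2.2, g.2]⟩
      one_smul := fun v => Subtype.ext (by
        show ((1 : K) : G) * v.1 * ((1 : K) : G)⁻¹ = v.1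
        simp)
      mul_smul := fun g g' v => Subtype.ext (by
        show ((g * g' : K) : G) * v.1 * ((g * g' : K) : G)⁻¹ = g.1 * (g'.1 * v.1 * g'.1⁻¹) * g.1⁻¹
        simp [mul_assoc]) }
  set z₀ : J := ⟨z, hzo, hza⟩ with hz₀
  have hst : stabilizer K z₀ ≤ HK := by
    have horb : orbit K z₀ = Set.univ := by
      refine Set.eq_univ_of_forall fun v => ?_
      obtain ⟨u, hu⟩ := hE.2 v
      exact ⟨⟨u.1, u.2.1⟩, Subtype.ext (congrArg Subtype.val hu)⟩
    have hidx : (stabilizer K z₀).index = Nat.card (pairStab G a b) := by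
      rw [index_stabilizer, horb, Set.ncard_univ, hJc]
    have hcK : Nat.card (stabilizer K z₀) = Nat.card H := by
      have h := (stabilizer K z₀).card_mul_index
      rw [hidx, card_stabilizer_eq hZ hab, ← hHcard, Nat.add_sub_cancel] at h
      exact Nat.eq_of_mul_eq_mul_right Nat.card_pos h
    intro g hg
    set q : K ⧸ HK := QuotientGroup.mk' HK g with hq
    have h1 : orderOf q ∣ Nat.card H := (orderOf_map_dvd _ _).trans
      ((Subgroup.orderOf_dvd_natCard _ hg).trans hcK.dvd)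
    have h2 : orderOf q ∣ Nat.card (pairStab G a b) := by
      rw [← kernel_index hZ hab hHa hHcard hHfix, Subgroup.index_eq_card]
      exact orderOf_dvd_natCard q
    have : q = 1 := orderOf_eq_one_iff.1
      (Nat.dvd_one.1 ((Nat.Coprime.gcd_eq_one hcop) ▸ Nat.dvd_gcd h2 h1))
    rwa [hq, QuotientGroup.mk'_apply, QuotientGroup.eq_one_iff] at this
  -- Frattini
  let P' : Sylow 2 HK := P.comapOfInjective (subgroupOfEquivOfLe hHa).toMonoidHom
    (subgroupOfEquivOfLe hHa).injective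
    (by rw [MonoidHom.range_eq_top.2 (subgroupOfEquivOfLe hHa).surjective]; exact le_top)
  have hP' : ∀ g : K, g ∈ (P' : Subgroup HK).map HK.subtype ↔ g.1 ∈ (P : Subgroup H).map H.subtype := by
    intro g
    constructor
    · rintro ⟨k, hk, rfl⟩
      exact ⟨subgroupOfEquivOfLe hHa k, hk, rfl⟩
    · rintro ⟨k, hk, e⟩
      refine ⟨(subgroupOfEquivOfLe hHa).symm k, ?_, Subtype.ext e⟩
      show subgroupOfEquivOfLe hHa _ ∈ (P : Subgroup H)
      rw [MulEquiv.apply_symm_apply]
      exact hk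
  set N : Subgroup K := normalizer ((P' : Subgroup HK).map HK.subtype : Set K) with hN
  have htop : N ⊔ HK = ⊤ := Sylow.normalizer_sup_eq_top P'
  -- all involutions fixing `a` lie in the centre of the Sylow subgroup
  have hall : ∀ v : J, ∃ g : N, g • z₀ = v := by
    have hidx : (stabilizer N z₀).index = (orbit N z₀).ncard := index_stabilizer _ _
    have hle : Nat.card J ≤ (orbit N z₀).ncard := by
      rw [hJc, ← hidx, ← kernel_index hZ hab hHa hHcard hHfix, ← hK, ← hHK,
        ← Subgroup.relIndex_top_right HK, ← htop, sup_comm, Subgroup.relIndex_sup_left]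
      refine Nat.le_of_dvd (Nat.pos_of_ne_zero Subgroup.index_ne_zero_of_finite) ?_
      exact Subgroup.index_dvd_of_le (fun g hg => Subgroup.mem_subgroupOf.2 (hst hg))
    have horb : orbit N z₀ = Set.univ := Set.eq_of_subset_of_ncard_le (Set.subset_univ _)
      (by rwa [Set.ncard_univ]) Set.finite_univ
    exact fun v => (horb ▸ Set.mem_univ v : v ∈ orbit N z₀)
  have hcent : ∀ v : J, v.1 ∈ (P : Subgroup H).map H.subtype ∧
      ∀ u ∈ (P : Subgroup H).map H.subtype, v.1 * u = u * v.1 := by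
    intro v
    obtain ⟨⟨g, hg⟩, rfl⟩ := hall v
    have hgP : ∀ u : G, u ∈ (P : Subgroup H).map H.subtype →
        g.1 * u * g.1⁻¹ ∈ (P : Subgroup H).map H.subtype := by
      intro u hu
      have huK : u ∈ K := hHa (map_subtype_le _ hu)
      have h1 := (Subgroup.mem_normalizer_iff.1 hg ⟨u, huK⟩).1 ((hP' _).2 hu)
      exact (hP' _).1 h1
    have hgP' : ∀ u : G, u ∈ (P : Subgroup H).map H.subtype →
        g.1⁻¹ * u * g.1 ∈ (P : Subgroup H).map H.subtype := by
      intro u hu
      have huK : u ∈ K := hHa (map_subtype_le _ hu)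
      have h1 := (Subgroup.mem_normalizer_iff''.1 hg ⟨u, huK⟩).1 ((hP' _).2 hu)
      exact (hP' _).1 h1
    refine ⟨hgP z hzP, fun u hu => ?_⟩
    show (g.1 * z * g.1⁻¹) * u = u * (g.1 * z * g.1⁻¹)
    calc (g.1 * z * g.1⁻¹) * u = g.1 * (z * (g.1⁻¹ * u * g.1)) * g.1⁻¹ := by group
      _ = g.1 * ((g.1⁻¹ * u * g.1) * z) * g.1⁻¹ := by rw [hzc _ (hgP' u hu)]
      _ = _ := by group
  exact (hcent ⟨x, hx, hxa⟩).2 y (hcent ⟨y, hy, hya⟩).1

theorem sq_eq_one_of_product (hZ : IsZassenhausGroup G Ω) (hab : a ≠ b) (hHa : H ≤ stabilizer G a)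
    (hHcard : Nat.card H + 1 = Fintype.card Ω)
    (hHfix : ∀ u ∈ H, u ≠ 1 → ∀ c : Ω, u • c = c → c = a)
    (hodd : Odd (Nat.card (pairStab G a b))) {u x y : G} (hu : u ∈ H) (hu1 : u ≠ 1)
    (hx : orderOf x = 2) (hy : orderOf y = 2) (hxy : x * y = u) : orderOf u = 2 := by
  have hxx : x * x = 1 := by rw [← pow_two, ← hx, pow_orderOf_eq_one]
  have hyy : y * y = 1 := by rw [← pow_two, ← hy, pow_orderOf_eq_one]
  have hua : u • a = a := hHa hu
  have hinvu : u⁻¹ = y * x := by
    rw [← hxy, mul_inv_rev, inv_eq_of_mul_eq_one_right hxx, inv_eq_of_mul_eq_one_right hyy]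
  have hxa : x • a = a := by
    refine hHfix u hu hu1 _ ?_
    have h : u * x = x * u⁻¹ := by rw [hinvu, ← hxy, mul_assoc]
    rw [← mul_smul, h, mul_smul, inv_smul_eq_iff.2 hua.symm]
  have hya : y • a = a := by
    have : y = x * u := by rw [← hxy, ← mul_assoc, hxx, one_mul]
    rw [this, mul_smul, hua, hxa]
  have hc := involutions_commute hZ hab hHa hHcard hHfix hodd hx hy hxa hya
  refine orderOf_eq_prime ?_ hu1
  rw [← hxy, pow_two, mul_assoc, ← mul_assoc y x y, ← hc, mul_assoc x y y, hyy, mul_one, hxx]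

theorem card_pairs_common_fixed (hZ : IsZassenhausGroup G Ω) (hab : a ≠ b)
    (hodd : Odd (Nat.card (pairStab G a b))) (hn : Odd (Fintype.card Ω)) :
    Nat.card {p : G × G // orderOf p.1 = 2 ∧ orderOf p.2 = 2 ∧ p.1 ≠ p.2 ∧
      ∃ c : Ω, p.1 • c = c ∧ p.2 • c = c} ≤
      Nat.card {x : G // orderOf x = 2} * (Nat.card (pairStab G a b) - 1) := by
  classical
  haveI := Fintype.ofFinite G
  have hcv : ∀ x : {x : G // orderOf x = 2}, Nat.card {y : G // orderOf y = 2 ∧ x.1 ≠ y ∧
      ∃ c : Ω, x.1 • c = c ∧ y • c = c} ≤ Nat.card (pairStab G a b) - 1 := by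
    intro x
    rcases isEmpty_or_nonempty {y : G // orderOf y = 2 ∧ x.1 ≠ y ∧
      ∃ c : Ω, x.1 • c = c ∧ y • c = c} with h | ⟨⟨y₀, -, -, c, hc, -⟩⟩
    · simp
    have h1 : Nat.card {y : G // orderOf y = 2 ∧ x.1 ≠ y ∧ ∃ c : Ω, x.1 • c = c ∧ y • c = c} ≤
        Nat.card {y : {y : G // orderOf y = 2 ∧ y • c = c} // y ≠ ⟨x.1, x.2, hc⟩} := by
      refine Nat.card_le_card_of_injective (fun y => ⟨⟨y.1, y.2.1, ?_⟩, ?_⟩) fun y y' e => Subtype.ext
        (congrArg (fun q : {y : {y : G // orderOf y = 2 ∧ y • c = c} // y ≠ ⟨x.1, x.2, hc⟩} =>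
          q.1.1) e)
      · obtain ⟨d, hd, hyd⟩ := y.2.2.2
        rwa [orderOf_ne_two_of_two_fixed hZ hab hodd x.2 hc hd]
      · exact fun e => y.2.2.1 (congrArg Subtype.val e).symm
    refine h1.trans (le_of_eq ?_)
    rw [Nat.card_eq_fintype_card, Fintype.card_subtype_compl, Fintype.card_subtype_eq,
      ← Nat.card_eq_fintype_card, card_involutions_point hZ hab hodd hn c]
  let f : {p : G × G // orderOf p.1 = 2 ∧ orderOf p.2 = 2 ∧ p.1 ≠ p.2 ∧
      ∃ c : Ω, p.1 • c = c ∧ p.2 • c = c} → Σ x : {x : G // orderOf x = 2},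
      {y : G // orderOf y = 2 ∧ x.1 ≠ y ∧ ∃ c : Ω, x.1 • c = c ∧ y • c = c} :=
    fun p => ⟨⟨p.1.1, p.2.1⟩, ⟨p.1.2, p.2.2.1, p.2.2.2.1, p.2.2.2.2⟩⟩
  refine (Nat.card_le_card_of_injective f fun p q e =>
    Subtype.ext (congrArg (fun z : Σ x : {x : G // orderOf x = 2},
      {y : G // orderOf y = 2 ∧ x.1 ≠ y ∧ ∃ c : Ω, x.1 • c = c ∧ y • c = c} => (z.1.1, z.2.1)) e)).trans ?_
  rw [Nat.card_sigma]
  refine (Finset.sum_le_sum fun x _ => hcv x).trans ?_
  rw [Finset.sum_const, Finset.card_univ, smul_eq_mul, ← Nat.card_eq_fintype_card]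

/-- Each class carries at most `|G|` pairs of involutions by product. -/
theorem card_pairs_class_le (C : ConjClasses G) :
    Nat.card {p : G × G // orderOf p.1 = 2 ∧ orderOf p.2 = 2 ∧ ConjClasses.mk (p.1 * p.2) = C} ≤
      Nat.card G := by
  classical
  haveI := Fintype.ofFinite G
  obtain ⟨v, rfl⟩ := ConjClasses.exists_rep C
  have h1 : ∀ w : {w : G // IsConj v w},
      Nat.card {p : G × G // orderOf p.1 = 2 ∧ orderOf p.2 = 2 ∧ p.1 * p.2 = w.1} ≤
        Nat.card (Subgroup.centralizer ({v} : Set G)) := by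
    rintro ⟨w, hw⟩
    have hcc : Nat.card (Subgroup.centralizer ({w} : Set G)) =
        Nat.card (Subgroup.centralizer ({v} : Set G)) := by
      have e : {x : G // IsConj v x} ≃ {x : G // IsConj w x} :=
        Equiv.subtypeEquivRight fun x => ⟨hw.symm.trans, hw.trans⟩
      have h := congrArg (· * Nat.card (Subgroup.centralizer ({w} : Set G))) (Nat.card_congr e)
      simp only [card_isConj] at h
      rw [mul_comm (Subgroup.index (Subgroup.centralizer ({w} : Set G))),
        Subgroup.card_mul_index, ← Subgroup.card_mul_index (Subgroup.centralizer ({v} : Set G)),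
        mul_comm] at h
      exact Nat.eq_of_mul_eq_mul_right (Nat.pos_of_ne_zero Subgroup.index_ne_zero_of_finite) h
    rw [← hcc]
    rcases isEmpty_or_nonempty {p : G × G // orderOf p.1 = 2 ∧ orderOf p.2 = 2 ∧ p.1 * p.2 = w}
      with h | ⟨⟨p₀, h01, h02, h03⟩⟩
    · simp
    have hinv : ∀ p : G × G, orderOf p.1 = 2 → orderOf p.2 = 2 → p.1 * p.2 = w →
        p.1 * w * p.1⁻¹ = w⁻¹ := by
      intro p hp1 hp2 hp
      rw [← hp, inv_eq_of_mul_eq_one_right (show p.1 * p.1 = 1 by rw [← pow_two, ← hp1, pow_orderOf_eq_one]),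
        mul_inv_rev, inv_eq_of_mul_eq_one_right (show p.2 * p.2 = 1 by rw [← pow_two, ← hp2, pow_orderOf_eq_one]),
        inv_eq_of_mul_eq_one_right (show p.1 * p.1 = 1 by rw [← pow_two, ← hp1, pow_orderOf_eq_one]),
        ← mul_assoc, ← pow_two, ← hp1, pow_orderOf_eq_one, one_mul]
    refine Nat.card_le_card_of_injective (fun p => (⟨p₀.1⁻¹ * p.1.1, ?_⟩ :
      Subgroup.centralizer ({w} : Set G))) fun p q e => ?_
    · rw [Subgroup.mem_centralizer_singleton_iff]
      have ha := hinv p.1 p.2.1 p.2.2.1 p.2.2.2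
      have hb := hinv p₀ h01 h02 h03
      rw [mul_inv_eq_iff_eq_mul] at ha hb
      calc p₀.1⁻¹ * p.1.1 * w = p₀.1⁻¹ * (w⁻¹ * p.1.1) := by rw [mul_assoc, ha]
        _ = p₀.1⁻¹ * w⁻¹ * p.1.1 := (mul_assoc _ _ _).symm
        _ = w * p₀.1⁻¹ * p.1.1 := by
          congr 1
          calc p₀.1⁻¹ * w⁻¹ = (w * p₀.1)⁻¹ := (mul_inv_rev _ _).symm
            _ = w * p₀.1⁻¹ := by
              rw [show w * p₀.1 = p₀.1 * w⁻¹ by
                calc w * p₀.1 = w * (p₀.1 * w) * w⁻¹ := by group
                  _ = w * (w⁻¹ * p₀.1) * w⁻¹ := by rw [hb]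
                  _ = _ := by group]
              group
        _ = w * (p₀.1⁻¹ * p.1.1) := mul_assoc _ _ _
    · have e' : p.1.1 = q.1.1 := mul_left_cancel (congrArg Subtype.val e)
      refine Subtype.ext (Prod.ext e' ?_)
      have := p.2.2.2.trans q.2.2.2.symm
      rw [e'] at this
      exact mul_left_cancel this
  have e : {p : G × G // orderOf p.1 = 2 ∧ orderOf p.2 = 2 ∧ ConjClasses.mk (p.1 * p.2) = ConjClasses.mk v}
      ≃ Σ w : {w : G // IsConj v w},
        {p : G × G // orderOf p.1 = 2 ∧ orderOf p.2 = 2 ∧ p.1 * p.2 = w.1} :=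
    { toFun := fun p => ⟨⟨p.1.1 * p.1.2, (ConjClasses.mk_eq_mk_iff_isConj.1 p.2.2.2).symm⟩,
        ⟨p.1, p.2.1, p.2.2.1, rfl⟩⟩
      invFun := fun z => ⟨z.2.1, z.2.2.1, z.2.2.2.1,
        ConjClasses.mk_eq_mk_iff_isConj.2 (by rw [z.2.2.2.2]; exact z.1.2.symm)⟩
      left_inv := fun _ => rfl
      right_inv := by
        rintro ⟨⟨w, hw⟩, ⟨p, hp1, hp2, hp⟩⟩
        dsimp only at hp
        subst hp
        rfl }
  rw [Nat.card_congr e, Nat.card_sigma]
  refine (Finset.sum_le_sum fun w _ => h1 w).trans ?_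
  rw [Finset.sum_const, Finset.card_univ, smul_eq_mul, ← Nat.card_eq_fintype_card, card_isConj,
    mul_comm, Subgroup.card_mul_index]

theorem le_card_classes_avoiding (hZ : IsZassenhausGroup G Ω) (hab : a ≠ b)
    (hHa : H ≤ stabilizer G a) (hHcard : Nat.card H + 1 = Fintype.card Ω)
    (hHfix : ∀ u ∈ H, u ≠ 1 → ∀ c : Ω, u • c = c → c = a)
    (hodd : Odd (Nat.card (pairStab G a b))) (h e : ℕ) (hh : Fintype.card Ω = h + 1)
    (he : Nat.card (pairStab G a b) = e) (hlt : e < h) :
    e ≤ Nat.card {C : ConjClasses G // ∀ g : G, ConjClasses.mk g = C → g ∉ H} := by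
  classical
  haveI := Fintype.ofFinite G
  set I := Nat.card {x : G // orderOf x = 2} with hI
  have hG : Nat.card G = (h + 1) * h * e := by rw [card_group hZ hab, hh, he, Nat.add_sub_cancel]
  have hinv := card_involutions hZ hab hodd
  rw [← hI, hh, he, Nat.add_sub_cancel] at hinv
  set D := Nat.card {p : G × G // orderOf p.1 = 2 ∧ orderOf p.2 = 2 ∧ p.1 ≠ p.2} with hD
  have hD' : D + I = I * I := by
    rw [hD, hI, ← Nat.card_prod, ← Nat.card_sum]
    exact Nat.card_congr
      { toFun := fun s => Sum.elim (fun p => (⟨p.1.1, p.2.1⟩, ⟨p.1.2, p.2.2.1⟩)) (fun x => (x, x)) s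
        invFun := fun q => if hq : q.1.1 = q.2.1 then Sum.inr q.1
          else Sum.inl ⟨(q.1.1, q.2.1), q.1.2, q.2.2, hq⟩
        left_inv := by
          rintro (⟨⟨x, y⟩, hx, hy, hne⟩ | ⟨x, hx⟩)
          · simp only [Sum.elim_inl]
            exact dif_neg hne
          · simp only [Sum.elim_inr]
            exact dif_pos rfl
        right_inv := by
          rintro ⟨⟨x, hx⟩, ⟨y, hy⟩⟩
          by_cases hq : x = y
          · subst hq; simp
          · simp [hq] }
  set B := Nat.card {p : G × G // orderOf p.1 = 2 ∧ orderOf p.2 = 2 ∧ p.1 ≠ p.2 ∧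
      ∃ c : Ω, p.1 • c = c ∧ p.2 • c = c} with hB
  set k := Nat.card {C : ConjClasses G // ∀ g : G, ConjClasses.mk g = C → g ∉ H} with hk
  have hbound : D ≤ B + k * Nat.card G := by
    let T : {C : ConjClasses G // ∀ g : G, ConjClasses.mk g = C → g ∉ H} → Type _ := fun C =>
      {p : G × G // orderOf p.1 = 2 ∧ orderOf p.2 = 2 ∧ ConjClasses.mk (p.1 * p.2) = C.1}
    have key : ∀ p : {p : G × G // orderOf p.1 = 2 ∧ orderOf p.2 = 2 ∧ p.1 ≠ p.2},
        (∃ c : Ω, p.1.1 • c = c ∧ p.1.2 • c = c) ∨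
          ∀ g : G, ConjClasses.mk g = ConjClasses.mk (p.1.1 * p.1.2) → g ∉ H := by
      rintro ⟨⟨x, y⟩, hx, hy, hne⟩
      by_contra hcon
      push Not at hcon
      obtain ⟨hcom, u, hu, huH⟩ := hcon
      obtain ⟨g, hg⟩ := isConj_iff.1 (ConjClasses.mk_eq_mk_iff_isConj.1 hu).symm
      have hxx : x * x = 1 := by rw [← pow_two, ← hx, pow_orderOf_eq_one]
      have hyy : y * y = 1 := by rw [← pow_two, ← hy, pow_orderOf_eq_one]
      have hu1 : u ≠ 1 := fun e1 => hne (by
        rw [e1] at hg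
        have h1 := conj_eq_one_iff.1 hg
        exact (eq_inv_of_mul_eq_one_left h1).trans (inv_eq_of_mul_eq_one_right hyy))
      set x' := g * x * g⁻¹ with hx'
      set y' := g * y * g⁻¹ with hy'
      have hxy' : x' * y' = u := by rw [← hg, hx', hy']; group
      have hxx' : x' * x' = 1 := by
        rw [hx', show g * x * g⁻¹ * (g * x * g⁻¹) = g * (x * x) * g⁻¹ by group, hxx]; group
      have hyy' : y' * y' = 1 := by
        rw [hy', show g * y * g⁻¹ * (g * y * g⁻¹) = g * (y * y) * g⁻¹ by group, hyy]; group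
      have hua : u • a = a := hHa huH
      have hxa : x' • a = a := by
        refine hHfix u huH hu1 _ ?_
        have h1 : u * x' = x' * u⁻¹ := by
          rw [← hxy', mul_inv_rev, inv_eq_of_mul_eq_one_right hxx',
            inv_eq_of_mul_eq_one_right hyy', mul_assoc]
        rw [← mul_smul, h1, mul_smul, inv_smul_eq_iff.2 hua.symm]
      have hya : y' • a = a := by
        have : y' = x' * u := by rw [← hxy', ← mul_assoc, hxx', one_mul]
        rw [this, mul_smul, hua, hxa]
      refine hcom (g⁻¹ • a) ?_ ?_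
      · rw [eq_inv_smul_iff, ← mul_smul, ← mul_smul]
        exact hxa
      · rw [eq_inv_smul_iff, ← mul_smul, ← mul_smul]
        exact hya
    have hle : D ≤ B + Nat.card (Σ C, T C) := by
      rw [hD, hB, ← Nat.card_sum]
      refine Nat.card_le_card_of_injective (fun p => if hp : ∃ c : Ω, p.1.1 • c = c ∧ p.1.2 • c = c
        then Sum.inl ⟨p.1, p.2.1, p.2.2.1, p.2.2.2, hp⟩
        else Sum.inr ⟨⟨ConjClasses.mk (p.1.1 * p.1.2), (key p).resolve_left hp⟩,
          ⟨p.1, p.2.1, p.2.2.1, rfl⟩⟩) fun p q hpq => ?_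
      apply Subtype.ext
      have := congrArg (Sum.elim (fun s => (s.1 : G × G)) (fun s : Σ C, T C => (s.2.1 : G × G))) hpq
      simp only at this
      split_ifs at this <;> simpa using this
    refine hle.trans (Nat.add_le_add_left ?_ B)
    rw [Nat.card_sigma]
    refine (Finset.sum_le_sum fun C _ => card_pairs_class_le C.1).trans ?_
    simp only [Finset.sum_const, Finset.card_univ, smul_eq_mul, hk, Nat.card_eq_fintype_card, le_refl]
  have he1 : 1 < e := by
    rw [← he, Subgroup.one_lt_card_iff_ne_bot]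
    exact pairStab_ne_bot hZ hab
  rw [hG] at hbound
  by_contra hcon
  have hk1 : k + 1 ≤ e := by omega
  rcases Nat.mod_two_eq_zero_or_one (h + 1) with hm | hm
  · -- fixed-point-free involutions
    rw [hm, Nat.sub_zero] at hinv
    have hI' : I = h * e := Nat.eq_of_mul_eq_mul_right (show 0 < h + 1 by omega) (hinv.trans (by ring))
    have hB0 : B = 0 := by
      rw [hB, Nat.card_eq_zero]
      left
      constructor
      rintro ⟨p, hp1, -, -, c, hc, -⟩
      have h0 := card_fixed_involution hZ hab hodd hp1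
      rw [hh, hm, Nat.card_eq_zero] at h0
      rcases h0 with h0 | h0
      · exact h0.elim ⟨c, hc⟩
      · exact not_finite {c : Ω // p.1 • c = c}
    rw [hB0, zero_add] at hbound
    have h1 : k * ((h + 1) * h * e) + (h + 1) * h * e ≤ e * ((h + 1) * h * e) := by
      calc _ = (k + 1) * ((h + 1) * h * e) := by ring
        _ ≤ _ := Nat.mul_le_mul_right _ hk1
    rw [hI'] at hD'
    have h2 : e * ((h + 1) * h * e) = h * e * (h * e) + h * (e * e) := by ring
    have h3 : h * (e * e) + h * e < (h + 1) * h * e := by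
      calc h * (e * e) + h * e = h * e * (e + 1) := by ring
        _ < h * e * (h + 1) := Nat.mul_lt_mul_of_pos_left (by omega) (Nat.mul_pos (by omega) (by omega))
        _ = _ := by ring
    omega
  · -- each involution fixes one point
    rw [hm, Nat.add_sub_cancel] at hinv
    have hI' : I = (h + 1) * e := Nat.eq_of_mul_eq_mul_right (show 0 < h by omega) (hinv.trans (by ring))
    have hB' := card_pairs_common_fixed hZ hab hodd (Nat.odd_iff.2 (hh ▸ hm))
    rw [← hB, ← hI, he] at hB'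
    have h1 : k * ((h + 1) * h * e) + (h + 1) * h * e ≤ e * ((h + 1) * h * e) := by
      calc _ = (k + 1) * ((h + 1) * h * e) := by ring
        _ ≤ _ := Nat.mul_le_mul_right _ hk1
    have h2 : I * (e - 1) + I = I * e := by
      rw [← Nat.mul_succ]; congr 1; omega
    have h3 : I * I = e * ((h + 1) * h * e) + I * e := by rw [hI']; ring
    have h4 : 0 < (h + 1) * h * e := Nat.mul_pos (Nat.mul_pos (Nat.succ_pos h) (by omega)) (by omega)
    omega

end CfsgLib.Char.ZassenhausOdd
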