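import Mathlib
import Cfsg.Prelude.Def_LieExceptional

/-!
# TI subgroups of Zassenhaus groups
-/

set_option autoImplicit false
set_option linter.unusedSectionVars false

namespace CfsgLib.Char

open Cfsg MulAction

variable {G Ω : Type*} [Group G] [Finite G] [MulAction G Ω] [Fintype Ω]

theorem zassenhaus_three_le (hZ : IsZassenhausGroup G Ω) : 3 ≤ Fintype.card Ω := by
  obtain ⟨hf, -, -, ⟨g, hg, a, b, hab, ha, hb⟩, -⟩ := hZ
  classical
  by_contra! hlt
  have hu : ({a, b} : Finset Ω) = Finset.univ := Finset.eq_univ_of_card _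
    (le_antisymm (Finset.card_le_univ _) (by rw [Finset.card_pair hab]; omega))
  exact hg (eq_of_smul_eq_smul fun c : Ω => by
    rw [one_smul]
    have := hu ▸ Finset.mem_univ c
    rcases Finset.mem_insert.1 this with rfl | h
    · exact ha
    · rw [Finset.mem_singleton.1 h]; exact hb)

theorem exists_map_pair (hZ : IsZassenhausGroup G Ω) {a b c d : Ω} (hab : a ≠ b) (hcd : c ≠ d) :
    ∃ g : G, g • a = c ∧ g • b = d :=
  (MulAction.is_two_pretransitive_iff.1 hZ.2.1) hab hcd

theorem zassenhaus_two_point_ne_bot (hZ : IsZassenhausGroup G Ω) {a b : Ω} (hab : a ≠ b) :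
    ∃ x ∈ stabilizer G a ⊓ stabilizer G b, x ≠ 1 := by
  obtain ⟨g, hg, c, d, hcd, hc, hd⟩ := hZ.2.2.2.1
  obtain ⟨k, hka, hkb⟩ := exists_map_pair hZ hcd hab
  refine ⟨k * g * k⁻¹, ⟨?_, ?_⟩, fun h => hg (conj_eq_one_iff.1 h)⟩
  · show (k * g * k⁻¹) • a = a
    rw [← hka, ← mul_smul, inv_mul_cancel_right, mul_smul, hc]
  · show (k * g * k⁻¹) • b = b
    rw [← hkb, ← mul_smul, inv_mul_cancel_right, mul_smul, hd]

theorem fixed_eq_or (hZ : IsZassenhausGroup G Ω) {x : G} (hx : x ≠ 1) {a b c : Ω} (hab : a ≠ b)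
    (ha : x • a = a) (hb : x • b = b) (hc : x • c = c) : c = a ∨ c = b := by
  by_contra! h
  exact hx (hZ.2.2.1 x a b c hab h.2.symm h.1.symm ha hb hc)

theorem two_point_normalizer (hZ : IsZassenhausGroup G Ω) {a b : Ω} (hab : a ≠ b) (g : G) :
    g ∈ Subgroup.normalizer ((stabilizer G a ⊓ stabilizer G b : Subgroup G) : Set G) ↔
      (g • a = a ∧ g • b = b) ∨ (g • a = b ∧ g • b = a) := by
  constructor
  · intro hg
    obtain ⟨x, hx, hx1⟩ := zassenhaus_two_point_ne_bot hZ hab
    have hy := (Subgroup.mem_normalizer_iff''.1 hg x).1 hx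
    have hgg : ∀ c : Ω, (g⁻¹ * x * g) • c = c → x • (g • c) = g • c := fun c h => by
      rw [mul_smul, mul_smul, inv_smul_eq_iff] at h; exact h
    have h1 := fixed_eq_or hZ hx1 hab hx.1 hx.2 (hgg a hy.1)
    have h2 := fixed_eq_or hZ hx1 hab hx.1 hx.2 (hgg b hy.2)
    have hne : g • a ≠ g • b := fun h => hab (smul_left_cancel g h)
    rcases h1 with h1 | h1 <;> rcases h2 with h2 | h2
    all_goals first | exact Or.inl ⟨h1, h2⟩ | exact Or.inr ⟨h1, h2⟩ | exact absurd (h1.trans h2.symm) hne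
  · intro hg
    rw [Subgroup.mem_normalizer_iff'']
    intro x
    simp only [Subgroup.mem_inf, mem_stabilizer_iff, mul_smul, inv_smul_eq_iff]
    rcases hg with ⟨ha, hb⟩ | ⟨ha, hb⟩
    · rw [ha, hb]
    · rw [ha, hb]; exact and_comm

theorem two_point_ti (hZ : IsZassenhausGroup G Ω) {a b : Ω} (hab : a ≠ b) :
    (∀ g : G, g ∉ Subgroup.normalizer ((stabilizer G a ⊓ stabilizer G b : Subgroup G) : Set G) →
      ∀ x ∈ (stabilizer G a ⊓ stabilizer G b : Subgroup G),
        g * x * g⁻¹ ∈ (stabilizer G a ⊓ stabilizer G b : Subgroup G) → x = 1) ∧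
    ((stabilizer G a ⊓ stabilizer G b : Subgroup G).subgroupOf
      (Subgroup.normalizer ((stabilizer G a ⊓ stabilizer G b : Subgroup G) : Set G))).index = 2 := by
  refine ⟨fun g hg x hx hy => by_contra fun hx1 => hg ?_, ?_⟩
  · have hgg : ∀ c : Ω, (g * x * g⁻¹) • c = c → x • (g⁻¹ • c) = g⁻¹ • c := fun c h => by
      rwa [mul_smul, mul_smul, smul_eq_iff_eq_inv_smul] at h
    have h1 := fixed_eq_or hZ hx1 hab hx.1 hx.2 (hgg a hy.1)
    have h2 := fixed_eq_or hZ hx1 hab hx.1 hx.2 (hgg b hy.2)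
    have hne : g⁻¹ • a ≠ g⁻¹ • b := fun h => hab (smul_left_cancel g⁻¹ h)
    refine (Subgroup.inv_mem_iff _).1 ((two_point_normalizer hZ hab g⁻¹).2 ?_)
    rcases h1 with h1 | h1 <;> rcases h2 with h2 | h2
    all_goals first | exact Or.inl ⟨h1, h2⟩ | exact Or.inr ⟨h1, h2⟩ | exact absurd (h1.trans h2.symm) hne
  · obtain ⟨s, hsa, hsb⟩ := exists_map_pair hZ hab hab.symm
    refine Subgroup.index_eq_two_iff.2 ⟨⟨s, (two_point_normalizer hZ hab s).2 (Or.inr ⟨hsa, hsb⟩)⟩,
      fun n => ?_⟩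
    have hn := (two_point_normalizer hZ hab n.1).1 n.2
    simp only [Subgroup.mem_subgroupOf, Subgroup.coe_mul, Subgroup.mem_inf, mem_stabilizer_iff,
      mul_smul, hsa, hsb, xor_iff_iff_not]
    rcases hn with ⟨ha, hb⟩ | ⟨ha, hb⟩
    · simp [ha, hb, hab.symm]
    · simp [ha, hb, hab.symm]

theorem point_kernel_ti (hZ : IsZassenhausGroup G Ω) (a : Ω) (H : Subgroup G)
    (hHa : H ≤ stabilizer G a) (hHcard : Nat.card H + 1 = Fintype.card Ω)
    (hHfix : ∀ u ∈ H, u ≠ 1 → ∀ c : Ω, u • c = c → c = a) :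
    (∀ g : G, g ∉ stabilizer G a → ∀ u ∈ H, g * u * g⁻¹ ∈ H → u = 1) ∧
      Subgroup.normalizer (H : Set G) = stabilizer G a := by
  classical
  have hti : ∀ g : G, g ∉ stabilizer G a → ∀ u ∈ H, g * u * g⁻¹ ∈ H → u = 1 := by
    intro g hg u hu hgu
    by_contra hu1
    refine hg (hHfix _ hgu (fun h => hu1 (conj_eq_one_iff.1 h)) _ ?_)
    rw [← mul_smul, inv_mul_cancel_right, mul_smul, hHa hu]
  refine ⟨hti, le_antisymm (fun g hg => ?_) ?_⟩
  · by_contra hga
    have h3 := zassenhaus_three_le hZ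
    obtain ⟨u, hu⟩ : ∃ u : H, u ≠ 1 := by
      haveI : Nontrivial H := Finite.one_lt_card_iff_nontrivial.1 (by omega)
      exact exists_ne 1
    exact hu (Subtype.ext (hti g hga u u.2 ((Subgroup.mem_normalizer_iff.1 hg u).1 u.2)))
  -- the elements of the point stabilizer moving every other point are those of `H`
  have key : ∀ x : stabilizer G a, (∀ c : Ω, x.1 • c = c → c = a) → x.1 ∈ H := by
    obtain ⟨b, hb⟩ : ∃ b, b ≠ a := Fintype.exists_ne_of_one_lt_card (by
      have := zassenhaus_three_le hZ; omega) a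
    set T := stabilizer G a ⊓ stabilizer G b with hT
    haveI := Fintype.ofFinite H
    have hreg : ∀ c, c ≠ a → ∃ u ∈ H, u • b = c := by
      have hinj : Function.Injective (fun u : H => (⟨u.1 • b, fun h => hb (smul_left_cancel u.1
          (h.trans (hHa u.2).symm))⟩ : {c // c ≠ a})) := fun u v h => by
        have h' : u.1 • b = v.1 • b := congrArg Subtype.val h
        by_contra hne
        refine hb (hHfix _ (H.mul_mem (H.inv_mem v.2) u.2) (fun e => hne (Subtype.ext
          (inv_mul_eq_one.1 e).symm)) b ?_)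
        rw [mul_smul, h', inv_smul_smul]
      have hsurj := ((Fintype.bijective_iff_injective_and_card _).2 ⟨hinj, by
        rw [Fintype.card_subtype_compl, Fintype.card_subtype_eq, ← Nat.card_eq_fintype_card]
        omega⟩).2
      intro c hc
      obtain ⟨u, hu⟩ := hsurj ⟨c, hc⟩
      exact ⟨u, u.2, congrArg Subtype.val hu⟩
    choose u hu hub using hreg
    -- a bijection between the stabilizer and `H × T`
    have hsplit : ∀ x : stabilizer G a, ∃ h ∈ H, ∃ t ∈ T, x.1 = h * t := fun x => by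
      have hc : x.1 • b ≠ a := fun h => hb (smul_left_cancel x.1 (h.trans x.2.symm))
      refine ⟨u _ hc, hu _ hc, (u _ hc)⁻¹ * x.1, ⟨?_, ?_⟩, by group⟩
      · exact (stabilizer G a).mul_mem ((stabilizer G a).inv_mem (hHa (hu _ hc))) x.2
      · show ((u _ hc)⁻¹ * x.1) • b = b
        rw [mul_smul, inv_smul_eq_iff, hub]
    -- counting: the conjugates of `T \ 1` fill the stabilizer outside `H`
    let f : (H × {t : T // t ≠ 1}) → {x : stabilizer G a // x.1 ∉ H} := fun p =>
      ⟨⟨p.1.1 * p.2.1.1 * p.1.1⁻¹, (stabilizer G a).mul_mem ((stabilizer G a).mul_mem (hHa p.1.2)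
        p.2.1.2.1) ((stabilizer G a).inv_mem (hHa p.1.2))⟩, fun h => hb (by
          have h2 : (p.2.1 : G) ∈ H := by
            have := H.mul_mem (H.mul_mem (H.inv_mem p.1.2) h) p.1.2
            simpa [mul_assoc] using this
          exact hHfix _ h2 (fun e => p.2.2 (Subtype.ext e)) b p.2.1.2.2)⟩
    have hf : Function.Injective f := by
      rintro ⟨h, t, ht⟩ ⟨h', t', ht'⟩ e
      have e' : h.1 * t.1 * h.1⁻¹ = h'.1 * t'.1 * h'.1⁻¹ := congrArg (fun z => z.1.1) e
      have hfix : h.1 • b = h'.1 • b := by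
        have hne : h.1 * t.1 * h.1⁻¹ ≠ 1 := fun e1 => ht (Subtype.ext (conj_eq_one_iff.1 e1))
        have f1 : (h.1 * t.1 * h.1⁻¹) • (h.1 • b) = h.1 • b := by
          rw [← mul_smul, inv_mul_cancel_right, mul_smul, t.2.2]
        have f2 : (h.1 * t.1 * h.1⁻¹) • (h'.1 • b) = h'.1 • b := by
          rw [e', ← mul_smul, inv_mul_cancel_right, mul_smul, t'.2.2]
        have f3 : (h.1 * t.1 * h.1⁻¹) • a = a :=
          (stabilizer G a).mul_mem ((stabilizer G a).mul_mem (hHa h.2) t.2.1)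
            ((stabilizer G a).inv_mem (hHa h.2))
        have hne' : a ≠ h.1 • b := fun e2 => hb (smul_left_cancel h.1 (e2.symm.trans (hHa h.2).symm))
        rcases fixed_eq_or hZ hne hne' f3 f1 f2 with e3 | e3
        · exact absurd (smul_left_cancel h'.1 (e3.trans (hHa h'.2).symm)) hb
        · exact e3.symm
      have hh : h = h' := by
        by_contra hne
        refine hb (hHfix _ (H.mul_mem (H.inv_mem h'.2) h.2) (fun e1 => hne (Subtype.ext
          (inv_mul_eq_one.1 e1).symm)) b ?_)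
        rw [mul_smul, hfix, inv_smul_smul]
      subst hh
      exact Prod.ext rfl (Subtype.ext (Subtype.ext (by simpa using e')))
    have hcardf : Nat.card {x : stabilizer G a // x.1 ∉ H} ≤ Nat.card (H × {t : T // t ≠ 1}) := by
      haveI := Fintype.ofFinite (stabilizer G a)
      haveI := Fintype.ofFinite H
      haveI := Fintype.ofFinite T
      have h1 : Fintype.card (stabilizer G a) ≤ Fintype.card H * Fintype.card T := by
        rw [← Fintype.card_prod]
        refine Fintype.card_le_of_surjective (fun p : H × T => (⟨p.1.1 * p.2.1,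
          (stabilizer G a).mul_mem (hHa p.1.2) p.2.2.1⟩ : stabilizer G a)) fun x => ?_
        obtain ⟨h, hh, t, ht, he⟩ := hsplit x
        exact ⟨(⟨h, hh⟩, ⟨t, ht⟩), Subtype.ext he.symm⟩
      rw [Nat.card_prod, Nat.card_eq_fintype_card, Nat.card_eq_fintype_card, Nat.card_eq_fintype_card,
        Fintype.card_subtype_compl, Fintype.card_subtype_compl, Fintype.card_subtype_eq]
      have h2 : Fintype.card {x : stabilizer G a // x.1 ∈ H} = Fintype.card H :=
        Fintype.card_congr ⟨fun x => ⟨x.1.1, x.2⟩, fun h => ⟨⟨h.1, hHa h.2⟩, h.2⟩, fun _ => rfl,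
          fun _ => rfl⟩
      rw [h2, Nat.mul_sub, mul_one]
      omega
    have hfb := (Nat.bijective_iff_injective_and_card f).2
      ⟨hf, le_antisymm (Nat.card_le_card_of_injective f hf) hcardf⟩
    intro x hx
    by_contra hxH
    obtain ⟨⟨h, t, ht⟩, e⟩ := hfb.2 ⟨x, hxH⟩
    have e' : h.1 * t.1 * h.1⁻¹ = x.1 := congrArg (fun z => z.1.1) e
    have : h.1 • b = a := hx _ (by rw [← e', ← mul_smul, inv_mul_cancel_right, mul_smul, t.2.2])
    exact hb (smul_left_cancel h.1 (this.trans (hHa h.2).symm))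
  have hstep : ∀ g ∈ stabilizer G a, ∀ u ∈ H, g * u * g⁻¹ ∈ H := by
    intro g hg u hu
    by_cases h1 : u = 1
    · simp [h1]
    refine key ⟨_, (stabilizer G a).mul_mem ((stabilizer G a).mul_mem hg (hHa hu))
      ((stabilizer G a).inv_mem hg)⟩ fun c hc => ?_
    rw [mul_smul, mul_smul, smul_eq_iff_eq_inv_smul] at hc
    have := hHfix u hu h1 _ hc
    rw [inv_smul_eq_iff, hg] at this
    exact this
  intro g hg
  rw [Subgroup.mem_normalizer_iff]
  intro u
  refine ⟨hstep g hg u, fun hu => ?_⟩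
  have := hstep g⁻¹ ((stabilizer G a).inv_mem hg) _ hu
  simpa [mul_assoc] using this

end CfsgLib.Char
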